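import Mathlib

set_option autoImplicit false

/-!
Elements of order three in `SL₃` over the field with four elements.
-/

namespace Cfsg.Agent.Helper8.PSL34

open Matrix Polynomial
open scoped Pointwise

variable {F : Type*} [Field F]

/-! ### the field with four elements -/

section field
variable [Fintype F]

theorem two_eq_zero (hF : Fintype.card F = 4) : (2 : F) = 0 := by
  haveI : CharP F (ringChar F) := ringChar.charP F
  obtain ⟨n, hp, hcard⟩ := FiniteField.card F (ringChar F)
  have h2 : ringChar F = 2 := by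
    rw [hF] at hcard
    have hdvd : ringChar F ∣ 2 ^ 2 := by
      have : (2 : ℕ) ^ 2 = 4 := by norm_num
      rw [this, hcard]
      exact dvd_pow_self _ n.ne_zero
    exact (Nat.prime_dvd_prime_iff_eq hp Nat.prime_two).mp (hp.dvd_of_dvd_pow hdvd)
  have := CharP.cast_eq_zero F (ringChar F)
  rw [h2] at this
  exact_mod_cast this

theorem cube_eq_one (hF : Fintype.card F = 4) {μ : F} (hμ : μ ≠ 0) : μ ^ 3 = 1 := by
  have := FiniteField.pow_card_sub_one_eq_one μ hμ
  rwa [hF] at this

theorem cube_cases (hF : Fintype.card F = 4) (μ : F) : μ ^ 3 = 0 ∨ μ ^ 3 = 1 := by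
  by_cases hμ : μ = 0
  · left
    rw [hμ]
    ring
  · right
    exact cube_eq_one hF hμ

theorem exists_omega (hF : Fintype.card F = 4) :
    ∃ ω : F, ω ≠ 0 ∧ ω ≠ 1 ∧ ω ^ 3 = 1 ∧ ω ^ 2 + ω + 1 = 0 := by
  have h3 : 2 < Fintype.card F := by rw [hF]; norm_num
  obtain ⟨a, b, c, hab, hac, hbc⟩ := Fintype.two_lt_card_iff.mp h3
  obtain ⟨ω, h0, h1⟩ : ∃ ω : F, ω ≠ 0 ∧ ω ≠ 1 := by
    by_cases ha : a ≠ 0 ∧ a ≠ 1
    · exact ⟨a, ha⟩
    · by_cases hb : b ≠ 0 ∧ b ≠ 1
      · exact ⟨b, hb⟩
      · refine ⟨c, ?_, ?_⟩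
        · intro hc
          rw [not_and_or, not_not, not_not] at ha hb
          rcases ha with ha | ha <;> rcases hb with hb | hb
          · exact hab (ha.trans hb.symm)
          · exact hac (ha.trans hc.symm)
          · exact hbc (hb.trans hc.symm)
          · exact hab (ha.trans hb.symm)
        · intro hc
          rw [not_and_or, not_not, not_not] at ha hb
          rcases ha with ha | ha <;> rcases hb with hb | hb
          · exact hab (ha.trans hb.symm)
          · exact hbc (hb.trans hc.symm)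
          · exact hac (ha.trans hc.symm)
          · exact hab (ha.trans hb.symm)
  refine ⟨ω, h0, h1, cube_eq_one hF h0, ?_⟩
  have h := cube_eq_one hF h0
  have hne : ω - 1 ≠ 0 := sub_ne_zero.mpr h1
  apply mul_left_cancel₀ hne
  linear_combination h

end field

/-! ### three by three matrices -/

/-- Cayley–Hamilton in dimension three, with the value of the characteristic polynomial. -/
theorem ch3 (x : Matrix (Fin 3) (Fin 3) F) : ∃ a b : F,
    x ^ 3 + a • x ^ 2 + b • x - x.det • (1 : Matrix (Fin 3) (Fin 3) F) = 0 ∧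
    ∀ t : F, (Matrix.scalar (Fin 3) t - x).det = t ^ 3 + a * t ^ 2 + b * t - x.det := by
  have hdeg : x.charpoly.natDegree = 3 := by
    rw [charpoly_natDegree_eq_dim]
    simp
  have hmon : x.charpoly.coeff 3 = 1 := by
    have := charpoly_monic x
    rw [Monic, leadingCoeff, hdeg] at this
    exact this
  have hc0 : x.charpoly.coeff 0 = -x.det := by
    have := det_eq_sign_charpoly_coeff x
    rw [this, Fintype.card_fin]
    ring
  refine ⟨x.charpoly.coeff 2, x.charpoly.coeff 1, ?_, ?_⟩
  · have := aeval_self_charpoly x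
    rw [aeval_eq_sum_range, hdeg] at this
    simp only [Finset.sum_range_succ, Finset.range_one, Finset.sum_singleton, hmon, hc0, pow_zero,
      pow_one, one_smul] at this
    rw [← this]
    module
  · intro t
    rw [← eval_charpoly, eval_eq_sum_range, hdeg]
    simp only [Finset.sum_range_succ, Finset.range_one, Finset.sum_singleton, hmon, hc0, pow_zero,
      pow_one]
    ring

section four
variable [Fintype F]

/-- a matrix of determinant one killed by `t² + t + 1` is scalar. -/
theorem scalar_of_quadratic (hF : Fintype.card F = 4) (x : Matrix (Fin 3) (Fin 3) F)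
    (h : x ^ 2 = x + 1) (hdet : x.det = 1) : ∃ c : F, x = c • (1 : Matrix (Fin 3) (Fin 3) F) := by
  have h2 := two_eq_zero hF
  obtain ⟨a, b, hch, hev⟩ := ch3 x
  have h3 : x ^ 3 = 1 := by
    rw [pow_succ, h, add_mul, one_mul, ← pow_two, h]
    linear_combination (norm := module) h2 • x
  have hx1 : Matrix.scalar (Fin 3) (1 : F) - x = x ^ 2 := by
    rw [map_one, h]
    linear_combination (norm := module) (-h2) • x
  have he := hev 1
  rw [hx1, det_pow, hdet] at he
  have hab : a + b = 1 := by linear_combination -he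
  rw [h3, h, hdet] at hch
  refine ⟨-a, ?_⟩
  linear_combination (norm := module) hch - hab • x

/-- a matrix of determinant one whose cube is a scalar `l` has `l = 1`. -/
theorem cube_scalar_eq_one (hF : Fintype.card F = 4) (x : Matrix (Fin 3) (Fin 3) F) (l : F)
    (h : x ^ 3 = l • (1 : Matrix (Fin 3) (Fin 3) F)) (hdet : x.det = 1) : l = 1 := by
  by_contra hl
  have hl1 : l - 1 ≠ 0 := sub_ne_zero.mpr hl
  have hl0 : l ≠ 0 := by
    intro h0
    rw [h0, zero_smul] at h
    have := congrArg Matrix.det h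
    rw [det_pow, hdet, det_zero] at this
    norm_num at this
  have hcube : ∀ ν : F, ν ^ 3 ≠ l := by
    intro ν hν
    rcases cube_cases hF ν with h0 | h0
    · exact hl0 (hν.symm.trans h0)
    · exact hl (hν.symm.trans h0)
  -- a scalar matrix is impossible
  have hsc : ∀ ν : F, x ≠ ν • (1 : Matrix (Fin 3) (Fin 3) F) := by
    intro ν hν
    rw [hν, _root_.smul_pow, one_pow] at h
    have := congrFun (congrFun h 0) 0
    simp only [Matrix.smul_apply, one_apply_eq, smul_eq_mul, mul_one] at this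
    exact hcube ν this
  obtain ⟨a, b, hch, -⟩ := ch3 x
  rw [h, hdet] at hch
  have e1 : a • x ^ 2 + b • x + (l - 1) • (1 : Matrix (Fin 3) (Fin 3) F) = 0 := by
    linear_combination (norm := module) hch
  have e2 : (a * l) • (1 : Matrix (Fin 3) (Fin 3) F) + b • x ^ 2 + (l - 1) • x = 0 := by
    have := congrArg (fun z => z * x) e1
    simp only [add_mul, smul_mul_assoc, one_mul, zero_mul] at this
    rw [← pow_succ, h, ← pow_two] at this
    linear_combination (norm := module) this
  have e3 : (a * (l - 1) - b ^ 2) • x =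
      (b * (l - 1) - a ^ 2 * l) • (1 : Matrix (Fin 3) (Fin 3) F) := by
    linear_combination (norm := module) a • e2 - b • e1
  by_cases hk : a * (l - 1) - b ^ 2 = 0
  · rw [hk, zero_smul] at e3
    have h4 : b * (l - 1) - a ^ 2 * l = 0 := by
      have := congrFun (congrFun e3 0) 0
      simp only [Matrix.zero_apply, Matrix.smul_apply, one_apply_eq, smul_eq_mul, mul_one] at this
      exact this.symm
    by_cases ha : a = 0
    · have hb : b = 0 := by
        rw [ha, zero_mul, zero_sub, neg_eq_zero] at hk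
        exact pow_eq_zero_iff (by norm_num) |>.mp hk
      rw [ha, hb, zero_smul, zero_smul, zero_add, zero_add] at e1
      have := congrFun (congrFun e1 0) 0
      simp only [Matrix.zero_apply, Matrix.smul_apply, one_apply_eq, smul_eq_mul, mul_one] at this
      exact hl1 this
    · apply hcube (b / a)
      rw [div_pow]
      rw [div_eq_iff (pow_ne_zero 3 ha)]
      apply mul_left_cancel₀ hl1
      linear_combination (-b * (l - 1)) * hk + (a * (l - 1)) * h4
  · apply hsc ((a * (l - 1) - b ^ 2)⁻¹ * (b * (l - 1) - a ^ 2 * l))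
    rw [mul_smul, ← e3, smul_smul, inv_mul_cancel₀ hk, one_smul]

/-- the eigen-projection attached to a cube root of unity `c`. -/
def proj (c : F) (x : Matrix (Fin 3) (Fin 3) F) : Matrix (Fin 3) (Fin 3) F :=
  c ^ 2 • x ^ 2 + c • x + 1

theorem mul_proj {c : F} (hc : c ^ 3 = 1) {x : Matrix (Fin 3) (Fin 3) F} (hx : x ^ 3 = 1) :
    x * proj c x = c ^ 2 • proj c x := by
  unfold proj
  have h1 : x * (c ^ 2 • x ^ 2 + c • x + 1) = c ^ 2 • x ^ 3 + c • x ^ 2 + x := by
    rw [mul_add, mul_add, mul_smul_comm, mul_smul_comm, mul_one, ← pow_succ', ← pow_two]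
  rw [h1, hx]
  linear_combination (norm := module) (-c * hc) • x ^ 2 + (-hc) • x

theorem proj_ne_zero (hF : Fintype.card F = 4) {c : F} (hc : c ^ 3 = 1)
    {x : Matrix (Fin 3) (Fin 3) F} (hdet : x.det = 1)
    (hns : ∀ ν : F, x ≠ ν • (1 : Matrix (Fin 3) (Fin 3) F)) : proj c x ≠ 0 := by
  intro h0
  have h2 := two_eq_zero hF
  have hc0 : c ≠ 0 := by
    intro h
    rw [h] at hc
    norm_num at hc
  have hq : (c • x) ^ 2 = c • x + 1 := by
    rw [_root_.smul_pow]
    unfold proj at h0
    linear_combination (norm := module) h0 - h2 • (c • x) - h2 • (1 : Matrix (Fin 3) (Fin 3) F)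
  have hd : (c • x).det = 1 := by
    rw [det_smul, Fintype.card_fin, hc, hdet, mul_one]
  obtain ⟨d, hd⟩ := scalar_of_quadratic hF (c • x) hq hd
  apply hns (c⁻¹ * d)
  rw [mul_smul, ← hd, smul_smul, inv_mul_cancel₀ hc0, one_smul]

theorem exists_col_ne_zero {E : Matrix (Fin 3) (Fin 3) F} (hE : E ≠ 0) :
    ∃ j : Fin 3, (fun i => E i j) ≠ 0 := by
  by_contra hcon
  push Not at hcon
  apply hE
  ext i j
  exact congrFun (hcon j) i

theorem mulVec_col {x E : Matrix (Fin 3) (Fin 3) F} {μ : F} (h : x * E = μ • E) (j : Fin 3) :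
    x.mulVec (fun i => E i j) = μ • (fun i => E i j) := by
  funext i
  have := congrFun (congrFun h i) j
  rw [Matrix.mul_apply, Matrix.smul_apply] at this
  exact this

/-- a non-scalar element of determinant one and cube one is diagonalisable inside `SL₃`. -/
theorem exists_diag (hF : Fintype.card F = 4) {ω : F} (hω0 : ω ≠ 0) (hω1 : ω ≠ 1) (hω3 : ω ^ 3 = 1)
    {x : Matrix (Fin 3) (Fin 3) F} (hx : x ^ 3 = 1) (hdet : x.det = 1)
    (hns : ∀ ν : F, x ≠ ν • (1 : Matrix (Fin 3) (Fin 3) F)) :
    ∃ P : Matrix (Fin 3) (Fin 3) F, P.det = 1 ∧ x * P = P * Matrix.diagonal ![1, ω, ω ^ 2] := by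
  -- eigenvectors
  have h13 : (1 : F) ^ 3 = 1 := one_pow 3
  have hω23 : (ω ^ 2) ^ 3 = 1 := by rw [← pow_mul, mul_comm, pow_mul, hω3, one_pow]
  obtain ⟨j0, hv0⟩ := exists_col_ne_zero (proj_ne_zero hF h13 hdet hns)
  obtain ⟨j1, hv1⟩ := exists_col_ne_zero (proj_ne_zero hF hω23 hdet hns)
  obtain ⟨j2, hv2⟩ := exists_col_ne_zero (proj_ne_zero hF hω3 hdet hns)
  have e0 := mulVec_col (mul_proj h13 hx) j0
  have e1 := mulVec_col (mul_proj hω23 hx) j1
  have e2 := mulVec_col (mul_proj hω3 hx) j2
  rw [one_pow] at e0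
  have hω4 : (ω ^ 2) ^ 2 = ω := by
    rw [← pow_mul]
    linear_combination ω * hω3
  rw [hω4] at e1
  set v0 : Fin 3 → F := fun i => proj 1 x i j0 with hv0d
  set v1 : Fin 3 → F := fun i => proj (ω ^ 2) x i j1 with hv1d
  set v2 : Fin 3 → F := fun i => proj ω x i j2 with hv2d
  -- distinct eigenvalues
  have hω2 : ω ^ 2 ≠ 1 := by
    intro h
    apply hω1
    have : ω ^ 3 = ω := by rw [pow_succ, h, one_mul]
    rw [← this, hω3]
  have hωω : ω ^ 2 ≠ ω := by
    intro h
    apply hω1
    have h' : ω * ω = ω * 1 := by rw [mul_one, ← pow_two, h]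
    exact mul_left_cancel₀ hω0 h'
  have hinj : Function.Injective (![1, ω, ω ^ 2] : Fin 3 → F) := by
    intro i j hij
    fin_cases i <;> fin_cases j
    · rfl
    · exact absurd (show (1 : F) = ω from hij).symm hω1
    · exact absurd (show (1 : F) = ω ^ 2 from hij).symm hω2
    · exact absurd (show ω = (1 : F) from hij) hω1
    · rfl
    · exact absurd (show ω = ω ^ 2 from hij).symm hωω
    · exact absurd (show ω ^ 2 = (1 : F) from hij) hω2
    · exact absurd (show ω ^ 2 = ω from hij) hωω
    · rfl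
  have hli : LinearIndependent F (![v0, v1, v2] : Fin 3 → Fin 3 → F) := by
    apply Module.End.eigenvectors_linearIndependent' (Matrix.toLin' x) ![1, ω, ω ^ 2] hinj
    intro i
    fin_cases i
    · refine ⟨?_, hv0⟩
      rw [Module.End.mem_eigenspace_iff]
      exact e0
    · refine ⟨?_, hv1⟩
      rw [Module.End.mem_eigenspace_iff]
      exact e1
    · refine ⟨?_, hv2⟩
      rw [Module.End.mem_eigenspace_iff]
      exact e2
  set P : Matrix (Fin 3) (Fin 3) F := Matrix.of fun i j => (![v0, v1, v2] : Fin 3 → Fin 3 → F) j i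
    with hP
  have hcol : P.col = ![v0, v1, v2] := by
    funext j i
    rfl
  have hPu : IsUnit P := by
    rw [← linearIndependent_cols_iff_isUnit, hcol]
    exact hli
  have hPd : P.det ≠ 0 := by
    rw [isUnit_iff_isUnit_det, isUnit_iff_ne_zero] at hPu
    exact hPu
  have hxP : x * P = P * Matrix.diagonal ![1, ω, ω ^ 2] := by
    ext i j
    rw [Matrix.mul_diagonal, Matrix.mul_apply]
    fin_cases j
    · have := congrFun e0 i
      simp only [Matrix.mulVec, dotProduct, Pi.smul_apply, smul_eq_mul] at this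
      simpa [hP, mul_comm] using this
    · have := congrFun e1 i
      simp only [Matrix.mulVec, dotProduct, Pi.smul_apply, smul_eq_mul] at this
      simpa [hP, mul_comm] using this
    · have := congrFun e2 i
      simp only [Matrix.mulVec, dotProduct, Pi.smul_apply, smul_eq_mul] at this
      simpa [hP, mul_comm] using this
  refine ⟨P * Matrix.diagonal ![P.det⁻¹, 1, 1], ?_, ?_⟩
  · rw [det_mul, det_diagonal, Fin.prod_univ_three]
    simp only [Matrix.cons_val_zero, Matrix.cons_val_one, Matrix.cons_val_two, Matrix.head_cons,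
      Matrix.tail_cons, mul_one]
    exact mul_inv_cancel₀ hPd
  · rw [← mul_assoc, hxP, mul_assoc, mul_assoc, diagonal_mul_diagonal, diagonal_mul_diagonal]
    congr 2
    funext i
    exact mul_comm _ _

/-! ### the projective group -/

theorem conj_smul_zpowers {G : Type*} [Group G] (g a : G) :
    MulAut.conj g • Subgroup.zpowers a = Subgroup.zpowers (g * a * g⁻¹) := by
  rw [Subgroup.pointwise_smul_def]
  exact MonoidHom.map_zpowers (MulAut.conj g).toMonoidHom a

theorem eq_zpowers_of_card_three {G : Type*} [Group G] (X : Subgroup G) (hX : Nat.card X = 3) :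
    ∃ a : G, a ≠ 1 ∧ a ^ 3 = 1 ∧ X = Subgroup.zpowers a := by
  haveI : Fact (Nat.Prime 3) := ⟨Nat.prime_three⟩
  haveI : Finite X := Nat.finite_of_card_ne_zero (by rw [hX]; norm_num)
  have hne : X ≠ ⊥ := by
    intro h
    rw [h, Subgroup.card_bot] at hX
    norm_num at hX
  obtain ⟨a, ha1⟩ := (Subgroup.ne_bot_iff_exists_ne_one).mp hne
  have hle : Subgroup.zpowers (a : G) ≤ X := by
    rw [Subgroup.zpowers_le]
    exact a.2
  have ha1' : (a : G) ≠ 1 := fun h => ha1 (Subtype.ext h)
  have ha3 : (a : G) ^ 3 = 1 := by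
    have := pow_card_eq_one' (G := X) (x := a)
    rw [hX] at this
    exact_mod_cast congrArg Subtype.val this
  have hord : orderOf (a : G) = 3 := orderOf_eq_prime ha3 ha1'
  refine ⟨a, ha1', ha3, ?_⟩
  symm
  apply Subgroup.eq_of_le_of_card_ge hle
  rw [Nat.card_zpowers, hord, hX]

theorem scalar_eq_smul_one (r : F) :
    Matrix.scalar (Fin 3) r = r • (1 : Matrix (Fin 3) (Fin 3) F) := by
  rw [Matrix.smul_one_eq_diagonal]
  rfl

/-- lifting a subgroup of order three of `PSL₃`. -/
theorem exists_lift (hF : Fintype.card F = 4)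
    (X : Subgroup (Matrix.ProjectiveSpecialLinearGroup (Fin 3) F)) (hX : Nat.card X = 3) :
    ∃ x : Matrix.SpecialLinearGroup (Fin 3) F,
      X = Subgroup.zpowers (QuotientGroup.mk x) ∧
      (x : Matrix (Fin 3) (Fin 3) F) ^ 3 = 1 ∧
      ∀ ν : F, (x : Matrix (Fin 3) (Fin 3) F) ≠ ν • (1 : Matrix (Fin 3) (Fin 3) F) := by
  obtain ⟨a, ha1, ha3, hXa⟩ := eq_zpowers_of_card_three X hX
  obtain ⟨x, rfl⟩ := QuotientGroup.mk_surjective a
  refine ⟨x, hXa, ?_, ?_⟩
  · have h1 : x ^ 3 ∈ Subgroup.center (Matrix.SpecialLinearGroup (Fin 3) F) := by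
      rw [← QuotientGroup.eq_one_iff, QuotientGroup.mk_pow]
      exact ha3
    obtain ⟨r, hr, hrx⟩ := Matrix.SpecialLinearGroup.mem_center_iff.mp h1
    rw [Matrix.SpecialLinearGroup.coe_pow, scalar_eq_smul_one] at hrx
    have := cube_scalar_eq_one hF (x : Matrix (Fin 3) (Fin 3) F) r hrx.symm x.2
    rw [← hrx, this, one_smul]
  · intro ν hν
    apply ha1
    rw [QuotientGroup.eq_one_iff, Matrix.SpecialLinearGroup.mem_center_iff]
    refine ⟨ν, ?_, ?_⟩
    · have := x.2
      rw [hν, det_smul, det_one, mul_one] at this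
      exact this
    · rw [scalar_eq_smul_one, hν]

/-- any two subgroups of order three of `PSL₃(4)` are conjugate. -/
theorem conj_of_card_three (hF : Fintype.card F = 4)
    (X Y : Subgroup (Matrix.ProjectiveSpecialLinearGroup (Fin 3) F))
    (hX : Nat.card X = 3) (hY : Nat.card Y = 3) :
    ∃ g : Matrix.ProjectiveSpecialLinearGroup (Fin 3) F, MulAut.conj g • X = Y := by
  obtain ⟨ω, hω0, hω1, hω3, -⟩ := exists_omega hF
  obtain ⟨x, hXx, hx3, hxns⟩ := exists_lift hF X hX
  obtain ⟨y, hYy, hy3, hyns⟩ := exists_lift hF Y hY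
  obtain ⟨P, hPd, hP⟩ := exists_diag hF hω0 hω1 hω3 hx3 x.2 hxns
  obtain ⟨Q, hQd, hQ⟩ := exists_diag hF hω0 hω1 hω3 hy3 y.2 hyns
  set P' : Matrix.SpecialLinearGroup (Fin 3) F := ⟨P, hPd⟩ with hP'
  set Q' : Matrix.SpecialLinearGroup (Fin 3) F := ⟨Q, hQd⟩ with hQ'
  have hdd : (Matrix.diagonal ![1, ω, ω ^ 2] : Matrix (Fin 3) (Fin 3) F).det = 1 := by
    rw [det_diagonal, Fin.prod_univ_three]
    simp only [Matrix.cons_val_zero, Matrix.cons_val_one, Matrix.cons_val_two, Matrix.head_cons,
      Matrix.tail_cons, one_mul]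
    linear_combination hω3
  set d : Matrix.SpecialLinearGroup (Fin 3) F := ⟨Matrix.diagonal ![1, ω, ω ^ 2], hdd⟩ with hd
  have hxP : x * P' = P' * d := by
    apply Subtype.ext
    exact hP
  have hyQ : y * Q' = Q' * d := by
    apply Subtype.ext
    exact hQ
  have hxy : y = (Q' * P'⁻¹) * x * (Q' * P'⁻¹)⁻¹ := by
    have h1 : x = P' * d * P'⁻¹ := by rw [← hxP]; group
    have h2 : y = Q' * d * Q'⁻¹ := by rw [← hyQ]; group
    rw [h2, h1]
    group
  refine ⟨QuotientGroup.mk (Q' * P'⁻¹), ?_⟩
  rw [hXx, hYy, conj_smul_zpowers, hxy]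
  rfl

end four

end Cfsg.Agent.Helper8.PSL34
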