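import Cfsg.Agent.Helper8.PS3Torus
set_option autoImplicit false

/-!
Matrices over a finite field with irreducible characteristic polynomial: a criterion using a
primitive prime divisor, and the order of the image in `PSL_n`.
-/

namespace Cfsg.Agent.Helper8.PSLSing

open Polynomial Matrix
open Cfsg.Agent.Helper8.SemiS Cfsg.Agent.Helper8.PGraph Cfsg.Agent.Helper8.RP
open Cfsg.Agent.Helper8.PS3

variable {F : Type*} [Field F] [Fintype F]

/-- a matrix of order dividing `M`, prime to the characteristic, some power of which has prime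
order `r` a primitive prime divisor of `q ^ n - 1`, has irreducible characteristic polynomial -/
theorem irreducible_charpoly (p : ℕ) [Fact p.Prime] [CharP F p] {n : ℕ}
    (A : Matrix (Fin n) (Fin n) F) (M k r : ℕ) (hr : r.Prime)
    (hprim : ∀ i : ℕ, 0 < i → i < n → ¬ r ∣ Fintype.card F ^ i - 1)
    (hM : k * r = M) (hpM : p.Coprime M) (hAM : A ^ M = 1) (hAk : A ^ k ≠ 1) :
    Irreducible A.charpoly := by
  classical
  have hp : p.Prime := Fact.out
  have hM0 : ((M : ℕ) : F) ≠ 0 := by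
    intro h0
    have h1 := (CharP.cast_eq_zero_iff F p M).mp h0
    have h2 : p ∣ Nat.gcd p M := Nat.dvd_gcd dvd_rfl h1
    rw [hpM] at h2
    exact hp.one_lt.ne' (Nat.dvd_one.mp h2)
  have hsq : Squarefree (X ^ M - C (1 : F)) :=
    PGLr.squarefree_X_pow_sub_C M hM0 1 one_ne_zero
  -- the minimal polynomial
  have h1 : minpoly F A ∣ X ^ M - C (1 : F) := by
    apply minpoly.dvd
    rw [PGLr.aeval_X_pow_sub_C, hAM, one_smul, sub_self]
  have hsqh : Squarefree (minpoly F A) := hsq.squarefree_of_dvd h1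
  have h2 : ¬ minpoly F A ∣ X ^ k - C (1 : F) := by
    rintro ⟨w, hw⟩
    apply hAk
    have h3 : aeval A (X ^ k - C (1 : F)) = 0 := by
      rw [hw, map_mul, minpoly.aeval, zero_mul]
    rw [PGLr.aeval_X_pow_sub_C, one_smul, sub_eq_zero] at h3
    exact h3
  have hh0 : minpoly F A ≠ 0 := minpoly.ne_zero (Matrix.isIntegral A)
  -- split off the gcd
  obtain ⟨h', hh'⟩ := EuclideanDomain.gcd_dvd_left (minpoly F A) (X ^ k - C (1 : F))
  have hh'u : ¬ IsUnit h' := by
    rintro ⟨u, hu⟩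
    apply h2
    have h3 : minpoly F A ∣ EuclideanDomain.gcd (minpoly F A) (X ^ k - C (1 : F)) := by
      refine ⟨(↑u⁻¹ : F[X]), ?_⟩
      conv_rhs => rw [hh', ← hu, mul_assoc, Units.mul_inv, mul_one]
    exact dvd_trans h3 (EuclideanDomain.gcd_dvd_right _ _)
  obtain ⟨h₂, hh₂m, hh₂i, hh₂d⟩ := Polynomial.exists_monic_irreducible_factor h' hh'u
  have hh₂h : h₂ ∣ minpoly F A := by
    rw [hh']
    exact Dvd.dvd.mul_left hh₂d _
  have hh₂k : ¬ h₂ ∣ X ^ k - C (1 : F) := by
    intro h3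
    have h4 : h₂ ∣ EuclideanDomain.gcd (minpoly F A) (X ^ k - C (1 : F)) :=
      EuclideanDomain.dvd_gcd hh₂h h3
    have h5 : h₂ * h₂ ∣ minpoly F A := by
      rw [hh']
      exact mul_dvd_mul h4 hh₂d
    exact hh₂i.not_isUnit (hsqh h₂ h5)
  -- the residue field
  have : Fact (Irreducible h₂) := ⟨hh₂i⟩
  have : Module.Finite F (AdjoinRoot h₂) := hh₂m.finite_adjoinRoot
  have : Finite (AdjoinRoot h₂) := Module.finite_of_finite F
  have : Fintype (AdjoinRoot h₂) := Fintype.ofFinite _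
  have hβM : AdjoinRoot.root h₂ ^ M = 1 := by
    have := (dvd_X_pow_sub_C_iff h₂ M 1).mp (dvd_trans hh₂h h1)
    rw [this, map_one]
  have hβk : AdjoinRoot.root h₂ ^ k ≠ 1 := by
    intro h3
    apply hh₂k
    rw [dvd_X_pow_sub_C_iff, h3, map_one]
  have hord : orderOf (AdjoinRoot.root h₂ ^ k) = r := by
    have : Fact r.Prime := ⟨hr⟩
    apply orderOf_eq_prime
    · rw [← pow_mul, hM, hβM]
    · exact hβk
  have hζ0 : AdjoinRoot.root h₂ ^ k ≠ 0 := by
    intro h0
    have : AdjoinRoot.root h₂ ^ M = 0 := by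
      rw [← hM, pow_mul, h0, zero_pow hr.ne_zero]
    rw [hβM] at this
    exact one_ne_zero this
  have hdvd : r ∣ Fintype.card F ^ h₂.natDegree - 1 := by
    rw [← hord, orderOf_dvd_iff_pow_eq_one, ← card_adjoinRoot h₂ hh₂m, Nat.card_eq_fintype_card]
    exact FiniteField.pow_card_sub_one_eq_one _ hζ0
  have hdeg1 : 0 < h₂.natDegree := hh₂i.natDegree_pos
  have hdeg2 : n ≤ h₂.natDegree := by
    by_contra hlt
    exact hprim _ hdeg1 (by omega) hdvd
  have hchar : h₂ ∣ A.charpoly := dvd_trans hh₂h (Matrix.minpoly_dvd_charpoly A)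
  have hcd : A.charpoly.natDegree = n := by
    rw [Matrix.charpoly_natDegree_eq_dim, Fintype.card_fin]
  have heq : A.charpoly = h₂ := by
    apply Polynomial.eq_of_monic_of_dvd_of_natDegree_le hh₂m (Matrix.charpoly_monic A) hchar
    rw [hcd]
    exact hdeg2
  rw [heq]
  exact hh₂i

end Cfsg.Agent.Helper8.PSLSing
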