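import Cfsg.Agent.Helper8.PSLSingA
set_option autoImplicit false

/-!
The order in `PSL_n(q)` of a matrix with irreducible characteristic polynomial, and the existence
of Singer-type elements.
-/

namespace Cfsg.Agent.Helper8.PSLSing

open Polynomial Matrix
open Cfsg.Agent.Helper8.SemiS Cfsg.Agent.Helper8.PGraph Cfsg.Agent.Helper8.RP
open Cfsg.Agent.Helper8.PS3

variable {F : Type*} [Field F] [Fintype F]

theorem geom_pos (n : ℕ) (hn : 1 ≤ n) :
    0 < (Fintype.card F ^ n - 1) / (Fintype.card F - 1) := by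
  have hq : 2 ≤ Fintype.card F := Fintype.one_lt_card
  apply Nat.div_pos
  · have : Fintype.card F ^ 1 ≤ Fintype.card F ^ n := Nat.pow_le_pow_right (by omega) hn
    rw [pow_one] at this
    omega
  · omega

theorem geom_dvd (n : ℕ) :
    (Fintype.card F ^ n - 1) / (Fintype.card F - 1) ∣ Fintype.card F ^ n - 1 :=
  Nat.div_dvd_of_dvd (by
    have := Nat.sub_dvd_pow_sub_pow (Fintype.card F) 1 n
    rw [one_pow] at this
    exact this)

/-- the order in `PSL_n` of a matrix with irreducible characteristic polynomial -/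
theorem pow_scalar_iff_of_irreducible {n : ℕ} (A : Matrix (Fin n) (Fin n) F) (hdet : A.det = 1)
    (hirr : Irreducible A.charpoly) :
    0 < orderOf (AdjoinRoot.root A.charpoly) ∧
    orderOf (AdjoinRoot.root A.charpoly) ∣ (Fintype.card F ^ n - 1) / (Fintype.card F - 1) ∧
    ∀ j : ℕ, (∃ c : F, A ^ j = c • 1) ↔
      orderOf (AdjoinRoot.root A.charpoly) /
        Nat.gcd (orderOf (AdjoinRoot.root A.charpoly)) (Fintype.card F - 1) ∣ j := by
  have hq : 2 ≤ Fintype.card F := Fintype.one_lt_card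
  have hP1 : A.charpoly.Monic := Matrix.charpoly_monic A
  have hdeg : A.charpoly.natDegree = n := by
    rw [Matrix.charpoly_natDegree_eq_dim, Fintype.card_fin]
  have hn : 1 ≤ n := by
    have := hirr.natDegree_pos
    omega
  have : Fact (Irreducible A.charpoly) := ⟨hirr⟩
  have hS := geom_pos (F := F) n hn
  have hβS : AdjoinRoot.root A.charpoly ^ ((Fintype.card F ^ n - 1) / (Fintype.card F - 1)) = 1 := by
    have h1 := root_pow_norm A.charpoly hP1 hirr
    rw [hdeg] at h1
    rw [h1]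
    have h2 := Matrix.det_eq_sign_charpoly_coeff A
    rw [Fintype.card_fin] at h2
    rw [← h2, hdet, map_one]
  have hβ0 : AdjoinRoot.root A.charpoly ≠ 0 := by
    intro h
    rw [h, zero_pow (by omega)] at hβS
    exact zero_ne_one hβS
  have hpos : 0 < orderOf (AdjoinRoot.root A.charpoly) :=
    orderOf_pos_iff.mpr (isOfFinOrder_iff_pow_eq_one.mpr ⟨_, hS, hβS⟩)
  refine ⟨hpos, orderOf_dvd_of_pow_eq_one hβS, ?_⟩
  intro j
  have e1 : (∃ c : F, A ^ j = c • 1) ↔
      ∃ c : F, AdjoinRoot.root A.charpoly ^ j = AdjoinRoot.of A.charpoly c := by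
    constructor
    · rintro ⟨c, hc⟩
      refine ⟨c, ?_⟩
      rw [pow_eq_smul_one_iff A hirr, dvd_X_pow_sub_C_iff] at hc
      exact hc
    · rintro ⟨c, hc⟩
      refine ⟨c, ?_⟩
      rw [pow_eq_smul_one_iff A hirr, dvd_X_pow_sub_C_iff]
      exact hc
  rw [e1, root_pow_mem_range_iff A.charpoly hβ0, ← orderOf_dvd_iff_pow_eq_one,
    dvd_mul_iff_div_gcd _ _ _ hpos]

/-- Singer-type elements of `PSL_n(q)` -/
theorem exists_singer (p : ℕ) [Fact p.Prime] [CharP F p] (n e : ℕ) (hn : 1 ≤ n) (he : 1 < e)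
    (hord : orderOf ((Fintype.card F : ℕ) : ZMod e) = n)
    (hdvd : e ∣ (Fintype.card F ^ n - 1) / (Fintype.card F - 1)) :
    ∃ x : Matrix.ProjectiveSpecialLinearGroup (Fin n) F,
      orderOf x = e / Nat.gcd e (Fintype.card F - 1) := by
  have hp : p.Prime := Fact.out
  have hq : 2 ≤ Fintype.card F := Fintype.one_lt_card
  have hcop : p.Coprime e := by
    have h1 : e ∣ Fintype.card F ^ n - 1 := dvd_trans hdvd (geom_dvd n)
    obtain ⟨w, hw⟩ := char_dvd_card (F := F) p
    have h2 : p ∣ Fintype.card F ^ n := dvd_trans ⟨w, hw⟩ (dvd_pow_self _ (by omega))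
    have h3 : 0 < Fintype.card F ^ n := by positivity
    rw [Nat.coprime_comm]
    apply Nat.Coprime.coprime_dvd_left h1
    rw [Nat.coprime_comm, hp.coprime_iff_not_dvd]
    intro h4
    have h5 : p ∣ Fintype.card F ^ n - (Fintype.card F ^ n - 1) := Nat.dvd_sub h2 h4
    have h6 : Fintype.card F ^ n - (Fintype.card F ^ n - 1) = 1 := by omega
    rw [h6] at h5
    exact hp.one_lt.ne' (Nat.dvd_one.mp h5)
  obtain ⟨P, hP1, hP2, hP3, hP4⟩ := exists_cyclotomic_factor (F := F) p e he hcop
  have : Fact (Irreducible P) := ⟨hP2⟩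
  have hdeg : P.natDegree = n := by rw [hP3, hord]
  obtain ⟨A, hA⟩ := exists_matrix_charpoly P hP1 n hdeg
  have hirr : Irreducible A.charpoly := by rw [hA]; exact hP2
  have hβS : AdjoinRoot.root P ^ ((Fintype.card F ^ n - 1) / (Fintype.card F - 1)) = 1 := by
    rw [← orderOf_dvd_iff_pow_eq_one, hP4]
    exact hdvd
  have hdet : A.det = 1 := by
    have h1 := root_pow_norm P hP1 hP2
    rw [hdeg, hβS] at h1
    have h2 := Matrix.det_eq_sign_charpoly_coeff A
    rw [Fintype.card_fin, hA] at h2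
    rw [h2]
    apply (AdjoinRoot.of P).injective
    rw [← h1, map_one]
  obtain ⟨_, _, h3⟩ := pow_scalar_iff_of_irreducible A hdet hirr
  apply exists_orderOf_psl n _ A hdet
  intro j
  rw [h3 j, hA, hP4]

end Cfsg.Agent.Helper8.PSLSing
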