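import Mathlib
set_option autoImplicit false

/-!
Arithmetic for elements of order `q ^ m + 1` in `PSL_{2m}(q)`.
-/

namespace Cfsg.Agent.Helper8.PSLSing

/-- parity of the geometric sum -/
theorem geom_mod_two (q : ℕ) (hq : Odd q) (m : ℕ) :
    (∑ i ∈ Finset.range m, q ^ i) % 2 = m % 2 := by
  induction m with
  | zero => simp
  | succ m ih =>
    rw [Finset.sum_range_succ]
    have : q ^ m % 2 = 1 := Nat.odd_iff.mp hq.pow
    omega

/-- the basic facts -/
theorem basic (q m : ℕ) (hq : Odd q) (hq3 : 3 ≤ q) (hm : 1 ≤ m) :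
    ∃ S : ℕ, 0 < S ∧ (q - 1) * S = q ^ m - 1 ∧ S % 2 = m % 2 ∧
      (q ^ (m + m) - 1) / (q - 1) = (q ^ m + 1) * S ∧ Nat.gcd (q ^ m + 1) (q - 1) = 2 ∧
      (Even m → padicValNat 2 S + 1 = padicValNat 2 (q + 1) + padicValNat 2 m) := by
  have hdvd : q - 1 ∣ q ^ m - 1 := by
    have := Nat.sub_dvd_pow_sub_pow q 1 m
    rw [one_pow] at this
    exact this
  have hxpos : q ≤ q ^ m := by
    have : q ^ 1 ≤ q ^ m := Nat.pow_le_pow_right (by omega) hm
    rw [pow_one] at this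
    exact this
  refine ⟨(q ^ m - 1) / (q - 1), ?_, Nat.mul_div_cancel' hdvd, ?_, ?_, ?_, ?_⟩
  · apply Nat.div_pos
    · omega
    · omega
  · rw [← Nat.geomSum_eq (by omega) m]
    exact geom_mod_two q hq m
  · have hQS := Nat.mul_div_cancel' hdvd
    apply Nat.div_eq_of_eq_mul_right (by omega)
    rw [← mul_assoc, mul_comm (q - 1), mul_assoc, hQS, pow_add]
    obtain ⟨y, hy⟩ : ∃ y, q ^ m = y + 1 := ⟨q ^ m - 1, by omega⟩
    rw [hy, Nat.add_sub_cancel]
    have : (y + 1) * (y + 1) = (y + 1 + 1) * y + 1 := by ring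
    omega
  · have hQS := Nat.mul_div_cancel' hdvd
    have e1 : q ^ m + 1 = 2 + (q - 1) * ((q ^ m - 1) / (q - 1)) := by
      rw [hQS]
      omega
    rw [e1, Nat.gcd_add_mul_left_left]
    apply Nat.gcd_eq_left
    obtain ⟨w, hw⟩ := hq
    exact ⟨w, by omega⟩
  · intro hme
    have hQS := Nat.mul_div_cancel' hdvd
    have h2 : ¬ 2 ∣ q := by
      obtain ⟨w, hw⟩ := hq
      omega
    have hlte := padicValNat.pow_two_sub_one (x := q) (n := m) (by omega) h2 (by omega) hme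
    have hS0 : (q ^ m - 1) / (q - 1) ≠ 0 := by
      apply Nat.pos_iff_ne_zero.mp
      apply Nat.div_pos
      · omega
      · omega
    have hQ0 : q - 1 ≠ 0 := by omega
    rw [← hQS, padicValNat.mul hQ0 hS0] at hlte
    omega

/-- one of `q - 1`, `q + 1` is twice an odd number -/
theorem val_one (q : ℕ) (hq : Odd q) (hq3 : 3 ≤ q) :
    padicValNat 2 (q + 1) = 1 ∨ padicValNat 2 (q - 1) = 1 := by
  obtain ⟨t, ht⟩ := hq
  have e1 : q + 1 = 2 * (t + 1) := by omega
  have e2 : q - 1 = 2 * t := by omega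
  have ht0 : t ≠ 0 := by omega
  rw [e1, e2, padicValNat.mul (by omega) (by omega), padicValNat.mul (by omega) ht0,
    padicValNat_self]
  rcases Nat.even_or_odd t with h | h
  · left
    have : ¬ 2 ∣ t + 1 := by
      obtain ⟨w, hw⟩ := h
      omega
    rw [padicValNat.eq_zero_of_not_dvd this]
  · right
    have : ¬ 2 ∣ t := by
      obtain ⟨w, hw⟩ := h
      omega
    rw [padicValNat.eq_zero_of_not_dvd this]

theorem val_double (m : ℕ) (hm : 1 ≤ m) : padicValNat 2 (m + m) = 1 + padicValNat 2 m := by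
  have : m + m = 2 * m := by ring
  rw [this, padicValNat.mul (by omega) (by omega), padicValNat_self]

/-- necessity -/
theorem arith_nec (q m e : ℕ) (hq : Odd q) (hq3 : 3 ≤ q) (hm : 1 ≤ m) (he : 0 < e)
    (hdvd : e ∣ (q ^ (m + m) - 1) / (q - 1)) (hN : e / Nat.gcd e (q - 1) = q ^ m + 1) :
    padicValNat 2 (q - 1) < padicValNat 2 (m + m) := by
  obtain ⟨S, hS0, hQS, hSm, hfull, hgcd, hlte⟩ := basic q m hq hq3 hm
  rw [val_double m hm]
  have hQ0 : q - 1 ≠ 0 := by omega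
  have hc : 0 < Nat.gcd e (q - 1) := Nat.gcd_pos_of_pos_left _ he
  have hec : e = (q ^ m + 1) * Nat.gcd e (q - 1) := by
    rw [← hN]
    exact (Nat.div_mul_cancel (Nat.gcd_dvd_left e (q - 1))).symm
  have h2N : 2 ∣ q ^ m + 1 := by
    rw [← hgcd]
    exact Nat.gcd_dvd_left _ _
  have h2Q : 2 ∣ q - 1 := by
    rw [← hgcd]
    exact Nat.gcd_dvd_right _ _
  have ha1 : 1 ≤ padicValNat 2 (q - 1) := one_le_padicValNat_of_dvd hQ0 h2Q
  -- the full power of two divides the gcd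
  have hac : padicValNat 2 (q - 1) ≤ padicValNat 2 (Nat.gcd e (q - 1)) := by
    by_contra hlt
    have h1 : 2 ^ (padicValNat 2 (Nat.gcd e (q - 1)) + 1) ∣ q - 1 :=
      dvd_trans (pow_dvd_pow 2 (by omega)) pow_padicValNat_dvd
    have h2 : 2 ^ (padicValNat 2 (Nat.gcd e (q - 1)) + 1) ∣ e := by
      rw [pow_succ, mul_comm]
      conv_rhs => rw [hec]
      exact mul_dvd_mul h2N pow_padicValNat_dvd
    have h3 := Nat.dvd_gcd h2 h1
    rw [padicValNat_dvd_iff_le hc.ne'] at h3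
    omega
  have hcS : Nat.gcd e (q - 1) ∣ S := by
    rw [hfull] at hdvd
    rw [hec] at hdvd
    exact Nat.dvd_of_mul_dvd_mul_left (by positivity) hdvd
  have haS : padicValNat 2 (q - 1) ≤ padicValNat 2 S := by
    rw [← padicValNat_dvd_iff_le hS0.ne']
    exact dvd_trans (dvd_trans (pow_dvd_pow 2 hac) pow_padicValNat_dvd) hcS
  have hSe : 2 ∣ S := by
    have h1 : 1 ≤ padicValNat 2 S := by omega
    exact dvd_of_one_le_padicValNat h1
  have hme : Even m := by
    rw [Nat.even_iff]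
    obtain ⟨w, hw⟩ := hSe
    omega
  have h4 := hlte hme
  have hm1 : 1 ≤ padicValNat 2 m := by
    apply one_le_padicValNat_of_dvd (by omega)
    exact even_iff_two_dvd.mp hme
  rcases val_one q hq hq3 with h5 | h5
  · omega
  · omega

/-- sufficiency -/
theorem arith_suff (q m : ℕ) (hq : Odd q) (hq3 : 3 ≤ q) (hm : 1 ≤ m)
    (h : padicValNat 2 (q - 1) < padicValNat 2 (m + m)) :
    (q ^ m + 1) * 2 ^ padicValNat 2 (q - 1) ∣ (q ^ (m + m) - 1) / (q - 1) ∧
      (q ^ m + 1) * 2 ^ padicValNat 2 (q - 1) /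
        Nat.gcd ((q ^ m + 1) * 2 ^ padicValNat 2 (q - 1)) (q - 1) = q ^ m + 1 := by
  obtain ⟨S, hS0, hQS, hSm, hfull, hgcd, hlte⟩ := basic q m hq hq3 hm
  rw [val_double m hm] at h
  have hQ0 : q - 1 ≠ 0 := by omega
  have h2Q : 2 ∣ q - 1 := by
    rw [← hgcd]
    exact Nat.gcd_dvd_right _ _
  have ha1 : 1 ≤ padicValNat 2 (q - 1) := one_le_padicValNat_of_dvd hQ0 h2Q
  have hme : Even m := by
    rw [even_iff_two_dvd]
    apply dvd_of_one_le_padicValNat
    omega
  have h4 := hlte hme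
  have hq1 : 1 ≤ padicValNat 2 (q + 1) := by
    apply one_le_padicValNat_of_dvd (by omega)
    obtain ⟨w, hw⟩ := hq
    exact ⟨w + 1, by omega⟩
  have haS : 2 ^ padicValNat 2 (q - 1) ∣ S := by
    rw [padicValNat_dvd_iff_le hS0.ne']
    omega
  constructor
  · rw [hfull]
    exact mul_dvd_mul_left _ haS
  · obtain ⟨s, hs⟩ := pow_padicValNat_dvd (p := 2) (n := q - 1)
    have hsodd : ¬ 2 ∣ s := by
      rintro ⟨w, hw⟩
      have h1 : 2 ^ (padicValNat 2 (q - 1) + 1) ∣ q - 1 := by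
        refine ⟨w, ?_⟩
        conv_lhs => rw [hs, hw]
        ring
      rw [padicValNat_dvd_iff_le hQ0] at h1
      omega
    have hg1 : Nat.gcd (q ^ m + 1) s = 1 := by
      have h1 : Nat.gcd (q ^ m + 1) s ∣ 2 := by
        rw [← hgcd]
        apply Nat.dvd_gcd (Nat.gcd_dvd_left _ _)
        rw [hs]
        exact Dvd.dvd.mul_left (Nat.gcd_dvd_right _ _) _
      rcases (Nat.dvd_prime Nat.prime_two).mp h1 with h2 | h2
      · exact h2
      · exfalso
        apply hsodd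
        rw [← h2]
        exact Nat.gcd_dvd_right _ _
    have key : ∀ a : ℕ, q - 1 = 2 ^ a * s →
        Nat.gcd ((q ^ m + 1) * 2 ^ a) (q - 1) = 2 ^ a := by
      intro a ha
      rw [ha, mul_comm (q ^ m + 1), Nat.gcd_mul_left, hg1, mul_one]
    have hg : Nat.gcd ((q ^ m + 1) * 2 ^ padicValNat 2 (q - 1)) (q - 1) =
        2 ^ padicValNat 2 (q - 1) := key _ hs
    rw [hg]
    exact Nat.mul_div_cancel _ (by positivity)

end Cfsg.Agent.Helper8.PSLSing
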