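import Cfsg.Agent.Helper8.PSLSingB
import Cfsg.Agent.Helper8.PSLSingC
import Cfsg.Agent.S2904
set_option autoImplicit false

/-!
Elements of order `q ^ m + 1` in `PSL_{2m}(q)`, `q` odd.
-/

namespace Cfsg.Agent.Helper8.PSLSing

open Polynomial Matrix
open Cfsg.Agent.Helper8.SemiS Cfsg.Agent.Helper8.PGraph Cfsg.Agent.Helper8.RP
open Cfsg.Agent.Helper8.PS3

variable {F : Type*} [Field F] [Fintype F]

/-- necessity -/
theorem psl_half_nec (p : ℕ) [Fact p.Prime] [CharP F p] (hodd : Odd (Fintype.card F)) (m : ℕ)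
    (hm : 2 ≤ m) (r : ℕ) (hr : r.Prime)
    (hprim : ∀ i : ℕ, 0 < i → i < m + m → ¬ r ∣ Fintype.card F ^ i - 1)
    (hrN : r ∣ Fintype.card F ^ m + 1)
    (g : Matrix.ProjectiveSpecialLinearGroup (Fin (m + m)) F)
    (hg : orderOf g = Fintype.card F ^ m + 1) :
    padicValNat 2 (Fintype.card F - 1) < padicValNat 2 (m + m) := by
  have hp : p.Prime := Fact.out
  have hq : 2 ≤ Fintype.card F := Fintype.one_lt_card
  have hq3 : 3 ≤ Fintype.card F := by
    obtain ⟨w, hw⟩ := hodd
    omega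
  obtain ⟨A₀, rfl⟩ := QuotientGroup.mk_surjective g
  have hdet : (A₀ : Matrix (Fin (m + m)) (Fin (m + m)) F).det = 1 := A₀.2
  have hpow := psl_pow_eq_one_iff (m + m) A₀
  obtain ⟨c, hc⟩ := (hpow (Fintype.card F ^ m + 1)).mp (by rw [← hg]; exact pow_orderOf_eq_one _)
  have hc0 : c ≠ 0 := by
    rintro rfl
    have h1 := congrArg Matrix.det hc
    have : Nonempty (Fin (m + m)) := ⟨⟨0, by omega⟩⟩
    rw [Matrix.det_pow, hdet, one_pow, zero_smul, Matrix.det_zero] at h1
    exact one_ne_zero h1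
  have hN0 : 0 < Fintype.card F ^ m + 1 := by positivity
  obtain ⟨N', hN'⟩ := hrN
  have hN'0 : 0 < N' := by
    rcases Nat.eq_zero_or_pos N' with h | h
    · rw [h, mul_zero] at hN'
      omega
    · exact h
  have hAM : (A₀ : Matrix (Fin (m + m)) (Fin (m + m)) F) ^
      ((Fintype.card F ^ m + 1) * (Fintype.card F - 1)) = 1 := by
    rw [pow_mul, hc, _root_.smul_pow, one_pow, FiniteField.pow_card_sub_one_eq_one c hc0, one_smul]
  have hr1 : Nat.Coprime r (Fintype.card F - 1) := by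
    rw [hr.coprime_iff_not_dvd]
    have := hprim 1 (by omega) (by omega)
    rw [pow_one] at this
    exact this
  have hAk : (A₀ : Matrix (Fin (m + m)) (Fin (m + m)) F) ^ (N' * (Fintype.card F - 1)) ≠ 1 := by
    intro h1
    obtain ⟨u, _, hu⟩ := Nat.exists_mul_mod_eq_one_of_coprime hr1 (by omega)
    have h2 := Nat.div_add_mod (r * u) (Fintype.card F - 1)
    rw [hu] at h2
    have h3 : ((A₀ : Matrix (Fin (m + m)) (Fin (m + m)) F) ^ N') ^ (r * u) =
        (A₀ : Matrix (Fin (m + m)) (Fin (m + m)) F) ^ N' := by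
      have hB : ((A₀ : Matrix (Fin (m + m)) (Fin (m + m)) F) ^ N') ^ (Fintype.card F - 1) = 1 := by
        rw [← pow_mul]
        exact h1
      rw [← h2, pow_add, pow_one, pow_mul, hB, one_pow, one_mul]
    have h4 : ((A₀ : Matrix (Fin (m + m)) (Fin (m + m)) F) ^ N') ^ (r * u) = (c ^ u) • 1 := by
      rw [pow_mul, ← pow_mul _ N', mul_comm N', ← hN', hc, _root_.smul_pow, one_pow]
    have h5 : (QuotientGroup.mk A₀ : Matrix.ProjectiveSpecialLinearGroup (Fin (m + m)) F) ^ N'
        = 1 := by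
      rw [hpow]
      exact ⟨c ^ u, by rw [← h3, h4]⟩
    have h6 := orderOf_dvd_of_pow_eq_one h5
    rw [hg] at h6
    have h7 := Nat.le_of_dvd hN'0 h6
    have h8 : N' * 2 ≤ r * N' := by
      rw [mul_comm]
      exact Nat.mul_le_mul_right _ hr.two_le
    omega
  have hpM : p.Coprime ((Fintype.card F ^ m + 1) * (Fintype.card F - 1)) := by
    obtain ⟨w, hw⟩ := char_dvd_card (F := F) p
    apply Nat.Coprime.mul_right
    · rw [hp.coprime_iff_not_dvd]
      intro h1
      have h2 : p ∣ Fintype.card F ^ m := dvd_trans ⟨w, hw⟩ (dvd_pow_self _ (by omega))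
      have h3 : p ∣ Fintype.card F ^ m + 1 - Fintype.card F ^ m := Nat.dvd_sub h1 h2
      rw [Nat.add_sub_cancel_left] at h3
      exact hp.one_lt.ne' (Nat.dvd_one.mp h3)
    · rw [hp.coprime_iff_not_dvd]
      intro h1
      have h3 : p ∣ Fintype.card F - (Fintype.card F - 1) := Nat.dvd_sub ⟨w, hw⟩ h1
      have h4 : Fintype.card F - (Fintype.card F - 1) = 1 := by omega
      rw [h4] at h3
      exact hp.one_lt.ne' (Nat.dvd_one.mp h3)
  have hirr := irreducible_charpoly p (A₀ : Matrix (Fin (m + m)) (Fin (m + m)) F)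
    ((Fintype.card F ^ m + 1) * (Fintype.card F - 1)) (N' * (Fintype.card F - 1)) r hr hprim
    (by rw [hN']; ring) hpM hAM hAk
  obtain ⟨hpos, hdvd, hj⟩ := pow_scalar_iff_of_irreducible _ hdet hirr
  have hord : orderOf (QuotientGroup.mk A₀ :
      Matrix.ProjectiveSpecialLinearGroup (Fin (m + m)) F) =
      orderOf (AdjoinRoot.root (A₀ : Matrix (Fin (m + m)) (Fin (m + m)) F).charpoly) /
        Nat.gcd (orderOf (AdjoinRoot.root (A₀ : Matrix (Fin (m + m)) (Fin (m + m)) F).charpoly))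
          (Fintype.card F - 1) := by
    apply Nat.dvd_antisymm
    · rw [orderOf_dvd_iff_pow_eq_one, hpow, hj]
    · rw [← hj, ← hpow]
      exact pow_orderOf_eq_one _
  rw [hg] at hord
  exact arith_nec _ m _ hodd hq3 (by omega) hpos hdvd hord.symm

end Cfsg.Agent.Helper8.PSLSing
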