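import Cfsg.Agent.Helper8.PSLSingD
set_option autoImplicit false

/-!
Elements of order `q ^ m + 1` in `PSL_{2m}(q)`, `q` odd: sufficiency and the criterion.
-/

namespace Cfsg.Agent.Helper8.PSLSing

open Polynomial Matrix
open Cfsg.Agent.Helper8.SemiS Cfsg.Agent.Helper8.PGraph Cfsg.Agent.Helper8.RP
open Cfsg.Agent.Helper8.PS3

variable {F : Type*} [Field F] [Fintype F]

/-- sufficiency -/
theorem psl_half_suff (p : ℕ) [Fact p.Prime] [CharP F p] (hodd : Odd (Fintype.card F)) (m : ℕ)
    (hm : 2 ≤ m) (r : ℕ) (hr : r.Prime)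
    (hprim : ∀ i : ℕ, 0 < i → i < m + m → ¬ r ∣ Fintype.card F ^ i - 1)
    (hrN : r ∣ Fintype.card F ^ m + 1)
    (h : padicValNat 2 (Fintype.card F - 1) < padicValNat 2 (m + m)) :
    ∃ g : Matrix.ProjectiveSpecialLinearGroup (Fin (m + m)) F,
      orderOf g = Fintype.card F ^ m + 1 := by
  have hq : 2 ≤ Fintype.card F := Fintype.one_lt_card
  have hq3 : 3 ≤ Fintype.card F := by
    obtain ⟨w, hw⟩ := hodd
    omega
  obtain ⟨h1, h2⟩ := arith_suff _ m hodd hq3 (by omega) h
  set e := (Fintype.card F ^ m + 1) * 2 ^ padicValNat 2 (Fintype.card F - 1) with he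
  have hN1 : 1 < Fintype.card F ^ m + 1 := by
    have : 0 < Fintype.card F ^ m := by positivity
    omega
  have he1 : 1 < e := by
    have : 0 < 2 ^ padicValNat 2 (Fintype.card F - 1) := by positivity
    calc 1 < Fintype.card F ^ m + 1 := hN1
      _ = (Fintype.card F ^ m + 1) * 1 := (mul_one _).symm
      _ ≤ e := Nat.mul_le_mul_left _ this
  have hedvd : e ∣ Fintype.card F ^ (m + m) - 1 := dvd_trans h1 (geom_dvd (m + m))
  have hpos : ∀ k : ℕ, 1 ≤ Fintype.card F ^ k := fun k => Nat.one_le_pow _ _ (by omega)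
  have hord : orderOf ((Fintype.card F : ℕ) : ZMod e) = m + m := by
    rw [orderOf_eq_iff (by omega)]
    constructor
    · have e1 : Fintype.card F ^ (m + m) = (Fintype.card F ^ (m + m) - 1) + 1 := by
        have := hpos (m + m)
        omega
      rw [← Nat.cast_pow, e1, Nat.cast_add, (ZMod.natCast_eq_zero_iff _ _).mpr hedvd, zero_add,
        Nat.cast_one]
    · intro k hk hk0 h3
      have h4 : ((Fintype.card F ^ k : ℕ) : ZMod e) = ((1 : ℕ) : ZMod e) := by
        rw [Nat.cast_pow, h3, Nat.cast_one]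
      rw [ZMod.natCast_eq_natCast_iff] at h4
      have h5 := (Nat.modEq_iff_dvd' (hpos k)).mp h4.symm
      exact hprim k hk0 hk (dvd_trans hrN (dvd_trans (Dvd.intro _ rfl) h5))
  obtain ⟨x, hx⟩ := exists_singer p (m + m) e (by omega) he1 hord h1
  exact ⟨x, by rw [hx, h2]⟩

/-- the criterion -/
theorem psl_half_iff (hodd : Odd (Fintype.card F)) (m : ℕ) (hm : 2 ≤ m) :
    (∃ g : Matrix.ProjectiveSpecialLinearGroup (Fin (m + m)) F,
      orderOf g = Fintype.card F ^ m + 1) ↔
      padicValNat 2 (Fintype.card F - 1) < padicValNat 2 (m + m) := by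
  obtain ⟨p, hp⟩ := CharP.exists F
  have hpp : Fact p.Prime := ⟨CharP.char_is_prime F p⟩
  have hq : 2 ≤ Fintype.card F := Fintype.one_lt_card
  have hq3 : 3 ≤ Fintype.card F := by
    obtain ⟨w, hw⟩ := hodd
    omega
  obtain ⟨r, hr, hrd, hprim⟩ := Cfsg.Agent.S2904.result (Fintype.card F) (m + m) (by omega)
    (by omega) (by omega) (by omega)
  have hrN : r ∣ Fintype.card F ^ m + 1 := by
    have e1 : Fintype.card F ^ (m + m) - 1 =
        (Fintype.card F ^ m - 1) * (Fintype.card F ^ m + 1) := by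
      rw [pow_add]
      obtain ⟨y, hy⟩ : ∃ y, Fintype.card F ^ m = y + 1 :=
        ⟨Fintype.card F ^ m - 1, by
          have := Nat.one_le_pow m (Fintype.card F) (by omega)
          omega⟩
      rw [hy, Nat.add_sub_cancel]
      have : (y + 1) * (y + 1) = y * (y + 1 + 1) + 1 := by ring
      omega
    rw [e1] at hrd
    rcases (Nat.Prime.dvd_mul hr).mp hrd with h1 | h1
    · exact absurd h1 (hprim m (by omega) (by omega))
    · exact h1
  constructor
  · rintro ⟨g, hg⟩
    exact psl_half_nec p hodd m hm r hr hprim hrN g hg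
  · intro h
    exact psl_half_suff p hodd m hm r hr hprim hrN h

end Cfsg.Agent.Helper8.PSLSing
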