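import Cfsg.Agent.Helper8.PU3E
import Cfsg.Agent.Helper8.PSLSingB
set_option autoImplicit false

/-!
The conjugate reciprocal of a polynomial over the field with `q ^ 2` elements, and unitary
matrices.
-/

namespace Cfsg.Agent.Helper8.PSUSing

open Polynomial Matrix Cfsg Cfsg.Agent.Helper8.GUOrder Cfsg.Agent.Helper8.SUCenter
  Cfsg.Agent.Helper8.AutSU Cfsg.Agent.Helper8.PS3 Cfsg.Agent.Helper8.PGraph
  Cfsg.Agent.Helper8.PU3

variable {K : Type*} [Field K] [Fintype K] {q : ℕ} [hF : Fact (Fintype.card K = q ^ 2)]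

/-- the conjugate reciprocal polynomial -/
noncomputable def sig (P : K[X]) : K[X] := (P.map (frobq K q)).reverse

theorem frobq_frobq (x : K) : frobq K q (frobq K q x) = x := by
  rw [frobq_apply, frobq_apply, ← pow_mul, ← sq]
  exact pow_qsq x

theorem frobq_injective : Function.Injective (frobq K q) := (frobq K q).injective

theorem map_map_frobq (P : K[X]) : (P.map (frobq K q)).map (frobq K q) = P := by
  rw [Polynomial.map_map]
  have : (frobq K q).comp (frobq K q) = RingHom.id K := by
    ext x
    exact frobq_frobq x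
  rw [this, Polynomial.map_id]

theorem natDegree_map_frobq (P : K[X]) : (P.map (frobq K q)).natDegree = P.natDegree :=
  Polynomial.natDegree_map_eq_of_injective frobq_injective P

theorem coeff_zero_map_frobq {P : K[X]} (hP : P.coeff 0 ≠ 0) :
    (P.map (frobq K q)).coeff 0 ≠ 0 := by
  rw [Polynomial.coeff_map]
  intro h
  apply hP
  apply frobq_injective (q := q)
  rw [h, map_zero]

theorem sig_eq_reflect (P : K[X]) : sig (q := q) P = reflect P.natDegree (P.map (frobq K q)) := by
  unfold sig Polynomial.reverse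
  rw [natDegree_map_frobq]

theorem sig_natDegree {P : K[X]} (hP : P.coeff 0 ≠ 0) : (sig (q := q) P).natDegree = P.natDegree := by
  unfold sig
  rw [Polynomial.reverse_natDegree, natDegree_map_frobq,
    Polynomial.natTrailingDegree_eq_zero.mpr (Or.inr (coeff_zero_map_frobq hP))]
  rfl

theorem sig_mul (P Q : K[X]) : sig (q := q) (P * Q) = sig (q := q) P * sig (q := q) Q := by
  unfold sig
  rw [Polynomial.map_mul, Polynomial.reverse_mul_of_domain]

theorem sig_sig {P : K[X]} (hP : P.coeff 0 ≠ 0) : sig (q := q) (sig (q := q) P) = P := by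
  rw [sig_eq_reflect (sig P), sig_natDegree hP, sig_eq_reflect P, ← Polynomial.reflect_map,
    map_map_frobq, Polynomial.reflect_reflect]

theorem sig_X_pow_sub_C (j : ℕ) (c : K) (hc : c ≠ 0) :
    sig (q := q) (X ^ j - C c) = C (-(c ^ q)) * (X ^ j - C (c ^ q)⁻¹) := by
  unfold sig
  have hcq : c ^ q ≠ 0 := pow_ne_zero q hc
  rw [Polynomial.map_sub, Polynomial.map_pow, Polynomial.map_X, Polynomial.map_C, frobq_apply,
    sub_eq_add_neg, ← C_neg, Polynomial.reverse_add_C, Polynomial.natDegree_X_pow]
  have h1 : (X ^ j : K[X]).reverse = 1 := by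
    have := Polynomial.reverse_mul_X_pow (1 : K[X]) j
    rw [one_mul] at this
    rw [this]
    have h2 := Polynomial.reverse_C (1 : K)
    rw [map_one] at h2
    exact h2
  rw [h1, mul_sub, ← C_mul, neg_mul, mul_inv_cancel₀ hcq, C_neg, C_neg, map_one]
  ring

/-- the inverse of a unitary matrix -/
theorem unitary_mul_star {n : ℕ} {A : Matrix (Fin n) (Fin n) K} (hU : Aᵀ * A.map (· ^ q) = 1) :
    A * (A.map (frobq K q))ᵀ = 1 := by
  have h1 : (A.map (frobq K q))ᵀ * A = 1 := by
    have := congrArg Matrix.transpose hU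
    rw [Matrix.transpose_mul, Matrix.transpose_transpose, Matrix.transpose_one] at this
    exact this
  exact mul_eq_one_comm.mp h1

theorem map_frobq_sum {n : ℕ} {ι : Type*} (s : Finset ι) (f : ι → Matrix (Fin n) (Fin n) K) :
    (∑ i ∈ s, f i).map (frobq K q) = ∑ i ∈ s, (f i).map (frobq K q) := by
  have := map_sum (frobq K q).mapMatrix f s
  rw [RingHom.mapMatrix_apply] at this
  rw [this]
  rfl

theorem map_frobq_smul_pow {n : ℕ} (c : K) (A : Matrix (Fin n) (Fin n) K) (i : ℕ) :
    (c • A ^ i).map (frobq K q) = frobq K q c • (A.map (frobq K q)) ^ i := by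
  have h2 := map_pow (frobq K q).mapMatrix A i
  rw [RingHom.mapMatrix_apply, RingHom.mapMatrix_apply] at h2
  rw [← h2]
  ext a b
  simp [Matrix.map_apply, Matrix.smul_apply]

/-- evaluating the conjugate reciprocal at a unitary matrix -/
theorem aeval_sig {n : ℕ} {A : Matrix (Fin n) (Fin n) K} (hU : Aᵀ * A.map (· ^ q) = 1)
    (P : K[X]) :
    aeval A (sig (q := q) P) = A ^ P.natDegree * ((aeval A P).map (frobq K q))ᵀ := by
  have hAB := unitary_mul_star hU
  have hBA : (A.map (frobq K q))ᵀ * A = 1 := mul_eq_one_comm.mp hAB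
  have hcomm : Commute A (A.map (frobq K q))ᵀ := by
    rw [Commute, SemiconjBy, hAB, hBA]
  have hpow : ∀ j : ℕ, j ≤ P.natDegree →
      A ^ (P.natDegree - j) = A ^ P.natDegree * ((A.map (frobq K q))ᵀ) ^ j := by
    intro j hj
    have e : P.natDegree = (P.natDegree - j) + j := by omega
    conv_rhs => rw [e, pow_add, mul_assoc, ← hcomm.mul_pow, hAB, one_pow, mul_one]
  rw [sig_eq_reflect, Polynomial.aeval_eq_sum_range' (n := P.natDegree + 1)]
  · rw [Polynomial.aeval_eq_sum_range, map_frobq_sum, Matrix.transpose_sum, Finset.mul_sum]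
    rw [← Finset.sum_range_reflect]
    apply Finset.sum_congr rfl
    intro i hi
    have hi' : i ≤ P.natDegree := by
      have := Finset.mem_range.mp hi
      omega
    have e1 : P.natDegree + 1 - 1 - i = P.natDegree - i := by omega
    rw [e1, Polynomial.coeff_reflect, Polynomial.revAt_le (by omega), Polynomial.coeff_map,
      map_frobq_smul_pow, Matrix.transpose_smul, Matrix.transpose_pow, Matrix.mul_smul,
      ← hpow i hi']
    have e2 : P.natDegree - (P.natDegree - i) = i := by omega
    rw [e2]
  · have := Polynomial.natDegree_reflect_le (N := P.natDegree) (p := P.map (frobq K q))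
    rw [natDegree_map_frobq, max_self] at this
    omega

theorem aeval_sig_eq_zero {n : ℕ} {A : Matrix (Fin n) (Fin n) K} (hU : Aᵀ * A.map (· ^ q) = 1)
    {P : K[X]} (hP : aeval A P = 0) : aeval A (sig (q := q) P) = 0 := by
  rw [aeval_sig hU, hP]
  simp

end Cfsg.Agent.Helper8.PSUSing
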