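import Cfsg.Agent.Helper8.PSUSingC
set_option autoImplicit false

/-!
The order modulo scalars of a unitary matrix some power of which has large prime order.
-/

namespace Cfsg.Agent.Helper8.PSUSing

open Polynomial Matrix Cfsg Cfsg.Agent.Helper8.GUOrder Cfsg.Agent.Helper8.SUCenter
  Cfsg.Agent.Helper8.AutSU Cfsg.Agent.Helper8.PS3 Cfsg.Agent.Helper8.PGraph
  Cfsg.Agent.Helper8.PU3

variable {K : Type*} [Field K] [Fintype K] {q : ℕ} [hF : Fact (Fintype.card K = q ^ 2)]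

/-- divisibility by the conjugate reciprocal -/
theorem sig_dvd_iff {h₁ : K[X]} (hc0 : h₁.coeff 0 ≠ 0) (j : ℕ) (c : K) (hc : c ≠ 0) :
    sig (q := q) h₁ ∣ X ^ j - C c ↔ h₁ ∣ X ^ j - C (c ^ q)⁻¹ := by
  have hcq : c ^ q ≠ 0 := pow_ne_zero q hc
  constructor
  · intro h
    have h1 := sig_dvd_sig (q := q) h
    rw [sig_sig hc0, sig_X_pow_sub_C j c hc] at h1
    exact (IsUnit.dvd_mul_left (Polynomial.isUnit_C.mpr
      (isUnit_iff_ne_zero.mpr (neg_ne_zero.mpr hcq)))).mp h1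
  · intro h
    have h1 := sig_dvd_sig (q := q) h
    rw [sig_X_pow_sub_C j _ (inv_ne_zero hcq)] at h1
    have h2 := (IsUnit.dvd_mul_left (Polynomial.isUnit_C.mpr
      (isUnit_iff_ne_zero.mpr (neg_ne_zero.mpr (pow_ne_zero q (inv_ne_zero hcq)))))).mp h1
    have e : (((c ^ q)⁻¹) ^ q)⁻¹ = c := by
      rw [inv_pow, inv_inv, ← pow_mul, ← sq]
      exact pow_qsq c
    rw [e] at h2
    exact h2

/-- the order modulo scalars -/
theorem unitary_order (p : ℕ) [Fact p.Prime] [CharP K p] (hqodd : Odd q) {m : ℕ} (hm : 1 ≤ m)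
    (A : Matrix (Fin (m + m)) (Fin (m + m)) K) (hU : Aᵀ * A.map (· ^ q) = 1) (hdet : A.det = 1)
    (M k r : ℕ) (hr : r.Prime)
    (hH1 : ∀ i : ℕ, 0 < i → i < m → ¬ r ∣ (q ^ 2) ^ i - 1)
    (hH2 : ∀ i : ℕ, ¬ r ∣ q ^ (2 * i) + q)
    (hM : k * r = M) (hpM : p.Coprime M) (hAM : A ^ M = 1) (hAk : A ^ k ≠ 1) :
    ∃ e : ℕ, 0 < e ∧ e ∣ (q ^ (m + m) - 1) / (q + 1) ∧
      ∀ j : ℕ, (∃ c : K, A ^ j = c • 1) ↔ e / Nat.gcd e (q + 1) ∣ j := by
  have hq2 : 2 ≤ q := two_le_q' (K := K)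
  obtain ⟨h₁, hmon, hirr, hdeg, hdvdM, hcop, ⟨v, hv0, hmin⟩, hχ⟩ :=
    minpoly_structure p A hU M k r hr hH1 hH2 hM hpM hAM hAk
  have hk0 : k ≠ 0 := by
    rintro rfl
    exact hAk (pow_zero A)
  have hM0 : M ≠ 0 := by
    rw [← hM]
    exact mul_ne_zero hk0 hr.ne_zero
  have : Fact (Irreducible h₁) := ⟨hirr⟩
  have hc0 : h₁.coeff 0 ≠ 0 := coeff_zero_ne_zero_of_dvd hM0 hdvdM
  have hβM : AdjoinRoot.root h₁ ^ M = 1 := by
    have := (dvd_X_pow_sub_C_iff h₁ M 1).mp hdvdM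
    rw [this, map_one]
  have hβ0 : AdjoinRoot.root h₁ ≠ 0 := by
    intro h0
    rw [h0, zero_pow hM0] at hβM
    exact zero_ne_one hβM
  have hpos : 0 < orderOf (AdjoinRoot.root h₁) :=
    orderOf_pos_iff.mpr (isOfFinOrder_iff_pow_eq_one.mpr ⟨M, Nat.pos_of_ne_zero hM0, hβM⟩)
  have hvu : IsUnit (C v : K[X]) := Polynomial.isUnit_C.mpr (isUnit_iff_ne_zero.mpr hv0)
  -- scalar powers and divisibility
  have hA : ∀ (j : ℕ) (c : K), A ^ j = c • 1 ↔
      (h₁ ∣ X ^ j - C c ∧ sig (q := q) h₁ ∣ X ^ j - C c) := by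
    intro j c
    constructor
    · intro h
      have h1 : minpoly K A ∣ X ^ j - C c := by
        apply minpoly.dvd
        rw [PGLr.aeval_X_pow_sub_C, h, sub_self]
      rw [hmin] at h1
      have h2 := (IsUnit.mul_left_dvd hvu).mp h1
      exact ⟨dvd_trans (Dvd.intro _ rfl) h2, dvd_trans (Dvd.intro_left _ rfl) h2⟩
    · rintro ⟨h1, h2⟩
      have h3 : minpoly K A ∣ X ^ j - C c := by
        rw [hmin]
        exact (IsUnit.mul_left_dvd hvu).mpr (hcop.mul_dvd h1 h2)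
      obtain ⟨w, hw⟩ := h3
      have h4 : aeval A (X ^ j - C c : K[X]) = 0 := by
        rw [hw, map_mul, minpoly.aeval, zero_mul]
      rw [PGLr.aeval_X_pow_sub_C, sub_eq_zero] at h4
      exact h4
  have hAinv : ∀ (j : ℕ) (c : K), A ^ j = c • 1 → c ≠ 0 := by
    intro j c h hc
    rw [hc, zero_smul] at h
    have h1 : (A ^ j) ^ M = 1 := by
      rw [← pow_mul, mul_comm, pow_mul, hAM, one_pow]
    rw [h, zero_pow hM0] at h1
    have : Nonempty (Fin (m + m)) := ⟨⟨0, by omega⟩⟩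
    exact zero_ne_one h1
  have hqdvd : q + 1 ∣ Fintype.card K - 1 := by
    rw [hF.out]
    refine ⟨q - 1, ?_⟩
    obtain ⟨s, hs⟩ : ∃ s, q = s + 1 := ⟨q - 1, by omega⟩
    rw [hs, Nat.add_sub_cancel]
    have : (s + 1) ^ 2 = (s + 1 + 1) * s + 1 := by ring
    omega
  have hiff : ∀ j : ℕ, (∃ c : K, A ^ j = c • 1) ↔
      AdjoinRoot.root h₁ ^ (j * (q + 1)) = 1 := by
    intro j
    constructor
    · rintro ⟨c, hc⟩
      have hcne := hAinv j c hc
      obtain ⟨h1, h2⟩ := (hA j c).mp hc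
      rw [sig_dvd_iff hc0 j c hcne] at h2
      rw [dvd_X_pow_sub_C_iff] at h1 h2
      have h3 : c = (c ^ q)⁻¹ := (AdjoinRoot.of h₁).injective (by rw [← h1, ← h2])
      have h4 : c ^ (q + 1) = 1 := by
        rw [pow_succ, mul_comm]
        have hcq : c ^ q ≠ 0 := pow_ne_zero q hcne
        field_simp at h3
        exact h3
      rw [pow_mul, h1, ← map_pow, h4, map_one]
    · intro h
      rw [pow_mul] at h
      obtain ⟨c, hc⟩ := mem_range_of_pow_eq_one (F := K) (K := AdjoinRoot h₁) (q + 1) (by omega)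
        hqdvd _ h
      have hc1 : c ^ (q + 1) = 1 := by
        apply (algebraMap K (AdjoinRoot h₁)).injective
        rw [map_pow, hc, h, map_one]
      have hcne : c ≠ 0 := by
        rintro rfl
        rw [zero_pow (by omega)] at hc1
        exact zero_ne_one hc1
      have hcinv : (c ^ q)⁻¹ = c := by
        have hcq : c ^ q ≠ 0 := pow_ne_zero q hcne
        rw [pow_succ] at hc1
        field_simp
        exact hc1.symm
      refine ⟨c, (hA j c).mpr ⟨?_, ?_⟩⟩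
      · rw [dvd_X_pow_sub_C_iff]
        exact hc.symm
      · rw [sig_dvd_iff hc0 j c hcne, hcinv, dvd_X_pow_sub_C_iff]
        exact hc.symm
  refine ⟨orderOf (AdjoinRoot.root h₁), hpos, ?_, ?_⟩
  · -- the determinant condition
    have hnorm := root_pow_norm h₁ hmon hirr
    rw [hF.out, hdeg] at hnorm
    have hdetc := Matrix.det_eq_sign_charpoly_coeff A
    rw [Fintype.card_fin, hdet, Even.neg_one_pow ⟨m, rfl⟩, one_mul, ← hχ, hmin] at hdetc
    have hs0 : (sig (q := q) h₁).coeff 0 = 1 := by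
      unfold sig
      rw [Polynomial.coeff_zero_reverse]
      exact (hmon.map (frobq K q)).leadingCoeff
    rw [Polynomial.mul_coeff_zero, Polynomial.mul_coeff_zero, coeff_C_zero, hs0, mul_one] at hdetc
    have hlc : (sig (q := q) h₁).leadingCoeff = h₁.coeff 0 ^ q := by
      unfold sig
      rw [Polynomial.reverse_leadingCoeff, Polynomial.trailingCoeff,
        Polynomial.natTrailingDegree_eq_zero.mpr (Or.inr (coeff_zero_map_frobq hc0)),
        Polynomial.coeff_map, frobq_apply]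
    have hmonic : (C v * (h₁ * sig (q := q) h₁)).leadingCoeff = 1 := by
      rw [← hmin]
      exact (minpoly.monic (Matrix.isIntegral A)).leadingCoeff
    rw [Polynomial.leadingCoeff_mul, Polynomial.leadingCoeff_mul, Polynomial.leadingCoeff_C,
      hmon.leadingCoeff, one_mul, hlc] at hmonic
    have ha : h₁.coeff 0 ^ q = h₁.coeff 0 := by
      apply mul_left_cancel₀ hv0
      rw [hmonic, ← hdetc]
    have hν : ((-1) ^ m * h₁.coeff 0) ^ q = (-1) ^ m * h₁.coeff 0 := by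
      rw [mul_pow, ha, ← pow_mul, mul_comm m q, pow_mul, Odd.neg_one_pow hqodd]
    have hν0 : (-1) ^ m * h₁.coeff 0 ≠ 0 :=
      mul_ne_zero (pow_ne_zero m (neg_ne_zero.mpr one_ne_zero)) hc0
    have hν1 : ((-1) ^ m * h₁.coeff 0) ^ (q - 1) = 1 := by
      apply mul_right_cancel₀ hν0
      rw [← pow_succ, one_mul]
      have : q - 1 + 1 = q := by omega
      rw [this, hν]
    have hG : (q ^ 2 - 1) * (((q ^ 2) ^ m - 1) / (q ^ 2 - 1)) = (q ^ 2) ^ m - 1 := by
      apply Nat.mul_div_cancel'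
      have := Nat.sub_dvd_pow_sub_pow (q ^ 2) 1 m
      rw [one_pow] at this
      exact this
    have hdiv : (q ^ (m + m) - 1) / (q + 1) = ((q ^ 2) ^ m - 1) / (q ^ 2 - 1) * (q - 1) := by
      generalize ((q ^ 2) ^ m - 1) / (q ^ 2 - 1) = G at hG
      apply Nat.div_eq_of_eq_mul_right (by omega)
      have e1 : q ^ (m + m) = (q ^ 2) ^ m := by
        rw [← pow_mul]
        congr 1
        omega
      have e2 : q ^ 2 - 1 = (q + 1) * (q - 1) := by
        obtain ⟨s, hs⟩ : ∃ s, q = s + 1 := ⟨q - 1, by omega⟩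
        rw [hs, Nat.add_sub_cancel]
        have : (s + 1) ^ 2 = (s + 1 + 1) * s + 1 := by ring
        omega
      rw [e1, ← hG, e2]
      ring
    rw [hdiv, orderOf_dvd_iff_pow_eq_one, pow_mul, hnorm, ← map_pow, hν1, map_one]
  · intro j
    rw [hiff j, ← orderOf_dvd_iff_pow_eq_one, dvd_mul_iff_div_gcd _ _ _ hpos]

end Cfsg.Agent.Helper8.PSUSing
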