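import Cfsg.Agent.Helper8.PSUSingA
set_option autoImplicit false

/-!
Unitary matrices from the hyperbolic pair `diag(M, (M*)⁻¹)`.
-/

namespace Cfsg.Agent.Helper8.PSUSing

open Polynomial Matrix Cfsg Cfsg.Agent.Helper8.GUOrder Cfsg.Agent.Helper8.SUCenter
  Cfsg.Agent.Helper8.AutSU Cfsg.Agent.Helper8.PS3 Cfsg.Agent.Helper8.PGraph
  Cfsg.Agent.Helper8.PU3

variable {K : Type*} [Field K] [Fintype K] {q : ℕ} [hF : Fact (Fintype.card K = q ^ 2)]
variable {ι : Type*} [Fintype ι] [DecidableEq ι]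

/-- the conjugate transpose -/
def st (X : Matrix ι ι K) : Matrix ι ι K := (X.map (frobq K q))ᵀ

theorem st_mul (X Y : Matrix ι ι K) : st (q := q) (X * Y) = st (q := q) Y * st (q := q) X := by
  unfold st
  rw [Matrix.map_mul (f := frobq K q), Matrix.transpose_mul]

theorem st_one : st (q := q) (1 : Matrix ι ι K) = 1 := by
  unfold st
  rw [Matrix.map_one _ (map_zero _) (map_one _), Matrix.transpose_one]

theorem st_st (X : Matrix ι ι K) : st (q := q) (st (q := q) X) = X := by
  unfold st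
  ext i j
  simp only [Matrix.transpose_apply, Matrix.map_apply]
  exact frobq_frobq _

theorem st_pow (X : Matrix ι ι K) (j : ℕ) : st (q := q) (X ^ j) = st (q := q) X ^ j := by
  unfold st
  have h2 := map_pow (frobq K q).mapMatrix X j
  rw [RingHom.mapMatrix_apply, RingHom.mapMatrix_apply] at h2
  rw [h2, Matrix.transpose_pow]

theorem st_smul_one (c : K) : st (q := q) (c • (1 : Matrix ι ι K)) = c ^ q • 1 := by
  unfold st
  ext i j
  simp only [Matrix.transpose_apply, Matrix.map_apply, Matrix.smul_apply, Matrix.one_apply,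
    smul_eq_mul, frobq_apply]
  by_cases h : i = j
  · subst h
    simp
  · rw [if_neg h, if_neg (Ne.symm h), mul_zero, mul_zero, zero_pow]
    have := two_le_q' (K := K) (q := q)
    omega

theorem det_st (X : Matrix ι ι K) : (st (q := q) X).det = X.det ^ q := by
  unfold st
  rw [Matrix.det_transpose]
  have := RingHom.map_det (frobq K q) X
  rw [RingHom.mapMatrix_apply, frobq_apply] at this
  exact this.symm

theorem unitary_iff_st (X : Matrix ι ι K) :
    Xᵀ * X.map (· ^ q) = 1 ↔ st (q := q) X * X = 1 := by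
  unfold st
  constructor
  · intro h
    have := congrArg Matrix.transpose h
    rw [Matrix.transpose_mul, Matrix.transpose_transpose, Matrix.transpose_one] at this
    exact this
  · intro h
    have := congrArg Matrix.transpose h
    rw [Matrix.transpose_mul, Matrix.transpose_transpose, Matrix.transpose_one] at this
    exact this

/-- conjugating into the unitary group -/
theorem unitary_conj (P Pi B J : Matrix ι ι K) (h1 : P * Pi = 1) (hJ : st (q := q) P * P = J)
    (hB : st (q := q) B * J * B = J) :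
    st (q := q) (P * B * Pi) * (P * B * Pi) = 1 := by
  have h2 : st (q := q) Pi * st (q := q) P = 1 := by
    rw [← st_mul, h1, st_one]
  rw [st_mul, st_mul]
  calc st (q := q) Pi * (st (q := q) B * st (q := q) P) * (P * B * Pi)
      = st (q := q) Pi * (st (q := q) B * (st (q := q) P * P) * B) * Pi := by
        simp only [Matrix.mul_assoc]
    _ = st (q := q) Pi * st (q := q) P * (P * Pi) := by
        rw [hJ, hB, ← hJ]
        simp only [Matrix.mul_assoc]
    _ = 1 := by rw [h2, h1, Matrix.one_mul]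

/-- scalar block matrices -/
def sb (m : ℕ) (a b c d : K) : Matrix (Fin m ⊕ Fin m) (Fin m ⊕ Fin m) K :=
  Matrix.fromBlocks (a • 1) (b • 1) (c • 1) (d • 1)

omit [Fintype K] in
theorem sb_mul (m : ℕ) (a b c d a' b' c' d' : K) :
    sb m a b c d * sb m a' b' c' d' =
      sb m (a * a' + b * c') (a * b' + b * d') (c * a' + d * c') (c * b' + d * d') := by
  unfold sb
  rw [Matrix.fromBlocks_multiply]
  simp only [Matrix.smul_mul, Matrix.mul_smul, Matrix.one_mul, smul_smul, ← add_smul]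
  have e1 : a' * a + c' * b = a * a' + b * c' := by ring
  have e2 : b' * a + d' * b = a * b' + b * d' := by ring
  have e3 : a' * c + c' * d = c * a' + d * c' := by ring
  have e4 : b' * c + d' * d = c * b' + d * d' := by ring
  rw [e1, e2, e3, e4]

omit [Fintype K] in
theorem sb_one (m : ℕ) : sb m (1 : K) 0 0 1 = 1 := by
  unfold sb
  rw [one_smul, zero_smul, ← Matrix.fromBlocks_one]

theorem st_fromBlocks {m : ℕ} (A B C D : Matrix (Fin m) (Fin m) K) :
    st (q := q) (Matrix.fromBlocks A B C D) =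
      Matrix.fromBlocks (st (q := q) A) (st (q := q) C) (st (q := q) B) (st (q := q) D) := by
  unfold st
  rw [Matrix.fromBlocks_map, Matrix.fromBlocks_transpose]

theorem st_sb (m : ℕ) (a b c d : K) :
    st (q := q) (sb m a b c d) = sb m (a ^ q) (c ^ q) (b ^ q) (d ^ q) := by
  unfold sb
  rw [st_fromBlocks, st_smul_one, st_smul_one, st_smul_one, st_smul_one]

/-- the hyperbolic Gram matrix -/
def JJ (m : ℕ) : Matrix (Fin m ⊕ Fin m) (Fin m ⊕ Fin m) K := Matrix.fromBlocks 0 1 1 0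

omit [Fintype K] in
theorem sb_JJ (m : ℕ) : sb m (0 : K) 1 1 0 = JJ m := by
  unfold sb JJ
  rw [one_smul, zero_smul]

/-- the change of basis from the hyperbolic to the standard Hermitian form -/
theorem exists_basis_change (hqodd : Odd q) (m : ℕ) :
    ∃ P Pi : Matrix (Fin m ⊕ Fin m) (Fin m ⊕ Fin m) K,
      P * Pi = 1 ∧ st (q := q) P * P = JJ m := by
  have hq2 := two_le_q' (K := K) (q := q)
  obtain ⟨ε, hε⟩ := exists_norm (K := K) hF.out (c := -1) (neg_ne_zero.mpr one_ne_zero)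
    (Odd.neg_one_pow hqodd)
  have hε0 : ε ≠ 0 := by
    rintro rfl
    rw [zero_mul] at hε
    exact (neg_ne_zero.mpr one_ne_zero) hε.symm
  -- two is invertible
  have h2 : (2 : K) ≠ 0 := by
    intro h
    obtain ⟨p, hp⟩ := CharP.exists K
    have hpp : Fact p.Prime := ⟨CharP.char_is_prime K p⟩
    have h3 : ((2 : ℕ) : K) = 0 := by exact_mod_cast h
    have h4 := (CharP.cast_eq_zero_iff K p 2).mp h3
    have h5 : p = 2 := (Nat.prime_dvd_prime_iff_eq hpp.out Nat.prime_two).mp h4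
    subst h5
    have h6 : 2 ∣ Fintype.card K := by
      rw [← CharP.cast_eq_zero_iff K 2]
      exact Nat.cast_card_eq_zero K
    rw [hF.out] at h6
    have h7 : 2 ∣ q := Nat.Prime.dvd_of_dvd_pow Nat.prime_two h6
    obtain ⟨w, hw⟩ := hqodd
    omega
  have h2q : ((2 : K)⁻¹) ^ q = (2 : K)⁻¹ := by
    rw [inv_pow]
    congr 1
    exact_mod_cast natCast_pow_q (K := K) (q := q) 2
  refine ⟨sb m 1 2⁻¹ ε (-(ε * 2⁻¹)), sb m 2⁻¹ (2⁻¹ * ε⁻¹) 1 (-ε⁻¹), ?_, ?_⟩
  · rw [sb_mul, ← sb_one]
    congr 1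
    · field_simp
      norm_num
    · field_simp
      ring
    · field_simp
      ring
    · field_simp
      norm_num
  · rw [st_sb, sb_mul, ← sb_JJ]
    have e1 : (-(ε * 2⁻¹)) ^ q = -(ε ^ q * 2⁻¹) := by
      rw [neg_pow, Odd.neg_one_pow hqodd, mul_pow, h2q]
      ring
    rw [e1, one_pow, h2q]
    have hε' : ε ^ q * ε = -1 := by rw [mul_comm]; exact hε
    congr 1
    · rw [one_mul, hε']
      ring
    · linear_combination (-(2 : K)⁻¹) * hε' + (mul_inv_cancel₀ h2 : (2 : K) * 2⁻¹ = 1)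
    · linear_combination (-(2 : K)⁻¹) * hε' + (mul_inv_cancel₀ h2 : (2 : K) * 2⁻¹ = 1)
    · linear_combination ((2 : K)⁻¹ * (2 : K)⁻¹) * hε'


omit [Fintype K] in
theorem conj_pow' (P Pi B : Matrix ι ι K) (h1 : P * Pi = 1) (j : ℕ) :
    (P * B * Pi) ^ j = P * B ^ j * Pi := by
  have h2 : Pi * P = 1 := mul_eq_one_comm.mp h1
  induction j with
  | zero => rw [pow_zero, pow_zero, Matrix.mul_one, h1]
  | succ j ih =>
    rw [pow_succ, ih, pow_succ]
    calc P * B ^ j * Pi * (P * B * Pi) = P * B ^ j * (Pi * P) * B * Pi := by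
          simp only [Matrix.mul_assoc]
      _ = P * (B ^ j * B) * Pi := by
          rw [h2, Matrix.mul_one]
          simp only [Matrix.mul_assoc]

omit [Fintype K] in
theorem conj_eq_smul_one_iff (P Pi B : Matrix ι ι K) (h1 : P * Pi = 1) (c : K) :
    P * B * Pi = c • 1 ↔ B = c • 1 := by
  have h2 : Pi * P = 1 := mul_eq_one_comm.mp h1
  constructor
  · intro h
    have h3 : Pi * (P * B * Pi) * P = Pi * (c • 1) * P := by rw [h]
    rw [Matrix.mul_smul, Matrix.mul_one, Matrix.smul_mul, h2] at h3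
    rw [← h3]
    calc B = (Pi * P) * B * (Pi * P) := by rw [h2, Matrix.one_mul, Matrix.mul_one]
      _ = Pi * (P * B * Pi) * P := by simp only [Matrix.mul_assoc]
  · intro h
    rw [h, Matrix.mul_smul, Matrix.mul_one, Matrix.smul_mul, h1]

/-- a unitary matrix conjugate to `diag(M, (M*)⁻¹)` -/
theorem exists_unitary_sum (hqodd : Odd q) {m : ℕ} (hm : 1 ≤ m) (M₁ : Matrix (Fin m) (Fin m) K)
    (hM₁ : M₁.det ≠ 0) :
    ∃ A : Matrix (Fin m ⊕ Fin m) (Fin m ⊕ Fin m) K, st (q := q) A * A = 1 ∧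
      A.det = M₁.det * (M₁.det ^ q)⁻¹ ∧
      ∀ (j : ℕ) (c : K), A ^ j = c • 1 ↔ (M₁ ^ j = c • 1 ∧ c * c ^ q = 1) := by
  obtain ⟨P, Pi, hPPi, hJ⟩ := exists_basis_change (K := K) (q := q) hqodd m
  have hPiP : Pi * P = 1 := mul_eq_one_comm.mp hPPi
  have hdetst : (st (q := q) M₁).det ≠ 0 := by
    rw [det_st]
    exact pow_ne_zero q hM₁
  have hunit : IsUnit (st (q := q) M₁).det := isUnit_iff_ne_zero.mpr hdetst
  set M₂ := (st (q := q) M₁)⁻¹ with hM₂
  have h12 : st (q := q) M₁ * M₂ = 1 := Matrix.mul_nonsing_inv _ hunit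
  have h21 : M₂ * st (q := q) M₁ = 1 := Matrix.nonsing_inv_mul _ hunit
  have h21' : st (q := q) M₂ * M₁ = 1 := by
    have := congrArg (st (q := q)) h21
    rw [st_mul, st_st, st_one] at this
    exact mul_eq_one_comm.mp this
  have hB : st (q := q) (Matrix.fromBlocks M₁ 0 0 M₂) * JJ m * Matrix.fromBlocks M₁ 0 0 M₂ =
      JJ m := by
    unfold JJ
    have hz : st (q := q) (0 : Matrix (Fin m) (Fin m) K) = 0 := by
      unfold st
      ext i j
      simp
    rw [st_fromBlocks, hz, Matrix.fromBlocks_multiply, Matrix.fromBlocks_multiply]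
    simp only [Matrix.mul_zero, Matrix.zero_mul, Matrix.mul_one, add_zero, zero_add, h12, h21']
  refine ⟨P * Matrix.fromBlocks M₁ 0 0 M₂ * Pi, unitary_conj P Pi _ (JJ m) hPPi hJ hB, ?_, ?_⟩
  · rw [Matrix.det_mul, Matrix.det_mul, mul_comm, ← mul_assoc, ← Matrix.det_mul, hPiP,
      Matrix.det_one, one_mul, Matrix.det_fromBlocks_zero₂₁, hM₂, Matrix.det_nonsing_inv,
      Ring.inverse_eq_inv', det_st]
  · intro j c
    rw [conj_pow' P Pi _ hPPi, conj_eq_smul_one_iff P Pi _ hPPi, RP.fromBlocks_diag_pow]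
    have e1 : (c • (1 : Matrix (Fin m ⊕ Fin m) (Fin m ⊕ Fin m) K)) =
        Matrix.fromBlocks (c • 1) 0 0 (c • 1) := by
      rw [← Matrix.fromBlocks_one, Matrix.fromBlocks_smul, smul_zero]
    rw [e1, Matrix.fromBlocks_inj]
    have hcomm : Commute M₂ (st (q := q) M₁) := by
      rw [Commute, SemiconjBy, h12, h21]
    constructor
    · rintro ⟨h3, -, -, h4⟩
      refine ⟨h3, ?_⟩
      have h5 : M₂ ^ j * st (q := q) M₁ ^ j = 1 := by
        rw [← hcomm.mul_pow, h21, one_pow]
      rw [← st_pow, h3, st_smul_one, h4, Matrix.smul_mul, Matrix.mul_smul, Matrix.one_mul,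
        smul_smul] at h5
      have h6 := congrFun (congrFun h5 ⟨0, hm⟩) ⟨0, hm⟩
      rw [Matrix.smul_apply, Matrix.one_apply_eq, smul_eq_mul, mul_one] at h6
      exact h6
    · rintro ⟨h3, h4⟩
      refine ⟨h3, rfl, rfl, ?_⟩
      have h5 : M₂ ^ j * st (q := q) M₁ ^ j = 1 := by
        rw [← hcomm.mul_pow, h21, one_pow]
      rw [← st_pow, h3, st_smul_one, Matrix.mul_smul, Matrix.mul_one] at h5
      calc M₂ ^ j = (c * c ^ q) • M₂ ^ j := by rw [h4, one_smul]
        _ = c • (c ^ q • M₂ ^ j) := by rw [smul_smul]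
        _ = c • 1 := by rw [h5]

/-- a unitary matrix conjugate to `diag(M, (M*)⁻¹)`, on `Fin (m + m)` -/
theorem exists_unitary_block (hqodd : Odd q) {m : ℕ} (hm : 1 ≤ m)
    (M₁ : Matrix (Fin m) (Fin m) K) (hM₁ : M₁.det ≠ 0) :
    ∃ A : Matrix (Fin (m + m)) (Fin (m + m)) K, Aᵀ * A.map (· ^ q) = 1 ∧
      A.det = M₁.det * (M₁.det ^ q)⁻¹ ∧
      ∀ (j : ℕ) (c : K), A ^ j = c • 1 ↔ (M₁ ^ j = c • 1 ∧ c * c ^ q = 1) := by
  obtain ⟨A, hA1, hA2, hA3⟩ := exists_unitary_sum (K := K) (q := q) hqodd hm M₁ hM₁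
  refine ⟨Matrix.reindexAlgEquiv K K finSumFinEquiv A, ?_, ?_, ?_⟩
  · rw [unitary_iff_st]
    have e : st (q := q) (Matrix.reindexAlgEquiv K K finSumFinEquiv A) =
        Matrix.reindexAlgEquiv K K finSumFinEquiv (st (q := q) A) := by
      unfold st
      ext i j
      simp [Matrix.coe_reindexAlgEquiv, Matrix.reindex_apply]
    rw [e, ← map_mul, hA1, map_one]
  · rw [Matrix.det_reindexAlgEquiv, hA2]
  · intro j c
    rw [← hA3 j c, ← map_pow]
    constructor
    · intro h
      apply (Matrix.reindexAlgEquiv K K finSumFinEquiv).injective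
      rw [h, map_smul, map_one]
    · intro h
      rw [h, map_smul, map_one]

end Cfsg.Agent.Helper8.PSUSing
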