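import Cfsg.Agent.Helper8.PSUSingD
import Cfsg.Agent.Helper8.PSUSingE
set_option autoImplicit false

/-!
Elements of `PSU_{2m}(q)` whose order is divisible by a suitable large prime: the order formula,
and existence.
-/

namespace Cfsg.Agent.Helper8.PSUSing

open Polynomial Matrix Cfsg Cfsg.Agent.Helper8.GUOrder Cfsg.Agent.Helper8.SUCenter
  Cfsg.Agent.Helper8.AutSU Cfsg.Agent.Helper8.PS3 Cfsg.Agent.Helper8.PGraph
  Cfsg.Agent.Helper8.PU3

variable {K : Type*} [Field K] [Fintype K] {q : ℕ} [hF : Fact (Fintype.card K = q ^ 2)]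

/-- a scalar unitary matrix -/
theorem scalar_unitary {n : ℕ} (hn : 1 ≤ n) (c : K)
    (h : (c • (1 : Matrix (Fin n) (Fin n) K))ᵀ * (c • (1 : Matrix (Fin n) (Fin n) K)).map (· ^ q)
      = 1) : c * c ^ q = 1 := by
  rw [unitary_iff_st, st_smul_one, Matrix.smul_mul, Matrix.mul_smul, Matrix.one_mul, smul_smul] at h
  have h6 := congrFun (congrFun h ⟨0, hn⟩) ⟨0, hn⟩
  rw [Matrix.smul_apply, Matrix.one_apply_eq, smul_eq_mul, mul_one] at h6
  rw [mul_comm]
  exact h6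

/-- powers of a unitary matrix are unitary -/
theorem unitary_pow {n : ℕ} {A : Matrix (Fin n) (Fin n) K} (hU : Aᵀ * A.map (· ^ q) = 1) (j : ℕ) :
    (A ^ j)ᵀ * (A ^ j).map (· ^ q) = 1 := by
  rw [unitary_iff_st] at hU ⊢
  have h2 : A * st (q := q) A = 1 := mul_eq_one_comm.mp hU
  have hcomm : Commute (st (q := q) A) A := by
    rw [Commute, SemiconjBy, hU, h2]
  rw [st_pow, ← hcomm.mul_pow, hU, one_pow]

/-- powers of the root lying in the norm-one scalars -/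
theorem root_pow_iff (P : K[X]) [Fact (Irreducible P)] (j : ℕ) :
    (∃ c : K, AdjoinRoot.root P ^ j = AdjoinRoot.of P c ∧ c * c ^ q = 1) ↔
      AdjoinRoot.root P ^ (j * (q + 1)) = 1 := by
  have hq2 : 2 ≤ q := two_le_q' (K := K)
  have hqdvd : q + 1 ∣ Fintype.card K - 1 := by
    rw [hF.out]
    refine ⟨q - 1, ?_⟩
    obtain ⟨s, hs⟩ : ∃ s, q = s + 1 := ⟨q - 1, by omega⟩
    rw [hs, Nat.add_sub_cancel]
    have : (s + 1) ^ 2 = (s + 1 + 1) * s + 1 := by ring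
    omega
  constructor
  · rintro ⟨c, hc, hc1⟩
    rw [pow_mul, hc, ← map_pow, pow_succ, mul_comm, hc1, map_one]
  · intro h
    rw [pow_mul] at h
    obtain ⟨c, hc⟩ := mem_range_of_pow_eq_one (F := K) (K := AdjoinRoot P) (q + 1) (by omega)
      hqdvd _ h
    refine ⟨c, hc.symm, ?_⟩
    apply (algebraMap K (AdjoinRoot P)).injective
    rw [map_mul, map_pow, hc, ← pow_succ', h, map_one]

theorem geom_identity (hq2 : 2 ≤ q) (m : ℕ) :
    (q ^ (m + m) - 1) / (q + 1) = ((q ^ 2) ^ m - 1) / (q ^ 2 - 1) * (q - 1) := by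
  have hG : (q ^ 2 - 1) * (((q ^ 2) ^ m - 1) / (q ^ 2 - 1)) = (q ^ 2) ^ m - 1 := by
    apply Nat.mul_div_cancel'
    have := Nat.sub_dvd_pow_sub_pow (q ^ 2) 1 m
    rw [one_pow] at this
    exact this
  generalize ((q ^ 2) ^ m - 1) / (q ^ 2 - 1) = G at hG
  apply Nat.div_eq_of_eq_mul_right (by omega)
  have e1 : q ^ (m + m) = (q ^ 2) ^ m := by
    rw [← pow_mul]
    congr 1
    omega
  have e2 : q ^ 2 - 1 = (q + 1) * (q - 1) := by
    obtain ⟨s, hs⟩ : ∃ s, q = s + 1 := ⟨q - 1, by omega⟩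
    rw [hs, Nat.add_sub_cancel]
    have : (s + 1) ^ 2 = (s + 1 + 1) * s + 1 := by ring
    omega
  rw [e1, ← hG, e2]
  ring

theorem char_dvd_q (p : ℕ) [Fact p.Prime] [CharP K p] : p ∣ q := by
  have hp : p.Prime := Fact.out
  have h1 : p ∣ Fintype.card K := char_dvd_card (F := K) p
  rw [hF.out] at h1
  exact hp.dvd_of_dvd_pow h1

/-- the order of an element of `PSU_{2m}(q)` divisible by a suitable prime -/
theorem psu_order_nec (p : ℕ) [Fact p.Prime] [CharP K p] (hqodd : Odd q) {m : ℕ} (hm : 1 ≤ m)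
    (N r : ℕ) (hr : r.Prime)
    (hH1 : ∀ i : ℕ, 0 < i → i < m → ¬ r ∣ (q ^ 2) ^ i - 1)
    (hH2 : ∀ i : ℕ, ¬ r ∣ q ^ (2 * i) + q)
    (hrN : r ∣ N) (hN0 : 0 < N) (hpN : p.Coprime N) (hrq : ¬ r ∣ q + 1)
    (g : PSU (m + m) K q) (hg : orderOf g = N) :
    ∃ e : ℕ, 0 < e ∧ e ∣ (q ^ (m + m) - 1) / (q + 1) ∧ e / Nat.gcd e (q + 1) = N := by
  have hp : p.Prime := Fact.out
  have hq2 : 2 ≤ q := two_le_q' (K := K)
  obtain ⟨A₀, rfl⟩ := QuotientGroup.mk_surjective g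
  have hU : (A₀.1 : Matrix (Fin (m + m)) (Fin (m + m)) K)ᵀ *
      (A₀.1 : Matrix (Fin (m + m)) (Fin (m + m)) K).map (· ^ q) = 1 :=
    (mem_SU_iff hF.out A₀.1).mp A₀.2
  have hdet : (A₀.1 : Matrix (Fin (m + m)) (Fin (m + m)) K).det = 1 := A₀.1.2
  have hpow := psu_pow_eq_one_iff hF.out (m + m) (by omega) A₀
  obtain ⟨c, hc⟩ := (hpow N).mp (by rw [← hg]; exact pow_orderOf_eq_one _)
  have hc1 : c * c ^ q = 1 := by
    apply scalar_unitary (n := m + m) (by omega)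
    rw [← hc]
    exact unitary_pow hU N
  have hc2 : c ^ (q + 1) = 1 := by rw [pow_succ, mul_comm]; exact hc1
  obtain ⟨N', hN'⟩ := hrN
  have hN'0 : 0 < N' := by
    rcases Nat.eq_zero_or_pos N' with h | h
    · rw [h, mul_zero] at hN'
      omega
    · exact h
  have hAM : (A₀.1 : Matrix (Fin (m + m)) (Fin (m + m)) K) ^ (N * (q + 1)) = 1 := by
    rw [pow_mul, hc, _root_.smul_pow, one_pow, hc2, one_smul]
  have hr1 : Nat.Coprime r (q + 1) := by
    rw [hr.coprime_iff_not_dvd]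
    exact hrq
  have hAk : (A₀.1 : Matrix (Fin (m + m)) (Fin (m + m)) K) ^ (N' * (q + 1)) ≠ 1 := by
    intro h1
    obtain ⟨u, _, hu⟩ := Nat.exists_mul_mod_eq_one_of_coprime hr1 (by omega)
    have h2 := Nat.div_add_mod (r * u) (q + 1)
    rw [hu] at h2
    have h3 : ((A₀.1 : Matrix (Fin (m + m)) (Fin (m + m)) K) ^ N') ^ (r * u) =
        (A₀.1 : Matrix (Fin (m + m)) (Fin (m + m)) K) ^ N' := by
      have hB : ((A₀.1 : Matrix (Fin (m + m)) (Fin (m + m)) K) ^ N') ^ (q + 1) = 1 := by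
        rw [← pow_mul]
        exact h1
      rw [← h2, pow_add, pow_one, pow_mul, hB, one_pow, one_mul]
    have h4 : ((A₀.1 : Matrix (Fin (m + m)) (Fin (m + m)) K) ^ N') ^ (r * u) = (c ^ u) • 1 := by
      rw [pow_mul, ← pow_mul _ N', mul_comm N', ← hN', hc, _root_.smul_pow, one_pow]
    have h5 : (QuotientGroup.mk A₀ : PSU (m + m) K q) ^ N' = 1 := by
      rw [hpow]
      exact ⟨c ^ u, by rw [← h3, h4]⟩
    have h6 := orderOf_dvd_of_pow_eq_one h5
    rw [hg] at h6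
    have h7 := Nat.le_of_dvd hN'0 h6
    have h8 : N' * 2 ≤ r * N' := by
      rw [mul_comm]
      exact Nat.mul_le_mul_right _ hr.two_le
    omega
  have hpM : p.Coprime (N * (q + 1)) := by
    apply Nat.Coprime.mul_right hpN
    rw [hp.coprime_iff_not_dvd]
    intro h1
    have h3 : p ∣ q + 1 - q := Nat.dvd_sub h1 (char_dvd_q (K := K) p)
    rw [Nat.add_sub_cancel_left] at h3
    exact hp.one_lt.ne' (Nat.dvd_one.mp h3)
  obtain ⟨e, hpos, hdvd, hj⟩ := unitary_order p hqodd hm _ hU hdet (N * (q + 1)) (N' * (q + 1)) r hr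
    hH1 hH2 (by rw [hN']; ring) hpM hAM hAk
  refine ⟨e, hpos, hdvd, ?_⟩
  rw [← hg]
  apply Nat.dvd_antisymm
  · rw [← hj, ← hpow]
    exact pow_orderOf_eq_one _
  · rw [orderOf_dvd_iff_pow_eq_one, hpow, hj]

/-- existence of elements of `PSU_{2m}(q)` from the hyperbolic torus -/
theorem psu_order_suff (p : ℕ) [Fact p.Prime] [CharP K p] (hqodd : Odd q) {m : ℕ} (hm : 1 ≤ m)
    (e : ℕ) (he : 1 < e) (hord : orderOf (((q ^ 2 : ℕ) : ℕ) : ZMod e) = m)
    (hdvd : e ∣ (q ^ (m + m) - 1) / (q + 1)) :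
    ∃ g : PSU (m + m) K q, orderOf g = e / Nat.gcd e (q + 1) := by
  have hp : p.Prime := Fact.out
  have hq2 : 2 ≤ q := two_le_q' (K := K)
  have hqm : 1 ≤ q ^ (m + m) := Nat.one_le_pow _ _ (by omega)
  have hcop : p.Coprime e := by
    have h1 : e ∣ q ^ (m + m) - 1 := dvd_trans hdvd (Nat.div_dvd_of_dvd (by
      have h2 : q + 1 ∣ q ^ 2 - 1 := by
        refine ⟨q - 1, ?_⟩
        obtain ⟨s, hs⟩ : ∃ s, q = s + 1 := ⟨q - 1, by omega⟩
        rw [hs, Nat.add_sub_cancel]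
        have : (s + 1) ^ 2 = (s + 1 + 1) * s + 1 := by ring
        omega
      have h3 : q ^ 2 - 1 ∣ (q ^ 2) ^ m - 1 := by
        have := Nat.sub_dvd_pow_sub_pow (q ^ 2) 1 m
        rw [one_pow] at this
        exact this
      have h4 : (q ^ 2) ^ m = q ^ (m + m) := by
        rw [← pow_mul]
        congr 1
        omega
      rw [h4] at h3
      exact dvd_trans h2 h3))
    have h2 : p ∣ q ^ (m + m) := dvd_trans (char_dvd_q (K := K) p) (dvd_pow_self _ (by omega))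
    rw [Nat.coprime_comm]
    apply Nat.Coprime.coprime_dvd_left h1
    rw [Nat.coprime_comm, hp.coprime_iff_not_dvd]
    intro h4
    have h5 : p ∣ q ^ (m + m) - (q ^ (m + m) - 1) := Nat.dvd_sub h2 h4
    have h6 : q ^ (m + m) - (q ^ (m + m) - 1) = 1 := by omega
    rw [h6] at h5
    exact hp.one_lt.ne' (Nat.dvd_one.mp h5)
  obtain ⟨P, hP1, hP2, hP3, hP4⟩ := exists_cyclotomic_factor (F := K) p e he hcop
  have : Fact (Irreducible P) := ⟨hP2⟩
  have hdeg : P.natDegree = m := by rw [hP3, hF.out, hord]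
  obtain ⟨M₁, hM₁⟩ := exists_matrix_charpoly P hP1 m hdeg
  have hirr : Irreducible M₁.charpoly := by rw [hM₁]; exact hP2
  have hβe : AdjoinRoot.root P ^ e = 1 := by rw [← hP4]; exact pow_orderOf_eq_one _
  have hβ0 : AdjoinRoot.root P ≠ 0 := by
    intro h
    rw [h, zero_pow (by omega)] at hβe
    exact zero_ne_one hβe
  -- the determinant of `M₁`
  have hnorm := root_pow_norm P hP1 hP2
  rw [hF.out, hdeg] at hnorm
  have hdetM := Matrix.det_eq_sign_charpoly_coeff M₁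
  rw [Fintype.card_fin, hM₁] at hdetM
  rw [← hdetM] at hnorm
  have hν0 : M₁.det ≠ 0 := by
    intro h0
    rw [h0, map_zero] at hnorm
    exact pow_ne_zero _ hβ0 hnorm
  have hν1 : M₁.det ^ (q - 1) = 1 := by
    apply (AdjoinRoot.of P).injective
    rw [map_pow, ← hnorm, ← pow_mul, ← geom_identity hq2 m, map_one,
      ← orderOf_dvd_iff_pow_eq_one, hP4]
    exact hdvd
  have hνq : M₁.det ^ q = M₁.det := by
    have : q = q - 1 + 1 := by omega
    rw [this, pow_succ, hν1, one_mul]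
  obtain ⟨A, hU, hdetA, hA3⟩ := exists_unitary_block (K := K) (q := q) hqodd hm M₁ hν0
  have hdet : A.det = 1 := by
    rw [hdetA, hνq, mul_inv_cancel₀ hν0]
  apply exists_orderOf_psu (m + m) _ (by omega) A hU hdet
  intro j
  have e1 : (∃ c : K, A ^ j = c • 1) ↔
      ∃ c : K, AdjoinRoot.root P ^ j = AdjoinRoot.of P c ∧ c * c ^ q = 1 := by
    constructor
    · rintro ⟨c, hc⟩
      obtain ⟨h1, h2⟩ := (hA3 j c).mp hc
      refine ⟨c, ?_, h2⟩
      rw [pow_eq_smul_one_iff M₁ hirr, hM₁, dvd_X_pow_sub_C_iff] at h1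
      exact h1
    · rintro ⟨c, hc, h2⟩
      refine ⟨c, (hA3 j c).mpr ⟨?_, h2⟩⟩
      rw [pow_eq_smul_one_iff M₁ hirr, hM₁, dvd_X_pow_sub_C_iff]
      exact hc
  rw [e1, root_pow_iff P j, ← orderOf_dvd_iff_pow_eq_one, hP4,
    dvd_mul_iff_div_gcd _ _ _ (by omega)]

end Cfsg.Agent.Helper8.PSUSing
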