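import Mathlib
import Cfsg.Agent.Helper8.SUCenter
import Cfsg.Agent.Helper8.AutSUl
set_option autoImplicit false

/-!
The characteristic polynomial of a `3 × 3` matrix, and of an element of `SU₃(q)`.
-/

namespace Cfsg.Agent.Helper8.PU3

open Polynomial Matrix Cfsg Cfsg.Agent.Helper8.GUOrder Cfsg.Agent.Helper8.SUCenter
  Cfsg.Agent.Helper8.AutSU

theorem trace_adjugate_fin_three {R : Type*} [CommRing R] (A : Matrix (Fin 3) (Fin 3) R) :
    A.adjugate.trace = A 0 0 * A 1 1 - A 0 1 * A 1 0 + (A 0 0 * A 2 2 - A 0 2 * A 2 0)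
      + (A 1 1 * A 2 2 - A 1 2 * A 2 1) := by
  rw [Matrix.adjugate_fin_three, Matrix.trace_fin_three]
  simp
  ring

theorem charpoly_fin_three {R : Type*} [CommRing R] (A : Matrix (Fin 3) (Fin 3) R) :
    A.charpoly = X ^ 3 - C A.trace * X ^ 2 + C A.adjugate.trace * X - C A.det := by
  rw [trace_adjugate_fin_three, Matrix.charpoly, Matrix.det_fin_three, Matrix.det_fin_three,
    Matrix.trace_fin_three]
  simp only [Matrix.charmatrix_apply, Matrix.diagonal_apply_eq, Matrix.diagonal_apply_ne, ne_eq,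
    Fin.reduceEq, not_false_eq_true, map_add, map_sub, map_mul, map_neg, zero_sub]
  ring

variable {K : Type*} [Field K] [Fintype K] {q : ℕ}

/-- for a unitary matrix of determinant one, the trace of the adjugate is the conjugate of the
trace -/
theorem trace_adjugate_of_unitary (hK : Fintype.card K = q ^ 2) (A : Matrix (Fin 3) (Fin 3) K)
    (hU : Aᵀ * A.map (· ^ q) = 1) (hdet : A.det = 1) : A.adjugate.trace = A.trace ^ q := by
  haveI : Fact (Fintype.card K = q ^ 2) := ⟨hK⟩
  have h1 : (A.adjugate)ᵀ * Aᵀ = 1 := by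
    rw [← Matrix.transpose_mul, Matrix.mul_adjugate, hdet, one_smul, Matrix.transpose_one]
  have h2 : A.map (· ^ q) = (A.adjugate)ᵀ := by
    calc A.map (· ^ q) = ((A.adjugate)ᵀ * Aᵀ) * A.map (· ^ q) := by rw [h1, Matrix.one_mul]
      _ = (A.adjugate)ᵀ := by rw [Matrix.mul_assoc, hU, Matrix.mul_one]
  have h3 : (A.map (· ^ q)).trace = A.trace ^ q := by
    have := AddMonoidHom.map_trace (frobq K q).toAddMonoidHom A
    exact this.symm
  rw [← h3, h2, Matrix.trace_transpose]

/-- the characteristic polynomial of an element of `SU₃(q)` -/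
theorem charpoly_SU (hK : Fintype.card K = q ^ 2) (g : SU 3 K q) :
    (g.1 : Matrix (Fin 3) (Fin 3) K).charpoly =
      X ^ 3 - C (g.1 : Matrix (Fin 3) (Fin 3) K).trace * X ^ 2 +
        C ((g.1 : Matrix (Fin 3) (Fin 3) K).trace ^ q) * X - 1 := by
  have hU := (mem_SU_iff hK g.1).mp g.2
  have hdet : (g.1 : Matrix (Fin 3) (Fin 3) K).det = 1 := g.1.2
  rw [charpoly_fin_three, trace_adjugate_of_unitary hK _ hU hdet, hdet, map_one]

end Cfsg.Agent.Helper8.PU3
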