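import Cfsg.Agent.Helper8.PU3A
import Cfsg.Agent.Helper8.PS3Dvd
set_option autoImplicit false

/-!
The polynomials `X³ - tX² + t^q X - 1` over the field with `q²` elements: roots.
-/

namespace Cfsg.Agent.Helper8.PU3

open Polynomial Matrix Cfsg Cfsg.Agent.Helper8.GUOrder Cfsg.Agent.Helper8.SUCenter
  Cfsg.Agent.Helper8.AutSU Cfsg.Agent.Helper8.PS3

variable {K : Type*} [Field K] [Fintype K] {q : ℕ} [hF : Fact (Fintype.card K = q ^ 2)]

/-- the polynomial `X³ - tX² + t^q X - 1` -/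
noncomputable def fpoly (q : ℕ) (t : K) : K[X] := X ^ 3 - C t * X ^ 2 + C (t ^ q) * X - 1

omit [Fintype K] hF in
theorem fpoly_eval (t a : K) : (fpoly q t).eval a = a ^ 3 - t * a ^ 2 + t ^ q * a - 1 := by
  simp [fpoly]

omit [Fintype K] hF in
theorem fpoly_eq (t : K) : fpoly q t = X ^ 3 + (C (-t) * X ^ 2 + C (t ^ q) * X + C (-1)) := by
  rw [fpoly, map_neg, map_neg, map_one]; ring

omit [Fintype K] hF in
theorem fpoly_natDegree (t : K) : (fpoly q t).natDegree = 3 := by
  rw [fpoly_eq, natDegree_add_eq_left_of_degree_lt, natDegree_X_pow]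
  rw [degree_X_pow]
  exact lt_of_le_of_lt degree_quadratic_le (by norm_num)

omit [Fintype K] hF in
theorem fpoly_monic (t : K) : (fpoly q t).Monic := by
  rw [fpoly_eq]
  apply monic_X_pow_add
  apply lt_of_le_of_lt (degree_quadratic_le)
  norm_num

omit [Fintype K] hF in
theorem fpoly_coeff_zero (t : K) : (fpoly q t).coeff 0 = -1 := by
  simp [fpoly]

theorem pow_qsq (a : K) : a ^ (q ^ 2) = a := by
  rw [← hF.out]; exact FiniteField.pow_card a

theorem q_odd (p : ℕ) [Fact p.Prime] [CharP K p] (hp : p ≠ 2) : Odd q := by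
  obtain ⟨n, hp', hn⟩ := FiniteField.card K p
  rcases Nat.even_or_odd q with h | h
  · exfalso
    have h2 : 2 ∣ p ^ (n : ℕ) := by
      rw [← hn, hF.out]
      exact dvd_pow h.two_dvd (by norm_num)
    have h3 : 2 ∣ p := Nat.Prime.dvd_of_dvd_pow Nat.prime_two h2
    exact hp ((Nat.prime_dvd_prime_iff_eq Nat.prime_two hp').mp h3).symm
  · exact h

include hF in
theorem q_pos : 0 < q := by
  rcases Nat.eq_zero_or_pos q with h | h
  · exfalso
    have := hF.out
    rw [h] at this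
    have h1 : 0 < Fintype.card K := Fintype.card_pos
    omega
  · exact h

/-- conjugate roots -/
theorem root_conj (t a : K) (h : a ^ 3 - t * a ^ 2 + t ^ q * a - 1 = 0) :
    ((a ^ q)⁻¹) ^ 3 - t * ((a ^ q)⁻¹) ^ 2 + t ^ q * (a ^ q)⁻¹ - 1 = 0 := by
  have ha : a ≠ 0 := by
    rintro rfl
    simp at h
  have hb : a ^ q ≠ 0 := pow_ne_zero q ha
  have h1 := congrArg (frobq K q) h
  rw [map_sub, map_add, map_sub, map_mul, map_mul, map_pow, map_pow, map_zero, map_one] at h1
  simp only [frobq_apply] at h1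
  rw [bb] at h1
  field_simp
  linear_combination (-1 : K) * h1

omit [Fintype K] hF in
/-- splitting off a root -/
theorem fpoly_factor (t a : K) (h : a ^ 3 - t * a ^ 2 + t ^ q * a - 1 = 0) :
    fpoly q t = (X - C a) * (X ^ 2 - C (t - a) * X + C a⁻¹) := by
  have ha : a ≠ 0 := by
    rintro rfl
    simp at h
  have e : t ^ q = a⁻¹ + a * (t - a) := by
    field_simp
    linear_combination h
  have h1 : (C a * C a⁻¹ : K[X]) = 1 := by rw [← C_mul, mul_inv_cancel₀ ha, C_1]
  rw [fpoly, e]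
  simp only [map_add, map_sub, map_mul]
  linear_combination h1

omit [Fintype K] hF in
theorem tq_eq (t a : K) (h : a ^ 3 - t * a ^ 2 + t ^ q * a - 1 = 0) :
    t ^ q = a⁻¹ + a * (t - a) := by
  have ha : a ≠ 0 := by
    rintro rfl
    simp at h
  field_simp
  linear_combination h

theorem pow_qsq_sub_one {a : K} (ha : a ≠ 0) : a ^ (q ^ 2 - 1) = 1 := by
  rw [← hF.out]; exact FiniteField.pow_card_sub_one_eq_one a ha

include hF in
theorem two_le_q' : 2 ≤ q := two_le_q hF.out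

omit [Fintype K] hF in
theorem three_linear_dvd (a b c : K) (hab : a ≠ b) (hac : a ≠ c) (hbc : b ≠ c) (P : K[X])
    (ha : P.eval a = 0) (hb : P.eval b = 0) (hc : P.eval c = 0) :
    (X - C a) * (X - C b) * (X - C c) ∣ P := by
  have c1 : IsCoprime (X - C a : K[X]) (X - C b) :=
    Polynomial.isCoprime_X_sub_C_of_isUnit_sub (sub_ne_zero.mpr hab).isUnit
  have c2 : IsCoprime (X - C a : K[X]) (X - C c) :=
    Polynomial.isCoprime_X_sub_C_of_isUnit_sub (sub_ne_zero.mpr hac).isUnit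
  have c3 : IsCoprime (X - C b : K[X]) (X - C c) :=
    Polynomial.isCoprime_X_sub_C_of_isUnit_sub (sub_ne_zero.mpr hbc).isUnit
  exact (IsCoprime.mul_left c2 c3).mul_dvd
    (c1.mul_dvd (dvd_iff_isRoot.mpr ha) (dvd_iff_isRoot.mpr hb)) (dvd_iff_isRoot.mpr hc)

theorem gcd_dvd_q_sub_two (hq : 2 ≤ q) : Nat.gcd 3 (q + 1) ∣ q - 2 := by
  have h1 : Nat.gcd 3 (q + 1) ∣ q + 1 := Nat.gcd_dvd_right _ _
  have h2 : Nat.gcd 3 (q + 1) ∣ 3 := Nat.gcd_dvd_left _ _
  have : q + 1 - 3 = q - 2 := by omega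
  rw [← this]
  exact Nat.dvd_sub h1 h2

theorem gcd_mul_div_qsq (hq : 2 ≤ q) :
    Nat.gcd 3 (q + 1) * ((q ^ 2 - 1) / Nat.gcd 3 (q + 1)) = q ^ 2 - 1 := by
  apply Nat.mul_div_cancel'
  have : q ^ 2 - 1 = (q + 1) * (q - 1) := by
    obtain ⟨s, rfl⟩ : ∃ s, q = s + 1 := ⟨q - 1, by omega⟩
    have : (s + 1) ^ 2 = (s + 1 + 1) * s + 1 := by ring
    rw [this]; simp
  rw [this]
  exact dvd_mul_of_dvd_left (Nat.gcd_dvd_right _ _) _

/-- a root of norm different from one: three distinct roots in the field -/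
theorem exists_dvd_of_root_norm_ne (t a : K) (h : a ^ 3 - t * a ^ 2 + t ^ q * a - 1 = 0)
    (hn : a * a ^ q ≠ 1) :
    ∃ c : K, fpoly q t ∣ X ^ ((q ^ 2 - 1) / Nat.gcd 3 (q + 1)) - C c := by
  have hq := two_le_q' (K := K) (q := q)
  have ha : a ≠ 0 := by
    rintro rfl
    simp at h
  have haq : a ^ q ≠ 0 := pow_ne_zero q ha
  set b := (a ^ q)⁻¹ with hb
  have hbr := root_conj t a h
  rw [← hb] at hbr
  have hba : b ≠ a := by
    intro e
    apply hn
    have h0 : b * a ^ q = 1 := by rw [hb, inv_mul_cancel₀ haq]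
    rw [e] at h0
    exact h0
  have hfac := fpoly_factor t a h
  -- `b` is a root of the quadratic factor
  have hbg : b ^ 2 - (t - a) * b + a⁻¹ = 0 := by
    have h1 : (fpoly q t).eval b = 0 := by rw [fpoly_eval]; exact hbr
    rw [hfac, eval_mul] at h1
    rcases mul_eq_zero.mp h1 with h2 | h2
    · exfalso
      apply hba
      simpa [sub_eq_zero] using h2
    · simpa using h2
  set c' := a⁻¹ * a ^ q with hc'
  have hbc' : b * c' = a⁻¹ := by
    rw [hc', hb]
    field_simp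
  have hsum : b + c' = t - a := by
    have hb0 : b ≠ 0 := inv_ne_zero haq
    have h3 : b * (t - a - b) = a⁻¹ := by linear_combination (-1 : K) * hbg
    have h4 : b * (t - a - b) = b * c' := by rw [h3, hbc']
    have h5 := mul_left_cancel₀ hb0 h4
    linear_combination (-1 : K) * h5
  have hfac2 : fpoly q t = (X - C a) * (X - C b) * (X - C c') := by
    rw [hfac, ← hsum, ← hbc']
    simp only [map_add, map_mul]
    ring
  -- norms
  have hnb : b * b ^ q ≠ 1 := by
    intro e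
    apply hn
    rw [hb, inv_pow, ← mul_inv, inv_eq_one, bb] at e
    rw [mul_comm]; exact e
  have hnc : c' * c' ^ q = 1 := by
    rw [hc', mul_pow, inv_pow, bb]
    field_simp
  have hca : a ≠ c' := by
    intro e
    apply hn
    rw [e]; exact hnc
  have hcb : b ≠ c' := by
    intro e
    apply hnb
    rw [e]; exact hnc
  set d := Nat.gcd 3 (q + 1) with hd
  set j := (q ^ 2 - 1) / d with hj
  have hdj : d * j = q ^ 2 - 1 := gcd_mul_div_qsq hq
  have ham : a ^ (q ^ 2 - 1) = 1 := pow_qsq_sub_one ha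
  obtain ⟨e₁, he₁⟩ : d ∣ q + 1 := Nat.gcd_dvd_right _ _
  obtain ⟨e₂, he₂⟩ : d ∣ q - 2 := gcd_dvd_q_sub_two hq
  have h1 : a ^ ((q + 1) * j) = 1 := by
    have : (q + 1) * j = (q ^ 2 - 1) * e₁ := by rw [he₁, ← hdj]; ring
    rw [this, pow_mul, ham, one_pow]
  have h2 : a ^ ((q - 2) * j) = 1 := by
    have : (q - 2) * j = (q ^ 2 - 1) * e₂ := by rw [he₂, ← hdj]; ring
    rw [this, pow_mul, ham, one_pow]
  have hbj : b ^ j = a ^ j := by
    have h3 : b ^ j * (a ^ q) ^ j = 1 := by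
      rw [← mul_pow, hb, inv_mul_cancel₀ haq, one_pow]
    have h4 : a ^ j * (a ^ q) ^ j = 1 := by
      rw [← pow_mul, ← pow_add]
      have : j + q * j = (q + 1) * j := by ring
      rw [this, h1]
    have h5 : (a ^ q) ^ j ≠ 0 := pow_ne_zero _ haq
    exact mul_right_cancel₀ h5 (h3.trans h4.symm)
  have hcj : c' ^ j = a ^ j := by
    have h3 : a ^ j * c' ^ j = (a ^ q) ^ j := by
      rw [← mul_pow, hc', ← mul_assoc, mul_inv_cancel₀ ha, one_mul]
    have h4 : (a ^ q) ^ j = a ^ j * a ^ j := by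
      have : q * j = (q - 2) * j + j + j := by
        have : q = (q - 2) + 2 := by omega
        conv_lhs => rw [this]
        ring
      rw [← pow_mul, this, pow_add, pow_add, h2, one_mul]
    have h5 : a ^ j ≠ 0 := pow_ne_zero _ ha
    exact mul_left_cancel₀ h5 (h3.trans h4)
  refine ⟨a ^ j, ?_⟩
  rw [hfac2]
  apply three_linear_dvd a b c' hba.symm hca hcb
  · simp
  · simp [hbj]
  · simp [hcj]

end Cfsg.Agent.Helper8.PU3
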