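import Cfsg.Agent.Helper8.PU3B
set_option autoImplicit false

/-!
The polynomials `X³ - tX² + t^q X - 1`: a root of norm one forces all roots into the field.
-/

namespace Cfsg.Agent.Helper8.PU3

open Polynomial Matrix Cfsg Cfsg.Agent.Helper8.GUOrder Cfsg.Agent.Helper8.SUCenter
  Cfsg.Agent.Helper8.AutSU Cfsg.Agent.Helper8.PS3

variable {K : Type*} [Field K] [Fintype K] {q : ℕ} [hF : Fact (Fintype.card K = q ^ 2)]

theorem natCast_pow_q (n : ℕ) : ((n : K)) ^ q = n := by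
  have := map_natCast (frobq K q) n
  rwa [frobq_apply] at this

/-- the quadratic cofactor of a root of norm one splits -/
theorem splits_of_norm_one (p : ℕ) [Fact p.Prime] [CharP K p] (hp : p ≠ 2) (t a : K)
    (h : a ^ 3 - t * a ^ 2 + t ^ q * a - 1 = 0) (hn : a * a ^ q = 1) :
    ∃ r₁ r₂ : K, fpoly q t = (X - C a) * (X - C r₁) * (X - C r₂) := by
  have hq := two_le_q' (K := K) (q := q)
  have hodd : Odd q := q_odd (K := K) p hp
  have ha : a ≠ 0 := by
    rintro rfl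
    simp at h
  have haq : a ^ q = a⁻¹ := eq_inv_of_mul_eq_one_right hn
  have h2 : (2 : K) ≠ 0 := by
    have : ringChar K ≠ 2 := by rw [ringChar.eq K p]; exact hp
    exact Ring.two_ne_zero this
  set s := t - a with hs
  have hsq : s ^ q = a * s := by
    have e := tq_eq t a h
    have e2 : t ^ q = s ^ q + a ^ q := by
      have : t = s + a := by rw [hs]; ring
      conv_lhs => rw [this]
      exact b_add s a
    rw [e2, haq] at e
    linear_combination e
  set D := s ^ 2 - 4 * a⁻¹ with hD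
  have hDq : D ^ q = a ^ 2 * D := by
    have h4 : (4 : K) ^ q = 4 := by
      have := natCast_pow_q (K := K) (q := q) 4
      exact_mod_cast this
    rw [hD, b_sub, ← pow_mul, mul_comm 2 q, pow_mul, hsq, mul_pow, mul_pow, h4, inv_pow, haq, inv_inv]
    field_simp
  have hsquare : IsSquare D := by
    by_cases hD0 : D = 0
    · rw [hD0]; exact ⟨0, by simp⟩
    · have hch : ringChar K ≠ 2 := by rw [ringChar.eq K p]; exact hp
      rw [FiniteField.isSquare_iff hch hD0, hF.out]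
      obtain ⟨w, hw⟩ := hodd
      have e1 : q ^ 2 / 2 = (q - 1) * (w + 1) := by
        rw [hw]
        have : (2 * w + 1) ^ 2 = 2 * ((2 * w + 1 - 1) * (w + 1)) + 1 := by
          simp only [Nat.add_sub_cancel]; ring
        rw [this]
        omega
      have e2 : D ^ (q - 1) = a ^ 2 := by
        have h5 : D ^ (q - 1) * D = a ^ 2 * D := by
          rw [← pow_succ, Nat.sub_add_cancel (by omega), hDq]
        exact mul_right_cancel₀ hD0 h5
      rw [e1, pow_mul, e2, ← pow_mul]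
      have : 2 * (w + 1) = q + 1 := by omega
      rw [this, pow_succ, mul_comm, hn]
  obtain ⟨δ, hδ⟩ := hsquare
  refine ⟨(s + δ) / 2, (s - δ) / 2, ?_⟩
  rw [fpoly_factor t a h, mul_assoc]
  congr 1
  have e1 : (s + δ) / 2 + (s - δ) / 2 = s := by field_simp; ring
  have e2 : (s + δ) / 2 * ((s - δ) / 2) = a⁻¹ := by
    have hδ' : s ^ 2 - 4 * a⁻¹ = δ * δ := by rw [← hD]; exact hδ
    have h22 : (2 : K) * 2 ≠ 0 := mul_ne_zero h2 h2
    rw [div_mul_div_comm, div_eq_iff h22]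
    linear_combination hδ'
  have e3 : (C s : K[X]) = C ((s + δ) / 2) + C ((s - δ) / 2) := by rw [← C_add, e1]
  have e4 : (C a⁻¹ : K[X]) = C ((s + δ) / 2) * C ((s - δ) / 2) := by rw [← C_mul, e2]
  rw [e3, e4]
  ring

omit [Fintype K] hF in
/-- a repeated root -/
theorem dvd_of_repeated' (p : ℕ) [Fact p.Prime] [CharP K p] (hp3 : 3 ≤ p) (a b : K)
    (h : a ^ 2 * b = 1) (M : ℕ) (h3M : a ^ (3 * M) = 1) :
    (X - C a) ^ 2 * (X - C b) ∣ X ^ (p * M) - C (a ^ (p * M)) := by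
  have hp : p.Prime := Fact.out
  have hbM : b ^ M = a ^ M := by
    have h1 : a ^ (2 * M) * b ^ M = 1 := by
      rw [pow_mul, ← mul_pow, h, one_pow]
    calc b ^ M = b ^ M * a ^ (3 * M) := by rw [h3M, mul_one]
      _ = (a ^ (2 * M) * b ^ M) * a ^ M := by ring
      _ = a ^ M := by rw [h1, one_mul]
  have e1 : (X ^ (p * M) - C (a ^ (p * M)) : K[X]) = (X ^ M - C (a ^ M)) ^ p := by
    rw [sub_pow_char, ← pow_mul, ← C_pow, ← pow_mul, mul_comm M p]
  rw [e1]
  have h1 : (X - C a : K[X]) ∣ X ^ M - C (a ^ M) := X_sub_C_dvd_X_pow_sub_C a M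
  have h2 : (X - C b : K[X]) ∣ X ^ M - C (a ^ M) := by
    rw [← hbM]; exact X_sub_C_dvd_X_pow_sub_C b M
  by_cases hab : a = b
  · subst hab
    have h4 : (X - C a : K[X]) ^ 2 * (X - C a) = (X - C a) ^ 3 := by ring
    rw [h4]
    exact dvd_trans (pow_dvd_pow _ hp3) (pow_dvd_pow_of_dvd h1 p)
  · have c1 : IsCoprime (X - C a : K[X]) (X - C b) :=
      Polynomial.isCoprime_X_sub_C_of_isUnit_sub (sub_ne_zero.mpr hab).isUnit
    have h3 := c1.mul_dvd h1 h2
    have h4 : (X - C a : K[X]) ^ 2 * (X - C b) ∣ ((X - C a) * (X - C b)) ^ 2 :=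
      ⟨X - C b, by ring⟩
    exact dvd_trans h4 (dvd_trans (pow_dvd_pow_of_dvd h3 2) (pow_dvd_pow _ hp.two_le))

omit [Fintype K] hF in
/-- `u ^ (3 * ((q + 1) / d)) = 1` for `u` of norm one -/
theorem pow_three_mul_of_norm_one (u : K) (hu : u * u ^ q = 1) :
    u ^ (3 * ((q + 1) / Nat.gcd 3 (q + 1))) = 1 := by
  obtain ⟨e, he⟩ : Nat.gcd 3 (q + 1) ∣ 3 := Nat.gcd_dvd_left _ _
  have hd : Nat.gcd 3 (q + 1) * ((q + 1) / Nat.gcd 3 (q + 1)) = q + 1 :=
    Nat.mul_div_cancel' (Nat.gcd_dvd_right _ _)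
  set d := Nat.gcd 3 (q + 1) with hdd
  have h3 : (3 : ℕ) = d * e := he
  have : 3 * ((q + 1) / d) = (q + 1) * e := by
    calc 3 * ((q + 1) / d) = d * e * ((q + 1) / d) := by rw [← h3]
      _ = d * ((q + 1) / d) * e := by ring
      _ = (q + 1) * e := by rw [hd]
  rw [this, pow_mul, pow_succ, mul_comm, hu, one_pow]

/-- all roots in the field and of norm one -/
theorem exists_dvd_of_split_norm_one (p : ℕ) [Fact p.Prime] [CharP K p] (hp : p ≠ 2)
    (t a r₁ r₂ : K) (hfac : fpoly q t = (X - C a) * (X - C r₁) * (X - C r₂))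
    (hna : a * a ^ q = 1) (hn1 : r₁ * r₁ ^ q = 1) (hn2 : r₂ * r₂ ^ q = 1) :
    ∃ (j : ℕ) (c : K), fpoly q t ∣ X ^ j - C c ∧
      (j = q + 1 ∨ j = p * ((q + 1) / Nat.gcd 3 (q + 1))) := by
  have hp' : p.Prime := Fact.out
  have hp3 : 3 ≤ p := by
    have := hp'.two_le
    omega
  have hprod : a * r₁ * r₂ = 1 := by
    have h1 := congrArg (eval 0) hfac
    rw [fpoly_eval] at h1
    simp only [eval_mul, eval_sub, eval_X, eval_C] at h1
    linear_combination h1
  have hroot : ∀ r : K, r * r ^ q = 1 → (X ^ (q + 1) - C (1 : K) : K[X]).eval r = 0 := by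
    intro r hr
    rw [eval_sub, eval_pow, eval_X, eval_C, pow_succ, mul_comm, hr, sub_self]
  by_cases h1 : a = r₁
  · subst h1
    refine ⟨p * ((q + 1) / Nat.gcd 3 (q + 1)), a ^ (p * ((q + 1) / Nat.gcd 3 (q + 1))), ?_,
      Or.inr rfl⟩
    have e : fpoly q t = (X - C a) ^ 2 * (X - C r₂) := by rw [hfac]; ring
    rw [e]
    exact dvd_of_repeated' p hp3 a r₂ (by rw [← hprod]; ring) _ (pow_three_mul_of_norm_one a hna)
  by_cases h2 : a = r₂
  · subst h2
    refine ⟨p * ((q + 1) / Nat.gcd 3 (q + 1)), a ^ (p * ((q + 1) / Nat.gcd 3 (q + 1))), ?_,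
      Or.inr rfl⟩
    have e : fpoly q t = (X - C a) ^ 2 * (X - C r₁) := by rw [hfac]; ring
    rw [e]
    exact dvd_of_repeated' p hp3 a r₁ (by rw [← hprod]; ring) _ (pow_three_mul_of_norm_one a hna)
  by_cases h3 : r₁ = r₂
  · subst h3
    refine ⟨p * ((q + 1) / Nat.gcd 3 (q + 1)), r₁ ^ (p * ((q + 1) / Nat.gcd 3 (q + 1))), ?_,
      Or.inr rfl⟩
    have e : fpoly q t = (X - C r₁) ^ 2 * (X - C a) := by rw [hfac]; ring
    rw [e]
    exact dvd_of_repeated' p hp3 r₁ a (by rw [← hprod]; ring) _ (pow_three_mul_of_norm_one r₁ hn1)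
  · refine ⟨q + 1, 1, ?_, Or.inl rfl⟩
    rw [hfac]
    exact three_linear_dvd a r₁ r₂ h1 h2 h3 _ (hroot a hna) (hroot r₁ hn1) (hroot r₂ hn2)

/-- the case of a root in the field -/
theorem exists_dvd_of_root (p : ℕ) [Fact p.Prime] [CharP K p] (hp : p ≠ 2)
    (t a : K) (h : a ^ 3 - t * a ^ 2 + t ^ q * a - 1 = 0) :
    ∃ (j : ℕ) (c : K), fpoly q t ∣ X ^ j - C c ∧
      (j = q + 1 ∨ j = p * ((q + 1) / Nat.gcd 3 (q + 1)) ∨
        j = (q ^ 2 - 1) / Nat.gcd 3 (q + 1)) := by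
  by_cases hall : ∀ r : K, r ^ 3 - t * r ^ 2 + t ^ q * r - 1 = 0 → r * r ^ q = 1
  · obtain ⟨r₁, r₂, hfac⟩ := splits_of_norm_one p hp t a h (hall a h)
    have hr : ∀ r : K, (fpoly q t).eval r = 0 → r * r ^ q = 1 := by
      intro r hr
      rw [fpoly_eval] at hr
      exact hall r hr
    have h1 : r₁ * r₁ ^ q = 1 := by
      apply hr
      rw [hfac]; simp
    have h2 : r₂ * r₂ ^ q = 1 := by
      apply hr
      rw [hfac]; simp
    obtain ⟨j, c, hd, hj⟩ := exists_dvd_of_split_norm_one p hp t a r₁ r₂ hfac (hall a h) h1 h2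
    refine ⟨j, c, hd, ?_⟩
    rcases hj with hj | hj
    · exact Or.inl hj
    · exact Or.inr (Or.inl hj)
  · push Not at hall
    obtain ⟨r, hr, hrn⟩ := hall
    obtain ⟨c, hc⟩ := exists_dvd_of_root_norm_ne t r hr hrn
    exact ⟨_, c, hc, Or.inr (Or.inr rfl)⟩

end Cfsg.Agent.Helper8.PU3
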