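import Cfsg.Agent.Helper8.PU3C
set_option autoImplicit false

/-!
The polynomials `X³ - tX² + t^q X - 1`: the irreducible case.
-/

namespace Cfsg.Agent.Helper8.PU3

open Polynomial Matrix Cfsg Cfsg.Agent.Helper8.GUOrder Cfsg.Agent.Helper8.SUCenter
  Cfsg.Agent.Helper8.AutSU Cfsg.Agent.Helper8.PS3 Cfsg.Agent.Helper8.PGraph

variable {K : Type*} [Field K] [Fintype K] {q : ℕ} [hF : Fact (Fintype.card K = q ^ 2)]

include hF in
/-- `q` is a power of the characteristic -/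
theorem exists_q_eq_pow (p : ℕ) [Fact p.Prime] [CharP K p] : ∃ k, q = p ^ k := by
  obtain ⟨n, hp', hn⟩ := FiniteField.card K p
  have h1 : q ∣ p ^ (n : ℕ) := by
    rw [← hn, hF.out]
    exact dvd_pow_self q (by norm_num)
  obtain ⟨k, _, hk⟩ := (Nat.dvd_prime_pow hp').mp h1
  exact ⟨k, hk⟩

theorem gcd_dvd_N (hq : 2 ≤ q) : Nat.gcd 3 (q + 1) ∣ q ^ 2 - q + 1 := by
  obtain ⟨s, rfl⟩ : ∃ s, q = s + 2 := ⟨q - 2, by omega⟩
  have : (s + 2) ^ 2 - (s + 2) + 1 = (s + 2 + 1) * s + 3 := by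
    have : (s + 2) ^ 2 = (s + 2 + 1) * s + 2 + (s + 2) := by ring
    omega
  rw [this]
  exact dvd_add (dvd_mul_of_dvd_left (Nat.gcd_dvd_right _ _) _) (Nat.gcd_dvd_left _ _)

omit [Fintype K] hF in
theorem aeval_fpoly {A : Type*} [CommRing A] [Algebra K A] (t : K) (x : A) :
    aeval x (fpoly q t) = x ^ 3 - algebraMap K A t * x ^ 2 + algebraMap K A (t ^ q) * x - 1 := by
  simp [fpoly]

/-- the irreducible case -/
theorem exists_dvd_of_irreducible_aux (p : ℕ) [Fact p.Prime] [CharP K p] (t : K) (P : K[X])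
    (hmon : P.Monic) (hdeg : P.natDegree = 3) (h0 : P.coeff 0 = -1)
    (hirr : Irreducible P)
    (hev : ∀ x : AdjoinRoot P, aeval x P =
      x ^ 3 - AdjoinRoot.of P t * x ^ 2 + AdjoinRoot.of P (t ^ q) * x - 1) :
    ∃ c : K, P ∣ X ^ ((q ^ 2 - q + 1) / Nat.gcd 3 (q + 1)) - C c := by
  have hq := two_le_q' (K := K) (q := q)
  have : Fact (Irreducible P) := ⟨hirr⟩
  have : Module.Finite K (AdjoinRoot P) := hmon.finite_adjoinRoot
  have : Finite (AdjoinRoot P) := Module.finite_of_finite K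
  set γ := AdjoinRoot.root P with hγ
  obtain ⟨k, hk⟩ := exists_q_eq_pow (K := K) (q := q) p
  have : CharP (AdjoinRoot P) p := charP_of_injective_algebraMap (algebraMap K (AdjoinRoot P)).injective p
  -- the `q`-power map on the extension
  have hfr : ∀ x : AdjoinRoot P, iterateFrobenius (AdjoinRoot P) p k x = x ^ q := by
    intro x
    rw [iterateFrobenius_def, ← hk]
  -- the root equation
  have hroot : γ ^ 3 - AdjoinRoot.of P t * γ ^ 2 + AdjoinRoot.of P (t ^ q) * γ - 1 = 0 := by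
    rw [← hev γ, hγ, AdjoinRoot.aeval_eq, AdjoinRoot.mk_self]
  have hγ0 : γ ≠ 0 := by
    intro h
    rw [h] at hroot
    simp at hroot
  have hγq0 : γ ^ q ≠ 0 := pow_ne_zero q hγ0
  set γ' := (γ ^ q)⁻¹ with hγ'
  have hroot' : γ' ^ 3 - AdjoinRoot.of P t * γ' ^ 2 + AdjoinRoot.of P (t ^ q) * γ' - 1 = 0 := by
    have h1 := congrArg (iterateFrobenius (AdjoinRoot P) p k) hroot
    rw [map_sub, map_add, map_sub, map_mul, map_mul, map_pow, map_pow, map_zero, map_one] at h1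
    simp only [hfr] at h1
    rw [← map_pow, ← map_pow, bb] at h1
    rw [hγ']
    field_simp
    linear_combination (-1 : AdjoinRoot P) * h1
  have haev : aeval γ' P = 0 := by
    rw [hev γ']
    exact hroot'
  set φ : AdjoinRoot P →ₐ[K] AdjoinRoot P := AdjoinRoot.liftAlgHom P (Algebra.ofId K _) γ' (by
    rw [← haev]; rfl) with hφ
  have hφγ : φ γ = γ' := by
    rw [hφ, hγ]
    exact AdjoinRoot.liftAlgHom_root _ _ _ _
  have hfin : Module.finrank K (AdjoinRoot P) = 3 := by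
    rw [(AdjoinRoot.powerBasis hirr.ne_zero).finrank, AdjoinRoot.powerBasis_dim, hdeg]
  obtain ⟨⟨i, hi⟩, hφi⟩ := (FiniteField.bijective_frobeniusAlgHom_pow K (AdjoinRoot P)).2 φ
  simp only at hφi
  have hγi : γ' = γ ^ ((q ^ 2) ^ i) := by
    rw [← hφγ, ← hφi, AlgHom.coe_pow, FiniteField.coe_frobeniusAlgHom, pow_iterate, hF.out]
  -- the `q`-power map is injective
  have hinj : ∀ x : AdjoinRoot P, x ^ q = 1 → x = 1 := by
    intro x hx
    apply (iterateFrobenius (AdjoinRoot P) p k).injective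
    rw [hfr, hfr, hx, one_pow]
  have hmul : γ' * γ ^ q = 1 := by rw [hγ', inv_mul_cancel₀ hγq0]
  have hbase : ¬ γ * γ ^ q = 1 := by
    intro h
    have h1 : γ ^ (q ^ 2 - 1) = 1 := by
      have : q ^ 2 - 1 = (q + 1) * (q - 1) := by
        obtain ⟨s, rfl⟩ : ∃ s, q = s + 1 := ⟨q - 1, by omega⟩
        have : (s + 1) ^ 2 = (s + 1 + 1) * s + 1 := by ring
        rw [this]; simp
      rw [this, pow_mul, pow_succ, mul_comm, h, one_pow]
    obtain ⟨c, hc⟩ := mem_range_of_pow_eq_one (F := K) (K := AdjoinRoot P) (q ^ 2 - 1)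
      (by have : 4 ≤ q ^ 2 := by nlinarith
          omega) (by rw [hF.out]) γ h1
    have h2 : P ∣ X ^ 1 - C c := by
      rw [dvd_X_pow_sub_C_iff, pow_one]
      exact hc.symm
    have h3 := natDegree_le_of_dvd h2 (by rw [pow_one]; exact X_sub_C_ne_zero c)
    rw [hdeg, pow_one, natDegree_X_sub_C] at h3
    omega
  have hi3 : i = 2 := by
    rw [hfin] at hi
    interval_cases i
    · exfalso
      apply hbase
      rw [pow_zero, pow_one] at hγi
      rw [hγi] at hmul; exact hmul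
    · exfalso
      apply hbase
      rw [pow_one] at hγi
      apply hinj
      rw [mul_pow, ← pow_mul, ← pow_two, ← hγi, mul_comm]
      exact hmul
    · rfl
  subst hi3
  have h1 : γ ^ (q ^ 3 + 1) = 1 := by
    apply hinj
    rw [← pow_mul]
    have : (q ^ 3 + 1) * q = (q ^ 2) ^ 2 + q := by ring
    rw [this, pow_add, ← hγi]
    exact hmul
  have h2 : γ ^ (q ^ 4 + q ^ 2 + 1) = 1 := by
    have h3 := root_pow_norm P hmon hirr
    rw [hdeg, hF.out, h0] at h3
    have e1 : ((q ^ 2) ^ 3 - 1) / (q ^ 2 - 1) = q ^ 4 + q ^ 2 + 1 := by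
      have h4 : 4 ≤ q ^ 2 := by nlinarith
      obtain ⟨s, hs⟩ : ∃ s, q ^ 2 = s + 1 := ⟨q ^ 2 - 1, by omega⟩
      have e2 : q ^ 4 = (q ^ 2) ^ 2 := by ring
      rw [e2, hs, Nat.add_sub_cancel]
      have : (s + 1) ^ 3 - 1 = s * ((s + 1) ^ 2 + (s + 1) + 1) := by
        have : (s + 1) ^ 3 = s * ((s + 1) ^ 2 + (s + 1) + 1) + 1 := by ring
        omega
      rw [this]
      exact Nat.mul_div_cancel_left _ (by omega)
    have e2 : ((-1 : K) ^ 3 * -1) = 1 := by ring
    rw [e1, e2, map_one] at h3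
    exact h3
  have hN : γ ^ (q ^ 2 - q + 1) = 1 := by
    have e : q ^ 4 + q ^ 2 + 1 = q * (q ^ 3 + 1) + (q ^ 2 - q + 1) := by
      have h5 : q ≤ q ^ 2 := by nlinarith
      have : q * (q ^ 3 + 1) = q ^ 4 + q := by ring
      omega
    rw [e, pow_add, mul_comm q, pow_mul, h1, one_pow, one_mul] at h2
    exact h2
  obtain ⟨w, hw⟩ := gcd_dvd_N hq
  have hdj : (q ^ 2 - q + 1) / Nat.gcd 3 (q + 1) = w := by
    rw [hw]
    exact Nat.mul_div_cancel_left _ (Nat.gcd_pos_of_pos_left _ (by norm_num))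
  rw [hdj]
  rw [hw, mul_comm, pow_mul] at hN
  have hdd : Nat.gcd 3 (q + 1) ∣ Fintype.card K - 1 := by
    rw [hF.out]
    have : q ^ 2 - 1 = (q + 1) * (q - 1) := by
      obtain ⟨s, rfl⟩ : ∃ s, q = s + 1 := ⟨q - 1, by omega⟩
      have : (s + 1) ^ 2 = (s + 1 + 1) * s + 1 := by ring
      rw [this]; simp
    rw [this]
    exact dvd_mul_of_dvd_left (Nat.gcd_dvd_right _ _) _
  obtain ⟨c, hc⟩ := mem_range_of_pow_eq_one (F := K) (K := AdjoinRoot P) (Nat.gcd 3 (q + 1))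
    (Nat.gcd_pos_of_pos_left _ (by norm_num)).ne' hdd _ hN
  refine ⟨c, ?_⟩
  rw [dvd_X_pow_sub_C_iff]
  exact hc.symm

/-- the irreducible case -/
theorem exists_dvd_of_irreducible' (p : ℕ) [Fact p.Prime] [CharP K p] (t : K)
    (hirr : Irreducible (fpoly q t)) :
    ∃ c : K, fpoly q t ∣ X ^ ((q ^ 2 - q + 1) / Nat.gcd 3 (q + 1)) - C c :=
  exists_dvd_of_irreducible_aux p t (fpoly q t) (fpoly_monic t) (fpoly_natDegree t)
    (fpoly_coeff_zero t) hirr (fun x => aeval_fpoly t x)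

end Cfsg.Agent.Helper8.PU3
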