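import Cfsg.Agent.Helper8.PU3D
import Cfsg.Agent.Helper8.PS3Cubic
import Cfsg.Agent.Helper8.RPBlock
set_option autoImplicit false

/-!
Element orders of `PSU₃(q)`, `q` odd, divide one of four numbers.
-/

namespace Cfsg.Agent.Helper8.PU3

open Polynomial Matrix Cfsg Cfsg.Agent.Helper8.GUOrder Cfsg.Agent.Helper8.SUCenter
  Cfsg.Agent.Helper8.AutSU Cfsg.Agent.Helper8.PS3 Cfsg.Agent.Helper8.PGraph

variable {K : Type*} [Field K] [Fintype K] {q : ℕ}

/-- powers in `PSU` -/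
theorem psu_pow_eq_one_iff (hK : Fintype.card K = q ^ 2) (n : ℕ) (hn : 1 ≤ n) (x : SU n K q)
    (j : ℕ) :
    ((QuotientGroup.mk x : PSU n K q) ^ j = 1) ↔
      ∃ c : K, (x.1 : Matrix (Fin n) (Fin n) K) ^ j = c • 1 := by
  rw [← QuotientGroup.mk_pow, QuotientGroup.eq_one_iff]
  constructor
  · intro h
    obtain ⟨ζ, hζ, hζn, hz⟩ := center_eq_scal hK hn _ h
    refine ⟨ζ, ?_⟩
    have h1 : ((x ^ j : SU n K q).1 : Matrix (Fin n) (Fin n) K) = ζ • 1 := by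
      rw [hz]; rfl
    rw [← h1]
    simp
  · rintro ⟨c, hc⟩
    rw [Subgroup.mem_center_iff]
    intro g
    apply Subtype.ext
    apply Subtype.ext
    show (g.1 : Matrix (Fin n) (Fin n) K) * ((x ^ j : SU n K q).1 : Matrix (Fin n) (Fin n) K) =
      ((x ^ j : SU n K q).1 : Matrix (Fin n) (Fin n) K) * (g.1 : Matrix (Fin n) (Fin n) K)
    have h1 : ((x ^ j : SU n K q).1 : Matrix (Fin n) (Fin n) K) = c • 1 := by
      rw [← hc]; simp
    rw [h1, Matrix.mul_smul, Matrix.smul_mul, Matrix.mul_one, Matrix.one_mul]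

variable [hF : Fact (Fintype.card K = q ^ 2)]

/-- the polynomials `X³ - tX² + t^q X - 1` divide some `X ^ j - c` -/
theorem exists_dvd_fpoly (p : ℕ) [Fact p.Prime] [CharP K p] (hp : p ≠ 2) (t : K) :
    ∃ (j : ℕ) (c : K), fpoly q t ∣ X ^ j - C c ∧
      (j = q + 1 ∨ j = p * ((q + 1) / Nat.gcd 3 (q + 1)) ∨
        j = (q ^ 2 - 1) / Nat.gcd 3 (q + 1) ∨ j = (q ^ 2 - q + 1) / Nat.gcd 3 (q + 1)) := by
  by_cases hirr : Irreducible (fpoly q t)
  · obtain ⟨c, hc⟩ := exists_dvd_of_irreducible' p t hirr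
    exact ⟨_, c, hc, Or.inr (Or.inr (Or.inr rfl))⟩
  · obtain ⟨a, g, hfg, -, -⟩ := exists_factor_of_not_irreducible (fpoly q t) (fpoly_monic t)
      (by rw [fpoly_natDegree]; norm_num) (by rw [fpoly_natDegree]) hirr
    have ha : a ^ 3 - t * a ^ 2 + t ^ q * a - 1 = 0 := by
      rw [← fpoly_eval, hfg]
      simp
    obtain ⟨j, c, hd, hj⟩ := exists_dvd_of_root p hp t a ha
    refine ⟨j, c, hd, ?_⟩
    rcases hj with hj | hj | hj
    · exact Or.inl hj
    · exact Or.inr (Or.inl hj)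
    · exact Or.inr (Or.inr (Or.inl hj))

/-- every element order of `PSU₃(q)` divides one of the four numbers -/
theorem orderOf_dvd_cases' (p : ℕ) [Fact p.Prime] [CharP K p] (hp : p ≠ 2) (x : PSU 3 K q) :
    orderOf x ∣ q + 1 ∨ orderOf x ∣ p * (q + 1) / Nat.gcd 3 (q + 1) ∨
      orderOf x ∣ (q ^ 2 - 1) / Nat.gcd 3 (q + 1) ∨
      orderOf x ∣ (q ^ 2 - q + 1) / Nat.gcd 3 (q + 1) := by
  obtain ⟨g, rfl⟩ := QuotientGroup.mk_surjective x
  set Am : Matrix (Fin 3) (Fin 3) K := (g.1 : Matrix (Fin 3) (Fin 3) K) with hAm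
  have hcp : Am.charpoly = fpoly q Am.trace := by
    rw [hAm, charpoly_SU hF.out g, fpoly]
  obtain ⟨j, c, hdvd, hj⟩ := exists_dvd_fpoly (q := q) p hp Am.trace
  have hpow : Am ^ j = c • 1 := by
    obtain ⟨w, hw⟩ := hdvd
    have h1 : aeval Am (X ^ j - C c : K[X]) = 0 := by
      rw [hw, ← hcp, map_mul, Matrix.aeval_self_charpoly, zero_mul]
    rw [PGLr.aeval_X_pow_sub_C, sub_eq_zero] at h1
    exact h1
  have hord : orderOf (QuotientGroup.mk g : PSU 3 K q) ∣ j := by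
    rw [orderOf_dvd_iff_pow_eq_one, psu_pow_eq_one_iff hF.out 3 (by norm_num)]
    exact ⟨c, hpow⟩
  have e1 : p * (q + 1) / Nat.gcd 3 (q + 1) = p * ((q + 1) / Nat.gcd 3 (q + 1)) :=
    Nat.mul_div_assoc p (Nat.gcd_dvd_right _ _)
  rw [e1]
  rcases hj with rfl | rfl | rfl | rfl
  · exact Or.inl hord
  · exact Or.inr (Or.inl hord)
  · exact Or.inr (Or.inr (Or.inl hord))
  · exact Or.inr (Or.inr (Or.inr hord))

/-- an element of `PSU` with prescribed order, from a matrix -/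
theorem exists_orderOf_psu (n N : ℕ) (hn : 1 ≤ n) (M : Matrix (Fin n) (Fin n) K)
    (hU : Mᵀ * M.map (· ^ q) = 1) (hdet : M.det = 1)
    (h : ∀ j : ℕ, (∃ c : K, M ^ j = c • 1) ↔ N ∣ j) :
    ∃ x : PSU n K q, orderOf x = N := by
  refine ⟨QuotientGroup.mk (mkSU hF.out M hU hdet), ?_⟩
  apply Nat.dvd_antisymm
  · rw [orderOf_dvd_iff_pow_eq_one, psu_pow_eq_one_iff hF.out n hn]
    exact (h N).mpr dvd_rfl
  · rw [← h]
    exact (psu_pow_eq_one_iff hF.out n hn (mkSU hF.out M hU hdet) _).mp (pow_orderOf_eq_one _)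

end Cfsg.Agent.Helper8.PU3
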