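import Cfsg.Agent.Helper8.PU3E
set_option autoImplicit false

/-!
Conjugating a matrix preserving a Gram matrix into the unitary group; the split torus of `PSU₃`.
-/

namespace Cfsg.Agent.Helper8.PU3

open Polynomial Matrix Cfsg Cfsg.Agent.Helper8.GUOrder Cfsg.Agent.Helper8.SUCenter
  Cfsg.Agent.Helper8.AutSU Cfsg.Agent.Helper8.PS3 Cfsg.Agent.Helper8.PGraph

variable {K : Type*} [Field K] [Fintype K] {q : ℕ} [hF : Fact (Fintype.card K = q ^ 2)]

theorem map_q_mul {n : ℕ} (A B : Matrix (Fin n) (Fin n) K) :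
    (A * B).map (· ^ q) = A.map (· ^ q) * B.map (· ^ q) :=
  Matrix.map_mul (f := frobq K q)

theorem map_q_one {n : ℕ} : (1 : Matrix (Fin n) (Fin n) K).map (· ^ q) = 1 :=
  Matrix.map_one (frobq K q) (map_zero _) (map_one _)

theorem conj_unitary {n : ℕ} (P Q D : Matrix (Fin n) (Fin n) K) (hPQ : P * Q = 1)
    (hD : Dᵀ * (Pᵀ * P.map (· ^ q)) * D.map (· ^ q) = Pᵀ * P.map (· ^ q)) :
    (P * D * Q)ᵀ * (P * D * Q).map (· ^ q) = 1 := by
  have h1 : P.map (· ^ q) * Q.map (· ^ q) = 1 := by rw [← map_q_mul, hPQ, map_q_one]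
  have h2 : Qᵀ * Pᵀ = 1 := by rw [← Matrix.transpose_mul, hPQ, Matrix.transpose_one]
  rw [Matrix.transpose_mul, Matrix.transpose_mul, map_q_mul, map_q_mul]
  calc Qᵀ * (Dᵀ * Pᵀ) * (P.map (· ^ q) * D.map (· ^ q) * Q.map (· ^ q))
      = Qᵀ * (Dᵀ * (Pᵀ * P.map (· ^ q)) * D.map (· ^ q)) * Q.map (· ^ q) := by
        simp only [Matrix.mul_assoc]
    _ = (Qᵀ * Pᵀ) * (P.map (· ^ q) * Q.map (· ^ q)) := by
        rw [hD]; simp only [Matrix.mul_assoc]
    _ = 1 := by rw [h1, h2, Matrix.mul_one]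

omit [Fintype K] hF in
theorem conj_pow {n : ℕ} (P Q D : Matrix (Fin n) (Fin n) K) (hPQ : P * Q = 1) (j : ℕ) :
    (P * D * Q) ^ j = P * D ^ j * Q := by
  have hQP : Q * P = 1 := mul_eq_one_comm.mp hPQ
  induction j with
  | zero => rw [pow_zero, pow_zero, Matrix.mul_one, hPQ]
  | succ j ih =>
    rw [pow_succ, ih, pow_succ]
    calc P * D ^ j * Q * (P * D * Q) = P * D ^ j * (Q * P) * D * Q := by
          simp only [Matrix.mul_assoc]
      _ = P * (D ^ j * D) * Q := by rw [hQP, Matrix.mul_one]; simp only [Matrix.mul_assoc]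

omit [Fintype K] hF in
theorem conj_pow_eq_smul_iff {n : ℕ} (P Q D : Matrix (Fin n) (Fin n) K) (hPQ : P * Q = 1) (j : ℕ)
    (c : K) : (P * D * Q) ^ j = c • 1 ↔ D ^ j = c • 1 := by
  have hQP : Q * P = 1 := mul_eq_one_comm.mp hPQ
  rw [conj_pow P Q D hPQ]
  constructor
  · intro h
    calc D ^ j = (Q * P) * D ^ j * (Q * P) := by rw [hQP, Matrix.one_mul, Matrix.mul_one]
      _ = Q * (P * D ^ j * Q) * P := by simp only [Matrix.mul_assoc]
      _ = c • 1 := by rw [h, Matrix.mul_smul, Matrix.smul_mul, Matrix.mul_one, hQP]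
  · intro h
    rw [h, Matrix.mul_smul, Matrix.smul_mul, Matrix.mul_one, hPQ]

omit [Fintype K] hF in
theorem conj_det {n : ℕ} (P Q D : Matrix (Fin n) (Fin n) K) (hPQ : P * Q = 1) :
    (P * D * Q).det = D.det := by
  rw [Matrix.det_mul, Matrix.det_mul, mul_comm P.det, mul_assoc, ← Matrix.det_mul, hPQ,
    Matrix.det_one, mul_one]

/-- an element of order `q + 1` -/
theorem exists_orderOf_one : ∃ x : PSU 3 K q, orderOf x = q + 1 := by
  have hq := two_le_q' (K := K) (q := q)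
  have hdvd : q + 1 ∣ Fintype.card K - 1 := by
    rw [hF.out, qsq_sub_one hF.out]
    exact dvd_mul_left _ _
  obtain ⟨a, ha⟩ := PGLr.exists_primitiveRoot (F := K) (q + 1) hdvd
  have ha1 : a * a ^ q = 1 := by rw [mul_comm, ← pow_succ]; exact ha.pow_eq_one
  have ha0 : a ≠ 0 := by
    rintro rfl
    simp at ha1
  set d : Fin 3 → K := ![a, a⁻¹, 1] with hd
  apply exists_orderOf_psu 3 (q + 1) (by norm_num) (Matrix.diagonal d)
  · apply diagonal_unitary hF.out
    intro i
    fin_cases i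
    · exact ha1
    · show a⁻¹ * (a⁻¹) ^ q = 1
      rw [inv_pow, ← mul_inv, ha1, inv_one]
    · show (1 : K) * 1 ^ q = 1
      rw [one_pow, mul_one]
  · rw [Matrix.det_diagonal, Fin.prod_univ_three]
    show a * a⁻¹ * 1 = 1
    rw [mul_inv_cancel₀ ha0, mul_one]
  · intro j
    rw [Matrix.diagonal_pow]
    constructor
    · rintro ⟨c, hc⟩
      have h2 := congrFun (congrFun hc 2) 2
      have h0 := congrFun (congrFun hc 0) 0
      rw [Matrix.diagonal_apply_eq, Matrix.smul_apply, Matrix.one_apply_eq, smul_eq_mul,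
        mul_one] at h2 h0
      have hc1 : c = 1 := by
        rw [← h2]
        show (1 : K) ^ j = 1
        exact one_pow j
      rw [hc1] at h0
      exact (ha.pow_eq_one_iff_dvd j).mp h0
    · intro hj
      refine ⟨1, ?_⟩
      have haj : a ^ j = 1 := (ha.pow_eq_one_iff_dvd j).mpr hj
      rw [one_smul, ← Matrix.diagonal_one]
      congr 1
      ext i
      fin_cases i
      · exact haj
      · show (a⁻¹) ^ j = 1
        rw [inv_pow, haj, inv_one]
      · show (1 : K) ^ j = 1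
        exact one_pow j

end Cfsg.Agent.Helper8.PU3
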