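import Cfsg.Agent.Helper8.PU3F
set_option autoImplicit false

/-!
A hyperbolic frame for the standard Hermitian form in dimension three, and the elements of
`PSU₃(q)` of orders `(q² - 1)/d` and `p(q + 1)/d`.
-/

namespace Cfsg.Agent.Helper8.PU3

open Polynomial Matrix Cfsg Cfsg.Agent.Helper8.GUOrder Cfsg.Agent.Helper8.SUCenter
  Cfsg.Agent.Helper8.AutSU Cfsg.Agent.Helper8.PS3 Cfsg.Agent.Helper8.PGraph

variable {K : Type*} [Field K] [Fintype K] {q : ℕ} [hF : Fact (Fintype.card K = q ^ 2)]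

/-- the frame -/
def PP (ε : K) : Matrix (Fin 3) (Fin 3) K := !![1, 0, 1; 0, 1, 0; ε, 0, -ε]

/-- its inverse -/
noncomputable def QQ (ε : K) : Matrix (Fin 3) (Fin 3) K :=
  !![1 / 2, 0, ε⁻¹ / 2; 0, 1, 0; 1 / 2, 0, -ε⁻¹ / 2]

omit [Fintype K] hF in
theorem PP_mul_QQ {ε : K} (h2 : (2 : K) ≠ 0) (hε : ε ≠ 0) : PP ε * QQ ε = 1 := by
  ext i j
  fin_cases i <;> fin_cases j <;>
    simp [PP, QQ, Matrix.mul_apply, Fin.sum_univ_three] <;> field_simp <;> ring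

/-- the Gram matrix of the frame -/
theorem gram_PP {ε : K} (hε : ε * ε ^ q = -1) :
    (PP ε)ᵀ * (PP ε).map (· ^ q) = !![0, 0, 2; 0, 1, 0; 2, 0, 0] := by
  have hq := two_le_q' (K := K) (q := q)
  have hq0 : q ≠ 0 := by omega
  have hn : (-ε) ^ q = -(ε ^ q) := b_neg ε
  ext i j
  fin_cases i <;> fin_cases j <;>
    simp [PP, Matrix.mul_apply, Fin.sum_univ_three, hq0, hn, hε]
  · norm_num
  · norm_num

/-- diagonal matrices preserving the Gram matrix -/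
theorem diag_gram (d : Fin 3 → K) (h02 : d 0 * d 2 ^ q = 1) (h20 : d 2 * d 0 ^ q = 1)
    (h11 : d 1 * d 1 ^ q = 1) :
    (Matrix.diagonal d)ᵀ * (!![0, 0, 2; 0, 1, 0; 2, 0, 0] : Matrix (Fin 3) (Fin 3) K) *
      (Matrix.diagonal d).map (· ^ q) = !![0, 0, 2; 0, 1, 0; 2, 0, 0] := by
  have hq := two_le_q' (K := K) (q := q)
  have hq0 : q ≠ 0 := by omega
  rw [Matrix.diagonal_transpose, Matrix.diagonal_map (by simp [hq0])]
  ext i j
  fin_cases i <;> fin_cases j <;>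
    simp [Matrix.mul_apply, Fin.sum_univ_three, Matrix.diagonal_apply]
  · rw [mul_assoc, mul_comm 2, ← mul_assoc, h02, one_mul]
  · exact h11
  · rw [mul_assoc, mul_comm 2, ← mul_assoc, h20, one_mul]

omit [Fintype K] hF in
theorem diag_pow_smul_iff (d : Fin 3 → K) (j : ℕ) :
    (∃ c : K, Matrix.diagonal d ^ j = c • 1) ↔ d 0 ^ j = d 1 ^ j ∧ d 0 ^ j = d 2 ^ j := by
  rw [Matrix.diagonal_pow]
  constructor
  · rintro ⟨c, hc⟩
    have h0 := congrFun (congrFun hc 0) 0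
    have h1 := congrFun (congrFun hc 1) 1
    have h2 := congrFun (congrFun hc 2) 2
    rw [Matrix.diagonal_apply_eq, Matrix.smul_apply, Matrix.one_apply_eq, smul_eq_mul,
      mul_one] at h0 h1 h2
    simp only [Pi.pow_apply] at h0 h1 h2
    exact ⟨by rw [h0, h1], by rw [h0, h2]⟩
  · rintro ⟨h1, h2⟩
    refine ⟨d 0 ^ j, ?_⟩
    ext a b
    rw [Matrix.smul_apply, Matrix.one_apply, smul_eq_mul, Matrix.diagonal_apply]
    by_cases hab : a = b
    · subst hab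
      rw [if_pos rfl, if_pos rfl, mul_one]
      fin_cases a
      · rfl
      · exact h1.symm
      · exact h2.symm
    · rw [if_neg hab, if_neg hab, mul_zero]

theorem gcd_qsq_q_sub_two (hq : 2 ≤ q) : Nat.gcd (q ^ 2 - 1) (q - 2) = Nat.gcd 3 (q + 1) := by
  obtain ⟨s, rfl⟩ : ∃ s, q = s + 2 := ⟨q - 2, by omega⟩
  have e1 : (s + 2) ^ 2 - 1 = 3 + s * (s + 4) := by
    have : (s + 2) ^ 2 = 3 + s * (s + 4) + 1 := by ring
    omega
  have e2 : s + 2 - 2 = s := by omega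
  have e3 : s + 2 + 1 = s + 3 := by ring
  rw [e1, e2, e3, Nat.gcd_add_mul_left_left, Nat.gcd_add_self_right]

/-- an element of order `(q² - 1)/d` -/
theorem exists_orderOf_two (p : ℕ) [Fact p.Prime] [CharP K p] (hp : p ≠ 2) :
    ∃ x : PSU 3 K q, orderOf x = (q ^ 2 - 1) / Nat.gcd 3 (q + 1) := by
  have hq := two_le_q' (K := K) (q := q)
  have h2 : (2 : K) ≠ 0 := by
    have : ringChar K ≠ 2 := by rw [ringChar.eq K p]; exact hp
    exact Ring.two_ne_zero this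
  obtain ⟨ε, hε⟩ := exists_norm hF.out (c := (-1 : K)) (by norm_num) (neg_one_pow_q hF.out)
  have hε0 : ε ≠ 0 := by
    rintro rfl
    simp at hε
  obtain ⟨μ, hμ⟩ := PGLr.exists_primitiveRoot (F := K) (q ^ 2 - 1) (by rw [hF.out])
  have hm4 : 4 ≤ q ^ 2 := by nlinarith
  have hμ0 : μ ≠ 0 := hμ.ne_zero (by omega)
  have hμq0 : μ ^ q ≠ 0 := pow_ne_zero q hμ0
  set d : Fin 3 → K := ![μ, μ ^ q * μ⁻¹, (μ ^ q)⁻¹] with hd
  have hPQ := PP_mul_QQ h2 hε0
  apply exists_orderOf_psu 3 _ (by norm_num) (PP ε * Matrix.diagonal d * QQ ε)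
  · apply conj_unitary _ _ _ hPQ
    rw [gram_PP hε]
    apply diag_gram
    · show μ * ((μ ^ q)⁻¹) ^ q = 1
      rw [inv_pow, bb, mul_inv_cancel₀ hμ0]
    · show (μ ^ q)⁻¹ * μ ^ q = 1
      exact inv_mul_cancel₀ hμq0
    · show μ ^ q * μ⁻¹ * (μ ^ q * μ⁻¹) ^ q = 1
      rw [mul_pow, bb, inv_pow]
      field_simp
  · rw [conj_det _ _ _ hPQ, Matrix.det_diagonal, Fin.prod_univ_three]
    show μ * (μ ^ q * μ⁻¹) * (μ ^ q)⁻¹ = 1
    field_simp
  · intro j
    have e : (∃ c : K, (PP ε * Matrix.diagonal d * QQ ε) ^ j = c • 1) ↔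
        ∃ c : K, Matrix.diagonal d ^ j = c • 1 := by
      constructor
      · rintro ⟨c, hc⟩
        exact ⟨c, (conj_pow_eq_smul_iff _ _ _ hPQ j c).mp hc⟩
      · rintro ⟨c, hc⟩
        exact ⟨c, (conj_pow_eq_smul_iff _ _ _ hPQ j c).mpr hc⟩
    rw [e, diag_pow_smul_iff]
    show μ ^ j = (μ ^ q * μ⁻¹) ^ j ∧ μ ^ j = ((μ ^ q)⁻¹) ^ j ↔ _
    have hμj0 : μ ^ j ≠ 0 := pow_ne_zero j hμ0
    -- first condition
    have c1 : μ ^ j = (μ ^ q * μ⁻¹) ^ j ↔ q ^ 2 - 1 ∣ j * (q - 2) := by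
      rw [← hμ.pow_eq_one_iff_dvd]
      have e1 : (μ ^ q * μ⁻¹) ^ j * μ ^ j = μ ^ (j * (q - 2)) * (μ ^ j * μ ^ j) := by
        rw [← mul_pow, mul_assoc, inv_mul_cancel₀ hμ0, mul_one, ← pow_mul, ← pow_add,
          ← pow_add]
        congr 1
        have : q = (q - 2) + 2 := by omega
        conv_lhs => rw [this]
        ring
      constructor
      · intro h
        rw [← h] at e1
        have h3 : μ ^ j * μ ^ j ≠ 0 := mul_ne_zero hμj0 hμj0
        have h4 : 1 * (μ ^ j * μ ^ j) = μ ^ (j * (q - 2)) * (μ ^ j * μ ^ j) := by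
          rw [one_mul]; exact e1
        exact (mul_right_cancel₀ h3 h4).symm
      · intro h
        rw [h, one_mul] at e1
        exact (mul_right_cancel₀ hμj0 e1).symm
    -- second condition
    have c2 : μ ^ j = ((μ ^ q)⁻¹) ^ j ↔ q ^ 2 - 1 ∣ j * (q + 1) := by
      rw [← hμ.pow_eq_one_iff_dvd]
      have e1 : ((μ ^ q)⁻¹) ^ j * μ ^ (j * (q + 1)) = μ ^ j := by
        rw [inv_pow, ← pow_mul, mul_add, mul_one, pow_add, mul_comm j q, ← mul_assoc,
          inv_mul_cancel₀ (pow_ne_zero _ hμ0), one_mul]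
      constructor
      · intro h
        rw [← h] at e1
        have h4 : μ ^ j * μ ^ (j * (q + 1)) = μ ^ j * 1 := by rw [mul_one]; exact e1
        exact mul_left_cancel₀ hμj0 h4
      · intro h
        rw [h, mul_one] at e1
        exact e1.symm
    rw [c1, c2, dvd_mul_iff_div_gcd _ _ _ (by omega), gcd_qsq_q_sub_two hq]
    constructor
    · exact fun h => h.1
    · intro h
      refine ⟨h, ?_⟩
      obtain ⟨w, hw⟩ := h
      obtain ⟨e₁, he₁⟩ : Nat.gcd 3 (q + 1) ∣ q + 1 := Nat.gcd_dvd_right _ _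
      refine ⟨w * e₁, ?_⟩
      have hdm := gcd_mul_div_qsq hq
      calc j * (q + 1) = (q ^ 2 - 1) / Nat.gcd 3 (q + 1) * w * (q + 1) := by rw [hw]
        _ = (q ^ 2 - 1) / Nat.gcd 3 (q + 1) * w * (Nat.gcd 3 (q + 1) * e₁) := by rw [← he₁]
        _ = (Nat.gcd 3 (q + 1) * ((q ^ 2 - 1) / Nat.gcd 3 (q + 1))) * (w * e₁) := by ring
        _ = (q ^ 2 - 1) * (w * e₁) := by rw [hdm]

end Cfsg.Agent.Helper8.PU3
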