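import Cfsg.Agent.Helper8.PU3G
set_option autoImplicit false

/-!
The elements of `PSU₃(q)` of order `p(q + 1)/d`.
-/

namespace Cfsg.Agent.Helper8.PU3

open Polynomial Matrix Cfsg Cfsg.Agent.Helper8.GUOrder Cfsg.Agent.Helper8.SUCenter
  Cfsg.Agent.Helper8.AutSU Cfsg.Agent.Helper8.PS3 Cfsg.Agent.Helper8.PGraph

variable {K : Type*} [Field K] [Fintype K] {q : ℕ} [hF : Fact (Fintype.card K = q ^ 2)]

/-- the mixed element in the hyperbolic frame -/
def DD (a c : K) : Matrix (Fin 3) (Fin 3) K := !![a, 0, a * c; 0, a⁻¹ * a⁻¹, 0; 0, 0, a]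

omit [Fintype K] hF in
theorem DD_pow (a c : K) (j : ℕ) :
    DD a c ^ j = !![a ^ j, 0, (j : K) * a ^ j * c; 0, (a⁻¹ * a⁻¹) ^ j, 0; 0, 0, a ^ j] := by
  induction j with
  | zero =>
    ext i k
    fin_cases i <;> fin_cases k <;> simp
  | succ j ih =>
    rw [pow_succ, ih]
    ext i k
    fin_cases i <;> fin_cases k <;>
      simp [DD, Matrix.mul_apply, Fin.sum_univ_three] <;> ring

theorem DD_gram {a c : K} (ha : a * a ^ q = 1) (hc : c ^ q + c = 0) :
    (DD a c)ᵀ * (!![0, 0, 2; 0, 1, 0; 2, 0, 0] : Matrix (Fin 3) (Fin 3) K) *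
      (DD a c).map (· ^ q) = !![0, 0, 2; 0, 1, 0; 2, 0, 0] := by
  have hq := two_le_q' (K := K) (q := q)
  have hq0 : q ≠ 0 := by omega
  have ha0 : a ≠ 0 := by
    rintro rfl
    simp [hq0] at ha
  have hcq : c ^ q = -c := by linear_combination hc
  have hinv : (a⁻¹) ^ q = a := by
    rw [inv_pow, eq_inv_of_mul_eq_one_right ha, inv_inv]
  ext i j
  fin_cases i <;> fin_cases j <;>
    simp [DD, Matrix.mul_apply, Fin.sum_univ_three, hq0, mul_pow, hcq, hinv]
  · linear_combination (2 : K) * ha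
  · field_simp
  · linear_combination (2 : K) * ha
  · linear_combination (-2 * c + 2 * c) * ha

omit [Fintype K] hF in
theorem DD_det {a c : K} (ha0 : a ≠ 0) : (DD a c).det = 1 := by
  rw [Matrix.det_fin_three]
  simp [DD]
  field_simp

include hF in
theorem p_coprime_q_add_one (p : ℕ) [Fact p.Prime] [CharP K p] : p.Coprime (q + 1) := by
  obtain ⟨k, hk⟩ := exists_q_eq_pow (K := K) (q := q) p
  have hp : p.Prime := Fact.out
  have hq := two_le_q' (K := K) (q := q)
  have hk0 : k ≠ 0 := by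
    rintro rfl
    rw [pow_zero] at hk
    omega
  have hpq : p ∣ q := by rw [hk]; exact dvd_pow_self p hk0
  obtain ⟨w, hw⟩ := hpq
  rw [hw, Nat.coprime_mul_left_add_right]
  exact Nat.coprime_one_right p

theorem mul_dvd_iff_coprime' (r p : ℕ) (hrp : r.Coprime p) (j : ℕ) :
    r * p ∣ j ↔ r ∣ j ∧ p ∣ j := by
  constructor
  · intro h
    exact ⟨dvd_trans (dvd_mul_right r p) h, dvd_trans (dvd_mul_left p r) h⟩
  · rintro ⟨h1, h2⟩
    exact hrp.mul_dvd_of_dvd_of_dvd h1 h2

/-- an element of order `p(q + 1)/d` -/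
theorem exists_orderOf_three (p : ℕ) [Fact p.Prime] [CharP K p] (hp : p ≠ 2) :
    ∃ x : PSU 3 K q, orderOf x = p * (q + 1) / Nat.gcd 3 (q + 1) := by
  have hq := two_le_q' (K := K) (q := q)
  have hp' : p.Prime := Fact.out
  have h2 : (2 : K) ≠ 0 := by
    have : ringChar K ≠ 2 := by rw [ringChar.eq K p]; exact hp
    exact Ring.two_ne_zero this
  obtain ⟨ε, hε⟩ := exists_norm hF.out (c := (-1 : K)) (by norm_num) (neg_one_pow_q hF.out)
  have hε0 : ε ≠ 0 := by
    rintro rfl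
    simp at hε
  have hdvd : q + 1 ∣ Fintype.card K - 1 := by
    rw [hF.out, qsq_sub_one hF.out]
    exact dvd_mul_left _ _
  obtain ⟨a, ha⟩ := PGLr.exists_primitiveRoot (F := K) (q + 1) hdvd
  have ha1 : a * a ^ q = 1 := by rw [mul_comm, ← pow_succ]; exact ha.pow_eq_one
  have ha0 : a ≠ 0 := by
    rintro rfl
    simp at ha1
  obtain ⟨c, hc0, hc⟩ := exists_trace_zero hF.out (K := K)
  have hPQ := PP_mul_QQ h2 hε0
  rw [Nat.mul_div_assoc p (Nat.gcd_dvd_right _ _)]
  apply exists_orderOf_psu 3 _ (by norm_num) (PP ε * DD a c * QQ ε)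
  · apply conj_unitary _ _ _ hPQ
    rw [gram_PP hε]
    exact DD_gram ha1 hc
  · rw [conj_det _ _ _ hPQ, DD_det ha0]
  · intro j
    have e : (∃ c' : K, (PP ε * DD a c * QQ ε) ^ j = c' • 1) ↔
        ∃ c' : K, DD a c ^ j = c' • 1 := by
      constructor
      · rintro ⟨c', hc'⟩
        exact ⟨c', (conj_pow_eq_smul_iff _ _ _ hPQ j c').mp hc'⟩
      · rintro ⟨c', hc'⟩
        exact ⟨c', (conj_pow_eq_smul_iff _ _ _ hPQ j c').mpr hc'⟩
    rw [e, DD_pow]
    have haj0 : a ^ j ≠ 0 := pow_ne_zero j ha0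
    have e2 : (∃ c' : K, (!![a ^ j, 0, (j : K) * a ^ j * c; 0, (a⁻¹ * a⁻¹) ^ j, 0; 0, 0, a ^ j] :
        Matrix (Fin 3) (Fin 3) K) = c' • 1) ↔ (j : K) = 0 ∧ a ^ (j * 3) = 1 := by
      constructor
      · rintro ⟨c', hc'⟩
        have h00 := congrFun (congrFun hc' 0) 0
        have h11 := congrFun (congrFun hc' 1) 1
        have h02 := congrFun (congrFun hc' 0) 2
        simp at h00 h11 h02
        refine ⟨?_, ?_⟩
        · rcases h02 with (h | h) | h
          · exact h
          · exact absurd h.1 ha0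
          · exact absurd h hc0
        · rw [← h11] at h00
          rw [pow_mul]
          have : (a ^ j) ^ 3 * (a⁻¹ * a⁻¹) ^ j = a ^ j * ((a * a⁻¹) * (a * a⁻¹)) ^ j := by
            simp only [mul_pow]; ring
          rw [mul_inv_cancel₀ ha0, one_mul, one_pow, mul_one, ← h00] at this
          have h3 : (a ^ j) ^ 3 * a ^ j = 1 * a ^ j := by rw [one_mul]; exact this
          exact mul_right_cancel₀ haj0 h3
      · rintro ⟨hj, h3⟩
        refine ⟨a ^ j, ?_⟩
        have h4 : (a⁻¹ * a⁻¹) ^ j = a ^ j := by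
          have : a ^ j * a ^ j * (a⁻¹ * a⁻¹) ^ j = 1 := by
            rw [← mul_pow, ← mul_pow]
            have : a * a * (a⁻¹ * a⁻¹) = 1 := by field_simp
            rw [this, one_pow]
          rw [pow_mul] at h3
          have h5 : a ^ j * a ^ j * (a⁻¹ * a⁻¹) ^ j = a ^ j * a ^ j * a ^ j := by
            rw [this, ← h3]; ring
          exact mul_left_cancel₀ (mul_ne_zero haj0 haj0) h5
        ext i k
        fin_cases i <;> fin_cases k <;> simp [hj, h4]
    rw [e2, CharP.cast_eq_zero_iff K p, ha.pow_eq_one_iff_dvd,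
      dvd_mul_iff_div_gcd _ _ _ (by omega), Nat.gcd_comm (q + 1) 3,
      mul_dvd_iff_coprime']
    exact Nat.Coprime.coprime_dvd_right (Nat.div_dvd_of_dvd (Nat.gcd_dvd_right _ _))
      (p_coprime_q_add_one (K := K) p)

end Cfsg.Agent.Helper8.PU3
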