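import Mathlib
import Cfsg.Agent.S0755
import Cfsg.Agent.Helper8.AutSUl
import Cfsg.Agent.Helper8.GUOrder

set_option autoImplicit false

/-!
An isometry of prime order `r` (prime to `q`) of a nondegenerate Hermitian space of dimension `n`
over the field with `q²` elements: `r` divides `q ^ i - (-1) ^ i` for some `1 ≤ i ≤ n`.
-/

namespace Cfsg.Agent.Helper8.UnitCom

open Matrix Cfsg Cfsg.Agent.Helper7.Herm Cfsg.Agent.Helper8.GUOrder Cfsg.Agent.Helper8.AutSU

variable {F : Type*} [Field F] [Fintype F] {q : ℕ} [hF : Fact (Fintype.card F = q ^ 2)]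

/-- `q ^ i - (-1) ^ i` -/
def tw (q i : ℕ) : ℕ := if Even i then q ^ i - 1 else q ^ i + 1

theorem frobq_ne_id : frobq F q ≠ RingHom.id F := by
  intro h
  obtain ⟨a, ha⟩ := exists_not_fixed hF.out (K := F)
  apply ha
  have := congrArg (fun φ : F →+* F => φ a) h
  exact this

theorem frobq_frobq (a : F) : frobq F q (frobq F q a) = a := bb a

variable {V : Type*} [AddCommGroup V] [Module F V] [FiniteDimensional F V]

/-- the form in orthonormal coordinates -/
theorem form_coords (B : V →ₛₗ[frobq F q] V →ₗ[F] F) {n : ℕ} (b : Module.Basis (Fin n) F V)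
    (hb : ∀ i j, B (b i) (b j) = if i = j then 1 else 0) (x y : V) :
    B x y = hermForm n F q (b.equivFun y) (b.equivFun x) := by
  have e1 : ∀ v : V, B x v = ∑ i, (b.equivFun x i) ^ q * B (b i) v := by
    intro v
    conv_lhs => rw [← b.sum_equivFun x]
    rw [map_sum, LinearMap.sum_apply]
    apply Finset.sum_congr rfl
    intro i _
    rw [LinearMap.map_smulₛₗ, LinearMap.smul_apply, frobq_apply, smul_eq_mul]
  have e2 : ∀ i, B (b i) y = b.equivFun y i := by
    intro i
    conv_lhs => rw [← b.sum_equivFun y]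
    rw [map_sum, Finset.sum_eq_single i]
    · rw [map_smul, hb, if_pos rfl, smul_eq_mul, mul_one]
    · intro j _ hji
      rw [map_smul, hb, if_neg (Ne.symm hji), smul_zero]
    · intro h
      exact absurd (Finset.mem_univ i) h
  rw [e1]
  unfold hermForm
  apply Finset.sum_congr rfl
  intro i _
  rw [e2, mul_comm]

theorem order_bound (B : V →ₛₗ[frobq F q] V →ₗ[F] F) (hS : B.IsSymm) (hB : B.Nondegenerate)
    (g : V →ₗ[F] V) (hg : ∀ x y, B (g x) (g y) = B x y) (r : ℕ) [hr : Fact r.Prime]
    (hrq : ¬ r ∣ q) (hgr : g ^ r = 1) (hg1 : g ≠ 1) :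
    ∃ i, 1 ≤ i ∧ i ≤ Module.finrank F V ∧ r ∣ tw q i := by
  classical
  obtain ⟨b, hb⟩ := Cfsg.Agent.S0755.result (frobq F q) frobq_ne_id frobq_frobq B hS hB
  let φ := LinearMap.toMatrixAlgEquiv b
  set M : Matrix (Fin (Module.finrank F V)) (Fin (Module.finrank F V)) F := φ g with hM
  have hMr : M ^ r = 1 := by rw [hM, ← map_pow, hgr, map_one]
  have hM1 : M ≠ 1 := by
    intro e
    apply hg1
    apply φ.injective
    rw [← hM, e, map_one]
  have hr1 : 1 ≤ r := hr.out.one_lt.le
  have hinv1 : M * M ^ (r - 1) = 1 := by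
    rw [← pow_succ', Nat.sub_add_cancel hr1, hMr]
  have hinv2 : M ^ (r - 1) * M = 1 := by
    rw [← pow_succ, Nat.sub_add_cancel hr1, hMr]
  let Mu : GL (Fin (Module.finrank F V)) F := ⟨M, M ^ (r - 1), hinv1, hinv2⟩
  have hmv : ∀ x : V, M *ᵥ b.equivFun x = b.equivFun (g x) := by
    intro x
    have := LinearMap.toMatrix_mulVec_repr b b g x
    exact this
  have hmem : Mu ∈ GU (Module.finrank F V) F q := by
    intro u v
    show hermForm (Module.finrank F V) F q (M *ᵥ u) (M *ᵥ v) = hermForm (Module.finrank F V) F q u v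
    obtain ⟨x, rfl⟩ := b.equivFun.surjective u
    obtain ⟨y, rfl⟩ := b.equivFun.surjective v
    rw [hmv, hmv, ← form_coords B b hb, ← form_coords B b hb, hg]
  let G : GU (Module.finrank F V) F q := ⟨Mu, hmem⟩
  have hGr : G ^ r = 1 := by
    apply Subtype.ext
    apply Units.ext
    show (M ^ r : Matrix (Fin (Module.finrank F V)) (Fin (Module.finrank F V)) F) = 1
    exact hMr
  have hG1 : G ≠ 1 := by
    intro e
    apply hM1
    have := congrArg (fun z : GU (Module.finrank F V) F q => ((z : GL (Fin (Module.finrank F V)) F) : Matrix (Fin (Module.finrank F V)) (Fin (Module.finrank F V)) F)) e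
    exact this
  have hord : orderOf G = r := orderOf_eq_prime hGr hG1
  have hdvd : r ∣ Nat.card (GU (Module.finrank F V) F q) := by
    rw [← hord]
    exact orderOf_dvd_natCard G
  rw [card_GU hF.out (Module.finrank F V)] at hdvd
  rcases (Nat.Prime.dvd_mul hr.out).1 hdvd with h1 | h1
  · exfalso
    exact hrq (hr.out.dvd_of_dvd_pow h1)
  · obtain ⟨i, hi, hri⟩ := (Prime.dvd_finsetProd_iff hr.out.prime _).1 h1
    rw [Finset.mem_range] at hi
    refine ⟨i + 1, by omega, by omega, ?_⟩
    unfold tw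
    by_cases hev : Even i
    · rw [if_pos hev] at hri
      rw [if_neg (by rw [Nat.even_add_one]; exact not_not.2 hev)]
      exact hri
    · rw [if_neg hev] at hri
      rw [if_pos (by rw [Nat.even_add_one]; exact hev)]
      exact hri

end Cfsg.Agent.Helper8.UnitCom
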