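import Cfsg.Agent.Helper8.PU3H
import Cfsg.Agent.Helper8.UnitComA
set_option autoImplicit false

/-!
The cubic extension of the field with `q²` elements as a Hermitian space: the form
`Tr(x^(q³) y)`, and the matrices of multiplications by elements of norm one.
-/

namespace Cfsg.Agent.Helper8.PU3

open Polynomial Matrix Cfsg Cfsg.Agent.Helper8.GUOrder Cfsg.Agent.Helper8.SUCenter
  Cfsg.Agent.Helper8.AutSU Cfsg.Agent.Helper8.PS3 Cfsg.Agent.Helper8.PGraph

variable {K : Type*} [Field K] [Fintype K] {q : ℕ} [hF : Fact (Fintype.card K = q ^ 2)]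

/-- a matrix preserving the standard Hermitian form is unitary -/
theorem unitary_of_preserves {n : ℕ} (M : Matrix (Fin n) (Fin n) K)
    (h : ∀ u v, hermForm n K q (M *ᵥ u) (M *ᵥ v) = hermForm n K q u v) :
    Mᵀ * M.map (· ^ q) = 1 := by
  have hq := two_le_q' (K := K) (q := q)
  ext i j
  have h' := h (Pi.single i 1) (Pi.single j 1)
  rw [hermForm_mulVec_mulVec hF.out, hermForm_eq_dot] at h'
  have e1 : (fun k => (Pi.single j (1 : K) : Fin n → K) k ^ q) = Pi.single j 1 := by
    ext k
    by_cases hk : k = j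
    · subst hk; simp
    · simp [Pi.single_eq_of_ne hk, zero_pow (show q ≠ 0 by omega)]
  rw [e1, mulVec_single_one, single_dotProduct, single_dotProduct, one_mul, one_mul] at h'
  rw [Matrix.one_apply]
  rw [Matrix.col_apply] at h'
  rw [h', Pi.single_apply]

variable {L : Type*} [Field L] [Algebra K L] [Finite L]

include hF in
/-- the trace commutes with the `q`-power maps -/
theorem trace_pow_q (p : ℕ) [Fact p.Prime] [CharP K p] (z : L) :
    (Algebra.trace K L z) ^ q = Algebra.trace K L (z ^ q) := by
  obtain ⟨k, hk⟩ := exists_q_eq_pow (K := K) (q := q) p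
  have : CharP L p := charP_of_injective_algebraMap (algebraMap K L).injective p
  have hfr : ∀ x : L, iterateFrobenius L p k x = x ^ q := by
    intro x
    rw [iterateFrobenius_def, ← hk]
  apply (algebraMap K L).injective
  rw [map_pow, FiniteField.algebraMap_trace_eq_sum_pow, FiniteField.algebraMap_trace_eq_sum_pow,
    ← hfr, map_sum]
  apply Finset.sum_congr rfl
  intro i _
  rw [map_pow, hfr]

omit [Fintype K] hF in
theorem trace_pow_card (z : L) [Fintype K] :
    Algebra.trace K L (z ^ Fintype.card K) = Algebra.trace K L z := by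
  have h := Algebra.trace_eq_of_algEquiv (FiniteField.frobeniusAlgEquivOfAlgebraic K L) z
  rw [FiniteField.coe_frobeniusAlgEquivOfAlgebraic] at h
  exact h

theorem pow_q_cube (c : K) : c ^ (q ^ 3) = c ^ q := by
  have : q ^ 3 = q ^ 2 * q := by ring
  rw [this, pow_mul, pow_qsq]

variable (L) in
/-- the semilinear map `x ↦ x^(q³)` -/
noncomputable def phi3 : L →ₛₗ[frobq K q] L where
  toFun x := x ^ (q ^ 3)
  map_add' x y := by
    obtain ⟨p, hp⟩ := CharP.exists K
    have := hp
    have : Fact p.Prime := ⟨CharP.char_is_prime K p⟩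
    obtain ⟨k, hk⟩ := exists_q_eq_pow (K := K) (q := q) p
    have : CharP L p := charP_of_injective_algebraMap (algebraMap K L).injective p
    have : q ^ 3 = p ^ (k * 3) := by rw [hk, ← pow_mul]
    rw [this]
    exact add_pow_char_pow x y p (k * 3)
  map_smul' c x := by
    rw [Algebra.smul_def, Algebra.smul_def, mul_pow, ← map_pow, frobq_apply, pow_q_cube]

theorem phi3_apply (x : L) : phi3 (K := K) (q := q) L x = x ^ (q ^ 3) := rfl

variable (L) in
/-- the Hermitian form `Tr(x^(q³) y)` -/
noncomputable def trB : L →ₛₗ[frobq K q] L →ₗ[K] K :=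
  LinearMap.comp (Algebra.traceForm K L : L →ₗ[K] L →ₗ[K] K) (phi3 (K := K) (q := q) L)

theorem trB_apply (x y : L) :
    trB (K := K) (q := q) L x y = Algebra.trace K L (x ^ (q ^ 3) * y) := rfl

include hF in
theorem pow_q_six (hfin : Module.finrank K L = 3) (x : L) : x ^ (q ^ 6) = x := by
  have : Fintype L := Fintype.ofFinite L
  have hcard : Fintype.card L = q ^ 6 := by
    rw [Module.card_eq_pow_finrank (K := K) (V := L), hfin, hF.out, ← pow_mul]
  rw [← hcard]
  exact FiniteField.pow_card x

theorem trB_isSymm (hfin : Module.finrank K L = 3) : (trB (K := K) (q := q) L).IsSymm := by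
  obtain ⟨p, hp⟩ := CharP.exists K
  have := hp
  have : Fact p.Prime := ⟨CharP.char_is_prime K p⟩
  refine ⟨fun x y => ?_⟩
  rw [trB_apply, trB_apply, frobq_apply, trace_pow_q (hF := hF) p, ← trace_pow_card (K := K),
    hF.out, mul_pow, mul_pow, ← pow_mul, ← pow_mul, ← pow_mul]
  have e1 : q ^ 3 * (q * q ^ 2) = q ^ 6 := by ring
  have e2 : q * q ^ 2 = q ^ 3 := by ring
  rw [e1, e2, pow_q_six (hF := hF) hfin, mul_comm]

theorem trB_nondegenerate (hfin : Module.finrank K L = 3) :
    (trB (K := K) (q := q) L).Nondegenerate := by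
  have hq := two_le_q' (K := K) (q := q)
  have hnd := traceForm_nondegenerate K L
  constructor
  · intro x hx
    have h1 : x ^ (q ^ 3) = 0 := hnd.1 _ (fun y => by
      rw [Algebra.traceForm_apply]; exact hx y)
    exact pow_eq_zero_iff (by positivity) |>.mp h1
  · intro y hy
    apply hnd.2 y
    intro z
    rw [Algebra.traceForm_apply]
    have := hy (z ^ (q ^ 3))
    rw [trB_apply, ← pow_mul] at this
    have e : q ^ 3 * q ^ 3 = q ^ 6 := by ring
    rw [e, pow_q_six (hF := hF) hfin] at this
    exact this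

end Cfsg.Agent.Helper8.PU3
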