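import Cfsg.Agent.Helper8.PU3I
import Cfsg.Agent.Helper8.PS3Torus
set_option autoImplicit false

/-!
Multiplication by an element of norm one of the cubic extension as an element of `SU₃(q)`, and the
elements of `PSU₃(q)` of order `(q² - q + 1)/d`.
-/

namespace Cfsg.Agent.Helper8.PU3

open Polynomial Matrix Cfsg Cfsg.Agent.Helper8.GUOrder Cfsg.Agent.Helper8.SUCenter
  Cfsg.Agent.Helper8.AutSU Cfsg.Agent.Helper8.PS3 Cfsg.Agent.Helper8.PGraph
  Cfsg.Agent.Helper8.UnitCom

variable {K : Type*} [Field K] [Fintype K] {q : ℕ} [hF : Fact (Fintype.card K = q ^ 2)]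
variable {L : Type*} [Field L] [Algebra K L] [Finite L]

theorem exists_matrix_of_norm_one (hfin : Module.finrank K L = 3) (β : L)
    (hβ1 : β ^ (q ^ 3 + 1) = 1) (hβ2 : Algebra.norm K β = 1) :
    ∃ M : Matrix (Fin 3) (Fin 3) K, Mᵀ * M.map (· ^ q) = 1 ∧ M.det = 1 ∧
      ∀ (j : ℕ) (c : K), M ^ j = c • 1 ↔ β ^ j = algebraMap K L c := by
  classical
  obtain ⟨b, hb⟩ := Cfsg.Agent.S0755.result (frobq K q) frobq_ne_id frobq_frobq
    (trB (K := K) (q := q) L) (trB_isSymm hfin) (trB_nondegenerate hfin)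
  set b' : Module.Basis (Fin 3) K L := b.reindex (finCongr hfin) with hb'
  have hb'o : ∀ i j, trB (K := K) (q := q) L (b' i) (b' j) = if i = j then 1 else 0 := by
    intro i j
    rw [hb', Module.Basis.reindex_apply, Module.Basis.reindex_apply, hb]
    by_cases hij : i = j
    · rw [if_pos hij, if_pos (by rw [hij])]
    · rw [if_neg hij, if_neg (fun h => hij ((finCongr hfin).symm.injective h))]
  set f : L →ₗ[K] L := LinearMap.mulLeft K β with hf
  set M : Matrix (Fin 3) (Fin 3) K := LinearMap.toMatrix b' b' f with hM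
  have hmv : ∀ x : L, M *ᵥ b'.equivFun x = b'.equivFun (β * x) := by
    intro x
    exact LinearMap.toMatrix_mulVec_repr b' b' f x
  have hiso : ∀ x y : L, trB (K := K) (q := q) L (β * x) (β * y) = trB (K := K) (q := q) L x y := by
    intro x y
    rw [trB_apply, trB_apply, mul_pow]
    have : β ^ q ^ 3 * x ^ q ^ 3 * (β * y) = β ^ (q ^ 3 + 1) * (x ^ q ^ 3 * y) := by
      rw [pow_succ]; ring
    rw [this, hβ1, one_mul]
  have e3 : ∀ j : ℕ, f ^ j = LinearMap.mulLeft K (β ^ j) := by
    intro j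
    rw [hf]
    induction j with
    | zero => rw [pow_zero, pow_zero]; ext x; simp
    | succ j ih =>
      rw [pow_succ, ih, pow_succ]
      ext x
      simp [mul_assoc]
  refine ⟨M, ?_, ?_, ?_⟩
  · apply unitary_of_preserves
    intro u v
    obtain ⟨x, rfl⟩ := b'.equivFun.surjective u
    obtain ⟨y, rfl⟩ := b'.equivFun.surjective v
    rw [hmv, hmv, ← form_coords _ b' hb'o, ← form_coords _ b' hb'o, hiso]
  · rw [hM, LinearMap.det_toMatrix, hf, ← hβ2, Algebra.norm_apply]
    rfl
  · intro j c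
    have e1 : M ^ j = LinearMap.toMatrixAlgEquiv b' (f ^ j) := by
      rw [map_pow]; rfl
    have e2 : (c • 1 : Matrix (Fin 3) (Fin 3) K) =
        LinearMap.toMatrixAlgEquiv b' (c • (1 : L →ₗ[K] L)) := by
      rw [map_smul, map_one]
    rw [e1, e2, (LinearMap.toMatrixAlgEquiv b').injective.eq_iff, e3]
    constructor
    · intro h
      have := congrArg (fun g : L →ₗ[K] L => g 1) h
      simp at this
      rw [this, Algebra.algebraMap_eq_smul_one]
    · intro h
      ext x
      simp [h, Algebra.smul_def]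

end Cfsg.Agent.Helper8.PU3
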