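import Cfsg.Agent.Helper8.PU3J
set_option autoImplicit false

/-!
The elements of `PSU₃(q)` of order `(q² - q + 1)/d`, and the set of element orders of `PSU₃(q)`.
-/

namespace Cfsg.Agent.Helper8.PU3

open Polynomial Matrix Cfsg Cfsg.Agent.Helper8.GUOrder Cfsg.Agent.Helper8.SUCenter
  Cfsg.Agent.Helper8.AutSU Cfsg.Agent.Helper8.PS3 Cfsg.Agent.Helper8.PGraph
  Cfsg.Agent.Helper8.UnitCom

variable {K : Type*} [Field K] [Fintype K] {q : ℕ} [hF : Fact (Fintype.card K = q ^ 2)]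

theorem gcd_N_qsq (s : ℕ) :
    Nat.gcd ((s + 2) ^ 2 - (s + 2) + 1) ((s + 2) ^ 2 - 1) = Nat.gcd 3 (s + 2 + 1) := by
  have e1 : (s + 2) ^ 2 - (s + 2) + 1 = 3 + s * (s + 3) := by
    have : (s + 2) ^ 2 = 3 + s * (s + 3) + (s + 2) - 1 := by
      have : (s + 2) ^ 2 = 3 + s * (s + 3) + (s + 1) := by ring
      omega
    omega
  have e2 : (s + 2) ^ 2 - 1 = 3 + s * (s + 3) + s := by
    have : (s + 2) ^ 2 = 3 + s * (s + 3) + s + 1 := by ring
    omega
  have e3 : s + 2 + 1 = s + 3 := by ring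
  rw [e2, e1, Nat.gcd_self_add_right, Nat.gcd_add_mul_left_left, e3, Nat.gcd_add_self_right]

/-- an element of order `(q² - q + 1)/d` -/
theorem exists_orderOf_four (p : ℕ) [Fact p.Prime] [CharP K p] (hq3 : 3 ≤ q) :
    ∃ x : PSU 3 K q, orderOf x = (q ^ 2 - q + 1) / Nat.gcd 3 (q + 1) := by
  have hp : p.Prime := Fact.out
  obtain ⟨s, rfl⟩ : ∃ s, q = s + 2 := ⟨q - 2, by omega⟩
  have hs1 : 1 ≤ s := by omega
  set N := (s + 2) ^ 2 - (s + 2) + 1 with hN
  have hN' : N = s ^ 2 + 3 * s + 3 := by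
    rw [hN]
    have : (s + 2) ^ 2 = s ^ 2 + 3 * s + 3 + (s + 2) - 1 := by
      have : (s + 2) ^ 2 = s ^ 2 + 3 * s + 3 + (s + 1) := by ring
      omega
    omega
  have hN1 : 1 < N := by rw [hN']; omega
  have hcop : p.Coprime N := by
    obtain ⟨k, hk⟩ := exists_q_eq_pow (K := K) (q := s + 2) p
    have hk0 : k ≠ 0 := by
      rintro rfl
      rw [pow_zero] at hk
      omega
    obtain ⟨w, hw⟩ : p ∣ s + 2 := by rw [hk]; exact dvd_pow_self p hk0
    have : N = p * (w * (s + 1)) + 1 := by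
      rw [hN', ← mul_assoc, ← hw]; ring
    rw [this, Nat.coprime_mul_left_add_right]
    exact Nat.coprime_one_right p
  obtain ⟨P, hP1, hP2, hP3, hP4⟩ := exists_cyclotomic_factor (F := K) p N hN1 hcop
  have : Fact (Irreducible P) := ⟨hP2⟩
  have hdeg : P.natDegree = 3 := by
    rw [hP3, hF.out]
    have : Fact (Nat.Prime 3) := ⟨Nat.prime_three⟩
    apply orderOf_eq_prime
    · rw [← Nat.cast_pow]
      have : ((s + 2) ^ 2) ^ 3 = N * ((s ^ 3 + 6 * s ^ 2 + 12 * s + 7) * (s + 3)) + 1 := by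
        rw [hN']; ring
      rw [this, Nat.cast_add, Nat.cast_mul, ZMod.natCast_self, zero_mul, zero_add, Nat.cast_one]
    · intro h
      have h1 : (((s + 2) ^ 2 : ℕ) : ZMod N) = ((1 : ℕ) : ZMod N) := by
        rw [h, Nat.cast_one]
      rw [ZMod.natCast_eq_natCast_iff'] at h1
      have h2 : (s + 2) ^ 2 = N + (s + 1) := by rw [hN']; ring
      rw [h2, Nat.add_mod_left, Nat.mod_eq_of_lt (by rw [hN']; nlinarith),
        Nat.mod_eq_of_lt hN1] at h1
      omega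
  have : Module.Finite K (AdjoinRoot P) := hP1.finite_adjoinRoot
  have : Finite (AdjoinRoot P) := Module.finite_of_finite K
  have hfin : Module.finrank K (AdjoinRoot P) = 3 := by
    rw [(AdjoinRoot.powerBasis hP2.ne_zero).finrank, AdjoinRoot.powerBasis_dim, hdeg]
  set β := AdjoinRoot.root P with hβ
  have hβN : β ^ N = 1 := by rw [← hP4]; exact pow_orderOf_eq_one β
  have hβ0 : β ≠ 0 := by
    intro h
    rw [h, zero_pow (by omega)] at hβN
    exact zero_ne_one hβN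
  have hβ1 : β ^ ((s + 2) ^ 3 + 1) = 1 := by
    have : (s + 2) ^ 3 + 1 = N * (s + 3) := by rw [hN']; ring
    rw [this, pow_mul, hβN, one_pow]
  have hβ2 : Algebra.norm K β = 1 := by
    apply (algebraMap K (AdjoinRoot P)).injective
    rw [FiniteField.algebraMap_norm_eq_pow, map_one, card_adjoinRoot P hP1, hdeg,
      Nat.card_eq_fintype_card, hF.out]
    have e1 : (((s + 2) ^ 2) ^ 3 - 1) / ((s + 2) ^ 2 - 1) = N * ((s + 2) ^ 2 + (s + 2) + 1) := by
      have h4 : 4 ≤ (s + 2) ^ 2 := by nlinarith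
      obtain ⟨u, hu⟩ : ∃ u, (s + 2) ^ 2 = u + 1 := ⟨(s + 2) ^ 2 - 1, by omega⟩
      have e2 : N * ((s + 2) ^ 2 + (s + 2) + 1) = (u + 1) ^ 2 + (u + 1) + 1 := by
        rw [← hu, hN']; ring
      rw [e2, hu, Nat.add_sub_cancel]
      have : (u + 1) ^ 3 - 1 = u * ((u + 1) ^ 2 + (u + 1) + 1) := by
        have : (u + 1) ^ 3 = u * ((u + 1) ^ 2 + (u + 1) + 1) + 1 := by ring
        omega
      rw [this]
      exact Nat.mul_div_cancel_left _ (by omega)
    rw [e1, pow_mul, hβN, one_pow]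
  obtain ⟨M, hMU, hMdet, hMpow⟩ := exists_matrix_of_norm_one (K := K) (q := s + 2) hfin β hβ1 hβ2
  apply exists_orderOf_psu 3 _ (by norm_num) M hMU hMdet
  intro j
  have e1 : (∃ c : K, M ^ j = c • 1) ↔ ∃ c : K, β ^ j = AdjoinRoot.of P c := by
    constructor
    · rintro ⟨c, hc⟩
      exact ⟨c, (hMpow j c).mp hc⟩
    · rintro ⟨c, hc⟩
      exact ⟨c, (hMpow j c).mpr hc⟩
  rw [e1, root_pow_mem_range_iff P hβ0, ← orderOf_dvd_iff_pow_eq_one, hP4, hF.out,
    dvd_mul_iff_div_gcd _ _ _ (by omega), gcd_N_qsq]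

end Cfsg.Agent.Helper8.PU3
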