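import Mathlib
import Cfsg.Agent.Helper8.FlagLI

set_option autoImplicit false

/-! The order of a block triangular subgroup of `GL_n(q)`. -/

namespace Cfsg.Agent.Helper8.Parab

open Module Cfsg.Agent.Helper8.FlagLI

variable {F : Type*} [Field F] {n : ℕ}

/-- Vectors supported on the positions of label at most `b j`. -/
def colSpace (F : Type*) [Field F] (b : Fin n → ℕ) (j : Fin n) : Submodule F (Fin n → F) where
  carrier := {v | ∀ i, b j < b i → v i = 0}
  add_mem' := by
    intro v w hv hw i hi
    rw [Pi.add_apply, hv i hi, hw i hi, add_zero]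
  zero_mem' := fun _ _ => rfl
  smul_mem' := by
    intro c v hv i hi
    rw [Pi.smul_apply, hv i hi, smul_zero]

theorem mem_colSpace (b : Fin n → ℕ) (j : Fin n) (v : Fin n → F) :
    v ∈ colSpace F b j ↔ ∀ i, b j < b i → v i = 0 := Iff.rfl

theorem colSpace_mono (b : Fin n → ℕ) (hb : Monotone b) : Monotone (colSpace F b) := by
  intro j j' hjj' v hv i hi
  exact hv i (lt_of_le_of_lt (hb hjj') hi)

/-- The cardinality of `colSpace`. -/
theorem card_colSpace [Fintype F] (b : Fin n → ℕ) (j : Fin n) :
    Nat.card (colSpace F b j)
      = Fintype.card F ^ (Finset.univ.filter (fun i : Fin n => b i ≤ b j)).card := by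
  classical
  have e : colSpace F b j ≃ ({i : Fin n // b i ≤ b j} → F) :=
    { toFun := fun v i => v.1 i.1
      invFun := fun w => ⟨fun i => if h : b i ≤ b j then w ⟨i, h⟩ else 0, by
        intro i hi
        show (if h : b i ≤ b j then w ⟨i, h⟩ else 0) = 0
        rw [dif_neg (not_le.mpr hi)]⟩
      left_inv := by
        intro v
        apply Subtype.ext
        funext i
        by_cases h : b i ≤ b j
        · simp only [dif_pos h]
        · simp only [dif_neg h]
          exact (v.2 i (not_le.mp h)).symm
      right_inv := by
        intro w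
        funext i
        simp only [dif_pos i.2] }
  rw [Nat.card_congr e, Nat.card_fun, Nat.card_eq_fintype_card, Nat.card_eq_fintype_card,
    Fintype.card_subtype]

/-- The block triangular invertible matrices, as a type. -/
theorem card_blockTriangular [Fintype F] (b : Fin n → ℕ) (hb : Monotone b) :
    Nat.card {g : GL (Fin n) F // (g : Matrix (Fin n) (Fin n) F).BlockTriangular b}
      = ∏ j : Fin n, (Fintype.card F ^ (Finset.univ.filter (fun i : Fin n => b i ≤ b j)).card
          - Fintype.card F ^ (j : ℕ)) := by
  have h1 : ∀ g : GL (Fin n) F, (g : Matrix (Fin n) (Fin n) F).BlockTriangular b ↔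
      ∀ j, ((Matrix.equiv_GL_linearindependent n g : {s : Fin n → Fin n → F //
        LinearIndependent F s}) : Fin n → Fin n → F) j ∈ colSpace F b j := by
    intro g
    constructor
    · intro hg j i hi
      exact hg hi
    · intro hg i j hij
      exact hg j i hij
  have e : {g : GL (Fin n) F // (g : Matrix (Fin n) (Fin n) F).BlockTriangular b}
      ≃ FlagSet n (colSpace F b) :=
    (Equiv.subtypeEquiv (Matrix.equiv_GL_linearindependent n) h1).trans
      (Equiv.subtypeSubtypeEquivSubtypeInter (fun s : Fin n → Fin n → F => LinearIndependent F s)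
        (fun s => ∀ j, s j ∈ colSpace F b j))
  rw [Nat.card_congr e, card_flagSet n (colSpace F b) (colSpace_mono b hb)]
  apply Finset.prod_congr rfl
  intro j _
  rw [card_colSpace, Nat.card_eq_fintype_card]

end Cfsg.Agent.Helper8.Parab
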