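import Mathlib
import Cfsg.Agent.Helper8.ParabolicCard
import Cfsg.Agent.Helper8.CompLabelProd

set_option autoImplicit false

/-! The index of a standard parabolic subgroup of `GL_n(q)`. -/

namespace Cfsg.Agent.Helper8.Parab

open Cfsg.Agent.Helper8.CompLab

/-- Geometric sums. -/
def gs (q t : ℕ) : ℕ := ∑ l ∈ Finset.range t, q ^ l

theorem pow_sub_one_eq (q t : ℕ) (hq : 1 ≤ q) : q ^ t - 1 = (q - 1) * gs q t := by
  have h := geom_sum_mul_add (q - 1) t
  rw [Nat.sub_add_cancel hq] at h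
  unfold gs
  rw [mul_comm]
  omega

theorem pow_sub_pow_eq (q e j : ℕ) (hq : 1 ≤ q) (hje : j ≤ e) :
    q ^ e - q ^ j = q ^ j * ((q - 1) * gs q (e - j)) := by
  rw [← pow_sub_one_eq q (e - j) hq, Nat.mul_sub, mul_one, ← pow_add, Nat.add_sub_cancel' hje]

variable {F : Type*} [Field F] [Fintype F] {n : ℕ}

theorem card_parabolic (μ : Fin n → ℕ) (hμ : ∑ i, μ i = n) :
    Nat.card (Cfsg.parabolicGL n F μ)
      = ∏ j : Fin n, (Fintype.card F ^ (psum μ (Cfsg.compLabel μ j + 1))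
          - Fintype.card F ^ (j : ℕ)) := by
  have h1 : Nat.card (Cfsg.parabolicGL n F μ)
      = Nat.card {g : GL (Fin n) F //
          (g : Matrix (Fin n) (Fin n) F).BlockTriangular (Cfsg.compLabel μ)} := rfl
  rw [h1, card_blockTriangular (Cfsg.compLabel μ) (compLabel_mono μ hμ)]
  apply Finset.prod_congr rfl
  intro j _
  rw [card_le_label μ hμ j]

theorem index_main {q : ℕ} (hq : Fintype.card F = q) (μ : Fin n → ℕ) (hμ : ∑ i, μ i = n) :
    Nat.card (GL (Fin n) F ⧸ Cfsg.parabolicGL n F μ)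
        * ∏ i : Fin n, ∏ j ∈ Finset.range (μ i), ∑ l ∈ Finset.range (j + 1), q ^ l
      = ∏ j ∈ Finset.range n, ∑ l ∈ Finset.range (j + 1), q ^ l := by
  have hq1 : 1 ≤ q := by
    rw [← hq]
    exact Fintype.card_pos
  have hq2 : 2 ≤ q := by
    rw [← hq]
    exact Fintype.one_lt_card
  -- the orders
  have hG : Nat.card (GL (Fin n) F)
      = (∏ j : Fin n, q ^ (j : ℕ)) * ((q - 1) ^ n * ∏ j : Fin n, gs q (n - (j : ℕ))) := by
    rw [Matrix.card_GL_field, hq]
    have : ∀ j : Fin n, q ^ n - q ^ (j : ℕ) = q ^ (j : ℕ) * ((q - 1) * gs q (n - (j : ℕ))) :=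
      fun j => pow_sub_pow_eq q n j hq1 (le_of_lt j.2)
    rw [Finset.prod_congr rfl (fun j _ => this j), Finset.prod_mul_distrib,
      Finset.prod_mul_distrib, Finset.prod_const, Finset.card_univ, Fintype.card_fin]
  have hP : Nat.card (Cfsg.parabolicGL n F μ)
      = (∏ j : Fin n, q ^ (j : ℕ)) * ((q - 1) ^ n
          * ∏ j : Fin n, gs q (psum μ (Cfsg.compLabel μ j + 1) - (j : ℕ))) := by
    rw [card_parabolic μ hμ, hq]
    have : ∀ j : Fin n, q ^ (psum μ (Cfsg.compLabel μ j + 1)) - q ^ (j : ℕ)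
        = q ^ (j : ℕ) * ((q - 1) * gs q (psum μ (Cfsg.compLabel μ j + 1) - (j : ℕ))) :=
      fun j => pow_sub_pow_eq q _ j hq1 (le_of_lt (compLabel_spec μ hμ j).2)
    rw [Finset.prod_congr rfl (fun j _ => this j), Finset.prod_mul_distrib,
      Finset.prod_mul_distrib, Finset.prod_const, Finset.card_univ, Fintype.card_fin]
  have hidx := Subgroup.card_eq_card_quotient_mul_card_subgroup (Cfsg.parabolicGL n F μ)
  rw [hG, hP] at hidx
  -- the two products
  have hR : ∏ j : Fin n, gs q (n - (j : ℕ))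
      = ∏ j ∈ Finset.range n, ∑ l ∈ Finset.range (j + 1), q ^ l := by
    rw [Fin.prod_univ_eq_prod_range (fun j => gs q (n - j)) n,
      ← Finset.prod_range_reflect (fun j => ∑ l ∈ Finset.range (j + 1), q ^ l) n]
    apply Finset.prod_congr rfl
    intro j hj
    rw [Finset.mem_range] at hj
    unfold gs
    congr 2
    omega
  have hL : ∏ j : Fin n, gs q (psum μ (Cfsg.compLabel μ j + 1) - (j : ℕ))
      = ∏ i : Fin n, ∏ j ∈ Finset.range (μ i), ∑ l ∈ Finset.range (j + 1), q ^ l :=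
    prod_positions μ hμ (gs q)
  rw [hR, hL] at hidx
  -- cancel
  have hC : 0 < (∏ j : Fin n, q ^ (j : ℕ)) * (q - 1) ^ n := by
    apply Nat.mul_pos
    · apply Finset.prod_pos
      intro j _
      exact Nat.pow_pos (by omega)
    · exact Nat.pow_pos (by omega)
  apply Nat.eq_of_mul_eq_mul_left hC
  calc (∏ j : Fin n, q ^ (j : ℕ)) * (q - 1) ^ n
        * (Nat.card (GL (Fin n) F ⧸ Cfsg.parabolicGL n F μ)
          * ∏ i : Fin n, ∏ j ∈ Finset.range (μ i), ∑ l ∈ Finset.range (j + 1), q ^ l)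
      = Nat.card (GL (Fin n) F ⧸ Cfsg.parabolicGL n F μ) *
        ((∏ j : Fin n, q ^ (j : ℕ)) * ((q - 1) ^ n
          * ∏ i : Fin n, ∏ j ∈ Finset.range (μ i), ∑ l ∈ Finset.range (j + 1), q ^ l)) := by ring
    _ = (∏ j : Fin n, q ^ (j : ℕ)) * ((q - 1) ^ n
          * ∏ j ∈ Finset.range n, ∑ l ∈ Finset.range (j + 1), q ^ l) := hidx.symm
    _ = _ := by ring

end Cfsg.Agent.Helper8.Parab
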