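import Mathlib
import Cfsg.Agent.Helper8.DsT
import Cfsg.Agent.Helper8.DkMin

set_option autoImplicit false

/-!
`PGL₂(F)` for a finite field `F` of odd order, and its subgroup `L` of index two, the image of
`PSL₂(F)`: the basic facts.
-/

namespace Cfsg.Agent.Helper8.Pg

open Matrix Cfsg.Agent.Helper7.SL2 Cfsg.Agent.Helper8.SL2C Cfsg.Agent.Helper8.Dk
open Cfsg.Agent.Helper8.Ds Subgroup
open scoped Matrix

/-- the inclusion of `PSL₂` in `PGL₂` -/
abbrev tP (F : Type*) [Field F] :
    ProjectiveSpecialLinearGroup (Fin 2) F →* Matrix.ProjGenLinGroup (Fin 2) F :=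
  Matrix.ProjectiveSpecialLinearGroup.toPGL

theorem tP_injective (F : Type*) [Field F] : Function.Injective (tP F) :=
  Matrix.ProjectiveSpecialLinearGroup.toPGL_injective

/-- the image of `PSL₂` in `PGL₂` -/
def Lsub (F : Type*) [Field F] : Subgroup (Matrix.ProjGenLinGroup (Fin 2) F) := (tP F).range

theorem range_eq_Lsub (F : Type*) [Field F] :
    (Matrix.ProjGenLinGroup.mk.comp Matrix.SpecialLinearGroup.toGL).range = Lsub F := by
  ext x
  constructor
  · rintro ⟨s, rfl⟩
    exact ⟨pmk s, rfl⟩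
  · rintro ⟨y, rfl⟩
    obtain ⟨s, rfl⟩ := pmk_surjective y
    exact ⟨s, rfl⟩

variable {F : Type*} [Field F] [Fintype F]

instance finite_PGL : Finite (Matrix.ProjGenLinGroup (Fin 2) F) :=
  Finite.of_surjective (Matrix.ProjGenLinGroup.mk :
    GL (Fin 2) F → Matrix.ProjGenLinGroup (Fin 2) F) Matrix.ProjGenLinGroup.mk_surjective

omit [Fintype F] in
theorem card_Lsub : Nat.card (Lsub F) = Nat.card (ProjectiveSpecialLinearGroup (Fin 2) F) :=
  (Nat.card_congr (MonoidHom.ofInjective (tP_injective F)).toEquiv).symm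

theorem two_mul_card_Lsub (hodd : Odd (Fintype.card F)) :
    2 * Nat.card (Lsub F) = Fintype.card F * (Fintype.card F ^ 2 - 1) := by
  rw [card_Lsub, two_mul_card_PSL2 hodd]

theorem card_PGL_pos : 0 < Fintype.card F * (Fintype.card F ^ 2 - 1) := by
  have h2 : 2 ≤ Fintype.card F := Fintype.one_lt_card
  have : 2 ^ 2 ≤ Fintype.card F ^ 2 := Nat.pow_le_pow_left h2 2
  apply Nat.mul_pos (by omega) (by omega)

theorem index_Lsub (hodd : Odd (Fintype.card F)) : (Lsub F).index = 2 := by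
  have h1 := Subgroup.index_mul_card (Lsub F)
  rw [Cfsg.Agent.Lead.PSL2Sub.card_PGL2] at h1
  have h2 := two_mul_card_Lsub hodd
  have hpos := card_PGL_pos (F := F)
  have h3 : (Lsub F).index * Nat.card (Lsub F) = 2 * Nat.card (Lsub F) := by rw [h1, h2]
  have hLpos : 0 < Nat.card (Lsub F) := Nat.card_pos
  exact Nat.eq_of_mul_eq_mul_right hLpos h3

theorem normal_Lsub (hodd : Odd (Fintype.card F)) : (Lsub F).Normal :=
  Subgroup.normal_of_index_eq_two (index_Lsub hodd)

theorem Lsub_ne_top (hodd : Odd (Fintype.card F)) : Lsub F ≠ ⊤ := by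
  intro h
  have := index_Lsub hodd
  rw [h, Subgroup.index_top] at this
  omega

/-- elements of odd order lie in `L` -/
theorem mem_Lsub_of_pow (hodd : Odd (Fintype.card F)) {x : Matrix.ProjGenLinGroup (Fin 2) F}
    {n : ℕ} (hn : Odd n) (h : x ^ n = 1) : x ∈ Lsub F := by
  obtain ⟨k, rfl⟩ := hn
  have h1 : x ^ 2 ∈ Lsub F := Subgroup.sq_mem_of_index_two (index_Lsub hodd) x
  have h2 : x = ((x ^ 2) ^ k)⁻¹ := by
    rw [← pow_mul, eq_inv_iff_mul_eq_one, ← pow_succ']
    exact h
  rw [h2]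
  exact (Lsub F).inv_mem ((Lsub F).pow_mem h1 k)

theorem sq_mem_Lsub (hodd : Odd (Fintype.card F)) (x : Matrix.ProjGenLinGroup (Fin 2) F) :
    x * x ∈ Lsub F := by
  have := Subgroup.sq_mem_of_index_two (index_Lsub hodd) x
  rwa [pow_two] at this

/-- a subgroup not contained in `L` meets `L` in a subgroup of index two -/
theorem card_eq_two_mul (hodd : Odd (Fintype.card F))
    {H : Subgroup (Matrix.ProjGenLinGroup (Fin 2) F)} (h : ¬ H ≤ Lsub F) :
    Nat.card H = 2 * Nat.card (H ⊓ Lsub F : Subgroup (Matrix.ProjGenLinGroup (Fin 2) F)) := by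
  have : (Lsub F).Normal := normal_Lsub hodd
  have h1 := card_inf_mul_relIndex (Lsub F) H
  have h2 : (Lsub F).relIndex H ∣ 2 := by
    have := Subgroup.relIndex_dvd_index_of_normal (Lsub F) H
    rwa [index_Lsub hodd] at this
  have h3 : (Lsub F).relIndex H ≠ 1 := fun h' => h (Subgroup.relIndex_eq_one.mp h')
  have h4 : (Lsub F).relIndex H = 2 := by
    rcases (Nat.dvd_prime Nat.prime_two).mp h2 with h' | h'
    · exact absurd h' h3
    · exact h'
  rw [h4, inf_comm] at h1
  omega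

theorem not_le_Lsub_of_coatom (hodd : Odd (Fintype.card F))
    {M : Subgroup (Matrix.ProjGenLinGroup (Fin 2) F)} (hM : IsCoatom M) (hML : ¬ Lsub F ≤ M) :
    ¬ M ≤ Lsub F := by
  intro h
  rcases eq_or_lt_of_le h with h1 | h1
  · exact hML h1.ge
  · exact Lsub_ne_top hodd (hM.2 _ h1)

/-- a proper nontrivial subgroup of `L` is not normal in `PGL₂(F)` -/
theorem normalizer_ne_top (h4 : 4 ≤ Fintype.card F)
    {V : Subgroup (Matrix.ProjGenLinGroup (Fin 2) F)} (hV : V ≤ Lsub F) (hbot : V ≠ ⊥)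
    (hne : V ≠ Lsub F) : normalizer (V : Set (Matrix.ProjGenLinGroup (Fin 2) F)) ≠ ⊤ := by
  intro htop
  have hn : V.Normal := Subgroup.normalizer_eq_top_iff.mp htop
  have hn' : (V.comap (tP F)).Normal := hn.comap _
  have hsimple := isSimpleGroup_PSL2_of_card (F := F) h4
  have hmc : (V.comap (tP F)).map (tP F) = V := Subgroup.map_comap_eq_self hV
  rcases hn'.eq_bot_or_eq_top with h | h
  · apply hbot
    rw [← hmc, h, Subgroup.map_bot]
  · apply hne
    rw [← hmc, h, ← MonoidHom.range_eq_map]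
    rfl

theorem coatom_eq_normalizer' (h4 : 4 ≤ Fintype.card F)
    {M V : Subgroup (Matrix.ProjGenLinGroup (Fin 2) F)} (hM : IsCoatom M) (hV : V ≤ Lsub F)
    (hbot : V ≠ ⊥) (hne : V ≠ Lsub F)
    (hle : M ≤ normalizer (V : Set (Matrix.ProjGenLinGroup (Fin 2) F))) :
    M = normalizer (V : Set (Matrix.ProjGenLinGroup (Fin 2) F)) := by
  rcases eq_or_lt_of_le hle with h | h
  · exact h
  · exact absurd (hM.2 _ h) (normalizer_ne_top h4 hV hbot hne)

omit [Fintype F] in
/-- the normaliser of the image of a subgroup of `PSL₂(F)`, inside `L` -/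
theorem normalizer_map_inf (T : Subgroup (ProjectiveSpecialLinearGroup (Fin 2) F)) :
    normalizer ((T.map (tP F) : Subgroup (Matrix.ProjGenLinGroup (Fin 2) F)) :
      Set (Matrix.ProjGenLinGroup (Fin 2) F)) ⊓ Lsub F =
      (normalizer (T : Set (ProjectiveSpecialLinearGroup (Fin 2) F))).map (tP F) := by
  ext x
  constructor
  · rintro ⟨hx, ⟨y, rfl⟩⟩
    have hx' : tP F y ∈ normalizer ((T.map (tP F) : Subgroup (Matrix.ProjGenLinGroup (Fin 2) F)) :
      Set (Matrix.ProjGenLinGroup (Fin 2) F)) := hx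
    rw [← cj_eq_self_iff, ← map_cj] at hx'
    have hy : y ∈ normalizer (T : Set (ProjectiveSpecialLinearGroup (Fin 2) F)) := by
      rw [← cj_eq_self_iff]
      exact Subgroup.map_injective (tP_injective F) hx'
    exact ⟨y, hy, rfl⟩
  · rintro ⟨y, hy, rfl⟩
    have hy' : y ∈ normalizer (T : Set (ProjectiveSpecialLinearGroup (Fin 2) F)) := hy
    rw [← cj_eq_self_iff] at hy'
    have hx : tP F y ∈ normalizer ((T.map (tP F) : Subgroup (Matrix.ProjGenLinGroup (Fin 2) F)) :
      Set (Matrix.ProjGenLinGroup (Fin 2) F)) := by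
      rw [← cj_eq_self_iff, ← map_cj, hy']
    exact ⟨hx, ⟨y, rfl⟩⟩

omit [Fintype F] in
theorem card_normalizer_map_inf (T : Subgroup (ProjectiveSpecialLinearGroup (Fin 2) F)) :
    Nat.card (normalizer ((T.map (tP F) : Subgroup (Matrix.ProjGenLinGroup (Fin 2) F)) :
      Set (Matrix.ProjGenLinGroup (Fin 2) F)) ⊓ Lsub F :
        Subgroup (Matrix.ProjGenLinGroup (Fin 2) F)) =
      Nat.card (normalizer (T : Set (ProjectiveSpecialLinearGroup (Fin 2) F))) := by
  rw [normalizer_map_inf, Subgroup.card_map_of_injective (tP_injective F)]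

end Cfsg.Agent.Helper8.Pg
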