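import Mathlib
import Cfsg.Agent.Helper8.PgB

set_option autoImplicit false

/-!
The subgroups of `PGL₂(F)`, `F` finite of odd order: the list obtained from Dickson's theorem for
`PSL₂` of the quadratic extension, in which `PGL₂(F)` embeds.
-/

namespace Cfsg.Agent.Helper8.Pg

open Matrix Cfsg.Agent.Helper7.SL2 Cfsg.Agent.Helper8.SL2C Cfsg.Agent.Helper8.Dk
open Cfsg.Agent.Helper8.Ds Subgroup
open scoped Matrix

variable {F : Type*} [Field F] [Fintype F]

/-- an embedding of `PGL₂(F)` in `PSL₂(E)`, for the quadratic extension `E` -/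
theorem exists_embedding (p : ℕ) [Fact p.Prime] [CharP F p] (hodd : Odd (Fintype.card F)) :
    ∃ (E : Type) (_ : Field E) (_ : Fintype E) (_ : CharP E p)
      (ι : Matrix.ProjGenLinGroup (Fin 2) F →* ProjectiveSpecialLinearGroup (Fin 2) E),
      Fintype.card E = Fintype.card F ^ 2 ∧ Function.Injective ι := by
  obtain ⟨n, -, hn⟩ := FiniteField.card F p
  obtain ⟨E, _, _, hE⟩ := exists_field p (2 * (n : ℕ)) (by have := n.pos; omega)
  have hEF : Fintype.card F ^ 2 = Fintype.card E := by rw [hE, hn, ← pow_mul, mul_comm]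
  obtain ⟨f⟩ := Cfsg.Agent.Lead.PSL2Sub.exists_ringHom (F := E) (K := F) 2 hEF
  have hoddE : Odd (Fintype.card E) := by rw [← hEF]; exact hodd.pow
  have hsq : ∀ x : F, x ≠ 0 → ∃ c : E, c * c = f x :=
    Cfsg.Agent.Lead.PSL2Sub.exists_sqrt_of_even f (Nat.odd_iff.mp hoddE) 1
      (by rw [mul_one]; exact hEF)
  obtain ⟨H, ⟨e⟩⟩ := Cfsg.Agent.Lead.PSL2Sub.exists_PGL2_sub f hsq
  have hchar : CharP E p := (RingHom.charP_iff f f.injective p).mp inferInstance
  refine ⟨E, inferInstance, inferInstance, hchar, H.subtype.comp e.symm.toMonoidHom, hEF.symm, ?_⟩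
  exact H.subtype_injective.comp e.symm.injective

theorem card_lt_aux {q : ℕ} (hq : 2 ≤ q) : 2 * (q * (q ^ 2 - 1)) < q ^ 2 * ((q ^ 2) ^ 2 - 1) := by
  obtain ⟨A, hA⟩ : ∃ A, A = q ^ 2 - 1 := ⟨_, rfl⟩
  have h4 : 2 ^ 2 ≤ q ^ 2 := Nat.pow_le_pow_left hq 2
  have hA1 : q ^ 2 = A + 1 := by omega
  have hA3 : 3 ≤ A := by omega
  have e1 : (A + 1) ^ 2 - 1 = A * (A + 2) := by
    have : (A + 1) ^ 2 = A * (A + 2) + 1 := by ring
    omega
  rw [← hA, hA1, e1]
  have h5 : q ≤ A + 1 := by nlinarith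
  calc 2 * (q * A) ≤ 2 * ((A + 1) * A) := by
        apply Nat.mul_le_mul_left
        exact Nat.mul_le_mul_right _ h5
    _ < (A + 1) * (A * (A + 2)) := by nlinarith

/-- the subgroups of `PGL₂(F)` -/
theorem pgl_cases (p : ℕ) [Fact p.Prime] [CharP F p] (hodd : Odd (Fintype.card F))
    (M : Subgroup (Matrix.ProjGenLinGroup (Fin 2) F)) :
    Nat.card M = 1 ∨
    (∃ C : Subgroup (Matrix.ProjGenLinGroup (Fin 2) F), C ≤ M ∧ C ≠ ⊥ ∧
      M ≤ normalizer (C : Set (Matrix.ProjGenLinGroup (Fin 2) F)) ∧ IsPGroup p C ∧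
      (∀ x ∈ C, ∀ y ∈ C, x * y = y * x)) ∨
    (∃ C : Subgroup (Matrix.ProjGenLinGroup (Fin 2) F), C ≤ M ∧ C ≠ ⊥ ∧
      M ≤ normalizer (C : Set (Matrix.ProjGenLinGroup (Fin 2) F)) ∧ (Nat.card C).Coprime p ∧
      IsCyclic C ∧ (M ≤ C ∨ Nonempty (M ≃* DihedralGroup (Nat.card C)))) ∨
    Nonempty (M ≃* alternatingGroup (Fin 4)) ∨ Nonempty (M ≃* Equiv.Perm (Fin 4)) ∨
    Nonempty (M ≃* alternatingGroup (Fin 5)) ∨
    (∃ (K : Type) (_ : Field K) (_ : Fintype K), Odd (Fintype.card K) ∧
      Nonempty (M ≃* ProjectiveSpecialLinearGroup (Fin 2) K)) ∨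
    (∃ (K : Type) (_ : Field K) (_ : Fintype K) (r : ℕ),
      Fintype.card K ^ r = Fintype.card F ∧
      Nonempty (M ≃* Matrix.ProjGenLinGroup (Fin 2) K)) := by
  obtain ⟨E, _, _, _, ι, hE, hι⟩ := exists_embedding p hodd
  have hoddE : Odd (Fintype.card E) := by rw [hE]; exact hodd.pow
  have h2E : (2 : E) ≠ 0 := two_ne_zero_of_odd hoddE
  have hq2 : 2 ≤ Fintype.card F := Fintype.one_lt_card
  set Mh : Subgroup (ProjectiveSpecialLinearGroup (Fin 2) E) := M.map ι with hMh
  let e₀ : M ≃* Mh := M.equivMapOfInjective ι hι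
  have hcard : Nat.card Mh = Nat.card M := Subgroup.card_map_of_injective hι
  have hMle : Nat.card M ≤ Fintype.card F * (Fintype.card F ^ 2 - 1) := by
    rw [← Cfsg.Agent.Lead.PSL2Sub.card_PGL2]
    exact Subgroup.card_le_card_group M
  have hne : Mh ≠ ⊤ := by
    intro htop
    have h1 := two_mul_card_PSL2 hoddE
    rw [← Subgroup.card_top, ← htop, hcard, hE] at h1
    have := card_lt_aux hq2
    omega
  have hmemM : ∀ x, ι x ∈ Mh → x ∈ M := by
    rintro x ⟨y, hy, hyx⟩
    rwa [← hι hyx]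
  rcases proper_cases p Mh hne with h1 | ⟨M', hM', hne', hle⟩ | ⟨⟨e⟩⟩ | ⟨⟨e⟩⟩ | ⟨⟨e⟩⟩ |
    ⟨K, _, _, m, hm2, hm, ⟨⟨e⟩⟩ | ⟨⟨e⟩⟩⟩
  · left
    rw [← hcard]; exact h1
  · -- the local case
    set C : Subgroup (Matrix.ProjGenLinGroup (Fin 2) F) := (M' ⊓ Mh).comap ι with hC
    have hCM : C ≤ M := fun x hx => hmemM x hx.2
    have hCmap : C.map ι = M' ⊓ Mh := by
      apply Subgroup.map_comap_eq_self
      intro z hz
      obtain ⟨y, -, rfl⟩ := hz.2
      exact ⟨y, rfl⟩
    have hCcard : Nat.card C = Nat.card (M' ⊓ Mh : Subgroup (ProjectiveSpecialLinearGroup (Fin 2) E)) := by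
      rw [← hCmap, Subgroup.card_map_of_injective hι]
    have hCbot : C ≠ ⊥ := by
      intro hb
      apply hne'
      rw [← hCmap, hb, Subgroup.map_bot]
    have hCnorm : M ≤ normalizer (C : Set (Matrix.ProjGenLinGroup (Fin 2) F)) := by
      intro g hg
      apply Subgroup.mem_normalizer_fintype
      intro n hn
      have hn' : ι n ∈ M' ⊓ Mh := hn
      have hg' : ι g ∈ Mh := Subgroup.mem_map_of_mem ι hg
      change ι (g * n * g⁻¹) ∈ M' ⊓ Mh
      rw [map_mul, map_mul, map_inv]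
      refine ⟨?_, ?_⟩
      · exact (mem_normalizer_iff.mp (hle hg') (ι n)).mp hn'.1
      · exact Mh.mul_mem (Mh.mul_mem hg' hn'.2) (Mh.inv_mem hg')
    have hCcomm : ∀ x ∈ C, ∀ y ∈ C, x * y = y * x := by
      intro x hx y hy
      apply hι
      rw [map_mul, map_mul]
      exact GM_comm M' hM' _ hx.1 _ hy.1
    rcases mem_GM_iff.mp hM' with hU | hT
    · right; left
      refine ⟨C, hCM, hCbot, hCnorm, ?_, hCcomm⟩
      have hp := GU_pgroup p M' hU
      rw [IsPGroup] at hp ⊢
      rintro ⟨g, hg⟩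
      obtain ⟨k, hk⟩ := hp ⟨ι g, hg.1⟩
      refine ⟨k, ?_⟩
      apply Subtype.ext
      apply hι
      have := congrArg Subtype.val hk
      simpa using this
    · right; right; left
      have hcop : (Nat.card C).Coprime p := by
        have hdvd : Nat.card C ∣ Nat.card M' := by
          rw [hCcard]; exact Subgroup.card_dvd_of_le inf_le_left
        have hpE : p ∣ Fintype.card E := by
          have h1 : ((Fintype.card E : ℕ) : E) = 0 := Nat.cast_card_eq_zero E
          exact (CharP.cast_eq_zero_iff E p _).mp h1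
        have hpp := (Fact.out : p.Prime)
        have hE1 : 1 ≤ Fintype.card E := Fintype.card_pos
        have hM'cop : (Nat.card M').Coprime p := by
          rw [Nat.coprime_comm, Nat.Prime.coprime_iff_not_dvd hpp]
          intro hpM
          have hc := card_center_of_two_ne h2E
          rcases card_mul_mem_GT hT with h | h
          · rw [hc] at h
            have h3 : p ∣ Fintype.card E + 1 := h ▸ Dvd.dvd.mul_left hpM 2
            have h4 : p ∣ 1 := (Nat.dvd_add_right hpE).mp h3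
            exact hpp.one_lt.ne' (Nat.dvd_one.mp h4)
          · rw [hc] at h
            have h3 : p ∣ Fintype.card E - 1 := h ▸ Dvd.dvd.mul_left hpM 2
            have h4 : p ∣ 1 := by
              have : Fintype.card E = (Fintype.card E - 1) + 1 := by omega
              rw [this] at hpE
              exact (Nat.dvd_add_right h3).mp hpE
            exact hpp.one_lt.ne' (Nat.dvd_one.mp h4)
        exact Nat.Coprime.coprime_dvd_left hdvd hM'cop
      have : IsCyclic M' := isCyclic_of_mem_GT hT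
      have hcyc1 : IsCyclic (M' ⊓ Mh : Subgroup (ProjectiveSpecialLinearGroup (Fin 2) E)) :=
        Subgroup.isCyclic_of_le inf_le_left
      have hcyc : IsCyclic C := by
        have e1 : C ≃* C.map ι := C.equivMapOfInjective ι hι
        have e2 : C ≃* (M' ⊓ Mh : Subgroup (ProjectiveSpecialLinearGroup (Fin 2) E)) :=
          e1.trans (MulEquiv.subgroupCongr hCmap)
        exact isCyclic_of_surjective e2.symm e2.symm.surjective
      refine ⟨C, hCM, hCbot, hCnorm, hcop, hcyc, ?_⟩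
      rcases cyclic_or_dihedral M' Mh hle (GT_tor_norm M' hT) with ⟨-, h⟩ | ⟨⟨e⟩⟩
      · left
        have heq : (M' ⊓ Mh : Subgroup (ProjectiveSpecialLinearGroup (Fin 2) E)) = Mh :=
          Subgroup.eq_of_le_of_card_ge inf_le_right (by rw [h])
        intro x hx
        have : ι x ∈ Mh := Subgroup.mem_map_of_mem ι hx
        rw [← heq] at this
        exact this
      · right
        rw [hCcard]
        exact ⟨e₀.trans e⟩
  · right; right; right; left
    exact ⟨e₀.trans e⟩
  · right; right; right; right; left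
    exact ⟨e₀.trans e⟩
  · right; right; right; right; right; left
    exact ⟨e₀.trans e⟩
  · right; right; right; right; right; right; left
    refine ⟨K, inferInstance, inferInstance, ?_, ⟨e₀.trans e⟩⟩
    rw [← hm] at hoddE
    exact (Nat.odd_pow_iff (by omega)).mp hoddE
  · right; right; right; right; right; right; right
    have heven : Even m :=
      ((Cfsg.Agent.Lead.PSL2Sub.s0805 (F := E) (K := K) rfl hoddE m (by omega) hm).2).mp
        ⟨Mh, ⟨e⟩⟩
    obtain ⟨j, hj⟩ := heven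
    refine ⟨K, inferInstance, inferInstance, j, ?_, ⟨e₀.trans e⟩⟩
    have h1 : (Fintype.card K ^ j) ^ 2 = Fintype.card F ^ 2 := by
      rw [← pow_mul, ← hE, ← hm, hj]; ring_nf
    exact Nat.pow_left_injective (by norm_num : (2 : ℕ) ≠ 0) h1

end Cfsg.Agent.Helper8.Pg
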