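import Mathlib
import Cfsg.Agent.Helper8.PgB
import Cfsg.Agent.Helper8.SL2Omega

set_option autoImplicit false

/-!
Subgroups of `PGL₂(F)` that lie in `L`: groups generated by squares. Maximal subgroups of `PGL₂(F)`
are not `2`-groups of order at most eight.
-/

namespace Cfsg.Agent.Helper8.Pg

open Matrix Cfsg.Agent.Helper7.SL2 Cfsg.Agent.Helper8.SL2C Cfsg.Agent.Helper8.Dk
open Cfsg.Agent.Helper8.Ds Subgroup
open scoped Matrix

set_option maxRecDepth 100000 in
theorem a4_sq : ∀ σ : alternatingGroup (Fin 4), ∃ a b : alternatingGroup (Fin 4),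
    σ = a * a * (b * b) := by
  decide +kernel

set_option maxRecDepth 100000 in
theorem a5_sq : ∀ σ : alternatingGroup (Fin 5), ∃ a b : alternatingGroup (Fin 5),
    σ = a * a * (b * b) := by
  decide +kernel

variable {F : Type*} [Field F] [Fintype F]

/-- a subgroup isomorphic to a group in which every element is a product of two squares lies
in `L` -/
theorem le_Lsub_of_sq_prod (hodd : Odd (Fintype.card F))
    {M : Subgroup (Matrix.ProjGenLinGroup (Fin 2) F)} {Y : Type*} [Group Y] (e : M ≃* Y)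
    (hY : ∀ y : Y, ∃ a b : Y, y = a * a * (b * b)) : M ≤ Lsub F := by
  intro x hx
  obtain ⟨a, b, hab⟩ := hY (e ⟨x, hx⟩)
  have h1 : (⟨x, hx⟩ : M) = e.symm a * e.symm a * (e.symm b * e.symm b) := by
    apply e.injective
    rw [hab]
    simp
  have h2 : x = (e.symm a : Matrix.ProjGenLinGroup (Fin 2) F) * (e.symm a) *
      ((e.symm b : Matrix.ProjGenLinGroup (Fin 2) F) * (e.symm b)) := by
    have := congrArg Subtype.val h1
    simpa using this
  rw [h2]
  exact (Lsub F).mul_mem (sq_mem_Lsub hodd _) (sq_mem_Lsub hodd _)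

/-- a subgroup isomorphic to `PSL₂(K)`, `K` of odd order, lies in `L` -/
theorem le_Lsub_of_PSL (hodd : Odd (Fintype.card F))
    {M : Subgroup (Matrix.ProjGenLinGroup (Fin 2) F)} {K : Type*} [Field K] [Fintype K]
    (hK : Odd (Fintype.card K)) (e : M ≃* ProjectiveSpecialLinearGroup (Fin 2) K) :
    M ≤ Lsub F := by
  have h2 : (2 : K) ≠ 0 := two_ne_zero_of_odd hK
  have key : ∀ g : SpecialLinearGroup (Fin 2) K,
      ((e.symm (pmk g) : M) : Matrix.ProjGenLinGroup (Fin 2) F) ∈ Lsub F := by
    intro g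
    refine Cfsg.Agent.Helper7.Transv.transvection_induction
      (fun g => ((e.symm (pmk g) : M) : Matrix.ProjGenLinGroup (Fin 2) F) ∈ Lsub F) ?_ ?_ g
    · intro i j hij x
      have hx : x = x / 2 + x / 2 := by field_simp; ring
      fin_cases i <;> fin_cases j
      · exact absurd rfl hij
      · show ((e.symm (pmk _) : M) : Matrix.ProjGenLinGroup (Fin 2) F) ∈ Lsub F
        rw [transvection_01, hx, Cfsg.Agent.Helper8.SL2Omega.up_add, ← pmk_mul, map_mul,
          Subgroup.coe_mul]
        exact sq_mem_Lsub hodd _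
      · show ((e.symm (pmk _) : M) : Matrix.ProjGenLinGroup (Fin 2) F) ∈ Lsub F
        rw [transvection_10, hx, Cfsg.Agent.Helper8.SL2Omega.lo_add, ← pmk_mul, map_mul,
          Subgroup.coe_mul]
        exact sq_mem_Lsub hodd _
      · exact absurd rfl hij
    · intro A B hA hB
      show ((e.symm (pmk (A * B)) : M) : Matrix.ProjGenLinGroup (Fin 2) F) ∈ Lsub F
      rw [← pmk_mul, map_mul, Subgroup.coe_mul]
      exact (Lsub F).mul_mem hA hB
  intro x hx
  obtain ⟨g, hg⟩ := pmk_surjective (e ⟨x, hx⟩)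
  have := key g
  rw [hg, MulEquiv.symm_apply_apply] at this
  exact this

end Cfsg.Agent.Helper8.Pg
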