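import Mathlib
import Cfsg.Agent.Helper8.PgB

set_option autoImplicit false

/-!
A maximal subgroup of `PGL₂(F)` not contained in `L` is not a `2`-group of order at most eight:
Burnside's transfer theorem in the simple group `PSL₂(F)`.
-/

namespace Cfsg.Agent.Helper8.Pg

open Matrix Cfsg.Agent.Helper7.SL2 Cfsg.Agent.Helper8.SL2C Cfsg.Agent.Helper8.Dk
open Cfsg.Agent.Helper8.Ds Subgroup
open scoped Matrix

variable {F : Type*} [Field F] [Fintype F]

theorem eight_dvd_of_odd {q : ℕ} (hq : Odd q) : 8 ∣ q * (q ^ 2 - 1) := by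
  obtain ⟨k, rfl⟩ := hq
  have e : (2 * k + 1) ^ 2 - 1 = 4 * (k * (k + 1)) := by
    have : (2 * k + 1) ^ 2 = 4 * (k * (k + 1)) + 1 := by ring
    omega
  rw [e]
  have h2 : 2 ∣ k * (k + 1) := (Nat.even_mul_succ_self k).two_dvd
  obtain ⟨t, ht⟩ := h2
  rw [ht]
  exact ⟨(2 * k + 1) * t, by ring⟩

/-- the normaliser of `M ⊓ L` contains `M` -/
theorem le_normalizer_inf_Lsub (hodd : Odd (Fintype.card F))
    (M : Subgroup (Matrix.ProjGenLinGroup (Fin 2) F)) :
    M ≤ normalizer ((M ⊓ Lsub F : Subgroup (Matrix.ProjGenLinGroup (Fin 2) F)) :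
      Set (Matrix.ProjGenLinGroup (Fin 2) F)) := by
  have hn : (Lsub F).Normal := normal_Lsub hodd
  intro g hg
  apply Subgroup.mem_normalizer_fintype
  intro n hn'
  exact ⟨M.mul_mem (M.mul_mem hg hn'.1) (M.inv_mem hg), hn.conj_mem n hn'.2 g⟩

theorem not_coatom_two_group (hodd : Odd (Fintype.card F)) (h3 : 3 < Fintype.card F)
    {M : Subgroup (Matrix.ProjGenLinGroup (Fin 2) F)} (hM : IsCoatom M)
    (hML : ¬ M ≤ Lsub F) {a : ℕ} (ha : Nat.card M = 2 ^ a) (ha3 : a ≤ 3) : False := by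
  have : Fact (Nat.Prime 2) := ⟨Nat.prime_two⟩
  obtain ⟨q, hq⟩ : ∃ q, q = Fintype.card F := ⟨_, rfl⟩
  rw [← hq] at hodd h3
  have hq5 : 5 ≤ q := by
    obtain ⟨k, hk⟩ := hodd
    omega
  have hG : Nat.card (Matrix.ProjGenLinGroup (Fin 2) F) = q * (q ^ 2 - 1) := by
    rw [Cfsg.Agent.Lead.PSL2Sub.card_PGL2, hq]
  have h8 : 8 ∣ q * (q ^ 2 - 1) := eight_dvd_of_odd hodd
  have hodd' : Odd (Fintype.card F) := hq ▸ hodd
  have hq24 : 24 ≤ q ^ 2 - 1 := by
    have : 5 ^ 2 ≤ q ^ 2 := Nat.pow_le_pow_left hq5 2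
    omega
  have hN120 : 120 ≤ q * (q ^ 2 - 1) := by
    calc 120 = 5 * 24 := by norm_num
      _ ≤ q * (q ^ 2 - 1) := Nat.mul_le_mul hq5 hq24
  -- `M` is a Sylow subgroup
  have hp2 : IsPGroup 2 M := IsPGroup.of_card ha
  obtain ⟨P, hP⟩ := hp2.exists_le_sylow
  have hPcard := P.card_eq_multiplicity
  have hPtop : (P : Subgroup (Matrix.ProjGenLinGroup (Fin 2) F)) ≠ ⊤ := by
    intro htop
    rw [htop, Subgroup.card_top, hG] at hPcard
    have h1 : q ∣ 2 ^ (q * (q ^ 2 - 1)).factorization 2 := by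
      rw [← hPcard]; exact Dvd.intro _ rfl
    have h2 : Nat.Coprime q (2 ^ (q * (q ^ 2 - 1)).factorization 2) :=
      Nat.Coprime.pow_right _ (Nat.coprime_two_right.mpr hodd)
    have := Nat.Coprime.eq_one_of_dvd h2 h1
    omega
  have hMP : M = (P : Subgroup (Matrix.ProjGenLinGroup (Fin 2) F)) := by
    rcases eq_or_lt_of_le hP with h | h
    · exact h
    · exact absurd (hM.2 _ h) hPtop
  rw [← hMP, ha, hG] at hPcard
  have hfac : a = (q * (q ^ 2 - 1)).factorization 2 :=
    Nat.pow_right_injective (le_refl 2) hPcard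
  have hNpos : q * (q ^ 2 - 1) ≠ 0 := by omega
  have h3le : 3 ≤ (q * (q ^ 2 - 1)).factorization 2 :=
    (Nat.prime_two.pow_dvd_iff_le_factorization hNpos).mp (by norm_num; exact h8)
  have ha3' : a = 3 := by omega
  subst ha3'
  have h16 : ¬ 16 ∣ q * (q ^ 2 - 1) := by
    intro h
    have := (Nat.prime_two.pow_dvd_iff_le_factorization hNpos).mp (by norm_num; exact h : 2 ^ 4 ∣ _)
    omega
  -- the subgroup `V = M ⊓ L`
  set V : Subgroup (Matrix.ProjGenLinGroup (Fin 2) F) := M ⊓ Lsub F with hV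
  have hVcard : Nat.card V = 4 := by
    have := card_eq_two_mul hodd' hML
    rw [ha, ← hV] at this
    omega
  have hLcard := two_mul_card_Lsub hodd'
  rw [← hq] at hLcard
  have hVL : V ≤ Lsub F := inf_le_right
  have hVbot : V ≠ ⊥ := by
    intro h
    rw [h, Subgroup.card_bot] at hVcard
    omega
  have hVne : V ≠ Lsub F := by
    intro h
    rw [h] at hVcard
    omega
  have hMN := coatom_eq_normalizer' (by omega) hM hVL hVbot hVne (le_normalizer_inf_Lsub hodd' M)
  -- pull back to `PSL₂(F)`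
  set V' : Subgroup (ProjectiveSpecialLinearGroup (Fin 2) F) := V.comap (tP F) with hV'
  have hmc : V'.map (tP F) = V := Subgroup.map_comap_eq_self hVL
  have hV'card : Nat.card V' = 4 := by
    rw [← hVcard, ← hmc, Subgroup.card_map_of_injective (tP_injective F)]
  have hNV' : normalizer (V' : Set (ProjectiveSpecialLinearGroup (Fin 2) F)) = V' := by
    apply Subgroup.map_injective (tP_injective F)
    rw [← normalizer_map_inf, hmc, ← hMN]
  have hPSL : 2 * Nat.card (ProjectiveSpecialLinearGroup (Fin 2) F) = q * (q ^ 2 - 1) := by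
    rw [two_mul_card_PSL2 hodd', hq]
  have hfac2 : (Nat.card (ProjectiveSpecialLinearGroup (Fin 2) F)).factorization 2 = 2 := by
    apply factorization_eq_of_card 2 (M := V') (by rw [hV'card]; norm_num)
    intro h8'
    apply h16
    rw [← hPSL]
    obtain ⟨t, ht⟩ := h8'
    exact ⟨t, by rw [ht]; ring⟩
  let Pv : Sylow 2 (ProjectiveSpecialLinearGroup (Fin 2) F) :=
    Sylow.ofCard V' (by rw [hV'card, hfac2]; norm_num)
  have hPv : (Pv : Subgroup (ProjectiveSpecialLinearGroup (Fin 2) F)) = V' := rfl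
  have hcomm : ∀ x y : V', x * y = y * x := by
    have hc : IsMulCommutative V' :=
      IsPGroup.isMulCommutative_of_card_eq_prime_sq (p := 2) (by rw [hV'card]; norm_num)
    exact fun x y => hc.is_comm.comm x y
  have hPN : normalizer ((Pv : Subgroup (ProjectiveSpecialLinearGroup (Fin 2) F)) :
      Set (ProjectiveSpecialLinearGroup (Fin 2) F)) ≤
      centralizer ((Pv : Subgroup (ProjectiveSpecialLinearGroup (Fin 2) F)) :
      Set (ProjectiveSpecialLinearGroup (Fin 2) F)) := by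
    rw [hPv, hNV']
    intro x hx
    rw [Subgroup.mem_centralizer_iff]
    intro y hy
    have := hcomm ⟨y, hy⟩ ⟨x, hx⟩
    exact congrArg Subtype.val this
  have hcompl := MonoidHom.ker_transferSylow_isComplement' Pv hPN
  have hcm := hcompl.card_mul_card
  have hsimple := isSimpleGroup_PSL2_of_card (F := F) (by omega : 4 ≤ Fintype.card F)
  have hnormal : ((MonoidHom.transferSylow Pv hPN).ker).Normal := inferInstance
  have hPvcard : Nat.card (Pv : Subgroup (ProjectiveSpecialLinearGroup (Fin 2) F)) = 4 := hV'card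
  rw [hPvcard] at hcm
  rcases hnormal.eq_bot_or_eq_top with h | h
  · rw [h, Subgroup.card_bot] at hcm
    omega
  · rw [h, Subgroup.card_top] at hcm
    have hpos : 0 < Nat.card (ProjectiveSpecialLinearGroup (Fin 2) F) := by omega
    nlinarith

end Cfsg.Agent.Helper8.Pg
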