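import Mathlib
import Cfsg.Agent.Helper8.PgD

set_option autoImplicit false

/-!
The local maximal subgroups of `PGL₂(F)`: the normalisers of the unipotent and toral members of the
partition of `L ≅ PSL₂(F)`.
-/

namespace Cfsg.Agent.Helper8.Pg

open Matrix Cfsg.Agent.Helper7.SL2 Cfsg.Agent.Helper8.SL2C Cfsg.Agent.Helper8.Dk
open Cfsg.Agent.Helper8.Ds Subgroup
open scoped Matrix

section General

variable {F : Type*} [Field F]

theorem sq_eq_neg_one_of_tr {y : SpecialLinearGroup (Fin 2) F} (h : tr y = 0) : y * y = -1 := by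
  apply Subtype.ext
  rw [Matrix.SpecialLinearGroup.coe_mul, sq_eq, h, zero_smul, zero_sub, coe_neg_one]

/-- the centraliser in `PSL₂` of an element of a toral member that is not an involution is the
member -/
theorem GT_cent (h2 : (2 : F) ≠ 0) (M : Subgroup (ProjectiveSpecialLinearGroup (Fin 2) F))
    (hM : M ∈ GT F) (m : ProjectiveSpecialLinearGroup (Fin 2) F) (hm : m ∈ M) (hm2 : m * m ≠ 1)
    (g : ProjectiveSpecialLinearGroup (Fin 2) F) (hg : g * m = m * g) : g ∈ M := by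
  obtain ⟨A, hA, rfl⟩ := hM
  obtain ⟨y, rfl⟩ := pmk_surjective m
  obtain ⟨h, rfl⟩ := pmk_surjective g
  have hm1 : pmk y ≠ 1 := by
    intro h1
    apply hm2
    rw [h1, mul_one]
  have hyA := mem_of_pmk_mem (Or.inr hA) hm
  have hyZ := not_center_of_pmk_ne_one hm1
  have hC : h ∈ Cstar y := by
    rw [mem_Cstar, ← pmk_eq_iff]
    exact hg
  have htr : tr y ≠ 0 := by
    intro h0
    apply hm2
    rw [pmk_mul, sq_eq_neg_one_of_tr h0, pmk_eq_one_iff]
    right; rfl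
  rw [Cstar_eq_of_tr_ne h2 htr, centralizer_of_mem_LT hA hyA hyZ] at hC
  exact Subgroup.mem_map_of_mem (ph F) hC

theorem eq_one_of_pow_coprime {G : Type*} [Group G] {x : G} {m n : ℕ} (hm : x ^ m = 1)
    (hn : x ^ n = 1) (h : Nat.Coprime m n) : x = 1 := by
  have := pow_gcd_eq_one.mpr ⟨hm, hn⟩
  rwa [h, pow_one] at this

end General

variable {F : Type*} [Field F] [Fintype F]

theorem coprime_card_GT (p : ℕ) [Fact p.Prime] [CharP F p] (hodd : Odd (Fintype.card F))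
    {T' : Subgroup (ProjectiveSpecialLinearGroup (Fin 2) F)} (hT : T' ∈ GT F) :
    (Nat.card T').Coprime p := by
  have h2 := two_ne_zero_of_odd hodd
  have hpF : p ∣ Fintype.card F := by
    have h1 : ((Fintype.card F : ℕ) : F) = 0 := Nat.cast_card_eq_zero F
    exact (CharP.cast_eq_zero_iff F p _).mp h1
  have hpp := (Fact.out : p.Prime)
  have hF1 : 1 ≤ Fintype.card F := Fintype.card_pos
  rw [Nat.coprime_comm, Nat.Prime.coprime_iff_not_dvd hpp]
  intro hpM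
  have hc := card_center_of_two_ne h2
  rcases card_mul_mem_GT hT with h | h
  · rw [hc] at h
    have h3 : p ∣ Fintype.card F + 1 := h ▸ Dvd.dvd.mul_left hpM 2
    have h4 : p ∣ 1 := (Nat.dvd_add_right hpF).mp h3
    exact hpp.one_lt.ne' (Nat.dvd_one.mp h4)
  · rw [hc] at h
    have h3 : p ∣ Fintype.card F - 1 := h ▸ Dvd.dvd.mul_left hpM 2
    have h4 : p ∣ 1 := by
      have : Fintype.card F = (Fintype.card F - 1) + 1 := by omega
      rw [this] at hpF
      exact (Nat.dvd_add_right h3).mp hpF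
    exact hpp.one_lt.ne' (Nat.dvd_one.mp h4)

omit [Fintype F] in
theorem cent_U {T' : Subgroup (ProjectiveSpecialLinearGroup (Fin 2) F)} (hU : T' ∈ GU F)
    {x₁ : Matrix.ProjGenLinGroup (Fin 2) F} (hx₁ : x₁ ∈ T'.map (tP F)) (h1 : x₁ ≠ 1)
    {y : Matrix.ProjGenLinGroup (Fin 2) F} (hy : y ∈ Lsub F) (hc : y * x₁ = x₁ * y) :
    y ∈ T'.map (tP F) := by
  obtain ⟨m, hm, rfl⟩ := hx₁
  obtain ⟨g, rfl⟩ := hy
  have hgm : g * m = m * g := by
    apply tP_injective F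
    rw [map_mul, map_mul]
    exact hc
  have hm1 : m ≠ 1 := by
    rintro rfl
    exact h1 (map_one _)
  exact ⟨g, GU_cent T' hU m hm hm1 g hgm, rfl⟩

omit [Fintype F] in
theorem cent_T (h2 : (2 : F) ≠ 0) {T' : Subgroup (ProjectiveSpecialLinearGroup (Fin 2) F)}
    (hT : T' ∈ GT F)
    {x₁ : Matrix.ProjGenLinGroup (Fin 2) F} (hx₁ : x₁ ∈ T'.map (tP F)) (h1 : x₁ * x₁ ≠ 1)
    {y : Matrix.ProjGenLinGroup (Fin 2) F} (hy : y ∈ Lsub F) (hc : y * x₁ = x₁ * y) :
    y ∈ T'.map (tP F) := by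
  obtain ⟨m, hm, rfl⟩ := hx₁
  obtain ⟨g, rfl⟩ := hy
  have hgm : g * m = m * g := by
    apply tP_injective F
    rw [map_mul, map_mul]
    exact hc
  have hm1 : m * m ≠ 1 := by
    intro h
    apply h1
    rw [← map_mul, h, map_one]
  exact ⟨g, GT_cent h2 T' hT m hm hm1 g hgm, rfl⟩

/-- a subgroup normalising an abelian subgroup `C` normalises the subgroup `U` of `L` that is the
centraliser in `L` of each of its elements with the property `P` -/
theorem le_normalizer_of_cent (hodd : Odd (Fintype.card F))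
    {M C U : Subgroup (Matrix.ProjGenLinGroup (Fin 2) F)}
    (hnorm : M ≤ normalizer (C : Set (Matrix.ProjGenLinGroup (Fin 2) F)))
    (hcommC : ∀ x ∈ C, ∀ y ∈ C, x * y = y * x)
    (P : Matrix.ProjGenLinGroup (Fin 2) F → Prop)
    (hPconj : ∀ g x : Matrix.ProjGenLinGroup (Fin 2) F, P x → P (g * x * g⁻¹))
    (hUL : U ≤ Lsub F) (hUcomm : ∀ x ∈ U, ∀ y ∈ U, x * y = y * x)
    (hcent : ∀ x₁ ∈ U, P x₁ → ∀ y ∈ Lsub F, y * x₁ = x₁ * y → y ∈ U)
    {x₀ : Matrix.ProjGenLinGroup (Fin 2) F} (hx₀C : x₀ ∈ C) (hx₀U : x₀ ∈ U) (hx₀P : P x₀) :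
    M ≤ normalizer (U : Set (Matrix.ProjGenLinGroup (Fin 2) F)) := by
  have hn : (Lsub F).Normal := normal_Lsub hodd
  intro g hg
  apply Subgroup.mem_normalizer_fintype
  intro n hnU
  have hx₁C : g * x₀ * g⁻¹ ∈ C := (mem_normalizer_iff.mp (hnorm hg) x₀).mp hx₀C
  have hx₁L : g * x₀ * g⁻¹ ∈ Lsub F := hn.conj_mem x₀ (hUL hx₀U) g
  have hx₁U : g * x₀ * g⁻¹ ∈ U :=
    hcent x₀ hx₀U hx₀P _ hx₁L (hcommC _ hx₁C _ hx₀C)
  have hnL : g * n * g⁻¹ ∈ Lsub F := hn.conj_mem n (hUL hnU) g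
  refine hcent _ hx₁U (hPconj g x₀ hx₀P) _ hnL ?_
  have hc := hUcomm n hnU x₀ hx₀U
  calc g * n * g⁻¹ * (g * x₀ * g⁻¹) = g * (n * x₀) * g⁻¹ := by group
    _ = g * (x₀ * n) * g⁻¹ := by rw [hc]
    _ = g * x₀ * g⁻¹ * (g * n * g⁻¹) := by group

theorem card_Lsub_gt (hodd : Odd (Fintype.card F)) (h3 : 3 < Fintype.card F) :
    2 * (Fintype.card F + 1) < Nat.card (Lsub F) := by
  have h1 := two_mul_card_Lsub hodd
  obtain ⟨q, hq⟩ : ∃ q, q = Fintype.card F := ⟨_, rfl⟩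
  rw [← hq] at h1 h3 hodd ⊢
  have hq5 : 5 ≤ q := by
    obtain ⟨k, hk⟩ := hodd
    omega
  obtain ⟨A, hA⟩ : ∃ A, A = q ^ 2 - 1 := ⟨_, rfl⟩
  have hA1 : q ^ 2 = A + 1 := by
    have : 5 ^ 2 ≤ q ^ 2 := Nat.pow_le_pow_left hq5 2
    omega
  rw [← hA] at h1
  have : 5 * q ≤ A + 1 := by nlinarith
  nlinarith

/-- the unipotent local case: a Borel subgroup -/
theorem local_U (p : ℕ) [Fact p.Prime] [CharP F p] (hodd : Odd (Fintype.card F))
    (h3 : 3 < Fintype.card F) {M : Subgroup (Matrix.ProjGenLinGroup (Fin 2) F)} (hM : IsCoatom M)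
    (hML : ¬ M ≤ Lsub F) {C : Subgroup (Matrix.ProjGenLinGroup (Fin 2) F)}
    (hCbot : C ≠ ⊥) (hnorm : M ≤ normalizer (C : Set (Matrix.ProjGenLinGroup (Fin 2) F)))
    (hp : IsPGroup p C) (hcomm : ∀ x ∈ C, ∀ y ∈ C, x * y = y * x) :
    Nat.card M = Fintype.card F * (Fintype.card F - 1) := by
  have hp2 := char_ne_two_of_odd p hodd
  have h2 := two_ne_zero_of_odd hodd
  have hpodd : Odd p := (Fact.out : p.Prime).odd_of_ne_two hp2
  obtain ⟨x₀, hx₀C, hx₀1⟩ := GPart.exists_ne_one_of_ne_bot hCbot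
  obtain ⟨k, hk⟩ := hp ⟨x₀, hx₀C⟩
  have hk' : x₀ ^ (p ^ k) = 1 := by
    have := congrArg Subtype.val hk
    simpa using this
  have hx₀L : x₀ ∈ Lsub F := mem_Lsub_of_pow hodd hpodd.pow hk'
  obtain ⟨x', rfl⟩ := hx₀L
  have hx'1 : x' ≠ 1 := by
    rintro rfl
    exact hx₀1 (map_one _)
  have hx'k : x' ^ (p ^ k) = 1 := by
    apply tP_injective F
    rw [map_pow, hk', map_one]
  obtain ⟨T', hT', hxT'⟩ := GM_cover x' hx'1
  have hU : T' ∈ GU F := by
    rcases mem_GM_iff.mp hT' with hU | hT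
    · exact hU
    · exfalso
      apply hx'1
      have h1 : x' ^ Nat.card T' = 1 := by
        have h0 : (⟨x', hxT'⟩ : T') ^ Nat.card T' = 1 := pow_card_eq_one'
        have h0' := congrArg Subtype.val h0
        rwa [Subgroup.coe_pow, Subgroup.coe_one] at h0'
      exact eq_one_of_pow_coprime h1 hx'k (Nat.Coprime.pow_right _ (coprime_card_GT p hodd hT))
  set U : Subgroup (Matrix.ProjGenLinGroup (Fin 2) F) := T'.map (tP F) with hUdef
  have hUL : U ≤ Lsub F := by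
    rintro _ ⟨y, -, rfl⟩
    exact ⟨y, rfl⟩
  have hx₀U : tP F x' ∈ U := Subgroup.mem_map_of_mem _ hxT'
  have hUcomm : ∀ x ∈ U, ∀ y ∈ U, x * y = y * x := by
    rintro _ ⟨a, ha, rfl⟩ _ ⟨b, hb, rfl⟩
    rw [← map_mul, ← map_mul, GM_comm T' hT' a ha b hb]
  have hMU : M ≤ normalizer (U : Set (Matrix.ProjGenLinGroup (Fin 2) F)) :=
    le_normalizer_of_cent hodd hnorm hcomm (fun x => x ≠ 1)
      (fun g x hx h => hx (by
        have : x = g⁻¹ * (g * x * g⁻¹) * g := by group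
        rw [this, h]; group))
      hUL hUcomm (fun x₁ hx₁ h1 y hy hc => cent_U hU hx₁ h1 hy hc) hx₀C hx₀U hx₀1
  have hUbot : U ≠ ⊥ := by
    intro h
    rw [h, Subgroup.mem_bot] at hx₀U
    exact hx₀1 hx₀U
  have hUcard : Nat.card U = Fintype.card F := by
    rw [hUdef, Subgroup.card_map_of_injective (tP_injective F), card_GU hU]
  have hUne : U ≠ Lsub F := by
    intro h
    have := card_Lsub_gt hodd h3
    rw [← h, hUcard] at this
    omega
  have hMN := coatom_eq_normalizer' (by omega) hM hUL hUbot hUne hMU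
  have h1 := card_eq_two_mul hodd hML
  have h3' : Nat.card (M ⊓ Lsub F : Subgroup (Matrix.ProjGenLinGroup (Fin 2) F)) =
      Nat.card (normalizer (T' : Set (ProjectiveSpecialLinearGroup (Fin 2) F))) := by
    rw [← card_normalizer_map_inf, ← hMN]
  have h4 := card_normalizer_GU hU
  rw [card_center_of_two_ne h2] at h4
  rw [h1, h3', h4]

end Cfsg.Agent.Helper8.Pg
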