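import Mathlib
import Cfsg.Agent.Helper8.PgE

set_option autoImplicit false

/-!
The toral local case for the maximal subgroups of `PGL₂(F)`: dihedral groups of orders `2(q ± 1)`.
-/

namespace Cfsg.Agent.Helper8.Pg

open Matrix Cfsg.Agent.Helper7.SL2 Cfsg.Agent.Helper8.SL2C Cfsg.Agent.Helper8.Dk
open Cfsg.Agent.Helper8.Ds Subgroup
open scoped Matrix

variable {F : Type*} [Field F] [Fintype F]

/-- the toral local case -/
theorem local_T (p : ℕ) [Fact p.Prime] [CharP F p] (hodd : Odd (Fintype.card F))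
    (h3 : 3 < Fintype.card F) {M : Subgroup (Matrix.ProjGenLinGroup (Fin 2) F)} (hM : IsCoatom M)
    (hML : ¬ M ≤ Lsub F) {C : Subgroup (Matrix.ProjGenLinGroup (Fin 2) F)} (hCM : C ≤ M)
    (hnorm : M ≤ normalizer (C : Set (Matrix.ProjGenLinGroup (Fin 2) F)))
    (hcop : (Nat.card C).Coprime p) (hcyc : IsCyclic C)
    (hdih : M ≤ C ∨ Nonempty (M ≃* DihedralGroup (Nat.card C))) :
    (Fintype.card F ≠ 5 ∧ Nonempty (M ≃* DihedralGroup (Fintype.card F - 1))) ∨
      Nonempty (M ≃* DihedralGroup (Fintype.card F + 1)) := by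
  have h2 := two_ne_zero_of_odd hodd
  have hcomm : ∀ x ∈ C, ∀ y ∈ C, x * y = y * x := by
    intro x hx y hy
    have := (IsCyclic.isMulCommutative (α := C)).is_comm.comm ⟨x, hx⟩ ⟨y, hy⟩
    exact congrArg Subtype.val this
  have hCpos : 0 < Nat.card C := Nat.card_pos
  by_cases hex : ∃ x₀ ∈ C, x₀ ∈ Lsub F ∧ x₀ * x₀ ≠ 1
  · obtain ⟨x₀, hx₀C, hx₀L, hx₀2⟩ := hex
    obtain ⟨x', rfl⟩ := hx₀L
    have hx'2 : x' * x' ≠ 1 := by
      intro h
      apply hx₀2
      rw [← map_mul, h, map_one]
    have hx'1 : x' ≠ 1 := by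
      rintro rfl
      exact hx'2 (mul_one _)
    have hx'C : x' ^ Nat.card C = 1 := by
      apply tP_injective F
      rw [map_pow, map_one]
      have h0 : (⟨tP F x', hx₀C⟩ : C) ^ Nat.card C = 1 := pow_card_eq_one'
      have h0' := congrArg Subtype.val h0
      rwa [Subgroup.coe_pow, Subgroup.coe_one] at h0'
    obtain ⟨T', hT', hxT'⟩ := GM_cover x' hx'1
    have hT : T' ∈ GT F := by
      rcases mem_GM_iff.mp hT' with hU | hT
      · exfalso
        apply hx'1
        obtain ⟨k, hk⟩ := GU_pgroup p T' hU ⟨x', hxT'⟩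
        have hk' : x' ^ (p ^ k) = 1 := by
          have := congrArg Subtype.val hk
          rwa [Subgroup.coe_pow, Subgroup.coe_one] at this
        exact eq_one_of_pow_coprime hx'C hk' (Nat.Coprime.pow_right _ hcop)
      · exact hT
    set T : Subgroup (Matrix.ProjGenLinGroup (Fin 2) F) := T'.map (tP F) with hTdef
    have hTL : T ≤ Lsub F := by
      rintro _ ⟨y, -, rfl⟩
      exact ⟨y, rfl⟩
    have hx₀T : tP F x' ∈ T := Subgroup.mem_map_of_mem _ hxT'
    have hTcomm : ∀ x ∈ T, ∀ y ∈ T, x * y = y * x := by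
      rintro _ ⟨a, ha, rfl⟩ _ ⟨b, hb, rfl⟩
      rw [← map_mul, ← map_mul, GM_comm T' hT' a ha b hb]
    have hMT : M ≤ normalizer (T : Set (Matrix.ProjGenLinGroup (Fin 2) F)) :=
      le_normalizer_of_cent hodd hnorm hcomm (fun x => x * x ≠ 1)
        (fun g x hx h => hx (by
          have : x * x = g⁻¹ * (g * x * g⁻¹ * (g * x * g⁻¹)) * g := by group
          rw [this, h]; group))
        hTL hTcomm (fun x₁ hx₁ h1 y hy hc => cent_T h2 hT hx₁ h1 hy hc) hx₀C hx₀T hx₀2
    have hx₀1 : tP F x' ≠ 1 := by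
      intro h
      apply hx₀2
      rw [h, mul_one]
    have hTbot : T ≠ ⊥ := by
      intro h
      rw [h, Subgroup.mem_bot] at hx₀T
      exact hx₀1 hx₀T
    have hTcard : Nat.card T = Nat.card T' := by
      rw [hTdef, Subgroup.card_map_of_injective (tP_injective F)]
    have hT'card := card_mul_mem_GT hT
    rw [card_center_of_two_ne h2] at hT'card
    have hTne : T ≠ Lsub F := by
      intro h
      have := card_Lsub_gt hodd h3
      rw [← h, hTcard] at this
      omega
    have hMN := coatom_eq_normalizer' (by omega) hM hTL hTbot hTne hMT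
    have h1 := card_eq_two_mul hodd hML
    have h3' : Nat.card (M ⊓ Lsub F : Subgroup (Matrix.ProjGenLinGroup (Fin 2) F)) =
        Nat.card (normalizer (T' : Set (ProjectiveSpecialLinearGroup (Fin 2) F))) := by
      rw [← card_normalizer_map_inf, ← hMN]
    have h4 := card_normalizer_GT hT
    have hMcard : Nat.card M = 4 * Nat.card T' := by rw [h1, h3', h4]; ring
    have hT'pos : 0 < Nat.card T' := Nat.card_pos
    rcases hdih with hle | ⟨⟨e⟩⟩
    · -- `M` would be abelian
      exfalso
      have hle' : (M ⊓ Lsub F : Subgroup (Matrix.ProjGenLinGroup (Fin 2) F)) ≤ T := by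
        intro y hy
        exact cent_T h2 hT hx₀T hx₀2 hy.2 (hcomm y (hle hy.1) _ hx₀C)
      have := Subgroup.card_le_of_le hle'
      rw [hTcard] at this
      omega
    · have hMc2 : Nat.card M = 2 * Nat.card C := by
        rw [Nat.card_congr e.toEquiv, DihedralGroup.nat_card]
      rcases hT'card with hq | hq
      · right
        have : Nat.card C = Fintype.card F + 1 := by omega
        rw [← this]
        exact ⟨e⟩
      · left
        have hC1 : Nat.card C = Fintype.card F - 1 := by omega
        refine ⟨?_, by rw [← hC1]; exact ⟨e⟩⟩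
        intro h5
        have hT2 : Nat.card T' = 2 := by omega
        apply hx'2
        have h0 : (⟨x', hxT'⟩ : T') ^ Nat.card T' = 1 := pow_card_eq_one'
        have h0' := congrArg Subtype.val h0
        rw [Subgroup.coe_pow, Subgroup.coe_one, hT2, pow_two] at h0'
        exact h0'
  · -- all elements of `C ⊓ L` are involutions: `M` is a small `2`-group
    exfalso
    push Not at hex
    obtain ⟨c, hc⟩ := hcyc.exists_generator
    have hord : orderOf c = Nat.card C := orderOf_eq_card_of_forall_mem_zpowers hc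
    have hc2 : (c : Matrix.ProjGenLinGroup (Fin 2) F) * c ∈ C := C.mul_mem c.2 c.2
    have hc4 := hex _ hc2 (sq_mem_Lsub hodd _)
    have hc4' : c ^ 4 = 1 := by
      apply Subtype.ext
      rw [Subgroup.coe_pow, Subgroup.coe_one]
      calc (c : Matrix.ProjGenLinGroup (Fin 2) F) ^ 4
          = (c : Matrix.ProjGenLinGroup (Fin 2) F) * c * ((c : Matrix.ProjGenLinGroup (Fin 2) F) * c) := by
            simp only [pow_succ, pow_zero, one_mul, mul_assoc]
        _ = 1 := hc4
    have hdvd : Nat.card C ∣ 2 ^ 2 := by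
      rw [← hord]
      exact orderOf_dvd_of_pow_eq_one hc4'
    obtain ⟨b, hb, hCb⟩ := (Nat.dvd_prime_pow Nat.prime_two).mp hdvd
    rcases hdih with hle | ⟨⟨e⟩⟩
    · have hMC : M = C := le_antisymm hle hCM
      exact not_coatom_two_group hodd h3 hM hML (a := b) (by rw [hMC, hCb]) (by omega)
    · have hMc2 : Nat.card M = 2 * Nat.card C := by
        rw [Nat.card_congr e.toEquiv, DihedralGroup.nat_card]
      exact not_coatom_two_group hodd h3 hM hML (a := b + 1) (by rw [hMc2, hCb, pow_succ]; ring)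
        (by omega)

end Cfsg.Agent.Helper8.Pg
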