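import Mathlib
import Cfsg.Agent.Helper8.PgC
import Cfsg.Agent.Helper8.PgD

set_option autoImplicit false

/-!
A maximal subgroup of `PGL₂(F)` isomorphic to `PGL₂(K)` is conjugate to the standard copy of
`PGL₂(K)`.
-/

namespace Cfsg.Agent.Helper8.Pg

open Matrix Cfsg.Agent.Helper7.SL2 Cfsg.Agent.Helper8.SL2C Cfsg.Agent.Helper8.Dk
open Cfsg.Agent.Helper8.Ds Subgroup Cfsg.Agent.Lead.PSL2Sub
open scoped Matrix

variable {F : Type*} [Field F] [Fintype F]

/-- under an isomorphism of a subgroup `M ⊄ L` with `PGL₂(K)`, the subgroup `M ⊓ L` corresponds to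
the image of `PSL₂(K)` -/
theorem mem_Lsub_iff_of_PGL (hodd : Odd (Fintype.card F))
    {M : Subgroup (Matrix.ProjGenLinGroup (Fin 2) F)} (hML : ¬ M ≤ Lsub F)
    {K : Type*} [Field K] [Fintype K] (hK : Odd (Fintype.card K))
    (e : M ≃* Matrix.ProjGenLinGroup (Fin 2) K) (y : M) :
    (y : Matrix.ProjGenLinGroup (Fin 2) F) ∈ Lsub F ↔ e y ∈ Lsub K := by
  have h2 : (2 : K) ≠ 0 := two_ne_zero_of_odd hK
  have key : ∀ g : SpecialLinearGroup (Fin 2) K,
      ((e.symm (tP K (pmk g)) : M) : Matrix.ProjGenLinGroup (Fin 2) F) ∈ Lsub F := by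
    intro g
    refine Cfsg.Agent.Helper7.Transv.transvection_induction
      (fun g => ((e.symm (tP K (pmk g)) : M) : Matrix.ProjGenLinGroup (Fin 2) F) ∈ Lsub F) ?_ ?_ g
    · intro i j hij x
      have hx : x = x / 2 + x / 2 := by field_simp; ring
      fin_cases i <;> fin_cases j
      · exact absurd rfl hij
      · show ((e.symm (tP K (pmk _)) : M) : Matrix.ProjGenLinGroup (Fin 2) F) ∈ Lsub F
        rw [transvection_01, hx, Cfsg.Agent.Helper8.SL2Omega.up_add, ← pmk_mul, map_mul, map_mul,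
          Subgroup.coe_mul]
        exact sq_mem_Lsub hodd _
      · show ((e.symm (tP K (pmk _)) : M) : Matrix.ProjGenLinGroup (Fin 2) F) ∈ Lsub F
        rw [transvection_10, hx, Cfsg.Agent.Helper8.SL2Omega.lo_add, ← pmk_mul, map_mul, map_mul,
          Subgroup.coe_mul]
        exact sq_mem_Lsub hodd _
      · exact absurd rfl hij
    · intro A B hA hB
      show ((e.symm (tP K (pmk (A * B))) : M) : Matrix.ProjGenLinGroup (Fin 2) F) ∈ Lsub F
      rw [← pmk_mul, map_mul, map_mul, Subgroup.coe_mul]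
      exact (Lsub F).mul_mem hA hB
  set N₁ : Subgroup M := (Lsub F).subgroupOf M with hN₁
  set N₂ : Subgroup M := (Lsub K).comap e.toMonoidHom with hN₂
  have hle : N₂ ≤ N₁ := by
    intro z hz
    obtain ⟨w, hw⟩ : e z ∈ Lsub K := hz
    obtain ⟨g, rfl⟩ := pmk_surjective w
    have h1 : z = e.symm (tP K (pmk g)) := by rw [hw, MulEquiv.symm_apply_apply]
    rw [hN₁, mem_subgroupOf, h1]
    exact key g
  have hc1 : Nat.card N₁ = Nat.card (M ⊓ Lsub F : Subgroup (Matrix.ProjGenLinGroup (Fin 2) F)) := by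
    rw [hN₁, card_subgroupOf', inf_comm]
  have hc2 : Nat.card N₂ = Nat.card (Lsub K) := card_comap_equiv e (Lsub K)
  have hc3 := card_eq_two_mul hodd hML
  have hc4 := two_mul_card_Lsub hK
  have hc5 : Nat.card M = Fintype.card K * (Fintype.card K ^ 2 - 1) := by
    rw [Nat.card_congr e.toEquiv, card_PGL2]
  have heq : N₂ = N₁ := Subgroup.eq_of_le_of_card_ge hle (by omega)
  constructor
  · intro hy
    have : y ∈ N₁ := by rw [hN₁, mem_subgroupOf]; exact hy
    rw [← heq] at this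
    exact this
  · intro hy
    have : y ∈ N₂ := hy
    rw [heq, hN₁, mem_subgroupOf] at this
    exact this

omit [Fintype F] in
/-- the image in `PGL₂(F)` of a twisted subfield subgroup -/
theorem map_range_pslTw {K : Type*} [Field K] (f : K →+* F) (d : F) (hd : d ≠ 0) :
    (pslTw f d hd).range.map (tP F) =
      cj (Matrix.ProjGenLinGroup.mk (dmat d hd)) ((Lsub K).map (pglMap f)) := by
  apply le_antisymm
  · rintro _ ⟨_, ⟨w, rfl⟩, rfl⟩
    obtain ⟨s, rfl⟩ := pmk_surjective w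
    rw [pslTw_pmk]
    change Matrix.ProjectiveSpecialLinearGroup.toPGL (pmk (psi f d hd s)) ∈ _
    rw [toPGL_psi]
    exact conj_mem_cj ⟨tP K (pmk s), ⟨pmk s, rfl⟩, rfl⟩
  · intro z hz
    rw [mem_cj] at hz
    obtain ⟨_, ⟨w, rfl⟩, hw⟩ := hz
    obtain ⟨s, rfl⟩ := pmk_surjective w
    refine ⟨pslTw f d hd (pmk s), ⟨pmk s, rfl⟩, ?_⟩
    rw [pslTw_pmk]
    change Matrix.ProjectiveSpecialLinearGroup.toPGL (pmk (psi f d hd s)) = z
    rw [toPGL_psi]
    have : pglMap f (Matrix.ProjGenLinGroup.mk (Matrix.SpecialLinearGroup.toGL s)) =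
        (Matrix.ProjGenLinGroup.mk (dmat d hd))⁻¹ * z * Matrix.ProjGenLinGroup.mk (dmat d hd) := hw
    rw [this]
    group

theorem conj_of_PGL (p : ℕ) [Fact p.Prime] [CharP F p] (hodd : Odd (Fintype.card F))
    (h3 : 3 < Fintype.card F) {M : Subgroup (Matrix.ProjGenLinGroup (Fin 2) F)} (hM : IsCoatom M)
    (hML : ¬ M ≤ Lsub F) {K : Type} [Field K] [Fintype K] (f : K →+* F)
    (e : M ≃* Matrix.ProjGenLinGroup (Fin 2) K) :
    ∃ x : Matrix.ProjGenLinGroup (Fin 2) F, M = cj x (pglMap f).range := by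
  have : CharP K p := charP_of_ringHom p f
  obtain ⟨n, -, hKn⟩ := FiniteField.card K p
  have hp2 := char_ne_two_of_odd p hodd
  have hKodd : Odd (Fintype.card K) := by
    rw [hKn]
    exact (Nat.Prime.odd_of_ne_two Fact.out hp2).pow
  have hiff := mem_Lsub_iff_of_PGL hodd hML hKodd e
  set M₀' : Subgroup (ProjectiveSpecialLinearGroup (Fin 2) F) := (M ⊓ Lsub F).comap (tP F) with hM₀'
  have hmc : M₀'.map (tP F) = M ⊓ Lsub F := Subgroup.map_comap_eq_self inf_le_right
  have hgood : Good (p ^ (n : ℕ)) M₀' := by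
    intro x' hx'
    have hxM : tP F x' ∈ M := hx'.1
    have hxL : ((⟨tP F x', hxM⟩ : M) : Matrix.ProjGenLinGroup (Fin 2) F) ∈ Lsub F := hx'.2
    obtain ⟨z, hz⟩ := (hiff ⟨tP F x', hxM⟩).mp hxL
    obtain ⟨m, hm, hk⟩ := goodG_PSL2 hKodd z
    rw [hKn] at hk
    refine ⟨m, ?_, hk⟩
    apply tP_injective F
    rw [map_pow, map_one]
    have h1 : (⟨tP F x', hxM⟩ : M) ^ m = 1 := by
      apply e.injective
      rw [map_pow, ← hz, ← map_pow, hm, map_one, map_one]
    have := congrArg Subtype.val h1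
    rwa [Subgroup.coe_pow, Subgroup.coe_one] at this
  -- the four-group
  let ψ : ProjectiveSpecialLinearGroup (Fin 2) K →* Matrix.ProjGenLinGroup (Fin 2) F :=
    M.subtype.comp (e.symm.toMonoidHom.comp (tP K))
  have hψ : Function.Injective ψ :=
    M.subtype_injective.comp (e.symm.injective.comp (tP_injective K))
  have hψmem : ∀ z, ψ z ∈ M ⊓ Lsub F := by
    intro z
    refine ⟨(e.symm (tP K z)).2, ?_⟩
    change ((e.symm (tP K z) : M) : Matrix.ProjGenLinGroup (Fin 2) F) ∈ Lsub F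
    rw [hiff, MulEquiv.apply_symm_apply]
    exact ⟨z, rfl⟩
  obtain ⟨a, b, ha, hb, hab, ha2, hb2, hc⟩ := hasV4_PSL2 hKodd
  obtain ⟨x', hx'⟩ := (hψmem a).2
  obtain ⟨y', hy'⟩ := (hψmem b).2
  have hx'M : x' ∈ M₀' := by
    change tP F x' ∈ M ⊓ Lsub F
    rw [hx']; exact hψmem a
  have hy'M : y' ∈ M₀' := by
    change tP F y' ∈ M ⊓ Lsub F
    rw [hy']; exact hψmem b
  have hx1 : x' ≠ 1 := by
    rintro rfl
    rw [map_one] at hx'
    exact ha (hψ (by rw [← hx', map_one]))
  have hy1 : y' ≠ 1 := by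
    rintro rfl
    rw [map_one] at hy'
    exact hb (hψ (by rw [← hy', map_one]))
  have hxy : x' ≠ y' := by
    rintro rfl
    exact hab (hψ (by rw [← hx', ← hy']))
  have hx2 : x' * x' = 1 := by
    apply tP_injective F
    rw [map_mul, hx', ← map_mul, ha2, map_one, map_one]
  have hy2 : y' * y' = 1 := by
    apply tP_injective F
    rw [map_mul, hy', ← map_mul, hb2, map_one, map_one]
  have hcomm : x' * y' = y' * x' := by
    apply tP_injective F
    rw [map_mul, map_mul, hx', hy', ← map_mul, ← map_mul, hc]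
  obtain ⟨d, hd, g, hle⟩ := descent_of_orders p hp2 f n hKn M₀' hx'M hy'M hx1 hy1 hxy hx2 hy2
    hcomm hgood
  -- cardinalities
  have hc1 : Nat.card M₀' = Nat.card (M ⊓ Lsub F : Subgroup (Matrix.ProjGenLinGroup (Fin 2) F)) := by
    rw [← hmc, Subgroup.card_map_of_injective (tP_injective F)]
  have hc3 := card_eq_two_mul hodd hML
  have hc4 := two_mul_card_PSL2 hKodd
  have hc5 : Nat.card M = Fintype.card K * (Fintype.card K ^ 2 - 1) := by
    rw [Nat.card_congr e.toEquiv, card_PGL2]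
  have heq : cj g M₀' = (pslTw f d hd).range :=
    Subgroup.eq_of_le_of_card_ge hle (by rw [card_cj, card_pslTw_range]; omega)
  have hM₀ : M₀' = cj g⁻¹ (pslTw f d hd).range := by rw [← heq, cj_inv_cj]
  set x₀ : Matrix.ProjGenLinGroup (Fin 2) F :=
    tP F g⁻¹ * Matrix.ProjGenLinGroup.mk (dmat d hd) with hx₀
  have hML' : M ⊓ Lsub F = cj x₀ ((Lsub K).map (pglMap f)) := by
    rw [← hmc, hM₀, map_cj, map_range_pslTw, ← cj_mul]
  have hnK : (Lsub K).Normal := normal_Lsub hKodd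
  have hY : cj x₀ (pglMap f).range ≤
      normalizer ((M ⊓ Lsub F : Subgroup (Matrix.ProjGenLinGroup (Fin 2) F)) :
        Set (Matrix.ProjGenLinGroup (Fin 2) F)) := by
    rw [hML', normalizer_cj]
    apply cj_mono
    have h1 := Subgroup.le_normalizer_map (H := Lsub K) (pglMap f)
    rw [Subgroup.normalizer_eq_top_iff.mpr hnK, ← MonoidHom.range_eq_map] at h1
    exact h1
  -- `M` is the normaliser of `M ⊓ L`
  have hk2 : 2 ≤ Fintype.card K := Fintype.one_lt_card
  have hk3 : 3 ≤ Fintype.card K := by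
    obtain ⟨j, hj⟩ := hKodd
    omega
  have hk8 : 8 ≤ Fintype.card K ^ 2 - 1 := by
    have : 3 ^ 2 ≤ Fintype.card K ^ 2 := Nat.pow_le_pow_left hk3 2
    omega
  have hk24 : 24 ≤ Fintype.card K * (Fintype.card K ^ 2 - 1) := by
    calc 24 = 3 * 8 := by norm_num
      _ ≤ _ := Nat.mul_le_mul hk3 hk8
  have hVbot : (M ⊓ Lsub F : Subgroup (Matrix.ProjGenLinGroup (Fin 2) F)) ≠ ⊥ := by
    intro h
    rw [h, Subgroup.card_bot] at hc3
    omega
  have hVne : (M ⊓ Lsub F : Subgroup (Matrix.ProjGenLinGroup (Fin 2) F)) ≠ Lsub F := by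
    intro h
    apply hM.1
    apply Subgroup.eq_top_of_card_eq
    rw [hc3, h, two_mul_card_Lsub hodd, card_PGL2]
  have hMN := coatom_eq_normalizer' (by omega) hM inf_le_right hVbot hVne
    (le_normalizer_inf_Lsub hodd M)
  refine ⟨x₀, ?_⟩
  rw [← hMN] at hY
  symm
  apply Subgroup.eq_of_le_of_card_ge hY
  rw [card_cj, Nat.card_congr (MonoidHom.ofInjective (pglMap_injective f)).symm.toEquiv, card_PGL2,
    hc5]

end Cfsg.Agent.Helper8.Pg
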