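import Mathlib
import Cfsg.Agent.Helper8.PgG

set_option autoImplicit false

/-!
A maximal subgroup of `PGL₂(F)` isomorphic to `PGL₂(K)`, not containing `L`: the degree of `F` over
`K` is an odd prime.
-/

namespace Cfsg.Agent.Helper8.Pg

open Matrix Cfsg.Agent.Helper7.SL2 Cfsg.Agent.Helper8.SL2C Cfsg.Agent.Helper8.Dk
open Cfsg.Agent.Helper8.Ds Subgroup Cfsg.Agent.Lead.PSL2Sub
open scoped Matrix

theorem pglMap_comp_apply {K K' F : Type*} [Field K] [Field K'] [Field F] (f' : K →+* K')
    (f'' : K' →+* F) (y : Matrix.ProjGenLinGroup (Fin 2) K) :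
    pglMap (f''.comp f') y = pglMap f'' (pglMap f' y) := by
  induction y using Matrix.ProjGenLinGroup.induction_on with | mk g =>
  rw [pglMap_mk, pglMap_mk, pglMap_mk]
  congr 1

variable {F : Type*} [Field F] [Fintype F]

theorem case_PGL' (p : ℕ) [Fact p.Prime] [CharP F p] (hodd : Odd (Fintype.card F))
    (h3 : 3 < Fintype.card F) {M : Subgroup (Matrix.ProjGenLinGroup (Fin 2) F)} (hM : IsCoatom M)
    (hML : ¬ M ≤ Lsub F) {K : Type} [Field K] [Fintype K] {r : ℕ}
    (hr : Fintype.card K ^ r = Fintype.card F)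
    (e : M ≃* Matrix.ProjGenLinGroup (Fin 2) K) : r.Prime ∧ Odd r := by
  have hk2 : 2 ≤ Fintype.card K := Fintype.one_lt_card
  have hc5 : Nat.card M = Fintype.card K * (Fintype.card K ^ 2 - 1) := by
    rw [Nat.card_congr e.toEquiv, card_PGL2]
  have hr0 : r ≠ 0 := by
    rintro rfl
    rw [pow_zero] at hr
    omega
  have hr1 : r ≠ 1 := by
    rintro rfl
    rw [pow_one] at hr
    apply hM.1
    apply Subgroup.eq_top_of_card_eq
    rw [hc5, card_PGL2, hr]
  have hnL : (Lsub F).Normal := normal_Lsub hodd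
  have hreven : ¬ Even r := by
    rintro ⟨j, hj⟩
    obtain ⟨f⟩ := exists_ringHom (F := F) (K := K) r hr
    obtain ⟨x, hx⟩ := conj_of_PGL p hodd h3 hM hML f e
    have hsq := exists_sqrt_of_even f (Nat.odd_iff.mp hodd) j (by rw [← hr, hj, two_mul])
    have hle : (pglMap f).range ≤ Lsub F := range_pglMap_le f hsq
    apply hML
    rw [hx, ← cj_of_normal x (Lsub F)]
    exact cj_mono hle
  have hrodd : Odd r := Nat.not_even_iff_odd.mp hreven
  refine ⟨?_, hrodd⟩
  by_contra hnp
  obtain ⟨s, hs, hs2, hsr⟩ := Nat.exists_dvd_of_not_prime2 (by omega) hnp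
  obtain ⟨t, ht⟩ := hs
  have ht2 : 2 ≤ t := by
    by_contra hlt
    have : t = 0 ∨ t = 1 := by omega
    rcases this with rfl | rfl
    · omega
    · omega
  obtain ⟨f₀⟩ := exists_ringHom (F := F) (K := K) r hr
  have : CharP K p := charP_of_ringHom p f₀
  obtain ⟨a, -, hKa⟩ := FiniteField.card K p
  obtain ⟨K', _, _, hK'⟩ := exists_field p ((a : ℕ) * s) (by have := a.pos; positivity)
  have hKK' : Fintype.card K ^ s = Fintype.card K' := by rw [hK', hKa, ← pow_mul]
  have hK'F : Fintype.card K' ^ t = Fintype.card F := by rw [← hKK', ← pow_mul, ← ht, hr]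
  obtain ⟨f'⟩ := exists_ringHom (F := K') (K := K) s hKK'
  obtain ⟨f''⟩ := exists_ringHom (F := F) (K := K') t hK'F
  obtain ⟨x, hx⟩ := conj_of_PGL p hodd h3 hM hML (f''.comp f') e
  have hle : (pglMap (f''.comp f')).range ≤ (pglMap f'').range := by
    rintro _ ⟨y, rfl⟩
    rw [pglMap_comp_apply]
    exact ⟨_, rfl⟩
  have hMY : M ≤ cj x (pglMap f'').range := by
    rw [hx]
    exact cj_mono hle
  have hYc : Nat.card (cj x (pglMap f'').range) =
      Fintype.card K' * (Fintype.card K' ^ 2 - 1) := by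
    rw [card_cj, Nat.card_congr (MonoidHom.ofInjective (pglMap_injective f'')).symm.toEquiv,
      card_PGL2]
  have hkk' : Fintype.card K < Fintype.card K' := by
    rw [← hKK']
    calc Fintype.card K = Fintype.card K ^ 1 := (pow_one _).symm
      _ < Fintype.card K ^ s := Nat.pow_lt_pow_right hk2 (by omega)
  have hk'2 : 2 ≤ Fintype.card K' := Fintype.one_lt_card
  have hk'q : Fintype.card K' < Fintype.card F := by
    rw [← hK'F]
    calc Fintype.card K' = Fintype.card K' ^ 1 := (pow_one _).symm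
      _ < Fintype.card K' ^ t := Nat.pow_lt_pow_right hk'2 (by omega)
  rcases eq_or_lt_of_le hMY with h | h
  · have := cube_strict hk2 hkk'
    rw [← hc5, ← hYc, ← h] at this
    exact lt_irrefl _ this
  · have htop := hM.2 _ h
    have := cube_strict hk'2 hk'q
    rw [← hYc, htop, Subgroup.card_top, card_PGL2] at this
    exact lt_irrefl _ this

end Cfsg.Agent.Helper8.Pg
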