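import Mathlib
import Cfsg.Agent.Helper8.DsC

set_option autoImplicit false

/-!
A matrix over `F` conjugating the standard quaternion frame to a frame over a subfield `K` is
proportional to a matrix over `K`.
-/

namespace Cfsg.Agent.Helper8.Pg

open Matrix Cfsg.Agent.Helper8.Ds
open scoped Matrix

variable {F : Type*} [Field F] {K : Type*} [Field K]

theorem A1_mul_A1 : (A1 : Matrix (Fin 2) (Fin 2) F) * A1 = -1 := by
  unfold A1
  ext i j
  fin_cases i <;> fin_cases j <;> simp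

theorem B1_mul_B1 (r s : F) (hrs : r ^ 2 + s ^ 2 = -1) (hs : s ≠ 0) : B1 r s * B1 r s = -1 := by
  unfold B1
  ext i j
  fin_cases i <;> fin_cases j <;> simp <;> field_simp <;>
    first | ring1 | linear_combination (-1 : F) * hrs | linear_combination hrs

theorem A1_mul_B1 (r s : F) : A1 * B1 r s = -(B1 r s * A1) := by
  unfold A1 B1
  ext i j
  fin_cases i <;> fin_cases j <;> simp

theorem A1_map (f : K →+* F) : (A1 : Matrix (Fin 2) (Fin 2) K).map f = A1 := by
  unfold A1
  ext i j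
  fin_cases i <;> fin_cases j <;> simp

theorem B1_map (f : K →+* F) (r s : K) : (B1 r s).map f = B1 (f r) (f s) := by
  unfold B1
  ext i j
  fin_cases i <;> fin_cases j <;> simp

/-- a matrix commuting with the standard frame is scalar -/
theorem scalar_of_comm (h2 : (2 : F) ≠ 0) (r s : F) (hs : s ≠ 0) (Z : Matrix (Fin 2) (Fin 2) F)
    (hA : Z * A1 = A1 * Z) (hB : Z * B1 r s = B1 r s * Z) :
    Z = Z 0 0 • (1 : Matrix (Fin 2) (Fin 2) F) := by
  have a00 := congrArg (fun X : Matrix (Fin 2) (Fin 2) F => X 0 0) hA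
  have a01 := congrArg (fun X : Matrix (Fin 2) (Fin 2) F => X 0 1) hA
  have b01 := congrArg (fun X : Matrix (Fin 2) (Fin 2) F => X 0 1) hB
  simp only [Matrix.mul_apply, Fin.sum_univ_two, A1, B1, Matrix.of_apply, Matrix.cons_val',
    Matrix.cons_val_zero, Matrix.cons_val_one, Matrix.cons_val_fin_one] at a00 a01 b01
  have e1 : Z 0 1 = -Z 1 0 := by linear_combination a00
  have e2 : Z 1 1 = Z 0 0 := by linear_combination a01
  have e3 : Z 0 1 = 0 := by
    have h : 2 * s⁻¹ * Z 0 1 = 0 := by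
      rw [e2] at b01
      linear_combination -b01
    have hs' : s⁻¹ ≠ 0 := inv_ne_zero hs
    rcases mul_eq_zero.mp h with h | h
    · rcases mul_eq_zero.mp h with h | h
      · exact absurd h h2
      · exact absurd h hs'
    · exact h
  have e4 : Z 1 0 = 0 := by linear_combination e1 - e3
  ext i j
  fin_cases i <;> fin_cases j <;> simp [e2, e3, e4]

theorem mul_right_cancel_of_det {X Y g : Matrix (Fin 2) (Fin 2) F} (hg : g.det ≠ 0)
    (h : X * g = Y * g) : X = Y := by
  have hu : IsUnit g.det := isUnit_iff_ne_zero.mpr hg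
  have := congrArg (fun W => W * g⁻¹) h
  simp only [Matrix.mul_assoc, Matrix.mul_nonsing_inv g hu, Matrix.mul_one] at this
  exact this

/-- the main statement -/
theorem prop_of_frame (f : K →+* F) (h2 : (2 : K) ≠ 0) (r₀ s₀ : K) (hrs : r₀ ^ 2 + s₀ ^ 2 = -1)
    (hs : s₀ ≠ 0) (g : Matrix (Fin 2) (Fin 2) F) (hg : g.det ≠ 0)
    (A' B' : Matrix (Fin 2) (Fin 2) K) (hA : g * A1 = A'.map f * g)
    (hB : g * B1 (f r₀) (f s₀) = B'.map f * g) :
    ∃ (c : F) (Q : Matrix (Fin 2) (Fin 2) K), Q.det ≠ 0 ∧ g = c • Q.map f := by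
  have h2F : (2 : F) ≠ 0 := by
    intro h
    apply h2
    apply f.injective
    rw [map_ofNat, h, map_zero]
  have hrs' : f r₀ ^ 2 + f s₀ ^ 2 = -1 := by
    rw [← map_pow, ← map_pow, ← map_add, hrs, map_neg, map_one]
  have hs' : f s₀ ≠ 0 := fun h => hs (f.injective (by rw [h, map_zero]))
  have hinj : Function.Injective (fun X : Matrix (Fin 2) (Fin 2) K => X.map f) :=
    Matrix.map_injective f.injective
  have hneg1 : (-1 : Matrix (Fin 2) (Fin 2) K).map f = -1 := by
    ext i j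
    fin_cases i <;> fin_cases j <;> simp
  -- the relations of the new frame
  have hAA : A' * A' = -1 := by
    apply hinj
    change (A' * A').map f = (-1 : Matrix (Fin 2) (Fin 2) K).map f
    rw [Matrix.map_mul, hneg1]
    apply mul_right_cancel_of_det hg
    rw [Matrix.mul_assoc, ← hA, ← Matrix.mul_assoc, ← hA, Matrix.mul_assoc, A1_mul_A1]
    simp
  have hBB : B' * B' = -1 := by
    apply hinj
    change (B' * B').map f = (-1 : Matrix (Fin 2) (Fin 2) K).map f
    rw [Matrix.map_mul, hneg1]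
    apply mul_right_cancel_of_det hg
    rw [Matrix.mul_assoc, ← hB, ← Matrix.mul_assoc, ← hB, Matrix.mul_assoc,
      B1_mul_B1 _ _ hrs' hs']
    simp
  have hAB : A' * B' = -(B' * A') := by
    apply hinj
    change (A' * B').map f = (-(B' * A')).map f
    have hneg : (-(B' * A')).map f = -((B' * A').map f) := by
      ext i j
      simp only [Matrix.map_apply, Matrix.neg_apply, map_neg]
    rw [hneg, Matrix.map_mul, Matrix.map_mul]
    apply mul_right_cancel_of_det hg
    rw [Matrix.mul_assoc, ← hB, ← Matrix.mul_assoc, ← hA, Matrix.mul_assoc, A1_mul_B1,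
      Matrix.neg_mul, Matrix.mul_assoc (B'.map f), ← hA, ← Matrix.mul_assoc (B'.map f), ← hB,
      Matrix.mul_neg, Matrix.mul_assoc]
  obtain ⟨Q, hQ, hAQ, hBQ⟩ := exists_frame A' B' hAA hBB hAB h2 r₀ s₀ hrs hs
  have hQf : (Q.map f).det ≠ 0 := by
    have : (Q.map f).det = f Q.det := by
      rw [RingHom.map_det, RingHom.mapMatrix_apply]
    rw [this]
    intro h
    exact hQ (f.injective (by rw [h, map_zero]))
  have hu : IsUnit (Q.map f).det := isUnit_iff_ne_zero.mpr hQf
  have hAQ' : A'.map f * Q.map f = Q.map f * A1 := by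
    rw [← Matrix.map_mul, hAQ, Matrix.map_mul, A1_map]
  have hBQ' : B'.map f * Q.map f = Q.map f * B1 (f r₀) (f s₀) := by
    rw [← Matrix.map_mul, hBQ, Matrix.map_mul, B1_map]
  -- `(Q.map f)⁻¹ * g` commutes with the frame
  have hinvA : (Q.map f)⁻¹ * A'.map f = A1 * (Q.map f)⁻¹ := by
    have h1 : (Q.map f)⁻¹ * (A'.map f * Q.map f) * (Q.map f)⁻¹ =
        (Q.map f)⁻¹ * (Q.map f * A1) * (Q.map f)⁻¹ := by rw [hAQ']
    simp only [Matrix.mul_assoc, Matrix.mul_nonsing_inv _ hu, Matrix.mul_one] at h1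
    rw [h1, ← Matrix.mul_assoc, ← Matrix.mul_assoc, Matrix.nonsing_inv_mul _ hu, Matrix.one_mul]
  have hinvB : (Q.map f)⁻¹ * B'.map f = B1 (f r₀) (f s₀) * (Q.map f)⁻¹ := by
    have h1 : (Q.map f)⁻¹ * (B'.map f * Q.map f) * (Q.map f)⁻¹ =
        (Q.map f)⁻¹ * (Q.map f * B1 (f r₀) (f s₀)) * (Q.map f)⁻¹ := by rw [hBQ']
    simp only [Matrix.mul_assoc, Matrix.mul_nonsing_inv _ hu, Matrix.mul_one] at h1
    rw [h1, ← Matrix.mul_assoc, ← Matrix.mul_assoc, Matrix.nonsing_inv_mul _ hu, Matrix.one_mul]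
  set Z := (Q.map f)⁻¹ * g with hZ
  have hZA : Z * A1 = A1 * Z := by
    rw [hZ, Matrix.mul_assoc, hA, ← Matrix.mul_assoc, hinvA, Matrix.mul_assoc]
  have hZB : Z * B1 (f r₀) (f s₀) = B1 (f r₀) (f s₀) * Z := by
    rw [hZ, Matrix.mul_assoc, hB, ← Matrix.mul_assoc, hinvB, Matrix.mul_assoc]
  have hsc := scalar_of_comm h2F (f r₀) (f s₀) hs' Z hZA hZB
  refine ⟨Z 0 0, Q, hQ, ?_⟩
  have hg' : g = Q.map f * Z := by
    rw [hZ, ← Matrix.mul_assoc, Matrix.mul_nonsing_inv _ hu, Matrix.one_mul]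
  rw [hg', hsc]
  simp

end Cfsg.Agent.Helper8.Pg
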