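import Mathlib
import Cfsg.Agent.Helper8.PgI
import Cfsg.Agent.Helper8.PgH

set_option autoImplicit false

/-!
Elements of `PGL₂(F)` normalising a four-group of `L` are, in a suitable frame, defined over the
prime field.
-/

namespace Cfsg.Agent.Helper8.Pg

open Matrix Cfsg.Agent.Helper7.SL2 Cfsg.Agent.Helper8.SL2C Cfsg.Agent.Helper8.Dk
open Cfsg.Agent.Helper8.Ds Subgroup Cfsg.Agent.Lead.PSL2Sub
open scoped Matrix

variable {F : Type*} [Field F]

theorem tP_pmk (a : SpecialLinearGroup (Fin 2) F) :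
    tP F (pmk a) = Matrix.ProjGenLinGroup.mk (Matrix.SpecialLinearGroup.toGL a) := rfl

/-- an element of `GL₂(F)` conjugating a square root of `-1` to another one, modulo scalars,
conjugates it to this other one up to sign -/
theorem twist_of_conj {a a' : SpecialLinearGroup (Fin 2) F} (haa : a * a = -1)
    (ha' : a' * a' = -1) (g : GL (Fin 2) F)
    (h : Matrix.ProjGenLinGroup.mk g * tP F (pmk a) * (Matrix.ProjGenLinGroup.mk g)⁻¹ =
      tP F (pmk a')) :
    ∃ ε : F, (ε = 1 ∨ ε = -1) ∧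
      (g : Matrix (Fin 2) (Fin 2) F) * (a : Matrix (Fin 2) (Fin 2) F) =
        ε • ((a' : Matrix (Fin 2) (Fin 2) F) * (g : Matrix (Fin 2) (Fin 2) F)) := by
  have h1 : Matrix.ProjGenLinGroup.mk (g * Matrix.SpecialLinearGroup.toGL a) =
      Matrix.ProjGenLinGroup.mk (Matrix.SpecialLinearGroup.toGL a' * g) := by
    rw [map_mul, map_mul, ← tP_pmk, ← tP_pmk, ← h]
    group
  rw [Matrix.ProjGenLinGroup.mk_eq_mk_iff] at h1
  obtain ⟨u, hu⟩ := h1
  have hu' : (u : F) • ((g : Matrix (Fin 2) (Fin 2) F) * (a : Matrix (Fin 2) (Fin 2) F)) =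
      (a' : Matrix (Fin 2) (Fin 2) F) * (g : Matrix (Fin 2) (Fin 2) F) := by
    have := congrArg (fun x : GL (Fin 2) F => (x : Matrix (Fin 2) (Fin 2) F)) hu
    simp only [Matrix.GeneralLinearGroup.coe_mul, Matrix.GeneralLinearGroup.coe_scalar,
      Matrix.SpecialLinearGroup.coe_GL_coe_matrix] at this
    rw [← this]
    ext i j
    simp [Matrix.mul_apply, Matrix.scalar_apply, Matrix.diagonal_apply, mul_comm]
  have hA : (a : Matrix (Fin 2) (Fin 2) F) * (a : Matrix (Fin 2) (Fin 2) F) = -1 := by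
    rw [← Matrix.SpecialLinearGroup.coe_mul, haa, coe_neg_one]
  have hA' : (a' : Matrix (Fin 2) (Fin 2) F) * (a' : Matrix (Fin 2) (Fin 2) F) = -1 := by
    rw [← Matrix.SpecialLinearGroup.coe_mul, ha', coe_neg_one]
  have hgdet : (g : Matrix (Fin 2) (Fin 2) F).det ≠ 0 := by
    have := (Matrix.GeneralLinearGroup.det g).ne_zero
    simpa using this
  -- `u² = 1`
  have hsq : ((u : F) * u) • (g : Matrix (Fin 2) (Fin 2) F) = (g : Matrix (Fin 2) (Fin 2) F) := by
    have e1 : (a' : Matrix (Fin 2) (Fin 2) F) * (a' : Matrix (Fin 2) (Fin 2) F) *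
        (g : Matrix (Fin 2) (Fin 2) F) =
        ((u : F) * u) • ((g : Matrix (Fin 2) (Fin 2) F) * ((a : Matrix (Fin 2) (Fin 2) F) *
          (a : Matrix (Fin 2) (Fin 2) F))) := by
      rw [Matrix.mul_assoc, ← hu', Matrix.mul_smul, ← Matrix.mul_assoc, ← hu', Matrix.smul_mul,
        smul_smul, Matrix.mul_assoc]
    rw [hA, hA'] at e1
    have e2 : -(g : Matrix (Fin 2) (Fin 2) F) = -(((u : F) * u) • (g : Matrix (Fin 2) (Fin 2) F)) := by
      simpa using e1
    exact (neg_injective e2).symm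
  have hu2 : (u : F) * u = 1 := by
    have hunit : IsUnit (g : Matrix (Fin 2) (Fin 2) F).det := isUnit_iff_ne_zero.mpr hgdet
    have := congrArg (fun W => W * (g : Matrix (Fin 2) (Fin 2) F)⁻¹) hsq
    simp only [Matrix.smul_mul, Matrix.mul_nonsing_inv _ hunit] at this
    have := congrArg (fun W : Matrix (Fin 2) (Fin 2) F => W 0 0) this
    simpa using this
  refine ⟨u, ?_, ?_⟩
  · have : ((u : F) - 1) * ((u : F) + 1) = 0 := by linear_combination hu2
    rcases mul_eq_zero.mp this with h | h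
    · left; linear_combination h
    · right; linear_combination h
  · rw [← hu', smul_smul, hu2, one_smul]

/-- the frame relation for the product -/
theorem frame_mul {a b : SpecialLinearGroup (Fin 2) F} {P A₁ B₁ : Matrix (Fin 2) (Fin 2) F}
    (hAP : (a : Matrix (Fin 2) (Fin 2) F) * P = P * A₁)
    (hBP : (b : Matrix (Fin 2) (Fin 2) F) * P = P * B₁) :
    ((a * b : SpecialLinearGroup (Fin 2) F) : Matrix (Fin 2) (Fin 2) F) * P = P * (A₁ * B₁) := by
  rw [Matrix.SpecialLinearGroup.coe_mul, Matrix.mul_assoc, hBP, ← Matrix.mul_assoc, hAP,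
    Matrix.mul_assoc]

theorem mul_sq_of_anticomm {a b : SpecialLinearGroup (Fin 2) F} (haa : a * a = -1)
    (hbb : b * b = -1) (hab : a * b = -(b * a)) : (a * b) * (a * b) = -1 := by
  calc (a * b) * (a * b) = a * (b * a) * b := by group
    _ = a * (-(a * b)) * b := by rw [hab, neg_neg]
    _ = -((a * a) * (b * b)) := by
        rw [mul_neg', neg_mul', ← mul_assoc, mul_assoc (a * a)]
    _ = -1 := by rw [haa, hbb]; simp

/-- the conjugated element in the frame -/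
theorem conj_in_frame {K : Type*} [Field K] (f : K →+* F) {P : Matrix (Fin 2) (Fin 2) F}
    (hP : P.det ≠ 0)
    {a a' : SpecialLinearGroup (Fin 2) F} {A₁ : Matrix (Fin 2) (Fin 2) F}
    {A₀ : Matrix (Fin 2) (Fin 2) K}
    (hAP : (a : Matrix (Fin 2) (Fin 2) F) * P = P * A₁)
    (hA'P : (a' : Matrix (Fin 2) (Fin 2) F) * P = P * A₀.map f)
    (g : Matrix (Fin 2) (Fin 2) F) {ε : F} (hε : ε = 1 ∨ ε = -1)
    (hg : g * (a : Matrix (Fin 2) (Fin 2) F) = ε • ((a' : Matrix (Fin 2) (Fin 2) F) * g)) :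
    ∃ A' : Matrix (Fin 2) (Fin 2) K, (P⁻¹ * g * P) * A₁ = A'.map f * (P⁻¹ * g * P) := by
  have hu : IsUnit P.det := isUnit_iff_ne_zero.mpr hP
  have hinv : P⁻¹ * (a' : Matrix (Fin 2) (Fin 2) F) = A₀.map f * P⁻¹ := by
    have h1 : P⁻¹ * ((a' : Matrix (Fin 2) (Fin 2) F) * P) * P⁻¹ = P⁻¹ * (P * A₀.map f) * P⁻¹ := by
      rw [hA'P]
    simp only [Matrix.mul_assoc, Matrix.mul_nonsing_inv _ hu, Matrix.mul_one] at h1
    rw [h1, ← Matrix.mul_assoc, ← Matrix.mul_assoc, Matrix.nonsing_inv_mul _ hu, Matrix.one_mul]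
  have key : (P⁻¹ * g * P) * A₁ = ε • (A₀.map f * (P⁻¹ * g * P)) := by
    calc (P⁻¹ * g * P) * A₁ = P⁻¹ * g * (P * A₁) := by simp only [Matrix.mul_assoc]
      _ = P⁻¹ * (g * (a : Matrix (Fin 2) (Fin 2) F)) * P := by
          rw [← hAP]; simp only [Matrix.mul_assoc]
      _ = ε • (P⁻¹ * (a' : Matrix (Fin 2) (Fin 2) F) * g * P) := by
          rw [hg, Matrix.mul_smul, Matrix.smul_mul]; simp only [Matrix.mul_assoc]
      _ = ε • (A₀.map f * (P⁻¹ * g * P)) := by
          rw [hinv]; simp only [Matrix.mul_assoc]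
  rcases hε with rfl | rfl
  · refine ⟨A₀, ?_⟩
    rw [key, one_smul]
  · refine ⟨-A₀, ?_⟩
    rw [key]
    have : (-A₀).map f = -(A₀.map f) := by
      ext i j
      simp only [Matrix.map_apply, Matrix.neg_apply, map_neg]
    rw [this, Matrix.neg_mul, neg_smul, one_smul]

/-- an element normalising, modulo scalars, the four-group generated by `a` and `b` lies in the
conjugate by the frame of the subgroup `PGL₂` of the prime field -/
theorem mem_cj_of_normalizes (p : ℕ) [Fact p.Prime] [CharP F p] (hp2 : p ≠ 2)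
    {a b : SpecialLinearGroup (Fin 2) F} (haa : a * a = -1) (hbb : b * b = -1)
    (hab : a * b = -(b * a)) (r₀ s₀ : ZMod p) (hrs : r₀ ^ 2 + s₀ ^ 2 = -1) (hs : s₀ ≠ 0)
    (P : Matrix (Fin 2) (Fin 2) F) (hP : P.det ≠ 0)
    (hAP : (a : Matrix (Fin 2) (Fin 2) F) * P = P * A1)
    (hBP : (b : Matrix (Fin 2) (Fin 2) F) * P =
      P * B1 (ZMod.castHom (dvd_refl p) F r₀) (ZMod.castHom (dvd_refl p) F s₀))
    (g : GL (Fin 2) F)
    (hga : ∃ a' : SpecialLinearGroup (Fin 2) F, (a' = a ∨ a' = b ∨ a' = a * b) ∧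
      Matrix.ProjGenLinGroup.mk g * tP F (pmk a) * (Matrix.ProjGenLinGroup.mk g)⁻¹ = tP F (pmk a'))
    (hgb : ∃ b' : SpecialLinearGroup (Fin 2) F, (b' = a ∨ b' = b ∨ b' = a * b) ∧
      Matrix.ProjGenLinGroup.mk g * tP F (pmk b) * (Matrix.ProjGenLinGroup.mk g)⁻¹ =
        tP F (pmk b')) :
    Matrix.ProjGenLinGroup.mk g ∈
      cj (Matrix.ProjGenLinGroup.mk (Matrix.GeneralLinearGroup.mkOfDetNeZero P hP))
        (pglMap (ZMod.castHom (dvd_refl p) F)).range := by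
  set f : ZMod p →+* F := ZMod.castHom (dvd_refl p) F with hf
  have h2K : (2 : ZMod p) ≠ 0 := two_ne_zero_of_char (F := ZMod p) p hp2
  have hframe : ∀ a' : SpecialLinearGroup (Fin 2) F, (a' = a ∨ a' = b ∨ a' = a * b) →
      a' * a' = -1 ∧ ∃ A₀ : Matrix (Fin 2) (Fin 2) (ZMod p),
        (a' : Matrix (Fin 2) (Fin 2) F) * P = P * A₀.map f := by
    rintro a' (rfl | rfl | rfl)
    · exact ⟨haa, A1, by rw [A1_map]; exact hAP⟩
    · exact ⟨hbb, B1 r₀ s₀, by rw [B1_map]; exact hBP⟩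
    · exact ⟨mul_sq_of_anticomm haa hbb hab, A1 * B1 r₀ s₀,
        by rw [Matrix.map_mul, A1_map, B1_map]; exact frame_mul hAP hBP⟩
  obtain ⟨a', ha'c, ha'⟩ := hga
  obtain ⟨ha'2, A₀, hA₀⟩ := hframe a' ha'c
  obtain ⟨ε, hε, hgε⟩ := twist_of_conj haa ha'2 g ha'
  obtain ⟨A', hA'⟩ := conj_in_frame f hP hAP hA₀ (g : Matrix (Fin 2) (Fin 2) F) hε hgε
  obtain ⟨b', hb'c, hb'⟩ := hgb
  obtain ⟨hb'2, B₀, hB₀⟩ := hframe b' hb'c
  obtain ⟨ε', hε', hgε'⟩ := twist_of_conj hbb hb'2 g hb'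
  obtain ⟨B', hB'⟩ := conj_in_frame f hP hBP hB₀ (g : Matrix (Fin 2) (Fin 2) F) hε' hgε'
  have hu : IsUnit P.det := isUnit_iff_ne_zero.mpr hP
  have hgdet : (g : Matrix (Fin 2) (Fin 2) F).det ≠ 0 := by
    have := (Matrix.GeneralLinearGroup.det g).ne_zero
    simpa using this
  have hdet : (P⁻¹ * (g : Matrix (Fin 2) (Fin 2) F) * P).det ≠ 0 := by
    rw [Matrix.det_mul, Matrix.det_mul, Matrix.det_nonsing_inv]
    have : Ring.inverse P.det ≠ 0 := by
      rw [Ring.inverse_eq_inv']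
      exact inv_ne_zero hP
    exact mul_ne_zero (mul_ne_zero this hgdet) hP
  obtain ⟨c, Q, hQ, hcQ⟩ := prop_of_frame f h2K r₀ s₀ hrs hs _ hdet A' B' hA' hB'
  have hc0 : c ≠ 0 := by
    rintro rfl
    rw [zero_smul] at hcQ
    rw [hcQ, Matrix.det_zero] at hdet
    exact hdet rfl
  have hgP : (g : Matrix (Fin 2) (Fin 2) F) * P = c • (P * Q.map f) := by
    rw [← Matrix.mul_smul, ← hcQ, ← Matrix.mul_assoc, ← Matrix.mul_assoc,
      Matrix.mul_nonsing_inv _ hu, Matrix.one_mul]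
  have hmain : Matrix.ProjGenLinGroup.mk g *
      Matrix.ProjGenLinGroup.mk (Matrix.GeneralLinearGroup.mkOfDetNeZero P hP) =
      Matrix.ProjGenLinGroup.mk (Matrix.GeneralLinearGroup.mkOfDetNeZero P hP) *
        pglMap f (Matrix.ProjGenLinGroup.mk (Matrix.GeneralLinearGroup.mkOfDetNeZero Q hQ)) := by
    rw [pglMap_mk, ← map_mul, ← map_mul, Matrix.ProjGenLinGroup.mk_eq_mk_iff]
    refine ⟨Units.mk0 c⁻¹ (inv_ne_zero hc0), ?_⟩
    apply Matrix.GeneralLinearGroup.ext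
    intro i j
    have e1 : ((g * Matrix.GeneralLinearGroup.mkOfDetNeZero P hP *
        Matrix.GeneralLinearGroup.scalar (Fin 2) (Units.mk0 c⁻¹ (inv_ne_zero hc0)) :
          GL (Fin 2) F) : Matrix (Fin 2) (Fin 2) F) =
        (g : Matrix (Fin 2) (Fin 2) F) * P * Matrix.scalar (Fin 2) c⁻¹ := rfl
    have e2 : ((Matrix.GeneralLinearGroup.mkOfDetNeZero P hP *
        Matrix.GeneralLinearGroup.map f (Matrix.GeneralLinearGroup.mkOfDetNeZero Q hQ) :
          GL (Fin 2) F) : Matrix (Fin 2) (Fin 2) F) = P * Q.map f := rfl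
    rw [e1, e2, hgP]
    have : (c • (P * Q.map f)) * Matrix.scalar (Fin 2) c⁻¹ = P * Q.map f := by
      ext i j
      simp [Matrix.mul_apply, Matrix.scalar_apply, Matrix.diagonal_apply]
      field_simp
    rw [this]
  have hfinal : Matrix.ProjGenLinGroup.mk g =
      Matrix.ProjGenLinGroup.mk (Matrix.GeneralLinearGroup.mkOfDetNeZero P hP) *
        pglMap f (Matrix.ProjGenLinGroup.mk (Matrix.GeneralLinearGroup.mkOfDetNeZero Q hQ)) *
        (Matrix.ProjGenLinGroup.mk (Matrix.GeneralLinearGroup.mkOfDetNeZero P hP))⁻¹ :=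
    eq_mul_inv_of_mul_eq hmain
  rw [hfinal]
  exact conj_mem_cj ⟨_, rfl⟩

end Cfsg.Agent.Helper8.Pg
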