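import Mathlib
import Cfsg.Agent.Helper8.PgJ

set_option autoImplicit false

/-!
A maximal subgroup of `PGL₂(F)` isomorphic to `S₄`, not containing `L`.
-/

namespace Cfsg.Agent.Helper8.Pg

open Matrix Cfsg.Agent.Helper7.SL2 Cfsg.Agent.Helper8.SL2C Cfsg.Agent.Helper8.Dk
open Cfsg.Agent.Helper8.Ds Subgroup Cfsg.Agent.Lead.PSL2Sub Equiv
open scoped Matrix

/-- the normal four-subgroup of `S₄` -/
def V4 : Subgroup (Perm (Fin 4)) where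
  carrier := {σ | σ = 1 ∨ σ = s4a ∨ σ = s4b ∨ σ = s4a * s4b}
  one_mem' := Or.inl rfl
  mul_mem' := by
    rintro a b (rfl | rfl | rfl | rfl) (rfl | rfl | rfl | rfl) <;>
      show _ ∨ _ ∨ _ ∨ _ <;> decide
  inv_mem' := by
    rintro a (rfl | rfl | rfl | rfl) <;> show _ ∨ _ ∨ _ ∨ _ <;> decide

theorem mem_V4 {σ : Perm (Fin 4)} : σ ∈ V4 ↔ σ = 1 ∨ σ = s4a ∨ σ = s4b ∨ σ = s4a * s4b := Iff.rfl

set_option maxRecDepth 100000 in
theorem V4_conj : ∀ σ : Perm (Fin 4),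
    (σ * s4a * σ⁻¹ = s4a ∨ σ * s4a * σ⁻¹ = s4b ∨ σ * s4a * σ⁻¹ = s4a * s4b) ∧
    (σ * s4b * σ⁻¹ = s4a ∨ σ * s4b * σ⁻¹ = s4b ∨ σ * s4b * σ⁻¹ = s4a * s4b) := by
  decide +kernel

theorem s4a_sq : ∃ c : Perm (Fin 4), c * c = s4a := by decide
theorem s4b_sq : ∃ c : Perm (Fin 4), c * c = s4b := by decide

theorem card_V4 : Nat.card V4 = 4 := by
  rw [Nat.card_congr (Equiv.subtypeEquivRight (fun σ => mem_V4 (σ := σ))),
    Nat.card_eq_fintype_card, Fintype.card_subtype]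
  decide

theorem V4_conj_mem (σ v : Perm (Fin 4)) (hv : v ∈ V4) : σ * v * σ⁻¹ ∈ V4 := by
  obtain ⟨ha, hb⟩ := V4_conj σ
  have hA : σ * s4a * σ⁻¹ ∈ V4 := by
    rcases ha with h | h | h <;> rw [h, mem_V4] <;> simp
  have hB : σ * s4b * σ⁻¹ ∈ V4 := by
    rcases hb with h | h | h <;> rw [h, mem_V4] <;> simp
  rcases hv with rfl | rfl | rfl | rfl
  · simp
  · exact hA
  · exact hB
  · have : σ * (s4a * s4b) * σ⁻¹ = (σ * s4a * σ⁻¹) * (σ * s4b * σ⁻¹) := by group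
    rw [this]
    exact V4.mul_mem hA hB

theorem mod8_of_not_dvd {q n : ℕ} (hq : Odd q) (h : 2 * n = q * (q ^ 2 - 1)) (h8 : ¬ 8 ∣ n) :
    q % 8 = 3 ∨ q % 8 = 5 := by
  by_contra hcon
  apply h8
  obtain ⟨k, hk⟩ := hq
  have hcases : q % 8 = 1 ∨ q % 8 = 7 := by omega
  rcases hcases with h1 | h1
  · obtain ⟨t, ht⟩ : ∃ t, q = 8 * t + 1 := ⟨q / 8, by omega⟩
    have e : q ^ 2 - 1 = 16 * (4 * t ^ 2 + t) := by
      have : q ^ 2 = 16 * (4 * t ^ 2 + t) + 1 := by rw [ht]; ring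
      omega
    rw [e] at h
    refine ⟨q * (4 * t ^ 2 + t), ?_⟩
    have : 2 * n = 2 * (8 * (q * (4 * t ^ 2 + t))) := by rw [h]; ring
    omega
  · obtain ⟨t, ht⟩ : ∃ t, q = 8 * t + 7 := ⟨q / 8, by omega⟩
    have e : q ^ 2 - 1 = 16 * (4 * t ^ 2 + 7 * t + 3) := by
      have : q ^ 2 = 16 * (4 * t ^ 2 + 7 * t + 3) + 1 := by rw [ht]; ring
      omega
    rw [e] at h
    refine ⟨q * (4 * t ^ 2 + 7 * t + 3), ?_⟩
    have : 2 * n = 2 * (8 * (q * (4 * t ^ 2 + 7 * t + 3))) := by rw [h]; ring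
    omega

end Cfsg.Agent.Helper8.Pg
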