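import Mathlib
import Cfsg.Agent.Helper8.PgK
import Cfsg.Agent.Helper8.PgF

set_option autoImplicit false

/-!
A maximal subgroup of `PGL₂(F)` isomorphic to `S₄`, not containing `L`: the field is a prime field
with `q ≡ ±3 (mod 8)`, or the characteristic is three and the subgroup is `PGL₂(3)`.
-/

namespace Cfsg.Agent.Helper8.Pg

open Matrix Cfsg.Agent.Helper7.SL2 Cfsg.Agent.Helper8.SL2C Cfsg.Agent.Helper8.Dk
open Cfsg.Agent.Helper8.Ds Subgroup Cfsg.Agent.Lead.PSL2Sub Equiv
open scoped Matrix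

variable {F : Type*} [Field F] [Fintype F]

theorem case_S4' (p : ℕ) [Fact p.Prime] [CharP F p] (hodd : Odd (Fintype.card F))
    (h3 : 3 < Fintype.card F) {M : Subgroup (Matrix.ProjGenLinGroup (Fin 2) F)} (hM : IsCoatom M)
    (hML : ¬ M ≤ Lsub F) (e : M ≃* Perm (Fin 4)) :
    ((Fintype.card F).Prime ∧ (Fintype.card F % 8 = 3 ∨ Fintype.card F % 8 = 5)) ∨
      (p = 3 ∧ Nonempty (M ≃* Matrix.ProjGenLinGroup (Fin 2) (ZMod p))) := by
  have hp2 := char_ne_two_of_odd p hodd
  have h2 := two_ne_zero_of_odd hodd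
  have hnL : (Lsub F).Normal := normal_Lsub hodd
  -- the four-group
  obtain ⟨hX1, hY1, hXY, hX2, hY2, hXYc⟩ := v4_transport e s4_v4
  set X : Matrix.ProjGenLinGroup (Fin 2) F := (e.symm s4a : Matrix.ProjGenLinGroup (Fin 2) F) with hX
  set Y : Matrix.ProjGenLinGroup (Fin 2) F := (e.symm s4b : Matrix.ProjGenLinGroup (Fin 2) F) with hY
  have hXL : X ∈ Lsub F := by
    obtain ⟨c, hc⟩ := s4a_sq
    rw [hX, ← hc, map_mul, Subgroup.coe_mul]
    exact sq_mem_Lsub hodd _
  have hYL : Y ∈ Lsub F := by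
    obtain ⟨c, hc⟩ := s4b_sq
    rw [hY, ← hc, map_mul, Subgroup.coe_mul]
    exact sq_mem_Lsub hodd _
  set V : Subgroup (Matrix.ProjGenLinGroup (Fin 2) F) :=
    (V4.comap e.toMonoidHom).map M.subtype with hV
  have hXV : X ∈ V :=
    ⟨e.symm s4a, by
      change e (e.symm s4a) ∈ V4
      rw [e.apply_symm_apply]; exact Or.inr (Or.inl rfl), rfl⟩
  have hYV : Y ∈ V :=
    ⟨e.symm s4b, by
      change e (e.symm s4b) ∈ V4
      rw [e.apply_symm_apply]; exact Or.inr (Or.inr (Or.inl rfl)), rfl⟩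
  have hVmem : ∀ z, z ∈ V ↔ z = 1 ∨ z = X ∨ z = Y ∨ z = X * Y := by
    intro z
    constructor
    · rintro ⟨m, hm, rfl⟩
      have hm' : e m ∈ V4 := hm
      rcases hm' with h | h | h | h
      · left
        have : m = 1 := by apply e.injective; rw [h, map_one]
        rw [this]; rfl
      · right; left
        have : m = e.symm s4a := by rw [← h, e.symm_apply_apply]
        rw [this]; rfl
      · right; right; left
        have : m = e.symm s4b := by rw [← h, e.symm_apply_apply]
        rw [this]; rfl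
      · right; right; right
        have : m = e.symm s4a * e.symm s4b := by rw [← map_mul, ← h, e.symm_apply_apply]
        rw [this]; rfl
    · rintro (rfl | rfl | rfl | rfl)
      · exact V.one_mem
      · exact hXV
      · exact hYV
      · exact V.mul_mem hXV hYV
  have hVcard : Nat.card V = 4 := by
    rw [hV, Subgroup.card_map_of_injective M.subtype_injective, card_comap_equiv e V4, card_V4]
  have hVL : V ≤ Lsub F := by
    intro z hz
    rcases (hVmem z).mp hz with rfl | rfl | rfl | rfl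
    · exact (Lsub F).one_mem
    · exact hXL
    · exact hYL
    · exact (Lsub F).mul_mem hXL hYL
  have hVnorm : M ≤ normalizer (V : Set (Matrix.ProjGenLinGroup (Fin 2) F)) := by
    intro g hg
    apply Subgroup.mem_normalizer_fintype
    rintro _ ⟨m, hm, rfl⟩
    refine ⟨⟨g, hg⟩ * m * ⟨g, hg⟩⁻¹, ?_, rfl⟩
    change e (⟨g, hg⟩ * m * ⟨g, hg⟩⁻¹) ∈ V4
    rw [map_mul, map_mul, map_inv]
    exact V4_conj_mem _ _ hm
  have hVbot : V ≠ ⊥ := by
    intro h
    rw [h, Subgroup.mem_bot] at hXV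
    exact hX1 hXV
  have hLgt := card_Lsub_gt hodd h3
  have hVne : V ≠ Lsub F := by
    intro h
    rw [← h, hVcard] at hLgt
    omega
  have hMN := coatom_eq_normalizer' (by omega) hM hVL hVbot hVne hVnorm
  have hMcard : Nat.card M = 24 := (Nat.card_congr e.toEquiv).trans Ds.card_S4
  have hML12 : Nat.card (M ⊓ Lsub F : Subgroup (Matrix.ProjGenLinGroup (Fin 2) F)) = 12 := by
    have := card_eq_two_mul hodd hML
    omega
  -- `8` does not divide the order of `PSL₂(F)`
  set V' : Subgroup (ProjectiveSpecialLinearGroup (Fin 2) F) := V.comap (tP F) with hV'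
  have hmc : V'.map (tP F) = V := Subgroup.map_comap_eq_self hVL
  have hV'card : Nat.card V' = 4 := by
    rw [← hVcard, ← hmc, Subgroup.card_map_of_injective (tP_injective F)]
  have hNcard : Nat.card (normalizer (V' : Set (ProjectiveSpecialLinearGroup (Fin 2) F))) = 12 := by
    rw [← card_normalizer_map_inf, hmc, ← hMN]
    exact hML12
  have h8 : ¬ 8 ∣ Nat.card (ProjectiveSpecialLinearGroup (Fin 2) F) := by
    intro h
    have : Fact (Nat.Prime 2) := ⟨Nat.prime_two⟩
    have := Sylow.prime_pow_dvd_card_normalizer (p := 2) (n := 2) (by norm_num; exact h)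
      (H := V') (by rw [hV'card]; norm_num)
    rw [hNcard] at this
    norm_num at this
  have hmod := mod8_of_not_dvd hodd (two_mul_card_PSL2 hodd) h8
  -- the frame
  obtain ⟨x', hx'⟩ := hXL
  obtain ⟨y', hy'⟩ := hYL
  have hx1 : x' ≠ 1 := by
    rintro rfl
    rw [map_one] at hx'
    exact hX1 hx'.symm
  have hy1 : y' ≠ 1 := by
    rintro rfl
    rw [map_one] at hy'
    exact hY1 hy'.symm
  have hxy : x' ≠ y' := by
    rintro rfl
    exact hXY (hx'.symm.trans hy')
  have hx2 : x' * x' = 1 := by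
    apply tP_injective F
    rw [map_mul, hx', hX2, map_one]
  have hy2 : y' * y' = 1 := by
    apply tP_injective F
    rw [map_mul, hy', hY2, map_one]
  have hcomm : x' * y' = y' * x' := by
    apply tP_injective F
    rw [map_mul, map_mul, hx', hy', hXYc]
  obtain ⟨a, b, hxa, hyb, haa, hbb, hab⟩ := exists_anticomm h2 hx1 hy1 hxy hx2 hy2 hcomm
  obtain ⟨r₀, s₀, hrs, hs⟩ := exists_rs (K := ZMod p) p
  set f : ZMod p →+* F := ZMod.castHom (dvd_refl p) F with hf
  have hA : (a : Matrix (Fin 2) (Fin 2) F) * (a : Matrix (Fin 2) (Fin 2) F) = -1 := by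
    rw [← Matrix.SpecialLinearGroup.coe_mul, haa, coe_neg_one]
  have hB : (b : Matrix (Fin 2) (Fin 2) F) * (b : Matrix (Fin 2) (Fin 2) F) = -1 := by
    rw [← Matrix.SpecialLinearGroup.coe_mul, hbb, coe_neg_one]
  have hAB : (a : Matrix (Fin 2) (Fin 2) F) * (b : Matrix (Fin 2) (Fin 2) F) =
      -((b : Matrix (Fin 2) (Fin 2) F) * (a : Matrix (Fin 2) (Fin 2) F)) := by
    rw [← Matrix.SpecialLinearGroup.coe_mul, hab, Matrix.SpecialLinearGroup.coe_neg,
      Matrix.SpecialLinearGroup.coe_mul]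
  have hrs' : f r₀ ^ 2 + f s₀ ^ 2 = -1 := by
    rw [← map_pow, ← map_pow, ← map_add, hrs, map_neg, map_one]
  have hs' : f s₀ ≠ 0 := fun h => hs (f.injective (by rw [h, map_zero]))
  obtain ⟨P, hP, hAP, hBP⟩ := exists_frame _ _ hA hB hAB h2 (f r₀) (f s₀) hrs' hs'
  have hXa : tP F (pmk a) = X := by rw [hxa, hx']
  have hYb : tP F (pmk b) = Y := by rw [hyb, hy']
  have hXYab : tP F (pmk (a * b)) = X * Y := by rw [← pmk_mul, map_mul, hXa, hYb]
  have hMY : M ≤ cj (Matrix.ProjGenLinGroup.mk (Matrix.GeneralLinearGroup.mkOfDetNeZero P hP))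
      (pglMap f).range := by
    intro m hm
    obtain ⟨g, rfl⟩ := Matrix.ProjGenLinGroup.mk_surjective m
    have hgN := hVnorm hm
    apply mem_cj_of_normalizes p hp2 haa hbb hab r₀ s₀ hrs hs P hP hAP hBP g
    · have hconj : Matrix.ProjGenLinGroup.mk g * X * (Matrix.ProjGenLinGroup.mk g)⁻¹ ∈ V :=
        (mem_normalizer_iff.mp hgN X).mp hXV
      rcases (hVmem _).mp hconj with h | h | h | h
      · exfalso
        apply hX1
        have : X = (Matrix.ProjGenLinGroup.mk g)⁻¹ *
            (Matrix.ProjGenLinGroup.mk g * X * (Matrix.ProjGenLinGroup.mk g)⁻¹) *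
            Matrix.ProjGenLinGroup.mk g := by group
        rw [this, h]; group
      · exact ⟨a, Or.inl rfl, by rw [hXa]; exact h⟩
      · exact ⟨b, Or.inr (Or.inl rfl), by rw [hXa, hYb]; exact h⟩
      · exact ⟨a * b, Or.inr (Or.inr rfl), by rw [hXa, hXYab]; exact h⟩
    · have hconj : Matrix.ProjGenLinGroup.mk g * Y * (Matrix.ProjGenLinGroup.mk g)⁻¹ ∈ V :=
        (mem_normalizer_iff.mp hgN Y).mp hYV
      rcases (hVmem _).mp hconj with h | h | h | h
      · exfalso
        apply hY1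
        have : Y = (Matrix.ProjGenLinGroup.mk g)⁻¹ *
            (Matrix.ProjGenLinGroup.mk g * Y * (Matrix.ProjGenLinGroup.mk g)⁻¹) *
            Matrix.ProjGenLinGroup.mk g := by group
        rw [this, h]; group
      · exact ⟨a, Or.inl rfl, by rw [hYb, hXa]; exact h⟩
      · exact ⟨b, Or.inr (Or.inl rfl), by rw [hYb]; exact h⟩
      · exact ⟨a * b, Or.inr (Or.inr rfl), by rw [hYb, hXYab]; exact h⟩
  -- conclusion
  have hYc : Nat.card (cj (Matrix.ProjGenLinGroup.mk (Matrix.GeneralLinearGroup.mkOfDetNeZero P hP))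
      (pglMap f).range) = p * (p ^ 2 - 1) := by
    rw [card_cj, Nat.card_congr (MonoidHom.ofInjective (pglMap_injective f)).symm.toEquiv,
      card_PGL2, ZMod.card]
  have hpp := (Fact.out : p.Prime)
  rcases eq_or_lt_of_le hMY with h | h
  · right
    have h24 : p * (p ^ 2 - 1) = 24 := by rw [← hYc, ← h, hMcard]
    have hp3 : p = 3 := by
      have hp2' : 2 ≤ p := hpp.two_le
      by_contra hne
      have hp4 : 4 ≤ p := by omega
      have : 4 ^ 2 ≤ p ^ 2 := Nat.pow_le_pow_left hp4 2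
      have h15 : 15 ≤ p ^ 2 - 1 := by omega
      have : 4 * 15 ≤ p * (p ^ 2 - 1) := Nat.mul_le_mul hp4 h15
      omega
    refine ⟨hp3, ⟨(MulEquiv.subgroupCongr h).trans ((Ds.cjEquiv _ _).symm.trans
      (MonoidHom.ofInjective (pglMap_injective f)).symm)⟩⟩
  · left
    have htop := hM.2 _ h
    have hpq : p * (p ^ 2 - 1) = Fintype.card F * (Fintype.card F ^ 2 - 1) := by
      rw [← hYc, htop, Subgroup.card_top, card_PGL2]
    have := cube_inj hpp.two_le Fintype.one_lt_card hpq
    exact ⟨this ▸ hpp, hmod⟩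

end Cfsg.Agent.Helper8.Pg
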