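import Mathlib

set_option autoImplicit false

/-!
Arithmetic for the comparison of the orders of the maximal subgroups of `PGL₂(q)` with those of
`PSL₂(q)`, `q` odd.
-/

namespace Cfsg.Agent.Helper8.Ph

theorem two_mul_le {m h : ℕ} (hdvd : m ∣ h) (hlt : m < h) : 2 * m ≤ h := by
  obtain ⟨c, rfl⟩ := hdvd
  have hc : 2 ≤ c := by
    by_contra hc
    push Not at hc
    interval_cases c <;> simp at hlt
  calc 2 * m ≤ c * m := Nat.mul_le_mul_right m hc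
    _ = m * c := mul_comm _ _

theorem sub_cube_le {q₁ r' : ℕ} (hq₁ : 1 ≤ q₁) (hr : 3 ≤ r') : q₁ * (q₁ ^ 2 - 1) ≤ q₁ ^ r' :=
  calc q₁ * (q₁ ^ 2 - 1) ≤ q₁ * q₁ ^ 2 := Nat.mul_le_mul_left _ (Nat.sub_le _ _)
    _ = q₁ ^ 3 := by ring
    _ ≤ q₁ ^ r' := Nat.pow_le_pow_right hq₁ hr

theorem four_mul_le {q : ℕ} (h5 : 5 ≤ q) : 4 * q ≤ q * (q - 1) := by
  rw [mul_comm 4 q]
  exact Nat.mul_le_mul_left q (by omega)

/-! ### the point stabiliser -/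

theorem ar_a2 {q m h : ℕ} (h5 : 5 ≤ q) (hm : 2 * m = q * (q - 1)) (hh : h = q - 1)
    (hle : 2 * m ≤ h) : False := by
  have := four_mul_le h5
  omega

theorem ar_a3 {q m h : ℕ} (h5 : 5 ≤ q) (hm : 2 * m = q * (q - 1)) (hh : h = q + 1)
    (hle : 2 * m ≤ h) : False := by
  have := four_mul_le h5
  omega

theorem ar_a4 {q q₁ m h : ℕ} (h5 : 5 ≤ q) (hm : 2 * m = q * (q - 1)) (hq : q = q₁ ^ 2)
    (hh : h = q₁ * (q₁ ^ 2 - 1)) (hle : 2 * m ≤ h) : False := by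
  rw [← hq] at hh
  rw [hm, hh] at hle
  have h1 : q ≤ q₁ := Nat.le_of_mul_le_mul_right hle (by omega)
  have h2 : q₁ ≤ q₁ ^ 2 := by
    rcases Nat.eq_zero_or_pos q₁ with h | h
    · rw [h]; norm_num
    · calc q₁ = q₁ * 1 := (mul_one _).symm
        _ ≤ q₁ * q₁ := Nat.mul_le_mul_left _ h
        _ = q₁ ^ 2 := (pow_two _).symm
  have h3 : q₁ = q := le_antisymm (hq ▸ h2) h1
  rw [h3] at hq
  nlinarith

theorem ar_a5 {q q₁ r' m h : ℕ} (h5 : 5 ≤ q) (hm : 2 * m = q * (q - 1)) (hq₁ : 1 ≤ q₁)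
    (hr : 3 ≤ r') (hq : q = q₁ ^ r') (hh : 2 * h = q₁ * (q₁ ^ 2 - 1)) (hle : 2 * m ≤ h) :
    False := by
  have h1 := sub_cube_le hq₁ hr
  rw [← hq] at h1
  have := four_mul_le h5
  omega

theorem ar_a6 {q m h : ℕ} (hodd : Odd q) (h5 : 5 ≤ q) (h7 : q ≠ 7)
    (hm : 2 * m = q * (q - 1)) (hh : h = 60) (hle : 2 * m ≤ h)
    (h10 : q % 10 = 1 ∨ q % 10 = 9) : False := by
  have h2 : q % 2 = 1 := Nat.odd_iff.mp hodd
  have h8 : q ≤ 8 := by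
    by_contra hc
    push Not at hc
    have : 8 * q ≤ q * (q - 1) := by
      rw [mul_comm 8 q]
      exact Nat.mul_le_mul_left q (by omega)
    omega
  interval_cases q <;> omega

theorem ar_a7 {q m h : ℕ} (h5 : 5 ≤ q) (hm : 2 * m = q * (q - 1)) (hh : h = 12)
    (hle : 2 * m ≤ h) : False := by
  have := four_mul_le h5
  omega

theorem ar_a8 {q m h : ℕ} (h5 : 5 ≤ q) (hm : 2 * m = q * (q - 1)) (hh : h = 24)
    (hle : 2 * m ≤ h) (h8 : q % 8 = 1 ∨ q % 8 = 7) : False := by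
  have := four_mul_le h5
  have h6 : q ≤ 6 := by omega
  interval_cases q <;> omega

/-! ### the dihedral group of order `2(q - 1)` -/

theorem ar_b1 {q m h : ℕ} (hodd : Odd q) (h13 : 13 ≤ q) (hm : m = q - 1)
    (hh : 2 * h = q * (q - 1)) (hdvd : m ∣ h) : False := by
  subst hm
  obtain ⟨c, rfl⟩ := hdvd
  have h1 : (q - 1) * (2 * c) = (q - 1) * q := by
    rw [mul_comm (q - 1) q, ← hh]; ring
  have h2 : 2 * c = q := Nat.eq_of_mul_eq_mul_left (by omega) h1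
  have h3 : q % 2 = 1 := Nat.odd_iff.mp hodd
  omega

theorem ar_b3 {q m h : ℕ} (h13 : 13 ≤ q) (hm : m = q - 1) (hh : h = q + 1) (hdvd : m ∣ h) :
    False := by
  subst hm hh
  have h1 : q + 1 = (q - 1) + 2 := by omega
  rw [h1] at hdvd
  have h2 := (Nat.dvd_add_right (dvd_refl (q - 1))).mp hdvd
  have := Nat.le_of_dvd (by norm_num) h2
  omega

theorem ar_b5 {q q₁ r' m h : ℕ} (h13 : 13 ≤ q) (hm : m = q - 1) (hq₁ : 1 ≤ q₁)
    (hr : 3 ≤ r') (hq : q = q₁ ^ r') (hh : 2 * h = q₁ * (q₁ ^ 2 - 1)) (hle : 2 * m ≤ h) :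
    False := by
  have h1 := sub_cube_le hq₁ hr
  rw [← hq] at h1
  omega

/-! ### the dihedral group of order `2(q + 1)` -/

theorem ar_c1 {q m h : ℕ} (h5 : 5 ≤ q) (hm : m = q + 1) (hh : 2 * h = q * (q - 1))
    (hdvd : m ∣ h) : False := by
  subst hm
  have h1 : q + 1 ∣ q * (q - 1) := by
    rw [← hh]
    exact Dvd.dvd.mul_left hdvd 2
  have h2 : q * (q - 1) = (q + 1) * (q - 2) + 2 := by
    obtain ⟨s, rfl⟩ : ∃ s, q = s + 2 := ⟨q - 2, by omega⟩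
    simp only [Nat.add_sub_cancel, show s + 2 - 1 = s + 1 by omega]
    ring
  rw [h2] at h1
  have h3 := (Nat.dvd_add_right (dvd_mul_right (q + 1) (q - 2))).mp h1
  have := Nat.le_of_dvd (by norm_num) h3
  omega

theorem ar_c4 {q q₁ m h : ℕ} (h5 : 5 ≤ q) (hm : m = q + 1) (hq : q = q₁ ^ 2)
    (hh : h = q₁ * (q₁ ^ 2 - 1)) (hdvd : m ∣ h) : False := by
  subst hm hh
  rw [← hq] at hdvd
  have hcop : (q + 1).Coprime q₁ := by
    rw [hq, pow_two]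
    simp
  have h1 := hcop.dvd_of_dvd_mul_left hdvd
  have := Nat.le_of_dvd (by omega) h1
  omega

theorem ar_c5 {q q₁ r' m h : ℕ} (hm : m = q + 1) (hq₁ : 1 ≤ q₁)
    (hr : 3 ≤ r') (hq : q = q₁ ^ r') (hh : 2 * h = q₁ * (q₁ ^ 2 - 1)) (hle : 2 * m ≤ h) :
    False := by
  have h1 := sub_cube_le hq₁ hr
  rw [← hq] at h1
  omega

/-! ### the symmetric group of degree four -/

theorem ar_d1 {q m h : ℕ} (h8 : q % 8 = 3 ∨ q % 8 = 5) (hm : m = 12)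
    (hh : 2 * h = q * (q - 1)) (hdvd : m ∣ h) : False := by
  subst hm
  obtain ⟨c, rfl⟩ := hdvd
  have h1 : (q * (q - 1)) % 8 = 0 := by omega
  rw [Nat.mul_mod] at h1
  rcases h8 with h | h
  · have h2 : (q - 1) % 8 = 2 := by omega
    rw [h, h2] at h1
    norm_num at h1
  · have h2 : (q - 1) % 8 = 4 := by omega
    rw [h, h2] at h1
    norm_num at h1

theorem ar_d6 {q : ℕ} (hprime : q.Prime)
    (h40 : q.Prime → q % 40 ∉ ({11, 19, 21, 29} : Finset ℕ))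
    (h8 : q % 8 = 3 ∨ q % 8 = 5) (h10 : q % 10 = 1 ∨ q % 10 = 9) : False := by
  have := h40 hprime
  simp only [Finset.mem_insert, Finset.mem_singleton, not_or] at this
  omega

/-! ### the subfield subgroups -/

theorem ar_e1 {q q₀ r m h : ℕ} (h3 : 3 ≤ q₀) (hr : Odd r) (hq : q = q₀ ^ r)
    (hm : 2 * m = q₀ * (q₀ ^ 2 - 1)) (hh : 2 * h = q * (q - 1)) (hdvd : m ∣ h) : False := by
  have h1 : q₀ * (q₀ ^ 2 - 1) ∣ q * (q - 1) := by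
    rw [← hm, ← hh]
    exact Nat.mul_dvd_mul_left 2 hdvd
  have h2 : q₀ + 1 ∣ q₀ ^ 2 - 1 := by
    have : q₀ ^ 2 - 1 = (q₀ + 1) * (q₀ - 1) := by
      obtain ⟨s, rfl⟩ : ∃ s, q₀ = s + 1 := ⟨q₀ - 1, by omega⟩
      simp only [Nat.add_sub_cancel]
      have : (s + 1) ^ 2 = (s + 1 + 1) * s + 1 := by ring
      rw [this, Nat.add_sub_cancel]
    rw [this]
    exact dvd_mul_right _ _
  have h3' : q₀ + 1 ∣ q * (q - 1) := (h2.mul_left q₀).trans h1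
  have hcop : (q₀ + 1).Coprime q := by
    rw [hq]
    apply Nat.Coprime.pow_right
    simp
  have h4 : q₀ + 1 ∣ q - 1 := hcop.dvd_of_dvd_mul_left h3'
  have h5 : q₀ + 1 ∣ q + 1 := by
    have := Odd.nat_add_dvd_pow_add_pow q₀ 1 hr
    rwa [one_pow, ← hq] at this
  have hq1 : 1 ≤ q := by
    rw [hq]
    exact Nat.one_le_pow _ _ (by omega)
  have h6 : q₀ + 1 ∣ (q + 1) - (q - 1) := Nat.dvd_sub h5 h4
  have h7 : (q + 1) - (q - 1) = 2 := by omega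
  rw [h7] at h6
  have := Nat.le_of_dvd (by norm_num) h6
  omega

theorem dvd_of_two_mul {q₀ m : ℕ} (hodd : Odd q₀) (hm : 2 * m = q₀ * (q₀ ^ 2 - 1)) : q₀ ∣ m := by
  have h1 : q₀ ∣ 2 * m := by rw [hm]; exact dvd_mul_right _ _
  have hcop : q₀.Coprime 2 := Nat.Coprime.symm (Nat.coprime_two_left.mpr hodd)
  exact hcop.dvd_of_dvd_mul_left h1

theorem ar_e2 {q q₀ r m h : ℕ} (hodd : Odd q₀) (h3 : 3 ≤ q₀) (hr : r ≠ 0) (hq : q = q₀ ^ r)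
    (hm : 2 * m = q₀ * (q₀ ^ 2 - 1)) (hh : h = q - 1) (hdvd : m ∣ h) : False := by
  have h1 : q₀ ∣ q - 1 := by
    rw [← hh]
    exact (dvd_of_two_mul hodd hm).trans hdvd
  have h2 : q₀ ∣ q := by
    rw [hq]
    exact dvd_pow_self _ hr
  have hq1 : 1 ≤ q := by
    rw [hq]
    exact Nat.one_le_pow _ _ (by omega)
  have h4 : q₀ ∣ q - (q - 1) := Nat.dvd_sub h2 h1
  have h5 : q - (q - 1) = 1 := by omega
  rw [h5] at h4
  have := Nat.le_of_dvd (by norm_num) h4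
  omega

theorem ar_e3 {q q₀ r m h : ℕ} (hodd : Odd q₀) (h3 : 3 ≤ q₀) (hr : r ≠ 0) (hq : q = q₀ ^ r)
    (hm : 2 * m = q₀ * (q₀ ^ 2 - 1)) (hh : h = q + 1) (hdvd : m ∣ h) : False := by
  have h1 : q₀ ∣ q + 1 := by
    rw [← hh]
    exact (dvd_of_two_mul hodd hm).trans hdvd
  have h2 : q₀ ∣ q := by
    rw [hq]
    exact dvd_pow_self _ hr
  have h4 : q₀ ∣ (q + 1) - q := Nat.dvd_sub h1 h2
  have h5 : (q + 1) - q = 1 := by omega
  rw [h5] at h4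
  have := Nat.le_of_dvd (by norm_num) h4
  omega

theorem coprime_sq_sub_one {p a b : ℕ} (hp : p.Prime) (ha : a ≠ 0) :
    ((p ^ a) ^ 2 - 1).Coprime (p ^ b) := by
  apply Nat.Coprime.pow_right
  rw [Nat.coprime_comm, Nat.Prime.coprime_iff_not_dvd hp]
  intro h
  have h1 : p ∣ (p ^ a) ^ 2 := by
    rw [← pow_mul]
    exact dvd_pow_self _ (by positivity)
  have h2 : 1 ≤ (p ^ a) ^ 2 := Nat.one_le_pow _ _ (pow_pos hp.pos _)
  have h3 : p ∣ (p ^ a) ^ 2 - ((p ^ a) ^ 2 - 1) := Nat.dvd_sub h1 h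
  have h4 : (p ^ a) ^ 2 - ((p ^ a) ^ 2 - 1) = 1 := by omega
  rw [h4] at h3
  exact hp.one_lt.ne' (Nat.dvd_one.mp h3)

theorem ar_e4 {p a b q q₀ q₁ r m h : ℕ} (hp : p.Prime) (h3 : 3 ≤ q₀) (hr : Odd r)
    (hq₀ : q₀ = p ^ a) (hq₁ : q₁ = p ^ b) (hq : q = q₀ ^ r) (hq' : q = q₁ ^ 2)
    (hm : 2 * m = q₀ * (q₀ ^ 2 - 1)) (hh : h = q₁ * (q₁ ^ 2 - 1)) (hdvd : m ∣ h) : False := by
  have ha : a ≠ 0 := by
    rintro rfl
    rw [pow_zero] at hq₀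
    omega
  have h1 : q₀ * (q₀ ^ 2 - 1) ∣ 2 * (q₁ * (q - 1)) := by
    rw [← hm, hq', ← hh]
    exact Nat.mul_dvd_mul_left 2 hdvd
  have h2 : q₀ ^ 2 - 1 ∣ q₁ * (2 * (q - 1)) := by
    have : q₁ * (2 * (q - 1)) = 2 * (q₁ * (q - 1)) := by ring
    rw [this]
    exact (dvd_mul_left _ _).trans h1
  have hcop : (q₀ ^ 2 - 1).Coprime q₁ := by
    rw [hq₀, hq₁]
    exact coprime_sq_sub_one hp ha
  have h4 : q₀ ^ 2 - 1 ∣ 2 * (q - 1) := hcop.dvd_of_dvd_mul_left h2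
  obtain ⟨k, rfl⟩ := hr
  have h5 : q₀ ^ 2 - 1 ∣ (q₀ ^ 2) ^ k - 1 := by
    have := Nat.sub_dvd_pow_sub_pow (q₀ ^ 2) 1 k
    rwa [one_pow] at this
  have hk1 : 1 ≤ (q₀ ^ 2) ^ k := Nat.one_le_pow _ _ (by positivity)
  have h6 : q - 1 = q₀ * ((q₀ ^ 2) ^ k - 1) + (q₀ - 1) := by
    rw [hq, pow_succ, pow_mul, Nat.mul_sub, mul_one, mul_comm]
    have : q₀ ≤ q₀ * (q₀ ^ 2) ^ k := Nat.le_mul_of_pos_right _ hk1
    omega
  have h7 : 2 * (q - 1) = 2 * q₀ * ((q₀ ^ 2) ^ k - 1) + 2 * (q₀ - 1) := by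
    rw [h6]; ring
  rw [h7] at h4
  have h8 : q₀ ^ 2 - 1 ∣ 2 * (q₀ - 1) :=
    (Nat.dvd_add_right (h5.mul_left (2 * q₀))).mp h4
  have h9 := Nat.le_of_dvd (by omega) h8
  have h10 : q₀ ^ 2 - 1 = (q₀ + 1) * (q₀ - 1) := by
    obtain ⟨s, rfl⟩ : ∃ s, q₀ = s + 1 := ⟨q₀ - 1, by omega⟩
    simp only [Nat.add_sub_cancel]
    have : (s + 1) ^ 2 = (s + 1 + 1) * s + 1 := by ring
    rw [this, Nat.add_sub_cancel]
  rw [h10] at h9
  have h11 : 4 * (q₀ - 1) ≤ (q₀ + 1) * (q₀ - 1) := Nat.mul_le_mul_right _ (by omega)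
  omega

theorem ar_e5 {p a b q q₀ q₁ r r' m h : ℕ} (hp : p.Prime) (h3 : 3 ≤ q₀)
    (hr : r.Prime) (hr' : r'.Prime)
    (hq₀ : q₀ = p ^ a) (hq₁ : q₁ = p ^ b) (hq : q = q₀ ^ r) (hq' : q = q₁ ^ r')
    (hm : 2 * m = q₀ * (q₀ ^ 2 - 1)) (hh : 2 * h = q₁ * (q₁ ^ 2 - 1)) (hdvd : m ∣ h)
    (hlt : m < h) : False := by
  have ha : a ≠ 0 := by
    rintro rfl
    rw [pow_zero] at hq₀
    omega
  have hexp : a * r = b * r' := by
    apply Nat.pow_right_injective hp.two_le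
    show p ^ (a * r) = p ^ (b * r')
    rw [pow_mul, pow_mul, ← hq₀, ← hq₁, ← hq, ← hq']
  have h1 : q₀ * (q₀ ^ 2 - 1) ∣ q₁ * (q₁ ^ 2 - 1) := by
    rw [← hm, ← hh]
    exact Nat.mul_dvd_mul_left 2 hdvd
  have h2 : q₀ ^ 2 - 1 ∣ q₁ * (q₁ ^ 2 - 1) := (dvd_mul_left _ _).trans h1
  have hcop : (q₀ ^ 2 - 1).Coprime q₁ := by
    rw [hq₀, hq₁]
    exact coprime_sq_sub_one hp ha
  have h4 : q₀ ^ 2 - 1 ∣ q₁ ^ 2 - 1 := hcop.dvd_of_dvd_mul_left h2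
  rw [hq₀, hq₁, ← pow_mul, ← pow_mul] at h4
  have h5 := Nat.gcd_eq_left h4
  rw [Nat.pow_sub_one_gcd_pow_sub_one] at h5
  have h6 : p ^ (a * 2).gcd (b * 2) = p ^ (a * 2) := by
    have e1 : 1 ≤ p ^ (a * 2).gcd (b * 2) := Nat.one_le_pow _ _ hp.pos
    have e2 : 1 ≤ p ^ (a * 2) := Nat.one_le_pow _ _ hp.pos
    omega
  have h7 : (a * 2).gcd (b * 2) = a * 2 := Nat.pow_right_injective hp.two_le h6
  have h8 : a * 2 ∣ b * 2 := by
    rw [← h7]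
    exact Nat.gcd_dvd_right _ _
  have h9 : a ∣ b := (Nat.mul_dvd_mul_iff_right (by norm_num)).mp h8
  obtain ⟨c, rfl⟩ := h9
  have h10 : r = c * r' := by
    apply Nat.eq_of_mul_eq_mul_left (Nat.pos_of_ne_zero ha)
    rw [hexp]; ring
  have h11 : r' ∣ r := ⟨c, by rw [h10]; ring⟩
  have h12 : r' = r := (Nat.prime_dvd_prime_iff_eq hr' hr).mp h11
  have h13 : c = 1 := by
    rw [h12] at h10
    have : c * r = 1 * r := by rw [one_mul]; exact h10.symm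
    exact Nat.eq_of_mul_eq_mul_right hr.pos this
  rw [h13, mul_one] at hq₁
  rw [← hq₀] at hq₁
  rw [hq₁] at hh
  omega

theorem ar_e6 {p a q q₀ r : ℕ} (hp : p.Prime) (ha : a ≠ 0) (hr3 : 3 ≤ r)
    (hq₀ : q₀ = p ^ a) (hq : q = q₀ ^ r) (h : q = p ∨ q = p ^ 2) : False := by
  rw [hq₀, ← pow_mul] at hq
  have h3 : 3 ≤ a * r := by
    have : 1 ≤ a := Nat.pos_of_ne_zero ha
    calc 3 ≤ 1 * r := by omega
      _ ≤ a * r := Nat.mul_le_mul_right r this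
  rcases h with h | h
  · rw [hq] at h
    have : a * r = 1 := Nat.pow_right_injective hp.two_le (by simpa using h)
    omega
  · rw [hq] at h
    have : a * r = 2 := Nat.pow_right_injective hp.two_le h
    omega

end Cfsg.Agent.Helper8.Ph
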