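import Mathlib
import Cfsg.Agent.Helper8.PgC

set_option autoImplicit false

/-!
Structural facts for the comparison of the maximal subgroups of `PGL₂(q)` with those of `PSL₂(q)`:
elements of large order in the dihedral maximal subgroups, and the alternating group of degree four
inside the symmetric group.
-/

namespace Cfsg.Agent.Helper8.Ph

open Matrix Cfsg.Agent.Helper7.SL2 Cfsg.Agent.Helper8.SL2C Cfsg.Agent.Helper8.Dk
open Cfsg.Agent.Helper8.Ds Cfsg.Agent.Helper8.Pg Subgroup
open scoped Matrix

/-- squares commute in a dihedral group -/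
theorem dihedral_sq_comm (k : ℕ) (a b : DihedralGroup k) :
    a * a * (b * b) = b * b * (a * a) := by
  rcases a with i | i <;> rcases b with j | j <;> simp [add_comm]

set_option maxRecDepth 100000 in
theorem a5_pow : ∀ σ : alternatingGroup (Fin 5),
    σ * σ = 1 ∨ σ * σ * σ = 1 ∨ σ * σ * σ * σ * σ = 1 := by
  decide +kernel

theorem a5_orderOf_le (σ : alternatingGroup (Fin 5)) : orderOf σ ≤ 5 := by
  rcases a5_pow σ with h | h | h
  · have h' : σ ^ 2 = 1 := by rw [pow_two]; exact h
    have := Nat.le_of_dvd (by norm_num) (orderOf_dvd_of_pow_eq_one h')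
    omega
  · have h' : σ ^ 3 = 1 := by rw [pow_succ, pow_two]; exact h
    have := Nat.le_of_dvd (by norm_num) (orderOf_dvd_of_pow_eq_one h')
    omega
  · have h' : σ ^ 5 = 1 := by
      simp only [pow_succ, pow_zero, one_mul]
      exact h
    exact Nat.le_of_dvd (by norm_num) (orderOf_dvd_of_pow_eq_one h')

/-- a group in which every element is a product of two squares has no subgroup of index two -/
theorem index_ne_two_of_sq_prod {H : Type*} [Group H]
    (hH : ∀ y : H, ∃ a b : H, y = a * a * (b * b)) (K : Subgroup H) : K.index ≠ 2 := by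
  intro h
  have htop : K = ⊤ := by
    rw [eq_top_iff]
    intro y _
    obtain ⟨a, b, rfl⟩ := hH y
    have ha := Subgroup.sq_mem_of_index_two h a
    have hb := Subgroup.sq_mem_of_index_two h b
    rw [pow_two] at ha hb
    exact K.mul_mem ha hb
  rw [htop, Subgroup.index_top] at h
  omega

section field

variable {K : Type*} [Field K] [Fintype K]

/-- the orders of the elements of `PSL₂(K)`, `K` of odd order -/
theorem orderOf_le_card (hodd : Odd (Fintype.card K))
    (w : ProjectiveSpecialLinearGroup (Fin 2) K) : orderOf w ≤ Fintype.card K := by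
  have : Finite (ProjectiveSpecialLinearGroup (Fin 2) K) := inferInstance
  by_cases hw : w = 1
  · rw [hw, orderOf_one]
    exact Fintype.card_pos
  obtain ⟨T', hT', hwT'⟩ := GM_cover w hw
  have hdvd := Subgroup.orderOf_dvd_natCard T' hwT'
  have hpos : 0 < Nat.card T' := Nat.card_pos
  have hle := Nat.le_of_dvd hpos hdvd
  rcases mem_GM_iff.mp hT' with hU | hT
  · rw [card_GU hU] at hle
    exact hle
  · have hc := card_center_of_two_ne (two_ne_zero_of_odd hodd)
    rcases card_mul_mem_GT hT with h | h <;> rw [hc] at h <;> omega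

/-- the orders of the elements of `PGL₂(K)`, `K` of odd order -/
theorem orderOf_le_two_mul (hodd : Odd (Fintype.card K))
    (z : Matrix.ProjGenLinGroup (Fin 2) K) : orderOf z ≤ 2 * Fintype.card K := by
  obtain ⟨w, hw⟩ := sq_mem_Lsub hodd z
  have h1 : (z * z) ^ orderOf w = 1 := by
    rw [← hw, ← map_pow, pow_orderOf_eq_one, map_one]
  have h2 : z ^ (2 * orderOf w) = 1 := by
    rw [pow_mul, pow_two]
    exact h1
  have h3 := orderOf_dvd_of_pow_eq_one h2
  have h4 : 0 < orderOf w := orderOf_pos w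
  have h5 := Nat.le_of_dvd (by omega) h3
  have h6 := orderOf_le_card hodd w
  omega

end field

variable {F : Type*} [Field F] [Fintype F]

/-- a dihedral subgroup of `PGL₂(F)` of order `2n` meets `L` in a subgroup having an element of
order `n / 2` -/
theorem exists_orderOf_half (hodd : Odd (Fintype.card F))
    {M : Subgroup (Matrix.ProjGenLinGroup (Fin 2) F)} {n : ℕ} (hn : Even n)
    (e : M ≃* DihedralGroup n) :
    ∃ y ∈ M.comap (tP F), orderOf y = n / 2 := by
  set c : M := e.symm (DihedralGroup.r 1) with hc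
  have hord : orderOf c = n := by
    rw [hc, MulEquiv.orderOf_eq, DihedralGroup.orderOf_r_one]
  obtain ⟨y, hy⟩ := sq_mem_Lsub hodd (c : Matrix.ProjGenLinGroup (Fin 2) F)
  refine ⟨y, ?_, ?_⟩
  · show tP F y ∈ M
    rw [hy]
    exact M.mul_mem c.2 c.2
  · have h1 : orderOf y = orderOf (tP F y) := (orderOf_injective (tP F) (tP_injective F) y).symm
    have h2 : (c : Matrix.ProjGenLinGroup (Fin 2) F) * c = ((c ^ 2 : M) :
        Matrix.ProjGenLinGroup (Fin 2) F) := by
      rw [pow_two, Subgroup.coe_mul]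
    rw [h1, hy, h2, Subgroup.orderOf_coe, orderOf_pow' c (by norm_num), hord,
      Nat.gcd_eq_right (even_iff_two_dvd.mp hn)]

set_option maxRecDepth 100000 in
theorem perm_four_aux :
    ∃ σ τ : Equiv.Perm (Fin 4), σ = σ * σ * (σ * σ) ∧ τ = τ * τ * (τ * τ) ∧
      σ * σ * (τ * τ) ≠ τ * τ * (σ * σ) := by
  decide +kernel

/-- an element of a subgroup isomorphic to `S₄` that is a fourth power lies in `L` -/
theorem exists_of_fourth (hodd : Odd (Fintype.card F))
    {M : Subgroup (Matrix.ProjGenLinGroup (Fin 2) F)} (e : M ≃* Equiv.Perm (Fin 4))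
    {s : Equiv.Perm (Fin 4)} (hs : s = s * s * (s * s)) :
    ∃ y ∈ M.comap (tP F), tP F y = ((e.symm s : M) : Matrix.ProjGenLinGroup (Fin 2) F) := by
  have h1 : (e.symm s : M) = e.symm s * e.symm s * (e.symm s * e.symm s) := by
    rw [← map_mul, ← map_mul, ← hs]
  have h2 : ((e.symm s : M) : Matrix.ProjGenLinGroup (Fin 2) F) ∈ Lsub F := by
    rw [h1, Subgroup.coe_mul, Subgroup.coe_mul]
    exact (Lsub F).mul_mem (sq_mem_Lsub hodd _) (sq_mem_Lsub hodd _)
  obtain ⟨y, hy⟩ := h2
  refine ⟨y, ?_, hy⟩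
  show tP F y ∈ M
  rw [hy]
  exact (e.symm s).2

/-- the intersection with `L` of a subgroup of `PGL₂(F)` isomorphic to `S₄` does not embed in a
group whose squares commute -/
theorem not_le_of_S4 (hodd : Odd (Fintype.card F))
    {M : Subgroup (Matrix.ProjGenLinGroup (Fin 2) F)} (e : M ≃* Equiv.Perm (Fin 4))
    {D : Type*} [Group D] (hD : ∀ a b : D, a * a * (b * b) = b * b * (a * a))
    {H : Subgroup (ProjectiveSpecialLinearGroup (Fin 2) F)} (hle : M.comap (tP F) ≤ H)
    (e' : H ≃* D) : False := by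
  obtain ⟨σ, τ, hσ, hτ, hne⟩ := perm_four_aux
  obtain ⟨y₁, hy₁, hy₁'⟩ := exists_of_fourth hodd e hσ
  obtain ⟨y₂, hy₂, hy₂'⟩ := exists_of_fourth hodd e hτ
  have h1 := hD (e' ⟨y₁, hle hy₁⟩) (e' ⟨y₂, hle hy₂⟩)
  simp only [← map_mul] at h1
  have h2 := e'.injective h1
  have h3 : y₁ * y₁ * (y₂ * y₂) = y₂ * y₂ * (y₁ * y₁) := by
    have := congrArg Subtype.val h2
    simpa using this
  have h4 := congrArg (tP F) h3
  simp only [map_mul, hy₁', hy₂'] at h4
  have h5 : (e.symm σ : M) * e.symm σ * (e.symm τ * e.symm τ) =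
      e.symm τ * e.symm τ * (e.symm σ * e.symm σ) := by
    apply Subtype.ext
    simpa using h4
  simp only [← map_mul] at h5
  exact hne (e.symm.injective h5)

end Cfsg.Agent.Helper8.Ph
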