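import Mathlib
import Cfsg.Agent.S5891
import Cfsg.Agent.S5892
import Cfsg.Agent.Helper8.PhA
import Cfsg.Agent.Helper8.PhB

set_option autoImplicit false

/-!
The maximal subgroups of `PGL₂(F)` not containing `L = PSL₂(F)` meet `L` in a maximal subgroup of
`L`, with the known exceptions.
-/

namespace Cfsg.Agent.Helper8.Ph

open Matrix Cfsg.Agent.Helper7.SL2 Cfsg.Agent.Helper8.SL2C Cfsg.Agent.Helper8.Dk
open Cfsg.Agent.Helper8.Ds Cfsg.Agent.Helper8.Pg Subgroup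
open scoped Matrix

/-- maximality in the range of an injective homomorphism, from maximality of the preimage -/
theorem coatom_subgroupOf_range {P G : Type*} [Group P] [Group G] (f : P →* G)
    (hf : Function.Injective f) (X : Subgroup G) (h : IsCoatom (X.comap f)) :
    IsCoatom (X.subgroupOf f.range) := by
  have h1 : X.subgroupOf f.range = (MonoidHom.ofInjective hf).mapSubgroup (X.comap f) := by
    ext ⟨x, hx⟩
    obtain ⟨y, rfl⟩ := hx
    rw [Subgroup.mem_subgroupOf, MulEquiv.mapSubgroup_apply, Subgroup.mem_map]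
    constructor
    · intro hy
      exact ⟨y, hy, Subtype.ext (MonoidHom.ofInjective_apply hf)⟩
    · rintro ⟨y', hy', hyy'⟩
      have h2 := congrArg Subtype.val hyy'
      have h3 : f y' = f y := by
        have := MonoidHom.ofInjective_apply hf (x := y')
        rw [← this]
        exact h2
      rw [← hf h3]
      exact hy'
  rw [h1]
  exact (OrderIso.isCoatom_iff (MonoidHom.ofInjective hf).mapSubgroup _).mpr h

theorem no_A4_over {P : Type*} [Group P] [Finite P] {Y H : Subgroup P} (hYH : Y ≤ H)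
    (eH : H ≃* alternatingGroup (Fin 4)) (hm : Nat.card Y = 6) : False := by
  have hH : ∀ y : H, ∃ a b : H, y = a * a * (b * b) := by
    intro y
    obtain ⟨a, b, hab⟩ := a4_sq (eH y)
    refine ⟨eH.symm a, eH.symm b, ?_⟩
    apply eH.injective
    simp [hab]
  apply index_ne_two_of_sq_prod hH (Y.subgroupOf H)
  have h1 := Subgroup.index_mul_card (Y.subgroupOf H)
  have h2 : Nat.card (Y.subgroupOf H) = 6 := by
    rw [Nat.card_congr (Subgroup.subgroupOfEquivOfLe hYH).toEquiv, hm]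
  have h3 : Nat.card H = 12 := by rw [Nat.card_congr eH.toEquiv, Ds.card_A4]
  rw [h2, h3] at h1
  omega

variable {F : Type*} [Field F] [Fintype F]

theorem card_eq_prime_pow (p : ℕ) [Fact p.Prime] [CharP F p] {F₀ : Type*} [Field F₀] [Fintype F₀]
    {r : ℕ} (hr : r ≠ 0) (h : Fintype.card F = Fintype.card F₀ ^ r) :
    ∃ a : ℕ, a ≠ 0 ∧ Fintype.card F₀ = p ^ a := by
  obtain ⟨p₀, hp₀⟩ := CharP.exists F₀
  have hp₀' : Fact p₀.Prime := ⟨CharP.char_is_prime F₀ p₀⟩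
  obtain ⟨a, -, ha⟩ := FiniteField.card F₀ p₀
  obtain ⟨n, -, hn⟩ := FiniteField.card F p
  have h1 : p₀ ∣ p ^ (n : ℕ) := by
    rw [← hn, h, ha]
    exact dvd_pow (dvd_pow_self _ a.ne_zero) hr
  have h2 : p₀ ∣ p := hp₀'.out.dvd_of_dvd_pow h1
  have h3 : p₀ = p := (Nat.prime_dvd_prime_iff_eq hp₀'.out Fact.out).mp h2
  exact ⟨a, a.ne_zero, by rw [ha, h3]⟩

/-- the maximal subgroups of `PSL₂(F)`, in numerical form -/
theorem H_types (p : ℕ) [Fact p.Prime] [CharP F p] (hodd : Odd (Fintype.card F))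
    (h5 : 5 ≤ Fintype.card F) {H : Subgroup (ProjectiveSpecialLinearGroup (Fin 2) F)}
    (hH : IsCoatom H) :
    2 * Nat.card H = Fintype.card F * (Fintype.card F - 1) ∨
    (13 ≤ Fintype.card F ∧ Nat.card H = Fintype.card F - 1 ∧
      ∃ k : ℕ, Nonempty (H ≃* DihedralGroup k)) ∨
    (Nat.card H = Fintype.card F + 1 ∧ ∃ k : ℕ, Nonempty (H ≃* DihedralGroup k)) ∨
    (∃ q₁ b : ℕ, q₁ = p ^ b ∧ Fintype.card F = q₁ ^ 2 ∧ Nat.card H = q₁ * (q₁ ^ 2 - 1) ∧
      ∀ y : H, orderOf y ≤ 2 * q₁) ∨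
    (∃ q₁ b r' : ℕ, q₁ = p ^ b ∧ 1 ≤ q₁ ∧ r'.Prime ∧ 3 ≤ r' ∧ Fintype.card F = q₁ ^ r' ∧
      2 * Nat.card H = q₁ * (q₁ ^ 2 - 1)) ∨
    ((Fintype.card F % 10 = 1 ∨ Fintype.card F % 10 = 9) ∧
      (Fintype.card F = p ∨ Fintype.card F = p ^ 2) ∧ Nat.card H = 60 ∧
      ∀ y : H, orderOf y ≤ 5) ∨
    (Fintype.card F = p ∧ Nat.card H = 12 ∧ Nonempty (H ≃* alternatingGroup (Fin 4))) ∨
    (Fintype.card F = p ∧ (Fintype.card F % 8 = 1 ∨ Fintype.card F % 8 = 7) ∧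
      Nat.card H = 24) := by
  rcases Cfsg.Agent.S5892.result p hodd h5 H hH with h1 | ⟨h13, k, hk, ⟨e⟩⟩ |
    ⟨-, -, k, hk, ⟨e⟩⟩ | ⟨F₁, _, _, hq, ⟨e⟩⟩ | ⟨F₁, _, _, r', hr', hr'odd, hq, ⟨e⟩⟩ |
    ⟨h10, hqp, ⟨e⟩⟩ | ⟨hqp, h8, -, ⟨e⟩⟩ | ⟨hqp, h8, ⟨e⟩⟩
  · exact Or.inl h1
  · refine Or.inr (Or.inl ⟨h13, ?_, k, ⟨e⟩⟩)
    rw [Nat.card_congr e.toEquiv, DihedralGroup.nat_card, hk]
  · refine Or.inr (Or.inr (Or.inl ⟨?_, k, ⟨e⟩⟩))
    rw [Nat.card_congr e.toEquiv, DihedralGroup.nat_card, hk]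
  · obtain ⟨b, -, hb⟩ := card_eq_prime_pow p two_ne_zero hq
    have hodd₁ : Odd (Fintype.card F₁) := by
      rw [hq] at hodd
      exact (Nat.odd_pow_iff two_ne_zero).mp hodd
    refine Or.inr (Or.inr (Or.inr (Or.inl ⟨Fintype.card F₁, b, hb, hq, ?_, ?_⟩)))
    · rw [Nat.card_congr e.toEquiv, Cfsg.Agent.Lead.PSL2Sub.card_PGL2]
    · intro y
      rw [← MulEquiv.orderOf_eq e y]
      exact orderOf_le_two_mul hodd₁ (e y)
  · obtain ⟨b, -, hb⟩ := card_eq_prime_pow p hr'.ne_zero hq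
    have hodd₁ : Odd (Fintype.card F₁) := by
      rw [hq] at hodd
      exact (Nat.odd_pow_iff hr'.ne_zero).mp hodd
    have hr3 : 3 ≤ r' := by
      have := hr'.two_le
      have := Nat.odd_iff.mp hr'odd
      omega
    refine Or.inr (Or.inr (Or.inr (Or.inr (Or.inl ⟨Fintype.card F₁, b, r', hb, Fintype.card_pos,
      hr', hr3, hq, ?_⟩))))
    rw [Nat.card_congr e.toEquiv, two_mul_card_PSL2 hodd₁]
  · refine Or.inr (Or.inr (Or.inr (Or.inr (Or.inr (Or.inl ⟨h10, ?_, ?_, ?_⟩)))))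
    · rcases hqp with h | ⟨h, -⟩
      · exact Or.inl h
      · exact Or.inr h
    · rw [Nat.card_congr e.toEquiv, Ds.card_A5]
    · intro y
      rw [← MulEquiv.orderOf_eq e y]
      exact a5_orderOf_le (e y)
  · refine Or.inr (Or.inr (Or.inr (Or.inr (Or.inr (Or.inr (Or.inl ⟨hqp, ?_, ⟨e⟩⟩))))))
    rw [Nat.card_congr e.toEquiv, Ds.card_A4]
  · refine Or.inr (Or.inr (Or.inr (Or.inr (Or.inr (Or.inr (Or.inr ⟨hqp, ?_, ?_⟩))))))
    · rw [hqp]
      exact h8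
    · rw [Nat.card_congr e.toEquiv, Ds.card_S4]

/-- the maximal subgroups of `PGL₂(F)` not containing `L`, in numerical form -/
theorem M_types (p : ℕ) [Fact p.Prime] [CharP F p] (hodd : Odd (Fintype.card F))
    (h5 : 5 ≤ Fintype.card F) (h7 : Fintype.card F ≠ 7) (h9 : Fintype.card F ≠ 9)
    (h11 : Fintype.card F ≠ 11)
    {M : Subgroup (Matrix.ProjGenLinGroup (Fin 2) F)} (hM : IsCoatom M) (hML : ¬ Lsub F ≤ M) :
    2 * Nat.card (M.comap (tP F)) = Fintype.card F * (Fintype.card F - 1) ∨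
    (13 ≤ Fintype.card F ∧ Nat.card (M.comap (tP F)) = Fintype.card F - 1 ∧
      ∃ y ∈ M.comap (tP F), orderOf y = (Fintype.card F - 1) / 2) ∨
    (Nat.card (M.comap (tP F)) = Fintype.card F + 1 ∧
      ∃ y ∈ M.comap (tP F), orderOf y = (Fintype.card F + 1) / 2) ∨
    ((Fintype.card F).Prime ∧ (Fintype.card F % 8 = 3 ∨ Fintype.card F % 8 = 5) ∧
      Nat.card (M.comap (tP F)) = 12 ∧ Nonempty (M ≃* Equiv.Perm (Fin 4))) ∨
    (∃ q₀ a r : ℕ, q₀ = p ^ a ∧ a ≠ 0 ∧ 3 ≤ q₀ ∧ Odd q₀ ∧ r.Prime ∧ Odd r ∧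
      Fintype.card F = q₀ ^ r ∧ 2 * Nat.card (M.comap (tP F)) = q₀ * (q₀ ^ 2 - 1)) := by
  have hML' : ¬ M ≤ Lsub F := not_le_Lsub_of_coatom hodd hM hML
  have hmap : (M.comap (tP F)).map (tP F) = M ⊓ Lsub F := by
    rw [Subgroup.map_comap_eq, inf_comm]
    rfl
  have hcardY : Nat.card (M ⊓ Lsub F : Subgroup (Matrix.ProjGenLinGroup (Fin 2) F)) =
      Nat.card (M.comap (tP F)) := by
    rw [← hmap, Subgroup.card_map_of_injective (tP_injective F)]
  have hM2 : Nat.card M = 2 * Nat.card (M.comap (tP F)) := by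
    rw [card_eq_two_mul hodd hML', hcardY]
  have hq2 : Fintype.card F % 2 = 1 := Nat.odd_iff.mp hodd
  rcases Cfsg.Agent.S5891.result hodd (by omega) M hM (by rwa [range_eq_Lsub]) with hMa |
    ⟨hq5, ⟨eM⟩⟩ | ⟨⟨eM⟩⟩ | ⟨hqprime, hq8, ⟨eM⟩⟩ | ⟨F₀, _, _, r, hr, hrodd, hq0, ⟨eM⟩⟩
  · left
    rw [← hM2, hMa]
  · right; left
    have h13 : 13 ≤ Fintype.card F := by omega
    have hc : Nat.card M = 2 * (Fintype.card F - 1) := by
      rw [Nat.card_congr eM.toEquiv, DihedralGroup.nat_card]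
    have heven : Even (Fintype.card F - 1) := by
      rw [Nat.even_iff]; omega
    exact ⟨h13, by omega, exists_orderOf_half hodd heven eM⟩
  · right; right; left
    have hc : Nat.card M = 2 * (Fintype.card F + 1) := by
      rw [Nat.card_congr eM.toEquiv, DihedralGroup.nat_card]
    have heven : Even (Fintype.card F + 1) := by
      rw [Nat.even_iff]; omega
    exact ⟨by omega, exists_orderOf_half hodd heven eM⟩
  · right; right; right; left
    have hc : Nat.card M = 24 := by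
      rw [Nat.card_congr eM.toEquiv, Ds.card_S4]
    exact ⟨hqprime, hq8, by omega, ⟨eM⟩⟩
  · right; right; right; right
    obtain ⟨a, ha, hq₀⟩ := card_eq_prime_pow p hr.ne_zero hq0
    have hodd₀ : Odd (Fintype.card F₀) := by
      rw [hq0] at hodd
      exact (Nat.odd_pow_iff hr.ne_zero).mp hodd
    have h3 : 3 ≤ Fintype.card F₀ := by
      have h2 : 2 ≤ Fintype.card F₀ := Fintype.one_lt_card
      have := Nat.odd_iff.mp hodd₀
      omega
    refine ⟨Fintype.card F₀, a, r, hq₀, ha, h3, hodd₀, hr, hrodd, hq0, ?_⟩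
    rw [← hM2, Nat.card_congr eM.toEquiv, Cfsg.Agent.Lead.PSL2Sub.card_PGL2]

end Cfsg.Agent.Helper8.Ph
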