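import Mathlib
import Cfsg.Agent.Helper8.PhC

set_option autoImplicit false

/-!
The maximal subgroups of `PGL₂(F)` not containing `L = PSL₂(F)` meet `L` in a maximal subgroup of
`L`, with the known exceptions: the comparison of the two lists.
-/

namespace Cfsg.Agent.Helper8.Ph

open Matrix Cfsg.Agent.Helper7.SL2 Cfsg.Agent.Helper8.SL2C Cfsg.Agent.Helper8.Dk
open Cfsg.Agent.Helper8.Ds Cfsg.Agent.Helper8.Pg Subgroup
open scoped Matrix

theorem ar_b4 {q q₁ o : ℕ} (hq2 : q % 2 = 1) (h13 : 13 ≤ q) (hq : q = q₁ ^ 2)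
    (ho : o = (q - 1) / 2) (hle : o ≤ 2 * q₁) : False := by
  have h4 : q₁ ≤ 4 := by
    by_contra hc
    push Not at hc
    have : 5 * q₁ ≤ q₁ ^ 2 := by
      rw [pow_two]
      exact Nat.mul_le_mul_right q₁ hc
    omega
  interval_cases q₁ <;> norm_num at hq <;> omega

variable {F : Type*} [Field F] [Fintype F]

theorem Lsub_eq_top_of_even (heven : Even (Fintype.card F)) : Lsub F = ⊤ := by
  have h2 : (2 : F) = 0 :=
    Cfsg.Agent.Helper8.SL2ABA.two_eq_zero_of_dvd (even_iff_two_dvd.mp heven)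
  apply Subgroup.eq_top_of_card_eq
  rw [card_Lsub, Cfsg.Agent.Lead.PSL2Sub.card_PGL2]
  have := card_center_mul_card_PSL2 (F := F)
  rw [card_center_of_two_eq h2, one_mul] at this
  exact this

theorem coatom_comap_even (heven : Even (Fintype.card F))
    {M : Subgroup (Matrix.ProjGenLinGroup (Fin 2) F)} (hM : IsCoatom M) :
    IsCoatom (M.comap (tP F)) := by
  have htop : (tP F).range = ⊤ := Lsub_eq_top_of_even heven
  let e : ProjectiveSpecialLinearGroup (Fin 2) F ≃* Matrix.ProjGenLinGroup (Fin 2) F :=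
    MulEquiv.ofBijective (tP F) ⟨tP_injective F, MonoidHom.range_eq_top.mp htop⟩
  have h1 : M.comap (tP F) = e.comapSubgroup M := by
    rw [MulEquiv.comapSubgroup_apply]
    rfl
  rw [h1]
  exact (OrderIso.isCoatom_iff e.comapSubgroup M).mpr hM

theorem coatom_comap_odd (hodd : Odd (Fintype.card F)) (h5 : 5 ≤ Fintype.card F)
    (h7 : Fintype.card F ≠ 7) (h9 : Fintype.card F ≠ 9) (h11 : Fintype.card F ≠ 11)
    (h40 : (Fintype.card F).Prime → Fintype.card F % 40 ∉ ({11, 19, 21, 29} : Finset ℕ))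
    {M : Subgroup (Matrix.ProjGenLinGroup (Fin 2) F)} (hM : IsCoatom M) (hML : ¬ Lsub F ≤ M) :
    IsCoatom (M.comap (tP F)) := by
  obtain ⟨p, hp⟩ := CharP.exists F
  have hpp : Fact p.Prime := ⟨CharP.char_is_prime F p⟩
  have hp' : p.Prime := hpp.out
  have hYtop : M.comap (tP F) ≠ ⊤ := by
    intro h
    apply hML
    rintro _ ⟨y, rfl⟩
    have : y ∈ M.comap (tP F) := by
      rw [h]
      trivial
    exact this
  by_contra hnot
  rcases eq_top_or_exists_le_coatom (M.comap (tP F)) with h | ⟨H, hH, hYH⟩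
  · exact hYtop h
  have hne : M.comap (tP F) ≠ H := fun h => hnot (h ▸ hH)
  have hdvd : Nat.card (M.comap (tP F)) ∣ Nat.card H := Subgroup.card_dvd_of_le hYH
  have hlt : Nat.card (M.comap (tP F)) < Nat.card H := by
    rcases lt_or_eq_of_le (Nat.le_of_dvd Nat.card_pos hdvd) with h | h
    · exact h
    · exact absurd (Subgroup.eq_of_le_of_card_ge hYH h.ge) hne
  have hle := two_mul_le hdvd hlt
  have hq2 : Fintype.card F % 2 = 1 := Nat.odd_iff.mp hodd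
  rcases M_types p hodd h5 h7 h9 h11 hM hML with hm | ⟨h13, hm, y, hy, hyord⟩ |
    ⟨hm, y, hy, hyord⟩ | ⟨hqprime, hq8, hm, ⟨eM⟩⟩ |
    ⟨q₀, a, r, hq₀, ha, h3, hodd₀, hr, hrodd, hq, hm⟩
  · -- the point stabiliser
    rcases H_types p hodd h5 hH with h1 | ⟨-, hh, -⟩ | ⟨hh, -⟩ | ⟨q₁, b, hq₁, hq', hh, -⟩ |
      ⟨q₁, b, r', hq₁, hq₁1, hr', hr3, hq', hh⟩ | ⟨h10, hqp, hh, -⟩ | ⟨hqp, hh, -⟩ |
      ⟨hqp, h8, hh⟩
    · omega
    · exact ar_a2 h5 hm hh hle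
    · exact ar_a3 h5 hm hh hle
    · exact ar_a4 h5 hm hq' hh hle
    · exact ar_a5 h5 hm hq₁1 hr3 hq' hh hle
    · exact ar_a6 hodd h5 h7 hm hh hle h10
    · exact ar_a7 h5 hm hh hle
    · exact ar_a8 h5 hm hh hle h8
  · -- the dihedral group of order `2(q - 1)`
    rcases H_types p hodd h5 hH with h1 | ⟨-, hh, -⟩ | ⟨hh, -⟩ | ⟨q₁, b, hq₁, hq', hh, hord⟩ |
      ⟨q₁, b, r', hq₁, hq₁1, hr', hr3, hq', hh⟩ | ⟨h10, hqp, hh, hord⟩ | ⟨hqp, hh, -⟩ |
      ⟨hqp, h8, hh⟩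
    · exact ar_b1 hodd h13 hm h1 hdvd
    · omega
    · exact ar_b3 h13 hm hh hdvd
    · have h1 := hord ⟨y, hYH hy⟩
      rw [Subgroup.orderOf_mk, hyord] at h1
      exact ar_b4 hq2 h13 hq' rfl h1
    · exact ar_b5 h13 hm hq₁1 hr3 hq' hh hle
    · have h1 := hord ⟨y, hYH hy⟩
      rw [Subgroup.orderOf_mk, hyord] at h1
      omega
    · omega
    · omega
  · -- the dihedral group of order `2(q + 1)`
    rcases H_types p hodd h5 hH with h1 | ⟨-, hh, -⟩ | ⟨hh, -⟩ | ⟨q₁, b, hq₁, hq', hh, hord⟩ |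
      ⟨q₁, b, r', hq₁, hq₁1, hr', hr3, hq', hh⟩ | ⟨h10, hqp, hh, hord⟩ | ⟨hqp, hh, ⟨eH⟩⟩ |
      ⟨hqp, h8, hh⟩
    · exact ar_c1 h5 hm h1 hdvd
    · omega
    · omega
    · exact ar_c4 h5 hm hq' hh hdvd
    · exact ar_c5 hm hq₁1 hr3 hq' hh hle
    · have h1 := hord ⟨y, hYH hy⟩
      rw [Subgroup.orderOf_mk, hyord] at h1
      omega
    · exact no_A4_over hYH eH (by omega)
    · omega
  · -- the symmetric group of degree four
    rcases H_types p hodd h5 hH with h1 | ⟨-, hh, k, ⟨eH⟩⟩ | ⟨hh, k, ⟨eH⟩⟩ |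
      ⟨q₁, b, hq₁, hq', hh, -⟩ | ⟨q₁, b, r', hq₁, hq₁1, hr', hr3, hq', hh⟩ |
      ⟨h10, hqp, hh, -⟩ | ⟨hqp, hh, -⟩ | ⟨hqp, h8, hh⟩
    · exact ar_d1 hq8 hm h1 hdvd
    · exact not_le_of_S4 hodd eM (dihedral_sq_comm k) hYH eH
    · exact not_le_of_S4 hodd eM (dihedral_sq_comm k) hYH eH
    · rw [hq'] at hqprime
      exact Nat.Prime.not_prime_pow (le_refl 2) hqprime
    · rw [hq'] at hqprime
      exact Nat.Prime.not_prime_pow (by omega) hqprime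
    · exact ar_d6 hqprime h40 hq8 h10
    · omega
    · omega
  · -- the subfield subgroups
    have hr3 : 3 ≤ r := by
      have := hr.two_le
      have := Nat.odd_iff.mp hrodd
      omega
    rcases H_types p hodd h5 hH with h1 | ⟨-, hh, -⟩ | ⟨hh, -⟩ | ⟨q₁, b, hq₁, hq', hh, -⟩ |
      ⟨q₁, b, r', hq₁, hq₁1, hr', hr'3, hq', hh⟩ | ⟨h10, hqp, hh, -⟩ | ⟨hqp, hh, -⟩ |
      ⟨hqp, h8, hh⟩
    · exact ar_e1 h3 hrodd hq hm h1 hdvd
    · exact ar_e2 hodd₀ h3 hr.ne_zero hq hm hh hdvd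
    · exact ar_e3 hodd₀ h3 hr.ne_zero hq hm hh hdvd
    · exact ar_e4 hp' h3 hrodd hq₀ hq₁ hq hq' hm hh hdvd
    · exact ar_e5 hp' h3 hr hr' hq₀ hq₁ hq hq' hm hh hdvd hlt
    · exact ar_e6 hp' ha hr3 hq₀ hq hqp
    · exact ar_e6 hp' ha hr3 hq₀ hq (Or.inl hqp)
    · exact ar_e6 hp' ha hr3 hq₀ hq (Or.inl hqp)

end Cfsg.Agent.Helper8.Ph
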