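import Mathlib
import Cfsg.Agent.Helper8.LagPairB
set_option autoImplicit false

/-!
Hyperbolic families in an alternating space, the projection onto their span, and the induction
skeleton producing a decomposition into hyperbolic planes permuted by an isometry `x` with
`x² = z`.
-/

namespace Cfsg.Agent.Helper8.PlaneDecomp

open Cfsg.Agent.Helper8.LagPair

variable {F : Type*} [Field F] {V : Type*} [AddCommGroup V] [Module F V]

/-- a family of mutually orthogonal hyperbolic pairs -/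
structure IsHypFamily (B : LinearMap.BilinForm F V) {ι : Type*} (e f : ι → V) : Prop where
  ee : ∀ i j, B (e i) (e j) = 0
  ff : ∀ i j, B (f i) (f j) = 0
  ef : ∀ i j, i ≠ j → B (e i) (f j) = 0
  ne : ∀ i, B (e i) (f i) ≠ 0

theorem IsHypFamily.fe {B : LinearMap.BilinForm F V} (hB : ∀ v, B v v = 0) {ι : Type*}
    {e f : ι → V} (h : IsHypFamily B e f) (i j : ι) (hij : i ≠ j) : B (f j) (e i) = 0 := by
  rw [skew B hB, h.ef i j hij, neg_zero]

/-- the projection onto the span of a hyperbolic family -/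
noncomputable def proj (B : LinearMap.BilinForm F V) {ι : Type*} [Fintype ι] (e f : ι → V)
    (v : V) : V :=
  ∑ i, (((B (e i) (f i))⁻¹ * B v (f i)) • e i - ((B (e i) (f i))⁻¹ * B v (e i)) • f i)

theorem proj_mem (B : LinearMap.BilinForm F V) {ι : Type*} [Fintype ι] (e f : ι → V) (v : V) :
    proj B e f v ∈ Submodule.span F (Set.range e ∪ Set.range f) := by
  unfold proj
  apply Submodule.sum_mem
  intro i _
  apply Submodule.sub_mem
  · exact Submodule.smul_mem _ _ (Submodule.subset_span (Or.inl ⟨i, rfl⟩))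
  · exact Submodule.smul_mem _ _ (Submodule.subset_span (Or.inr ⟨i, rfl⟩))

theorem proj_e {B : LinearMap.BilinForm F V} (hB : ∀ v, B v v = 0) {ι : Type*} [Fintype ι]
    {e f : ι → V} (h : IsHypFamily B e f) (v : V) (j : ι) :
    B (proj B e f v) (e j) = B v (e j) := by
  unfold proj
  rw [map_sum, LinearMap.sum_apply, Finset.sum_eq_single j]
  · rw [map_sub, LinearMap.sub_apply, map_smul, map_smul, LinearMap.smul_apply,
      LinearMap.smul_apply, h.ee, smul_zero, zero_sub, skew B hB (f j) (e j), smul_eq_mul]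
    have := h.ne j
    field_simp
  · intro i _ hij
    rw [map_sub, LinearMap.sub_apply, map_smul, map_smul, LinearMap.smul_apply,
      LinearMap.smul_apply, h.ee, h.fe hB j i (Ne.symm hij), smul_zero, smul_zero, sub_zero]
  · intro hj; exact absurd (Finset.mem_univ j) hj

theorem proj_f {B : LinearMap.BilinForm F V} {ι : Type*} [Fintype ι]
    {e f : ι → V} (h : IsHypFamily B e f) (v : V) (j : ι) :
    B (proj B e f v) (f j) = B v (f j) := by
  unfold proj
  rw [map_sum, LinearMap.sum_apply, Finset.sum_eq_single j]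
  · rw [map_sub, LinearMap.sub_apply, map_smul, map_smul, LinearMap.smul_apply,
      LinearMap.smul_apply, h.ff, smul_zero, sub_zero, smul_eq_mul]
    have := h.ne j
    field_simp
  · intro i _ hij
    rw [map_sub, LinearMap.sub_apply, map_smul, map_smul, LinearMap.smul_apply,
      LinearMap.smul_apply, h.ff, h.ef i j hij, smul_zero, smul_zero, sub_zero]
  · intro hj; exact absurd (Finset.mem_univ j) hj

/-- the part of `N` orthogonal to a family -/
def perpIn (B : LinearMap.BilinForm F V) (N : Submodule F V) {ι : Type*} (e f : ι → V) :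
    Submodule F V where
  carrier := {u | u ∈ N ∧ ∀ i, B (e i) u = 0 ∧ B (f i) u = 0}
  add_mem' := by
    rintro a b ⟨ha, ha'⟩ ⟨hb, hb'⟩
    refine ⟨N.add_mem ha hb, fun i => ?_⟩
    rw [map_add, map_add, (ha' i).1, (ha' i).2, (hb' i).1, (hb' i).2, add_zero]
    exact ⟨rfl, rfl⟩
  zero_mem' := ⟨N.zero_mem, fun i => by rw [map_zero, map_zero]; exact ⟨rfl, rfl⟩⟩
  smul_mem' := by
    rintro c a ⟨ha, ha'⟩
    refine ⟨N.smul_mem c ha, fun i => ?_⟩
    rw [map_smul, map_smul, (ha' i).1, (ha' i).2, smul_zero]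
    exact ⟨rfl, rfl⟩

theorem mem_perpIn (B : LinearMap.BilinForm F V) (N : Submodule F V) {ι : Type*} (e f : ι → V)
    (u : V) : u ∈ perpIn B N e f ↔ u ∈ N ∧ ∀ i, B (e i) u = 0 ∧ B (f i) u = 0 := Iff.rfl

theorem perp_span (B : LinearMap.BilinForm F V) (N : Submodule F V) {ι : Type*} (e f : ι → V)
    (u : V) (hu : u ∈ perpIn B N e f) (w : V)
    (hw : w ∈ Submodule.span F (Set.range e ∪ Set.range f)) : B w u = 0 := by
  refine span_isotropic B (Set.range e ∪ Set.range f) {u} ?_ w hw u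
    (Submodule.subset_span rfl)
  intro a ha b hb
  rw [Set.mem_singleton_iff] at hb
  subst hb
  rcases ha with ⟨i, rfl⟩ | ⟨i, rfl⟩
  · exact (hu.2 i).1
  · exact (hu.2 i).2

/-- combining two orthogonal hyperbolic families -/
theorem IsHypFamily.sum {B : LinearMap.BilinForm F V} (hB : ∀ v, B v v = 0)
    {ι₁ ι₂ : Type*} {e₁ f₁ : ι₁ → V}
    {e₂ f₂ : ι₂ → V} (h₁ : IsHypFamily B e₁ f₁) (h₂ : IsHypFamily B e₂ f₂)
    (h12 : ∀ i j, B (e₁ i) (e₂ j) = 0 ∧ B (e₁ i) (f₂ j) = 0 ∧ B (f₁ i) (e₂ j) = 0 ∧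
      B (f₁ i) (f₂ j) = 0) :
    IsHypFamily B (Sum.elim e₁ e₂) (Sum.elim f₁ f₂) := by
  refine ⟨?_, ?_, ?_, ?_⟩
  · rintro (i | i) (j | j)
    · exact h₁.ee i j
    · exact (h12 i j).1
    · simp only [Sum.elim_inl, Sum.elim_inr]; rw [skew B hB, (h12 j i).1, neg_zero]
    · exact h₂.ee i j
  · rintro (i | i) (j | j)
    · exact h₁.ff i j
    · exact (h12 i j).2.2.2
    · simp only [Sum.elim_inl, Sum.elim_inr]; rw [skew B hB, (h12 j i).2.2.2, neg_zero]
    · exact h₂.ff i j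
  · rintro (i | i) (j | j) hij
    · exact h₁.ef i j (fun h => hij (by rw [h]))
    · exact (h12 i j).2.1
    · simp only [Sum.elim_inl, Sum.elim_inr]; rw [skew B hB, (h12 j i).2.2.1, neg_zero]
    · exact h₂.ef i j (fun h => hij (by rw [h]))
  · rintro (i | i)
    · exact h₁.ne i
    · exact h₂.ne i

variable [FiniteDimensional F V]

theorem exists_plane_family (B : LinearMap.BilinForm F V) (hB : ∀ v, B v v = 0)
    (x : V →ₗ[F] V) (hxB : ∀ u v, B (x u) (x v) = B u v) (z : F) (hz : z ≠ 0)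
    (hx : ∀ v, x (x v) = z • v)
    (hP : ∀ N : Submodule F V, (∀ u ∈ N, x u ∈ N) → (∀ u ∈ N, (∀ v ∈ N, B u v = 0) → u = 0) →
      N ≠ ⊥ → ∃ (ι₀ : Type) (_ : Fintype ι₀) (_ : Nonempty ι₀) (e f : ι₀ → V) (π : ι₀ → ι₀),
        IsHypFamily B e f ∧ Function.Involutive π ∧ (∀ i, e i ∈ N ∧ f i ∈ N) ∧
        ∀ i, x (e i) ∈ Submodule.span F {e (π i), f (π i)} ∧
          x (f i) ∈ Submodule.span F {e (π i), f (π i)}) :
    ∀ (n : ℕ) (N : Submodule F V), Module.finrank F N = n → (∀ u ∈ N, x u ∈ N) →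
      (∀ u ∈ N, (∀ v ∈ N, B u v = 0) → u = 0) →
      ∃ (ι : Type) (_ : Fintype ι) (e f : ι → V) (π : ι → ι),
        IsHypFamily B e f ∧ Function.Involutive π ∧
        (∀ i, x (e i) ∈ Submodule.span F {e (π i), f (π i)} ∧
          x (f i) ∈ Submodule.span F {e (π i), f (π i)}) ∧
        Submodule.span F (Set.range e ∪ Set.range f) = N := by
  intro n
  induction n using Nat.strong_induction_on with
  | _ n ih =>
  intro N hNn hNx hNnd
  by_cases hN0 : N = ⊥
  · subst hN0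
    refine ⟨PEmpty, inferInstance, PEmpty.elim, PEmpty.elim, id,
      ⟨fun i => i.elim, fun i => i.elim, fun i => i.elim, fun i => i.elim⟩, fun i => rfl,
      fun i => i.elim, ?_⟩
    rw [Set.range_eq_empty, Set.union_empty, Submodule.span_empty]
  obtain ⟨ι₀, hι₀, hne₀, e₀, f₀, π₀, hHF₀, hπ₀, hmemN, hxef⟩ := hP N hNx hNnd hN0
  set N' := perpIn B N e₀ f₀ with hN'
  have hN'le : N' ≤ N := fun u hu => hu.1
  have hMle : Submodule.span F (Set.range e₀ ∪ Set.range f₀) ≤ N := by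
    rw [Submodule.span_le]
    rintro w (⟨i, rfl⟩ | ⟨i, rfl⟩)
    · exact (hmemN i).1
    · exact (hmemN i).2
  have hpair_sub : ∀ i, Submodule.span F {e₀ i, f₀ i} ≤
      Submodule.span F (Set.range e₀ ∪ Set.range f₀) := by
    intro i
    apply Submodule.span_mono
    intro w hw
    rcases hw with rfl | hw
    · exact Or.inl ⟨i, rfl⟩
    · rw [Set.mem_singleton_iff] at hw; rw [hw]; exact Or.inr ⟨i, rfl⟩
  have hN'x : ∀ u ∈ N', x u ∈ N' := by
    intro u hu
    have key : ∀ w, x w ∈ Submodule.span F (Set.range e₀ ∪ Set.range f₀) → B w (x u) = 0 := by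
      intro w hw
      have h1 : w = x (z⁻¹ • x w) := by
        rw [map_smul, hx w, smul_smul, inv_mul_cancel₀ hz, one_smul]
      rw [h1, hxB, map_smul, LinearMap.smul_apply, perp_span B N e₀ f₀ u hu _ hw, smul_zero]
    refine ⟨hNx u (hN'le hu), fun i => ⟨key _ (hpair_sub _ (hxef i).1), key _ (hpair_sub _ (hxef i).2)⟩⟩
  have hdecomp : ∀ v ∈ N, v - proj B e₀ f₀ v ∈ N' := by
    intro v hv
    refine ⟨N.sub_mem hv (hMle (proj_mem B e₀ f₀ v)), fun i => ?_⟩
    constructor
    · rw [skew B hB, map_sub, LinearMap.sub_apply, proj_e hB hHF₀, sub_self, neg_zero]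
    · rw [skew B hB, map_sub, LinearMap.sub_apply, proj_f hHF₀, sub_self, neg_zero]
  have hN'nd : ∀ u ∈ N', (∀ v ∈ N', B u v = 0) → u = 0 := by
    intro u hu h
    apply hNnd u (hN'le hu)
    intro v hv
    have h1 := h _ (hdecomp v hv)
    rw [map_sub, skew B hB u (proj B e₀ f₀ v), perp_span B N e₀ f₀ u hu _ (proj_mem B e₀ f₀ v),
      neg_zero, sub_zero] at h1
    exact h1
  have hN'lt : N' < N := by
    refine lt_of_le_of_ne hN'le ?_
    intro heq
    obtain ⟨i₀⟩ := hne₀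
    have : f₀ i₀ ∈ N' := by rw [heq]; exact (hmemN i₀).2
    exact hHF₀.ne i₀ (this.2 i₀).1
  have hfin : Module.finrank F N' < n := by
    rw [← hNn]
    exact Submodule.finrank_lt_finrank_of_lt hN'lt
  obtain ⟨ι₁, hι₁, e₁, f₁, π₁, hHF₁, hπ₁, hxef₁, hspan₁⟩ := ih _ hfin N' rfl hN'x hN'nd
  have he₁N' : ∀ i, e₁ i ∈ N' := fun i => by
    rw [← hspan₁]; exact Submodule.subset_span (Or.inl ⟨i, rfl⟩)
  have hf₁N' : ∀ i, f₁ i ∈ N' := fun i => by
    rw [← hspan₁]; exact Submodule.subset_span (Or.inr ⟨i, rfl⟩)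
  refine ⟨ι₀ ⊕ ι₁, inferInstance, Sum.elim e₀ e₁, Sum.elim f₀ f₁, Sum.map π₀ π₁, ?_, ?_, ?_, ?_⟩
  · apply IsHypFamily.sum hB hHF₀ hHF₁
    intro i j
    exact ⟨((he₁N' j).2 i).1, ((hf₁N' j).2 i).1, ((he₁N' j).2 i).2, ((hf₁N' j).2 i).2⟩
  · rintro (i | i)
    · simp only [Sum.map_inl, hπ₀ i]
    · simp only [Sum.map_inr, hπ₁ i]
  · rintro (i | i)
    · simp only [Sum.map_inl, Sum.elim_inl]; exact hxef i
    · simp only [Sum.map_inr, Sum.elim_inr]; exact hxef₁ i
  · rw [Set.Sum.elim_range, Set.Sum.elim_range]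
    have hre : (Set.range e₀ ∪ Set.range e₁) ∪ (Set.range f₀ ∪ Set.range f₁) =
        (Set.range e₀ ∪ Set.range f₀) ∪ (Set.range e₁ ∪ Set.range f₁) := by
      ext w; simp only [Set.mem_union]; tauto
    rw [hre, Submodule.span_union, hspan₁]
    apply le_antisymm (sup_le hMle hN'le)
    intro v hv
    have h2 : v = proj B e₀ f₀ v + (v - proj B e₀ f₀ v) := by abel
    rw [h2]
    exact Submodule.add_mem_sup (proj_mem B e₀ f₀ v) (hdecomp v hv)

end Cfsg.Agent.Helper8.PlaneDecomp
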