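import Mathlib
import Cfsg.Agent.Helper8.PlaneDecompA
set_option autoImplicit false

/-!
The step of the plane decomposition: every nonzero invariant nondegenerate subspace contains an
invariant hyperbolic plane or a hyperbolic plane orthogonal to its image.
-/

namespace Cfsg.Agent.Helper8.PlaneDecomp

open Cfsg.Agent.Helper8.LagPair

variable {F : Type*} [Field F] {V : Type*} [AddCommGroup V] [Module F V]

theorem exists_plane_step (B : LinearMap.BilinForm F V) (hB : ∀ v, B v v = 0)
    (x : V →ₗ[F] V) (hxB : ∀ u v, B (x u) (x v) = B u v) (z : F) (hz : z ≠ 0)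
    (hx : ∀ v, x (x v) = z • v)
    (N : Submodule F V) (hNx : ∀ u ∈ N, x u ∈ N)
    (hNnd : ∀ u ∈ N, (∀ v ∈ N, B u v = 0) → u = 0) (hN0 : N ≠ ⊥) :
    ∃ (ι₀ : Type) (_ : Fintype ι₀) (_ : Nonempty ι₀) (e f : ι₀ → V) (π : ι₀ → ι₀),
        IsHypFamily B e f ∧ Function.Involutive π ∧ (∀ i, e i ∈ N ∧ f i ∈ N) ∧
        ∀ i, x (e i) ∈ Submodule.span F {e (π i), f (π i)} ∧
          x (f i) ∈ Submodule.span F {e (π i), f (π i)} := by
  have hexw : ∀ u ∈ N, u ≠ 0 → ∃ w ∈ N, B u w ≠ 0 := by
    intro u hu hu0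
    by_contra hcon
    push_neg at hcon
    exact hu0 (hNnd u hu hcon)
  have hfst : ∀ a b : V, a ∈ Submodule.span F {a, b} := fun a b =>
    Submodule.subset_span (Set.mem_insert _ _)
  have hsnd : ∀ a b : V, b ∈ Submodule.span F {a, b} := fun a b =>
    Submodule.subset_span (Set.mem_insert_of_mem _ (Set.mem_singleton _))
  by_cases h1 : ∃ v ∈ N, B v (x v) ≠ 0
  · obtain ⟨v, hvN, hv⟩ := h1
    refine ⟨Unit, inferInstance, inferInstance, fun _ => v, fun _ => x v, id,
      ⟨fun _ _ => hB v, fun _ _ => hB (x v), fun i j hij => absurd (Subsingleton.elim i j) hij,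
        fun _ => hv⟩, fun _ => rfl, fun _ => ⟨hvN, hNx v hvN⟩, fun _ => ⟨hsnd _ _, ?_⟩⟩
    rw [hx v]
    exact Submodule.smul_mem _ _ (hfst _ _)
  push_neg at h1
  by_cases h2 : ∃ v ∈ N, ∀ l : F, x v ≠ l • v
  · obtain ⟨v, hvN, hv⟩ := h2
    have hv0 : v ≠ 0 := by
      intro h0
      apply hv 0
      rw [h0, map_zero, smul_zero]
    obtain ⟨w₁, hw₁N, hw₁⟩ := hexw v hvN hv0
    set u := B (x v) w₁ • v - B v w₁ • x v with hu
    have huN : u ∈ N := N.sub_mem (N.smul_mem _ hvN) (N.smul_mem _ (hNx v hvN))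
    have hu0 : u ≠ 0 := by
      intro h0
      apply hv ((B v w₁)⁻¹ * B (x v) w₁)
      have h3 : B v w₁ • x v = B (x v) w₁ • v := (sub_eq_zero.1 h0).symm
      rw [mul_smul, ← h3, smul_smul, inv_mul_cancel₀ hw₁, one_smul]
    obtain ⟨w₂, hw₂N, hw₂⟩ := hexw u huN hu0
    set w := B (x v) w₁ • w₂ - B (x v) w₂ • w₁ with hw
    have hwN : w ∈ N := N.sub_mem (N.smul_mem _ hw₂N) (N.smul_mem _ hw₁N)
    have hvw : B v w ≠ 0 := by
      have : B v w = B u w₂ := by
        rw [hw, hu, map_sub, map_smul, map_smul, map_sub, LinearMap.sub_apply, map_smul, map_smul,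
          LinearMap.smul_apply, LinearMap.smul_apply]
        simp only [smul_eq_mul]
        ring
      rw [this]; exact hw₂
    have hxvw : B (x v) w = 0 := by
      rw [hw, map_sub, map_smul, map_smul, smul_eq_mul, smul_eq_mul]
      ring
    have hvxw : B v (x w) = 0 := by
      have h3 : v = x (z⁻¹ • x v) := by
        rw [map_smul, hx v, smul_smul, inv_mul_cancel₀ hz, one_smul]
      rw [h3, hxB, map_smul, LinearMap.smul_apply, hxvw, smul_zero]
    have hxvN := hNx v hvN
    have hxwN := hNx w hwN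
    refine ⟨Fin 2, inferInstance, inferInstance, ![v, x v], ![w, x w], ![1, 0], ?_, ?_, ?_, ?_⟩
    · refine ⟨?_, ?_, ?_, ?_⟩
      · intro i j
        fin_cases i <;> fin_cases j
        · exact hB v
        · exact h1 v hvN
        · show B (x v) v = 0
          rw [skew B hB, h1 v hvN, neg_zero]
        · exact hB (x v)
      · intro i j
        fin_cases i <;> fin_cases j
        · exact hB w
        · exact h1 w hwN
        · show B (x w) w = 0
          rw [skew B hB, h1 w hwN, neg_zero]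
        · exact hB (x w)
      · intro i j hij
        fin_cases i <;> fin_cases j
        · exact absurd rfl hij
        · exact hvxw
        · exact hxvw
        · exact absurd rfl hij
      · intro i
        fin_cases i
        · exact hvw
        · show B (x v) (x w) ≠ 0
          rw [hxB]; exact hvw
    · intro i
      fin_cases i <;> rfl
    · intro i
      fin_cases i
      · exact ⟨hvN, hwN⟩
      · exact ⟨hxvN, hxwN⟩
    · intro i
      fin_cases i
      · exact ⟨hfst _ _, hsnd _ _⟩
      · constructor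
        · show x (x v) ∈ Submodule.span F {v, w}
          rw [hx v]; exact Submodule.smul_mem _ _ (hfst _ _)
        · show x (x w) ∈ Submodule.span F {v, w}
          rw [hx w]; exact Submodule.smul_mem _ _ (hsnd _ _)
  · push_neg at h2
    obtain ⟨v, hvN, hv0⟩ := Submodule.exists_mem_ne_zero_of_ne_bot hN0
    obtain ⟨w, hwN, hw⟩ := hexw v hvN hv0
    obtain ⟨l, hl⟩ := h2 v hvN
    obtain ⟨m, hm⟩ := h2 w hwN
    refine ⟨Unit, inferInstance, inferInstance, fun _ => v, fun _ => w, id,
      ⟨fun _ _ => hB v, fun _ _ => hB w, fun i j hij => absurd (Subsingleton.elim i j) hij,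
        fun _ => hw⟩, fun _ => rfl, fun _ => ⟨hvN, hwN⟩, fun _ => ⟨?_, ?_⟩⟩
    · rw [hl]; exact Submodule.smul_mem _ _ (hfst _ _)
    · rw [hm]; exact Submodule.smul_mem _ _ (hsnd _ _)

end Cfsg.Agent.Helper8.PlaneDecomp
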