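import Mathlib
import Cfsg.Agent.Helper8.PlaneDecompB
import Cfsg.Agent.Helper8.MonoDecompA
set_option autoImplicit false

/-!
An isometry `x` of a nondegenerate alternating space with `x² = z` permutes the summands of some
orthogonal decomposition into nondegenerate subspaces of a prescribed even dimension.
-/

namespace Cfsg.Agent.Helper8.PlaneDecomp

open Cfsg.Agent.Helper8.LagPair Cfsg.Agent.Helper8.MonoDecomp

variable {F : Type*} [Field F] {V : Type*} [AddCommGroup V] [Module F V]

theorem linearIndependent_of_hyp (B : LinearMap.BilinForm F V) (hB : ∀ v, B v v = 0)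
    {ι : Type*} [Fintype ι] (e f : ι → V) (h : IsHypFamily B e f) :
    LinearIndependent F (Sum.elim e f) := by
  rw [Fintype.linearIndependent_iff]
  intro g hg
  rw [Fintype.sum_sum_type] at hg
  simp only [Sum.elim_inl, Sum.elim_inr] at hg
  have h1 : ∀ j, g (Sum.inl j) = 0 := by
    intro j
    have h2 := congrArg (fun v => B v (f j)) hg
    simp only [map_add, map_sum, map_smul, LinearMap.add_apply, LinearMap.sum_apply,
      LinearMap.smul_apply, map_zero, LinearMap.zero_apply, h.ff, smul_zero,
      Finset.sum_const_zero, add_zero] at h2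
    rw [Finset.sum_eq_single j] at h2
    · rcases smul_eq_zero.1 h2 with h3 | h3
      · exact h3
      · exact absurd h3 (h.ne j)
    · intro i _ hij
      rw [h.ef i j hij, smul_zero]
    · intro hj; exact absurd (Finset.mem_univ j) hj
  have h2 : ∀ j, g (Sum.inr j) = 0 := by
    intro j
    have h2 := congrArg (fun v => B v (e j)) hg
    simp only [map_add, map_sum, map_smul, LinearMap.add_apply, LinearMap.sum_apply,
      LinearMap.smul_apply, map_zero, LinearMap.zero_apply, h.ee, smul_zero,
      Finset.sum_const_zero, zero_add] at h2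
    rw [Finset.sum_eq_single j] at h2
    · rcases smul_eq_zero.1 h2 with h3 | h3
      · exact h3
      · exfalso
        apply h.ne j
        rw [skew B hB, h3, neg_zero]
    · intro i _ hij
      rw [h.fe hB j i (Ne.symm hij), smul_zero]
    · intro hj; exact absurd (Finset.mem_univ j) hj
  rintro (j | j)
  · exact h1 j
  · exact h2 j

theorem decomposition_of_basis {κ : Type*} [Fintype κ] [DecidableEq κ] (b : Module.Basis κ F V)
    {t : ℕ} (β : κ → Fin t) :
    (∀ j, Module.finrank F (Submodule.span F (b '' {s | β s = j})) =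
      (Finset.univ.filter (fun s => β s = j)).card) ∧
    iSupIndep (fun j => Submodule.span F (b '' {s | β s = j})) ∧
    (⨆ j, Submodule.span F (b '' {s | β s = j})) = ⊤ := by
  refine ⟨?_, ?_, ?_⟩
  · intro j
    have h1 : b '' {i | β i = j} = Set.range (b ∘ (Subtype.val : {i // β i = j} → κ)) := by
      rw [Set.image_eq_range]; rfl
    rw [h1, finrank_span_eq_card (b.linearIndependent.comp _ Subtype.val_injective),
      Fintype.card_subtype]
  · rw [iSupIndep_def]
    intro j
    have h1 : (⨆ k, ⨆ (_ : k ≠ j), Submodule.span F (b '' {i | β i = k})) ≤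
        Submodule.span F (b '' {i | β i ≠ j}) := by
      apply iSup_le; intro k; apply iSup_le; intro hk
      apply Submodule.span_mono
      apply Set.image_mono
      intro i hi
      rw [Set.mem_ofPred_eq] at hi ⊢
      rw [hi]; exact hk
    refine Disjoint.mono_right h1 ?_
    apply b.linearIndependent.disjoint_span_image
    rw [Set.disjoint_left]
    intro i hi hi'
    exact hi' hi
  · rw [eq_top_iff, ← b.span_eq, Submodule.span_le]
    rintro _ ⟨i, rfl⟩
    apply Submodule.mem_iSup_of_mem (β i)
    apply Submodule.subset_span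
    exact ⟨i, rfl, rfl⟩

variable [FiniteDimensional F V]

theorem exists_nondeg_decomposition (B : LinearMap.BilinForm F V) (hB : ∀ v, B v v = 0)
    (hnd : ∀ u, (∀ v, B u v = 0) → u = 0)
    (x : V →ₗ[F] V) (hxB : ∀ u v, B (x u) (x v) = B u v) (z : F) (hz : z ≠ 0)
    (hx : ∀ v, x (x v) = z • v) (a' t : ℕ) (ha' : 0 < a')
    (hdim : Module.finrank F V = 2 * (a' * t)) :
    ∃ D : Fin t → Submodule F V, (∀ j, Module.finrank F (D j) = 2 * a') ∧ iSupIndep D ∧
      iSup D = ⊤ ∧
      (∀ j, ∀ u ∈ D j, u ≠ 0 → ∃ v ∈ D j, B u v ≠ 0) ∧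
      (∀ j j', j ≠ j' → ∀ u ∈ D j, ∀ v ∈ D j', B u v = 0) ∧
      ∃ σ : Equiv.Perm (Fin t), ∀ j, (D j).map x = D (σ j) := by
  classical
  obtain ⟨ι, hι, e, f, π, hHF, hπ, hxef, hspan⟩ :=
    exists_plane_family B hB x hxB z hz hx
      (fun N h1 h2 h3 => exists_plane_step B hB x hxB z hz hx N h1 h2 h3)
      _ ⊤ rfl (fun _ _ => Submodule.mem_top) (fun u _ h => hnd u (fun v => h v Submodule.mem_top))
  have hli := linearIndependent_of_hyp B hB e f hHF
  let b : Module.Basis (ι ⊕ ι) F V := Module.Basis.mk hli (by rw [Set.Sum.elim_range, hspan])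
  have hb : ∀ s, b s = Sum.elim e f s := fun s => by rw [Module.Basis.mk_apply]
  have hcard : Fintype.card ι = a' * t := by
    have := Module.finrank_eq_card_basis b
    rw [hdim, Fintype.card_sum] at this
    omega
  let eq : ι ≃ Fin (Fintype.card ι) := Fintype.equivFin ι
  let π' : Fin (Fintype.card ι) → Fin (Fintype.card ι) := fun i => eq (π (eq.symm i))
  have hπ' : Function.Involutive π' := by
    intro i
    simp only [π', Equiv.symm_apply_apply, hπ (eq.symm i), Equiv.apply_symm_apply]
  obtain ⟨β, σ, hβ, hσ⟩ := exists_blocks_fin π' hπ' a' t ha' hcard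
  let β' : ι ⊕ ι → Fin t := fun s => β (eq (Sum.elim id id s))
  have hβ'π : ∀ i, β (eq (π i)) = σ (β (eq i)) := by
    intro i
    have := hσ (eq i)
    simp only [π', Equiv.symm_apply_apply] at this
    exact this
  obtain ⟨hfr, hind, hsup⟩ := decomposition_of_basis b β'
  -- generators with different labels are orthogonal
  have horth : ∀ s s', β' s ≠ β' s' → B (b s) (b s') = 0 := by
    intro s s' hss
    have hne : Sum.elim id id s ≠ Sum.elim id id s' := by
      intro h
      apply hss
      simp only [β', h]
    rw [hb, hb]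
    rcases s with i | i <;> rcases s' with i' | i'
    · exact hHF.ee i i'
    · exact hHF.ef i i' hne
    · exact hHF.fe hB i' i (Ne.symm hne)
    · exact hHF.ff i i'
  have hxinj : Function.Injective x := by
    intro u v huv
    have := congrArg x huv
    rw [hx u, hx v] at this
    exact smul_right_injective V hz this
  have hDle : ∀ j, (Submodule.span F (b '' {s | β' s = j})).map x ≤
      Submodule.span F (b '' {s | β' s = σ j}) := by
    intro j
    rw [Submodule.map_span, Submodule.span_le]
    rintro _ ⟨_, ⟨s, hs, rfl⟩, rfl⟩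
    rw [Set.mem_ofPred_eq] at hs
    have hsub : ∀ i, β (eq i) = j → Submodule.span F {e (π i), f (π i)} ≤
        Submodule.span F (b '' {s | β' s = σ j}) := by
      intro i hi
      rw [Submodule.span_le]
      intro w hw
      rcases hw with rfl | hw
      · apply Submodule.subset_span
        refine ⟨Sum.inl (π i), ?_, hb _⟩
        show β (eq (π i)) = σ j
        rw [hβ'π, hi]
      · rw [Set.mem_singleton_iff] at hw
        rw [hw]
        apply Submodule.subset_span
        refine ⟨Sum.inr (π i), ?_, hb _⟩
        show β (eq (π i)) = σ j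
        rw [hβ'π, hi]
    rw [hb]
    rcases s with i | i
    · exact hsub i hs (hxef i).1
    · exact hsub i hs (hxef i).2
  have hfr' : ∀ j, Module.finrank F (Submodule.span F (b '' {s | β' s = j})) = 2 * a' := by
    intro j
    rw [hfr j, Finset.card_filter, Fintype.sum_sum_type]
    have h1 : ∀ i : ι, β' (Sum.inl i) = β (eq i) := fun i => rfl
    have h2 : ∀ i : ι, β' (Sum.inr i) = β (eq i) := fun i => rfl
    simp only [h1, h2]
    have h3 : (∑ i : ι, if β (eq i) = j then 1 else 0) = a' := by
      rw [← hβ j, Finset.card_filter]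
      exact Equiv.sum_comp eq (fun i' => if β i' = j then 1 else 0)
    rw [h3]; ring
  refine ⟨fun j => Submodule.span F (b '' {s | β' s = j}), hfr', hind, hsup, ?_, ?_, σ, ?_⟩
  · intro j u hu hu0
    have hex : ∃ v, B u v ≠ 0 := by
      by_contra hcon
      push_neg at hcon
      exact hu0 (hnd u hcon)
    obtain ⟨v, hv⟩ := hex
    have hvtop : v ∈ Submodule.span F (b '' {s | β' s = j}) ⊔
        Submodule.span F (b '' {s | β' s ≠ j}) := by
      rw [← Submodule.span_union, ← Set.image_union]
      have : {s | β' s = j} ∪ {s | β' s ≠ j} = Set.univ := by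
        ext s; simp only [Set.mem_union, Set.mem_ofPred_eq, Set.mem_univ, iff_true]; exact em _
      rw [this, Set.image_univ, b.span_eq]
      trivial
    rw [Submodule.mem_sup] at hvtop
    obtain ⟨v₁, hv₁, v₂, hv₂, rfl⟩ := hvtop
    refine ⟨v₁, hv₁, ?_⟩
    have h0 : B u v₂ = 0 := by
      refine span_isotropic B _ _ ?_ u hu v₂ hv₂
      rintro _ ⟨s, hs, rfl⟩ _ ⟨s', hs', rfl⟩
      rw [Set.mem_ofPred_eq] at hs hs'
      apply horth
      rw [hs]; exact Ne.symm hs'
    rw [map_add, h0, add_zero] at hv
    exact hv
  · intro j j' hjj' u hu v hv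
    refine span_isotropic B _ _ ?_ u hu v hv
    rintro _ ⟨s, hs, rfl⟩ _ ⟨s', hs', rfl⟩
    rw [Set.mem_ofPred_eq] at hs hs'
    apply horth
    rw [hs, hs']; exact hjj'
  · intro j
    apply Submodule.eq_of_le_of_finrank_eq (hDle j)
    rw [hfr' (σ j), ← hfr' j]
    exact (Submodule.equivMapOfInjective x hxinj _).finrank_eq.symm

end Cfsg.Agent.Helper8.PlaneDecomp
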