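import Mathlib

set_option autoImplicit false
set_option linter.unusedSectionVars false

/-!
helper8: tetrads.  A four-element set `S` is a tetrad of a permutation group `H` when the Klein
four-group acting regularly on `S` and trivially elsewhere lies in `H`.  Two tetrads meeting in
one or three points produce a three-cycle.
-/

namespace Cfsg.Agent.Helper8.Tt

open Equiv Equiv.Perm
open scoped Pointwise

variable {α : Type*} [Fintype α] [DecidableEq α]

theorem conj_swap (g : Perm α) (a b : α) : g * swap a b * g⁻¹ = swap (g a) (g b) :=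
  (swap_apply_apply g a b).symm

theorem conj_dt (g : Perm α) (a b c d : α) :
    g * (swap a b * swap c d) * g⁻¹ = swap (g a) (g b) * swap (g c) (g d) := by
  rw [← conj_swap, ← conj_swap]
  group

/-- `S` is a tetrad of `H`. -/
def Tet (H : Subgroup (Perm α)) (S : Finset α) : Prop :=
  S.card = 4 ∧ ∀ a b c d : α, ({a, b, c, d} : Finset α) = S → swap a b * swap c d ∈ H

theorem smul_four (g : Perm α) (a b c d : α) :
    g • ({a, b, c, d} : Finset α) = {g a, g b, g c, g d} := by
  simp [Finset.smul_finset_insert, Finset.smul_finset_singleton]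

theorem Tet.smul {H : Subgroup (Perm α)} {S : Finset α} (hS : Tet H S) {h : Perm α}
    (hh : h ∈ H) : Tet H (h • S) := by
  refine ⟨by rw [Finset.card_smul_finset]; exact hS.1, ?_⟩
  intro a b c d habcd
  have h1 : ({h⁻¹ a, h⁻¹ b, h⁻¹ c, h⁻¹ d} : Finset α) = S := by
    rw [← smul_four, habcd, inv_smul_smul]
  have h2 := hS.2 _ _ _ _ h1
  have h3 := H.mul_mem (H.mul_mem hh h2) (H.inv_mem hh)
  rw [conj_dt] at h3
  simpa using h3

theorem Tet.mono {H H' : Subgroup (Perm α)} {S : Finset α} (hS : Tet H S) (hle : H ≤ H') :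
    Tet H' S :=
  ⟨hS.1, fun a b c d h => hle (hS.2 a b c d h)⟩

/-- naming the points of a four-element set, starting from two given ones -/
theorem exists_eq_of_mem {S : Finset α} (hS : S.card = 4) {x y : α} (hx : x ∈ S) (hy : y ∈ S)
    (hxy : x ≠ y) :
    ∃ c d : α, c ≠ d ∧ x ≠ c ∧ x ≠ d ∧ y ≠ c ∧ y ≠ d ∧ S = {x, y, c, d} := by
  have h1 : ((S.erase x).erase y).card = 2 := by
    rw [Finset.card_erase_of_mem, Finset.card_erase_of_mem hx, hS]
    exact Finset.mem_erase.2 ⟨hxy.symm, hy⟩
  obtain ⟨c, d, hcd, h2⟩ := Finset.card_eq_two.1 h1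
  have hc : c ∈ (S.erase x).erase y := by rw [h2]; simp
  have hd : d ∈ (S.erase x).erase y := by rw [h2]; simp
  simp only [Finset.mem_erase] at hc hd
  refine ⟨c, d, hcd, fun h => hc.2.1 h.symm, fun h => hd.2.1 h.symm, fun h => hc.1 h.symm,
    fun h => hd.1 h.symm, ?_⟩
  ext z
  by_cases hzx : z = x
  · subst hzx; simp [hx]
  by_cases hzy : z = y
  · subst hzy; simp [hy]
  have : z ∈ (S.erase x).erase y ↔ z ∈ ({c, d} : Finset α) := by rw [h2]
  simp only [Finset.mem_erase, Finset.mem_insert, Finset.mem_singleton] at this ⊢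
  tauto

theorem exists_eq_of_mem_one {S : Finset α} (hS : S.card = 4) {x : α} (hx : x ∈ S) :
    ∃ y c d : α, x ≠ y ∧ c ≠ d ∧ x ≠ c ∧ x ≠ d ∧ y ≠ c ∧ y ≠ d ∧ S = {x, y, c, d} := by
  have h1 : (S.erase x).card = 3 := by rw [Finset.card_erase_of_mem hx, hS]
  have : (S.erase x).Nonempty := by rw [← Finset.card_pos]; omega
  obtain ⟨y, hy⟩ := this
  have hy' := Finset.mem_erase.1 hy
  obtain ⟨c, d, h⟩ := exists_eq_of_mem hS hx hy'.2 (fun h => hy'.1 h.symm)
  exact ⟨y, c, d, fun h => hy'.1 h.symm, h⟩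

/-- the element of the four-group of a tetrad interchanging two given points -/
theorem Tet.exists_dt {H : Subgroup (Perm α)} {S : Finset α} (hS : Tet H S) {x y : α}
    (hx : x ∈ S) (hy : y ∈ S) (hxy : x ≠ y) :
    ∃ c d : α, c ≠ d ∧ x ≠ c ∧ x ≠ d ∧ y ≠ c ∧ y ≠ d ∧ S = {x, y, c, d} ∧
      swap x y * swap c d ∈ H := by
  obtain ⟨c, d, h1, h2, h3, h4, h5, h6⟩ := exists_eq_of_mem hS.1 hx hy hxy
  exact ⟨c, d, h1, h2, h3, h4, h5, h6, hS.2 _ _ _ _ h6.symm⟩

theorem dt_apply_left {x y c d : α} (h1 : x ≠ c) (h2 : x ≠ d) :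
    (swap x y * swap c d) x = y := by
  rw [Perm.mul_apply, swap_apply_of_ne_of_ne h1 h2, swap_apply_left]

theorem dt_apply_of_notMem {x y c d z : α} (hz : z ∉ ({x, y, c, d} : Finset α)) :
    (swap x y * swap c d) z = z := by
  simp only [Finset.mem_insert, Finset.mem_singleton, not_or] at hz
  rw [Perm.mul_apply, swap_apply_of_ne_of_ne hz.2.2.1 hz.2.2.2, swap_apply_of_ne_of_ne hz.1 hz.2.1]

/-- transitivity of the four-group on its tetrad -/
theorem Tet.exists_map {H : Subgroup (Perm α)} {S : Finset α} (hS : Tet H S) {x y : α}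
    (hx : x ∈ S) (hy : y ∈ S) :
    ∃ v ∈ H, v x = y ∧ ∀ z, z ∉ S → v z = z := by
  by_cases hxy : x = y
  · exact ⟨1, H.one_mem, by simp [hxy], fun z _ => rfl⟩
  obtain ⟨c, d, h1, h2, h3, h4, h5, h6, h7⟩ := hS.exists_dt hx hy hxy
  refine ⟨_, h7, dt_apply_left h2 h3, ?_⟩
  intro z hz
  rw [h6] at hz
  exact dt_apply_of_notMem hz

theorem swap_comm_of_ne {a b c d : α} (h1 : a ≠ c) (h2 : a ≠ d) (h3 : b ≠ c) (h4 : b ≠ d) :
    swap a b * swap c d = swap c d * swap a b := by
  have : Perm.Disjoint (swap a b) (swap c d) := by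
    intro z
    by_cases hz : z = a
    · right; subst hz; exact swap_apply_of_ne_of_ne h1 h2
    by_cases hz' : z = b
    · right; subst hz'; exact swap_apply_of_ne_of_ne h3 h4
    · left; exact swap_apply_of_ne_of_ne hz hz'
  exact this.commute.eq

/-- two tetrads meeting in exactly three points give a three-cycle -/
theorem three_of_inter_three {H : Subgroup (Perm α)} {S S' : Finset α} (hS : Tet H S)
    (hS' : Tet H S') (h : (S ∩ S').card = 3) : ∃ c ∈ H, c.IsThreeCycle := by
  obtain ⟨x, y, z, hxy, hxz, hyz, hI⟩ := Finset.card_eq_three.1 h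
  have hx : x ∈ S ∩ S' := by rw [hI]; simp
  have hy : y ∈ S ∩ S' := by rw [hI]; simp
  have hz : z ∈ S ∩ S' := by rw [hI]; simp
  rw [Finset.mem_inter] at hx hy hz
  obtain ⟨c, d, hcd, hxc, hxd, hyc, hyd, hSe, hmem⟩ := hS.exists_dt hx.1 hy.1 hxy
  obtain ⟨c', d', hcd', hxc', hxd', hyc', hyd', hSe', hmem'⟩ := hS'.exists_dt hx.2 hy.2 hxy
  -- `z` is one of `c, d` and one of `c', d'`
  have hz1 : z = c ∨ z = d := by
    have := hz.1; rw [hSe] at this
    simp only [Finset.mem_insert, Finset.mem_singleton] at this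
    rcases this with h | h | h | h
    · exact absurd h.symm hxz
    · exact absurd h.symm hyz
    · exact Or.inl h
    · exact Or.inr h
  have hz2 : z = c' ∨ z = d' := by
    have := hz.2; rw [hSe'] at this
    simp only [Finset.mem_insert, Finset.mem_singleton] at this
    rcases this with h | h | h | h
    · exact absurd h.symm hxz
    · exact absurd h.symm hyz
    · exact Or.inl h
    · exact Or.inr h
  -- wlog `z = c` and `z = c'` (swap names)
  obtain ⟨a, hza, hxa, hya, hSa, hma⟩ :
      ∃ a, z ≠ a ∧ x ≠ a ∧ y ≠ a ∧ S = {x, y, z, a} ∧ swap x y * swap z a ∈ H := by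
    rcases hz1 with h | h
    · subst h; exact ⟨d, hcd, hxd, hyd, hSe, hmem⟩
    · subst h
      refine ⟨c, hcd.symm, hxc, hyc, ?_, ?_⟩
      · rw [hSe, Finset.pair_comm c z]
      · rw [swap_comm z c]; exact hmem
  obtain ⟨b, hzb, hSb, hmb⟩ : ∃ b, z ≠ b ∧ S' = {x, y, z, b} ∧ swap x y * swap z b ∈ H := by
    rcases hz2 with h | h
    · subst h; exact ⟨d', hcd', hSe', hmem'⟩
    · subst h
      refine ⟨c', hcd'.symm, ?_, ?_⟩
      · rw [hSe', Finset.pair_comm c' z]
      · rw [swap_comm z c']; exact hmem'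
  have hab : a ≠ b := by
    intro hab
    subst hab
    have : S ∩ S' = S := by rw [hSa, hSb]; simp
    rw [this, hS.1] at h
    omega
  refine ⟨(swap x y * swap z a) * (swap x y * swap z b), H.mul_mem hma hmb, ?_⟩
  have e : (swap x y * swap z a) * (swap x y * swap z b) = swap z a * swap z b := by
    rw [swap_comm_of_ne hxz hxa hyz hya]
    have : swap x y * swap x y = 1 := swap_mul_self x y
    calc swap z a * swap x y * (swap x y * swap z b)
        = swap z a * (swap x y * swap x y) * swap z b := by group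
      _ = swap z a * swap z b := by rw [this, mul_one]
  rw [e]
  exact isThreeCycle_swap_mul_swap_same hza hzb hab

/-- two tetrads meeting in exactly one point give a three-cycle -/
theorem three_of_inter_one {H : Subgroup (Perm α)} {S S' : Finset α} (hS : Tet H S)
    (hS' : Tet H S') (h : (S ∩ S').card = 1) : ∃ c ∈ H, c.IsThreeCycle := by
  obtain ⟨x, hI⟩ := Finset.card_eq_one.1 h
  have hx : x ∈ S ∩ S' := by rw [hI]; simp
  rw [Finset.mem_inter] at hx
  obtain ⟨y, c, d, hxy, hcd, hxc, hxd, hyc, hyd, hSe⟩ := exists_eq_of_mem_one hS.1 hx.1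
  obtain ⟨y', c', d', hxy', hcd', hxc', hxd', hyc', hyd', hSe'⟩ := exists_eq_of_mem_one hS'.1 hx.2
  have hmem := hS.2 _ _ _ _ hSe.symm
  have hmem' := hS'.2 _ _ _ _ hSe'.symm
  -- points of `S` other than `x` are not in `S'`
  have hout : ∀ w, w ∈ S → w ≠ x → w ∉ S' := by
    intro w hw hwx hw'
    have : w ∈ S ∩ S' := Finset.mem_inter.2 ⟨hw, hw'⟩
    rw [hI] at this
    exact hwx (Finset.mem_singleton.1 this)
  have hyS : y ∈ S := by rw [hSe]; simp
  have hcS : c ∈ S := by rw [hSe]; simp
  have hdS : d ∈ S := by rw [hSe]; simp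
  have hy' := hout y hyS (Ne.symm hxy)
  have hc' := hout c hcS (Ne.symm hxc)
  have hd' := hout d hdS (Ne.symm hxd)
  rw [hSe'] at hy' hc' hd'
  have e1 : (swap x y' * swap c' d') x = y' := dt_apply_left hxc' hxd'
  have e2 : (swap x y' * swap c' d') y = y := dt_apply_of_notMem hy'
  have e3 : (swap x y' * swap c' d') c = c := dt_apply_of_notMem hc'
  have e4 : (swap x y' * swap c' d') d = d := dt_apply_of_notMem hd'
  have hconj := conj_dt (swap x y' * swap c' d') x y c d
  rw [e1, e2, e3, e4] at hconj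
  have hmem2 : swap y' y * swap c d ∈ H := by
    rw [← hconj]
    exact H.mul_mem (H.mul_mem hmem' hmem) (H.inv_mem hmem')
  simp only [Finset.mem_insert, Finset.mem_singleton, not_or] at hy' hc' hd'
  refine ⟨(swap x y * swap c d) * (swap y' y * swap c d), H.mul_mem hmem hmem2, ?_⟩
  have e : (swap x y * swap c d) * (swap y' y * swap c d) = swap y x * swap y y' := by
    rw [swap_comm_of_ne (a := y') (b := y) (c := c) (d := d) (Ne.symm hc'.2.1) (Ne.symm hd'.2.1)
      hyc hyd]
    have : swap c d * swap c d = 1 := swap_mul_self c d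
    calc swap x y * swap c d * (swap c d * swap y' y)
        = swap x y * (swap c d * swap c d) * swap y' y := by group
      _ = swap y x * swap y y' := by rw [this, mul_one, swap_comm x y, swap_comm y' y]
  rw [e]
  exact isThreeCycle_swap_mul_swap_same (Ne.symm hxy) hy'.2.1 hxy'

theorem ne_of_card_four {a b c d : α} (h : ({a, b, c, d} : Finset α).card = 4) :
    a ≠ b ∧ a ≠ c ∧ a ≠ d ∧ b ≠ c ∧ b ≠ d ∧ c ≠ d := by
  have key : ∀ (x y z : α), ({x, y, z} : Finset α).card ≤ 3 := fun x y z => Finset.card_le_three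
  refine ⟨?_, ?_, ?_, ?_, ?_, ?_⟩ <;> rintro rfl
  · have : ({a, a, c, d} : Finset α) = {a, c, d} := by simp
    rw [this] at h; have := key a c d; omega
  · have : ({a, b, a, d} : Finset α) = {a, b, d} := by
      ext w; simp only [Finset.mem_insert, Finset.mem_singleton]
      constructor
      · rintro (h | h | h | h) <;> simp [h]
      · rintro (h | h | h) <;> simp [h]
    rw [this] at h; have := key a b d; omega
  · have : ({a, b, c, a} : Finset α) = {a, b, c} := by
      ext w; simp only [Finset.mem_insert, Finset.mem_singleton]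
      constructor
      · rintro (h | h | h | h) <;> simp [h]
      · rintro (h | h | h) <;> simp [h]
    rw [this] at h; have := key a b c; omega
  · have : ({a, b, b, d} : Finset α) = {a, b, d} := by simp
    rw [this] at h; have := key a b d; omega
  · have : ({a, b, c, b} : Finset α) = {a, b, c} := by
      ext w; simp only [Finset.mem_insert, Finset.mem_singleton]
      constructor
      · rintro (h | h | h | h) <;> simp [h]
      · rintro (h | h | h) <;> simp [h]
    rw [this] at h; have := key a b c; omega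
  · have : ({a, b, c, c} : Finset α) = {a, b, c} := by simp
    rw [this] at h; have := key a b c; omega

theorem dt_variants (H : Subgroup (Perm α)) {a b c d : α} (hac : a ≠ c) (had : a ≠ d)
    (hbc : b ≠ c) (hbd : b ≠ d) (h : swap a b * swap c d ∈ H) :
    swap b a * swap c d ∈ H ∧ swap a b * swap d c ∈ H ∧ swap b a * swap d c ∈ H ∧
    swap c d * swap a b ∈ H ∧ swap d c * swap a b ∈ H ∧ swap c d * swap b a ∈ H ∧
    swap d c * swap b a ∈ H := by
  have e := swap_comm_of_ne hac had hbc hbd
  refine ⟨?_, ?_, ?_, ?_, ?_, ?_, ?_⟩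
  · rw [swap_comm b a]; exact h
  · rw [swap_comm d c]; exact h
  · rw [swap_comm b a, swap_comm d c]; exact h
  · rw [← e]; exact h
  · rw [swap_comm d c, ← e]; exact h
  · rw [swap_comm b a, ← e]; exact h
  · rw [swap_comm b a, swap_comm d c, ← e]; exact h

set_option maxHeartbeats 1600000 in
theorem Tet.of_three {H : Subgroup (Perm α)} {p q r s : α}
    (h4 : ({p, q, r, s} : Finset α).card = 4)
    (h1 : swap p q * swap r s ∈ H) (h2 : swap p r * swap q s ∈ H)
    (h3 : swap p s * swap q r ∈ H) : Tet H {p, q, r, s} := by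
  refine ⟨h4, ?_⟩
  intro a b c d h
  have hne := ne_of_card_four (h ▸ h4 : ({a, b, c, d} : Finset α).card = 4)
  obtain ⟨n1, n2, n3, n4, n5, n6⟩ := ne_of_card_four h4
  have v1 := dt_variants H n2 n3 n4 n5 h1
  have v2 := dt_variants H n1 n3 n4.symm n6 h2
  have v3 := dt_variants H n1 n2 n5.symm n6.symm h3
  have ha : a ∈ ({p, q, r, s} : Finset α) := by rw [← h]; simp
  have hb : b ∈ ({p, q, r, s} : Finset α) := by rw [← h]; simp
  have hc : c ∈ ({p, q, r, s} : Finset α) := by rw [← h]; simp
  have hd : d ∈ ({p, q, r, s} : Finset α) := by rw [← h]; simp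
  simp only [Finset.mem_insert, Finset.mem_singleton] at ha hb hc hd
  clear h
  rcases ha with rfl | rfl | rfl | rfl <;> rcases hb with rfl | rfl | rfl | rfl <;>
    rcases hc with rfl | rfl | rfl | rfl <;> rcases hd with rfl | rfl | rfl | rfl <;>
    first
    | exact absurd rfl hne.1 | exact absurd rfl hne.2.1 | exact absurd rfl hne.2.2.1
    | exact absurd rfl hne.2.2.2.1 | exact absurd rfl hne.2.2.2.2.1
    | exact absurd rfl hne.2.2.2.2.2
    | exact h1 | exact v1.1 | exact v1.2.1 | exact v1.2.2.1 | exact v1.2.2.2.1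
    | exact v1.2.2.2.2.1 | exact v1.2.2.2.2.2.1 | exact v1.2.2.2.2.2.2
    | exact h2 | exact v2.1 | exact v2.2.1 | exact v2.2.2.1 | exact v2.2.2.2.1
    | exact v2.2.2.2.2.1 | exact v2.2.2.2.2.2.1 | exact v2.2.2.2.2.2.2
    | exact h3 | exact v3.1 | exact v3.2.1 | exact v3.2.2.1 | exact v3.2.2.2.1
    | exact v3.2.2.2.2.1 | exact v3.2.2.2.2.2.1 | exact v3.2.2.2.2.2.2

end Cfsg.Agent.Helper8.Tt
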