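import Mathlib
import Cfsg.Agent.Helper8.JdD
import Cfsg.Agent.Helper8.TtA

set_option autoImplicit false
set_option linter.unusedSectionVars false

/-!
helper8: pairings.  A pairing of a finite set is an injective family of `m` ordered pairs covering
all but at most one point; a Sylow `2`-subgroup of the symmetric group contains the swaps of a
pairing with `m = card / 2`, and these are all of its swaps.
-/

namespace Cfsg.Agent.Helper8.Pn

open Equiv Equiv.Perm

variable {α : Type*} [Fintype α] [DecidableEq α] {m : ℕ}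

/-- a pairing: an injective family of `m` pairs covering all but at most one point -/
structure Pairing (α : Type*) (m : ℕ) where
  c : Fin m → Bool → α
  inj : ∀ i t j s, c i t = c j s → i = j ∧ t = s
  cover : ∀ x y, (∀ i t, c i t ≠ x) → (∀ i t, c i t ≠ y) → x = y

namespace Pairing

variable (p : Pairing α m)

/-- the swaps of a pairing -/
def sw (i : Fin m) : Perm α := swap (p.c i false) (p.c i true)

theorem c_ne (i : Fin m) (t : Bool) : p.c i t ≠ p.c i (!t) := by
  intro h
  have := (p.inj _ _ _ _ h).2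
  cases t <;> simp at this

theorem sw_eq (i : Fin m) (t : Bool) : p.sw i = swap (p.c i t) (p.c i (!t)) := by
  cases t
  · rfl
  · exact swap_comm _ _

theorem sw_mul_self (i : Fin m) : p.sw i * p.sw i = 1 := swap_mul_self _ _

theorem sw_inv (i : Fin m) : (p.sw i)⁻¹ = p.sw i := swap_inv _ _

theorem sw_apply (i : Fin m) (t : Bool) : p.sw i (p.c i t) = p.c i (!t) := by
  rw [p.sw_eq i t, swap_apply_left]

theorem sw_apply_of_ne (i : Fin m) (x : α) (h : ∀ t, x ≠ p.c i t) : p.sw i x = x :=
  swap_apply_of_ne_of_ne (h false) (h true)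

theorem sw_isSwap (i : Fin m) : (p.sw i).IsSwap := ⟨_, _, p.c_ne i false, rfl⟩

theorem c_ne_of_ne {i j : Fin m} (h : i ≠ j) (t s : Bool) : p.c i t ≠ p.c j s :=
  fun h' => h (p.inj _ _ _ _ h').1

theorem sw_comm (i j : Fin m) : p.sw i * p.sw j = p.sw j * p.sw i := by
  by_cases h : i = j
  · rw [h]
  · exact Tt.swap_comm_of_ne (p.c_ne_of_ne h _ _) (p.c_ne_of_ne h _ _) (p.c_ne_of_ne h _ _)
      (p.c_ne_of_ne h _ _)

theorem sw_injective : Function.Injective p.sw := by
  intro i j h
  by_contra hij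
  have h1 := p.sw_apply i false
  rw [h, p.sw_apply_of_ne j _ (fun t => p.c_ne_of_ne hij _ _)] at h1
  exact p.c_ne i false h1

/-- conjugating a pairing -/
def conj (g : Perm α) : Pairing α m where
  c i t := g (p.c i t)
  inj i t j s h := p.inj i t j s (g.injective h)
  cover x y hx hy := by
    have := p.cover (g⁻¹ x) (g⁻¹ y) (fun i t h => hx i t (by rw [h]; simp))
      (fun i t h => hy i t (by rw [h]; simp))
    simpa using this

theorem conj_sw (g : Perm α) (i : Fin m) : (p.conj g).sw i = g * p.sw i * g⁻¹ :=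
  (Tt.conj_swap g _ _).symm

/-- the standard pairing `{2i, 2i+1}` -/
def std {n : ℕ} (e : α ≃ Fin n) : Pairing α (n / 2) where
  c i t := e.symm ⟨2 * i.val + t.toNat, by have := i.2; cases t <;> simp <;> omega⟩
  inj i t j s h := by
    have h1 := congrArg Fin.val (e.symm.injective h)
    simp only at h1
    cases t <;> cases s <;> simp at h1 <;> first
      | exact ⟨Fin.ext (by omega), rfl⟩
      | (exfalso; omega)
  cover x y hx hy := by
    have key : ∀ z : α, (∀ (i : Fin (n / 2)) (t : Bool),
        e.symm ⟨2 * i.val + t.toNat, by have := i.2; cases t <;> simp <;> omega⟩ ≠ z) →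
        2 * (n / 2) ≤ (e z).val := by
      intro z hz
      by_contra hlt
      push Not at hlt
      apply hz ⟨(e z).val / 2, by omega⟩ (decide ((e z).val % 2 = 1))
      rw [Equiv.symm_apply_eq]
      apply Fin.ext
      rcases Nat.mod_two_eq_zero_or_one (e z).val with h | h
      · simp [h]; omega
      · simp [h]; omega
    have h1 := key x hx
    have h2 := key y hy
    apply e.injective
    apply Fin.ext
    have := (e x).2
    have := (e y).2
    omega

end Pairing

theorem not_isThreeCycle_of_isPGroup {H : Subgroup (Perm α)} (hH : IsPGroup 2 H) {u : Perm α}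
    (hu : u ∈ H) (h3 : u.IsThreeCycle) : False := by
  obtain ⟨k, hk⟩ := hH ⟨u, hu⟩
  have h1 : u ^ 2 ^ k = 1 := by
    have := congrArg Subtype.val hk
    simpa using this
  have h2 : orderOf u ∣ 2 ^ k := orderOf_dvd_of_pow_eq_one h1
  rw [h3.orderOf] at h2
  have := Nat.Prime.dvd_of_dvd_pow Nat.prime_three h2
  omega

theorem not_isPGroup_of_swaps {H : Subgroup (Perm α)} (hH : IsPGroup 2 H) {x y z : α}
    (hxy : x ≠ y) (hxz : x ≠ z) (hyz : y ≠ z) (h1 : swap x y ∈ H) (h2 : swap x z ∈ H) : False :=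
  not_isThreeCycle_of_isPGroup hH (H.mul_mem h1 h2) (isThreeCycle_swap_mul_swap_same hxy hxz hyz)

namespace Pairing

variable (p : Pairing α m)

theorem exists_sw_eq_aux {H : Subgroup (Perm α)} (hH : IsPGroup 2 H) (hp : ∀ i, p.sw i ∈ H)
    {i : Fin m} {t : Bool} {y : α} (hxy : p.c i t ≠ y) (h : swap (p.c i t) y ∈ H) :
    p.sw i = swap (p.c i t) y := by
  by_cases hy : y = p.c i (!t)
  · rw [p.sw_eq i t, hy]
  · exfalso
    apply not_isPGroup_of_swaps hH hxy (p.c_ne i t) hy h
    rw [← p.sw_eq]
    exact hp i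

/-- every swap of a `2`-group containing the swaps of a pairing is one of them -/
theorem exists_sw_eq {H : Subgroup (Perm α)} (hH : IsPGroup 2 H) (hp : ∀ i, p.sw i ∈ H)
    {x y : α} (hxy : x ≠ y) (h : swap x y ∈ H) : ∃ i, p.sw i = swap x y := by
  by_cases hx : ∃ i t, p.c i t = x
  · obtain ⟨i, t, rfl⟩ := hx
    exact ⟨i, p.exists_sw_eq_aux hH hp hxy h⟩
  by_cases hy : ∃ i t, p.c i t = y
  · obtain ⟨i, t, rfl⟩ := hy
    rw [swap_comm] at h ⊢
    exact ⟨i, p.exists_sw_eq_aux hH hp hxy.symm h⟩
  push Not at hx hy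
  exact absurd (p.cover x y hx hy) hxy

end Pairing

/-- a Sylow `2`-subgroup of the symmetric group contains the swaps of a pairing -/
theorem exists_pairing_of_sylow (S : Sylow 2 (Perm α)) :
    ∃ p : Pairing α (Fintype.card α / 2), ∀ i, p.sw i ∈ (S : Subgroup (Perm α)) := by
  let e := Fintype.equivFin α
  let p₀ := Pairing.std e
  have hpg : IsPGroup 2 ↥(Subgroup.closure (Set.range p₀.sw)) := by
    apply Jd.isPGroup_closure_comm
    · rintro x ⟨i, rfl⟩ y ⟨j, rfl⟩
      exact p₀.sw_comm i j
    · rintro x ⟨i, rfl⟩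
      rw [pow_two]
      exact p₀.sw_mul_self i
  obtain ⟨Q, hQ⟩ := hpg.exists_le_sylow
  obtain ⟨g, hg⟩ := MulAction.exists_smul_eq (Perm α) Q S
  refine ⟨p₀.conj g, fun i => ?_⟩
  rw [Pairing.conj_sw, ← hg, Sylow.coe_subgroup_smul]
  exact ⟨_, hQ (Subgroup.subset_closure ⟨i, rfl⟩), rfl⟩

end Cfsg.Agent.Helper8.Pn
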