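import Mathlib
import Cfsg.Agent.Helper8.PnA

set_option autoImplicit false
set_option linter.unusedSectionVars false

/-!
helper8: permutations commuting with all the swaps of a pairing: they have square one, and
there are at most `2 ^ m` of them.
-/

namespace Cfsg.Agent.Helper8.Pn

open Equiv Equiv.Perm

variable {α : Type*} [Fintype α] [DecidableEq α] {m : ℕ}

namespace Pairing

variable (p : Pairing α m)

/-- `k` commutes with all the swaps of the pairing -/
def Cent (k : Perm α) : Prop := ∀ i, k * p.sw i = p.sw i * k

variable {p}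

theorem Cent.inv {k : Perm α} (hk : p.Cent k) : p.Cent k⁻¹ := by
  intro i
  have := hk i
  calc k⁻¹ * p.sw i = k⁻¹ * (p.sw i * k) * k⁻¹ := by group
    _ = k⁻¹ * (k * p.sw i) * k⁻¹ := by rw [this]
    _ = p.sw i * k⁻¹ := by group

theorem Cent.apply_sw {k : Perm α} (hk : p.Cent k) (i : Fin m) (x : α) :
    k (p.sw i x) = p.sw i (k x) := by
  have := congrArg (fun f : Perm α => f x) (hk i)
  simpa using this

theorem Cent.apply_c {k : Perm α} (hk : p.Cent k) (i : Fin m) (t : Bool) :
    k (p.c i t) = p.c i t ∨ k (p.c i t) = p.c i (!t) := by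
  by_contra h
  push Not at h
  have h1 := hk.apply_sw i (p.c i t)
  rw [p.sw_apply, p.sw_apply_of_ne i (k (p.c i t))] at h1
  · exact p.c_ne i t (k.injective h1).symm
  · intro s
    by_cases hs : s = t
    · rw [hs]; exact h.1
    · have : s = !t := by cases s <;> cases t <;> simp at hs ⊢
      rw [this]; exact h.2

theorem Cent.apply_not_of_fix {k : Perm α} (hk : p.Cent k) (i : Fin m) (t : Bool)
    (h : k (p.c i t) = p.c i t) : k (p.c i (!t)) = p.c i (!t) := by
  rw [← p.sw_apply i t, hk.apply_sw, h]

theorem Cent.apply_not_of_move {k : Perm α} (hk : p.Cent k) (i : Fin m) (t : Bool)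
    (h : k (p.c i t) = p.c i (!t)) : k (p.c i (!t)) = p.c i t := by
  rw [← p.sw_apply i t, hk.apply_sw, h, p.sw_apply, Bool.not_not]

theorem Cent.apply_of_not_covered {k : Perm α} (hk : p.Cent k) (x : α)
    (hx : ∀ i t, p.c i t ≠ x) : k x = x := by
  apply p.cover _ _ _ hx
  intro i t h
  have h1 : k⁻¹ (p.c i t) = x := by rw [h]; simp
  rcases hk.inv.apply_c i t with h2 | h2
  · exact hx i t (by rw [← h2, h1])
  · exact hx i (!t) (by rw [← h2, h1])

theorem Cent.mul_self {k : Perm α} (hk : p.Cent k) : k * k = 1 := by
  ext x
  rw [Perm.mul_apply, Perm.one_apply]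
  by_cases hx : ∃ i t, p.c i t = x
  · obtain ⟨i, t, rfl⟩ := hx
    rcases hk.apply_c i t with h | h
    · rw [h, h]
    · rw [h, hk.apply_not_of_move i t h]
  · push Not at hx
    rw [hk.apply_of_not_covered x hx, hk.apply_of_not_covered x hx]

/-- an element commuting with the swaps is determined by which first points it fixes -/
theorem Cent.eq_of_fix_iff {k k' : Perm α} (hk : p.Cent k) (hk' : p.Cent k')
    (h : ∀ i, k (p.c i false) = p.c i false ↔ k' (p.c i false) = p.c i false) : k = k' := by
  have key : ∀ i t, k (p.c i t) = k' (p.c i t) := by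
    intro i t
    by_cases h0 : k (p.c i false) = p.c i false
    · have h0' := (h i).1 h0
      cases t
      · rw [h0, h0']
      · have := hk.apply_not_of_fix i false h0
        have := hk'.apply_not_of_fix i false h0'
        simp_all
    · have h0' : ¬ k' (p.c i false) = p.c i false := fun h' => h0 ((h i).2 h')
      have h1 := (hk.apply_c i false).resolve_left h0
      have h1' := (hk'.apply_c i false).resolve_left h0'
      cases t
      · rw [h1, h1']
      · have := hk.apply_not_of_move i false h1
        have := hk'.apply_not_of_move i false h1'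
        simp_all
  ext x
  by_cases hx : ∃ i t, p.c i t = x
  · obtain ⟨i, t, rfl⟩ := hx
    exact key i t
  · push Not at hx
    rw [hk.apply_of_not_covered x hx, hk'.apply_of_not_covered x hx]

variable (p)

/-- at most `2 ^ m` elements commute with all the swaps -/
theorem card_le_of_cent {X : Type*} (f : X → Perm α) (hf : Function.Injective f)
    (hc : ∀ x, p.Cent (f x)) : Nat.card X ≤ 2 ^ m := by
  classical
  let F : X → (Fin m → Bool) := fun x i => decide (f x (p.c i false) = p.c i false)
  have hF : Function.Injective F := by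
    intro x y hxy
    apply hf
    apply Cent.eq_of_fix_iff (hc x) (hc y)
    intro i
    have := congrFun hxy i
    simp only [F, decide_eq_decide] at this
    exact this
  have h1 := Nat.card_le_card_of_injective F hF
  have h2 : Nat.card (Fin m → Bool) = 2 ^ m := by
    rw [Nat.card_eq_fintype_card, Fintype.card_fun, Fintype.card_bool, Fintype.card_fin]
  rwa [h2] at h1

end Pairing

end Cfsg.Agent.Helper8.Pn
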