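import Mathlib
import Cfsg.Agent.Helper8.PnB

set_option autoImplicit false
set_option linter.unusedSectionVars false

/-!
helper8: the `2`-part of `n !`.
-/

namespace Cfsg.Agent.Helper8.Pn

open Nat

theorem factorization_factorial_two (n : ℕ) :
    (n !).factorization 2 = n / 2 + ((n / 2)!).factorization 2 := by
  have : Fact (Nat.Prime 2) := ⟨Nat.prime_two⟩
  rw [Nat.factorization_def _ Nat.prime_two, Nat.factorization_def _ Nat.prime_two]
  have h1 : n = 2 * (n / 2) + n % 2 := (Nat.div_add_mod n 2).symm
  have h2 : n % 2 < 2 := Nat.mod_lt _ (by norm_num)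
  conv_lhs => rw [h1]
  rw [padicValNat_factorial_mul_add (n / 2) h2, padicValNat_factorial_mul, add_comm]

end Cfsg.Agent.Helper8.Pn
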