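import Mathlib
import Cfsg.Agent.Helper8.PnC

set_option autoImplicit false
set_option linter.unusedSectionVars false

/-!
helper8: the Sylow `2`-subgroups of a finite symmetric group are self-normalizing.
-/

namespace Cfsg.Agent.Helper8.Pn

open Equiv Equiv.Perm

section action

variable {α : Type*} [DecidableEq α]

/-- the swaps of a subgroup -/
def SwSet (S : Subgroup (Perm α)) : Type _ := {τ : Perm α // τ ∈ S ∧ τ.IsSwap}

theorem isSwap_conj (g τ : Perm α) (h : τ.IsSwap) : (g * τ * g⁻¹).IsSwap := by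
  obtain ⟨x, y, hxy, rfl⟩ := h
  exact ⟨g x, g y, fun h => hxy (g.injective h), (swap_apply_apply g x y).symm⟩

instance instMulActionSwSet (S : Subgroup (Perm α)) :
    MulAction ↥(Subgroup.normalizer (S : Set (Perm α))) (SwSet S) where
  smul g τ := ⟨(g : Perm α) * τ.1 * (g : Perm α)⁻¹,
    (Subgroup.mem_normalizer_iff.1 g.2 τ.1).1 τ.2.1, isSwap_conj _ _ τ.2.2⟩
  one_smul τ := Subtype.ext (by
    show ((1 : ↥(Subgroup.normalizer (S : Set (Perm α)))) : Perm α) * τ.1 *
      ((1 : ↥(Subgroup.normalizer (S : Set (Perm α)))) : Perm α)⁻¹ = τ.1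
    simp)
  mul_smul g h τ := Subtype.ext (by
    show ((g * h : ↥(Subgroup.normalizer (S : Set (Perm α)))) : Perm α) * τ.1 *
      ((g * h : ↥(Subgroup.normalizer (S : Set (Perm α)))) : Perm α)⁻¹ =
      (g : Perm α) * ((h : Perm α) * τ.1 * (h : Perm α)⁻¹) * (g : Perm α)⁻¹
    simp [mul_assoc])

instance instFiniteSwSet [Finite α] (S : Subgroup (Perm α)) : Finite (SwSet S) :=
  Subtype.finite

/-- constructor -/
def swMk (S : Subgroup (Perm α)) (τ : Perm α) (h1 : τ ∈ S) (h2 : τ.IsSwap) : SwSet S :=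
  ⟨τ, h1, h2⟩

theorem smul_val (S : Subgroup (Perm α)) (g : ↥(Subgroup.normalizer (S : Set (Perm α))))
    (τ : SwSet S) : (g • τ).1 = (g : Perm α) * τ.1 * (g : Perm α)⁻¹ := rfl

end action

universe u

theorem isPGroup_zpowers_of_mul_self {G : Type*} [Group G] {k : G} (hk : k * k = 1) :
    IsPGroup 2 ↥(Subgroup.zpowers k) := by
  rintro ⟨x, hx⟩
  obtain ⟨j, rfl⟩ := Subgroup.mem_zpowers_iff.1 hx
  refine ⟨1, Subtype.ext ?_⟩
  simp only [pow_one, Subgroup.coe_pow, Subgroup.coe_one]
  rw [← zpow_natCast, ← zpow_mul, mul_comm, zpow_mul, zpow_natCast, pow_two, hk, one_zpow]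

/-- the Sylow `2`-subgroups of a finite symmetric group are self-normalizing -/
theorem normalizer_sylow_le : ∀ (n : ℕ) (α : Type u) [Finite α], Nat.card α = n →
    ∀ S : Sylow 2 (Perm α),
      Subgroup.normalizer ((S : Subgroup (Perm α)) : Set (Perm α)) ≤ S := by
  intro n
  induction n using Nat.strong_induction_on with
  | _ n ih =>
  intro α _ hcard S g hg
  classical
  have : Fintype α := Fintype.ofFinite α
  have hfact : Fact (Nat.Prime 2) := ⟨Nat.prime_two⟩
  rcases Nat.eq_zero_or_pos n with hn | hn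
  · have hemp : IsEmpty α := by
      rw [hn] at hcard
      rcases Nat.card_eq_zero.1 hcard with h | h
      · exact h
      · exact absurd ‹Finite α› (not_finite_iff_infinite.2 h)
    have : g = 1 := by
      ext x
      exact isEmptyElim x
    rw [this]
    exact Subgroup.one_mem _
  have hcard' : n = Fintype.card α := by rw [← Nat.card_eq_fintype_card]; exact hcard.symm
  obtain ⟨m, hm, p, hp⟩ : ∃ m, m = Fintype.card α / 2 ∧
      ∃ p : Pairing α m, ∀ i, p.sw i ∈ (S : Subgroup (Perm α)) :=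
    ⟨_, rfl, exists_pairing_of_sylow S⟩
  have hmn : m < n := by omega
  let N := Subgroup.normalizer ((S : Subgroup (Perm α)) : Set (Perm α))
  have hP : Nat.card (SwSet (S : Subgroup (Perm α))) = m := by
    let f : Fin m → (SwSet (S : Subgroup (Perm α))) := fun i => swMk _ (p.sw i) (hp i) (p.sw_isSwap i)
    have hf : Function.Bijective f := by
      constructor
      · intro i j h
        exact p.sw_injective (congrArg Subtype.val h)
      · rintro ⟨τ, hτ, x, y, hxy, rfl⟩
        obtain ⟨i, hi⟩ := p.exists_sw_eq S.2 hp hxy hτ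
        exact ⟨i, Subtype.ext hi⟩
    rw [← Nat.card_eq_of_bijective f hf, Nat.card_fin]
  let φ : ↥N →* Perm (SwSet (S : Subgroup (Perm α))) := MulAction.toPermHom ↥N (SwSet (S : Subgroup (Perm α)))
  have hker : ∀ k : ↥N, φ k = 1 → p.Cent (k : Perm α) := by
    intro k hk i
    have h1 : k • (swMk _ (p.sw i) (hp i) (p.sw_isSwap i)) =
        swMk (S : Subgroup (Perm α)) (p.sw i) (hp i) (p.sw_isSwap i) := by
      have := congrArg (fun f : Perm (SwSet (S : Subgroup (Perm α))) =>
        f (swMk _ (p.sw i) (hp i) (p.sw_isSwap i))) hk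
      simpa [φ, MulAction.toPermHom_apply] using this
    have h2 := congrArg Subtype.val h1
    change (k : Perm α) * p.sw i * (k : Perm α)⁻¹ = p.sw i at h2
    calc (k : Perm α) * p.sw i = ((k : Perm α) * p.sw i * (k : Perm α)⁻¹) * k := by group
      _ = p.sw i * k := by rw [h2]
  let H : Subgroup ↥N := (S : Subgroup (Perm α)).subgroupOf N
  let ψ : ↥H →* Perm (SwSet (S : Subgroup (Perm α))) := φ.comp H.subtype
  have hrange : ψ.range = H.map φ := by rw [MonoidHom.range_comp, Subgroup.range_subtype]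
  have hcardH : Nat.card ↥H = Nat.card ↥(S : Subgroup (Perm α)) :=
    Nat.card_congr (Subgroup.subgroupOfEquivOfLe Subgroup.le_normalizer).toEquiv
  have hkerle : Nat.card ↥ψ.ker ≤ 2 ^ m := by
    apply p.card_le_of_cent (fun x : ↥ψ.ker => (((x : ↥H) : ↥N) : Perm α))
    · intro x y hxy
      exact Subtype.ext (Subtype.ext (Subtype.ext hxy))
    · intro x
      apply hker
      have := x.2
      rwa [MonoidHom.mem_ker] at this
  have h1 : Nat.card ↥ψ.ker * Nat.card ↥ψ.range = Nat.card ↥H := by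
    rw [← Subgroup.index_ker, Subgroup.card_mul_index]
  have hS : Nat.card ↥(S : Subgroup (Perm α)) = 2 ^ (n.factorial).factorization 2 := by
    rw [S.card_eq_multiplicity, Nat.card_perm, hcard]
  have hHp : IsPGroup 2 ↥H := S.2.comap_subtype
  have hQp : IsPGroup 2 ↥ψ.range := hHp.of_surjective ψ.rangeRestrict ψ.rangeRestrict_surjective
  have hKp : IsPGroup 2 ↥ψ.ker := hHp.to_subgroup _
  obtain ⟨r, hr⟩ := IsPGroup.iff_card.1 hQp
  obtain ⟨s, hs⟩ := IsPGroup.iff_card.1 hKp
  have hPerm : Nat.card (Perm (SwSet (S : Subgroup (Perm α)))) = m.factorial := by rw [Nat.card_perm, hP]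
  have hr' : r = (m.factorial).factorization 2 := by
    have e1 : s + r = (n.factorial).factorization 2 := by
      apply Nat.pow_right_injective (le_refl 2)
      show 2 ^ (s + r) = 2 ^ (n.factorial).factorization 2
      rw [pow_add, ← hs, ← hr, h1, hcardH, hS]
    have e2 : s ≤ m := by
      rw [hs] at hkerle
      exact (Nat.pow_le_pow_iff_right (by norm_num)).1 hkerle
    have e3 : r ≤ (m.factorial).factorization 2 := by
      have : 2 ^ r ∣ m.factorial := by
        rw [← hr, ← hPerm]
        exact Subgroup.card_subgroup_dvd_card _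
      exact (Nat.Prime.pow_dvd_iff_le_factorization Nat.prime_two (Nat.factorial_ne_zero _)).1 this
    have e4 := factorization_factorial_two n
    rw [hcard', ← hm] at e4
    rw [hcard'] at e1
    omega
  let Q' : Sylow 2 (Perm (SwSet (S : Subgroup (Perm α)))) := Sylow.ofCard ψ.range (by rw [hr, hPerm, hr'])
  let g' : ↥N := ⟨g, hg⟩
  have hnorm : φ g' ∈ Subgroup.normalizer ((ψ.range : Subgroup (Perm (SwSet (S : Subgroup (Perm α))))) : Set (Perm (SwSet (S : Subgroup (Perm α))))) := by
    rw [hrange]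
    apply Subgroup.le_normalizer_map φ
    refine ⟨g', ?_, rfl⟩
    rw [Subgroup.normalizer_eq_top]
    trivial
  have hmem : φ g' ∈ (Q' : Subgroup (Perm (SwSet (S : Subgroup (Perm α))))) := ih m hmn (SwSet (S : Subgroup (Perm α))) hP Q' hnorm
  obtain ⟨s, hs⟩ := hmem
  let k : ↥N := (s : ↥N)⁻¹ * g'
  have hk1 : φ k = 1 := by
    rw [map_mul, map_inv, ← hs]
    show (ψ s)⁻¹ * ψ s = 1
    group
  have hk2 := hker k hk1
  have hk3 : (k : Perm α) * (k : Perm α) = 1 := hk2.mul_self
  have hkS : (k : Perm α) ∈ (S : Subgroup (Perm α)) := by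
    have hz := isPGroup_zpowers_of_mul_self hk3
    have h2 := hz.inf_normalizer_sylow S
    exact (h2.le ⟨Subgroup.mem_zpowers _, k.2⟩).2
  have hg2 : g = ((s : ↥N) : Perm α) * (k : Perm α) := by simp [k, g']
  rw [hg2]
  exact Subgroup.mul_mem _ (Subgroup.mem_subgroupOf.1 s.2) hkS

end Cfsg.Agent.Helper8.Pn
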