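import Mathlib
import Cfsg.Agent.Helper8.PnD

set_option autoImplicit false
set_option linter.unusedSectionVars false

/-!
helper8: the Sylow `2`-subgroups of an alternating group of degree at least six are
self-normalizing.
-/

namespace Cfsg.Agent.Helper8.Pn

open Equiv Equiv.Perm

variable {α : Type*} [Fintype α] [DecidableEq α] {m : ℕ}

namespace Pairing

variable (p : Pairing α m)

theorem sw_sign (i : Fin m) : Perm.sign (p.sw i) = -1 := sign_swap (p.c_ne i false)

theorem exists_sw_eq_of_prod_aux (hm : 2 < m) {H : Subgroup (Perm α)} (hH : IsPGroup 2 H)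
    (hp : ∀ i j, i ≠ j → p.sw i * p.sw j ∈ H)
    {i : Fin m} {t : Bool} {y : α} (hxy : p.c i t ≠ y) (h : swap (p.c i t) y ∈ H) :
    p.sw i = swap (p.c i t) y := by
  by_cases hy : y = p.c i (!t)
  · rw [p.sw_eq i t, hy]
  exfalso
  -- an index `k` away from `i` and `y`
  obtain ⟨k, hki, hky⟩ : ∃ k, k ≠ i ∧ ∀ s, y ≠ p.c k s := by
    by_cases hy' : ∃ j s, p.c j s = y
    · obtain ⟨j, s, rfl⟩ := hy'
      obtain ⟨k, hki, hkj⟩ := Fin.exists_ne_and_ne_of_two_lt i j hm
      exact ⟨k, hki, fun s' => p.c_ne_of_ne hkj.symm _ _⟩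
    · push Not at hy'
      obtain ⟨k, hki, -⟩ := Fin.exists_ne_and_ne_of_two_lt i i hm
      exact ⟨k, hki, fun s => (hy' k s).symm⟩
  set τ := swap (p.c i t) y with hτ
  have ha : p.sw k * τ = τ * p.sw k :=
    Tt.swap_comm_of_ne (p.c_ne_of_ne hki _ _) (hky false).symm (p.c_ne_of_ne hki _ _)
      (hky true).symm
  have hb : p.sw k * p.sw i = p.sw i * p.sw k := p.sw_comm k i
  have hc : p.sw k * p.sw k = 1 := p.sw_mul_self k
  have hz : τ * (p.sw i * p.sw k) ∈ H := H.mul_mem h (hp i k hki.symm)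
  have hzz : (τ * (p.sw i * p.sw k)) * (τ * (p.sw i * p.sw k)) =
      (τ * p.sw i) * (τ * p.sw i) := by
    calc (τ * (p.sw i * p.sw k)) * (τ * (p.sw i * p.sw k))
        = τ * p.sw i * (p.sw k * τ) * p.sw i * p.sw k := by group
      _ = τ * p.sw i * (τ * p.sw k) * p.sw i * p.sw k := by rw [ha]
      _ = τ * p.sw i * τ * (p.sw k * p.sw i) * p.sw k := by group
      _ = τ * p.sw i * τ * (p.sw i * p.sw k) * p.sw k := by rw [hb]
      _ = τ * p.sw i * τ * p.sw i * (p.sw k * p.sw k) := by group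
      _ = (τ * p.sw i) * (τ * p.sw i) := by rw [hc]; group
  have h3 : (τ * p.sw i).IsThreeCycle := by
    rw [hτ, p.sw_eq i t]
    exact isThreeCycle_swap_mul_swap_same hxy (p.c_ne i t) hy
  apply not_isThreeCycle_of_isPGroup hH (H.mul_mem hz hz)
  rw [hzz]
  exact h3.isThreeCycle_sq

/-- every swap of a `2`-group containing the products of two swaps of a pairing with at least
three pairs is one of the swaps of the pairing -/
theorem exists_sw_eq_of_prod (hm : 2 < m) {H : Subgroup (Perm α)} (hH : IsPGroup 2 H)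
    (hp : ∀ i j, i ≠ j → p.sw i * p.sw j ∈ H)
    {x y : α} (hxy : x ≠ y) (h : swap x y ∈ H) : ∃ i, p.sw i = swap x y := by
  by_cases hx : ∃ i t, p.c i t = x
  · obtain ⟨i, t, rfl⟩ := hx
    exact ⟨i, p.exists_sw_eq_of_prod_aux hm hH hp hxy h⟩
  by_cases hy : ∃ i t, p.c i t = y
  · obtain ⟨i, t, rfl⟩ := hy
    rw [swap_comm] at h ⊢
    exact ⟨i, p.exists_sw_eq_of_prod_aux hm hH hp hxy.symm h⟩
  push Not at hx hy
  exact absurd (p.cover x y hx hy) hxy

end Pairing

/-- the Sylow `2`-subgroups of an alternating group of degree at least six are self-normalizing -/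
theorem normalizer_sylow_alt_le (h6 : 6 ≤ Fintype.card α) (T : Sylow 2 ↥(alternatingGroup α)) :
    Subgroup.normalizer
      ((T : Subgroup ↥(alternatingGroup α)) : Set ↥(alternatingGroup α)) ≤ T := by
  have hfact : Fact (Nat.Prime 2) := ⟨Nat.prime_two⟩
  set T' : Subgroup (Perm α) := (T : Subgroup ↥(alternatingGroup α)).map (alternatingGroup α).subtype with hT'
  have hT'p : IsPGroup 2 ↥T' := T.2.map (alternatingGroup α).subtype
  obtain ⟨S, hS⟩ := hT'p.exists_le_sylow
  -- even elements of `S` lie in `T'`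
  have hinf : ∀ x ∈ (S : Subgroup (Perm α)), Perm.sign x = 1 → x ∈ T' := by
    intro x hx hsx
    have hxA : x ∈ alternatingGroup α := Equiv.Perm.mem_alternatingGroup.2 hsx
    have hU : IsPGroup 2 ↥((S : Subgroup (Perm α)).subgroupOf (alternatingGroup α)) := S.2.comap_subtype
    have hle : (T : Subgroup ↥(alternatingGroup α)) ≤ (S : Subgroup (Perm α)).subgroupOf (alternatingGroup α) := by
      intro t ht
      rw [Subgroup.mem_subgroupOf]
      exact hS ⟨t, ht, rfl⟩
    have hUT := T.is_maximal' hU hle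
    have : (⟨x, hxA⟩ : ↥(alternatingGroup α)) ∈ (T : Subgroup ↥(alternatingGroup α)) := by
      rw [← hUT, Subgroup.mem_subgroupOf]
      exact hx
    exact ⟨⟨x, hxA⟩, this, rfl⟩
  -- the pairing of `S`
  obtain ⟨m, hm, p, hp⟩ : ∃ m, m = Fintype.card α / 2 ∧
      ∃ p : Pairing α m, ∀ i, p.sw i ∈ (S : Subgroup (Perm α)) :=
    ⟨_, rfl, exists_pairing_of_sylow S⟩
  have hm3 : 2 < m := by omega
  have hprod : ∀ i j, i ≠ j → p.sw i * p.sw j ∈ T' := by
    intro i j _
    apply hinf _ (Subgroup.mul_mem _ (hp i) (hp j))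
    rw [map_mul, p.sw_sign, p.sw_sign]
    rfl
  -- `S` is the only Sylow `2`-subgroup containing `T'`
  have huniq : ∀ S₂ : Sylow 2 (Perm α), T' ≤ S₂ → S₂ = S := by
    intro S₂ hS₂
    obtain ⟨m₂, hm₂, p₂, hp₂⟩ : ∃ m, m = Fintype.card α / 2 ∧
        ∃ p : Pairing α m, ∀ i, p.sw i ∈ (S₂ : Subgroup (Perm α)) :=
      ⟨_, rfl, exists_pairing_of_sylow S₂⟩
    have i₀ : Fin m₂ := ⟨0, by omega⟩
    obtain ⟨i, hi⟩ := p.exists_sw_eq_of_prod hm3 S₂.2 (fun i j hij => hS₂ (hprod i j hij))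
      (p₂.c_ne i₀ false) (hp₂ i₀)
    have hτ : p.sw i ∈ (S₂ : Subgroup (Perm α)) := by rw [hi]; exact hp₂ i₀
    have hle : (S : Subgroup (Perm α)) ≤ S₂ := by
      intro s hs
      rcases Int.units_eq_one_or (Perm.sign s) with h | h
      · exact hS₂ (hinf s hs h)
      · have h1 : p.sw i * s ∈ T' := by
          apply hinf _ (Subgroup.mul_mem _ (hp i) hs)
          rw [map_mul, p.sw_sign, h]
          rfl
        have h2 : s = (p.sw i)⁻¹ * (p.sw i * s) := by group
        rw [h2]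
        exact Subgroup.mul_mem _ (Subgroup.inv_mem _ hτ) (hS₂ h1)
    exact Sylow.ext (S.is_maximal' S₂.2 hle)
  -- the normalizer of `T'`
  have hNT : Subgroup.normalizer ((T' : Subgroup (Perm α)) : Set (Perm α)) ≤ S := by
    intro g hg
    have h1 : g • S = S := by
      apply huniq
      rw [Sylow.coe_subgroup_smul]
      intro t ht
      have h2 : g⁻¹ * t * g ∈ T' := (Subgroup.mem_normalizer_iff''.1 hg t).1 ht
      refine ⟨g⁻¹ * t * g, hS h2, ?_⟩
      show g * (g⁻¹ * t * g) * g⁻¹ = t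
      group
    rw [Sylow.smul_eq_iff_mem_normalizer] at h1
    exact normalizer_sylow_le _ α rfl S h1
  intro g hg
  have h1 : (g : Perm α) ∈ Subgroup.normalizer ((T' : Subgroup (Perm α)) : Set (Perm α)) :=
    Subgroup.le_normalizer_map (alternatingGroup α).subtype ⟨g, hg, rfl⟩
  have h2 := hinf _ (hNT h1) (Equiv.Perm.mem_alternatingGroup.1 g.2)
  obtain ⟨t, ht, hte⟩ := h2
  have : t = g := Subtype.ext hte
  rw [← this]
  exact ht

end Cfsg.Agent.Helper8.Pn
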