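import Mathlib
import Cfsg.Agent.Helper8.PnE
import Cfsg.Agent.Helper4.PronormalB
import Cfsg.Agent.S3820

set_option autoImplicit false
set_option linter.unusedSectionVars false

/-!
helper8: pronormality of Sylow subgroups and of subgroups containing a Sylow normalizer.
-/

namespace Cfsg.Agent.Helper8.Pn

open scoped Pointwise

variable {G : Type*} [Group G]

/-- Sylow subgroups are pronormal -/
theorem isPronormal_sylow [Finite G] {p : ℕ} [Fact p.Prime] (P : Sylow p G) :
    Cfsg.IsPronormal (P : Subgroup G) := by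
  intro g
  set K := (P : Subgroup G) ⊔ (P : Subgroup G).map (MulAut.conj g).toMonoidHom with hK
  have h1 : (P : Subgroup G) ≤ K := le_sup_left
  have h2 : (P : Subgroup G).map (MulAut.conj g).toMonoidHom ≤ K := le_sup_right
  have hidx : ¬ p ∣ (P : Subgroup G).relIndex K := fun h =>
    P.not_dvd_index (h.trans (Subgroup.relIndex_dvd_index_of_le h1))
  have hcard : Nat.card ↥((P : Subgroup G).map (MulAut.conj g).toMonoidHom) =
      Nat.card ↥(P : Subgroup G) :=
    Subgroup.card_map_of_injective (MulAut.conj g).injective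
  obtain ⟨c, hc, hce⟩ := Cfsg.Agent.Helper4.Prn.exists_conj_of_pgroups h1 h2 P.2
    (P.2.map _) hidx hcard
  refine ⟨c, hc, ?_⟩
  rw [← hce]
  rfl

/-- a subgroup containing the normalizer of one of its Sylow subgroups, Sylow in the whole
group, is pronormal -/
theorem isPronormal_of_normalizer_le [Finite G] {p : ℕ} [Fact p.Prime] (P : Sylow p G)
    (H : Subgroup G) (hPH : (P : Subgroup G) ≤ H)
    (hN : Subgroup.normalizer ((P : Subgroup G) : Set G) ≤ H) : Cfsg.IsPronormal H := by
  rw [Cfsg.Agent.S3820.result (P : Subgroup G) H hPH (isPronormal_sylow P)]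
  intro g hg
  refine ⟨1, Subgroup.one_mem _, ?_⟩
  rw [Cfsg.Agent.Helper5.map_conj_one, Cfsg.Agent.Helper5.map_conj_eq_self_of_mem H g (hN hg)]

/-- a subgroup of odd index contains a Sylow `2`-subgroup -/
theorem exists_sylow_le_of_odd_index [Finite G] (H : Subgroup G) (hH : Odd H.index) :
    ∃ P : Sylow 2 G, (P : Subgroup G) ≤ H := by
  have hfact : Fact (Nat.Prime 2) := ⟨Nat.prime_two⟩
  rw [Cfsg.Agent.Helper4.Prn.exists_sylow_le_iff]
  intro h
  rw [← even_iff_two_dvd] at h
  exact (Nat.not_even_iff_odd.2 hH) h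

/-- in a group whose Sylow `2`-subgroups are self-normalizing, the subgroups of odd index are
pronormal -/
theorem isPronormal_of_odd_index [Finite G]
    (hsn : ∀ P : Sylow 2 G, Subgroup.normalizer ((P : Subgroup G) : Set G) ≤ P)
    (H : Subgroup G) (hH : Odd H.index) : Cfsg.IsPronormal H := by
  have hfact : Fact (Nat.Prime 2) := ⟨Nat.prime_two⟩
  obtain ⟨P, hP⟩ := exists_sylow_le_of_odd_index H hH
  exact isPronormal_of_normalizer_le P H hP ((hsn P).trans hP)

end Cfsg.Agent.Helper8.Pn
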