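import Mathlib
import Cfsg.Agent.Helper8.TtA
import Cfsg.Agent.Helper8.JdD

set_option autoImplicit false
set_option linter.unusedSectionVars false
set_option linter.unusedSimpArgs false

/-!
helper8: a Sylow 2-subgroup of the alternating group of degree `n` contains (up to relabelling)
the Klein four-groups of the standard blocks `{4i, 4i+1, 4i+2, 4i+3}`.
-/

namespace Cfsg.Agent.Helper8.Tt

open Equiv Equiv.Perm
open scoped Pointwise

section general

variable {α : Type*} [Fintype α] [DecidableEq α]

theorem dt_comm {p q r s : α} (h : ({p, q, r, s} : Finset α).card = 4) :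
    (swap p q * swap r s) * (swap p r * swap q s) =
      (swap p r * swap q s) * (swap p q * swap r s) := by
  obtain ⟨n1, n2, n3, n4, n5, n6⟩ := ne_of_card_four h
  ext z
  simp only [Perm.mul_apply]
  by_cases hp : z = p
  · subst hp
    simp [swap_apply_of_ne_of_ne, n1, n2, n3, n4, n5, n6, n1.symm, n2.symm, n3.symm, n4.symm,
      n5.symm, n6.symm]
  by_cases hq : z = q
  · subst hq
    simp [swap_apply_of_ne_of_ne, n1, n2, n3, n4, n5, n6, n1.symm, n2.symm, n3.symm, n4.symm,
      n5.symm, n6.symm]
  by_cases hr : z = r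
  · subst hr
    simp [swap_apply_of_ne_of_ne, n1, n2, n3, n4, n5, n6, n1.symm, n2.symm, n3.symm, n4.symm,
      n5.symm, n6.symm]
  by_cases hs : z = s
  · subst hs
    simp [swap_apply_of_ne_of_ne, n1, n2, n3, n4, n5, n6, n1.symm, n2.symm, n3.symm, n4.symm,
      n5.symm, n6.symm]
  simp [swap_apply_of_ne_of_ne, hp, hq, hr, hs]

theorem dt_sq (p q r s : α) (h1 : p ≠ r) (h2 : p ≠ s) (h3 : q ≠ r) (h4 : q ≠ s) :
    (swap p q * swap r s) ^ 2 = 1 := by
  rw [pow_two]
  have e := swap_comm_of_ne h1 h2 h3 h4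
  calc swap p q * swap r s * (swap p q * swap r s)
      = swap p q * (swap r s * swap p q) * swap r s := by group
    _ = swap p q * (swap p q * swap r s) * swap r s := by rw [e]
    _ = (swap p q * swap p q) * (swap r s * swap r s) := by group
    _ = 1 := by rw [swap_mul_self, swap_mul_self, one_mul]

theorem sign_dt {p q r s : α} (h1 : p ≠ q) (h2 : r ≠ s) : Perm.sign (swap p q * swap r s) = 1 := by
  rw [map_mul, sign_swap h1, sign_swap h2]
  rfl

end general

variable {n : ℕ}

/-- the `j`-th point of the `i`-th standard block -/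
def bp (i j : ℕ) (h : 4 * i + 3 < n) (hj : j < 4) : Fin n := ⟨4 * i + j, by omega⟩

theorem bp_ne (i j j' : ℕ) (h : 4 * i + 3 < n) (hj : j < 4) (hj' : j' < 4) (hne : j ≠ j') :
    bp i j h hj ≠ bp i j' h hj' := by
  intro e
  have := congrArg Fin.val e
  simp only [bp] at this
  omega

/-- the `i`-th standard block -/
def blk (i : ℕ) (h : 4 * i + 3 < n) : Finset (Fin n) :=
  {bp i 0 h (by omega), bp i 1 h (by omega), bp i 2 h (by omega), bp i 3 h (by omega)}

theorem mem_blk (i : ℕ) (h : 4 * i + 3 < n) (x : Fin n) : x ∈ blk i h ↔ x.val / 4 = i := by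
  unfold blk
  simp only [Finset.mem_insert, Finset.mem_singleton]
  constructor
  · rintro (e | e | e | e) <;> (subst e; simp only [bp]; omega)
  · intro e
    have : x.val = 4 * i + 0 ∨ x.val = 4 * i + 1 ∨ x.val = 4 * i + 2 ∨ x.val = 4 * i + 3 := by
      omega
    rcases this with e | e | e | e
    · left; exact Fin.ext e
    · right; left; exact Fin.ext e
    · right; right; left; exact Fin.ext e
    · right; right; right; exact Fin.ext e

theorem card_blk (i : ℕ) (h : 4 * i + 3 < n) : (blk i h).card = 4 := by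
  unfold blk
  rw [Finset.card_insert_of_notMem, Finset.card_insert_of_notMem, Finset.card_insert_of_notMem,
    Finset.card_singleton]
  · simp only [Finset.mem_singleton]; exact bp_ne i 2 3 h _ _ (by omega)
  · simp only [Finset.mem_insert, Finset.mem_singleton, not_or]
    exact ⟨bp_ne i 1 2 h _ _ (by omega), bp_ne i 1 3 h _ _ (by omega)⟩
  · simp only [Finset.mem_insert, Finset.mem_singleton, not_or]
    exact ⟨bp_ne i 0 1 h _ _ (by omega), bp_ne i 0 2 h _ _ (by omega),
      bp_ne i 0 3 h _ _ (by omega)⟩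

/-- the three double transpositions of the `i`-th block; `k = 1, 2, 3` gives the partner of `0` -/
def bd (i : ℕ) (h : 4 * i + 3 < n) : Fin 3 → Perm (Fin n)
  | 0 => swap (bp i 0 h (by omega)) (bp i 1 h (by omega)) *
      swap (bp i 2 h (by omega)) (bp i 3 h (by omega))
  | 1 => swap (bp i 0 h (by omega)) (bp i 2 h (by omega)) *
      swap (bp i 1 h (by omega)) (bp i 3 h (by omega))
  | 2 => swap (bp i 0 h (by omega)) (bp i 3 h (by omega)) *
      swap (bp i 1 h (by omega)) (bp i 2 h (by omega))

theorem bd_apply_of_ne (i : ℕ) (h : 4 * i + 3 < n) (k : Fin 3) (x : Fin n) (hx : x.val / 4 ≠ i) :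
    bd i h k x = x := by
  have hx' : x ∉ blk i h := by rw [mem_blk]; exact hx
  unfold blk at hx'
  fin_cases k
  · exact dt_apply_of_notMem hx'
  · apply dt_apply_of_notMem
    intro hm; apply hx'
    simp only [Finset.mem_insert, Finset.mem_singleton] at hm ⊢
    tauto
  · apply dt_apply_of_notMem
    intro hm; apply hx'
    simp only [Finset.mem_insert, Finset.mem_singleton] at hm ⊢
    tauto

theorem bd_sq (i : ℕ) (h : 4 * i + 3 < n) (k : Fin 3) : bd i h k ^ 2 = 1 := by
  fin_cases k
  · exact dt_sq _ _ _ _ (bp_ne i 0 2 h _ _ (by omega)) (bp_ne i 0 3 h _ _ (by omega))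
      (bp_ne i 1 2 h _ _ (by omega)) (bp_ne i 1 3 h _ _ (by omega))
  · exact dt_sq _ _ _ _ (bp_ne i 0 1 h _ _ (by omega)) (bp_ne i 0 3 h _ _ (by omega))
      (bp_ne i 2 1 h _ _ (by omega)) (bp_ne i 2 3 h _ _ (by omega))
  · exact dt_sq _ _ _ _ (bp_ne i 0 1 h _ _ (by omega)) (bp_ne i 0 2 h _ _ (by omega))
      (bp_ne i 3 1 h _ _ (by omega)) (bp_ne i 3 2 h _ _ (by omega))

theorem bd_sign (i : ℕ) (h : 4 * i + 3 < n) (k : Fin 3) : Perm.sign (bd i h k) = 1 := by
  fin_cases k
  · exact sign_dt (bp_ne i 0 1 h _ _ (by omega)) (bp_ne i 2 3 h _ _ (by omega))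
  · exact sign_dt (bp_ne i 0 2 h _ _ (by omega)) (bp_ne i 1 3 h _ _ (by omega))
  · exact sign_dt (bp_ne i 0 3 h _ _ (by omega)) (bp_ne i 1 2 h _ _ (by omega))

theorem bd_comm_same (i : ℕ) (h : 4 * i + 3 < n) (k k' : Fin 3) :
    bd i h k * bd i h k' = bd i h k' * bd i h k := by
  have c4 := card_blk i h
  unfold blk at c4
  -- the three basic commutation relations
  have e01 : bd i h 0 * bd i h 1 = bd i h 1 * bd i h 0 := dt_comm c4
  have e02 : bd i h 0 * bd i h 2 = bd i h 2 * bd i h 0 := by
    have c4' : ({bp i 0 h (by omega), bp i 1 h (by omega), bp i 3 h (by omega),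
        bp i 2 h (by omega)} : Finset (Fin n)).card = 4 := by
      have e : ({bp i 0 h (by omega), bp i 1 h (by omega), bp i 3 h (by omega),
          bp i 2 h (by omega)} : Finset (Fin n)) = {bp i 0 h (by omega), bp i 1 h (by omega),
          bp i 2 h (by omega), bp i 3 h (by omega)} := by
        ext w; simp only [Finset.mem_insert, Finset.mem_singleton]; tauto
      rw [e]; exact c4
    have := dt_comm c4'
    simp only [bd]
    rw [swap_comm (bp i 3 h (by omega)) (bp i 2 h (by omega))] at this
    exact this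
  have e12 : bd i h 1 * bd i h 2 = bd i h 2 * bd i h 1 := by
    have c4' : ({bp i 0 h (by omega), bp i 2 h (by omega), bp i 3 h (by omega),
        bp i 1 h (by omega)} : Finset (Fin n)).card = 4 := by
      have e : ({bp i 0 h (by omega), bp i 2 h (by omega), bp i 3 h (by omega),
          bp i 1 h (by omega)} : Finset (Fin n)) = {bp i 0 h (by omega), bp i 1 h (by omega),
          bp i 2 h (by omega), bp i 3 h (by omega)} := by
        ext w; simp only [Finset.mem_insert, Finset.mem_singleton]; tauto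
      rw [e]; exact c4
    have := dt_comm c4'
    simp only [bd]
    rw [swap_comm (bp i 3 h (by omega)) (bp i 1 h (by omega)),
      swap_comm (bp i 2 h (by omega)) (bp i 1 h (by omega))] at this
    exact this
  fin_cases k <;> fin_cases k' <;>
    first
    | rfl | exact e01 | exact e02 | exact e12 | exact e01.symm | exact e02.symm | exact e12.symm

theorem bd_comm (i i' : ℕ) (h : 4 * i + 3 < n) (h' : 4 * i' + 3 < n) (k k' : Fin 3) :
    bd i h k * bd i' h' k' = bd i' h' k' * bd i h k := by
  by_cases hii : i = i'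
  · subst hii
    exact bd_comm_same i h k k'
  · have hd : Perm.Disjoint (bd i h k) (bd i' h' k') := by
      intro x
      by_cases hx : x.val / 4 = i
      · right; exact bd_apply_of_ne i' h' k' x (by omega)
      · left; exact bd_apply_of_ne i h k x hx
    exact hd.commute.eq

theorem exists_tets_of_sylow (P : Sylow 2 ↥(alternatingGroup (Fin n)))
    (H : Subgroup (Perm (Fin n)))
    (hP : (P : Subgroup ↥(alternatingGroup (Fin n))).map (alternatingGroup (Fin n)).subtype ≤ H) :
    ∃ g : Perm (Fin n), ∀ (i : ℕ) (h : 4 * i + 3 < n), Tet H (g • blk i h) := by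
  classical
  let A := alternatingGroup (Fin n)
  let gen : Set ↥A := {x | ∃ (i : ℕ) (h : 4 * i + 3 < n) (k : Fin 3), (x : Perm (Fin n)) = bd i h k}
  have hpg : IsPGroup 2 ↥(Subgroup.closure gen) := by
    apply Cfsg.Agent.Helper8.Jd.isPGroup_closure_comm
    · rintro x ⟨i, h, k, hx⟩ y ⟨i', h', k', hy⟩
      apply Subtype.ext
      rw [Subgroup.coe_mul, Subgroup.coe_mul, hx, hy]
      exact bd_comm i i' h h' k k'
    · rintro x ⟨i, h, k, hx⟩
      apply Subtype.ext
      rw [Subgroup.coe_pow, hx, Subgroup.coe_one]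
      exact bd_sq i h k
  obtain ⟨Q, hQ⟩ := hpg.exists_le_sylow
  obtain ⟨g, hg⟩ := MulAction.exists_smul_eq ↥A Q P
  refine ⟨(g : Perm (Fin n)), ?_⟩
  intro i h
  -- conjugates of the generators lie in `H`
  have hmem : ∀ k : Fin 3, (g : Perm (Fin n)) * bd i h k * (g : Perm (Fin n))⁻¹ ∈ H := by
    intro k
    have hA : bd i h k ∈ A := by
      rw [Equiv.Perm.mem_alternatingGroup]
      exact bd_sign i h k
    have h1 : (⟨bd i h k, hA⟩ : ↥A) ∈ (Q : Subgroup ↥A) :=
      hQ (Subgroup.subset_closure ⟨i, h, k, rfl⟩)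
    have h2 : g * ⟨bd i h k, hA⟩ * g⁻¹ ∈ (P : Subgroup ↥A) := by
      rw [← hg, Sylow.coe_subgroup_smul]
      exact ⟨_, h1, rfl⟩
    apply hP
    exact ⟨_, h2, rfl⟩
  have e : (g : Perm (Fin n)) • blk i h =
      {(g : Perm (Fin n)) (bp i 0 h (by omega)), (g : Perm (Fin n)) (bp i 1 h (by omega)),
        (g : Perm (Fin n)) (bp i 2 h (by omega)), (g : Perm (Fin n)) (bp i 3 h (by omega))} := by
    unfold blk
    exact smul_four _ _ _ _ _
  rw [e]
  apply Tet.of_three
  · rw [← e, Finset.card_smul_finset]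
    exact card_blk i h
  · have := hmem 0
    simp only [bd] at this
    rw [conj_dt] at this
    exact this
  · have := hmem 1
    simp only [bd] at this
    rw [conj_dt] at this
    exact this
  · have := hmem 2
    simp only [bd] at this
    rw [conj_dt] at this
    exact this

end Cfsg.Agent.Helper8.Tt
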