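import Mathlib
import Cfsg.Agent.Helper8.PnF
import Cfsg.Agent.Helper8.TtB
import Cfsg.Agent.Helper8.CZSG

set_option autoImplicit false
set_option linter.unusedSectionVars false

/-!
helper8: the subgroups of odd index of the alternating group of degree five are pronormal.
-/

namespace Cfsg.Agent.Helper8.Pn

open Equiv Equiv.Perm
open scoped Pointwise

theorem card_alt_five : Nat.card ↥(alternatingGroup (Fin 5)) = 60 := by
  rw [nat_card_alternatingGroup, Nat.card_fin]
  rfl

theorem factorization_sixty : (60 : ℕ).factorization 2 = 2 := by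
  have : (60 : ℕ) = 2 ^ 2 * 15 := by norm_num
  rw [this, Nat.factorization_mul (by norm_num) (by norm_num), Nat.factorization_pow]
  simp [Nat.factorization_eq_zero_of_not_dvd, Nat.Prime.factorization_self Nat.prime_two]

theorem isPronormal_alt_five (H : Subgroup ↥(alternatingGroup (Fin 5))) (hH : Odd H.index) :
    Cfsg.IsPronormal H := by
  have hfact : Fact (Nat.Prime 2) := ⟨Nat.prime_two⟩
  obtain ⟨P, hP⟩ := exists_sylow_le_of_odd_index H hH
  have hPcard : Nat.card ↥(P : Subgroup ↥(alternatingGroup (Fin 5))) = 4 := by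
    rw [P.card_eq_multiplicity, card_alt_five, factorization_sixty]
    rfl
  set T' : Subgroup (Perm (Fin 5)) :=
    (P : Subgroup ↥(alternatingGroup (Fin 5))).map (alternatingGroup (Fin 5)).subtype with hT'
  obtain ⟨g, hg⟩ := Tt.exists_tets_of_sylow P T' le_rfl
  have hB := hg 0 (by norm_num)
  set B : Finset (Fin 5) := g • Tt.blk 0 (by norm_num : 4 * 0 + 3 < 5) with hBdef
  have hB1 : 1 < B.card := by rw [hB.1]; norm_num
  -- the point outside the block
  have hBc : Bᶜ.card = 1 := by
    rw [Finset.card_compl, hB.1]
    rfl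
  obtain ⟨e, he⟩ := Finset.card_eq_one.1 hBc
  have hmemB : ∀ x, x ∈ B ↔ x ≠ e := by
    intro x
    have : x ∈ Bᶜ ↔ x = e := by rw [he, Finset.mem_singleton]
    rw [Finset.mem_compl] at this
    tauto
  -- `T'` fixes `e`
  have hTe : ∀ t ∈ T', t e = e := by
    have hpg : IsPGroup 2 ↥T' := P.2.map _
    obtain ⟨z, hz⟩ := hpg.nonempty_fixed_point_of_prime_not_dvd_card (Fin 5)
      (by rw [Nat.card_fin]; norm_num)
    have hzB : z ∉ B := by
      intro hzB
      obtain ⟨y, hyB, hyz⟩ := Finset.exists_mem_ne hB1 z
      obtain ⟨v, hv, hvz, -⟩ := hB.exists_map hzB hyB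
      have h1 := hz ⟨v, hv⟩
      change v z = z at h1
      exact hyz (hvz.symm.trans h1)
    have hze : z = e := by
      by_contra h
      exact hzB ((hmemB z).2 h)
    intro t ht
    have h1 := hz ⟨t, ht⟩
    change t z = z at h1
    rwa [hze] at h1
  -- the normalizer of `T'` fixes `e`
  have hNe : ∀ h ∈ Subgroup.normalizer ((T' : Subgroup (Perm (Fin 5))) : Set (Perm (Fin 5))),
      h e = e := by
    intro h hh
    by_contra hne
    have hheB : h e ∈ B := (hmemB _).2 hne
    obtain ⟨y, hyB, hy⟩ := Finset.exists_mem_ne hB1 (h e)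
    obtain ⟨v, hv, hvy, -⟩ := hB.exists_map hheB hyB
    have h2 : h⁻¹ * v * h ∈ T' := (Subgroup.mem_normalizer_iff''.1 hh v).1 hv
    have h3 := hTe _ h2
    have h4 : v (h e) = h e := by
      have := congrArg h h3
      simpa using this
    exact hy (hvy.symm.trans h4)
  -- the stabilizer of `e`
  set A₀ := MulAction.stabilizer ↥(alternatingGroup (Fin 5)) e with hA₀
  have hNP : Subgroup.normalizer ((P : Subgroup ↥(alternatingGroup (Fin 5))) :
      Set ↥(alternatingGroup (Fin 5))) ≤ A₀ := by
    intro x hx
    rw [MulAction.mem_stabilizer_iff]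
    exact hNe _ (Subgroup.le_normalizer_map (alternatingGroup (Fin 5)).subtype ⟨x, hx, rfl⟩)
  have hA₀card : Nat.card ↥A₀ = 12 := by
    have : MulAction.IsPretransitive ↥(alternatingGroup (Fin 5)) (Fin 5) :=
      alternatingGroup.isPretransitive_of_three_le_card (Fin 5) (by rw [Nat.card_fin]; norm_num)
    have h1 := MulAction.index_stabilizer_of_transitive ↥(alternatingGroup (Fin 5)) e
    have h2 := Subgroup.index_mul_card A₀
    rw [h1, Nat.card_fin, card_alt_five] at h2
    omega
  -- the order of `H`
  have h60 := Subgroup.index_mul_card H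
  rw [card_alt_five] at h60
  have h4 : 4 ∣ Nat.card ↥H := by
    rw [← hPcard]
    exact Subgroup.card_dvd_of_le hP
  have hidx : H.index = 1 ∨ H.index = 3 ∨ H.index = 5 ∨ H.index = 15 := by
    obtain ⟨c, hc⟩ := h4
    rw [hc] at h60
    obtain ⟨d, hd⟩ := hH
    have h15 : H.index * c = 15 := by
      have : H.index * c * 4 = 60 := by rw [← h60]; ring
      omega
    have hle : H.index ≤ 15 := Nat.le_of_dvd (by norm_num) (Dvd.intro _ h15)
    generalize H.index = k at *
    interval_cases k <;> omega
  rcases hidx with h | h | h | h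
  · -- `H = ⊤`
    rw [Subgroup.index_eq_one] at h
    apply isPronormal_of_normalizer_le P H hP
    rw [h]
    exact le_top
  · -- index three is impossible
    exfalso
    have : IsSimpleGroup ↥(alternatingGroup (Fin 5)) := alternatingGroup.isSimpleGroup (by simp)
    have hcore : H.normalCore = ⊥ := by
      rcases (H.normalCore_normal).eq_bot_or_eq_top with h1 | h1
      · exact h1
      · exfalso
        have h2 : H = ⊤ := top_le_iff.1 (h1 ▸ H.normalCore_le)
        rw [← Subgroup.index_eq_one] at h2
        omega
    have h5 := CZS.card_le_factorial_index H hcore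
    rw [card_alt_five, h] at h5
    norm_num [Nat.factorial] at h5
  · -- index five: `H` is the stabilizer of `e`
    have hHcard : Nat.card ↥H = 12 := by rw [h] at h60; omega
    have hHe : ∀ x ∈ H, (x : Perm (Fin 5)) e = e := by
      by_contra hcon
      push Not at hcon
      obtain ⟨x, hxH, hxe⟩ := hcon
      have horb : MulAction.orbit ↥H e = Set.univ := by
        ext y
        simp only [Set.mem_univ, iff_true]
        by_cases hy : y = e
        · rw [hy]; exact MulAction.mem_orbit_self e
        · have hyB : y ∈ B := (hmemB y).2 hy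
          have hxB : (x : Perm (Fin 5)) e ∈ B := (hmemB _).2 hxe
          obtain ⟨v, hv, hvy, -⟩ := hB.exists_map hxB hyB
          obtain ⟨t, ht, rfl⟩ := hv
          refine ⟨⟨t * x, H.mul_mem (hP ht) hxH⟩, ?_⟩
          exact hvy
      have h1 := MulAction.index_stabilizer ↥H e
      rw [horb, Set.ncard_univ, Nat.card_fin] at h1
      have h2 := Subgroup.index_mul_card (MulAction.stabilizer ↥H e)
      rw [h1, hHcard] at h2
      omega
    have hHA : H ≤ A₀ := by
      intro x hx
      rw [MulAction.mem_stabilizer_iff]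
      exact hHe x hx
    have hHeq : H = A₀ := by
      apply Subgroup.eq_of_le_of_card_ge hHA
      rw [hHcard, hA₀card]
    apply isPronormal_of_normalizer_le P H hP
    rw [hHeq]
    exact hNP
  · -- index fifteen: `H` is a Sylow subgroup
    have hHcard : Nat.card ↥H = 4 := by rw [h] at h60; omega
    have hHeq : (P : Subgroup ↥(alternatingGroup (Fin 5))) = H := by
      apply Subgroup.eq_of_le_of_card_ge hP
      rw [hHcard, hPcard]
    rw [← hHeq]
    exact isPronormal_sylow P

end Cfsg.Agent.Helper8.Pn
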