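import Cfsg.Agent.Helper8.HallPetrescuB

/-!
# Symbol calculus for polynomial sequences

`F` is a filtration (`IsFilt F`) by normal subgroups.  For sequences that are polynomial of
shift `d ≥ 1`, the `k`-th derivative is multiplicative modulo `F (d + k + 1)`, and the Taylor
coefficients satisfy `c k ≡ (D^[k] f) 0` modulo `F (d + k + 1)`.

Main results:
* `taylor_symbol`: Taylor expansion of a sequence of shift `d ≥ 1` with its symbols;
* `conj_pow_expansion`: `s ^ n * w * s ^ (-n) = ∏ c k ^ C(n,k)` with `c k ≡ ad_s^k w`;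
* `mul_pow_expansion`: `(s * y) ^ n = s ^ n * ∏_{k ≥ 1} c k ^ C(n,k)`, `c (k+1) ≡ ad_{s⁻¹}^k y`.
-/

set_option autoImplicit false

namespace Cfsg.Agent.Helper8.HP

open scoped commutatorElement

variable {G : Type*} [Group G]

/-- Shifted filtration. -/
def shiftF (F : ℕ → Subgroup G) (d : ℕ) : ℕ → Subgroup G := fun i => F (d + i)

theorem isFilt_shiftF {F : ℕ → Subgroup G} (hF : IsFilt F) (d : ℕ) : IsFilt (shiftF F d) where
  anti := fun i j hij => hF.anti (by omega : d + i ≤ d + j)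
  comm := fun i j => (hF.comm (d + i) (d + j)).trans (hF.anti (by omega))

theorem isPoly_shiftF (F : ℕ → Subgroup G) (d : ℕ) (k : ℕ) :
    ∀ (e : ℕ) (f : ℕ → G), IsPoly (shiftF F d) e k f ↔ IsPoly F (d + e) k f := by
  induction k with
  | zero => intro e f; exact Iff.rfl
  | succ k ih =>
    intro e f
    rw [isPoly_succ, isPoly_succ, ih (e + 1) (D f)]
    exact Iff.rfl

theorem isPolyAll_shiftF (F : ℕ → Subgroup G) (d e : ℕ) (f : ℕ → G) :
    IsPolyAll (shiftF F d) e f ↔ IsPolyAll F (d + e) f :=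
  forall_congr' fun k => isPoly_shiftF F d k e f

/-- Congruence of sequences modulo a subgroup. -/
def SeqCongr (N : Subgroup G) (u v : ℕ → G) : Prop := ∀ n, (u n)⁻¹ * v n ∈ N

theorem SeqCongr.refl (N : Subgroup G) (u : ℕ → G) : SeqCongr N u u := fun n => by simp

theorem SeqCongr.symm {N : Subgroup G} {u v : ℕ → G} (h : SeqCongr N u v) : SeqCongr N v u :=
  fun n => by have := inv_mem (h n); simpa using this

theorem SeqCongr.trans {N : Subgroup G} {u v w : ℕ → G} (h₁ : SeqCongr N u v)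
    (h₂ : SeqCongr N v w) : SeqCongr N u w := fun n => by
  have := mul_mem (h₁ n) (h₂ n)
  simpa [mul_assoc] using this

theorem SeqCongr.mono {N N' : Subgroup G} (h : N ≤ N') {u v : ℕ → G} (huv : SeqCongr N u v) :
    SeqCongr N' u v := fun n => h (huv n)

theorem SeqCongr.mul {N : Subgroup G} [hN : N.Normal] {u v u' v' : ℕ → G}
    (h₁ : SeqCongr N u u') (h₂ : SeqCongr N v v') : SeqCongr N (u * v) (u' * v') := fun n => by
  have e : ((u * v) n)⁻¹ * (u' * v') n =
      (v n)⁻¹ * ((u n)⁻¹ * u' n) * (v n)⁻¹⁻¹ * ((v n)⁻¹ * v' n) := by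
    simp only [Pi.mul_apply]; group
  rw [e]
  exact mul_mem (hN.conj_mem _ (h₁ n) _) (h₂ n)

theorem SeqCongr.inv {N : Subgroup G} [hN : N.Normal] {u v : ℕ → G} (h : SeqCongr N u v) :
    SeqCongr N u⁻¹ v⁻¹ := fun n => by
  have e : ((u⁻¹) n)⁻¹ * (v⁻¹) n = (u n) * ((u n)⁻¹ * v n)⁻¹ * (u n)⁻¹ := by
    simp only [Pi.inv_apply]; group
  rw [e]
  exact hN.conj_mem _ (inv_mem (h n)) _

theorem SeqCongr.mul_of_mem {N : Subgroup G} {u v w : ℕ → G}
    (h : SeqCongr N u v) (hw : ∀ n, w n ∈ N) : SeqCongr N u (v * w) := fun n => by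
  have e : (u n)⁻¹ * (v * w) n = ((u n)⁻¹ * v n) * w n := by
    simp only [Pi.mul_apply]; group
  rw [e]; exact mul_mem (h n) (hw n)

theorem iterate_D_one (k : ℕ) : D^[k] (1 : ℕ → G) = 1 := by
  induction k with
  | zero => rfl
  | succ k ih =>
    rw [Function.iterate_succ_apply]
    have : D (1 : ℕ → G) = 1 := by funext n; simp
    rw [this, ih]

theorem IsPolyAll.deriv {F : ℕ → Subgroup G} {d : ℕ} {f : ℕ → G} (hf : IsPolyAll F d f) :
    IsPolyAll F (d + 1) (D f) := fun k => (hf (k + 1)).2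

theorem IsPolyAll.iterate_mem {F : ℕ → Subgroup G} {d : ℕ} {f : ℕ → G} (hf : IsPolyAll F d f)
    (k n : ℕ) : (D^[k] f) n ∈ F (d + k) := (hf k).iterate k le_rfl n

/-- Multiplicativity of the `k`-th derivative modulo `F (d + k + 1)` for shift `d ≥ 1`. -/
theorem iterate_D_mul_congr {F : ℕ → Subgroup G} (hF : IsFilt F) (hN : ∀ i, (F i).Normal)
    (k : ℕ) : ∀ (d : ℕ), 1 ≤ d → ∀ f g : ℕ → G, IsPolyAll F d f → IsPolyAll F d g →
      SeqCongr (F (d + k + 1)) (D^[k] (f * g)) (D^[k] f * D^[k] g) := by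
  induction k with
  | zero => intro d _ f g _ _; exact SeqCongr.refl _ _
  | succ k ih =>
    intro d hd f g hf hg
    have hn : (F (d + (k + 1) + 1)).Normal := hN _
    simp only [Function.iterate_succ_apply]
    rw [D_mul]
    have hA : IsPolyAll F (d + 1) (D f) := hf.deriv
    have hC : IsPolyAll F (d + 1) (D g) := hg.deriv
    have hB2 : IsPolyAll F (d + 1 + 1) ⁅f, D g⁆ :=
      (hf.comm hF hC).mono_d hF (by omega)
    have hB : IsPolyAll F (d + 1) ⁅f, D g⁆ := hB2.mono_d hF (by omega)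
    have h1 := ih (d + 1) (by omega) (D f * ⁅f, D g⁆) (D g) (hA.mul hF hB) hC
    have h2 := ih (d + 1) (by omega) (D f) ⁅f, D g⁆ hA hB
    have e : d + 1 + k + 1 = d + (k + 1) + 1 := by omega
    rw [e] at h1 h2
    have hBk : ∀ n, (D^[k] ⁅f, D g⁆) n ∈ F (d + (k + 1) + 1) := fun n => by
      have := IsPolyAll.iterate_mem hB2 k n
      rwa [show d + 1 + 1 + k = d + (k + 1) + 1 by omega] at this
    have h3 : SeqCongr (F (d + (k + 1) + 1)) (D^[k] (D f) * D^[k] ⁅f, D g⁆) (D^[k] (D f)) := by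
      apply SeqCongr.symm
      exact (SeqCongr.refl _ _).mul_of_mem hBk
    exact h1.trans ((h2.trans h3).mul (SeqCongr.refl _ _))

theorem iterate_D_inv_congr {F : ℕ → Subgroup G} (hF : IsFilt F) (hN : ∀ i, (F i).Normal)
    (k : ℕ) (d : ℕ) (hd : 1 ≤ d) (f : ℕ → G) (hf : IsPolyAll F d f) :
    SeqCongr (F (d + k + 1)) (D^[k] f⁻¹) (D^[k] f)⁻¹ := by
  have hn : (F (d + k + 1)).Normal := hN _
  have h := iterate_D_mul_congr hF hN k d hd f f⁻¹ hf (hf.inv hF)
  rw [mul_inv_cancel, iterate_D_one] at h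
  intro n
  have h' := inv_mem (h n)
  have e : ((D^[k] f⁻¹) n)⁻¹ * ((D^[k] f)⁻¹) n =
      (((1 : ℕ → G) n)⁻¹ * (D^[k] f * D^[k] f⁻¹) n)⁻¹ := by
    simp only [Pi.mul_apply, Pi.inv_apply, Pi.one_apply]; group
  rw [e]
  exact h'

theorem iterate_D_bin (g : G) (i : ℕ) : ∀ k, i < k → D^[k] (bin g i) = 1 := by
  induction i with
  | zero =>
    intro k hk
    obtain ⟨k, rfl⟩ : ∃ k', k = k' + 1 := ⟨k - 1, by omega⟩
    rw [Function.iterate_succ_apply, D_bin_zero, iterate_D_one]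
  | succ i ih =>
    intro k hk
    obtain ⟨k, rfl⟩ : ∃ k', k = k' + 1 := ⟨k - 1, by omega⟩
    rw [Function.iterate_succ_apply, D_bin_succ]
    exact ih k (by omega)

/-- **Taylor expansion with symbols**: a sequence which is polynomial of shift `d ≥ 1` is
`f n = ∏_{i ≤ n} c i ^ C(n,i)` with `c i ∈ F (d + i)` and `c i ≡ (D^[i] f) 0` modulo
`F (d + i + 1)`. -/
theorem taylor_symbol {F : ℕ → Subgroup G} (hF : IsFilt F) (hN : ∀ i, (F i).Normal) {d : ℕ}
    (hd : 1 ≤ d) {f : ℕ → G} (hf : IsPolyAll F d f) :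
    (∀ i, coeff f i ∈ F (d + i)) ∧ (∀ i, ((D^[i] f) 0)⁻¹ * coeff f i ∈ F (d + i + 1)) ∧
      ∀ n, f n = tprod (coeff f) n (n + 1) := by
  have hF' := isFilt_shiftF hF d
  have hf' : IsPolyAll (shiftF F d) 0 f := (isPolyAll_shiftF F d 0 f).2 hf
  obtain ⟨h1, h2⟩ := taylor hF' hf'
  refine ⟨h1, ?_, h2⟩
  -- the remainders are congruent to `f` in high derivatives
  have hrem : ∀ i, IsPolyAll F d (rem f i) := fun i =>
    (isPolyAll_shiftF F d 0 _).1 (rem_poly hF' hf' i).1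
  have key : ∀ i, ∀ k, i ≤ k → SeqCongr (F (d + k + 1)) (D^[k] f) (D^[k] (rem f i)) := by
    intro i
    induction i with
    | zero => intro k _; exact SeqCongr.refl _ _
    | succ i ih =>
      intro k hk
      have hn : (F (d + k + 1)).Normal := hN _
      have hb : IsPolyAll F d (bin (coeff f i) i) :=
        (isPolyAll_shiftF F d 0 _).1 (isPolyAll_bin hF'.anti (h1 i))
      rw [rem_succ]
      have hm := iterate_D_mul_congr hF hN k d hd _ _ (hb.inv hF) (hrem i)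
      have hi := iterate_D_inv_congr hF hN k d hd _ hb
      rw [iterate_D_bin _ i k (by omega), inv_one] at hi
      have h3 : SeqCongr (F (d + k + 1)) (D^[k] (bin (coeff f i) i)⁻¹ * D^[k] (rem f i))
          (D^[k] (rem f i)) := by
        have := (hi.mul (SeqCongr.refl _ (D^[k] (rem f i))))
        rwa [one_mul] at this
      exact (ih k (by omega)).trans (h3.symm.trans hm.symm)
  intro i
  have := key i i le_rfl 0
  rwa [iterate_D_zero_of_vanish i _ (rem_vanish f i)] at this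

/-- The orbit of `w` under conjugation by the powers of `s`. -/
def conjSeq (s w : G) : ℕ → G := fun n => s ^ n * w * (s ^ n)⁻¹

@[simp] theorem conjSeq_apply (s w : G) (n : ℕ) : conjSeq s w n = s ^ n * w * (s ^ n)⁻¹ := rfl

theorem D_conjSeq (s w : G) : D (conjSeq s w) = conjSeq s ⁅s, w⁆ := by
  funext n
  simp only [D_apply, conjSeq_apply, commutatorElement_def, pow_succ]
  group

/-- Iterated commutator `⁅s, ⁅s, … ⁅s, w⁆⁆⁆` (`k` times). -/
def adIter (s : G) (k : ℕ) (w : G) : G := (fun v => ⁅s, v⁆)^[k] w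

@[simp] theorem adIter_zero (s w : G) : adIter s 0 w = w := rfl

theorem adIter_succ (s : G) (k : ℕ) (w : G) : adIter s (k + 1) w = adIter s k ⁅s, w⁆ := by
  rw [adIter, Function.iterate_succ_apply]; rfl

theorem adIter_succ' (s : G) (k : ℕ) (w : G) : adIter s (k + 1) w = ⁅s, adIter s k w⁆ := by
  rw [adIter, Function.iterate_succ_apply']; rfl

theorem iterate_D_conjSeq (s : G) (k : ℕ) : ∀ w : G, D^[k] (conjSeq s w) = conjSeq s (adIter s k w) := by
  induction k with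
  | zero => intro w; rfl
  | succ k ih => intro w; rw [Function.iterate_succ_apply, D_conjSeq, ih, adIter_succ]

theorem isPoly_conjSeq {F : ℕ → Subgroup G} (hF : IsFilt F) (hN : ∀ i, (F i).Normal) {s : G}
    (hs : s ∈ F 1) (k : ℕ) : ∀ (m : ℕ) (w : G), w ∈ F m → IsPoly F m k (conjSeq s w) := by
  induction k with
  | zero => intro m w hw n; exact (hN m).conj_mem _ hw _
  | succ k ih =>
    intro m w hw
    refine ⟨fun n => (hN m).conj_mem _ hw _, ?_⟩
    rw [D_conjSeq]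
    apply ih
    have := hF.comm 1 m (Subgroup.commutator_mem_commutator hs hw)
    rwa [add_comm] at this

theorem isPolyAll_conjSeq {F : ℕ → Subgroup G} (hF : IsFilt F) (hN : ∀ i, (F i).Normal) {s : G}
    (hs : s ∈ F 1) {m : ℕ} {w : G} (hw : w ∈ F m) : IsPolyAll F m (conjSeq s w) :=
  fun k => isPoly_conjSeq hF hN hs k m w hw

/-- **Expansion of conjugation by powers**: for `s ∈ F 1`, `w ∈ F m` (`m ≥ 1`),
`s ^ n * w * s ^ (-n) = ∏_{k ≤ n} c k ^ C(n,k)` with `c 0 = w`, `c k ∈ F (m + k)` and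
`c k ≡ ⁅s, … ⁅s, w⁆⁆` (`k` times) modulo `F (m + k + 1)`. -/
theorem conj_pow_expansion {F : ℕ → Subgroup G} (hF : IsFilt F) (hN : ∀ i, (F i).Normal) {s : G}
    (hs : s ∈ F 1) {m : ℕ} (hm : 1 ≤ m) {w : G} (hw : w ∈ F m) :
    ∃ c : ℕ → G, c 0 = w ∧ (∀ k, c k ∈ F (m + k)) ∧
      (∀ k, (adIter s k w)⁻¹ * c k ∈ F (m + k + 1)) ∧
      ∀ n, s ^ n * w * (s ^ n)⁻¹ = tprod c n (n + 1) := by
  obtain ⟨h1, h2, h3⟩ := taylor_symbol hF hN hm (isPolyAll_conjSeq hF hN hs hw)
  refine ⟨coeff (conjSeq s w), by simp [coeff, rem], h1, fun k => ?_, fun n => h3 n⟩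
  have := h2 k
  rwa [iterate_D_conjSeq, conjSeq_apply, pow_zero, one_mul, inv_one, mul_one] at this

/-- The sequence `n ↦ s ^ (-n) * (s * y) ^ n`. -/
def mulPowSeq (s y : G) : ℕ → G := fun n => (s ^ n)⁻¹ * (s * y) ^ n

theorem D_mulPowSeq (s y : G) : D (mulPowSeq s y) = conjSeq s⁻¹ y := by
  funext n
  simp only [D_apply, mulPowSeq, conjSeq_apply]
  rw [pow_succ' (s * y) n, mul_inv_rev, inv_inv]
  generalize (s * y) ^ n = t
  group

theorem mulPowSeq_mem {F : ℕ → Subgroup G} (hN : ∀ i, (F i).Normal) {s y : G} {m : ℕ}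
    (hy : y ∈ F m) (n : ℕ) : mulPowSeq s y n ∈ F m := by
  induction n with
  | zero => simp [mulPowSeq]
  | succ n ih =>
    have e : mulPowSeq s y (n + 1) = D (mulPowSeq s y) n * mulPowSeq s y n := by
      simp [D_apply]
    rw [e, D_mulPowSeq]
    exact mul_mem ((hN m).conj_mem _ hy _) ih

/-- **Expansion of powers of a product**: for `s ∈ F 1`, `y ∈ F (d + 1)` (`d ≥ 1`),
`(s * y) ^ n = s ^ n * ∏_{k ≤ n} c k ^ C(n,k)` with `c 0 = 1`, `c (k+1) ∈ F (d + k + 1)` and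
`c (k+1) ≡ ⁅s⁻¹, … ⁅s⁻¹, y⁆⁆` (`k` times) modulo `F (d + k + 2)`. -/
theorem mul_pow_expansion {F : ℕ → Subgroup G} (hF : IsFilt F) (hN : ∀ i, (F i).Normal) {s : G}
    (hs : s ∈ F 1) {d : ℕ} (hd : 1 ≤ d) {y : G} (hy : y ∈ F (d + 1)) :
    ∃ c : ℕ → G, c 0 = 1 ∧ (∀ k, c (k + 1) ∈ F (d + k + 1)) ∧
      (∀ k, (adIter s⁻¹ k y)⁻¹ * c (k + 1) ∈ F (d + k + 2)) ∧
      ∀ n, (s * y) ^ n = s ^ n * tprod c n (n + 1) := by
  have hpoly : IsPolyAll F d (mulPowSeq s y) := by
    intro k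
    cases k with
    | zero => exact fun n => hF.anti (by omega : d ≤ d + 1) (mulPowSeq_mem hN hy n)
    | succ k =>
      refine ⟨fun n => hF.anti (by omega : d ≤ d + 1) (mulPowSeq_mem hN hy n), ?_⟩
      rw [D_mulPowSeq]
      exact isPoly_conjSeq hF hN (inv_mem hs) k (d + 1) y hy
  obtain ⟨h1, h2, h3⟩ := taylor_symbol hF hN hd hpoly
  refine ⟨coeff (mulPowSeq s y), by simp [coeff, rem, mulPowSeq], fun k => ?_, fun k => ?_,
    fun n => ?_⟩
  · have := h1 (k + 1)
    rwa [show d + (k + 1) = d + k + 1 by omega] at this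
  · have := h2 (k + 1)
    rw [Function.iterate_succ_apply, D_mulPowSeq, iterate_D_conjSeq, conjSeq_apply, pow_zero,
      one_mul, inv_one, mul_one] at this
    rwa [show d + (k + 1) + 1 = d + k + 2 by omega] at this
  · rw [← h3 n, mulPowSeq, mul_inv_cancel_left]

end Cfsg.Agent.Helper8.HP
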