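import Cfsg.Agent.Helper8.PolySymbol

/-!
# Symbol calculus without normality hypotheses

Same results as in `PolySymbol`, but for an arbitrary filtration `F` (`IsFilt F`): the terms
`F i` are normalized by `F 0`, which contains all the values of the sequences considered.
-/

set_option autoImplicit false

namespace Cfsg.Agent.Helper8.HP

open scoped commutatorElement

variable {G : Type*} [Group G]

theorem IsFilt.conj_mem {F : ℕ → Subgroup G} (hF : IsFilt F) {g x : G} {i : ℕ} (hg : g ∈ F 0)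
    (hx : x ∈ F i) : g * x * g⁻¹ ∈ F i := by
  have h1 : ⁅g, x⁆ ∈ F i := by
    have := hF.comm 0 i (Subgroup.commutator_mem_commutator hg hx)
    rwa [zero_add] at this
  have : g * x * g⁻¹ = ⁅g, x⁆ * x := by rw [commutatorElement_def]; group
  rw [this]; exact mul_mem h1 hx

theorem IsFilt.mem_zero {F : ℕ → Subgroup G} (hF : IsFilt F) {x : G} {i : ℕ} (hx : x ∈ F i) :
    x ∈ F 0 := hF.anti (Nat.zero_le i) hx

theorem SeqCongr.mul_of_norm {N : Subgroup G} {u v u' v' : ℕ → G}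
    (hv : ∀ n, ∀ x ∈ N, (v n)⁻¹ * x * (v n)⁻¹⁻¹ ∈ N)
    (h₁ : SeqCongr N u u') (h₂ : SeqCongr N v v') : SeqCongr N (u * v) (u' * v') := fun n => by
  have e : ((u * v) n)⁻¹ * (u' * v') n =
      (v n)⁻¹ * ((u n)⁻¹ * u' n) * (v n)⁻¹⁻¹ * ((v n)⁻¹ * v' n) := by
    simp only [Pi.mul_apply]; group
  rw [e]
  exact mul_mem (hv n _ (h₁ n)) (h₂ n)

/-- Multiplicativity of the `k`-th derivative modulo `F (d + k + 1)` for shift `d ≥ 1`
(no normality hypothesis). -/
theorem iterate_D_mul_congr' {F : ℕ → Subgroup G} (hF : IsFilt F)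
    (k : ℕ) : ∀ (d : ℕ), 1 ≤ d → ∀ f g : ℕ → G, IsPolyAll F d f → IsPolyAll F d g →
      SeqCongr (F (d + k + 1)) (D^[k] (f * g)) (D^[k] f * D^[k] g) := by
  induction k with
  | zero => intro d _ f g _ _; exact SeqCongr.refl _ _
  | succ k ih =>
    intro d hd f g hf hg
    simp only [Function.iterate_succ_apply]
    rw [D_mul]
    have hA : IsPolyAll F (d + 1) (D f) := hf.deriv
    have hC : IsPolyAll F (d + 1) (D g) := hg.deriv
    have hB2 : IsPolyAll F (d + 1 + 1) ⁅f, D g⁆ :=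
      (hf.comm hF hC).mono_d hF (by omega)
    have hB : IsPolyAll F (d + 1) ⁅f, D g⁆ := hB2.mono_d hF (by omega)
    have h1 := ih (d + 1) (by omega) (D f * ⁅f, D g⁆) (D g) (hA.mul hF hB) hC
    have h2 := ih (d + 1) (by omega) (D f) ⁅f, D g⁆ hA hB
    have e : d + 1 + k + 1 = d + (k + 1) + 1 := by omega
    rw [e] at h1 h2
    have hBk : ∀ n, (D^[k] ⁅f, D g⁆) n ∈ F (d + (k + 1) + 1) := fun n => by
      have := IsPolyAll.iterate_mem hB2 k n
      rwa [show d + 1 + 1 + k = d + (k + 1) + 1 by omega] at this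
    have h3 : SeqCongr (F (d + (k + 1) + 1)) (D^[k] (D f) * D^[k] ⁅f, D g⁆) (D^[k] (D f)) := by
      apply SeqCongr.symm
      exact (SeqCongr.refl _ _).mul_of_mem hBk
    have hnorm : ∀ n, ∀ x ∈ F (d + (k + 1) + 1),
        ((D^[k] (D g)) n)⁻¹ * x * ((D^[k] (D g)) n)⁻¹⁻¹ ∈ F (d + (k + 1) + 1) := by
      intro n x hx
      exact hF.conj_mem (inv_mem (hF.mem_zero (IsPolyAll.iterate_mem hC k n))) hx
    exact h1.trans (SeqCongr.mul_of_norm hnorm (h2.trans h3) (SeqCongr.refl _ _))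

theorem iterate_D_inv_congr' {F : ℕ → Subgroup G} (hF : IsFilt F)
    (k : ℕ) (d : ℕ) (hd : 1 ≤ d) (f : ℕ → G) (hf : IsPolyAll F d f) :
    SeqCongr (F (d + k + 1)) (D^[k] f⁻¹) (D^[k] f)⁻¹ := by
  have h := iterate_D_mul_congr' hF k d hd f f⁻¹ hf (hf.inv hF)
  rw [mul_inv_cancel, iterate_D_one] at h
  intro n
  have h' := inv_mem (h n)
  have e : ((D^[k] f⁻¹) n)⁻¹ * ((D^[k] f)⁻¹) n =
      (((1 : ℕ → G) n)⁻¹ * (D^[k] f * D^[k] f⁻¹) n)⁻¹ := by
    simp only [Pi.mul_apply, Pi.inv_apply, Pi.one_apply]; group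
  rw [e]
  exact h'

/-- **Taylor expansion with symbols**, no normality hypothesis. -/
theorem taylor_symbol' {F : ℕ → Subgroup G} (hF : IsFilt F) {d : ℕ}
    (hd : 1 ≤ d) {f : ℕ → G} (hf : IsPolyAll F d f) :
    (∀ i, coeff f i ∈ F (d + i)) ∧ (∀ i, ((D^[i] f) 0)⁻¹ * coeff f i ∈ F (d + i + 1)) ∧
      ∀ n, f n = tprod (coeff f) n (n + 1) := by
  have hF' := isFilt_shiftF hF d
  have hf' : IsPolyAll (shiftF F d) 0 f := (isPolyAll_shiftF F d 0 f).2 hf
  obtain ⟨h1, h2⟩ := taylor hF' hf'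
  refine ⟨h1, ?_, h2⟩
  have hrem : ∀ i, IsPolyAll F d (rem f i) := fun i =>
    (isPolyAll_shiftF F d 0 _).1 (rem_poly hF' hf' i).1
  have key : ∀ i, ∀ k, i ≤ k → SeqCongr (F (d + k + 1)) (D^[k] f) (D^[k] (rem f i)) := by
    intro i
    induction i with
    | zero => intro k _; exact SeqCongr.refl _ _
    | succ i ih =>
      intro k hk
      have hb : IsPolyAll F d (bin (coeff f i) i) :=
        (isPolyAll_shiftF F d 0 _).1 (isPolyAll_bin hF'.anti (h1 i))
      rw [rem_succ]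
      have hm := iterate_D_mul_congr' hF k d hd _ _ (hb.inv hF) (hrem i)
      have hi := iterate_D_inv_congr' hF k d hd _ hb
      rw [iterate_D_bin _ i k (by omega), inv_one] at hi
      have hnorm : ∀ n, ∀ x ∈ F (d + k + 1),
          ((D^[k] (rem f i)) n)⁻¹ * x * ((D^[k] (rem f i)) n)⁻¹⁻¹ ∈ F (d + k + 1) := by
        intro n x hx
        exact hF.conj_mem (inv_mem (hF.mem_zero (IsPolyAll.iterate_mem (hrem i) k n))) hx
      have h3 : SeqCongr (F (d + k + 1)) (D^[k] (bin (coeff f i) i)⁻¹ * D^[k] (rem f i))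
          (D^[k] (rem f i)) := by
        have := SeqCongr.mul_of_norm hnorm hi (SeqCongr.refl _ (D^[k] (rem f i)))
        rwa [one_mul] at this
      exact (ih k (by omega)).trans (h3.symm.trans hm.symm)
  intro i
  have := key i i le_rfl 0
  rwa [iterate_D_zero_of_vanish i _ (rem_vanish f i)] at this

end Cfsg.Agent.Helper8.HP
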