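import Mathlib

set_option autoImplicit false

/-! Points of a subspace in the projective space over a finite field. -/

namespace Cfsg.Agent.Helper8.ProjPts

open Projectivization Module

variable {F V : Type*} [Field F] [AddCommGroup V] [Module F V]

/-- The points of the projective space lying in the subspace `W`. -/
def pts (W : Submodule F V) : Set (Projectivization F V) := {x | x.rep ∈ W}

theorem mem_pts_mk (W : Submodule F V) (v : V) (hv : v ≠ 0) :
    Projectivization.mk F v hv ∈ pts W ↔ v ∈ W := by
  obtain ⟨a, ha⟩ := exists_smul_eq_mk_rep F v hv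
  show (Projectivization.mk F v hv).rep ∈ W ↔ v ∈ W
  rw [← ha]
  constructor
  · intro h
    have h2 := W.smul_mem ((a⁻¹ : Fˣ) : F) h
    rwa [Units.smul_def, smul_smul, Units.inv_mul, one_smul] at h2
  · intro h
    rw [Units.smul_def]
    exact W.smul_mem _ h

theorem mem_pts_iff (W : Submodule F V) (x : Projectivization F V) : x ∈ pts W ↔ x.rep ∈ W := Iff.rfl

/-- The points of `W` are in bijection with the projectivization of `W`. -/
theorem card_pts_eq (W : Submodule F V) : Nat.card (pts W) = Nat.card (Projectivization F W) := by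
  symm
  apply Nat.card_congr
  refine Equiv.ofBijective
    (fun y : Projectivization F W => (⟨Projectivization.map W.subtype W.injective_subtype y, ?_⟩ : pts W)) ⟨?_, ?_⟩
  · induction y using Projectivization.ind with
    | h w hw =>
      rw [map_mk, mem_pts_mk]
      exact w.2
  · intro y z hyz
    have := congrArg Subtype.val hyz
    exact map_injective (σ := RingHom.id F) (τ := RingHom.id F) W.subtype W.injective_subtype this
  · rintro ⟨x, hx⟩
    have hx0 : (⟨x.rep, hx⟩ : W) ≠ 0 := by
      intro h
      exact x.rep_nonzero (congrArg Subtype.val h)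
    refine ⟨Projectivization.mk F (⟨x.rep, hx⟩ : W) hx0, ?_⟩
    apply Subtype.ext
    show Projectivization.map W.subtype W.injective_subtype
      (Projectivization.mk F (⟨x.rep, hx⟩ : W) hx0) = x
    rw [map_mk]
    exact mk_rep x

theorem card_pts_mul [Finite F] (W : Submodule F V) :
    Nat.card (pts W) * (Nat.card F - 1) = Nat.card W - 1 := by
  rw [card_pts_eq]
  exact (Projectivization.card F W).symm

/-- `c (q - 1) = q^k - 1` with `k ≥ 1` forces `c ≡ 1 (mod q)`. -/
theorem cast_eq_one_of_mul (q c k : ℕ) (hq : 2 ≤ q) (hk : 1 ≤ k)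
    (h : c * (q - 1) = q ^ k - 1) : (c : ZMod q) = 1 := by
  have h1 : 1 ≤ q ^ k := Nat.one_le_pow _ _ (by omega)
  have h2 : c * (q - 1) + 1 = q ^ k := by omega
  have h3 := congrArg (fun m : ℕ => (m : ZMod q)) h2
  simp only [Nat.cast_add, Nat.cast_mul, Nat.cast_one, Nat.cast_pow] at h3
  rw [Nat.cast_sub (by omega : 1 ≤ q), ZMod.natCast_self, Nat.cast_one, zero_sub,
    zero_pow (by omega : k ≠ 0)] at h3
  linear_combination -h3

/-- The number of points of a nonzero subspace is `≡ 1 (mod q)`. -/
theorem card_pts_mod [Finite F] [Module.Finite F V] (W : Submodule F V) (hW : W ≠ ⊥) :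
    ((Nat.card (pts W) : ℕ) : ZMod (Nat.card F)) = 1 := by
  have hq : 2 ≤ Nat.card F := Finite.one_lt_card
  have hk : 1 ≤ finrank F W := by
    rw [Nat.one_le_iff_ne_zero]
    intro h
    apply hW
    exact Submodule.finrank_eq_zero.mp h
  apply cast_eq_one_of_mul (Nat.card F) _ (finrank F W) hq hk
  rw [card_pts_mul, Module.natCard_eq_pow_finrank (K := F) (V := W)]

end Cfsg.Agent.Helper8.ProjPts
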