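import Mathlib
import Cfsg.Agent.S0058
import Cfsg.Agent.Helper4.CopAutC
import Cfsg.Agent.Helper8.QEA

/-!
# A noncyclic abelian group of odd automorphisms of a `2`-group: the set-up

Fixed points, invariant subgroups, generation by the fixed points of the nonidentity elements and
the fixed point congruence.
-/

set_option autoImplicit false

namespace Cfsg.Agent.Helper8.QE

open SemidirectProduct

variable {W : Type*} [Group W]

/-- the fixed points of one automorphism. -/
def Fx (e : MulAut W) : Subgroup W where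
  carrier := {x | e x = x}
  mul_mem' := by
    intro a b ha hb
    simp only [Set.mem_ofPred_eq] at *
    rw [map_mul, ha, hb]
  one_mem' := map_one e
  inv_mem' := by
    intro a ha
    simp only [Set.mem_ofPred_eq] at *
    rw [map_inv, ha]

theorem mem_Fx {e : MulAut W} {x : W} : x ∈ Fx e ↔ e x = x := Iff.rfl

/-- the common fixed points of a group of automorphisms. -/
def CE (E : Subgroup (MulAut W)) : Subgroup W where
  carrier := {x | ∀ e ∈ E, e x = x}
  mul_mem' := by
    intro a b ha hb e he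
    rw [map_mul, ha e he, hb e he]
  one_mem' := fun e _ => map_one e
  inv_mem' := by
    intro a ha e he
    rw [map_inv, ha e he]

theorem mem_CE {E : Subgroup (MulAut W)} {x : W} : x ∈ CE E ↔ ∀ e ∈ E, e x = x := Iff.rfl

/-- invariant subgroups. -/
def EInv (E : Subgroup (MulAut W)) (X : Subgroup W) : Prop := ∀ e ∈ E, ∀ x ∈ X, e x ∈ X

theorem CE_le_Fx {E : Subgroup (MulAut W)} {e : MulAut W} (he : e ∈ E) : CE E ≤ Fx e :=
  fun _ hx => hx e he

theorem EInv_top (E : Subgroup (MulAut W)) : EInv E ⊤ := fun _ _ _ _ => Subgroup.mem_top _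

theorem EInv_CE (E : Subgroup (MulAut W)) : EInv E (CE E) := by
  intro e he x hx
  rw [hx e he]; exact hx

theorem EInv.inf {E : Subgroup (MulAut W)} {X Y : Subgroup W} (hX : EInv E X) (hY : EInv E Y) :
    EInv E (X ⊓ Y) := fun e he x hx => ⟨hX e he x hx.1, hY e he x hx.2⟩

theorem EInv.inv_apply_mem {E : Subgroup (MulAut W)} {X : Subgroup W} (hX : EInv E X)
    {e : MulAut W} (he : e ∈ E) {x : W} (hx : x ∈ X) : e⁻¹ x ∈ X := hX e⁻¹ (E.inv_mem he) x hx

theorem EInv_center (E : Subgroup (MulAut W)) : EInv E (Subgroup.center W) := by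
  intro e _ x hx
  rw [Subgroup.mem_center_iff] at hx ⊢
  intro g
  have h := congrArg e (hx (e⁻¹ g))
  rw [map_mul, map_mul, MulAut.apply_inv_self] at h
  exact h

theorem EInv.centralizer {E : Subgroup (MulAut W)} {X : Subgroup W} (hX : EInv E X) :
    EInv E (Subgroup.centralizer (X : Set W)) := by
  intro e he x hx
  rw [Subgroup.mem_centralizer_iff] at hx ⊢
  intro g hg
  have h := congrArg e (hx (e⁻¹ g) (hX.inv_apply_mem he hg))
  rw [map_mul, map_mul, MulAut.apply_inv_self] at h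
  exact h

/-- the hypotheses. -/
structure Hyp (p : ℕ) (E : Subgroup (MulAut W)) : Prop where
  hW : IsPGroup 2 W
  hp : p ≠ 2
  hE : IsPGroup p ↥E
  hab : ∀ a ∈ E, ∀ b ∈ E, a * b = b * a
  hnc : ¬ IsCyclic ↥E
  hfix : ∀ e ∈ E, e ≠ 1 → ∀ x y : W, orderOf x = 2 → orderOf y = 2 → e x = x → e y = y → x = y

variable {p : ℕ} {E : Subgroup (MulAut W)}

theorem Hyp.EInv_Fx (H : Hyp p E) {e : MulAut W} (he : e ∈ E) : EInv E (Fx e) := by
  intro f hf x hx
  rw [mem_Fx] at hx ⊢
  have h1 : e (f x) = (e * f) x := rfl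
  rw [h1, H.hab e he f hf, MulAut.mul_apply, hx]

variable [Finite W] [hpp : Fact p.Prime]

omit [Finite W] in
theorem Hyp.p_odd (H : Hyp p E) : Odd p := hpp.out.odd_of_ne_two H.hp

/-- **Generation.** -/
theorem Hyp.gen (H : Hyp p E) {X Y : Subgroup W} (hX : EInv E X)
    (h : ∀ e ∈ E, e ≠ 1 → X ⊓ Fx e ≤ Y) : X ≤ Y := by
  classical
  let φ : ↥E →* MulAut W := E.subtype
  have hfin : Finite (W ⋊[φ] ↥E) := Cfsg.Agent.Helper4.CopAut.finite_sdp φ
  let A : Subgroup (W ⋊[φ] ↥E) := (inr : ↥E →* W ⋊[φ] ↥E).range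
  let K : Subgroup (W ⋊[φ] ↥E) := X.map (inl : W →* W ⋊[φ] ↥E)
  have hEc : IsMulCommutative ↥E := ⟨⟨fun a b => Subtype.ext (H.hab a a.2 b b.2)⟩⟩
  have hAc : IsMulCommutative ↥A := Subgroup.range_isMulCommutative _
  have hAnc : ¬ IsCyclic ↥A := by
    intro hc
    apply H.hnc
    let f := (MonoidHom.ofInjective (inr_injective (φ := φ))).symm
    exact isCyclic_of_surjective f.toMonoidHom f.surjective
  have hAK : A ≤ Subgroup.normalizer (K : Set (W ⋊[φ] ↥E)) := by
    apply Cfsg.Agent.Helper4.CopAut.le_normalizer_of_conj_mem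
    rintro _ ⟨e, rfl⟩ _ ⟨x, hx, rfl⟩
    rw [Cfsg.Agent.Helper4.CopAut.inr_conj_inl]
    exact Subgroup.mem_map_of_mem _ (hX e e.2 x hx)
  have hcop : (Nat.card A).Coprime (Nat.card K) := by
    have h1 : Nat.card A = Nat.card ↥E :=
      (Nat.card_congr (MonoidHom.ofInjective (inr_injective (φ := φ))).toEquiv).symm
    have h2 : Nat.card K = Nat.card X := Subgroup.card_map_of_injective inl_injective
    obtain ⟨a, ha⟩ := H.hE.exists_card_eq
    obtain ⟨b, hb⟩ := (H.hW.to_subgroup X).exists_card_eq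
    rw [h1, h2, ha, hb]
    apply Nat.Coprime.pow
    exact (Nat.coprime_primes hpp.out Nat.prime_two).2 H.hp
  have key := Cfsg.Agent.S0058.result A K hAnc hAK hcop
  have hK : K ≤ Y.map (inl : W →* W ⋊[φ] ↥E) := by
    rw [← key]
    apply iSup₂_le
    rintro a ⟨⟨e, rfl⟩, ha1⟩
    rintro g ⟨⟨x, hx, rfl⟩, hgc⟩
    have hgc' : (inl x : W ⋊[φ] ↥E) ∈ Subgroup.centralizer {(inr e : W ⋊[φ] ↥E)} := hgc
    rw [Subgroup.mem_centralizer_iff] at hgc'
    have h1 := hgc' (inr e) rfl
    have h2 : (inr e : W ⋊[φ] ↥E) * inl x * (inr e)⁻¹ = inl x := by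
      rw [h1, mul_inv_cancel_right]
    rw [Cfsg.Agent.Helper4.CopAut.inr_conj_inl] at h2
    have h3 : (e : MulAut W) x = x := inl_injective h2
    have he1 : (e : MulAut W) ≠ 1 := by
      intro h4
      apply ha1
      have : e = 1 := Subtype.ext h4
      rw [this, map_one]
    exact Subgroup.mem_map_of_mem _ (h e e.2 he1 ⟨hx, h3⟩)
  intro x hx
  have h1 : (inl x : W ⋊[φ] ↥E) ∈ Y.map (inl : W →* W ⋊[φ] ↥E) :=
    hK (Subgroup.mem_map_of_mem _ hx)
  exact (Cfsg.Agent.Helper4.CopAut.inl_mem_map_iff φ Y x).1 h1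

/-- **The fixed point congruence.** -/
theorem Hyp.card_modEq (H : Hyp p E) {X : Subgroup W} (hX : EInv E X) :
    Nat.card X ≡ Nat.card ↥(X ⊓ CE E) [MOD p] := by
  let _ : MulAction ↥E ↥X :=
    { smul := fun e x => ⟨(e : MulAut W) x, hX e e.2 x x.2⟩
      one_smul := fun x => Subtype.ext rfl
      mul_smul := fun a b x => Subtype.ext rfl }
  have h := H.hE.card_modEq_card_fixedPoints ↥X
  have e : MulAction.fixedPoints ↥E ↥X ≃ ↥(X ⊓ CE E) :=
    { toFun := fun x => ⟨x.1.1, x.1.2, fun e he => congrArg Subtype.val (x.2 ⟨e, he⟩)⟩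
      invFun := fun y => ⟨⟨y.1, y.2.1⟩, fun e => Subtype.ext (y.2.2 e.1 e.2)⟩
      left_inv := fun _ => rfl
      right_inv := fun _ => rfl }
  rw [Nat.card_congr e] at h
  exact h

end Cfsg.Agent.Helper8.QE
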