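import Mathlib
import Cfsg.Agent.Helper8.QEB

/-!
# Special elements: fixed points of order `8`, the prime is `3`, invariant subgroups
-/

set_option autoImplicit false

namespace Cfsg.Agent.Helper8.QE

variable {W : Type*} [Group W] {p : ℕ} {E : Subgroup (MulAut W)}

/-- an element of `E` on whose fixed points `E` acts nontrivially. -/
def Spec (E : Subgroup (MulAut W)) (e : MulAut W) : Prop := e ∈ E ∧ e ≠ 1 ∧ ¬ Fx e ≤ CE E

theorem exists_invol [Finite W] (X : Subgroup W) (h : 2 ∣ Nat.card X) :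
    ∃ t ∈ X, orderOf t = 2 := by
  obtain ⟨x, hx⟩ := exists_prime_orderOf_dvd_card' (G := X) 2 h
  exact ⟨(x : W), x.2, by rw [Subgroup.orderOf_coe]; exact hx⟩

variable [Finite W] [hpp : Fact p.Prime]

/-- the fixed points of a special element have order `8` and are not commutative. -/
theorem Hyp.spec_card (H : Hyp p E) {e : MulAut W} (he : Spec E e) :
    Nat.card (Fx e) = 8 ∧ ∃ x ∈ Fx e, ∃ y ∈ Fx e, x * y ≠ y * x := by
  obtain ⟨heE, he1, hnle⟩ := he
  obtain ⟨x, hx, hxC⟩ := SetLike.not_le_iff_exists.1 hnle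
  rw [mem_CE] at hxC
  push Not at hxC
  obtain ⟨f, hf, hfx⟩ := hxC
  have hInv : Cfsg.Agent.Helper4.CopAut.Inv E.subtype (Fx e) :=
    fun q v hv => H.EInv_Fx heE q q.2 v hv
  set ρ := Cfsg.Agent.Helper4.CopAut.res E.subtype (Fx e) hInv with hρ
  obtain ⟨k, hk⟩ := H.hE ⟨f, hf⟩
  have hodd : Odd (p ^ k) := H.p_odd.pow
  have hσ : (ρ ⟨f, hf⟩) ^ (p ^ k) = 1 := by rw [← map_pow, hk, map_one]
  have hne : ρ ⟨f, hf⟩ ≠ 1 := by
    intro h
    apply hfx
    have h1 : ρ ⟨f, hf⟩ ⟨x, hx⟩ = ⟨x, hx⟩ := by rw [h]; rfl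
    exact congrArg Subtype.val h1
  have huniq : ∀ a b : ↥(Fx e), orderOf a = 2 → orderOf b = 2 → a = b := by
    intro a b ha hb
    apply Subtype.ext
    apply H.hfix e heE he1 a b _ _ a.2 b.2
    · rw [Subgroup.orderOf_coe]; exact ha
    · rw [Subgroup.orderOf_coe]; exact hb
  obtain ⟨h8, a, b, hab⟩ := card_eq_eight_of_odd_aut (H.hW.to_subgroup (Fx e)) huniq _ _ hodd hσ hne
  refine ⟨h8, a.1, a.2, b.1, b.2, fun h => hab (Subtype.ext h)⟩

/-- with a special element the prime is `3` and there are two common fixed points. -/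
theorem Hyp.three (H : Hyp p E) {e : MulAut W} (he : Spec E e) :
    p = 3 ∧ Nat.card (CE E) = 2 := by
  obtain ⟨h8, -⟩ := H.spec_card he
  obtain ⟨heE, he1, hnle⟩ := he
  obtain ⟨t, ht, ht2⟩ := exists_invol (Fx e) (by rw [h8]; norm_num)
  have htC : t ∈ CE E := by
    intro f hf
    apply H.hfix e heE he1 (f t) t _ ht2 (H.EInv_Fx heE f hf t ht) ht
    rw [MulEquiv.orderOf_eq]; exact ht2
  have hle : CE E ≤ Fx e := CE_le_Fx heE
  have hmod := H.card_modEq (H.EInv_Fx heE)
  rw [inf_eq_right.2 hle, h8] at hmod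
  have hdvd : Nat.card (CE E) ∣ 8 := by rw [← h8]; exact Subgroup.card_dvd_of_le hle
  have h2 : 2 ∣ Nat.card (CE E) := by
    rw [← ht2]
    have := orderOf_dvd_natCard (⟨t, htC⟩ : ↥(CE E))
    rwa [← Subgroup.orderOf_coe] at this
  have hne8 : Nat.card (CE E) ≠ 8 := by
    intro h
    apply hnle
    have := Subgroup.eq_of_le_of_card_ge hle (by rw [h8, h])
    rw [this]
  have hle8 : Nat.card (CE E) ≤ 8 := Nat.le_of_dvd (by norm_num) hdvd
  have hpp2 := hpp.out
  have hp2 := H.hp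
  generalize Nat.card (CE E) = c at *
  have hpd : p ∣ 8 - c := (Nat.modEq_iff_dvd' hle8).1 hmod.symm
  interval_cases c
  · omega
  · omega
  · have h6 : p ∣ 2 * 3 := by simpa using hpd
    rcases (Nat.Prime.dvd_mul hpp2).1 h6 with h | h
    · exact absurd ((Nat.prime_dvd_prime_iff_eq hpp2 Nat.prime_two).1 h) hp2
    · exact ⟨(Nat.prime_dvd_prime_iff_eq hpp2 Nat.prime_three).1 h, rfl⟩
  · omega
  · exfalso
    have h4 : p ∣ 2 * 2 := by simpa using hpd
    rcases (Nat.Prime.dvd_mul hpp2).1 h4 with h | h <;>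
    exact absurd ((Nat.prime_dvd_prime_iff_eq hpp2 Nat.prime_two).1 h) hp2
  · omega
  · omega
  · omega
  · omega

/-- there is a special element. -/
theorem Hyp.exists_spec (H : Hyp p E) : ∃ e, Spec E e := by
  by_contra hcon
  push Not at hcon
  have h1 : (⊤ : Subgroup W) ≤ CE E := by
    apply H.gen (EInv_top E)
    intro e he he1
    by_contra h
    apply hcon e
    refine ⟨he, he1, fun h2 => h (inf_le_right.trans h2)⟩
  apply H.hnc
  have : Subsingleton ↥E := by
    constructor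
    intro a b
    apply Subtype.ext
    apply MulEquiv.ext
    intro x
    have hx : x ∈ CE E := h1 (Subgroup.mem_top x)
    rw [hx a a.2, hx b b.2]
  exact isCyclic_of_subsingleton

end Cfsg.Agent.Helper8.QE
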