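import Mathlib
import Cfsg.Agent.Helper8.QEC

/-!
# The case `p = 3`: invariant subgroups of the special fixed point groups
-/

set_option autoImplicit false

namespace Cfsg.Agent.Helper8.QE

variable {W : Type*} [Group W] {E : Subgroup (MulAut W)}

/-- the hypotheses with `p = 3` and two common fixed points. -/
structure Hyp3 (E : Subgroup (MulAut W)) : Prop where
  hyp : Hyp 3 E
  cardCE : Nat.card (CE E) = 2

theorem Hyp.toHyp3 [Finite W] {p : ℕ} [Fact p.Prime] (H : Hyp p E) : p = 3 ∧ Hyp3 E := by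
  obtain ⟨e, he⟩ := H.exists_spec
  obtain ⟨h3, h2⟩ := H.three he
  subst h3
  exact ⟨rfl, H, h2⟩

variable [Finite W]

/-- the two common fixed points. -/
theorem Hyp3.exists_z (H : Hyp3 E) :
    ∃ z, orderOf z = 2 ∧ z ∈ CE E ∧ ∀ t ∈ CE E, t = 1 ∨ t = z := by
  obtain ⟨z, hz, hz2⟩ := exists_invol (CE E) (by rw [H.cardCE])
  refine ⟨z, hz2, hz, fun t ht => ?_⟩
  by_contra hcon
  push Not at hcon
  have h1 : z ≠ 1 := by
    intro h
    rw [h, orderOf_one] at hz2
    omega
  have h3 : 2 < Nat.card (CE E) := by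
    have := Fintype.ofFinite ↥(CE E)
    rw [Nat.card_eq_fintype_card]
    apply Fintype.two_lt_card_iff.2
    refine ⟨⟨1, (CE E).one_mem⟩, ⟨z, hz⟩, ⟨t, ht⟩, ?_, ?_, ?_⟩
    · intro h; exact h1 (congrArg Subtype.val h).symm
    · intro h; exact hcon.1 (congrArg Subtype.val h).symm
    · intro h; exact hcon.2 (congrArg Subtype.val h).symm
  rw [H.cardCE] at h3
  omega

/-- an involution fixed by a nonidentity element is a common fixed point. -/
theorem Hyp3.invol_mem_CE (H : Hyp3 E) {e : MulAut W} (he : e ∈ E) (he1 : e ≠ 1) {t : W}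
    (ht : t ∈ Fx e) (ht2 : orderOf t = 2) : t ∈ CE E := by
  obtain ⟨z, hz2, hz, -⟩ := H.exists_z
  rw [H.hyp.hfix e he he1 t z ht2 hz2 ht (CE_le_Fx he hz)]
  exact hz

/-- **Invariant proper subgroups** of a special fixed point group are fixed pointwise. -/
theorem Hyp3.sub_special (H : Hyp3 E) {e : MulAut W} (he : Spec E e) {X : Subgroup W}
    (hX : EInv E X) (hle : X ≤ Fx e) (hne : X ≠ Fx e) : X ≤ CE E := by
  obtain ⟨h8, -⟩ := H.hyp.spec_card he
  have hdvd : Nat.card X ∣ 8 := by rw [← h8]; exact Subgroup.card_dvd_of_le hle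
  have hne8 : Nat.card X ≠ 8 := by
    intro h
    exact hne (Subgroup.eq_of_le_of_card_ge hle (by rw [h8, h]))
  have hle8 : Nat.card X ≤ 8 := Nat.le_of_dvd (by norm_num) hdvd
  have hmod := H.hyp.card_modEq hX
  have hd2 : Nat.card ↥(X ⊓ CE E) ∣ 2 := by
    rw [← H.cardCE]; exact Subgroup.card_dvd_of_le inf_le_right
  have hle2 : Nat.card ↥(X ⊓ CE E) ≤ 2 := Nat.le_of_dvd (by norm_num) hd2
  have hpos : 0 < Nat.card ↥(X ⊓ CE E) := Nat.card_pos
  have hXd : Nat.card ↥(X ⊓ CE E) ∣ Nat.card X := Subgroup.card_dvd_of_le inf_le_left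
  have hfin : Nat.card ↥(X ⊓ CE E) = Nat.card X → X ≤ CE E := by
    intro h
    have := Subgroup.eq_of_le_of_card_ge (inf_le_left : X ⊓ CE E ≤ X) (by rw [h])
    rw [← this]
    exact inf_le_right
  have h4 : Nat.card X = 4 → Nat.card ↥(X ⊓ CE E) ≠ 1 := by
    intro h4 h1
    obtain ⟨t, ht, ht2⟩ := exists_invol X (by rw [h4]; norm_num)
    have htC := H.invol_mem_CE he.1 he.2.1 (hle ht) ht2
    have hbot : X ⊓ CE E = ⊥ := Subgroup.card_eq_one.1 h1
    have : t ∈ X ⊓ CE E := ⟨ht, htC⟩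
    rw [hbot, Subgroup.mem_bot] at this
    rw [this, orderOf_one] at ht2
    omega
  generalize Nat.card ↥(X ⊓ CE E) = c at *
  generalize hn : Nat.card X = n at *
  have hmod' : n % 3 = c % 3 := hmod
  interval_cases n <;> interval_cases c <;> first | omega | exact hfin rfl

/-- an element of `E` fixing a moved point of a special fixed point group fixes all of it. -/
theorem Hyp3.fix_all (H : Hyp3 E) {e : MulAut W} (he : Spec E e) {f : MulAut W} (hf : f ∈ E)
    {x : W} (hx : x ∈ Fx e) (hxC : x ∉ CE E) (hfx : f x = x) : Fx e ≤ Fx f := by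
  have hX : EInv E (Fx e ⊓ Fx f) := (H.hyp.EInv_Fx he.1).inf (H.hyp.EInv_Fx hf)
  by_contra hcon
  have hne : Fx e ⊓ Fx f ≠ Fx e := fun h => hcon (inf_eq_left.1 h)
  exact hxC (H.sub_special he hX inf_le_left hne ⟨hx, hfx⟩)

/-- the fixed points of a nonidentity element containing a special fixed point group. -/
theorem Hyp3.Fx_eq (H : Hyp3 E) {e : MulAut W} (he : Spec E e) {f : MulAut W} (hf : f ∈ E)
    (hf1 : f ≠ 1) (hle : Fx e ≤ Fx f) : Fx f = Fx e ∧ Spec E f := by
  have hs : Spec E f := ⟨hf, hf1, fun h => he.2.2 (hle.trans h)⟩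
  refine ⟨?_, hs⟩
  symm
  apply Subgroup.eq_of_le_of_card_ge hle
  rw [(H.hyp.spec_card he).1, (H.hyp.spec_card hs).1]

/-- special fixed point groups contained in one another are equal. -/
theorem Hyp3.eq_of_le (H : Hyp3 E) {e f : MulAut W} (he : Spec E e) (hf : Spec E f)
    (hle : Fx e ≤ Fx f) : Fx e = Fx f :=
  (H.Fx_eq he hf.1 hf.2.1 hle).1.symm

end Cfsg.Agent.Helper8.QE
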