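import Mathlib
import Cfsg.Agent.Helper8.QED

/-!
# The order of `E` is `9`
-/

set_option autoImplicit false

namespace Cfsg.Agent.Helper8.QE

variable {W : Type*} [Group W] {E : Subgroup (MulAut W)} [Finite W]

omit [Finite W] in
theorem smul_eq_apply (f : ↥E) (x : W) : f • x = (f : MulAut W) x := rfl

/-- the stabiliser in `E` of a moved point of a special fixed point group has index `3`. -/
theorem Hyp3.stab_index (H : Hyp3 E) {e : MulAut W} (he : Spec E e) {x : W} (hx : x ∈ Fx e)
    (hxC : x ∉ CE E) : (MulAction.stabilizer ↥E x).index = 3 := by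
  have h8 := (H.hyp.spec_card he).1
  have h1 := MulAction.index_stabilizer ↥E x
  obtain ⟨n, hn⟩ := H.hyp.hE.card_orbit x
  rw [Nat.card_coe_set_eq] at hn
  have hsub : MulAction.orbit ↥E x ⊆ (Fx e : Set W) \ (CE E : Set W) := by
    rintro _ ⟨f, rfl⟩
    refine ⟨H.hyp.EInv_Fx he.1 f f.2 x hx, fun hC => hxC ?_⟩
    have h2 := EInv_CE E (f : MulAut W)⁻¹ (E.inv_mem f.2) _ hC
    have h3 : (f : MulAut W)⁻¹ (f • x) = x := by
      rw [smul_eq_apply]; exact MulAut.inv_apply_self _ _ _
    rwa [h3] at h2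
  have hcard : ((Fx e : Set W) \ (CE E : Set W)).ncard = 6 := by
    rw [Set.ncard_sdiff (show (CE E : Set W) ⊆ (Fx e : Set W) from CE_le_Fx he.1) (Set.toFinite _)]
    rw [← Nat.card_coe_set_eq, ← Nat.card_coe_set_eq]
    show Nat.card (Fx e) - Nat.card (CE E) = 6
    rw [h8, H.cardCE]
  have hle : (MulAction.orbit ↥E x).ncard ≤ 6 := by
    rw [← hcard]; exact Set.ncard_le_ncard hsub (Set.toFinite _)
  rw [hn] at hle
  rw [h1, hn]
  have hn1 : n ≤ 1 := by
    by_contra hcon
    push Not at hcon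
    have : 3 ^ 2 ≤ 3 ^ n := Nat.pow_le_pow_right (by norm_num) hcon
    omega
  rcases Nat.eq_zero_or_pos n with h0 | h0
  · exfalso
    rw [h0, pow_zero] at hn
    rw [hn] at h1
    have htop : MulAction.stabilizer ↥E x = ⊤ := Subgroup.index_eq_one.1 h1
    apply hxC
    intro f hf
    have : (⟨f, hf⟩ : ↥E) ∈ MulAction.stabilizer ↥E x := by rw [htop]; exact Subgroup.mem_top _
    exact this
  · have : n = 1 := by omega
    rw [this, pow_one]

/-- there is a second special fixed point group. -/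
theorem Hyp3.exists_second (H : Hyp3 E) {e : MulAut W} (he : Spec E e) :
    ∃ e', Spec E e' ∧ Fx e' ≠ Fx e := by
  by_contra hcon
  push Not at hcon
  have h1 : (⊤ : Subgroup W) ≤ Fx e := by
    apply H.hyp.gen (EInv_top E)
    intro f hf hf1
    by_cases hC : Fx f ≤ CE E
    · exact inf_le_right.trans (hC.trans (CE_le_Fx he.1))
    · rw [← hcon f ⟨hf, hf1, hC⟩]
      exact inf_le_right
  apply he.2.1
  apply MulEquiv.ext
  intro x
  exact h1 (Subgroup.mem_top x)

omit [Finite W] in
/-- a special fixed point group has a point that is not a common fixed point. -/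
theorem Spec.exists_moved {e : MulAut W} (he : Spec E e) : ∃ x ∈ Fx e, x ∉ CE E :=
  SetLike.not_le_iff_exists.1 he.2.2

/-- **The order of `E`.** -/
theorem Hyp3.card_E (H : Hyp3 E) : Nat.card ↥E = 9 := by
  obtain ⟨e, he⟩ := H.hyp.exists_spec
  obtain ⟨e', he', hne⟩ := H.exists_second he
  obtain ⟨x, hx, hxC⟩ := he.exists_moved
  obtain ⟨y, hy, hyC⟩ := he'.exists_moved
  have h1 := H.stab_index he hx hxC
  have h2 := H.stab_index he' hy hyC
  have hbot : MulAction.stabilizer ↥E x ⊓ MulAction.stabilizer ↥E y = ⊥ := by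
    rw [eq_bot_iff]
    rintro f ⟨hfx, hfy⟩
    rw [Subgroup.mem_bot]
    by_contra hf1
    have hf1' : (f : MulAut W) ≠ 1 := fun h => hf1 (Subtype.ext h)
    have h3 := H.Fx_eq he f.2 hf1' (H.fix_all he f.2 hx hxC hfx)
    have h4 := H.Fx_eq he' f.2 hf1' (H.fix_all he' f.2 hy hyC hfy)
    exact hne (h4.1.symm.trans h3.1)
  have hle : Nat.card ↥E ≤ 9 := by
    have := Subgroup.index_inf_le (H := MulAction.stabilizer ↥E x)
      (K := MulAction.stabilizer ↥E y)
    rw [hbot, Subgroup.index_bot, h1, h2] at this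
    exact this
  obtain ⟨a, ha⟩ := H.hyp.hE.exists_card_eq
  have ha2 : 2 ≤ a := by
    by_contra hcon
    push Not at hcon
    apply H.hyp.hnc
    interval_cases a
    · have : Subsingleton ↥E := (Nat.card_eq_one_iff_unique.1 (by rw [ha, pow_zero])).1
      exact isCyclic_of_subsingleton
    · exact isCyclic_of_prime_card (p := 3) (by rw [ha, pow_one])
  have : 3 ^ 2 ≤ 3 ^ a := Nat.pow_le_pow_right (by norm_num) ha2
  omega

end Cfsg.Agent.Helper8.QE
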