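import Mathlib
import Cfsg.Agent.Helper8.QEE

/-!
# The centre, and commuting special fixed point groups
-/

set_option autoImplicit false

namespace Cfsg.Agent.Helper8.QE

open scoped commutatorElement

variable {W : Type*} [Group W] {E : Subgroup (MulAut W)}

/-- the elements whose commutators with a set are central. -/
def cen2 (S : Set W) : Subgroup W where
  carrier := {x | ∀ y ∈ S, ⁅x, y⁆ ∈ Subgroup.center W}
  one_mem' := by
    intro y _
    rw [commutatorElement_one_left]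
    exact Subgroup.one_mem _
  mul_mem' := by
    intro a b ha hb y hy
    have h : ⁅a * b, y⁆ = a * ⁅b, y⁆ * a⁻¹ * ⁅a, y⁆ := by
      simp only [commutatorElement_def]; group
    rw [h]
    exact Subgroup.mul_mem _ (Subgroup.Normal.conj_mem inferInstance _ (hb y hy) a) (ha y hy)
  inv_mem' := by
    intro a ha y hy
    have h : ⁅a⁻¹, y⁆ = a⁻¹ * ⁅a, y⁆⁻¹ * a⁻¹⁻¹ := by
      simp only [commutatorElement_def]; group
    rw [h]
    exact Subgroup.Normal.conj_mem inferInstance _ (Subgroup.inv_mem _ (ha y hy)) a⁻¹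

theorem mem_cen2 {S : Set W} {x : W} :
    x ∈ cen2 S ↔ ∀ y ∈ S, ⁅x, y⁆ ∈ Subgroup.center W := Iff.rfl

/-- in a nilpotent subgroup not inside `C` some element outside `C` has all its commutators
in `C`. -/
theorem exists_deep (X C : Subgroup W) [hn : Group.IsNilpotent ↥X] (hXC : ¬ X ≤ C) :
    ∃ x ∈ X, x ∉ C ∧ ∀ y ∈ X, ⁅x, y⁆ ∈ C := by
  classical
  obtain ⟨N, hN⟩ := (Subgroup.isNilpotent_iff_lowerCentralSeries X).1 hn
  have hex : ∃ n, X.lowerCentralSeries n ≤ C := ⟨N, by rw [hN]; exact bot_le⟩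
  have hspec := Nat.find_spec hex
  have h0 : Nat.find hex ≠ 0 := by
    intro h
    rw [h] at hspec
    exact hXC hspec
  obtain ⟨m, hm⟩ := Nat.exists_eq_succ_of_ne_zero h0
  have hmin : ¬ X.lowerCentralSeries m ≤ C := Nat.find_min hex (by rw [hm]; exact Nat.lt_succ_self m)
  obtain ⟨x, hx, hxC⟩ := SetLike.not_le_iff_exists.1 hmin
  refine ⟨x, X.lowerCentralSeries_antitone (Nat.zero_le m) hx, hxC, fun y hy => ?_⟩
  apply hspec
  rw [hm]
  exact Subgroup.commutator_mem_commutator hx hy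

variable [Finite W]

/-- **The centre** consists of the common fixed points. -/
theorem Hyp3.center_eq (H : Hyp3 E) : Subgroup.center W = CE E := by
  obtain ⟨e, he⟩ := H.hyp.exists_spec
  have hle : Subgroup.center W ≤ CE E := by
    apply H.hyp.gen (EInv_center E)
    intro f hf hf1
    by_cases hC : Fx f ≤ CE E
    · exact inf_le_right.trans hC
    · have hs : Spec E f := ⟨hf, hf1, hC⟩
      apply H.sub_special hs ((EInv_center E).inf (H.hyp.EInv_Fx hf)) inf_le_right
      intro h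
      obtain ⟨-, x, hx, y, hy, hxy⟩ := H.hyp.spec_card hs
      have hxc : x ∈ Subgroup.center W := (inf_eq_right.1 h) hx
      exact hxy ((Subgroup.mem_center_iff.1 hxc y).symm)
  apply le_antisymm hle
  have hnt : Nontrivial W := by
    obtain ⟨-, x, -, y, -, hxy⟩ := H.hyp.spec_card he
    refine ⟨x, y, fun h => hxy ?_⟩
    rw [h]
  have hcn : Nontrivial (Subgroup.center W) := H.hyp.hW.center_nontrivial
  obtain ⟨c, hc⟩ := exists_ne (1 : Subgroup.center W)
  obtain ⟨z, hz2, hz, hall⟩ := H.exists_z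
  have hcz : (c : W) = z := by
    rcases hall c (hle c.2) with h | h
    · exact absurd (Subtype.ext h) hc
    · exact h
  intro t ht
  rcases hall t ht with h | h
  · rw [h]; exact Subgroup.one_mem _
  · rw [h, ← hcz]; exact c.2

/-- elements of `CE` square to one. -/
theorem Hyp3.sq_eq_one (H : Hyp3 E) {t : W} (ht : t ∈ CE E) : t ^ 2 = 1 := by
  obtain ⟨z, hz2, -, hall⟩ := H.exists_z
  rcases hall t ht with h | h
  · rw [h, one_pow]
  · rw [h, ← hz2, pow_orderOf_eq_one]

/-- **Two special fixed point groups with central commutators commute.** -/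
theorem Hyp3.commute_of_comm_mem (H : Hyp3 E) {e₁ e₂ : MulAut W} (h₁ : Spec E e₁)
    (h₂ : Spec E e₂) (hne : Fx e₁ ≠ Fx e₂) (hc : ∀ x ∈ Fx e₁, ∀ y ∈ Fx e₂, ⁅x, y⁆ ∈ CE E) :
    ∀ x ∈ Fx e₁, ∀ y ∈ Fx e₂, x * y = y * x := by
  set D := Fx e₂ ⊓ Subgroup.centralizer (Fx e₁ : Set W) with hD
  have hDinv : EInv E D := (H.hyp.EInv_Fx h₂.1).inf (H.hyp.EInv_Fx h₁.1).centralizer
  by_cases hDeq : D = Fx e₂
  · intro x hx y hy
    have hyD : y ∈ D := by rw [hDeq]; exact hy
    exact Subgroup.mem_centralizer_iff.1 hyD.2 x hx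
  · exfalso
    have hDC : D ≤ CE E := H.sub_special h₂ hDinv inf_le_left hDeq
    apply hne
    symm
    apply H.eq_of_le h₂ h₁
    intro y hy
    have ht : e₁ y * y⁻¹ ∈ D := by
      refine ⟨(Fx e₂).mul_mem (H.hyp.EInv_Fx h₂.1 e₁ h₁.1 y hy) ((Fx e₂).inv_mem hy), ?_⟩
      show e₁ y * y⁻¹ ∈ Subgroup.centralizer (Fx e₁ : Set W)
      rw [Subgroup.mem_centralizer_iff]
      intro x hx
      have hcC := hc x hx y hy
      have hcen : ⁅x, y⁆ ∈ Subgroup.center W := by rw [H.center_eq]; exact hcC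
      have hcen' : ∀ g : W, g * ⁅x, y⁆ = ⁅x, y⁆ * g := Subgroup.mem_center_iff.1 hcen
      have he1c : e₁ ⁅x, y⁆ = ⁅x, y⁆ := hcC e₁ h₁.1
      have he1x : e₁ x = x := hx
      have hB : x * y = ⁅x, y⁆ * y * x := by rw [commutatorElement_def]; group
      have hA : x * e₁ y = ⁅x, y⁆ * e₁ y * x := by
        have := congrArg e₁ hB
        rwa [map_mul, map_mul, map_mul, he1c, he1x] at this
      generalize ⁅x, y⁆ = c at hcen' hA hB
      generalize e₁ y = a at hA
      have h5 : x * y⁻¹ = c⁻¹ * (y⁻¹ * x) := by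
        have h6 : y⁻¹ * (x * y) * y⁻¹ = y⁻¹ * (c * y * x) * y⁻¹ := by rw [← hB]
        have hL : y⁻¹ * (x * y) * y⁻¹ = y⁻¹ * x := by group
        have hR : y⁻¹ * (c * y * x) * y⁻¹ = c * (x * y⁻¹) := by
          rw [show y⁻¹ * (c * y * x) * y⁻¹ = (y⁻¹ * c) * (y * x * y⁻¹) by group, hcen' y⁻¹]
          group
        rw [hL, hR] at h6
        rw [h6]; group
      calc x * (a * y⁻¹) = (x * a) * y⁻¹ := by group
        _ = (c * a * x) * y⁻¹ := by rw [hA]
        _ = c * a * (x * y⁻¹) := by group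
        _ = c * a * (c⁻¹ * (y⁻¹ * x)) := by rw [h5]
        _ = (a * c) * (c⁻¹ * (y⁻¹ * x)) := by rw [hcen' a]
        _ = a * y⁻¹ * x := by group
    have htC : e₁ y * y⁻¹ ∈ CE E := hDC ht
    obtain ⟨t, htdef⟩ : ∃ t, t = e₁ y * y⁻¹ := ⟨_, rfl⟩
    rw [← htdef] at htC
    have hey : e₁ y = t * y := by rw [htdef]; group
    have hpow : ∀ k : ℕ, (e₁ ^ k) y = t ^ k * y := by
      intro k
      induction k with
      | zero => simp
      | succ k ih =>
        rw [pow_succ', MulAut.mul_apply, ih, map_mul, map_pow, htC e₁ h₁.1, hey, pow_succ]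
        group
    obtain ⟨k, hk⟩ := H.hyp.hE ⟨e₁, h₁.1⟩
    have hk' : e₁ ^ (3 ^ k) = 1 := by
      have := congrArg Subtype.val hk
      simpa using this
    have h7 := hpow (3 ^ k)
    rw [hk', MulAut.one_apply] at h7
    have h8 : t ^ (3 ^ k) = 1 := by
      have : t ^ 3 ^ k * y = 1 * y := by rw [← h7, one_mul]
      exact mul_right_cancel this
    have h9 : t ^ 2 = 1 := H.sq_eq_one htC
    have hodd : Odd (3 ^ k) := Odd.pow (by decide)
    obtain ⟨j, hj⟩ := hodd
    have h10 : t = 1 := by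
      rw [hj, pow_succ, pow_mul, h9, one_pow, one_mul] at h8
      exact h8
    rw [mem_Fx, hey, h10, one_mul]

end Cfsg.Agent.Helper8.QE
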