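import Mathlib
import Cfsg.Agent.Helper8.QEF

/-!
# Distinct special fixed point groups commute
-/

set_option autoImplicit false

namespace Cfsg.Agent.Helper8.QE

open scoped commutatorElement

variable {W : Type*} [Group W] {E : Subgroup (MulAut W)} [Finite W]

/-- an invariant subgroup with a moved point contains a special fixed point group whose
commutators with the subgroup are common fixed points. -/
theorem Hyp3.exists_spec_le (H : Hyp3 E) {X : Subgroup W} (hX : EInv E X) (hXC : ¬ X ≤ CE E) :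
    ∃ e, Spec E e ∧ Fx e ≤ X ∧ ∀ x ∈ Fx e, ∀ y ∈ X, ⁅x, y⁆ ∈ CE E := by
  have hnil : Group.IsNilpotent ↥X := (H.hyp.hW.to_subgroup X).isNilpotent
  set U := X ⊓ cen2 (X : Set W) with hU
  have hUinv : EInv E U := by
    intro f hf x hx
    refine ⟨hX f hf x hx.1, fun y hy => ?_⟩
    have h1 : ⁅f x, y⁆ = f ⁅x, f⁻¹ y⁆ := by
      rw [map_commutatorElement, MulAut.apply_inv_self]
    rw [h1]
    exact EInv_center E f hf _ (hx.2 _ (hX.inv_apply_mem hf hy))
  have hUC : ¬ U ≤ CE E := by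
    obtain ⟨x, hx, hxC, hxy⟩ := exists_deep X (CE E) hXC
    intro h
    apply hxC
    apply h
    refine ⟨hx, fun y hy => ?_⟩
    rw [H.center_eq]; exact hxy y hy
  have hex : ∃ e ∈ E, e ≠ 1 ∧ ¬ U ⊓ Fx e ≤ CE E := by
    by_contra hcon
    push Not at hcon
    exact hUC (H.hyp.gen hUinv hcon)
  obtain ⟨e, he, he1, hne⟩ := hex
  have hs : Spec E e := ⟨he, he1, fun h => hne (inf_le_right.trans h)⟩
  have heq : U ⊓ Fx e = Fx e := by
    by_contra h
    exact hne (H.sub_special hs (hUinv.inf (H.hyp.EInv_Fx he)) inf_le_right h)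
  have hle : Fx e ≤ U := inf_eq_right.1 heq
  refine ⟨e, hs, hle.trans inf_le_left, fun x hx y hy => ?_⟩
  rw [← H.center_eq]
  exact (hle hx).2 y hy

theorem Hyp3.commute_aux (H : Hyp3 E) : ∀ n : ℕ, ∀ X : Subgroup W, Nat.card X ≤ n → EInv E X →
    ∀ e₁ e₂, Spec E e₁ → Spec E e₂ → Fx e₁ ≤ X → Fx e₂ ≤ X → Fx e₁ ≠ Fx e₂ →
    ∀ x ∈ Fx e₁, ∀ y ∈ Fx e₂, x * y = y * x := by
  intro n
  induction n with
  | zero =>
    intro X hX
    exfalso
    have := Nat.card_pos (α := X)
    omega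
  | succ n ih =>
    intro X hcard hX e₁ e₂ h₁ h₂ hle₁ hle₂ hne
    have hXC : ¬ X ≤ CE E := fun h => h₁.2.2 (hle₁.trans h)
    obtain ⟨e₀, h₀, hle₀, hcomm⟩ := H.exists_spec_le hX hXC
    have hP : ∀ e, Spec E e → Fx e ≤ X → Fx e₀ ≠ Fx e →
        ∀ x ∈ Fx e₀, ∀ y ∈ Fx e, x * y = y * x :=
      fun e he hle hne' =>
        H.commute_of_comm_mem h₀ he hne' (fun x hx y hy => hcomm x hx y (hle hy))
    by_cases h01 : Fx e₀ = Fx e₁
    · rw [← h01] at hne ⊢
      exact hP e₂ h₂ hle₂ hne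
    by_cases h02 : Fx e₀ = Fx e₂
    · rw [← h02] at hne ⊢
      intro x hx y hy
      exact (hP e₁ h₁ hle₁ (Ne.symm hne) y hy x hx).symm
    set X' := X ⊓ Subgroup.centralizer (Fx e₀ : Set W) with hX'
    have hX'inv : EInv E X' := hX.inf (H.hyp.EInv_Fx h₀.1).centralizer
    have hlt : Nat.card X' < Nat.card X := by
      by_contra hcon
      push Not at hcon
      have heq : X' = X := Subgroup.eq_of_le_of_card_ge inf_le_left hcon
      obtain ⟨-, a, ha, b, hb, hab⟩ := H.hyp.spec_card h₀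
      have haX' : a ∈ X' := by rw [heq]; exact hle₀ ha
      exact hab (Subgroup.mem_centralizer_iff.1 haX'.2 b hb).symm
    have hl₁ : Fx e₁ ≤ X' := fun y hy =>
      ⟨hle₁ hy, Subgroup.mem_centralizer_iff.2 (fun x hx => hP e₁ h₁ hle₁ h01 x hx y hy)⟩
    have hl₂ : Fx e₂ ≤ X' := fun y hy =>
      ⟨hle₂ hy, Subgroup.mem_centralizer_iff.2 (fun x hx => hP e₂ h₂ hle₂ h02 x hx y hy)⟩
    exact ih X' (by omega) hX'inv e₁ e₂ h₁ h₂ hl₁ hl₂ hne

/-- **Distinct special fixed point groups commute.** -/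
theorem Hyp3.commute_all (H : Hyp3 E) {e₁ e₂ : MulAut W} (h₁ : Spec E e₁) (h₂ : Spec E e₂)
    (hne : Fx e₁ ≠ Fx e₂) : ∀ x ∈ Fx e₁, ∀ y ∈ Fx e₂, x * y = y * x :=
  H.commute_aux _ ⊤ le_rfl (EInv_top E) e₁ e₂ h₁ h₂ le_top le_top hne

/-- a subgroup containing all special fixed point groups is everything. -/
theorem Hyp3.eq_top_of_spec (H : Hyp3 E) (Y : Subgroup W) (h : ∀ e, Spec E e → Fx e ≤ Y) :
    Y = ⊤ := by
  obtain ⟨e₀, h₀⟩ := H.hyp.exists_spec
  rw [eq_top_iff]
  apply H.hyp.gen (EInv_top E)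
  intro f hf hf1
  by_cases hC : Fx f ≤ CE E
  · exact inf_le_right.trans (hC.trans ((CE_le_Fx h₀.1).trans (h e₀ h₀)))
  · exact inf_le_right.trans (h f ⟨hf, hf1, hC⟩)

/-- commutators inside a special fixed point group are common fixed points. -/
theorem Hyp3.comm_mem_self (H : Hyp3 E) {e : MulAut W} (he : Spec E e) :
    ∀ x ∈ Fx e, ∀ y ∈ Fx e, ⁅x, y⁆ ∈ CE E := by
  obtain ⟨e', he', hle, hc⟩ := H.exists_spec_le (H.hyp.EInv_Fx he.1) he.2.2
  have heq := H.eq_of_le he' he hle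
  intro x hx y hy
  exact hc x (heq ▸ hx) y hy

/-- all commutators are central. -/
theorem Hyp3.comm_mem (H : Hyp3 E) (g h : W) : ⁅g, h⁆ ∈ Subgroup.center W := by
  -- special elements against everything
  have h1 : ∀ e, Spec E e → ∀ x ∈ Fx e, ∀ g : W, ⁅g, x⁆ ∈ Subgroup.center W := by
    intro e he x hx g
    have htop : cen2 ({x} : Set W) = ⊤ := by
      apply H.eq_top_of_spec
      intro e' he' y hy
      rw [mem_cen2]
      intro x' hx'
      rw [Set.mem_singleton_iff] at hx'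
      subst hx'
      by_cases heq : Fx e' = Fx e
      · rw [H.center_eq]
        exact H.comm_mem_self he y (heq ▸ hy) x' hx
      · have := H.commute_all he' he heq y hy x' hx
        rw [commutatorElement_eq_one_iff_mul_comm.2 this]
        exact Subgroup.one_mem _
    have hg : g ∈ cen2 ({x} : Set W) := by rw [htop]; exact Subgroup.mem_top g
    exact hg x rfl
  have htop : cen2 ({g} : Set W) = ⊤ := by
    apply H.eq_top_of_spec
    intro e he x hx
    rw [mem_cen2]
    intro g' hg'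
    rw [Set.mem_singleton_iff] at hg'
    subst hg'
    have h2 := h1 e he x hx g'
    rw [← commutatorElement_inv]
    exact Subgroup.inv_mem _ h2
  have hh : h ∈ cen2 ({g} : Set W) := by rw [htop]; exact Subgroup.mem_top h
  have h3 := hh g rfl
  rw [← commutatorElement_inv]
  exact Subgroup.inv_mem _ h3

end Cfsg.Agent.Helper8.QE
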