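import Mathlib
import Cfsg.Agent.Helper1.Card
import Cfsg.Agent.Helper8.QEG

/-!
# Squares are central; the order of `W`
-/

set_option autoImplicit false

namespace Cfsg.Agent.Helper8.QE

open scoped commutatorElement

variable {W : Type*} [Group W] {E : Subgroup (MulAut W)} [Finite W]

/-- squares in a special fixed point group are common fixed points. -/
theorem Hyp3.sq_mem_of_spec (H : Hyp3 E) {e : MulAut W} (he : Spec E e) {x : W}
    (hx : x ∈ Fx e) : x ^ 2 ∈ CE E := by
  obtain ⟨h8, a, ha, b, hb, hab⟩ := H.hyp.spec_card he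
  have hdvd : orderOf x ∣ 8 := by
    rw [← h8]
    have := orderOf_dvd_natCard (⟨x, hx⟩ : ↥(Fx e))
    rwa [← Subgroup.orderOf_coe] at this
  have hne8 : orderOf x ≠ 8 := by
    intro h
    have hz : Subgroup.zpowers x = Fx e := by
      apply Subgroup.eq_of_le_of_card_ge
      · rw [Subgroup.zpowers_le]; exact hx
      · rw [Nat.card_zpowers, h, h8]
    rw [← hz] at ha hb
    obtain ⟨i, rfl⟩ := Subgroup.mem_zpowers_iff.1 ha
    obtain ⟨j, rfl⟩ := Subgroup.mem_zpowers_iff.1 hb
    exact hab (Commute.zpow_zpow_self x i j)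
  have h4 : x ^ 4 = 1 := by
    obtain ⟨k, hk, hk2⟩ := (Nat.dvd_prime_pow Nat.prime_two).1 (show orderOf x ∣ 2 ^ 3 from hdvd)
    have hk' : k ≤ 2 := by
      by_contra hcon
      have : k = 3 := by omega
      rw [this] at hk2
      exact hne8 hk2
    have hd4 : orderOf x ∣ 4 := by
      rw [hk2]
      exact pow_dvd_pow 2 hk'
    exact orderOf_dvd_iff_pow_eq_one.1 hd4
  have ht2 : (x ^ 2) ^ 2 = 1 := by rw [← pow_mul]; exact h4
  by_cases h1 : x ^ 2 = 1
  · rw [h1]; exact Subgroup.one_mem _
  · apply H.invol_mem_CE he.1 he.2.1 ((Fx e).pow_mem hx 2)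
    exact orderOf_eq_prime ht2 h1

omit [Finite W] in
theorem sq_mul_of_central {a b c : W} (hba : b * a = a * b * c) (hcb : b * c = c * b) :
    (a * b) ^ 2 = a ^ 2 * b ^ 2 * c := by
  rw [pow_two, pow_two, pow_two]
  calc a * b * (a * b) = a * (b * a) * b := by simp only [mul_assoc]
    _ = a * (a * b * c) * b := by rw [hba]
    _ = a * a * b * (c * b) := by simp only [mul_assoc]
    _ = a * a * b * (b * c) := by rw [hcb]
    _ = a * a * (b * b) * c := by simp only [mul_assoc]

/-- all squares are central. -/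
theorem Hyp3.sq_mem (H : Hyp3 E) (x : W) : x ^ 2 ∈ Subgroup.center W := by
  let S2 : Subgroup W :=
    { carrier := {x | x ^ 2 ∈ Subgroup.center W}
      one_mem' := by
        show (1 : W) ^ 2 ∈ Subgroup.center W
        rw [one_pow]; exact Subgroup.one_mem _
      mul_mem' := by
        intro a b ha hb
        have hc := H.comm_mem b⁻¹ a⁻¹
        have h1 : (a * b) ^ 2 = a ^ 2 * b ^ 2 * ⁅b⁻¹, a⁻¹⁆ := by
          have hba : b * a = a * b * ⁅b⁻¹, a⁻¹⁆ := by rw [commutatorElement_def]; group
          have hcb := Subgroup.mem_center_iff.1 hc b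
          exact sq_mul_of_central hba hcb
        show (a * b) ^ 2 ∈ Subgroup.center W
        rw [h1]
        exact Subgroup.mul_mem _ (Subgroup.mul_mem _ ha hb) hc
      inv_mem' := by
        intro a ha
        show (a⁻¹) ^ 2 ∈ Subgroup.center W
        rw [inv_pow]; exact Subgroup.inv_mem _ ha }
  have htop : S2 = ⊤ := by
    apply H.eq_top_of_spec
    intro e he y hy
    show y ^ 2 ∈ Subgroup.center W
    rw [H.center_eq]; exact H.sq_mem_of_spec he hy
  have : x ∈ S2 := by rw [htop]; exact Subgroup.mem_top x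
  exact this

/-- adjoining a commuting special fixed point group multiplies the order by `4`. -/
theorem Hyp3.card_sup_spec (H : Hyp3 E) {M : Subgroup W} (hCM : CE E ≤ M) {e : MulAut W}
    (he : Spec E e) (hc : M ≤ Subgroup.centralizer (Fx e : Set W)) :
    Nat.card ↥(M ⊔ Fx e) = 4 * Nat.card M := by
  obtain ⟨h8, a, ha, b, hb, hab⟩ := H.hyp.spec_card he
  have hinf : M ⊓ Fx e = CE E := by
    apply le_antisymm _ (le_inf hCM (CE_le_Fx he.1))
    have hZ : Fx e ⊓ Subgroup.centralizer (Fx e : Set W) ≤ CE E := by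
      apply H.sub_special he ((H.hyp.EInv_Fx he.1).inf (H.hyp.EInv_Fx he.1).centralizer)
        inf_le_left
      intro h
      have haZ : a ∈ Fx e ⊓ Subgroup.centralizer (Fx e : Set W) := by rw [h]; exact ha
      exact hab (Subgroup.mem_centralizer_iff.1 haZ.2 b hb).symm
    exact (le_inf inf_le_right (inf_le_left.trans hc)).trans hZ
  have hnorm : Fx e ≤ Subgroup.normalizer (M : Set W) :=
    (Subgroup.le_centralizer_iff.1 hc).trans (Subgroup.centralizer_le_normalizer _)
  have key := Cfsg.Agent.Helper1.card_sup_mul_card_inf hnorm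
  rw [hinf, H.cardCE, h8] at key
  omega

/-- the order of the product of finitely many special fixed point groups. -/
theorem Hyp3.card_sup_finset (H : Hyp3 E) (T : Finset (Subgroup W))
    (hT : ∀ Q ∈ T, ∃ e, Spec E e ∧ Fx e = Q) :
    Nat.card ↥(CE E ⊔ T.sup id) = 2 * 4 ^ T.card := by
  classical
  induction T using Finset.induction_on with
  | empty =>
    rw [Finset.sup_empty, sup_bot_eq, H.cardCE, Finset.card_empty, pow_zero, mul_one]
  | insert Q T hQT ih =>
    obtain ⟨e, he, rfl⟩ := hT _ (Finset.mem_insert_self _ _)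
    have ih' := ih (fun Q hQ => hT Q (Finset.mem_insert_of_mem hQ))
    rw [Finset.sup_insert, Finset.card_insert_of_notMem hQT, id]
    have hre : CE E ⊔ (Fx e ⊔ T.sup id) = (CE E ⊔ T.sup id) ⊔ Fx e := by
      rw [sup_comm (Fx e), sup_assoc]
    have hcen : CE E ⊔ T.sup id ≤ Subgroup.centralizer (Fx e : Set W) := by
      apply sup_le
      · rw [← H.center_eq]; exact Subgroup.center_le_centralizer _
      · apply Finset.sup_le
        intro Q' hQ'
        obtain ⟨e', he', rfl⟩ := hT Q' (Finset.mem_insert_of_mem hQ')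
        have hne : Fx e' ≠ Fx e := fun h => hQT (h ▸ hQ')
        intro y hy
        exact Subgroup.mem_centralizer_iff.2
          (fun x hx => (H.commute_all he' he hne y hy x hx).symm)
    rw [hre, H.card_sup_spec le_sup_left he hcen, ih', pow_succ]
    ring

end Cfsg.Agent.Helper8.QE
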