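import Mathlib
import Cfsg.Agent.Helper8.QEH

/-!
# The number of special fixed point groups and the order of `W`
-/

set_option autoImplicit false

namespace Cfsg.Agent.Helper8.QE

variable {W : Type*} [Group W] {E : Subgroup (MulAut W)}

/-- the set of special fixed point groups. -/
def SpecSet (E : Subgroup (MulAut W)) : Set (Subgroup W) := {Q | ∃ e, Spec E e ∧ Fx e = Q}

theorem Fx_inv (e : MulAut W) : Fx e⁻¹ = Fx e := by
  ext x
  rw [mem_Fx, mem_Fx]
  constructor
  · intro h
    have := congrArg e h
    rw [MulAut.apply_inv_self] at this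
    exact this.symm
  · intro h
    have h2 : e⁻¹ (e x) = e⁻¹ x := by rw [h]
    rw [MulAut.inv_apply_self] at h2
    exact h2.symm

variable [Finite W]

omit [Finite W] in
theorem Hyp3.ne_inv (H : Hyp3 E) {e : MulAut W} (he : Spec E e) : e ≠ e⁻¹ := by
  intro h
  apply he.2.1
  have h2 : e ^ 2 = 1 := by
    rw [pow_two]
    nth_rewrite 2 [h]
    exact mul_inv_cancel e
  obtain ⟨k, hk⟩ := H.hyp.hE ⟨e, he.1⟩
  have hk' : e ^ (3 ^ k) = 1 := by
    have := congrArg Subtype.val hk
    simpa using this
  have hodd : Odd (3 ^ k) := Odd.pow (by decide)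
  obtain ⟨j, hj⟩ := hodd
  rw [hj, pow_succ, pow_mul, h2, one_pow, one_mul] at hk'
  exact hk'

/-- **The order of `W`.** -/
theorem Hyp3.card_W (H : Hyp3 E) : ∃ k, 2 ≤ k ∧ k ≤ 4 ∧ Nat.card W = 2 * 4 ^ k := by
  classical
  set T : Finset (Subgroup W) := (Set.toFinite (SpecSet E)).toFinset with hT
  have hTmem : ∀ Q, Q ∈ T ↔ ∃ e, Spec E e ∧ Fx e = Q := by
    intro Q
    rw [hT, Set.Finite.mem_toFinset]
    rfl
  have hcard := H.card_sup_finset T (fun Q hQ => (hTmem Q).1 hQ)
  have htop : CE E ⊔ T.sup id = ⊤ := by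
    apply H.eq_top_of_spec
    intro e he
    refine le_trans ?_ le_sup_right
    exact Finset.le_sup (f := id) ((hTmem _).2 ⟨e, he, rfl⟩)
  rw [htop, Subgroup.card_top] at hcard
  refine ⟨T.card, ?_, ?_, hcard⟩
  · obtain ⟨e, he⟩ := H.hyp.exists_spec
    obtain ⟨e', he', hne⟩ := H.exists_second he
    have : 1 < T.card := Finset.one_lt_card.2
      ⟨Fx e, (hTmem _).2 ⟨e, he, rfl⟩, Fx e', (hTmem _).2 ⟨e', he', rfl⟩, hne.symm⟩
    omega
  · have hch : ∀ Q : ↥T, ∃ e, Spec E e ∧ Fx e = Q.1 := fun Q => (hTmem Q.1).1 Q.2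
    choose g hg using hch
    let val : ↥T × Bool → MulAut W := fun qb => if qb.2 then g qb.1 else (g qb.1)⁻¹
    have hvalE : ∀ qb, val qb ∈ E := by
      rintro ⟨Q, b⟩
      cases b
      · exact E.inv_mem (hg Q).1.1
      · exact (hg Q).1.1
    have hval1 : ∀ qb, val qb ≠ 1 := by
      rintro ⟨Q, b⟩
      cases b
      · intro h
        exact (hg Q).1.2.1 (inv_eq_one.1 h)
      · exact (hg Q).1.2.1
    have hvalFx : ∀ qb, Fx (val qb) = qb.1.1 := by
      rintro ⟨Q, b⟩
      cases b
      · show Fx (g Q)⁻¹ = Q.1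
        rw [Fx_inv]; exact (hg Q).2
      · exact (hg Q).2
    have hvalinj : Function.Injective val := by
      rintro ⟨Q, b⟩ ⟨Q', b'⟩ h
      have hQ : Q = Q' := by
        apply Subtype.ext
        have h1 := hvalFx (Q, b)
        have h2 := hvalFx (Q', b')
        rw [h] at h1
        exact h1.symm.trans h2
      subst hQ
      cases b <;> cases b'
      · rfl
      · exfalso
        have h' : (g Q)⁻¹ = g Q := h
        exact H.ne_inv (hg Q).1 h'.symm
      · exfalso
        have h' : g Q = (g Q)⁻¹ := h
        exact H.ne_inv (hg Q).1 h'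
      · rfl
    let F : Option (↥T × Bool) → ↥E := fun o =>
      match o with
      | none => 1
      | some qb => ⟨val qb, hvalE qb⟩
    have hF : Function.Injective F := by
      intro o o' h
      cases o with
      | none =>
        cases o' with
        | none => rfl
        | some qb' =>
          exfalso
          exact hval1 qb' (congrArg Subtype.val h).symm
      | some qb =>
        cases o' with
        | none =>
          exfalso
          exact hval1 qb (congrArg Subtype.val h)
        | some qb' =>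
          have := hvalinj (congrArg Subtype.val h)
          rw [this]
    have hle := Nat.card_le_card_of_injective F hF
    rw [H.card_E, Finite.card_option, Nat.card_prod, Nat.card_eq_fintype_card,
      Nat.card_eq_fintype_card, Fintype.card_coe, Fintype.card_bool] at hle
    omega

end Cfsg.Agent.Helper8.QE
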