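import Mathlib
import Cfsg.Agent.Helper8.ParabolicIndex

set_option autoImplicit false

/-! q-integers, q-factorials and falling q-factorials. -/

namespace Cfsg.Agent.Helper8.Parab

/-- The q-factorial. -/
def Qf (q r : ℕ) : ℕ := ∏ j ∈ Finset.range r, gs q (j + 1)

/-- The falling q-factorial `[lam][lam-1]⋯[lam-k+1]`. -/
def ff (q lam k : ℕ) : ℕ := ∏ t ∈ Finset.range k, gs q (lam - t)

theorem gs_zero (q : ℕ) : gs q 0 = 0 := by
  unfold gs
  rw [Finset.range_zero, Finset.sum_empty]

theorem gs_split (q lam t : ℕ) (h : t ≤ lam) : gs q lam = gs q t + q ^ t * gs q (lam - t) := by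
  unfold gs
  rw [← Finset.sum_range_add_sum_Ico _ h, Finset.sum_Ico_eq_sum_range, Finset.mul_sum]
  congr 1
  apply Finset.sum_congr rfl
  intro l _
  rw [pow_add]

theorem Qf_split (q lam k : ℕ) (h : k ≤ lam) : Qf q lam = Qf q (lam - k) * ff q lam k := by
  unfold Qf ff
  rw [← Finset.prod_range_mul_prod_Ico _ (Nat.sub_le lam k), Finset.prod_Ico_eq_prod_range]
  congr 1
  have : lam - (lam - k) = k := by omega
  rw [this, ← Finset.prod_range_reflect (fun t => gs q (lam - t)) k]
  apply Finset.prod_congr rfl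
  intro t ht
  rw [Finset.mem_range] at ht
  congr 1
  omega

theorem ff_eq_zero (q lam k : ℕ) (h : lam < k) : ff q lam k = 0 := by
  unfold ff
  apply Finset.prod_eq_zero (Finset.mem_range.mpr h)
  rw [Nat.sub_self, gs_zero]

/-- The key identity in `ℂ`. -/
theorem ff_cast (q lam k : ℕ) :
    (q : ℂ) ^ (∑ t ∈ Finset.range k, t) * (ff q lam k : ℂ)
      = ∏ t ∈ Finset.range k, ((gs q lam : ℂ) - (gs q t : ℂ)) := by
  rcases le_or_gt k lam with h | h
  · unfold ff
    rw [← Finset.prod_pow_eq_pow_sum, Nat.cast_prod, ← Finset.prod_mul_distrib]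
    apply Finset.prod_congr rfl
    intro t ht
    rw [Finset.mem_range] at ht
    have := gs_split q lam t (by omega)
    rw [this]
    push_cast
    ring
  · rw [ff_eq_zero q lam k h, Nat.cast_zero, mul_zero]
    symm
    apply Finset.prod_eq_zero (Finset.mem_range.mpr h)
    rw [sub_self]

theorem sum_tri (n : ℕ) : ∑ j ∈ Finset.range n, ∑ t ∈ Finset.range j, t = n * (n - 1) * (n - 2) / 6 := by
  have key : ∀ n, 6 * ∑ j ∈ Finset.range n, ∑ t ∈ Finset.range j, t = n * (n - 1) * (n - 2) := by
    intro n
    induction n with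
    | zero => simp
    | succ n ih =>
      rw [Finset.sum_range_succ, mul_add, ih]
      have h2 := Finset.sum_range_id_mul_two n
      rcases n with _ | _ | n
      · simp
      · simp
      · simp only [Nat.add_sub_cancel] at *
        have h3 : n + 1 + 1 - 2 = n := by omega
        have h4 : n + 1 + 1 + 1 - 2 = n + 1 := by omega
        rw [h3, h4]
        nlinarith [h2]
  have := key n
  omega

end Cfsg.Agent.Helper8.Parab
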