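import Mathlib
import Cfsg.Prelude.Def_RootSubgroups
import Cfsg.Agent.Helper7.RankOneOmega

set_option autoImplicit false

/-! Families of abstract root subgroups viewed inside the subgroup they generate (helper8). -/

namespace Cfsg.Agent.Helper8.RootSub

open Cfsg Cfsg.Agent.Helper7.R1

variable {G : Type*} [Group G] {H : Subgroup G}

theorem subgroupOf_eq_iff {A B : Subgroup G} (hA : A ≤ H) (hB : B ≤ H) :
    A.subgroupOf H = B.subgroupOf H ↔ A = B := by
  rw [Subgroup.subgroupOf_inj, inf_eq_left.mpr hA, inf_eq_left.mpr hB]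

theorem conjBy_subgroupOf (A : Subgroup G) (g : H) :
    conjBy (A.subgroupOf H) g = (conjBy A (g : G)).subgroupOf H := by
  ext x
  rw [mem_conjBy, Subgroup.mem_subgroupOf, Subgroup.mem_subgroupOf, mem_conjBy]
  rfl

theorem conjBy_le {A : Subgroup G} (hA : A ≤ H) {g : G} (hg : g ∈ H) : conjBy A g ≤ H := by
  intro x hx
  rw [mem_conjBy] at hx
  have h1 := hA hx
  have h2 : x = g * (g⁻¹ * x * g) * g⁻¹ := by group
  rw [h2]
  exact H.mul_mem (H.mul_mem hg h1) (H.inv_mem hg)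

theorem rankOneCondition_subgroupOf {A B : Subgroup G} (hA : A ≤ H) (hB : B ≤ H) :
    RankOneCondition (A.subgroupOf H) (B.subgroupOf H) ↔ RankOneCondition A B := by
  constructor
  · intro h a ha ha1
    obtain ⟨b, hb, hb1, hc⟩ := h ⟨a, hA ha⟩ (Subgroup.mem_subgroupOf.mpr ha)
      (fun e => ha1 (congrArg Subtype.val e))
    refine ⟨b, Subgroup.mem_subgroupOf.mp hb, fun e => hb1 (Subtype.ext e), ?_⟩
    rw [conjBy_subgroupOf, conjBy_subgroupOf] at hc
    exact (subgroupOf_eq_iff (conjBy_le hA (H.inv_mem b.2)) (conjBy_le hB (H.inv_mem (hA ha)))).mp hc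
  · intro h a ha ha1
    obtain ⟨b, hb, hb1, hc⟩ := h a (Subgroup.mem_subgroupOf.mp ha)
      (fun e => ha1 (Subtype.ext e))
    refine ⟨⟨b, hB hb⟩, Subgroup.mem_subgroupOf.mpr hb, fun e => hb1 (congrArg Subtype.val e), ?_⟩
    rw [conjBy_subgroupOf, conjBy_subgroupOf]
    exact congrArg (fun K => K.subgroupOf H) hc

theorem isNilpotent_subgroupOf {A : Subgroup G} (hA : A ≤ H) :
    Group.IsNilpotent (A.subgroupOf H) ↔ Group.IsNilpotent A := by
  constructor
  · intro h
    exact Group.nilpotent_of_mulEquiv (Subgroup.subgroupOfEquivOfLe hA)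
  · intro h
    exact Group.nilpotent_of_mulEquiv (Subgroup.subgroupOfEquivOfLe hA).symm

theorem isRankOnePair_subgroupOf {A B : Subgroup G} (hA : A ≤ H) (hB : B ≤ H) :
    IsRankOnePair (A.subgroupOf H) (B.subgroupOf H) ↔ IsRankOnePair A B := by
  constructor
  · rintro ⟨h1, h2, h3, h4, h5⟩
    exact ⟨fun e => h1 (e ▸ rfl), (isNilpotent_subgroupOf hA).mp h2,
      (isNilpotent_subgroupOf hB).mp h3, (rankOneCondition_subgroupOf hA hB).mp h4,
      (rankOneCondition_subgroupOf hB hA).mp h5⟩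
  · rintro ⟨h1, h2, h3, h4, h5⟩
    exact ⟨fun e => h1 ((subgroupOf_eq_iff hA hB).mp e), (isNilpotent_subgroupOf hA).mpr h2,
      (isNilpotent_subgroupOf hB).mpr h3, (rankOneCondition_subgroupOf hA hB).mpr h4,
      (rankOneCondition_subgroupOf hB hA).mpr h5⟩

theorem commutator_le_of_le {A B : Subgroup G} (hA : A ≤ H) (hB : B ≤ H) : ⁅A, B⁆ ≤ H := by
  rw [Subgroup.commutator_le]
  intro a ha b hb
  exact H.mul_mem (H.mul_mem (H.mul_mem (hA ha) (hB hb)) (H.inv_mem (hA ha))) (H.inv_mem (hB hb))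

theorem commutator_subgroupOf {A B : Subgroup G} (hA : A ≤ H) (hB : B ≤ H) :
    ⁅A.subgroupOf H, B.subgroupOf H⁆ = ⁅A, B⁆.subgroupOf H := by
  apply Subgroup.map_injective H.subtype_injective
  rw [Subgroup.map_commutator, Subgroup.map_subgroupOf_eq_of_le hA,
    Subgroup.map_subgroupOf_eq_of_le hB, Subgroup.map_subgroupOf_eq_of_le]
  exact commutator_le_of_le hA hB

theorem commutator_subgroupOf_eq_bot {A B : Subgroup G} (hA : A ≤ H) (hB : B ≤ H) :
    ⁅A.subgroupOf H, B.subgroupOf H⁆ = ⊥ ↔ ⁅A, B⁆ = ⊥ := by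
  rw [commutator_subgroupOf hA hB]
  have hle : ⁅A, B⁆ ≤ H := commutator_le_of_le hA hB
  constructor
  · intro h
    have := (subgroupOf_eq_iff hle (bot_le : (⊥ : Subgroup G) ≤ H)).mp (by
      rw [h, Subgroup.bot_subgroupOf])
    exact this
  · intro h
    rw [h, Subgroup.bot_subgroupOf]

end Cfsg.Agent.Helper8.RootSub
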