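import Mathlib
import Cfsg.Agent.Helper8.RootSubA

set_option autoImplicit false

/-! Families of abstract root subgroups viewed inside the subgroup they generate: transport of
the axioms (helper8). -/

namespace Cfsg.Agent.Helper8.RootSub

open Cfsg Cfsg.Agent.Helper7.R1

variable {G : Type*} [Group G]

/-- a rank one pair consists of conjugate subgroups. -/
theorem exists_conjBy_of_isRankOnePair {A B : Subgroup G} (h : IsRankOnePair A B) :
    ∃ g : G, B = conjBy A g := by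
  obtain ⟨a, ha, ha1⟩ := exists_nonid h
  obtain ⟨b, -, -, hb⟩ := h.cond_left a ha ha1
  refine ⟨a * b⁻¹, ?_⟩
  have h1 : B = conjBy (conjBy B a⁻¹) a := by
    rw [conjBy_conjBy, mul_inv_cancel, conjBy_one]
  rw [h1, ← hb, conjBy_conjBy]

/-- a family connected through rank one pairs is a single conjugacy class. -/
theorem isConjClass_of_connected {S : Set (Subgroup G)} (hne : S.Nonempty)
    (hconn : IsConnectedFamily (FAdj S) S) : IsConjClassOfSubgroups S := by
  refine ⟨hne, fun A hA B hB => ?_⟩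
  have h := hconn A hA B hB
  induction h with
  | refl => exact ⟨1, (conjBy_one A).symm⟩
  | tail _ hbc ih =>
    rename_i B' C
    obtain ⟨g, hg⟩ := ih hbc.1
    obtain ⟨g', hg'⟩ := exists_conjBy_of_isRankOnePair hbc.2.2
    exact ⟨g' * g, by rw [hg', hg, conjBy_conjBy]⟩

variable (S : Set (Subgroup G))

theorem le_gen {A : Subgroup G} (hA : A ∈ S) : A ≤ ⨆ B ∈ S, B := le_biSup (fun A => A) hA

theorem isRootSubgroupSet_inside (hcomm : ∀ A ∈ S, IsMulCommutative A) (hne : ∀ A ∈ S, A ≠ ⊥)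
    (hconj : ∀ A ∈ S, ∀ g : G, conjBy A g ∈ S)
    (hpair : ∀ A ∈ S, ∀ B ∈ S, ⁅A, B⁆ = ⊥ ∨ IsRankOnePair A B) :
    IsRootSubgroupSet ((fun A : Subgroup G => A.subgroupOf (⨆ B ∈ S, B)) '' S) where
  commutative := by
    rintro _ ⟨A, hA, rfl⟩
    have := hcomm A hA
    constructor; constructor
    rintro ⟨⟨a, haH⟩, ha⟩ ⟨⟨b, hbH⟩, hb⟩
    apply Subtype.ext
    apply Subtype.ext
    have h1 := this.is_comm.comm ⟨a, Subgroup.mem_subgroupOf.mp ha⟩ ⟨b, Subgroup.mem_subgroupOf.mp hb⟩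
    show a * b = b * a
    exact congrArg Subtype.val h1
  ne_bot := by
    rintro _ ⟨A, hA, rfl⟩ h
    apply hne A hA
    rw [← Subgroup.bot_subgroupOf] at h
    exact (subgroupOf_eq_iff (le_gen S hA) bot_le).mp h
  generates := by
    apply Subgroup.map_injective (⨆ B ∈ S, B).subtype_injective
    rw [iSup_image, Subgroup.map_iSup]
    simp_rw [Subgroup.map_iSup]
    rw [← MonoidHom.range_eq_map, Subgroup.range_subtype]
    apply le_antisymm
    · apply iSup₂_le
      intro A hA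
      rw [Subgroup.map_subgroupOf_eq_of_le (le_gen S hA)]
      exact le_gen S hA
    · apply iSup₂_le
      intro A hA
      refine le_trans ?_ (le_iSup₂ (f := fun A (_ : A ∈ S) =>
        Subgroup.map (⨆ B ∈ S, B).subtype (A.subgroupOf (⨆ B ∈ S, B))) A hA)
      rw [Subgroup.map_subgroupOf_eq_of_le (le_gen S hA)]
  conj_mem := by
    rintro _ ⟨A, hA, rfl⟩ g
    exact ⟨conjBy A (g : G), hconj A hA g, (conjBy_subgroupOf A g).symm⟩
  pair := by
    rintro _ ⟨A, hA, rfl⟩ _ ⟨B, hB, rfl⟩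
    rcases hpair A hA B hB with h | h
    · exact Or.inl ((commutator_subgroupOf_eq_bot (le_gen S hA) (le_gen S hB)).mpr h)
    · exact Or.inr (Or.inl ((isRankOnePair_subgroupOf (le_gen S hA) (le_gen S hB)).mpr h))

theorem isConnected_inside (hconn : IsConnectedFamily (FAdj S) S) :
    IsConnectedFamily (FAdj ((fun A : Subgroup G => A.subgroupOf (⨆ B ∈ S, B)) '' S))
      ((fun A : Subgroup G => A.subgroupOf (⨆ B ∈ S, B)) '' S) := by
  rintro _ ⟨A, hA, rfl⟩ _ ⟨B, hB, rfl⟩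
  refine Relation.ReflTransGen.lift (fun A : Subgroup G => A.subgroupOf (⨆ B ∈ S, B)) ?_
    A B (hconn A hA B hB)
  rintro C D ⟨hC, hD, hCD⟩
  exact ⟨⟨C, hC, rfl⟩, ⟨D, hD, rfl⟩,
    (isRankOnePair_subgroupOf (le_gen S hC) (le_gen S hD)).mpr hCD⟩

theorem isDegenerate_inside
    (hdeg : ∀ A ∈ S, ∀ B ∈ S, ¬ (⁅A, B⁆ ∈ S ∧ ∀ c ∈ ⁅A, B⁆, ∀ x ∈ A ⊔ B, c * x = x * c)) :
    IsDegenerateRootSet ((fun A : Subgroup G => A.subgroupOf (⨆ B ∈ S, B)) '' S) := by
  rintro _ ⟨A, hA, rfl⟩ _ ⟨B, hB, rfl⟩ ⟨h1, h2, -, -⟩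
  have hAH := le_gen S hA
  have hBH := le_gen S hB
  have hle : ⁅A, B⁆ ≤ ⨆ B ∈ S, B := commutator_le_of_le hAH hBH
  apply hdeg A hA B hB
  constructor
  · obtain ⟨C, hC, hCe⟩ := h1
    rw [commutator_subgroupOf hAH hBH] at hCe
    have := (subgroupOf_eq_iff (le_gen S hC) hle).mp hCe
    rwa [← this]
  · intro c hc x hx
    have hxH : x ∈ ⨆ B ∈ S, B := (sup_le hAH hBH) hx
    have h3 := h2 ⟨c, hle hc⟩ (by
      rw [commutator_subgroupOf hAH hBH]
      exact Subgroup.mem_subgroupOf.mpr hc) ⟨x, hxH⟩ (by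
      rw [← Subgroup.subgroupOf_sup hAH hBH]
      exact Subgroup.mem_subgroupOf.mpr hx)
    exact congrArg Subtype.val h3

theorem isPSL2PairOver_subgroupOf {k : Type*} [Field k] {H : Subgroup G} {A B : Subgroup G}
    (hA : A ≤ H) (hB : B ≤ H) (h : IsPSL2PairOver k A B) :
    IsPSL2PairOver k (A.subgroupOf H) (B.subgroupOf H) := by
  obtain ⟨φ, hr, hk, hu, hl⟩ := h
  have hrange : ∀ x, φ x ∈ H := by
    intro x
    have : φ x ∈ φ.range := ⟨x, rfl⟩
    rw [hr] at this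
    exact (sup_le hA hB) this
  have hcomp : H.subtype.comp (φ.codRestrict H hrange) = φ := by
    ext x
    rfl
  refine ⟨φ.codRestrict H hrange, ?_, ?_, ?_, ?_⟩
  · apply Subgroup.map_injective H.subtype_injective
    rw [MonoidHom.range_eq_map, Subgroup.map_map, hcomp, ← MonoidHom.range_eq_map, hr,
      Subgroup.map_sup, Subgroup.map_subgroupOf_eq_of_le hA, Subgroup.map_subgroupOf_eq_of_le hB]
  · rw [MonoidHom.ker_codRestrict]
    exact hk
  · apply Subgroup.map_injective H.subtype_injective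
    rw [Subgroup.map_map, hcomp, hu, Subgroup.map_subgroupOf_eq_of_le hA]
  · apply Subgroup.map_injective H.subtype_injective
    rw [Subgroup.map_map, hcomp, hl, Subgroup.map_subgroupOf_eq_of_le hB]

theorem kRoot_inside {k : Type*} [Field k]
    (hk : ∀ A ∈ S, ∀ B ∈ S, IsRankOnePair A B → IsPSL2PairOver k A B) :
    ∀ A' ∈ (fun A : Subgroup G => A.subgroupOf (⨆ B ∈ S, B)) '' S,
      ∀ B' ∈ (fun A : Subgroup G => A.subgroupOf (⨆ B ∈ S, B)) '' S,
      IsRankOnePair A' B' → IsPSL2PairOver k A' B' := by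
  rintro _ ⟨A, hA, rfl⟩ _ ⟨B, hB, rfl⟩ h
  have hAH := le_gen S hA
  have hBH := le_gen S hB
  exact isPSL2PairOver_subgroupOf hAH hBH
    (hk A hA B hB ((isRankOnePair_subgroupOf hAH hBH).mp h))

end Cfsg.Agent.Helper8.RootSub
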