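import Mathlib
import Cfsg.Agent.Helper7.RankOneOmega
import Cfsg.Agent.Helper8.RootSubB

set_option autoImplicit false

/-! Rank one pairs: non-identity elements of the two unipotent subgroups never commute
(helper8). -/

namespace Cfsg.Agent.Helper8.RankOneExtra

open Cfsg Cfsg.Agent.Helper7.R1

variable {G : Type*} [Group G] {A B : Subgroup G}

/-- no non-identity element of `A` commutes with a non-identity element of `B` -/
theorem not_commute (h : IsRankOnePair A B) {a b : G} (ha : a ∈ A) (ha1 : a ≠ 1) (hb : b ∈ B)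
    (hb1 : b ≠ 1) : a * b ≠ b * a := by
  intro hab
  have hne : B ≠ conjBy B a := fun e => ha1 (eq_one_of_conjBy_right h ha e.symm)
  have hb2 : b ∈ conjBy B a := by
    rw [mem_conjBy]
    have : a⁻¹ * b * a = b := by
      rw [mul_assoc, ← hab, ← mul_assoc, inv_mul_cancel, one_mul]
    rw [this]; exact hb
  have hp := (pair_of_unipotent h (right_mem_unipotent h)
    (conjBy_mem_unipotent (right_mem_unipotent h) (Subgroup.mem_sup_left ha)) hne).1
  have h1 : b ∈ B ⊓ conjBy B a := ⟨hb, hb2⟩
  rw [inf_eq_bot hp, Subgroup.mem_bot] at h1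
  exact hb1 h1

end Cfsg.Agent.Helper8.RankOneExtra
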