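import Mathlib
import Cfsg.Agent.Helper8.RankOneExtra

set_option autoImplicit false

/-! Rank one groups acting on an abelian group with quadratically acting unipotent subgroups:
endomorphism calculus (helper8). -/

namespace Cfsg.Agent.Helper8.QuadAct

open Cfsg Cfsg.Agent.Helper7.R1

/-- the key identity in a ring -/
theorem ring_key {R : Type*} [Ring R] {α α' β β' β₁ : R} (hα : α * α = 0) (hβ : β * β = 0)
    (hββ₁ : β * β₁ = 0) (hβ'β₁ : β' * β₁ = 0)
    (E : (1 - β) * (1 + α) * (1 + β) = (1 - α) * (1 + β') * (1 + α))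
    (E' : (1 - α) * (1 + β) * (1 + α) = (1 - β) * (1 + α') * (1 + β)) :
    (α' + α) * β₁ = 0 := by
  have hinv : (1 + β) * (1 - β) = 1 := by
    have : (1 + β) * (1 - β) = 1 - β * β := by noncomm_ring
    rw [this, hβ, sub_zero]
  -- `x = α β₁`, `y = α β α β₁`
  have L1 : (1 - β) * (1 + α) * (1 + β) * β₁ =
      β₁ + α * β₁ - β * (α * β₁) - β * β₁ + (1 - β) * (1 + α) * (β * β₁) := by noncomm_ring
  have R1 : (1 - α) * (1 + β') * (1 + α) * β₁ =
      β₁ + β' * (α * β₁) - α * (β' * (α * β₁)) + (1 - α) * (β' * β₁) - α * α * β₁ := by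
    noncomm_ring
  have G1 : α * β₁ - β * (α * β₁) = β' * (α * β₁) - α * (β' * (α * β₁)) := by
    have h := congrArg (· * β₁) E
    rw [L1, R1, hββ₁, hβ'β₁, hα, mul_zero, mul_zero, zero_mul, sub_zero, add_zero, add_zero,
      sub_zero] at h
    have h2 : α * β₁ - β * (α * β₁) = (β₁ + α * β₁ - β * (α * β₁)) - β₁ := by abel
    rw [h2, h]
    abel
  have L2 : (1 - β) * (1 + α) * (1 + β) * (α * β₁) =
      α * β₁ + α * (β * (α * β₁)) - β * (α * (β * (α * β₁)))
        + (1 - β) * (α * α * β₁) - β * β * (α * β₁) - β * (α * α * β₁) * 0 := by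
    noncomm_ring
  have R2 : (1 - α) * (1 + β') * (1 + α) * (α * β₁) =
      α * β₁ + β' * (α * β₁) - α * (β' * (α * β₁))
        + (1 - α) * (1 + β') * (α * α * β₁) - α * α * β₁ := by
    noncomm_ring
  have G2 : α * (β * (α * β₁)) - β * (α * (β * (α * β₁))) =
      β' * (α * β₁) - α * (β' * (α * β₁)) := by
    have h := congrArg (· * (α * β₁)) E
    rw [L2, R2, hα, hβ, zero_mul, zero_mul, mul_zero, mul_zero, mul_zero, add_zero, sub_zero,
      sub_zero, add_zero, sub_zero] at h
    have h2 : α * (β * (α * β₁)) - β * (α * (β * (α * β₁))) =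
        (α * β₁ + α * (β * (α * β₁)) - β * (α * (β * (α * β₁)))) - α * β₁ := by abel
    rw [h2, h]
    abel
  have hxy : α * β₁ = α * (β * (α * β₁)) := by
    have h1 : (1 - β) * (α * β₁ - α * (β * (α * β₁))) = 0 := by
      have : (1 - β) * (α * β₁ - α * (β * (α * β₁))) =
          (α * β₁ - β * (α * β₁)) - (α * (β * (α * β₁)) - β * (α * (β * (α * β₁)))) := by
        noncomm_ring
      rw [this, G1, G2, sub_self]
    have h2 : α * β₁ - α * (β * (α * β₁)) = 0 := by
      have := congrArg ((1 + β) * ·) h1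
      rwa [← mul_assoc, hinv, one_mul, mul_zero] at this
    exact sub_eq_zero.1 h2
  have L3 : (1 - α) * (1 + β) * (1 + α) * β₁ =
      β₁ + β * (α * β₁) - α * (β * (α * β₁)) + (1 - α) * (β * β₁) - α * α * β₁ := by
    noncomm_ring
  have R3 : (1 - β) * (1 + α') * (1 + β) * β₁ =
      β₁ + α' * β₁ - β * (α' * β₁) - β * β₁ + (1 - β) * (1 + α') * (β * β₁) := by noncomm_ring
  have G3 : β * (α * β₁) - α * (β * (α * β₁)) = α' * β₁ - β * (α' * β₁) := by
    have h := congrArg (· * β₁) E'
    rw [L3, R3, hββ₁, hα, mul_zero, mul_zero, zero_mul, sub_zero, add_zero, add_zero,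
      sub_zero] at h
    have h2 : β * (α * β₁) - α * (β * (α * β₁)) =
        (β₁ + β * (α * β₁) - α * (β * (α * β₁))) - β₁ := by abel
    rw [h2, h]
    abel
  rw [← hxy] at G3
  have h1 : (1 - β) * (α' * β₁ + α * β₁) = 0 := by
    have : (1 - β) * (α' * β₁ + α * β₁) =
        (α' * β₁ - β * (α' * β₁)) - (β * (α * β₁) - α * β₁) := by noncomm_ring
    rw [this, ← G3, sub_self]
  have h2 := congrArg ((1 + β) * ·) h1
  rw [← mul_assoc, hinv, one_mul, mul_zero] at h2
  rw [add_mul]
  exact h2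

section act

variable {X N : Type*} [Group X] [AddCommGroup N] [DistribMulAction X N]

local notation "ρ" => DistribMulAction.toAddMonoidEnd X N

/-- the endomorphism `x - 1` -/
def r (x : X) : AddMonoid.End N := DistribMulAction.toAddMonoidEnd X N x - 1

theorem r_apply (x : X) (n : N) : (r x : AddMonoid.End N) n = x • n - n := rfl

theorem rho_apply (x : X) (n : N) : (ρ x) n = x • n := rfl

theorem rho_eq (x : X) : ρ x = 1 + r x := by
  unfold r; abel

theorem rho_inv_eq {x : X} (hx : (r x : AddMonoid.End N) * r x = 0) : ρ x⁻¹ = 1 - r x := by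
  have h1 : ρ x⁻¹ * ρ x = 1 := by
    rw [← map_mul, inv_mul_cancel, map_one]
  have h2 : (1 + r x : AddMonoid.End N) * (1 - r x) = 1 := by
    have : (1 + r x : AddMonoid.End N) * (1 - r x) = 1 - r x * r x := by noncomm_ring
    rw [this, hx, sub_zero]
  calc ρ x⁻¹ = ρ x⁻¹ * ((1 + r x) * (1 - r x)) := by rw [h2, mul_one]
    _ = (ρ x⁻¹ * ρ x) * (1 - r x) := by rw [rho_eq x, mul_assoc]
    _ = 1 - r x := by rw [h1, one_mul]

theorem r_mul_r_of_quad {x y : X} (h : ∀ n : N, y • (x • n - n) = x • n - n) :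
    (r y : AddMonoid.End N) * r x = 0 := by
  refine AddMonoidHom.ext fun n => ?_
  show r y (r x n) = 0
  rw [r_apply, r_apply, h, sub_self]

/-- the pointwise fixer of an additive subgroup -/
def fixer (M : AddSubgroup N) : Subgroup X where
  carrier := {k | ∀ m ∈ M, k • m = m}
  one_mem' := fun m _ => one_smul _ m
  mul_mem' := by
    intro a b ha hb m hm
    rw [mul_smul, hb m hm, ha m hm]
  inv_mem' := by
    intro a ha m hm
    rw [inv_smul_eq_iff, ha m hm]

theorem mem_fixer {M : AddSubgroup N} {k : X} : k ∈ fixer M ↔ ∀ m ∈ M, k • m = m := Iff.rfl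

end act

end Cfsg.Agent.Helper8.QuadAct
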