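import Mathlib
import Cfsg.Agent.Helper8.QuadActA
import Cfsg.Agent.Helper7.RankOneNormal

set_option autoImplicit false

/-! A rank one group acting on an abelian group, with `A` acting quadratically but not the whole
group, is special (helper8). -/

namespace Cfsg.Agent.Helper8.QuadAct

open Cfsg Cfsg.Agent.Helper7.R1

variable {X N : Type*} [Group X] [AddCommGroup N] [DistribMulAction X N]

local notation "ρ" => DistribMulAction.toAddMonoidEnd X N

/-- generators of `[N, X]` coming from `A` and `B` -/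
def gens (A B : Subgroup X) : Set N := {m | ∃ x : X, (x ∈ A ∨ x ∈ B) ∧ ∃ n : N, m = x • n - n}

/-- `[N, A] + [N, B]` -/
def MM (A B : Subgroup X) : AddSubgroup N := AddSubgroup.closure (gens A B)

theorem gen_mem {A B : Subgroup X} {x : X} (hx : x ∈ A ∨ x ∈ B) (n : N) :
    x • n - n ∈ (MM A B : AddSubgroup N) :=
  AddSubgroup.subset_closure ⟨x, hx, n, rfl⟩

/-- an element fixing the generators fixes `MM` pointwise -/
theorem fix_of_gens {A B : Subgroup X} {k : X}
    (hk : ∀ x : X, (x ∈ A ∨ x ∈ B) → ∀ n : N, k • (x • n - n) = x • n - n) :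
    ∀ m ∈ (MM A B : AddSubgroup N), k • m = m := by
  intro m hm
  induction hm using AddSubgroup.closure_induction with
  | mem m hm =>
    obtain ⟨x, hx, n, rfl⟩ := hm
    exact hk x hx n
  | zero => exact smul_zero k
  | add m₁ m₂ _ _ h₁ h₂ => rw [smul_add, h₁, h₂]
  | neg m _ h₁ => rw [smul_neg, h₁]

theorem invariant {A B : Subgroup X} (htop : A ⊔ B = ⊤) (x : X) :
    (∀ m ∈ (MM A B : AddSubgroup N), x • m ∈ (MM A B : AddSubgroup N)) ∧
      ∀ n : N, x • n - n ∈ (MM A B : AddSubgroup N) := by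
  have hx : x ∈ A ⊔ B := by rw [htop]; trivial
  have gen : ∀ y : X, (y ∈ A ∨ y ∈ B) →
      ((∀ m ∈ (MM A B : AddSubgroup N), y • m ∈ (MM A B : AddSubgroup N)) ∧
      ∀ n : N, y • n - n ∈ (MM A B : AddSubgroup N)) := by
    intro y hy
    refine ⟨?_, fun n => gen_mem hy n⟩
    intro m hm
    have : y • m = m + (y • m - m) := by abel
    rw [this]
    exact AddSubgroup.add_mem _ hm (gen_mem hy m)
  refine sup_induction' (p := fun x => (∀ m ∈ (MM A B : AddSubgroup N),
      x • m ∈ (MM A B : AddSubgroup N)) ∧ ∀ n : N, x • n - n ∈ (MM A B : AddSubgroup N))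
    (fun a ha => gen a (Or.inl ha)) (fun b hb => gen b (Or.inr hb)) ?_ ?_ hx
  · refine ⟨fun m hm => by rwa [one_smul], fun n => ?_⟩
    rw [one_smul, sub_self]
    exact AddSubgroup.zero_mem _
  · rintro x y ⟨hx1, hx2⟩ ⟨hy1, hy2⟩
    refine ⟨fun m hm => ?_, fun n => ?_⟩
    · rw [mul_smul]
      exact hx1 _ (hy1 m hm)
    · have : (x * y) • n - n = x • (y • n - n) + (x • n - n) := by
        rw [mul_smul, smul_sub]; abel
      rw [this]
      exact AddSubgroup.add_mem _ (hx1 _ (hy2 n)) (hx2 n)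

theorem fixer_normal {A B : Subgroup X} (htop : A ⊔ B = ⊤) :
    (fixer (MM A B : AddSubgroup N) : Subgroup X).Normal := by
  constructor
  intro k hk x m hm
  rw [mul_smul, mul_smul, hk _ ((invariant htop x⁻¹).1 m hm), smul_inv_smul]

/-- the unipotent subgroup `B` acts quadratically as well -/
theorem quad_right {A B : Subgroup X} (hp : IsRankOnePair A B)
    (hq : ∀ a ∈ A, ∀ a' ∈ A, ∀ n : N, a' • (a • n - n) = a • n - n) :
    ∀ b ∈ B, ∀ b' ∈ B, ∀ n : N, b' • (b • n - n) = b • n - n := by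
  obtain ⟨g, hg⟩ := Cfsg.Agent.Helper8.RootSub.exists_conjBy_of_isRankOnePair hp
  intro b hb b' hb' n
  rw [hg, mem_conjBy] at hb hb'
  have key := hq _ hb _ hb' (g⁻¹ • n)
  have e3 : b • n - n = g • ((g⁻¹ * b * g) • (g⁻¹ • n) - g⁻¹ • n) := by
    rw [smul_sub, smul_inv_smul, ← mul_smul, ← mul_smul]
    congr 2
    group
  have e4 : ∀ w : N, b' • (g • w) = g • ((g⁻¹ * b' * g) • w) := by
    intro w
    rw [← mul_smul, ← mul_smul]
    congr 1
    group
  rw [e3, e4, key]

theorem special_of_quadratic {A B : Subgroup X} (h : IsRankOneGroup X A B)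
    (hq : ∀ a ∈ A, ∀ a' ∈ A, ∀ n : N, a' • (a • n - n) = a • n - n)
    (hX : ∃ x y : X, ∃ n : N, y • (x • n - n) ≠ x • n - n) : IsSpecialRankOnePair A B := by
  have hp : IsRankOnePair A B := h.2
  have htop : A ⊔ B = ⊤ := h.1
  have hqB := quad_right hp hq
  have rA : ∀ a ∈ A, ∀ a' ∈ A, (r a' : AddMonoid.End N) * r a = 0 :=
    fun a ha a' ha' => r_mul_r_of_quad (hq a ha a' ha')
  have rB : ∀ b ∈ B, ∀ b' ∈ B, (r b' : AddMonoid.End N) * r b = 0 :=
    fun b hb b' hb' => r_mul_r_of_quad (hqB b hb b' hb')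
  refine ⟨hp, ?_⟩
  intro a ha ha1 b hb hb1 hC
  have hb'B : a * (b⁻¹ * a * b) * a⁻¹ ∈ B := by
    have h1 : b⁻¹ * a * b ∈ conjBy A b⁻¹ := by
      rw [mem_conjBy]
      have : (b⁻¹)⁻¹ * (b⁻¹ * a * b) * b⁻¹ = a := by group
      rw [this]; exact ha
    rw [hC, mem_conjBy] at h1
    have : (a⁻¹)⁻¹ * (b⁻¹ * a * b) * a⁻¹ = a * (b⁻¹ * a * b) * a⁻¹ := by group
    rwa [this] at h1
  have ha'A : b * (a⁻¹ * b * a) * b⁻¹ ∈ A := by
    have h1 : a⁻¹ * b * a ∈ conjBy B a⁻¹ := by
      rw [mem_conjBy]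
      have : (a⁻¹)⁻¹ * (a⁻¹ * b * a) * a⁻¹ = b := by group
      rw [this]; exact hb
    rw [← hC, mem_conjBy] at h1
    have : (b⁻¹)⁻¹ * (a⁻¹ * b * a) * b⁻¹ = b * (a⁻¹ * b * a) * b⁻¹ := by group
    rwa [this] at h1
  obtain ⟨b', hb', eq1⟩ : ∃ b' ∈ B, b⁻¹ * a * b = a⁻¹ * b' * a :=
    ⟨_, hb'B, by group⟩
  obtain ⟨a', ha', eq2⟩ : ∃ a' ∈ A, a⁻¹ * b * a = b⁻¹ * a' * b :=
    ⟨_, ha'A, by group⟩
  -- the equations in the endomorphism ring
  have E : (1 - r b : AddMonoid.End N) * (1 + r a) * (1 + r b) =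
      (1 - r a) * (1 + r b') * (1 + r a) := by
    have := congrArg (ρ) eq1
    rw [map_mul, map_mul, map_mul, map_mul, rho_inv_eq (rB b hb b hb), rho_inv_eq (rA a ha a ha),
      rho_eq a, rho_eq b, rho_eq b'] at this
    exact this
  have E' : (1 - r a : AddMonoid.End N) * (1 + r b) * (1 + r a) =
      (1 - r b) * (1 + r a') * (1 + r b) := by
    have := congrArg (ρ) eq2
    rw [map_mul, map_mul, map_mul, map_mul, rho_inv_eq (rB b hb b hb), rho_inv_eq (rA a ha a ha),
      rho_eq a, rho_eq b, rho_eq a'] at this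
    exact this
  have k2 : ∀ a₁ ∈ A, (r b' + r b : AddMonoid.End N) * r a₁ = 0 := fun a₁ ha₁ =>
    ring_key (rB b hb b hb) (rA a ha a ha) (rA a₁ ha₁ a ha) (rA a₁ ha₁ a' ha') E' E
  -- the element `z = b' b`
  have hzB : b' * b ∈ B := B.mul_mem hb' hb
  have hz : ρ (b' * b) = 1 + (r b' + r b) + r b' * r b := by
    rw [map_mul, rho_eq, rho_eq]; noncomm_ring
  have hzfix : ∀ m ∈ (MM A B : AddSubgroup N), (b' * b) • m = m := by
    apply fix_of_gens
    intro x hx n
    have e1 : (b' * b) • (x • n - n) = (ρ (b' * b)) (r x n) := rfl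
    rw [e1, hz, rB b hb b' hb', add_zero]
    rcases hx with hx | hx
    · have e2 : ((1 + (r b' + r b) : AddMonoid.End N)) (r x n) =
          r x n + ((r b' + r b) * r x : AddMonoid.End N) n := rfl
      rw [e2, k2 x hx]
      show r x n + 0 = _
      rw [add_zero]; rfl
    · have e2 : ((1 + (r b' + r b) : AddMonoid.End N)) (r x n) =
          r x n + ((r b' * r x : AddMonoid.End N) n + (r b * r x : AddMonoid.End N) n) := rfl
      rw [e2, rB x hx b' hb', rB x hx b hb]
      show r x n + (0 + 0) = _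
      rw [add_zero, add_zero]; rfl
  -- `z = 1`
  have hz1 : b' * b = 1 := by
    by_contra hne
    have hzK : b' * b ∈ (fixer (MM A B : AddSubgroup N) : Subgroup X) := hzfix
    have hnormal := fixer_normal (N := N) htop
    have hnc : ¬ (fixer (MM A B : AddSubgroup N) : Subgroup X) ≤ Subgroup.center X := by
      intro hle
      have hc := hle hzK
      rw [Subgroup.mem_center_iff] at hc
      apply hne
      apply eq_one_of_conjBy_right (RankOnePair_symm hp) hzB
      exact conjBy_of_comm (fun x _ => (hc x).symm)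
    have h1 : (fixer (MM A B : AddSubgroup N) : Subgroup X) ⊔ A = ⊤ :=
      (sup_eq_top_or_le_center h _ hnormal).resolve_right hnc
    have h2 : (fixer (MM A B : AddSubgroup N) : Subgroup X) ⊔ B = ⊤ :=
      (sup_eq_top_or_le_center ⟨by rw [sup_comm]; exact htop, RankOnePair_symm hp⟩ _
        hnormal).resolve_right hnc
    -- `A` and `B` fix `MM` pointwise
    have hA : ∀ a₁ ∈ A, a₁ ∈ (fixer (MM A B : AddSubgroup N) : Subgroup X) := by
      intro a₁ ha₁
      have hmem : a₁ ∈ ((fixer (MM A B : AddSubgroup N) ⊔ B : Subgroup X) : Set X) := by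
        rw [h2]; trivial
      rw [Subgroup.normal_mul] at hmem
      obtain ⟨k, hk, b₁, hb₁, rfl⟩ := hmem
      apply fix_of_gens
      intro x hx n
      rcases hx with hx | hx
      · exact hq x hx _ ha₁ n
      · rw [mul_smul, hqB x hx b₁ hb₁ n]
        exact hk _ (gen_mem (Or.inr hx) n)
    have hB : ∀ b₁ ∈ B, b₁ ∈ (fixer (MM A B : AddSubgroup N) : Subgroup X) := by
      intro b₁ hb₁
      have hmem : b₁ ∈ ((fixer (MM A B : AddSubgroup N) ⊔ A : Subgroup X) : Set X) := by
        rw [h1]; trivial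
      rw [Subgroup.normal_mul] at hmem
      obtain ⟨k, hk, a₁, ha₁, rfl⟩ := hmem
      apply fix_of_gens
      intro x hx n
      rcases hx with hx | hx
      · rw [mul_smul, hq x hx a₁ ha₁ n]
        exact hk _ (gen_mem (Or.inl hx) n)
      · exact hqB x hx _ hb₁ n
    have hall : ∀ y : X, y ∈ (fixer (MM A B : AddSubgroup N) : Subgroup X) := by
      intro y
      have hy : y ∈ A ⊔ B := by rw [htop]; trivial
      exact (sup_le (show A ≤ _ from hA) (show B ≤ _ from hB)) hy
    obtain ⟨x, y, n, hxyn⟩ := hX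
    exact hxyn (hall y _ ((invariant htop x).2 n))
  have hb'eq : b' = b⁻¹ := eq_inv_of_mul_eq_one_left hz1
  rw [eq1, hb'eq]

end Cfsg.Agent.Helper8.QuadAct
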