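import Mathlib
import Cfsg.Agent.Helper8.QuadTypeF

/-!
# Types of quadratic spaces (helper8), part G: odd-dimensional spaces are similar

Two non-degenerate quadratic spaces of the same odd dimension over a finite field of odd order are similar.
-/

set_option autoImplicit false

namespace Cfsg.Agent.Helper8.QuadType

open Module Cfsg.Agent.Helper8.QuadForm Cfsg.Agent.Helper8.WittQuad Cfsg.Agent.Helper7.QTy
  Cfsg.Agent.Helper7.SpOrd

variable {F : Type*} [Field F] {V : Type*} [AddCommGroup V] [Module F V]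
  {V' : Type*} [AddCommGroup V'] [Module F V']

theorem polar_smul_form (c : F) (Q : QuadraticForm F V) (u v : V) :
    QuadraticMap.polar (c • Q) u v = c * QuadraticMap.polar Q u v := by
  unfold QuadraticMap.polar
  simp only [smul_apply, smul_eq_mul]
  ring

/-- in a space of odd dimension at least three there is a non-singular vector whose perpendicular has a
prescribed type -/
theorem exists_vector_with_type [Fintype F] [FiniteDimensional F V] (h2 : (2 : F) ≠ 0)
    {Q : QuadraticForm F V} (hV : ND (QuadraticMap.polarBilin Q) ⊤) (hodd : Odd (finrank F V))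
    (h3 : 3 ≤ finrank F V) (p : Prop) :
    ∃ y : V, Q y ≠ 0 ∧ (Hyp Q (perpIn Q y ⊤) ↔ p) := by
  classical
  have hrefl := pB_refl Q
  obtain ⟨m, hm⟩ := hodd
  have htop : finrank F ↥(⊤ : Submodule F V) = 2 * m + 1 := by rw [finrank_top, hm]
  -- a non-degenerate subspace of dimension `2m` of the prescribed type
  obtain ⟨W, hWnd, hWd, hWt⟩ : ∃ W : Submodule F V, ND (QuadraticMap.polarBilin Q) W ∧
      finrank F ↥W = 2 * m ∧ (Hyp Q W ↔ p) := by
    by_cases hp : p
    · obtain ⟨W, -, hWnd, hWd, hWy⟩ := exists_hyp_sub hV hV (h := m) (by rw [htop]; omega)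
      exact ⟨W, hWnd, hWd, iff_of_true hWy hp⟩
    · obtain ⟨W, -, hWnd, hWd, hWy⟩ := exists_not_hyp_sub_odd h2 hV hV (h := m - 1)
        (by rw [htop]; omega)
      exact ⟨W, hWnd, by omega, iff_of_false hWy hp⟩
  have hLnd := nd_perp_inf hrefl hWnd hV le_top
  have hLd := finrank_perp_inf hrefl hWnd (le_top : W ≤ ⊤)
  obtain ⟨y, hyL, hy⟩ := exists_nonsingular_in hLnd (by omega)
  refine ⟨y, hy, ?_⟩
  obtain ⟨-, hd, -⟩ := perpIn_props h2 hy hV (Submodule.mem_top (x := y))
  have hle : W ≤ perpIn Q y ⊤ := by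
    intro w hw
    apply mem_perpIn.2
    refine ⟨?_, Submodule.mem_top⟩
    have := mem_perp.1 hyL.1 w hw
    rw [QuadraticMap.polar_comm]
    exact this
  have heq : W = perpIn Q y ⊤ := Submodule.eq_of_le_of_finrank_eq hle (by omega)
  rw [← heq]
  exact hWt

/-- **two non-degenerate quadratic spaces of the same odd dimension are similar** -/
theorem exists_similarity_odd [Fintype F] [FiniteDimensional F V] [FiniteDimensional F V']
    (h2 : (2 : F) ≠ 0) {Q : QuadraticForm F V} {Q' : QuadraticForm F V'} (hQ : Nondeg Q)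
    (hQ' : Nondeg Q') (hd : finrank F V = finrank F V') (hodd : Odd (finrank F V)) :
    ∃ (c : F) (φ : V ≃ₗ[F] V'), c ≠ 0 ∧ ∀ v, Q' (φ v) = c * Q v := by
  classical
  have hV := nd_top_of_nondeg hQ
  have hV' := nd_top_of_nondeg hQ'
  have hpos : 0 < finrank F ↥(⊤ : Submodule F V) := by rw [finrank_top]; exact hodd.pos
  obtain ⟨x, -, hx⟩ := exists_nonsingular_in hV hpos
  obtain ⟨hUnd, hUd, hUsup⟩ := perpIn_props h2 hx hV (Submodule.mem_top (x := x))
  rw [finrank_top] at hUd
  -- a vector of `V'` whose perpendicular has the same type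
  obtain ⟨y, hy, hyt⟩ : ∃ y : V', Q' y ≠ 0 ∧ (Hyp Q' (perpIn Q' y ⊤) ↔ Hyp Q (perpIn Q x ⊤)) := by
    by_cases h3 : 3 ≤ finrank F V'
    · exact exists_vector_with_type h2 hV' (hd ▸ hodd) h3 _
    · have h1 : finrank F V = 1 := by
        obtain ⟨k, hk⟩ := hodd
        omega
      have hpos' : 0 < finrank F ↥(⊤ : Submodule F V') := by rw [finrank_top]; omega
      obtain ⟨y, -, hy⟩ := exists_nonsingular_in hV' hpos'
      obtain ⟨-, hd', -⟩ := perpIn_props h2 hy hV' (Submodule.mem_top (x := y))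
      rw [finrank_top] at hd'
      have hb : perpIn Q x ⊤ = ⊥ := by
        rw [← Submodule.finrank_eq_zero (R := F)]
        omega
      have hb' : perpIn Q' y ⊤ = ⊥ := by
        rw [← Submodule.finrank_eq_zero (R := F)]
        omega
      exact ⟨y, hy, by rw [hb, hb']; exact iff_of_true (hyp_bot Q') (hyp_bot Q)⟩
  obtain ⟨hU'nd, hU'd, hU'sup⟩ := perpIn_props h2 hy hV' (Submodule.mem_top (x := y))
  rw [finrank_top] at hU'd
  set U := perpIn Q x ⊤ with hU
  set U' := perpIn Q' y ⊤ with hU'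
  set c : F := Q' y / Q x with hc
  have hc0 : c ≠ 0 := div_ne_zero hy hx
  have hcx : c * Q x = Q' y := by rw [hc, div_mul_cancel₀ _ hx]
  -- the isometry between the perpendiculars
  have hnd₁ : Nondeg ((c • Q).comp U.subtype) := by
    intro v hv
    apply nondeg_comp_of_nd hUnd v
    intro w
    have := hv w
    rw [polar_comp_subtype, polar_smul_form] at this
    rw [polar_comp_subtype]
    exact (mul_eq_zero.1 this).resolve_left hc0
  have hnd₂ : Nondeg (Q'.comp U'.subtype) := nondeg_comp_of_nd hU'nd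
  have hev : Even (finrank F ↥U) := by
    obtain ⟨k, hk⟩ := hodd
    exact ⟨k, by omega⟩
  have ht : Hyp ((c • Q).comp U.subtype) ⊤ ↔ Hyp (Q'.comp U'.subtype) ⊤ := by
    rw [hyp_comp_subtype_iff Q' U', hyt, ← hyp_comp_subtype_iff Q U]
    constructor
    · rintro ⟨L, hL, hLts, hLd⟩
      refine ⟨L, hL, fun w hw => ?_, hLd⟩
      have := hLts w hw
      rw [QuadraticMap.comp_apply, smul_apply, smul_eq_mul] at this
      rw [QuadraticMap.comp_apply]
      exact (mul_eq_zero.1 this).resolve_left hc0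
    · rintro ⟨L, hL, hLts, hLd⟩
      refine ⟨L, hL, fun w hw => ?_, hLd⟩
      have := hLts w hw
      rw [QuadraticMap.comp_apply] at this
      rw [QuadraticMap.comp_apply, smul_apply, this, smul_zero]
  obtain ⟨ψ, hψ⟩ := exists_isometry_of_same_type hnd₁ hnd₂ (by omega) hev ht
  have hψ' : ∀ u : U, Q' ((ψ u : U') : V') = c * Q (u : V) := fun u => hψ u
  -- the coordinate along `x`
  have hxx : QuadraticMap.polar Q x x ≠ 0 := by
    rw [polar_self']
    exact mul_ne_zero h2 hx
  let s : V →ₗ[F] F := (QuadraticMap.polar Q x x)⁻¹ • QuadraticMap.polarBilin Q x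
  have hs : ∀ v, s v = (QuadraticMap.polar Q x x)⁻¹ * QuadraticMap.polar Q x v := fun v => rfl
  have hsx : s x = 1 := by rw [hs, inv_mul_cancel₀ hxx]
  let pr₀ : V →ₗ[F] V := LinearMap.id - s.smulRight x
  have hpr₀ : ∀ v, pr₀ v = v - s v • x := fun v => rfl
  have hprU : ∀ v, pr₀ v ∈ U := by
    intro v
    apply mem_perpIn.2
    refine ⟨?_, Submodule.mem_top⟩
    rw [hpr₀, QuadraticMap.polar_sub_right, QuadraticMap.polar_smul_right, hs, smul_eq_mul]
    field_simp
    ring
  let pr : V →ₗ[F] U := LinearMap.codRestrict U pr₀ hprU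
  have hpr : ∀ v, ((pr v : U) : V) = v - s v • x := fun v => rfl
  let φ₀ : V →ₗ[F] V' := s.smulRight y + U'.subtype ∘ₗ ψ.toLinearMap ∘ₗ pr
  have hφ₀ : ∀ v, φ₀ v = s v • y + ((ψ (pr v) : U') : V') := fun v => rfl
  have hQφ : ∀ v, Q' (φ₀ v) = c * Q v := by
    intro v
    have hperp' : QuadraticMap.polar Q' y ((ψ (pr v) : U') : V') = 0 := (mem_perpIn.1 (ψ (pr v)).2).1
    have hperp : QuadraticMap.polar Q x ((pr v : U) : V) = 0 := (mem_perpIn.1 (pr v).2).1
    have hv : v = s v • x + ((pr v : U) : V) := by rw [hpr]; abel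
    rw [hφ₀, QuadraticMap.map_add Q', QuadraticMap.map_smul, QuadraticMap.polar_smul_left, hperp',
      hψ']
    conv_rhs => rw [hv, QuadraticMap.map_add Q, QuadraticMap.map_smul, QuadraticMap.polar_smul_left,
      hperp]
    simp only [smul_eq_mul]
    rw [← hcx]
    ring
  have hinj : Function.Injective φ₀ := by
    rw [← LinearMap.ker_eq_bot, LinearMap.ker_eq_bot']
    intro v hv
    apply hQ v
    intro w
    have h1 : QuadraticMap.polar Q' (φ₀ v) (φ₀ w) = c * QuadraticMap.polar Q v w := by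
      unfold QuadraticMap.polar
      rw [← map_add, hQφ, hQφ, hQφ]
      ring
    rw [hv, QuadraticMap.polar_zero_left] at h1
    exact (mul_eq_zero.1 h1.symm).resolve_left hc0
  exact ⟨c, LinearMap.linearEquivOfInjective φ₀ hinj hd, hc0, fun v => hQφ v⟩

end Cfsg.Agent.Helper8.QuadType
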