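import Mathlib
import Cfsg.Agent.Helper8.QuadTypeG

/-!
# Types of quadratic spaces (helper8), part I: the matrix form of `exists_similarity_odd`

Two non-degenerate symmetric matrices `G₁, G₂` of the same odd size over a finite field of odd order are similar:
`aᵀ G₂ a = c • G₁` for an invertible `a` and a non-zero scalar `c`.
-/

set_option autoImplicit false

namespace Cfsg.Agent.Helper8.QuadType

open Module Cfsg.Agent.Helper8.QuadForm
open scoped Matrix

variable {F : Type*} [Field F]

theorem two_ne_zero_of_odd_card_field [Fintype F] (hF : Odd (Fintype.card F)) : (2 : F) ≠ 0 := by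
  intro h
  have hchar : ringChar F = 2 := by
    have : ringChar F ∣ 2 := by
      rw [← ringChar.spec]
      exact_mod_cast h
    rcases (Nat.dvd_prime Nat.prime_two).mp this with h1 | h1
    · exact absurd h1 (CharP.ringChar_ne_one)
    · exact h1
  have := FiniteField.even_card_of_char_two hchar
  have := Nat.odd_iff.mp hF
  omega

/-- a symmetric matrix is determined by its quadratic form when `2 ≠ 0` -/
theorem matrix_eq_of_quad_eq {κ : Type*} [Fintype κ] [DecidableEq κ] (h2 : (2 : F) ≠ 0) (M N : Matrix κ κ F)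
    (hM : Mᵀ = M) (hN : Nᵀ = N) (h : ∀ x : κ → F, Matrix.toBilin' M x x = Matrix.toBilin' N x x) : M = N := by
  ext i j
  have hij := h (Pi.single i 1 + Pi.single j 1)
  have hii := h (Pi.single i 1)
  have hjj := h (Pi.single j 1)
  simp only [map_add, LinearMap.add_apply, Matrix.toBilin'_single] at hij hii hjj
  have hMs : M j i = M i j := by
    conv_lhs => rw [← hM]
    rfl
  have hNs : N j i = N i j := by
    conv_lhs => rw [← hN]
    rfl
  rw [hMs, hNs] at hij
  have : 2 * M i j = 2 * N i j := by linear_combination hij - hii - hjj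
  exact mul_left_cancel₀ h2 this

/-- the quadratic form `x ↦ xᵀ G x` of a matrix -/
noncomputable def gramQF {κ : Type*} [Fintype κ] [DecidableEq κ] (G : Matrix κ κ F) : QuadraticForm F (κ → F) :=
  (Matrix.toBilin' G).toQuadraticMap

theorem gramQF_apply {κ : Type*} [Fintype κ] [DecidableEq κ] (G : Matrix κ κ F) (x : κ → F) :
    gramQF G x = Matrix.toBilin' G x x := rfl

theorem gramQF_polar {κ : Type*} [Fintype κ] [DecidableEq κ] (G : Matrix κ κ F) (hG : Gᵀ = G) (x y : κ → F) :
    QuadraticMap.polar (gramQF G) x y = 2 * Matrix.toBilin' G x y := by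
  unfold gramQF
  rw [LinearMap.BilinMap.polar_toQuadraticMap]
  have hs : Matrix.toBilin' G y x = Matrix.toBilin' G x y := by
    rw [Matrix.toBilin'_apply', Matrix.toBilin'_apply', Matrix.dotProduct_mulVec, dotProduct_comm,
      ← Matrix.mulVec_transpose, hG]
  rw [hs]
  ring

theorem gramQF_nondeg {κ : Type*} [Fintype κ] [DecidableEq κ] (h2 : (2 : F) ≠ 0) (G : Matrix κ κ F)
    (hG : Gᵀ = G) (hnd : (Matrix.toBilin' G).Nondegenerate) : Nondeg (gramQF G) := by
  intro v hv
  refine hnd.1 v fun w => ?_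
  have := hv w
  rw [gramQF_polar G hG] at this
  exact (mul_eq_zero.1 this).resolve_left h2

/-- **matrix form of `exists_similarity_odd`** -/
theorem exists_similarity_gram_odd [Fintype F] (hodd : Odd (Fintype.card F)) {k : ℕ} (hk : Odd k)
    (G₁ G₂ : Matrix (Fin k) (Fin k) F) (h₁ : G₁ᵀ = G₁) (h₂ : G₂ᵀ = G₂)
    (hd₁ : (Matrix.toBilin' G₁).Nondegenerate) (hd₂ : (Matrix.toBilin' G₂).Nondegenerate) :
    ∃ (a : GL (Fin k) F) (c : F), c ≠ 0 ∧
      (a : Matrix (Fin k) (Fin k) F)ᵀ * G₂ * (a : Matrix (Fin k) (Fin k) F) = c • G₁ := by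
  classical
  have h2 : (2 : F) ≠ 0 := two_ne_zero_of_odd_card_field hodd
  obtain ⟨c, φ, hc, hφ⟩ := exists_similarity_odd (Q := gramQF G₁) (Q' := gramQF G₂) h2
    (gramQF_nondeg h2 G₁ h₁ hd₁) (gramQF_nondeg h2 G₂ h₂ hd₂) rfl
    (by rw [finrank_fintype_fun_eq_card, Fintype.card_fin]; exact hk)
  have hinv1 : LinearMap.toMatrix' (φ : (Fin k → F) →ₗ[F] (Fin k → F)) *
      LinearMap.toMatrix' (φ.symm : (Fin k → F) →ₗ[F] (Fin k → F)) = 1 := by
    rw [← LinearMap.toMatrix'_comp, ← LinearMap.toMatrix'_id]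
    congr 1
    ext x : 1
    simp
  have hinv2 : LinearMap.toMatrix' (φ.symm : (Fin k → F) →ₗ[F] (Fin k → F)) *
      LinearMap.toMatrix' (φ : (Fin k → F) →ₗ[F] (Fin k → F)) = 1 := by
    rw [← LinearMap.toMatrix'_comp, ← LinearMap.toMatrix'_id]
    congr 1
    ext x : 1
    simp
  refine ⟨⟨LinearMap.toMatrix' (φ : (Fin k → F) →ₗ[F] (Fin k → F)),
    LinearMap.toMatrix' (φ.symm : (Fin k → F) →ₗ[F] (Fin k → F)), hinv1, hinv2⟩, c, hc, ?_⟩
  show (LinearMap.toMatrix' (φ : (Fin k → F) →ₗ[F] (Fin k → F)))ᵀ * G₂ *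
    LinearMap.toMatrix' (φ : (Fin k → F) →ₗ[F] (Fin k → F)) = c • G₁
  apply matrix_eq_of_quad_eq h2
  · rw [Matrix.transpose_mul, Matrix.transpose_mul, Matrix.transpose_transpose, h₂, Matrix.mul_assoc]
  · rw [Matrix.transpose_smul, h₁]
  · intro x
    rw [← Matrix.toBilin'_comp, LinearMap.BilinForm.comp_apply, Matrix.toLin'_toMatrix']
    have := hφ x
    rw [gramQF_apply, gramQF_apply] at this
    rw [map_smul, LinearMap.smul_apply, LinearMap.smul_apply, smul_eq_mul]
    exact this

end Cfsg.Agent.Helper8.QuadType
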