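import Mathlib

set_option autoImplicit false

/-!
Central quotients of images of perfect groups: if `f : G → H` is onto with central kernel and `G`
is perfect, then `H / Z(H) ≅ G / Z(G)`.
-/

namespace Cfsg.Agent.Helper8.QuotCenter

open scoped commutatorElement

variable {G H : Type*} [Group G] [Group H]

/-- an element commuting with every element up to central factors centralizes all commutators. -/
theorem mem_center_of_commutator_mem (hperf : commutator G = ⊤) {x : G}
    (hx : ∀ y : G, x * y * x⁻¹ * y⁻¹ ∈ Subgroup.center G) : x ∈ Subgroup.center G := by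
  have hC : commutator G ≤ Subgroup.centralizer {x} := by
    rw [commutator_eq_closure, Subgroup.closure_le]
    rintro _ ⟨y, y', rfl⟩
    rw [SetLike.mem_coe, Subgroup.mem_centralizer_iff]
    intro w hw
    rw [Set.mem_singleton_iff] at hw
    subst hw
    -- `w y w⁻¹ = c y`, `w y' w⁻¹ = c' y'` with `c, c'` central
    obtain ⟨c, hc⟩ : ∃ c, c = w * y * w⁻¹ * y⁻¹ := ⟨_, rfl⟩
    obtain ⟨c', hc'⟩ : ∃ c', c' = w * y' * w⁻¹ * y'⁻¹ := ⟨_, rfl⟩
    have hcz : c ∈ Subgroup.center G := hc ▸ hx y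
    have hcz' : c' ∈ Subgroup.center G := hc' ▸ hx y'
    rw [Subgroup.mem_center_iff] at hcz hcz'
    have e1 : w * y * w⁻¹ = c * y := by rw [hc]; group
    have e2 : w * y' * w⁻¹ = c' * y' := by rw [hc']; group
    have e3 : w * ⁅y, y'⁆ * w⁻¹ = ⁅w * y * w⁻¹, w * y' * w⁻¹⁆ := by
      rw [commutatorElement_def, commutatorElement_def]; group
    have e4 : ⁅c * y, c' * y'⁆ = ⁅y, y'⁆ := by
      rw [commutatorElement_def, commutatorElement_def, _root_.mul_inv_rev, _root_.mul_inv_rev]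
      have h1 : c * y * (c' * y') * (y⁻¹ * c⁻¹) * (y'⁻¹ * c'⁻¹)
          = c * (y * (c' * (y' * (y⁻¹ * (c⁻¹ * (y'⁻¹ * c'⁻¹)))))) := by group
      rw [h1]
      have hci : ∀ g : G, c⁻¹ * g = g * c⁻¹ := by
        intro g
        have := hcz g
        calc c⁻¹ * g = c⁻¹ * (g * c) * c⁻¹ := by group
          _ = c⁻¹ * (c * g) * c⁻¹ := by rw [this]
          _ = g * c⁻¹ := by group
      have hci' : ∀ g : G, c'⁻¹ * g = g * c'⁻¹ := by
        intro g
        have := hcz' g
        calc c'⁻¹ * g = c'⁻¹ * (g * c') * c'⁻¹ := by group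
          _ = c'⁻¹ * (c' * g) * c'⁻¹ := by rw [this]
          _ = g * c'⁻¹ := by group
      calc c * (y * (c' * (y' * (y⁻¹ * (c⁻¹ * (y'⁻¹ * c'⁻¹))))))
          = c * (y * (c' * (y' * (y⁻¹ * (y'⁻¹ * c'⁻¹ * c⁻¹))))) := by rw [hci]
        _ = c * (y * (c' * (y' * y⁻¹ * y'⁻¹ * (c'⁻¹ * c⁻¹)))) := by group
        _ = c * (y * ((y' * y⁻¹ * y'⁻¹ * (c'⁻¹ * c⁻¹)) * c')) := by rw [hcz']
        _ = c * (y * (y' * y⁻¹ * y'⁻¹ * c⁻¹)) := by
          rw [hci' c⁻¹]; group
        _ = (y * (y' * y⁻¹ * y'⁻¹ * c⁻¹)) * c := by rw [hcz]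
        _ = y * y' * y⁻¹ * y'⁻¹ := by group
    have e5 : w * ⁅y, y'⁆ * w⁻¹ = ⁅y, y'⁆ := by rw [e3, e1, e2, e4]
    calc w * ⁅y, y'⁆ = w * ⁅y, y'⁆ * w⁻¹ * w := by group
      _ = ⁅y, y'⁆ * w := by rw [e5]
  rw [hperf] at hC
  rw [Subgroup.mem_center_iff]
  intro g
  have := hC (Subgroup.mem_top g)
  rw [Subgroup.mem_centralizer_iff] at this
  exact (this x rfl).symm

/-- **Central quotients of images of perfect groups.** -/
theorem quotCenter_equiv (f : G →* H) (hf : Function.Surjective f)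
    (hker : f.ker ≤ Subgroup.center G) (hperf : commutator G = ⊤) :
    Nonempty (H ⧸ Subgroup.center H ≃* G ⧸ Subgroup.center G) := by
  obtain ⟨ψ, hψ⟩ : ∃ ψ : G →* H ⧸ Subgroup.center H,
      ψ = (QuotientGroup.mk' (Subgroup.center H)).comp f := ⟨_, rfl⟩
  have hψsurj : Function.Surjective ψ := by
    rw [hψ, MonoidHom.coe_comp]
    exact (QuotientGroup.mk'_surjective _).comp hf
  have hkers : ψ.ker = Subgroup.center G := by
    ext x
    rw [MonoidHom.mem_ker, hψ, MonoidHom.comp_apply, QuotientGroup.mk'_apply,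
      QuotientGroup.eq_one_iff]
    constructor
    · intro hx
      rw [Subgroup.mem_center_iff] at hx
      apply mem_center_of_commutator_mem hperf
      intro y
      apply hker
      rw [MonoidHom.mem_ker, map_mul, map_mul, map_mul, map_inv, map_inv, ← hx (f y)]
      group
    · intro hx
      rw [Subgroup.mem_center_iff] at hx ⊢
      intro w
      obtain ⟨y, rfl⟩ := hf w
      rw [← map_mul, ← map_mul, hx y]
  exact ⟨(QuotientGroup.quotientKerEquivOfSurjective ψ hψsurj).symm.trans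
    (QuotientGroup.quotientMulEquivOfEq hkers)⟩

end Cfsg.Agent.Helper8.QuotCenter
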