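import Mathlib
import Cfsg.Agent.Helper8.TwGenD

set_option autoImplicit false
set_option linter.unusedSectionVars false
set_option linter.unusedVariables false

/-!
The triality twisted group of type `D₄` is generated by two elements.
-/

namespace Cfsg.Agent.Helper8.TwGen

open Cfsg Cfsg.Lie Matrix Cfsg.Agent.Helper7.Chev

theorem coprime_D4 {q : ℕ} (hq : 2 ≤ q) : Nat.Coprime (q ^ 2 + q - 1) (q ^ 3 - 1) := by
  obtain ⟨k, rfl⟩ : ∃ k, q = k + 1 := ⟨q - 1, by omega⟩
  have e1 : (k + 1) ^ 3 - 1 = k * ((k + 1) ^ 2 + (k + 1) + 1) := by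
    have : (k + 1) ^ 3 = k * ((k + 1) ^ 2 + (k + 1) + 1) + 1 := by ring
    omega
  have e2 : (k + 1) ^ 2 + (k + 1) - 1 = 1 + (k + 3) * k := by
    have : (k + 1) ^ 2 + (k + 1) = 1 + (k + 3) * k + 1 := by ring
    omega
  rw [e1]
  apply Nat.Coprime.mul_right
  · rw [e2, Nat.coprime_add_mul_right_left]
    exact Nat.coprime_one_left k
  · have e3 : (k + 1) ^ 2 + (k + 1) + 1 = ((k + 1) ^ 2 + (k + 1) - 1) + 2 := by
      have : 1 ≤ (k + 1) ^ 2 + (k + 1) := by nlinarith
      omega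
    rw [e3, Nat.coprime_self_add_right]
    rw [Nat.coprime_two_right]
    have hev : Even ((k + 1) ^ 2 + (k + 1)) := by
      have : (k + 1) ^ 2 + (k + 1) = (k + 1) * (k + 1 + 1) := by ring
      rw [this]
      exact Nat.even_mul_succ_self (k + 1)
    have hpos : 1 ≤ (k + 1) ^ 2 + (k + 1) := by nlinarith
    exact Nat.Even.sub_odd hpos hev odd_one

/-- A finite field with at least eight elements has more than three elements. -/
theorem card_le_three_of_sq {K : Type*} [Field K] [Fintype K] (h : ∀ y : K, y ≠ 0 → y * y = 1) :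
    Fintype.card K ≤ 3 := by
  classical
  let φ : Fin 3 → K := fun i => if i = 0 then 0 else if i = 1 then 1 else -1
  have hφ : Function.Surjective φ := by
    intro y
    by_cases hy : y = 0
    · exact ⟨0, by simp [φ, hy]⟩
    · have h1 : (y - 1) * (y + 1) = 0 := by
        have := h y hy
        linear_combination this
      rcases mul_eq_zero.mp h1 with h2 | h2
      · exact ⟨1, by simp [φ]; exact (sub_eq_zero.mp h2).symm⟩
      · exact ⟨2, by simp [φ]; exact (eq_neg_of_add_eq_zero_left h2).symm⟩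
  have := Fintype.card_le_of_surjective φ hφ
  simpa using this

section main

variable {K : Type*} [Field K] [Fintype K]

/-- The triality twisted group of type `D₄` is generated by two elements. -/
theorem two_gen_twD4 {q : ℕ} (hq : IsPrimePow q) (hK : Fintype.card K = q ^ 3) (f : K ≃+* K)
    (hf : ∀ t, f t = t ^ q) (hf3 : ∀ t, (((f : K →+* K)) ^ 3) t = t) :
    ∃ a b : ↥(twGroup good2_D4 T3_D4 T4_D4 T19_D4 f),
      Subgroup.closure ({a, b} : Set ↥(twGroup good2_D4 T3_D4 T4_D4 T19_D4 f)) = ⊤ := by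
  classical
  have hq2 : 2 ≤ q := hq.two_le
  have hK8 : 8 ≤ Fintype.card K := by
    rw [hK]
    calc 8 = 2 ^ 3 := by norm_num
      _ ≤ q ^ 3 := Nat.pow_le_pow_left hq2 3
  have hfff : ∀ t, f (f (f t)) = t := fun t => hf3 t
  obtain ⟨g, hg0, hgen, -, hgord⟩ := CGen.exists_gen K
  have hfg0 : f g ≠ 0 := (map_ne_zero f).mpr hg0
  have hffg0 : f (f g) ≠ 0 := (map_ne_zero f).mpr hfg0
  have hG1 := good1_D4
  -- the elements
  obtain ⟨x, hx⟩ : ∃ x : K → GL chevD4.Idx K,
      ∀ t, x t = clsHom good2_D4 T3_D4 T4_D4 T19_D4 f hc0 (upperSL t) := ⟨_, fun _ => rfl⟩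
  obtain ⟨h, hh⟩ : ∃ h : GL chevD4.Idx K,
      h = clsHom good2_D4 T3_D4 T4_D4 T19_D4 f hc0 (diagSL g hg0) := ⟨_, rfl⟩
  obtain ⟨n, hn⟩ : ∃ n : GL chevD4.Idx K, n = nWordGL good2_D4 wD4 := ⟨_, rfl⟩
  set M : Subgroup (GL chevD4.Idx K) := Subgroup.closure {h, n * x 1} with hM
  have hhM : h ∈ M := Subgroup.subset_closure (by simp)
  have hbM : n * x 1 ∈ M := Subgroup.subset_closure (by simp)
  -- explicit forms
  have hx3 : ∀ t, x t = xGL good1_D4 (ltD4 18 (by norm_num)) t * xGL good1_D4 (ltD4 13 (by norm_num)) (f t) *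
      xGL good1_D4 (ltD4 12 (by norm_num)) (f (f t)) := fun t => by rw [hx, upper3]
  have hxadd : ∀ s t, x (s + t) = x s * x t := by
    intro s t
    rw [hx, hx, hx, ← map_mul, upperSL_mul]
  obtain ⟨⟨r1, e1⟩, ⟨r2, e2⟩, ⟨r3, e3⟩, ⟨r4, e4⟩, ⟨r5, e5⟩, ⟨r6, e6⟩, ⟨r7, e7⟩⟩ := factsD4
  have hV : ∀ t, n * x t * n⁻¹ = xGL good1_D4 (ltD4 4 (by norm_num)) (-t) *
      xGL good1_D4 (ltD4 7 (by norm_num)) (f t) * xGL good1_D4 (ltD4 8 (by norm_num)) (f (f t)) := by
    intro t
    have c1 := conjW (K := K) good2_D4 hwD4 (ltD4 18 (by norm_num)) (ltD4 4 (by norm_num)) r1 e1 t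
    have c2 := conjW (K := K) good2_D4 hwD4 (ltD4 13 (by norm_num)) (ltD4 7 (by norm_num)) r2 e2 (f t)
    have c3 := conjW (K := K) good2_D4 hwD4 (ltD4 12 (by norm_num)) (ltD4 8 (by norm_num)) r3 e3 (f (f t))
    rw [← hn] at c1 c2 c3
    have e : n * x t * n⁻¹ = (n * xGL good1_D4 (ltD4 18 (by norm_num)) t * n⁻¹) *
        (n * xGL good1_D4 (ltD4 13 (by norm_num)) (f t) * n⁻¹) *
        (n * xGL good1_D4 (ltD4 12 (by norm_num)) (f (f t)) * n⁻¹) := by
      rw [hx3]; group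
    rw [e, c1, c2, c3]
    congr 2
    · congr 1
      push_cast
      ring
    · push_cast
      ring
    · push_cast
      ring
  -- the characters
  obtain ⟨⟨p1, p2, p3⟩, ⟨p4, p5, p6⟩, ⟨p7, p8, p9⟩⟩ := pairD4
  set χ : K := g⁻¹ * f g * f (f g) with hχdef
  have hfχ : f χ = g * (f g)⁻¹ * f (f g) := by
    rw [hχdef, map_mul, map_mul, map_inv₀, hfff]
    ring
  have hffχ : f (f χ) = g * f g * (f (f g))⁻¹ := by
    rw [hfχ, map_mul, map_mul, map_inv₀, hfff]
    ring
  have hχV : ∀ t, h * (n * x t * n⁻¹) * h⁻¹ = n * x (χ * t) * n⁻¹ := by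
    intro t
    rw [hV, hV, hh]
    have c1 := conjH3 f hg0 (ltD4 4 (by norm_num)) p1 p2 p3 (-t)
    have c2 := conjH3 f hg0 (ltD4 7 (by norm_num)) p4 p5 p6 (f t)
    have c3 := conjH3 f hg0 (ltD4 8 (by norm_num)) p7 p8 p9 (f (f t))
    set H := clsHom good2_D4 T3_D4 T4_D4 T19_D4 f hc0 (diagSL g hg0) with hH
    have e : H * (xGL good1_D4 (ltD4 4 (by norm_num)) (-t) * xGL good1_D4 (ltD4 7 (by norm_num)) (f t) *
        xGL good1_D4 (ltD4 8 (by norm_num)) (f (f t))) * H⁻¹ =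
        (H * xGL good1_D4 (ltD4 4 (by norm_num)) (-t) * H⁻¹) *
        (H * xGL good1_D4 (ltD4 7 (by norm_num)) (f t) * H⁻¹) *
        (H * xGL good1_D4 (ltD4 8 (by norm_num)) (f (f t)) * H⁻¹) := by group
    rw [e, c1, c2, c3]
    congr 2
    · congr 1
      rw [hχdef, _root_.zpow_neg_one, zpow_one, zpow_one]
      ring
    · rw [map_mul, hfχ, _root_.zpow_neg_one, zpow_one, zpow_one]
      ring
    · rw [map_mul, map_mul, hffχ, _root_.zpow_neg_one, zpow_one, zpow_one]
      ring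
  have hχ₀ : ∀ t, h * x t * h⁻¹ = x (g * g * t) := by
    intro t
    rw [hh, hx, hx, ← map_inv, ← map_mul, ← map_mul, diagSL_conj_upperSL']
  have hdiag : h ∈ chevD4.diagonalSubgroup K := by
    rw [hh]
    exact clsHom_diag_mem good2_D4 T3_D4 T4_D4 T19_D4 f hc0 hg0
  have hcomm : Commute h (n * h * n⁻¹) := by
    have hnN : n ∈ chevD4.monomialSubgroup K := by rw [hn]; exact nWordGL_mem good2_D4 wD4
    have := conj_mem_diagonal (monomialSubgroup_le_normalizer good2_D4 hnN) hdiag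
    exact diagonalSubgroup_comm good1_D4 _ hdiag _ this
  -- `χ` is a generator
  have hχpow : χ = g ^ (q ^ 2 + q - 1) := by
    have h1 : g * χ = g * g ^ (q ^ 2 + q - 1) := by
      rw [hχdef, hf, hf, ← pow_mul, ← pow_succ']
      have e : q ^ 2 + q - 1 + 1 = q + q * q := by
        have h1 : 1 ≤ q ^ 2 + q := by nlinarith
        have h2 : q ^ 2 = q * q := by ring
        omega
      rw [e, pow_add]
      field_simp
    exact mul_left_cancel₀ hg0 h1
  have hχgen : ∀ y : K, y ≠ 0 → ∃ j : ℕ, y = χ ^ j := by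
    rw [hχpow]
    apply gen_pow_coprime hgen hgord
    rw [hK]
    exact coprime_D4 hq2
  have hχ1 : χ ≠ 1 := by
    intro h1
    have : Fintype.card K ≤ 3 := by
      apply card_le_three_of_sq
      intro y hy
      obtain ⟨j, hj⟩ := hχgen y hy
      rw [hj, h1, one_pow, one_mul]
    omega
  have hgg1 : g * g ≠ 1 := by
    intro h1
    have : Fintype.card K ≤ 3 := by
      apply card_le_three_of_sq
      intro y hy
      obtain ⟨j, hj⟩ := hgen y hy
      rw [hj, ← mul_pow, h1, one_pow]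
    omega
  obtain ⟨hxM, hnM⟩ := strategyT M h n x hxadd hχ₀ hχV hcomm (mul_ne_zero hg0 hg0) hgg1 hχ1 hχgen hhM hbM
  -- the cube of the Coxeter element
  obtain ⟨n3, hn3⟩ : ∃ n3 : GL chevD4.Idx K, n3 = nWordGL good2_D4 w3D4 := ⟨_, rfl⟩
  have hn3M : n3 ∈ M := by
    have : n3 = n * (n * n) := by
      have hw : w3D4 = wD4 ++ (wD4 ++ wD4) := by decide
      rw [hn3, hn, hw, nWordGL_append, nWordGL_append]
    rw [this]
    exact mul_mem hnM (mul_mem hnM hnM)
  -- the negative short root elements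
  have hlow3 : ∀ t, clsHom good2_D4 T3_D4 T4_D4 T19_D4 f hc0 (lowerSL t) ∈ M := by
    intro t
    have c1 := conjW (K := K) good2_D4 hw3D4 (ltD4 18 (by norm_num)) (ltD4 5 (by norm_num)) r4 e4 (-t)
    have c2 := conjW (K := K) good2_D4 hw3D4 (ltD4 13 (by norm_num)) (ltD4 10 (by norm_num)) r5 e5 (f (-t))
    have c3 := conjW (K := K) good2_D4 hw3D4 (ltD4 12 (by norm_num)) (ltD4 11 (by norm_num)) r6 e6 (f (f (-t)))
    rw [← hn3] at c1 c2 c3
    have e : n3 * x (-t) * n3⁻¹ = (n3 * xGL good1_D4 (ltD4 18 (by norm_num)) (-t) * n3⁻¹) *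
        (n3 * xGL good1_D4 (ltD4 13 (by norm_num)) (f (-t)) * n3⁻¹) *
        (n3 * xGL good1_D4 (ltD4 12 (by norm_num)) (f (f (-t))) * n3⁻¹) := by
      rw [hx3]; group
    have e' : clsHom good2_D4 T3_D4 T4_D4 T19_D4 f hc0 (lowerSL t) = n3 * x (-t) * n3⁻¹ := by
      rw [e, c1, c2, c3, lower3]
      congr 2
      · congr 1
        push_cast
        ring
      · rw [map_neg]
        push_cast
        ring
      · rw [map_neg, map_neg]
        push_cast
        ring
    rw [e']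
    exact mul_mem (mul_mem hn3M (hxM _)) (inv_mem hn3M)
  -- the long root elements
  obtain ⟨⟨st1, st2, st3⟩, ⟨t1, t2, t3, t4, t5, t6⟩, ⟨z1, z2, z3, z4⟩⟩ := termsD4
  have hcm : ∀ {a b : ℕ} (ha : a < 24) (hb : b < 24) (hab : b ≠ a) (habn : b ≠ chevD4.neg a)
      (hterms : (tabOf chevD4).commTerms a b = []) (t u : K),
      Commute (xGL good1_D4 (ltD4 a ha) t) (xGL good1_D4 (ltD4 b hb) u) :=
    fun ha hb hab habn hterms t u =>
      xGL_commute_of_terms_nil good2_D4 T3_D4 T4_D4 (ltD4 _ ha) (ltD4 _ hb) hab habn hterms t u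
  obtain ⟨ng18, ng13, ng12, ng14, ng9, ng4, ng7, ng8⟩ := negD4
  have htr : ∀ s : K, xGL good1_D4 (ltD4 9 (by norm_num)) (s + f s + f (f s)) ∈ M := by
    intro s
    have hV1 : n * x 1 * n⁻¹ ∈ M := mul_mem (mul_mem hnM (hxM 1)) (inv_mem hnM)
    have q1 := singleTerm_rel (K := K) good2_D4 T3_D4 T4_D4 st1 (ltD4 9 (by norm_num)) (ltD4 18 (by norm_num))
      (ltD4 4 (by norm_num)) s (-1)
    have q2 := singleTerm_rel (K := K) good2_D4 T3_D4 T4_D4 st2 (ltD4 9 (by norm_num)) (ltD4 13 (by norm_num))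
      (ltD4 7 (by norm_num)) (f s) (f 1)
    have q3 := singleTerm_rel (K := K) good2_D4 T3_D4 T4_D4 st3 (ltD4 9 (by norm_num)) (ltD4 12 (by norm_num))
      (ltD4 8 (by norm_num)) (f (f s)) (f (f 1))
    have key := three_comm
      (A := xGL good1_D4 (ltD4 18 (by norm_num)) s) (B := xGL good1_D4 (ltD4 13 (by norm_num)) (f s))
      (C := xGL good1_D4 (ltD4 12 (by norm_num)) (f (f s)))
      (A' := xGL good1_D4 (ltD4 4 (by norm_num)) (-1)) (B' := xGL good1_D4 (ltD4 7 (by norm_num)) (f 1))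
      (C' := xGL good1_D4 (ltD4 8 (by norm_num)) (f (f 1)))
      (hcm (a := 18) (b := 7) (by norm_num) (by norm_num) (by decide) (by rw [ng18]; decide) t1 _ _)
      (hcm (a := 18) (b := 8) (by norm_num) (by norm_num) (by decide) (by rw [ng18]; decide) t2 _ _)
      (hcm (a := 13) (b := 4) (by norm_num) (by norm_num) (by decide) (by rw [ng13]; decide) t3 _ _)
      (hcm (a := 13) (b := 8) (by norm_num) (by norm_num) (by decide) (by rw [ng13]; decide) t4 _ _)
      (hcm (a := 12) (b := 4) (by norm_num) (by norm_num) (by decide) (by rw [ng12]; decide) t5 _ _)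
      (hcm (a := 12) (b := 7) (by norm_num) (by norm_num) (by decide) (by rw [ng12]; decide) t6 _ _)
      q1 q2 q3
      (hcm (a := 9) (b := 13) (by norm_num) (by norm_num) (by decide) (by rw [ng9]; decide) z1 _ _)
      (hcm (a := 9) (b := 12) (by norm_num) (by norm_num) (by decide) (by rw [ng9]; decide) z2 _ _)
      (hcm (a := 9) (b := 7) (by norm_num) (by norm_num) (by decide) (by rw [ng9]; decide) z3 _ _)
      (hcm (a := 9) (b := 8) (by norm_num) (by norm_num) (by decide) (by rw [ng9]; decide) z4 _ _)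
      (hcm (a := 9) (b := 12) (by norm_num) (by norm_num) (by decide) (by rw [ng9]; decide) z2 _ _)
      (hcm (a := 9) (b := 8) (by norm_num) (by norm_num) (by decide) (by rw [ng9]; decide) z4 _ _)
      (xGL_self_commute good2_D4 _ _ _) (xGL_self_commute good2_D4 _ _ _) (xGL_self_commute good2_D4 _ _ _)
    rw [← hV, ← hx3, xGL_mul, xGL_mul] at key
    have e : xGL good1_D4 (ltD4 9 (by norm_num)) (s + f s + f (f s)) =
        (x s * (n * x 1 * n⁻¹))⁻¹ * ((n * x 1 * n⁻¹) * x s) := by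
      rw [key]
      have : -(((1 : ℤ) : ℤ) : K) * s * -1 + -(((-1 : ℤ) : ℤ) : K) * f s * f 1 +
          -(((-1 : ℤ) : ℤ) : K) * f (f s) * f (f 1) = s + f s + f (f s) := by
        rw [map_one, map_one]
        push_cast
        ring
      rw [this]
      group
    rw [e]
    exact mul_mem (inv_mem (mul_mem (hxM s) hV1)) (mul_mem hV1 (hxM s))
  have hlow1 : ∀ u : K, f u = u → xGL good1_D4 (ltD4 9 (by norm_num)) u ∈ M := by
    intro u hu
    obtain ⟨s, hs⟩ := trace_surjective hq2 hK f hf hu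
    rw [← hs]
    exact htr s
  have hup1 : ∀ u : K, f u = u → xGL good1_D4 (ltD4 14 (by norm_num)) u ∈ M := by
    intro u hu
    have c := conjW (K := K) good2_D4 hw3D4 (ltD4 9 (by norm_num)) (ltD4 14 (by norm_num)) r7 e7 (-u)
    rw [← hn3] at c
    have e : xGL good1_D4 (ltD4 14 (by norm_num)) u = n3 * xGL good1_D4 (ltD4 9 (by norm_num)) (-u) * n3⁻¹ := by
      rw [c]
      congr 1
      push_cast
      ring
    rw [e]
    exact mul_mem (mul_mem hn3M (hlow1 (-u) (by rw [map_neg, hu]))) (inv_mem hn3M)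
  -- the twisted group lies in `M`
  have hle : twGroup good2_D4 T3_D4 T4_D4 T19_D4 f ≤ M := by
    unfold twGroup
    rw [Subgroup.closure_le]
    rintro y ⟨c, hc, t, hadm, hy⟩
    have hcc : c = (1, 1) ∨ c = (0, 3) := by
      simpa using hc
    rcases hcc with rfl | rfl
    · have hft : f t = t := (adm_one_iff f t).mp hadm
      rcases hy with rfl | rfl
      · rw [SetLike.mem_coe, upper1]
        exact hup1 t hft
      · rw [SetLike.mem_coe, lower1]
        exact hlow1 t hft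
    · rcases hy with rfl | rfl
      · rw [SetLike.mem_coe, ← hx]
        exact hxM t
      · exact hlow3 t
  -- membership in the twisted group
  have hhG : h ∈ twGroup good2_D4 T3_D4 T4_D4 T19_D4 f := by
    rw [hh]
    exact diag_mem_twGroup good2_D4 T3_D4 T4_D4 T19_D4 f hc0 hg0 (hf3 g)
  have hnG : n ∈ twGroup good2_D4 T3_D4 T4_D4 T19_D4 f := by
    rw [hn]
    have := nWordGL_flatMap_mem good2_D4 T3_D4 T4_D4 T19_D4 f (wcls := [(1, 1), (0, 3)]) (by decide)
    exact this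
  have hx1G : x 1 ∈ twGroup good2_D4 T3_D4 T4_D4 T19_D4 f := by
    rw [hx]
    exact upper_mem_twGroup good2_D4 T3_D4 T4_D4 T19_D4 f hc0 Adm.one
  have hbG : n * x 1 ∈ twGroup good2_D4 T3_D4 T4_D4 T19_D4 f := mul_mem hnG hx1G
  refine ⟨⟨h, hhG⟩, ⟨n * x 1, hbG⟩, ?_⟩
  rw [eq_top_iff]
  intro y _
  have hy : (y : GL chevD4.Idx K) ∈ M := hle y.2
  have hmap : (Subgroup.closure ({⟨h, hhG⟩, ⟨n * x 1, hbG⟩} :
      Set ↥(twGroup good2_D4 T3_D4 T4_D4 T19_D4 f))).map
      (twGroup good2_D4 T3_D4 T4_D4 T19_D4 f).subtype = M := by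
    rw [MonoidHom.map_closure, hM]
    congr 1
    ext z
    simp only [Set.mem_image, Set.mem_insert_iff, Set.mem_singleton_iff, Subgroup.coe_subtype]
    constructor
    · rintro ⟨z', rfl | rfl, rfl⟩
      · left; rfl
      · right; rfl
    · rintro (rfl | rfl)
      · exact ⟨_, Or.inl rfl, rfl⟩
      · exact ⟨_, Or.inr rfl, rfl⟩
  rw [← hmap] at hy
  obtain ⟨y', hy', hyy⟩ := hy
  have : y' = y := Subtype.ext hyy
  rwa [this] at hy'

end main

end Cfsg.Agent.Helper8.TwGen
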