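import Mathlib
import Cfsg.Agent.Helper8.RF4C
import Cfsg.Agent.Helper8.TwGenE

set_option autoImplicit false
set_option linter.unusedSectionVars false
set_option linter.unusedVariables false
set_option maxRecDepth 100000

/-!
The large Ree groups are generated by two elements: a torus element of the class `{p₁, p₄}` and the product of the
twisted Coxeter element with a root element of the class of type `B₂`.
-/

namespace Cfsg.Agent.Helper8.RF4

open Cfsg Cfsg.Lie Matrix Cfsg.Agent.Helper7.Chev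

section main

variable {K : Type*} [Field K] [Fintype K] [CharP K 2] {m : ℕ}

theorem two_gen_twF4_aux (hK : Fintype.card K = 2 ^ (2 * m + 1)) (hm1 : 1 ≤ m) :
    ∃ a b : ↥(twistedF4 K (2 ^ m)), Subgroup.closure ({a, b} : Set ↥(twistedF4 K (2 ^ m))) = ⊤ := by
  classical
  have hm : ∀ t : K, t ^ 2 ^ (2 * m + 1) = t := pow_card_two hK
  have hK8 : 8 ≤ Fintype.card K := by
    rw [hK]
    calc 8 = 2 ^ 3 := by norm_num
      _ ≤ 2 ^ (2 * m + 1) := Nat.pow_le_pow_right (by norm_num) (by omega)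
  obtain ⟨g, hg0, hgen, hgeninv, hgord⟩ := CGen.exists_gen K
  obtain ⟨c, hc⟩ : ∃ c : Kˣ, (c : K) = g := ⟨Units.mk0 g hg0, rfl⟩
  have hθg0 : f4Th K m g ≠ 0 := (map_ne_zero _).mpr hg0
  -- the elements
  obtain ⟨X, hX⟩ : ∃ X : K → K → GL chevF4.Idx K, ∀ t u, X t u = (quadPos K).xS m t u := ⟨_, fun _ _ => rfl⟩
  obtain ⟨h, hh⟩ : ∃ h : GL chevF4.Idx K, h = fh K 33 (Units.map (f4Th K m : K →* K) c) * fh K 24 c := ⟨_, rfl⟩
  obtain ⟨n, hn⟩ : ∃ n : GL chevF4.Idx K, n = f4N1 K * f4N2 K := ⟨_, rfl⟩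
  have hnw : ∀ k : ℕ, n ^ k = nWordGL good3_F4.toGood2 (f4W12 k) := fun k => by rw [hn, f4N12_pow]
  have hn1 : n = nWordGL good3_F4.toGood2 (f4W12 1) := by rw [← hnw 1, pow_one]
  set M : Subgroup (GL chevF4.Idx K) := Subgroup.closure {h, n * X 1 0} with hM
  have hhM : h ∈ M := Subgroup.subset_closure (by simp)
  have hbM : n * X 1 0 ∈ M := Subgroup.subset_closure (by simp)
  have hXY : ∀ t u, X t u = Y m 27 25 28 30 t u := fun t u => by rw [hX, xS_pos_eq]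
  -- the structure of the root group
  have hmul : ∀ t u t' u', ∃ w, X t u * X t' u' = X (t + t') w := by
    intro t u t' u'
    exact ⟨_, by rw [hX, hX, hX, xS_mul hm]⟩
  have hone : X 0 0 = 1 := by rw [hX, xS_zero]
  have hcen : ∀ z t u, X 0 z * X t u = X t (u + z) := by
    intro z t u
    rw [hX, hX, hX, xS_cen hm]
  have hsq : ∀ z : K, ∃ t, ∀ u, X t u * X t u = X 0 z := by
    intro z
    obtain ⟨t, ht⟩ := exists_pow_eq hK z
    refine ⟨t, fun u => ?_⟩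
    rw [hX, hX, xS_sq hm, f4Th_apply, ht]
  -- the table facts
  obtain ⟨⟨a1, a2, a3, a4⟩, ⟨b1, b2, b3, b4⟩, ⟨c1, c2, c3, c4⟩, ⟨d1, d2⟩, ⟨e1, e2⟩⟩ := factsF4
  obtain ⟨⟨p1, p2, p3, p4⟩, ⟨p5, p6, p7, p8⟩⟩ := pairF4
  -- the conjugates of the root group
  have hV : ∀ t u, n * X t u * n⁻¹ = Y m 13 21 11 5 t u := by
    intro t u
    rw [hXY, hn1]
    exact conjW_Y (f4W12_lt 1) 27 25 28 30 13 21 11 5 ⟨a1.1, Or.inl a1.2⟩ ⟨a2.1, Or.inr a2.2⟩
      ⟨a3.1, Or.inl a3.2⟩ ⟨a4.1, Or.inl a4.2⟩ t u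
  have hχ₀ : ∀ t u, h * X t u * h⁻¹ = X (g⁻¹ * t) (((f4Th K m g)⁻¹ * g⁻¹) * u) := by
    intro t u
    rw [hXY, hXY, hh, ← hc]
    exact conjH_Y hm c 27 25 28 30 p1 p2 p3 p4 t u
  have hψ : ∀ t u, h * (n * X t u * n⁻¹) * h⁻¹ = n * X (g⁻¹ * t) (((f4Th K m g)⁻¹ * g⁻¹) * u) * n⁻¹ := by
    intro t u
    rw [hV, hV, hh, ← hc]
    exact conjH_Y hm c 13 21 11 5 p5 p6 p7 p8 t u
  have hdiag : h ∈ chevF4.diagonalSubgroup K := by
    rw [hh]
    exact mul_mem (fh_mem_diagonal _ _) (fh_mem_diagonal _ _)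
  have hcomm : Commute h (n * h * n⁻¹) := by
    have hnN : n ∈ chevF4.monomialSubgroup K := by rw [hn1]; exact nWordGL_mem good3_F4.toGood2 _
    have := conj_mem_diagonal (monomialSubgroup_le_normalizer good3_F4.toGood2 hnN) hdiag
    exact diagonalSubgroup_comm good3_F4.toGood1 _ hdiag _ this
  have hχ1 : g⁻¹ ≠ 1 := by
    intro h1
    have : Fintype.card K ≤ 3 := by
      apply TwGen.card_le_three_of_sq
      intro y hy
      obtain ⟨j, hj⟩ := hgeninv y hy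
      rw [hj, h1, one_pow, one_mul]
    omega
  obtain ⟨hXM, hnM⟩ := strategyS M h n X hmul hone hcen hsq hχ₀ hψ hcomm (inv_ne_zero hg0)
    (mul_ne_zero (inv_ne_zero hθg0) (inv_ne_zero hg0)) hχ1 hχ1 hgeninv hhM hbM
  have hnkM : ∀ k : ℕ, nWordGL good3_F4.toGood2 (f4W12 k) ∈ M := fun k => by
    rw [← hnw]; exact pow_mem hnM k
  -- the negative root group of type `B₂`
  have hneg : ∀ t u, (quadNeg K).xS m t u ∈ M := by
    intro t u
    have e := conjW_Y (K := K) (m := m) (f4W12_lt 4) 27 25 28 30 20 22 19 17 ⟨c1.1, Or.inr c1.2⟩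
      ⟨c2.1, Or.inr c2.2⟩ ⟨c3.1, Or.inr c3.2⟩ ⟨c4.1, Or.inr c4.2⟩ t u
    rw [xS_neg_eq, ← e, ← hXY]
    exact mul_mem (mul_mem (hnkM 4) (hXM t u)) (inv_mem (hnkM 4))
  -- the pair class `{37, 32}`
  obtain ⟨⟨st1, st2⟩, ⟨t1, t2, t3, t4, t5, t6, t7⟩, ⟨z1, z2, z3, z4, z5, z6, z7⟩⟩ := termsF4
  obtain ⟨ng27, ng25, ng28, ng37, ng32⟩ := negF4
  have hcm : ∀ (a b : Fin 48) (hab : b.val ≠ a.val) (habn : b.val ≠ chevF4.neg a.val)
      (hterms : (tabOf chevF4).commTerms a.val b.val = []) (t u : K), Commute (fx K a t) (fx K b u) :=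
    fun a b hab habn hterms t u => fx_commute_of_nil hab habn hterms t u
  have h2 := two_eq_zero' (K := K)
  have hV7 : n ^ 7 * X 1 0 * (n ^ 7)⁻¹ ∈ M :=
    mul_mem (mul_mem (pow_mem hnM 7) (hXM 1 0)) (inv_mem (pow_mem hnM 7))
  have hV7eq : n ^ 7 * X 1 0 * (n ^ 7)⁻¹ = fx K 35 1 * fx K 31 1 * fx K 40 1 := by
    rw [hnw, hXY]
    rw [conjW_Y (K := K) (m := m) (f4W12_lt 7) 27 25 28 30 35 31 40 46 ⟨b1.1, Or.inl b1.2⟩
      ⟨b2.1, Or.inr b2.2⟩ ⟨b3.1, Or.inl b3.2⟩ ⟨b4.1, Or.inl b4.2⟩ 1 0]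
    unfold Y
    rw [map_one, map_zero, fx_zero, mul_one, one_mul, add_zero]
  have hP37 : ∀ s : K, fx K 37 (f4Th K m s) * fx K 32 s ∈ M := by
    intro s
    have hXs : X s 0 = fx K 27 (f4Th K m s) * fx K 25 s * fx K 28 (f4Th K m s * s) := by
      rw [hXY]
      unfold Y
      rw [map_zero, fx_zero, mul_one, add_zero]
    have q1 := TwGen.singleTerm_rel (K := K) good3_F4.toGood2 good3_F4.t3 good3_F4.t4 st1
      (by decide : 37 < chevF4.nroots) (by decide : 27 < chevF4.nroots) (by decide : 35 < chevF4.nroots)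
      (f4Th K m s) 1
    have q2 := TwGen.singleTerm_rel (K := K) good3_F4.toGood2 good3_F4.t3 good3_F4.t4 st2
      (by decide : 32 < chevF4.nroots) (by decide : 25 < chevF4.nroots) (by decide : 31 < chevF4.nroots)
      s 1
    have q1' : fx K 35 1 * fx K 27 (f4Th K m s) = fx K 27 (f4Th K m s) * fx K 35 1 * fx K 37 (f4Th K m s) := by
      have e : -(((1 : ℤ) : ℤ) : K) * f4Th K m s * 1 = f4Th K m s := by
        push_cast
        rw [mul_one, neg_one_mul, neg_eq_self_char2]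
      rw [e] at q1
      exact q1
    have q2' : fx K 31 1 * fx K 25 s = fx K 25 s * fx K 31 1 * fx K 32 s := by
      have e : -(((1 : ℤ) : ℤ) : K) * s * 1 = s := by
        push_cast
        rw [mul_one, neg_one_mul, neg_eq_self_char2]
      rw [e] at q2
      exact q2
    have q3' : fx K 40 1 * fx K 28 (f4Th K m s * s) = fx K 28 (f4Th K m s * s) * fx K 40 1 * 1 := by
      rw [mul_one]
      exact ((hcm 28 40 (by decide) (by decide) t7 _ _).eq).symm
    have key := TwGen.three_comm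
      (A := fx K 27 (f4Th K m s)) (B := fx K 25 s) (C := fx K 28 (f4Th K m s * s))
      (A' := fx K 35 1) (B' := fx K 31 1) (C' := fx K 40 1)
      (Z₁ := fx K 37 (f4Th K m s)) (Z₂ := fx K 32 s) (Z₃ := 1)
      (hcm 27 31 (by decide) (by decide) t1 _ _)
      (hcm 27 40 (by decide) (by decide) t2 _ _)
      (hcm 25 35 (by decide) (by decide) t3 _ _)
      (hcm 25 40 (by decide) (by decide) t4 _ _)
      (hcm 28 35 (by decide) (by decide) t5 _ _)
      (hcm 28 31 (by decide) (by decide) t6 _ _)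
      q1' q2' q3'
      (hcm 37 25 (by decide) (by decide) z1 _ _)
      (hcm 37 28 (by decide) (by decide) z2 _ _)
      (hcm 37 31 (by decide) (by decide) z3 _ _)
      (hcm 37 40 (by decide) (by decide) z4 _ _)
      (hcm 32 28 (by decide) (by decide) z5 _ _)
      (hcm 32 40 (by decide) (by decide) z6 _ _)
      (hcm 37 32 (by decide) (by decide) z7 _ _)
      (Commute.one_right _) (Commute.one_right _)
    rw [← hV7eq, ← hXs, mul_one] at key
    have e : fx K 37 (f4Th K m s) * fx K 32 s =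
        (X s 0 * (n ^ 7 * X 1 0 * (n ^ 7)⁻¹))⁻¹ * ((n ^ 7 * X 1 0 * (n ^ 7)⁻¹) * X s 0) := by
      rw [key]
      group
    rw [e]
    exact mul_mem (inv_mem (mul_mem (hXM s 0) hV7)) (mul_mem hV7 (hXM s 0))
  have hPpos : ∀ s : K, xP 33 24 m s ∈ M := by
    intro s
    have k1 := conjW2 (K := K) (f4W12_lt 5) 37 33 d1.1 (Or.inr d1.2) (f4Th K m s)
    have k2 := conjW2 (K := K) (f4W12_lt 5) 32 24 d2.1 (Or.inl d2.2) s
    have e : xP 33 24 m s = nWordGL good3_F4.toGood2 (f4W12 5) * (fx K 37 (f4Th K m s) * fx K 32 s) *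
        (nWordGL good3_F4.toGood2 (f4W12 5))⁻¹ := by
      unfold xP
      rw [← k1, ← k2]
      group
    rw [e]
    exact mul_mem (mul_mem (hnkM 5) (hP37 s)) (inv_mem (hnkM 5))
  have hPneg : ∀ s : K, xP 14 23 m s ∈ M := by
    intro s
    have k1 := conjW2 (K := K) (f4W12_lt 1) 37 14 e1.1 (Or.inl e1.2) (f4Th K m s)
    have k2 := conjW2 (K := K) (f4W12_lt 1) 32 23 e2.1 (Or.inr e2.2) s
    have e : xP 14 23 m s = nWordGL good3_F4.toGood2 (f4W12 1) * (fx K 37 (f4Th K m s) * fx K 32 s) *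
        (nWordGL good3_F4.toGood2 (f4W12 1))⁻¹ := by
      unfold xP
      rw [← k1, ← k2]
      group
    rw [e]
    exact mul_mem (mul_mem (hnkM 1) (hP37 s)) (inv_mem (hnkM 1))
  -- the twisted group lies in `M`
  have hle : twistedF4 K (2 ^ m) ≤ M := by
    rw [twistedF4_eq, Subgroup.closure_le]
    rintro y ((⟨t, rfl⟩ | ⟨t, rfl⟩) | (⟨t, u, rfl⟩ | ⟨t, u, rfl⟩))
    · exact hPpos t
    · exact hPneg t
    · rw [SetLike.mem_coe, ← hX]; exact hXM t u
    · exact hneg t u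
  -- membership in the twisted group
  have hhG : h ∈ twistedF4 K (2 ^ m) := by
    rw [hh]
    exact fh_pair_mem_twisted c
  have hnG : n ∈ twistedF4 K (2 ^ m) := by
    rw [hn]
    exact mul_mem f4N1_mem_twisted f4N2_mem_twisted
  have hx1G : X 1 0 ∈ twistedF4 K (2 ^ m) := by
    rw [hX]
    exact xS_pos_mem_twisted 1 0
  have hbG : n * X 1 0 ∈ twistedF4 K (2 ^ m) := mul_mem hnG hx1G
  refine ⟨⟨h, hhG⟩, ⟨n * X 1 0, hbG⟩, ?_⟩
  rw [eq_top_iff]
  intro y _
  have hy : (y : GL chevF4.Idx K) ∈ M := hle y.2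
  have hmap : (Subgroup.closure ({⟨h, hhG⟩, ⟨n * X 1 0, hbG⟩} : Set ↥(twistedF4 K (2 ^ m)))).map
      (twistedF4 K (2 ^ m)).subtype = M := by
    rw [MonoidHom.map_closure, hM]
    refine congrArg Subgroup.closure ?_
    ext z
    simp only [Set.mem_image, Set.mem_insert_iff, Set.mem_singleton_iff, Subgroup.coe_subtype]
    constructor
    · rintro ⟨z', rfl | rfl, rfl⟩
      · left; rfl
      · right; rfl
    · rintro (rfl | rfl)
      · exact ⟨_, Or.inl rfl, rfl⟩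
      · exact ⟨_, Or.inr rfl, rfl⟩
  rw [← hmap] at hy
  obtain ⟨y', hy', hyy⟩ := hy
  have : y' = y := Subtype.ext hyy
  rwa [this] at hy'

end main

/-- The large Ree group `²F₄(2^(2m+1))`, `m ≥ 1`, is generated by two elements. -/
theorem two_gen_twF4 {K : Type*} [Field K] [Fintype K] {m : ℕ} (hm : 1 ≤ m)
    (hK : Fintype.card K = 2 ^ (2 * m + 1)) :
    ∃ a b : ↥(twistedF4 K (2 ^ m)), Subgroup.closure ({a, b} : Set ↥(twistedF4 K (2 ^ m))) = ⊤ := by
  have : CharP K 2 := charP_two_of_card (by omega) hK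
  exact two_gen_twF4_aux hK hm

end Cfsg.Agent.Helper8.RF4
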