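import Cfsg.Agent.Helper8.UnipCommutePSL
set_option autoImplicit false

namespace Cfsg.Agent.Helper8.RP

open Matrix
open Cfsg.Agent.Helper8.UnipComm

/-- lifting a commuting pair of orders `p` and `r` from `PSL_n(F)` to matrices -/
theorem exists_lift {F : Type*} [Field F] [Fintype F] (p : ℕ) [Fact p.Prime] [CharP F p]
    (n : ℕ) (hn : 1 ≤ n) (r : ℕ) [Fact r.Prime]
    (a b : Matrix.ProjectiveSpecialLinearGroup (Fin n) F) (ha : orderOf a = p)
    (hb : orderOf b = r) (hab : Commute a b) :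
    ∃ (u B : Matrix (Fin n) (Fin n) F) (μ' : F), u ^ p = 1 ∧ u ≠ 1 ∧ u * B = B * u ∧
      B.det = 1 ∧ B ^ r = μ' • 1 ∧ μ' ≠ 0 ∧ ∀ c : F, B ≠ c • 1 := by
  classical
  obtain ⟨A, rfl⟩ := QuotientGroup.mk_surjective a
  obtain ⟨B, rfl⟩ := QuotientGroup.mk_surjective b
  have hp : p.Prime := Fact.out
  have hrpr : r.Prime := Fact.out
  have hAp : A ^ p ∈ Subgroup.center (SpecialLinearGroup (Fin n) F) := by
    rw [← QuotientGroup.eq_one_iff, QuotientGroup.mk_pow, ← ha, pow_orderOf_eq_one]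
  have hBr : B ^ r ∈ Subgroup.center (SpecialLinearGroup (Fin n) F) := by
    rw [← QuotientGroup.eq_one_iff, QuotientGroup.mk_pow, ← hb, pow_orderOf_eq_one]
  have hAB : A * B * A⁻¹ * B⁻¹ ∈ Subgroup.center (SpecialLinearGroup (Fin n) F) := by
    rw [← QuotientGroup.eq_one_iff]
    simp only [QuotientGroup.mk_mul, QuotientGroup.mk_inv]
    rw [hab.eq]
    group
  have hA1 : A ∉ Subgroup.center (SpecialLinearGroup (Fin n) F) := by
    intro h
    rw [← QuotientGroup.eq_one_iff] at h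
    rw [h, orderOf_one] at ha
    exact hp.one_lt.ne ha
  have hB1 : B ∉ Subgroup.center (SpecialLinearGroup (Fin n) F) := by
    intro h
    rw [← QuotientGroup.eq_one_iff] at h
    rw [h, orderOf_one] at hb
    exact hrpr.one_lt.ne hb
  rw [Matrix.SpecialLinearGroup.mem_center_iff] at hAp hBr hAB
  obtain ⟨μ, hμ1, hμ⟩ := hAp
  obtain ⟨μ', hμ'1, hμ'⟩ := hBr
  obtain ⟨l, hl1, hl⟩ := hAB
  rw [Fintype.card_fin] at hμ1 hμ'1 hl1
  have hn0 : n ≠ 0 := by omega
  have hμ0 : μ ≠ 0 := by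
    rintro rfl
    rw [zero_pow hn0] at hμ1
    exact zero_ne_one hμ1
  have hμ'0 : μ' ≠ 0 := by
    rintro rfl
    rw [zero_pow hn0] at hμ'1
    exact zero_ne_one hμ'1
  set Am : Matrix (Fin n) (Fin n) F := (A : Matrix (Fin n) (Fin n) F) with hAm
  set Bm : Matrix (Fin n) (Fin n) F := (B : Matrix (Fin n) (Fin n) F) with hBm
  have hμ2 : Am ^ p = μ • (1 : Matrix (Fin n) (Fin n) F) := by
    rw [hAm, ← Matrix.SpecialLinearGroup.coe_pow, ← hμ]
    ext i j
    simp [Matrix.scalar_apply, Matrix.diagonal_apply, Matrix.one_apply]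
  have hμ'2 : Bm ^ r = μ' • (1 : Matrix (Fin n) (Fin n) F) := by
    rw [hBm, ← Matrix.SpecialLinearGroup.coe_pow, ← hμ']
    ext i j
    simp [Matrix.scalar_apply, Matrix.diagonal_apply, Matrix.one_apply]
  have hl2 : Am * Bm = l • (Bm * Am) := by
    have h1 : A * B = (A * B * A⁻¹ * B⁻¹) * (B * A) := by group
    have h2 := congrArg (fun X : SpecialLinearGroup (Fin n) F => (X : Matrix (Fin n) (Fin n) F)) h1
    simp only [Matrix.SpecialLinearGroup.coe_mul] at h2
    rw [hAm, hBm, h2]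
    have h3 := hl
    simp only [Matrix.SpecialLinearGroup.coe_mul] at h3
    rw [← h3]
    ext i j
    simp [Matrix.scalar_apply, Matrix.diagonal_mul]
  have hBinv : Bm * (↑(B⁻¹) : Matrix (Fin n) (Fin n) F) = 1 := by
    rw [hBm, ← Matrix.SpecialLinearGroup.coe_mul, mul_inv_cancel, Matrix.SpecialLinearGroup.coe_one]
  -- the unipotent lift
  obtain ⟨ν, hν⟩ := surjective_frobenius F p μ
  rw [frobenius_def] at hν
  have hν0 : ν ≠ 0 := by
    rintro rfl
    rw [zero_pow hp.ne_zero] at hν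
    exact hμ0 hν.symm
  set u : Matrix (Fin n) (Fin n) F := ν⁻¹ • Am with hu
  have hup : u ^ p = 1 := by
    rw [hu, smul_pow, hμ2, smul_smul, inv_pow, hν, inv_mul_cancel₀ hμ0, one_smul]
  have hu1 : u ≠ 1 := by
    intro h
    apply hA1
    apply scalar_mem_center n A ν
    rw [← hAm]
    have : ν • u = ν • (1 : Matrix (Fin n) (Fin n) F) := by rw [h]
    rw [hu, smul_smul, mul_inv_cancel₀ hν0, one_smul] at this
    exact this
  have hpow : ∀ k : ℕ, Am ^ k * Bm = l ^ k • (Bm * Am ^ k) := by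
    intro k
    induction k with
    | zero => simp
    | succ k ih =>
      rw [pow_succ, Matrix.mul_assoc, hl2, Matrix.mul_smul, ← Matrix.mul_assoc, ih,
        Matrix.smul_mul, smul_smul, Matrix.mul_assoc, ← pow_succ, ← pow_succ']
  have hlp : l ^ p = 1 := by
    have h1 := hpow p
    rw [hμ2, Matrix.smul_mul, Matrix.one_mul, Matrix.mul_smul, Matrix.mul_one, smul_smul] at h1
    have h2 := congrArg (fun X => X * (↑(B⁻¹) : Matrix (Fin n) (Fin n) F)) h1
    simp only [Matrix.smul_mul, hBinv] at h2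
    have h3 := congrFun (congrFun h2 ⟨0, by omega⟩) ⟨0, by omega⟩
    simp only [Matrix.smul_apply, Matrix.one_apply_eq, smul_eq_mul, mul_one] at h3
    have h4 : μ * 1 = μ * l ^ p := by rw [mul_one, mul_comm]; exact h3
    exact (mul_left_cancel₀ hμ0 h4).symm
  have hl1' : l = 1 := by
    apply frobenius_inj F p
    rw [frobenius_def, frobenius_def, hlp, one_pow]
  rw [hl1', one_smul] at hl2
  have hcomm : Commute Am Bm := hl2
  refine ⟨u, Bm, μ', hup, hu1, ?_, B.det_coe, hμ'2, hμ'0, ?_⟩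
  · rw [hu]
    exact (hcomm.smul_left _).eq
  · intro c hc
    exact hB1 (scalar_mem_center n B c hc)

end Cfsg.Agent.Helper8.RP
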