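import Cfsg.Agent.Helper8.RPNeg
import Cfsg.Agent.Helper8.RPBlock
import Cfsg.Agent.Helper8.RPLift
set_option autoImplicit false

namespace Cfsg.Agent.Helper8.RP

open Polynomial Matrix Module
open Cfsg.Agent.Helper8.SemiS Cfsg.Agent.Helper8.PGraph

variable {F : Type*} [Field F] [Fintype F]

theorem dvd_card_sub_one_iff (r : ℕ) :
    r ∣ Fintype.card F - 1 ↔ orderOf ((Fintype.card F : ℕ) : ZMod r) = 1 := by
  have h1 : 1 ≤ Fintype.card F := Fintype.card_pos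
  rw [orderOf_eq_one_iff, ← ZMod.natCast_eq_zero_iff, Nat.cast_sub h1, Nat.cast_one, sub_eq_zero]

theorem exists_block_of_order (p : ℕ) [Fact p.Prime] [CharP F p] (r : ℕ) (hr : r.Prime)
    (hrp : r ≠ p) (k : ℕ) (hk : k = orderOf ((Fintype.card F : ℕ) : ZMod r)) (hk2 : 2 ≤ k) :
    ∃ B₀ : Matrix (Fin k) (Fin k) F, B₀ ^ r = 1 ∧ B₀ ≠ 1 ∧ B₀.det = 1 := by
  classical
  obtain ⟨P, hP1, hP2, hP3, hP4, hP5⟩ := exists_factor_prime (F := F) p r hr hrp
  obtain ⟨A, hA1, hA2⟩ := matrix_of_expo (n := k) (fun _ : Fin 1 => P) (X ^ r - 1)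
    (fun _ => hP1) (fun _ => 1) (fun _ _ => hP3) (by
      rw [Fin.sum_univ_one, one_mul, hP5, hk])
  rw [aeval_X_pow_sub_one, sub_eq_zero] at hA2
  rw [Fin.prod_univ_one, pow_one] at hA1
  refine ⟨A, hA2, ?_, ?_⟩
  · rintro rfl
    rw [Matrix.charpoly_one, Fintype.card_fin] at hA1
    have h1 : (X - 1 : F[X]) ∣ P := by
      rw [← hA1]
      exact dvd_pow_self _ (by omega)
    apply hP4
    exact (Polynomial.eq_of_monic_of_associated X_sub_one_props.1 hP1
      (X_sub_one_props.2.1.associated_of_dvd hP2 h1)).symm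
  · by_contra hdet
    have h1 : A.det ^ r = 1 := by rw [← Matrix.det_pow, hA2, Matrix.det_one]
    have : Fact r.Prime := ⟨hr⟩
    have h2 : orderOf A.det = r := orderOf_eq_prime h1 hdet
    have h0 : A.det ≠ 0 := by
      intro h0
      rw [h0, zero_pow hr.ne_zero] at h1
      exact zero_ne_one h1
    have h3 : A.det ^ (Fintype.card F - 1) = 1 := FiniteField.pow_card_sub_one_eq_one _ h0
    have h4 : r ∣ Fintype.card F - 1 := by
      rw [← h2]
      exact orderOf_dvd_of_pow_eq_one h3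
    rw [dvd_card_sub_one_iff, ← hk] at h4
    omega

omit [Fintype F] in
theorem exists_diag_of_order (r : ℕ) (hr : r.Prime) (a : F) (ha : IsPrimitiveRoot a r) :
    ∃ B₀ : Matrix (Fin 2) (Fin 2) F, B₀ ^ r = 1 ∧ B₀ ≠ 1 ∧ B₀.det = 1 := by
  have ha0 : a ≠ 0 := ha.ne_zero hr.ne_zero
  refine ⟨Matrix.diagonal ![a, a⁻¹], ?_, ?_, ?_⟩
  · rw [Matrix.diagonal_pow, ← Matrix.diagonal_one]
    congr 1
    funext i
    fin_cases i
    · simp [ha.pow_eq_one]
    · simp [ha.pow_eq_one]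
  · intro h
    have h1 := congrFun (congrFun h 0) 0
    simp at h1
    exact ha.ne_one hr.one_lt h1
  · rw [Matrix.det_diagonal, Fin.prod_univ_two]
    simp [ha0]

theorem exists_root_three (r : ℕ) (hr : r.Prime) (hrq : r ∣ Fintype.card F - 1)
    (h : r = 3 → 9 ∣ Fintype.card F - 1) :
    ∃ a : F, a ≠ 0 ∧ ∀ j : ℕ, a ^ (3 * j) = 1 ↔ r ∣ j := by
  by_cases h3 : r = 3
  · obtain ⟨a, ha⟩ := PGLr.exists_primitiveRoot (F := F) 9 (h h3)
    refine ⟨a, ha.ne_zero (by norm_num), ?_⟩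
    intro j
    rw [ha.pow_eq_one_iff_dvd, h3]
    omega
  · obtain ⟨a, ha⟩ := PGLr.exists_primitiveRoot (F := F) r hrq
    refine ⟨a, ha.ne_zero hr.ne_zero, ?_⟩
    intro j
    rw [ha.pow_eq_one_iff_dvd]
    have hcop : Nat.Coprime r 3 := (Nat.coprime_primes hr Nat.prime_three).mpr h3
    exact hcop.dvd_mul_left

end Cfsg.Agent.Helper8.RP
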