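import Cfsg.Agent.Helper8.RPExist
set_option autoImplicit false

namespace Cfsg.Agent.Helper8.RP

open Polynomial Matrix Module
open Cfsg.Agent.Helper8.SemiS Cfsg.Agent.Helper8.PGraph Cfsg.Agent.Helper8.UnipComm

variable {F : Type*} [Field F] [Fintype F]

theorem psl_adjacent_char (p : ℕ) [Fact p.Prime] [CharP F p] (n : ℕ) (hn : 2 ≤ n)
    (r : ℕ) (hr : r.Prime) (hrp : r ≠ p)
    (k : ℕ) (hk : k = orderOf ((Fintype.card F : ℕ) : ZMod r)) :
    (r * p ∉ Set.range (orderOf : Matrix.ProjectiveSpecialLinearGroup (Fin n) F → ℕ)) ↔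
      (n - 2 < k ∨ (n = 3 ∧ r = 3 ∧ 3 ∣ Fintype.card F - 1 ∧ ¬ 9 ∣ Fintype.card F - 1)) := by
  have hp : p.Prime := Fact.out
  have hk1 : 1 ≤ k := by
    have h1 := orderOf_dvd_sub_one (F := F) r hr p hrp
    rw [← hk] at h1
    have h2 := hr.two_le
    rcases Nat.eq_zero_or_pos k with h0 | h0
    · rw [h0] at h1
      have := Nat.eq_zero_of_zero_dvd h1
      omega
    · exact h0
  constructor
  · intro hno
    by_contra hcon
    push Not at hcon
    obtain ⟨hcon1, hcon2⟩ := hcon
    apply hno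
    suffices h : ∃ x : Matrix.ProjectiveSpecialLinearGroup (Fin n) F, orderOf x = r * p by
      obtain ⟨x, hx⟩ := h
      exact ⟨x, hx⟩
    by_cases hk2 : 2 ≤ k
    · obtain ⟨B₀, hB1, hB2, hB3⟩ := exists_block_of_order (F := F) p r hr hrp k hk hk2
      obtain ⟨m₂, rfl⟩ : ∃ m₂, n = k + m₂ := ⟨n - k, by omega⟩
      exact exists_psl_of_block p r hr hrp k m₂ (by omega) B₀ hB1 hB2 hB3
    · have hk1' : k = 1 := by omega
      have hrq : r ∣ Fintype.card F - 1 := by
        rw [dvd_card_sub_one_iff, ← hk, hk1']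
      by_cases hn3 : n = 3
      · subst hn3
        obtain ⟨a, ha0, ha⟩ := exists_root_three (F := F) r hr hrq (fun h3 => by
          apply hcon2 rfl h3
          rw [← h3]
          exact hrq)
        exact exists_psl_three p r hr hrp a ha0 ha
      · obtain ⟨a, ha⟩ := PGLr.exists_primitiveRoot (F := F) r hrq
        obtain ⟨B₀, hB1, hB2, hB3⟩ := exists_diag_of_order r hr a ha
        obtain ⟨m₂, rfl⟩ : ∃ m₂, n = 2 + m₂ := ⟨n - 2, by omega⟩
        exact exists_psl_of_block p r hr hrp 2 m₂ (by omega) B₀ hB1 hB2 hB3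
  · rintro h ⟨x, hx⟩
    have : Fact r.Prime := ⟨hr⟩
    have ha : orderOf (x ^ r) = p := by
      rw [orderOf_pow_of_dvd hr.ne_zero ⟨p, hx⟩, hx, Nat.mul_div_cancel_left _ hr.pos]
    have hb : orderOf (x ^ p) = r := by
      rw [orderOf_pow_of_dvd hp.ne_zero ⟨r, by rw [hx, mul_comm]⟩, hx,
        Nat.mul_div_cancel _ hp.pos]
    have hab : Commute (x ^ r) (x ^ p) := (Commute.refl x).pow_pow r p
    obtain ⟨u, B, μ', hu, hu1, hcomm, hdet, hB, hμ', hns⟩ :=
      exists_lift p n (by omega) r (x ^ r) (x ^ p) ha hb hab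
    rcases h with h | ⟨rfl, rfl, h3, h9⟩
    · by_cases hn2 : n = 2
      · subst hn2
        exact false_of_lift_two p r hr hrp u B μ' hu hu1 hcomm hB hμ' hns
      · apply false_of_commute_psl p n (by omega) r hrp (x ^ r) (x ^ p) ha hb hab
        intro i hi1 hi2 hdvd
        have h9 : 1 ≤ Fintype.card F ^ i := Nat.one_le_pow _ _ Fintype.card_pos
        have h1 : ((Fintype.card F : ℕ) : ZMod r) ^ i = 1 := by
          rw [← ZMod.natCast_eq_zero_iff, Nat.cast_sub h9, Nat.cast_pow, Nat.cast_one,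
            sub_eq_zero] at hdvd
          exact hdvd
        have hki : k ∣ i := by
          rw [hk]
          exact orderOf_dvd_of_pow_eq_one h1
        have := Nat.le_of_dvd (by omega) hki
        omega
    · exact false_of_lift_three p hrp u B μ' hu hu1 hcomm hdet hB hμ' hns h9

end Cfsg.Agent.Helper8.RP
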