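import Cfsg.Agent.Helper8.RPScalar
set_option autoImplicit false

namespace Cfsg.Agent.Helper8.RP

open Polynomial Matrix Module
open Cfsg.Agent.Helper8.SemiS

variable {F : Type*} [Field F]

/-- the lifted data force a repeated linear factor when `n ≤ 3` -/
theorem exists_repeated_of_lift (p : ℕ) [Fact p.Prime] [CharP F p] {n : ℕ} (hn3 : n ≤ 3) (r : ℕ)
    (hr : r.Prime) (hrp : r ≠ p) (u B : Matrix (Fin n) (Fin n) F) (μ' : F) (hu : u ^ p = 1)
    (hu1 : u ≠ 1) (hcomm : u * B = B * u) (hB : B ^ r = μ' • 1) (hμ' : μ' ≠ 0) :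
    Squarefree (X ^ r - C μ' : F[X]) ∧ aeval B (X ^ r - C μ' : F[X]) = 0 ∧
    ∃ (c : F) (R : F[X]), c ^ r = μ' ∧ R.Monic ∧ B.charpoly = (X - C c) ^ 2 * R ∧
      R.natDegree + 2 = n := by
  have hp : p.Prime := Fact.out
  have hrF : ((r : ℕ) : F) ≠ 0 := by
    intro h0
    have := (CharP.cast_eq_zero_iff F p r).mp h0
    exact hrp ((Nat.prime_dvd_prime_iff_eq hp hr).mp this).symm
  have hsq := PGLr.squarefree_X_pow_sub_C r hrF μ' hμ'
  have hk : aeval B (X ^ r - C μ' : F[X]) = 0 := by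
    rw [PGLr.aeval_X_pow_sub_C, hB, sub_self]
  refine ⟨hsq, hk, ?_⟩
  have hne : Nonempty (Fin n) := by
    rcases Nat.eq_zero_or_pos n with h0 | h0
    · subst h0
      exact absurd (Subsingleton.elim u 1) hu1
    · exact ⟨⟨0, h0⟩⟩
  have hup : (u - 1) ^ p = 0 := by
    rw [sub_pow_char_of_commute p (Commute.one_right u), hu, one_pow, sub_self]
  obtain ⟨Q, hQ1, hQ2, hQ3⟩ := exists_sq_dvd_charpoly B u _ hsq hk hcomm p hup hu1
  have hdeg : B.charpoly.natDegree = n := by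
    rw [Matrix.charpoly_natDegree_eq_dim, Fintype.card_fin]
  obtain ⟨c, R, hQc, hRm, hchar, hRd⟩ := exists_linear_sq (Matrix.charpoly_monic B)
    (by rw [hdeg]; exact hn3) hQ1 hQ2 hQ3
  refine ⟨c, R, ?_, hRm, hchar, by rw [hRd, hdeg]⟩
  have h1 : (X - C c : F[X]) ∣ B.charpoly := by
    rw [hchar]
    exact dvd_mul_of_dvd_left (dvd_pow_self _ two_ne_zero) _
  have h2 := dvd_of_dvd_charpoly' B _ hsq hk (X - C c) (irreducible_X_sub_C c) h1
  rw [dvd_iff_isRoot, IsRoot.def, eval_sub, eval_pow, eval_X, eval_C, sub_eq_zero] at h2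
  exact h2

theorem false_of_lift_two (p : ℕ) [Fact p.Prime] [CharP F p] (r : ℕ)
    (hr : r.Prime) (hrp : r ≠ p) (u B : Matrix (Fin 2) (Fin 2) F) (μ' : F) (hu : u ^ p = 1)
    (hu1 : u ≠ 1) (hcomm : u * B = B * u) (hB : B ^ r = μ' • 1) (hμ' : μ' ≠ 0)
    (hns : ∀ c : F, B ≠ c • 1) : False := by
  obtain ⟨hsq, hk, c, R, hc, hRm, hchar, hRd⟩ :=
    exists_repeated_of_lift p (by norm_num) r hr hrp u B μ' hu hu1 hcomm hB hμ'
  have hR1 : R = 1 := by
    apply hRm.natDegree_eq_zero.mp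
    omega
  rw [hR1, mul_one] at hchar
  exact hns c (eq_smul_one_of_charpoly B _ hsq hk c hchar)

theorem false_of_lift_three [Fintype F] (p : ℕ) [Fact p.Prime] [CharP F p]
    (hp3 : 3 ≠ p) (u B : Matrix (Fin 3) (Fin 3) F) (μ' : F) (hu : u ^ p = 1)
    (hu1 : u ≠ 1) (hcomm : u * B = B * u) (hdet : B.det = 1) (hB : B ^ 3 = μ' • 1) (hμ' : μ' ≠ 0)
    (hns : ∀ c : F, B ≠ c • 1) (h9 : ¬ 9 ∣ Fintype.card F - 1) :
    False := by
  obtain ⟨hsq, hk, c, R, hc, hRm, hchar, hRd⟩ :=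
    exists_repeated_of_lift p le_rfl 3 Nat.prime_three hp3 u B μ' hu hu1 hcomm hB hμ'
  have hRd1 : R.natDegree = 1 := by omega
  have hRX := hRm.eq_X_add_C hRd1
  set c' : F := - R.coeff 0 with hc'
  have hRX' : R = X - C c' := by
    rw [hc', map_neg, sub_neg_eq_add]
    exact hRX
  rw [hRX'] at hchar
  -- c' ^ 3 = μ'
  have h1 : (X - C c' : F[X]) ∣ B.charpoly := by
    rw [hchar]
    exact dvd_mul_left _ _
  have h2 := dvd_of_dvd_charpoly' B _ hsq hk (X - C c') (irreducible_X_sub_C c') h1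
  rw [dvd_iff_isRoot, IsRoot.def, eval_sub, eval_pow, eval_X, eval_C, sub_eq_zero] at h2
  -- determinant
  have h3' : c ^ 2 * c' = 1 := by
    have := Matrix.det_eq_sign_charpoly_coeff B
    rw [hdet, Fintype.card_fin, hchar, coeff_zero_eq_eval_zero, eval_mul, eval_pow, eval_sub,
      eval_sub, eval_X, eval_C, eval_C] at this
    rw [this]
    ring
  have hc0 : c ≠ 0 := by
    rintro rfl
    rw [zero_pow two_ne_zero, zero_mul] at h3'
    exact zero_ne_one h3'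
  have hc9 : c ^ 9 = 1 := by
    have : c ^ 9 = c ^ 6 * c ^ 3 := by ring
    rw [this, hc, ← h2]
    have : c ^ 6 * c' ^ 3 = (c ^ 2 * c') ^ 3 := by ring
    rw [this, h3', one_pow]
  have hcq : c ^ (Fintype.card F - 1) = 1 := FiniteField.pow_card_sub_one_eq_one c hc0
  have hg : Nat.gcd 9 (Fintype.card F - 1) ∣ 3 := by
    have h9' : Nat.gcd 9 (Fintype.card F - 1) ∣ 3 ^ 2 := Nat.gcd_dvd_left _ _
    obtain ⟨i, hi, hi'⟩ := (Nat.dvd_prime_pow Nat.prime_three).mp h9'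
    interval_cases i
    · rw [hi']; norm_num
    · rw [hi']; norm_num
    · exfalso
      apply h9
      have := Nat.gcd_dvd_right 9 (Fintype.card F - 1)
      rw [hi'] at this
      exact this
  have hc3 : c ^ 3 = 1 := by
    have h := pow_gcd_eq_one.mpr ⟨hc9, hcq⟩
    obtain ⟨w, hw⟩ := hg
    rw [hw, pow_mul, h, one_pow]
  have hcc : c' = c := by
    calc c' = c' * c ^ 3 := by rw [hc3, mul_one]
      _ = (c ^ 2 * c') * c := by ring
      _ = c := by rw [h3', one_mul]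
  rw [hcc, ← pow_succ] at hchar
  exact hns c (eq_smul_one_of_charpoly B _ hsq hk c hchar)

end Cfsg.Agent.Helper8.RP
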