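import Cfsg.Agent.Helper8.RPUnipSemi
set_option autoImplicit false

namespace Cfsg.Agent.Helper8.RP

open Polynomial Matrix Module
open Cfsg.Agent.Helper8.SemiS

variable {F : Type*} [Field F]

/-- a semisimple matrix with a single eigenvalue is scalar -/
theorem eq_smul_one_of_charpoly {n : ℕ} (A : Matrix (Fin n) (Fin n) F) (g : F[X])
    (hg : Squarefree g) (hA : aeval A g = 0) (c : F) (hc : A.charpoly = (X - C c) ^ n) :
    A = c • 1 := by
  rcases Nat.eq_zero_or_pos n with h0 | h0
  · subst h0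
    exact Subsingleton.elim _ _
  · have h1 : minpoly F A ∣ g := minpoly.dvd F A hA
    have h2 : Squarefree (minpoly F A) := hg.squarefree_of_dvd h1
    have h3 : minpoly F A ∣ (X - C c) ^ n := by
      rw [← hc]
      exact Matrix.minpoly_dvd_charpoly A
    have h4 : minpoly F A ∣ X - C c :=
      (h2.dvd_pow_iff_dvd h0.ne').mp h3
    obtain ⟨w, hw⟩ := h4
    have h5 : aeval A (X - C c : F[X]) = 0 := by
      rw [hw, map_mul, minpoly.aeval, zero_mul]
    rw [map_sub, aeval_X, aeval_C, Algebra.algebraMap_eq_smul_one, sub_eq_zero] at h5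
    exact h5

/-- irreducible factors of the characteristic polynomial of a matrix killed by a squarefree
polynomial divide it -/
theorem dvd_of_dvd_charpoly' {n : ℕ} (A : Matrix (Fin n) (Fin n) F) (g : F[X])
    (hg : Squarefree g) (hA : aeval A g = 0) (P : F[X]) (hirr : Irreducible P)
    (hdvd : P ∣ A.charpoly) : P ∣ g := by
  obtain ⟨d, P', hP', hdvd', hchar⟩ := exists_family_of_matrix A g hg hA
  rw [hchar] at hdvd
  obtain ⟨i, _, hi⟩ := (Prime.dvd_finsetProd_iff hirr.prime _).mp hdvd
  exact dvd_trans hi (hdvd' i)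

/-- a repeated factor of a polynomial of degree at most three is linear -/
theorem exists_linear_sq {f Q : F[X]} (hf : f.Monic) (hdeg : f.natDegree ≤ 3) (hQ : Q.Monic)
    (hirr : Irreducible Q) (hdvd : Q * Q ∣ f) :
    ∃ (c : F) (R : F[X]), Q = X - C c ∧ R.Monic ∧ f = (X - C c) ^ 2 * R ∧
      R.natDegree + 2 = f.natDegree := by
  obtain ⟨R, hR⟩ := hdvd
  have hR0 : R ≠ 0 := by
    rintro rfl
    rw [mul_zero] at hR
    exact hf.ne_zero hR
  have hRm : R.Monic := by
    have h1 : (Q * Q).Monic := hQ.mul hQ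
    have := hf
    rw [hR] at this
    exact h1.of_mul_monic_left this
  have hd : f.natDegree = Q.natDegree + Q.natDegree + R.natDegree := by
    rw [hR, (hQ.mul hQ).natDegree_mul hRm, hQ.natDegree_mul hQ]
  have hQ1 : 1 ≤ Q.natDegree := hirr.natDegree_pos
  have hQd : Q.natDegree = 1 := by omega
  refine ⟨-Q.coeff 0, R, ?_, hRm, ?_, ?_⟩
  · have := hQ.eq_X_add_C hQd
    rw [map_neg, sub_neg_eq_add]
    exact this
  · have := hQ.eq_X_add_C hQd
    rw [map_neg, sub_neg_eq_add, ← this, sq]
    exact hR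
  · omega

end Cfsg.Agent.Helper8.RP
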