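import Cfsg.Agent.Helper8.PGraphPSL
set_option autoImplicit false

namespace Cfsg.Agent.Helper8.RP

open Polynomial Matrix Module
open Cfsg.Agent.Helper8.SemiS

variable {F : Type*} [Field F]

/-- a map on a model commuting with `X` is `F[X]`-linear -/
theorem map_smul_of_comm_X {d : ℕ} (P : Fin d → F[X])
    (T : (∀ i, F[X] ⧸ (F[X] ∙ P i)) →ₗ[F] (∀ i, F[X] ⧸ (F[X] ∙ P i)))
    (hT : ∀ y, T ((X : F[X]) • y) = (X : F[X]) • T y) (f : F[X])
    (y : ∀ i, F[X] ⧸ (F[X] ∙ P i)) : T (f • y) = f • T y := by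
  have hpow : ∀ (k : ℕ) (y : ∀ i, F[X] ⧸ (F[X] ∙ P i)), T ((X ^ k : F[X]) • y) = (X ^ k : F[X]) • T y := by
    intro k
    induction k with
    | zero => intro y; simp
    | succ k ih =>
      intro y
      rw [pow_succ, mul_smul (X ^ k : F[X]) X y, ih, hT, ← mul_smul (X ^ k : F[X]) X (T y)]
  induction f using Polynomial.induction_on' with
  | add p q hp hq => rw [add_smul p q y, map_add, hp, hq, add_smul p q (T y)]
  | monomial k c =>
    have hC : ∀ z : (∀ i, F[X] ⧸ (F[X] ∙ P i)), (C c : F[X]) • z = c • z := by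
      intro z
      rw [← IsScalarTower.algebraMap_smul F[X] c z]
      rfl
    rw [← C_mul_X_pow_eq_monomial, mul_smul (C c) (X ^ k : F[X]) y,
      mul_smul (C c) (X ^ k : F[X]) (T y), ← hpow, hC, hC, map_smul]

/-- (GP-model) a nilpotent endomorphism of a multiplicity-free model commuting with `X`
vanishes -/
theorem eq_zero_of_nilpotent_of_comm {d : ℕ} (P : Fin d → F[X])
    (hP : ∀ i, (P i).Monic ∧ Irreducible (P i)) (hinj : Function.Injective P)
    (T : (∀ i, F[X] ⧸ (F[X] ∙ P i)) →ₗ[F] (∀ i, F[X] ⧸ (F[X] ∙ P i)))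
    (hT : ∀ y, T ((X : F[X]) • y) = (X : F[X]) • T y) (k : ℕ) (hk : T ^ k = 0) : T = 0 := by
  classical
  have hlin := map_smul_of_comm_X P T hT
  let e : ∀ i : Fin d, (∀ j, F[X] ⧸ (F[X] ∙ P j)) := fun i => Pi.single i (Submodule.Quotient.mk 1)
  have hkill : ∀ i (z : F[X] ⧸ (F[X] ∙ P i)), P i • z = 0 := by
    intro i z
    obtain ⟨c, rfl⟩ := Submodule.Quotient.mk_surjective _ z
    rw [← Submodule.Quotient.mk_smul, Submodule.Quotient.mk_eq_zero, Submodule.mem_span_singleton]
    exact ⟨c, by rw [smul_eq_mul, smul_eq_mul, mul_comm]⟩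
  have hPe : ∀ i, P i • e i = 0 := by
    intro i
    funext j
    by_cases hj : j = i
    · subst hj
      simp only [e, Pi.smul_apply, Pi.single_eq_same, Pi.zero_apply]
      exact hkill j _
    · simp only [e, Pi.smul_apply, Pi.single_eq_of_ne hj, smul_zero, Pi.zero_apply]
  -- off-diagonal entries vanish
  have hoff : ∀ i j, j ≠ i → (T (e i)) j = 0 := by
    intro i j hj
    have h1 : P i • T (e i) = 0 := by rw [← hlin, hPe, map_zero]
    have h2 : P i • (T (e i)) j = 0 := congrFun h1 j
    have hcop : IsCoprime (P i) (P j) := by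
      apply (hP i).2.coprime_iff_not_dvd.mpr
      intro hdvd
      have := Polynomial.eq_of_monic_of_associated (hP i).1 (hP j).1
        ((hP i).2.associated_of_dvd (hP j).2 hdvd)
      exact hj (hinj this).symm
    obtain ⟨a, b, hab⟩ := hcop
    calc (T (e i)) j = (1 : F[X]) • (T (e i)) j := (one_smul _ _).symm
      _ = (a * P i + b * P j) • (T (e i)) j := by rw [hab]
      _ = a • (P i • (T (e i)) j) + b • (P j • (T (e i)) j) := by
          rw [add_smul (a * P i) (b * P j) ((T (e i)) j), mul_smul a (P i) ((T (e i)) j),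
            mul_smul b (P j) ((T (e i)) j)]
      _ = 0 := by rw [h2, hkill j, smul_zero, smul_zero, add_zero]
  -- T e_i = t_i • e_i
  have hdiag : ∀ i, ∃ t : F[X], T (e i) = t • e i := by
    intro i
    obtain ⟨t, ht⟩ := Submodule.Quotient.mk_surjective _ ((T (e i)) i)
    refine ⟨t, ?_⟩
    funext j
    by_cases hj : j = i
    · subst hj
      simp only [e, Pi.smul_apply, Pi.single_eq_same]
      rw [← ht, ← Submodule.Quotient.mk_smul, smul_eq_mul, mul_one]
    · rw [hoff i j hj]
      simp only [e, Pi.smul_apply, Pi.single_eq_of_ne hj, smul_zero]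
  have hTe : ∀ i, T (e i) = 0 := by
    intro i
    obtain ⟨t, ht⟩ := hdiag i
    have hpow : ∀ m : ℕ, (T ^ m) (e i) = (t ^ m) • e i := by
      intro m
      induction m with
      | zero => simp
      | succ m ih =>
        rw [pow_succ', Module.End.mul_apply, ih, hlin, ht, ← mul_smul (t ^ m) t (e i), ← pow_succ]
    have h0 : (t ^ k) • e i = 0 := by rw [← hpow, hk, LinearMap.zero_apply]
    have h1 := congrFun h0 i
    simp only [e, Pi.smul_apply, Pi.single_eq_same, Pi.zero_apply] at h1
    rw [← Submodule.Quotient.mk_smul, smul_eq_mul, mul_one, Submodule.Quotient.mk_eq_zero,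
      Submodule.mem_span_singleton] at h1
    obtain ⟨c, hc⟩ := h1
    have h2 : P i ∣ t ^ k := ⟨c, by rw [← hc, smul_eq_mul, mul_comm]⟩
    have h3 : P i ∣ t := (hP i).2.prime.dvd_of_dvd_pow h2
    obtain ⟨c', hc'⟩ := h3
    rw [ht, hc', mul_comm, mul_smul c' (P i) (e i), hPe, smul_zero]
  apply LinearMap.ext
  intro y
  rw [LinearMap.zero_apply]
  have hy : y = ∑ i, Pi.single i (y i) := (Finset.univ_sum_single y).symm
  rw [hy, map_sum]
  apply Finset.sum_eq_zero
  intro i _
  obtain ⟨c, hc⟩ := Submodule.Quotient.mk_surjective _ (y i)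
  have : (Pi.single i (y i) : ∀ j, F[X] ⧸ (F[X] ∙ P j)) = c • e i := by
    funext j
    by_cases hj : j = i
    · subst hj
      simp only [e, Pi.smul_apply, Pi.single_eq_same]
      rw [← hc, ← Submodule.Quotient.mk_smul, smul_eq_mul, mul_one]
    · simp only [e, Pi.smul_apply, Pi.single_eq_of_ne hj, smul_zero]
  rw [this, hlin, hTe, smul_zero]

end Cfsg.Agent.Helper8.RP

namespace Cfsg.Agent.Helper8.RP

open Polynomial Matrix Module
open Cfsg.Agent.Helper8.SemiS

variable {F : Type*} [Field F]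

/-- (GP) a nontrivial unipotent matrix commuting with a semisimple matrix forces a repeated
irreducible factor of the characteristic polynomial -/
theorem exists_sq_dvd_charpoly {n : ℕ} (A u : Matrix (Fin n) (Fin n) F) (g : F[X])
    (hg : Squarefree g) (hA : aeval A g = 0) (hcomm : u * A = A * u) (k : ℕ)
    (hk : (u - 1) ^ k = 0) (hu : u ≠ 1) :
    ∃ Q : F[X], Q.Monic ∧ Irreducible Q ∧ Q * Q ∣ A.charpoly := by
  classical
  have k1 : aeval (Matrix.toLin' A) g = 0 := by
    have := Polynomial.aeval_algHom_apply (Matrix.toLinAlgEquiv' (R := F) (n := Fin n)).toAlgHom A g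
    change aeval (Matrix.toLin' A) g = Matrix.toLin' (aeval A g) at this
    rw [this, hA, map_zero]
  obtain ⟨d, P, hP, _, ⟨Ψ⟩⟩ := exists_model' (Matrix.toLin' A) g hg k1
  have : ∀ i, Fact (P i).Monic := fun i => ⟨(hP i).1⟩
  have hchar : A.charpoly = ∏ i, P i := by
    rw [← Matrix.charpoly_toLin']
    exact charpoly_eq_prod (Matrix.toLin' A) P Ψ
  by_contra hno
  have hinj : Function.Injective P := by
    intro i j hij
    by_contra hne
    apply hno
    refine ⟨P i, (hP i).1, (hP i).2, ?_⟩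
    rw [hchar, ← Finset.mul_prod_erase Finset.univ P (Finset.mem_univ i)]
    apply mul_dvd_mul_left
    rw [hij]
    exact Finset.dvd_prod_of_mem P (Finset.mem_erase.mpr ⟨Ne.symm hne, Finset.mem_univ j⟩)
  let m := modelEquiv (Matrix.toLin' A) P Ψ
  let N : Module.End F (Fin n → F) := Matrix.toLin' (u - 1)
  have hNA : ∀ v, N (Matrix.toLin' A v) = Matrix.toLin' A (N v) := by
    intro v
    change Matrix.toLin' (u - 1) (Matrix.toLin' A v) = Matrix.toLin' A (Matrix.toLin' (u - 1) v)
    rw [← LinearMap.comp_apply, ← LinearMap.comp_apply, ← Matrix.toLin'_mul, ← Matrix.toLin'_mul,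
      Matrix.sub_mul, Matrix.mul_sub, hcomm, Matrix.one_mul, Matrix.mul_one]
  let T : Module.End F (∀ i, F[X] ⧸ (F[X] ∙ P i)) := m.conjAlgEquiv F N
  have hTapp : ∀ v, T (m v) = m (N v) := by
    intro v
    change (m.toLinearMap ∘ₗ N ∘ₗ m.symm.toLinearMap) (m v) = m (N v)
    simp
  have hT : ∀ y, T ((X : F[X]) • y) = (X : F[X]) • T y := by
    intro y
    obtain ⟨v, rfl⟩ := m.surjective y
    have e1 : (X : F[X]) • m v = m (Matrix.toLin' A v) :=
      (modelEquiv_apply (Matrix.toLin' A) P Ψ v).symm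
    rw [e1, hTapp, hTapp, hNA]
    exact modelEquiv_apply (Matrix.toLin' A) P Ψ (N v)
  have hTk : T ^ k = 0 := by
    change (m.conjAlgEquiv F N) ^ k = 0
    rw [← map_pow]
    have : N ^ k = 0 := by
      change (Matrix.toLin' (u - 1)) ^ k = 0
      rw [← Matrix.toLin'_pow, hk, map_zero]
    rw [this, map_zero]
  have hT0 := eq_zero_of_nilpotent_of_comm P hP hinj T hT k hTk
  have hN0 : N = 0 := by
    have : m.conjAlgEquiv F N = m.conjAlgEquiv F 0 := by rw [map_zero]; exact hT0
    exact (m.conjAlgEquiv F).injective this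
  have : u - 1 = 0 := by
    apply Matrix.toLin'.injective
    rw [map_zero]
    exact hN0
  exact hu (sub_eq_zero.mp this)

end Cfsg.Agent.Helper8.RP
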