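import Mathlib

set_option autoImplicit false

/-!
The twisted tensor module `M₂(F)` of `SL₂(F) × {±1}` in characteristic three, and affine maps.
-/

namespace Cfsg.Agent.Helper8.ReeEx

open Matrix

variable {F : Type*} [Field F] [CharP F 3]

instance fact_three : Fact (Nat.Prime 3) := ⟨Nat.prime_three⟩

/-- the Frobenius twist on `SL₂`. -/
noncomputable def frob (F : Type*) [Field F] [CharP F 3] :
    SpecialLinearGroup (Fin 2) F →* SpecialLinearGroup (Fin 2) F :=
  SpecialLinearGroup.map (frobenius F 3)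

theorem frob_apply (g : SpecialLinearGroup (Fin 2) F) (i j : Fin 2) :
    (frob F g : Matrix (Fin 2) (Fin 2) F) i j = (g : Matrix (Fin 2) (Fin 2) F) i j ^ 3 := rfl

omit [CharP F 3] in
theorem cmul (a b : SpecialLinearGroup (Fin 2) F) :
    ((a * b : SpecialLinearGroup (Fin 2) F) : Matrix (Fin 2) (Fin 2) F) =
      (a : Matrix (Fin 2) (Fin 2) F) * (b : Matrix (Fin 2) (Fin 2) F) := rfl

omit [CharP F 3] in
theorem cone : ((1 : SpecialLinearGroup (Fin 2) F) : Matrix (Fin 2) (Fin 2) F) = 1 := rfl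

omit [CharP F 3] in
theorem cneg (a : SpecialLinearGroup (Fin 2) F) :
    ((-a : SpecialLinearGroup (Fin 2) F) : Matrix (Fin 2) (Fin 2) F) =
      -(a : Matrix (Fin 2) (Fin 2) F) := rfl

/-- the sign as a scalar. -/
def sgn (F : Type*) [Field F] (ε : ℤˣ) : F := ((ε : ℤ) : F)

theorem sgn_mul (ε ε' : ℤˣ) : sgn F (ε * ε') = sgn F ε * sgn F ε' := by
  unfold sgn
  rw [Units.val_mul, Int.cast_mul]

theorem sgn_one : sgn F 1 = 1 := by
  unfold sgn
  simp

theorem sgn_neg_one : sgn F (-1) = -1 := by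
  unfold sgn
  simp

theorem sgn_pow (ε : ℤˣ) (k : ℕ) : sgn F (ε ^ k) = sgn F ε ^ k := by
  unfold sgn
  rw [Units.val_pow_eq_pow_val, Int.cast_pow]

theorem sgn_sq (ε : ℤˣ) : sgn F ε * sgn F ε = 1 := by
  rw [← sgn_mul, Int.units_mul_self, sgn_one]

/-- the linear action `X ↦ ε g X φ(g)⁻¹`. -/
noncomputable def Lin (F : Type*) [Field F] [CharP F 3] :
    SpecialLinearGroup (Fin 2) F × ℤˣ →* Module.End F (Matrix (Fin 2) (Fin 2) F) where
  toFun x := sgn F x.2 • (LinearMap.mulLeft F (x.1 : Matrix (Fin 2) (Fin 2) F) *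
    LinearMap.mulRight F (((frob F x.1)⁻¹ : SpecialLinearGroup (Fin 2) F) :
      Matrix (Fin 2) (Fin 2) F))
  map_one' := by
    apply LinearMap.ext
    intro X
    simp [sgn_one, cone]
  map_mul' x y := by
    apply LinearMap.ext
    intro X
    simp only [Prod.fst_mul, Prod.snd_mul, map_mul, _root_.mul_inv_rev,
      LinearMap.smul_apply, Module.End.mul_apply, LinearMap.mulLeft_apply,
      LinearMap.mulRight_apply, sgn_mul, Matrix.mul_smul, Matrix.smul_mul, smul_smul]
    congr 1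
    rw [cmul, cmul]
    simp only [Matrix.mul_assoc]

theorem Lin_apply (g : SpecialLinearGroup (Fin 2) F) (ε : ℤˣ) (X : Matrix (Fin 2) (Fin 2) F) :
    Lin F (g, ε) X = sgn F ε • ((g : Matrix (Fin 2) (Fin 2) F) * X *
      (((frob F g)⁻¹ : SpecialLinearGroup (Fin 2) F) : Matrix (Fin 2) (Fin 2) F)) := by
  change sgn F ε • ((LinearMap.mulLeft F (g : Matrix (Fin 2) (Fin 2) F) *
    LinearMap.mulRight F (((frob F g)⁻¹ : SpecialLinearGroup (Fin 2) F) :
      Matrix (Fin 2) (Fin 2) F)) X) = _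
  rw [Module.End.mul_apply, LinearMap.mulLeft_apply, LinearMap.mulRight_apply, mul_assoc]

theorem frob_neg_one : frob F (-1 : SpecialLinearGroup (Fin 2) F) = -1 := by
  ext i j
  rw [frob_apply]
  rw [cneg, cone]
  fin_cases i <;> fin_cases j <;> simp <;> norm_num

theorem Lin_neg_one_one : Lin F ((-1 : SpecialLinearGroup (Fin 2) F), (1 : ℤˣ)) = 1 := by
  apply LinearMap.ext
  intro X
  rw [Lin_apply, sgn_one, one_smul, frob_neg_one]
  have : ((-1 : SpecialLinearGroup (Fin 2) F)⁻¹ : SpecialLinearGroup (Fin 2) F) = -1 := by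
    rw [inv_eq_iff_eq_inv, inv_neg, inv_one]
  rw [this, cneg, cone]
  simp

theorem Lin_one_neg_one (X : Matrix (Fin 2) (Fin 2) F) :
    Lin F ((1 : SpecialLinearGroup (Fin 2) F), (-1 : ℤˣ)) X = -X := by
  rw [Lin_apply, sgn_neg_one, map_one, inv_one, cone]
  simp

/-- three times anything vanishes. -/
theorem three_smul_eq_zero (X : Matrix (Fin 2) (Fin 2) F) : (3 : ℕ) • X = 0 := by
  have h3 : ((3 : ℕ) : F) = 0 := CharP.cast_eq_zero F 3
  rw [← Nat.cast_smul_eq_nsmul F, h3, zero_smul]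

/-- powers of an affine map. -/
theorem pow_apply_aff {f : Equiv.Perm (Matrix (Fin 2) (Fin 2) F)}
    {L : Module.End F (Matrix (Fin 2) (Fin 2) F)} {B : Matrix (Fin 2) (Fin 2) F}
    (hf : ∀ X, f X = L X + B) (k : ℕ) (X : Matrix (Fin 2) (Fin 2) F) :
    (f ^ k) X = (L ^ k) X + (∑ i ∈ Finset.range k, L ^ i) B := by
  induction k with
  | zero => simp
  | succ k ih =>
    rw [pow_succ', Equiv.Perm.mul_apply, ih, hf, map_add, geom_sum_succ, pow_succ',
      LinearMap.add_apply, Module.End.mul_apply, Module.End.mul_apply, Module.End.one_apply]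
    abel

/-- an affine map whose linear part has order dividing `d` and whose translation part sums to zero. -/
theorem pow_eq_one_aff {f : Equiv.Perm (Matrix (Fin 2) (Fin 2) F)}
    {L : Module.End F (Matrix (Fin 2) (Fin 2) F)} {B : Matrix (Fin 2) (Fin 2) F}
    (hf : ∀ X, f X = L X + B) {d : ℕ} (hL : L ^ d = 1)
    (hS : (∑ i ∈ Finset.range d, L ^ i) B = 0) : f ^ d = 1 := by
  apply Equiv.ext
  intro X
  rw [pow_apply_aff hf, hL, hS, add_zero]
  rfl

/-- the geometric sum over three periods. -/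
theorem geom_three {L : Module.End F (Matrix (Fin 2) (Fin 2) F)} {k : ℕ} (hL : L ^ k = 1)
    (B : Matrix (Fin 2) (Fin 2) F) : (∑ i ∈ Finset.range (3 * k), L ^ i) B = 0 := by
  have h1 : ∀ j : ℕ, ∑ i ∈ Finset.range (j * k), L ^ i = j • ∑ i ∈ Finset.range k, L ^ i := by
    intro j
    induction j with
    | zero => simp
    | succ j ih =>
      rw [add_mul, one_mul, Finset.sum_range_add, ih, add_smul, one_smul]
      congr 1
      apply Finset.sum_congr rfl
      intro i _
      rw [pow_add, pow_mul', hL, one_pow, one_mul]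
  rw [h1 3, LinearMap.smul_apply, three_smul_eq_zero]

/-- without fixed points the geometric sum vanishes. -/
theorem geom_of_no_fixed {L : Module.End F (Matrix (Fin 2) (Fin 2) F)} {d : ℕ} (hL : L ^ d = 1)
    (hfix : ∀ Y, L Y = Y → Y = 0) (B : Matrix (Fin 2) (Fin 2) F) :
    (∑ i ∈ Finset.range d, L ^ i) B = 0 := by
  apply hfix
  have h1 := mul_geom_sum L d
  rw [hL, sub_self] at h1
  have h2 := congrArg (fun M : Module.End F (Matrix (Fin 2) (Fin 2) F) => M B) h1
  simp only [Module.End.mul_apply, LinearMap.sub_apply, Module.End.one_apply,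
    LinearMap.zero_apply] at h2
  exact sub_eq_zero.mp h2

end Cfsg.Agent.Helper8.ReeEx
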