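import Mathlib
import Cfsg.Agent.Helper8.ReeExA
import Cfsg.Agent.Helper8.SL2Cent
import Cfsg.Agent.Helper8.SL2Ell2

set_option autoImplicit false

/-!
Fixed points of `SL₂(F) × {±1}` on the twisted tensor module.
-/

namespace Cfsg.Agent.Helper8.ReeEx

open Matrix Cfsg.Agent.Helper7.SL2 Cfsg.Agent.Helper8.SL2C

variable {F : Type*} [Field F] [CharP F 3]

omit [CharP F 3] in
theorem mext {x y : Matrix (Fin 2) (Fin 2) F} (h00 : x 0 0 = y 0 0)
    (h01 : x 0 1 = y 0 1) (h10 : x 1 0 = y 1 0) (h11 : x 1 1 = y 1 1) : x = y := by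
  ext i j
  fin_cases i <;> fin_cases j
  · exact h00
  · exact h01
  · exact h10
  · exact h11

omit [CharP F 3] in
/-- Cayley–Hamilton in `SL₂`. -/
theorem cayley (g : SpecialLinearGroup (Fin 2) F) :
    (g : Matrix (Fin 2) (Fin 2) F) * (g : Matrix (Fin 2) (Fin 2) F) =
      tr g • (g : Matrix (Fin 2) (Fin 2) F) - 1 := by
  have hd := det_eq g
  unfold tr
  apply mext <;>
    simp only [Matrix.mul_apply, Fin.sum_univ_two, Matrix.sub_apply, Matrix.smul_apply,
      smul_eq_mul, Matrix.one_apply_eq, Matrix.one_apply_ne, ne_eq, zero_ne_one, one_ne_zero,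
      not_false_eq_true, sub_zero]
  · linear_combination (-1 : F) * hd
  · ring
  · ring
  · linear_combination (-1 : F) * hd

theorem tr_frob (g : SpecialLinearGroup (Fin 2) F) : tr (frob F g) = tr g ^ 3 := by
  unfold tr
  rw [frob_apply, frob_apply, add_pow_char]

/-- a fixed point forces a relation on the trace. -/
theorem tr_of_fixed (g : SpecialLinearGroup (Fin 2) F) (ε : ℤˣ) {Y : Matrix (Fin 2) (Fin 2) F}
    (hY : Y ≠ 0) (h : Lin F (g, ε) Y = Y) : tr g = sgn F ε * tr g ^ 3 := by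
  set G : Matrix (Fin 2) (Fin 2) F := (g : Matrix (Fin 2) (Fin 2) F) with hG
  set G' : Matrix (Fin 2) (Fin 2) F := (frob F g : Matrix (Fin 2) (Fin 2) F) with hG'
  have hinv : (((frob F g)⁻¹ : SpecialLinearGroup (Fin 2) F) : Matrix (Fin 2) (Fin 2) F) * G' = 1 := by
    rw [hG', ← cmul, inv_mul_cancel, cone]
  have hinv' : G' * (((frob F g)⁻¹ : SpecialLinearGroup (Fin 2) F) : Matrix (Fin 2) (Fin 2) F) = 1 := by
    rw [hG', ← cmul, mul_inv_cancel, cone]
  rw [Lin_apply] at h
  have h1 : G * Y = sgn F ε • (Y * G') := by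
    have h2 := congrArg (fun M => sgn F ε • (M * G')) h
    beta_reduce at h2
    rw [Matrix.smul_mul, smul_smul, sgn_sq, one_smul, Matrix.mul_assoc, hinv, Matrix.mul_one]
      at h2
    exact h2
  have h2 : G * G * Y = Y * (G' * G') := by
    rw [Matrix.mul_assoc, h1, Matrix.mul_smul, ← Matrix.mul_assoc, h1, Matrix.smul_mul, smul_smul,
      sgn_sq, one_smul, Matrix.mul_assoc]
  rw [hG, hG', cayley, cayley, ← hG, ← hG', Matrix.sub_mul, Matrix.mul_sub, Matrix.one_mul,
    Matrix.mul_one, Matrix.smul_mul, Matrix.mul_smul, h1, smul_smul, tr_frob] at h2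
  have h3 : (tr g * sgn F ε - tr g ^ 3) • (Y * G') = 0 := by
    rw [sub_smul]
    exact sub_eq_zero.mpr (sub_left_injective h2)
  rcases smul_eq_zero.mp h3 with h4 | h4
  · have := sgn_sq (F := F) ε
    linear_combination (sgn F ε) * h4 - (tr g) * this
  · exfalso
    apply hY
    have := congrArg (fun M => M * (((frob F g)⁻¹ : SpecialLinearGroup (Fin 2) F) :
      Matrix (Fin 2) (Fin 2) F)) h4
    beta_reduce at this
    rwa [Matrix.mul_assoc, hinv', Matrix.mul_one, Matrix.zero_mul] at this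

/-- the possible traces. -/
theorem cases_of_tr [Fintype F] (hq : Fintype.card F % 4 = 3) {t : F} {ε : ℤˣ}
    (ht : t = sgn F ε * t ^ 3) : t = 0 ∨ (ε = 1 ∧ (t = 1 ∨ t = -1)) := by
  rcases Int.units_eq_one_or ε with rfl | rfl
  · rw [sgn_one, one_mul] at ht
    have h1 : t * ((t - 1) * (t + 1)) = 0 := by linear_combination (-1 : F) * ht
    rcases mul_eq_zero.mp h1 with h | h
    · left; exact h
    · right
      refine ⟨rfl, ?_⟩
      rcases mul_eq_zero.mp h with h | h
      · left; linear_combination h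
      · right; linear_combination h
  · left
    rw [sgn_neg_one] at ht
    have h1 : t * (t ^ 2 + 1) = 0 := by linear_combination ht
    rcases mul_eq_zero.mp h1 with h | h
    · exact h
    · exfalso
      have hsq : IsSquare (-1 : F) := ⟨t, by linear_combination (-1 : F) * h⟩
      rw [FiniteField.isSquare_neg_one_iff] at hsq
      exact hsq hq

omit [CharP F 3] in
/-- trace zero. -/
theorem sq_of_tr_zero {g : SpecialLinearGroup (Fin 2) F} (ht : tr g = 0) : g * g = -1 := by
  apply Subtype.ext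
  rw [cmul, cayley, ht, zero_smul, zero_sub]
  rfl

omit [CharP F 3] in
/-- trace `±1`. -/
theorem cube_of_tr {g : SpecialLinearGroup (Fin 2) F} (ht : tr g * tr g = 1) :
    (g : Matrix (Fin 2) (Fin 2) F) * (g : Matrix (Fin 2) (Fin 2) F) *
      (g : Matrix (Fin 2) (Fin 2) F) = -(tr g • (1 : Matrix (Fin 2) (Fin 2) F)) := by
  rw [cayley, Matrix.sub_mul, Matrix.smul_mul, cayley, Matrix.one_mul, smul_sub, smul_smul, ht,
    one_smul]
  abel

end Cfsg.Agent.Helper8.ReeEx
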