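import Mathlib
import Cfsg.Agent.Helper8.ReeExB
import Cfsg.Agent.Helper8.SL2Parab

set_option autoImplicit false

/-!
The affine group over the twisted tensor module: element orders divide `6`, `9`, `q - 1` or
`(q + 1) / 2`.
-/

namespace Cfsg.Agent.Helper8.ReeEx

open Matrix Cfsg.Agent.Helper7.SL2 Cfsg.Agent.Helper8.SL2C

variable {F : Type*} [Field F] [CharP F 3]

/-- the affine group `M₂(F) ⋊ (PSL₂(F) × 2)`. -/
def Hgrp (F : Type*) [Field F] [CharP F 3] : Subgroup (Equiv.Perm (Matrix (Fin 2) (Fin 2) F)) where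
  carrier := {f | ∃ (x : SpecialLinearGroup (Fin 2) F × ℤˣ) (B : Matrix (Fin 2) (Fin 2) F),
    ∀ X, f X = Lin F x X + B}
  mul_mem' := by
    rintro f f' ⟨x, B, hf⟩ ⟨x', B', hf'⟩
    refine ⟨x * x', Lin F x B' + B, fun X => ?_⟩
    rw [Equiv.Perm.mul_apply, hf, hf', map_add, map_mul, Module.End.mul_apply, add_assoc]
  one_mem' := ⟨1, 0, fun X => by rw [map_one, add_zero]; rfl⟩
  inv_mem' := by
    rintro f ⟨x, B, hf⟩
    refine ⟨x⁻¹, -(Lin F x⁻¹ B), fun X => ?_⟩
    rw [Equiv.Perm.inv_eq_iff_eq, hf, map_add, map_neg, ← Module.End.mul_apply,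
      ← Module.End.mul_apply, ← map_mul, mul_inv_cancel, map_one, Module.End.one_apply,
      Module.End.one_apply]
    abel

theorem mem_Hgrp {f : Equiv.Perm (Matrix (Fin 2) (Fin 2) F)} :
    f ∈ Hgrp F ↔ ∃ (x : SpecialLinearGroup (Fin 2) F × ℤˣ) (B : Matrix (Fin 2) (Fin 2) F),
      ∀ X, f X = Lin F x X + B := Iff.rfl

theorem pow_eq_one_of_isConj {G : Type*} [Group G] {g g' : G} (hc : IsConj g g') {d : ℕ}
    (h : g' ^ d = 1) : g ^ d = 1 := by
  obtain ⟨c, hc⟩ := isConj_iff.mp hc
  have : g = c⁻¹ * g' * c := by rw [← hc]; group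
  rw [this]
  have e : c⁻¹ * g' * c = c⁻¹ * g' * c⁻¹⁻¹ := by rw [inv_inv]
  rw [e, conj_pow, h, mul_one, mul_inv_cancel]

theorem Lin_pow (g : SpecialLinearGroup (Fin 2) F) (ε : ℤˣ) (k : ℕ) :
    Lin F (g, ε) ^ k = Lin F (g ^ k, ε ^ k) := by
  rw [← map_pow, Prod.pow_mk]

theorem Lin_pm_one {g : SpecialLinearGroup (Fin 2) F} (hg : g = 1 ∨ g = -1) :
    Lin F (g, (1 : ℤˣ)) = 1 := by
  rcases hg with rfl | rfl
  · exact map_one _
  · exact Lin_neg_one_one

theorem units_pow_even (ε : ℤˣ) {k : ℕ} (hk : Even k) : ε ^ k = 1 := by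
  obtain ⟨j, rfl⟩ := hk
  rw [← two_mul, pow_mul, Int.units_sq, one_pow]

/-- element orders in the affine group. -/
theorem pow_cases [Fintype F] (hq : Fintype.card F % 4 = 3)
    {f : Equiv.Perm (Matrix (Fin 2) (Fin 2) F)} (hf : f ∈ Hgrp F) :
    f ^ 6 = 1 ∨ f ^ 9 = 1 ∨ f ^ (Fintype.card F - 1) = 1 ∨ f ^ ((Fintype.card F + 1) / 2) = 1 := by
  obtain ⟨⟨g, ε⟩, B, hf⟩ := hf
  have h2 : (2 : F) ≠ 0 := by
    intro h
    have h3 : ((3 : ℕ) : F) = 0 := CharP.cast_eq_zero F 3
    have : (1 : F) = 0 := by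
      have e : ((3 : ℕ) : F) = 2 + 1 := by norm_num
      rw [e, h, zero_add] at h3
      exact h3
    exact one_ne_zero this
  by_cases hfix : ∃ Y : Matrix (Fin 2) (Fin 2) F, Y ≠ 0 ∧ Lin F (g, ε) Y = Y
  · obtain ⟨Y, hY, hYfix⟩ := hfix
    rcases cases_of_tr hq (tr_of_fixed g ε hY hYfix) with ht | ⟨rfl, ht⟩
    · left
      have hL : Lin F (g, ε) ^ 2 = 1 := by
        rw [Lin_pow, pow_two, sq_of_tr_zero ht, Int.units_sq]
        exact Lin_neg_one_one
      have hL6 : Lin F (g, ε) ^ (3 * 2) = 1 := by rw [pow_mul', hL, one_pow]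
      exact pow_eq_one_aff hf hL6 (geom_three hL B)
    · right; left
      have hg3 : g ^ 3 = 1 ∨ g ^ 3 = -1 := by
        have h3 := cube_of_tr (g := g) (by rcases ht with h | h <;> rw [h] <;> ring)
        rcases ht with h | h
        · right
          apply Subtype.ext
          rw [pow_succ, pow_two, cmul, cmul, h3, h, one_smul]
          rfl
        · left
          apply Subtype.ext
          rw [pow_succ, pow_two, cmul, cmul, h3, h, neg_smul, one_smul, neg_neg]
          rfl
      have hL : Lin F (g, (1 : ℤˣ)) ^ 3 = 1 := by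
        rw [Lin_pow, one_pow]
        exact Lin_pm_one hg3
      have hL9 : Lin F (g, (1 : ℤˣ)) ^ (3 * 3) = 1 := by rw [pow_mul', hL, one_pow]
      exact pow_eq_one_aff hf hL9 (geom_three hL B)
  · push Not at hfix
    have hfix' : ∀ Y, Lin F (g, ε) Y = Y → Y = 0 := by
      intro Y hY
      by_contra hne
      exact hfix Y hne hY
    have hmod : Fintype.card F % 4 = 3 := hq
    rcases classify g with hell | ⟨a, -, hc⟩ | ⟨β, hc⟩ | ⟨β, hc⟩
    · right; right; right
      have h1 := pow_card_add_one_of_ell hell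
      set k₀ := (Fintype.card F + 1) / 2 with hk₀
      have hk : Fintype.card F + 1 = k₀ + k₀ := by omega
      have h3 : g ^ k₀ * g ^ k₀ = 1 := by rw [← pow_add, ← hk, h1]
      have hev : Even k₀ := by
        rw [Nat.even_iff]
        omega
      have hL : Lin F (g, ε) ^ k₀ = 1 := by
        rw [Lin_pow, units_pow_even ε hev]
        exact Lin_pm_one (eq_one_or_neg_one_of_sq h2 h3)
      exact pow_eq_one_aff hf hL (geom_of_no_fixed hL hfix' B)
    · right; right; left
      have h1 : g ^ (Fintype.card F - 1) = 1 := pow_eq_one_of_isConj hc (pow_card_sub_one_tor a)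
      have hev : Even (Fintype.card F - 1) := by
        rw [Nat.even_iff]
        omega
      have hL : Lin F (g, ε) ^ (Fintype.card F - 1) = 1 := by
        rw [Lin_pow, units_pow_even ε hev, h1]
        exact map_one _
      exact pow_eq_one_aff hf hL (geom_of_no_fixed hL hfix' B)
    · left
      have h1 : g ^ 6 = 1 := by
        apply pow_eq_one_of_isConj hc
        rw [up_pow]
        have : ((6 : ℕ) : F) = 0 := by
          have h3 : ((3 : ℕ) : F) = 0 := CharP.cast_eq_zero F 3
          have e : ((6 : ℕ) : F) = 2 * ((3 : ℕ) : F) := by norm_num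
          rw [e, h3, mul_zero]
        rw [this, zero_mul, up_zero]
      have hL : Lin F (g, ε) ^ 6 = 1 := by
        rw [Lin_pow, units_pow_even ε (by decide), h1]
        exact map_one _
      exact pow_eq_one_aff hf hL (geom_of_no_fixed hL hfix' B)
    · left
      have h1 : g ^ 6 = 1 := by
        apply pow_eq_one_of_isConj hc
        rw [Even.neg_pow (by decide), up_pow]
        have : ((6 : ℕ) : F) = 0 := by
          have h3 : ((3 : ℕ) : F) = 0 := CharP.cast_eq_zero F 3
          have e : ((6 : ℕ) : F) = 2 * ((3 : ℕ) : F) := by norm_num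
          rw [e, h3, mul_zero]
        rw [this, zero_mul, up_zero]
      have hL : Lin F (g, ε) ^ 6 = 1 := by
        rw [Lin_pow, units_pow_even ε (by decide), h1]
        exact map_one _
      exact pow_eq_one_aff hf hL (geom_of_no_fixed hL hfix' B)

end Cfsg.Agent.Helper8.ReeEx
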