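import Mathlib
import Cfsg.Agent.Helper8.ReeExC

set_option autoImplicit false

/-!
The affine group over the twisted tensor module: explicit affine maps, the kernel of the linear
action, and formulas for unipotent and diagonal elements.
-/

namespace Cfsg.Agent.Helper8.ReeEx

open Matrix Cfsg.Agent.Helper7.SL2 Cfsg.Agent.Helper8.SL2C

variable {F : Type*} [Field F] [CharP F 3]

/-- affine maps as permutations. -/
noncomputable def aff (x : SpecialLinearGroup (Fin 2) F × ℤˣ) (B : Matrix (Fin 2) (Fin 2) F) :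
    Equiv.Perm (Matrix (Fin 2) (Fin 2) F) where
  toFun X := Lin F x X + B
  invFun Y := Lin F x⁻¹ (Y - B)
  left_inv X := by
    change Lin F x⁻¹ (Lin F x X + B - B) = X
    rw [add_sub_cancel_right, ← Module.End.mul_apply, ← map_mul, inv_mul_cancel, map_one,
      Module.End.one_apply]
  right_inv Y := by
    change Lin F x (Lin F x⁻¹ (Y - B)) + B = Y
    rw [← Module.End.mul_apply, ← map_mul, mul_inv_cancel, map_one, Module.End.one_apply,
      sub_add_cancel]

theorem aff_apply (x : SpecialLinearGroup (Fin 2) F × ℤˣ) (B X : Matrix (Fin 2) (Fin 2) F) :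
    aff x B X = Lin F x X + B := rfl

theorem aff_mem (x : SpecialLinearGroup (Fin 2) F × ℤˣ) (B : Matrix (Fin 2) (Fin 2) F) :
    aff x B ∈ Hgrp F := ⟨x, B, fun _ => rfl⟩

/-- powers of a linear map in the group. -/
theorem aff_zero_pow_apply (g : SpecialLinearGroup (Fin 2) F) (ε : ℤˣ) (k : ℕ)
    (X : Matrix (Fin 2) (Fin 2) F) :
    (aff (g, ε) 0 ^ k) X = Lin F (g ^ k, ε ^ k) X := by
  rw [pow_apply_aff (L := Lin F (g, ε)) (B := 0) (fun X => aff_apply _ _ X), map_zero, add_zero,
    Lin_pow]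

/-- the kernel of the linear action. -/
theorem eq_pm_one_of_Lin {d : SpecialLinearGroup (Fin 2) F}
    (h : ∀ X, Lin F (d, (1 : ℤˣ)) X = X) : d = 1 ∨ d = -1 := by
  set D : Matrix (Fin 2) (Fin 2) F := (d : Matrix (Fin 2) (Fin 2) F) with hD
  set P : Matrix (Fin 2) (Fin 2) F := (frob F d : Matrix (Fin 2) (Fin 2) F) with hP
  have hinv : (((frob F d)⁻¹ : SpecialLinearGroup (Fin 2) F) : Matrix (Fin 2) (Fin 2) F) * P = 1 := by
    rw [hP, ← cmul, inv_mul_cancel, cone]
  have key : ∀ X, D * X = X * P := by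
    intro X
    have h1 := h X
    rw [Lin_apply, sgn_one, one_smul] at h1
    have h2 := congrArg (fun M => M * P) h1
    beta_reduce at h2
    rwa [Matrix.mul_assoc, hinv, Matrix.mul_one] at h2
  have hDP : D = P := by
    have := key 1
    rwa [Matrix.mul_one, Matrix.one_mul] at this
  rw [← hDP] at key
  have k1 := key !![0, 1; 0, 0]
  have k2 := key !![0, 0; 1, 0]
  have e1 := congrFun (congrFun k1 0) 0
  have e2 := congrFun (congrFun k1 0) 1
  have e3 := congrFun (congrFun k2 0) 0
  simp [Matrix.mul_apply, Fin.sum_univ_two] at e1 e2 e3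
  have hd := det_eq d
  rw [← hD] at hd
  rw [← e1, e3, mul_zero, sub_zero, e2] at hd
  have h3 : (D 1 1 - 1) * (D 1 1 + 1) = 0 := by linear_combination hd
  rcases mul_eq_zero.mp h3 with h4 | h4
  · left
    have h5 : D 1 1 = 1 := by linear_combination h4
    apply ext'
    · rw [one_00]; change D 0 0 = 1; rw [e2, h5]
    · rw [one_01]; exact e3
    · rw [one_10]; exact e1.symm
    · rw [one_11]; exact h5
  · right
    have h5 : D 1 1 = -1 := by linear_combination h4
    apply ext'
    · rw [cneg, Matrix.neg_apply, one_00]; change D 0 0 = -1; rw [e2, h5]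
    · rw [cneg, Matrix.neg_apply, one_01, neg_zero]; exact e3
    · rw [cneg, Matrix.neg_apply, one_10, neg_zero]; exact e1.symm
    · rw [cneg, Matrix.neg_apply, one_11]; exact h5

theorem frob_up (β : F) : frob F (up β) = up (β ^ 3) := by
  apply ext' <;> rw [frob_apply]
  · rw [up_00, up_00, one_pow]
  · rw [up_01, up_01]
  · rw [up_10, up_10]; ring
  · rw [up_11, up_11, one_pow]

omit [CharP F 3] in
theorem up_inv_eq' (γ : F) : (up γ)⁻¹ = up (-γ) := by
  apply inv_eq_of_mul_eq_one_right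
  rw [up_mul_up, add_neg_cancel, up_zero]

omit [CharP F 3] in
theorem up_coe (γ : F) : (up γ : Matrix (Fin 2) (Fin 2) F) = !![1, γ; 0, 1] := rfl

/-- the action of a unipotent element. -/
theorem Lin_up (β : F) (ε : ℤˣ) (X : Matrix (Fin 2) (Fin 2) F) :
    Lin F (up β, ε) X = sgn F ε • (!![1, β; 0, 1] * X * !![1, -β ^ 3; 0, 1]) := by
  rw [Lin_apply, frob_up, up_inv_eq', up_coe, up_coe]

theorem frob_tor (b : Fˣ) : frob F (tor b) = tor (b ^ 3) := by
  apply ext' <;> rw [frob_apply]
  · rw [tor_00, tor_00, Units.val_pow_eq_pow_val]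
  · rw [tor_01, tor_01]; ring
  · rw [tor_10, tor_10]; ring
  · rw [tor_11, tor_11, ← Units.val_pow_eq_pow_val, inv_pow]

omit [CharP F 3] in
theorem tor_coe (b : Fˣ) :
    (tor b : Matrix (Fin 2) (Fin 2) F) = !![(b : F), 0; 0, ((b⁻¹ : Fˣ) : F)] := rfl

omit [CharP F 3] in
theorem tor_inv' (b : Fˣ) : (tor b)⁻¹ = tor b⁻¹ := (map_inv (torusHom F) b).symm

/-- the action of a diagonal element on a matrix unit. -/
theorem Lin_tor (b : Fˣ) (ε : ℤˣ) :
    Lin F (tor b, ε) !![0, 0; 0, 1] = (sgn F ε * (b : F) ^ 2) • !![0, 0; 0, 1] := by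
  rw [Lin_apply, frob_tor, tor_inv', tor_coe, tor_coe, inv_inv]
  apply mext <;> simp
  left
  have hb : (b : F) ≠ 0 := b.ne_zero
  field_simp

end Cfsg.Agent.Helper8.ReeEx
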