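import Mathlib
import Cfsg.Agent.Helper8.ReeExD

set_option autoImplicit false

/-!
The affine group over the twisted tensor module: elements of orders `6`, `9`, `q - 1` and
`(q + 1) / 2`.
-/

namespace Cfsg.Agent.Helper8.ReeEx

open Matrix Cfsg.Agent.Helper7.SL2 Cfsg.Agent.Helper8.SL2C

variable {F : Type*} [Field F] [CharP F 3]

theorem three_eq_zero : (3 : F) = 0 := by
  have h3 : ((3 : ℕ) : F) = 0 := CharP.cast_eq_zero F 3
  exact_mod_cast h3

theorem two_ne_zero_F : (2 : F) ≠ 0 := by
  intro h
  have h3 := three_eq_zero (F := F)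
  have : (1 : F) = 0 := by linear_combination h3 - h
  exact one_ne_zero this

theorem Lin_one_one (X : Matrix (Fin 2) (Fin 2) F) :
    Lin F ((1 : SpecialLinearGroup (Fin 2) F), (1 : ℤˣ)) X = X := by
  have : ((1 : SpecialLinearGroup (Fin 2) F), (1 : ℤˣ)) = 1 := rfl
  rw [this, map_one, Module.End.one_apply]

theorem up_nat_three (β : F) : up (((3 : ℕ) : F) * β) = 1 := by
  have h3 : ((3 : ℕ) : F) = 0 := CharP.cast_eq_zero F 3
  rw [h3, zero_mul, up_zero]

/-- an element of order six. -/
theorem exists_order_six : ∃ f ∈ Hgrp F, orderOf f = 6 := by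
  refine ⟨aff (up 1, -1) 0, aff_mem _ _, ?_⟩
  have h3 := three_eq_zero (F := F)
  have h2 := two_ne_zero_F (F := F)
  apply orderOf_eq_of_pow_and_pow_div_prime (by norm_num)
  · apply Equiv.ext
    intro X
    rw [aff_zero_pow_apply, up_pow]
    have e : up (((6 : ℕ) : F) * 1) = 1 := by
      have : ((6 : ℕ) : F) = ((3 : ℕ) : F) * 2 := by norm_num
      rw [this, mul_assoc, up_nat_three]
    rw [e, units_pow_even _ (by decide), Lin_one_one]
    rfl
  · intro p hp hp6
    have hle : p ≤ 6 := Nat.le_of_dvd (by norm_num) hp6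
    interval_cases p
    · exact absurd hp (by norm_num)
    · exact absurd hp (by norm_num)
    · -- `f ^ 3 ≠ 1`
      intro hcon
      have h4 := congrArg (fun f : Equiv.Perm (Matrix (Fin 2) (Fin 2) F) => f !![0, 0; 1, 0]) hcon
      beta_reduce at h4
      have e6 : 6 / 2 = 3 := by norm_num
      rw [e6, aff_zero_pow_apply, up_pow, up_nat_three] at h4
      have e : (-1 : ℤˣ) ^ 3 = -1 := by decide
      rw [e, Lin_one_neg_one] at h4
      have h5 := congrFun (congrFun h4 1) 0
      simp at h5
      apply h2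
      linear_combination (-1 : F) * h5
    · -- `f ^ 2 ≠ 1`
      intro hcon
      have h4 := congrArg (fun f : Equiv.Perm (Matrix (Fin 2) (Fin 2) F) => f !![0, 0; 1, 0]) hcon
      beta_reduce at h4
      have e6 : 6 / 3 = 2 := by norm_num
      rw [e6, aff_zero_pow_apply, up_pow] at h4
      have e : (-1 : ℤˣ) ^ 2 = 1 := by decide
      rw [e, Lin_up, sgn_one, one_smul] at h4
      have h5 := congrFun (congrFun h4 0) 0
      simp [Matrix.mul_apply, Fin.sum_univ_two] at h5
      exact h2 h5
    · exact absurd hp (by norm_num)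
    · exact absurd hp6 (by norm_num)
    · exact absurd hp (by norm_num)

/-- an element of order nine. -/
theorem exists_order_nine : ∃ f ∈ Hgrp F, orderOf f = 9 := by
  refine ⟨aff (up 1, 1) !![0, 0; 1, 0], aff_mem _ _, ?_⟩
  have h3 := three_eq_zero (F := F)
  have hL3 : Lin F (up (1 : F), (1 : ℤˣ)) ^ 3 = 1 := by
    rw [Lin_pow, up_pow, up_nat_three, one_pow]
    exact map_one _
  have hL9 : Lin F (up (1 : F), (1 : ℤˣ)) ^ (3 * 3) = 1 := by rw [pow_mul', hL3, one_pow]
  have e9 : (9 : ℕ) = 3 ^ 2 := by norm_num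
  rw [e9]
  apply orderOf_eq_prime_pow
  · intro hcon
    rw [pow_one] at hcon
    have h4 := congrArg (fun f : Equiv.Perm (Matrix (Fin 2) (Fin 2) F) => f 0) hcon
    beta_reduce at h4
    rw [pow_apply_aff (L := Lin F (up (1 : F), (1 : ℤˣ))) (B := !![0, 0; 1, 0])
      (fun X => aff_apply _ _ X), map_zero, zero_add, Equiv.Perm.one_apply,
      Finset.sum_range_succ, Finset.sum_range_succ, Finset.sum_range_one, pow_zero, pow_one,
      pow_two, LinearMap.add_apply, LinearMap.add_apply, Module.End.one_apply,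
      Module.End.mul_apply] at h4
    simp only [Lin_up, sgn_one, one_smul] at h4
    have h5 := congrFun (congrFun h4 0) 1
    simp at h5
    have : (1 : F) = 0 := by linear_combination h5 + (2 : F) * h3
    exact one_ne_zero this
  · exact pow_eq_one_aff (fun X => aff_apply _ _ X) hL9 (geom_three hL3 _)

theorem orderOf_eq_of_dvd_iff {G : Type*} [Group G] {f : G} {d : ℕ} (h1 : f ^ d = 1)
    (h2 : ∀ k : ℕ, f ^ k = 1 → d ∣ k) : orderOf f = d :=
  Nat.dvd_antisymm (orderOf_dvd_of_pow_eq_one h1) (h2 _ (pow_orderOf_eq_one f))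

/-- an element of order `q - 1`. -/
theorem exists_order_sub [Fintype F] (hq : Fintype.card F % 4 = 3) :
    ∃ f ∈ Hgrp F, orderOf f = Fintype.card F - 1 := by
  classical
  have h2 := two_ne_zero_F (F := F)
  obtain ⟨a, ha⟩ := IsCyclic.exists_generator (α := Fˣ)
  have hoa : orderOf a = Fintype.card F - 1 := by
    rw [orderOf_eq_card_of_forall_mem_zpowers ha, Nat.card_eq_fintype_card, Fintype.card_units]
  refine ⟨aff (tor a, -1) 0, aff_mem _ _, ?_⟩
  have hev : Even (Fintype.card F - 1) := by
    rw [Nat.even_iff]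
    omega
  apply orderOf_eq_of_dvd_iff
  · apply Equiv.ext
    intro X
    rw [aff_zero_pow_apply, pow_card_sub_one_tor, units_pow_even _ hev, Lin_one_one]
    rfl
  · intro k hk
    have h4 := congrArg (fun f : Equiv.Perm (Matrix (Fin 2) (Fin 2) F) => f !![0, 0; 0, 1]) hk
    beta_reduce at h4
    rw [aff_zero_pow_apply, tor_pow, Lin_tor, Equiv.Perm.one_apply] at h4
    have h5 := congrFun (congrFun h4 1) 1
    simp at h5
    -- the unit `-a²`
    set u : Fˣ := (-1) * a ^ 2 with hu
    have huk : u ^ k = 1 := by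
      apply Units.ext
      rw [Units.val_pow_eq_pow_val, hu, Units.val_mul, Units.val_neg, Units.val_one,
        Units.val_pow_eq_pow_val, mul_pow, ← pow_mul, mul_comm 2 k, pow_mul]
      rw [sgn_pow, sgn_neg_one] at h5
      exact h5
    have ho1 : orderOf (-1 : Fˣ) = 2 := by
      apply orderOf_eq_prime
      · rw [neg_one_sq]
      · intro h
        have := congrArg Units.val h
        rw [Units.val_neg, Units.val_one] at this
        apply h2
        linear_combination (-1 : F) * this
    have ho2 : orderOf (a ^ 2) = (Fintype.card F - 1) / 2 := by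
      rw [orderOf_pow' a (by norm_num), hoa]
      congr 1
      exact Nat.gcd_eq_right hev.two_dvd
    have hou : orderOf u = Fintype.card F - 1 := by
      rw [hu, (Commute.all (-1 : Fˣ) (a ^ 2)).orderOf_mul_eq_mul_orderOf_of_coprime, ho1, ho2]
      · omega
      · rw [ho1, ho2, Nat.coprime_two_left, Nat.odd_iff]
        omega
    rw [← hou]
    exact orderOf_dvd_of_pow_eq_one huk

/-- an element of order `(q + 1) / 2`. -/
theorem exists_order_half [Fintype F] (hq : Fintype.card F % 4 = 3) :
    ∃ f ∈ Hgrp F, orderOf f = (Fintype.card F + 1) / 2 := by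
  classical
  have h2 := two_ne_zero_F (F := F)
  obtain ⟨t, ht⟩ := exists_ellt (F := F)
  have hcyc : IsCyclic (Tc t) := isCyclic_Tc (ellt_sq_ne ht)
  obtain ⟨c', hc'⟩ := IsCyclic.exists_generator (α := Tc t)
  have hoc : orderOf (c' : SpecialLinearGroup (Fin 2) F) = Fintype.card F + 1 := by
    rw [Subgroup.orderOf_coe, orderOf_eq_card_of_forall_mem_zpowers hc', card_Tc ht]
  set c : SpecialLinearGroup (Fin 2) F := (c' : SpecialLinearGroup (Fin 2) F) with hc
  set k₀ := (Fintype.card F + 1) / 2 with hk₀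
  have hk : Fintype.card F + 1 = k₀ + k₀ := by omega
  refine ⟨aff (c, 1) 0, aff_mem _ _, ?_⟩
  apply orderOf_eq_of_dvd_iff
  · apply Equiv.ext
    intro X
    have h3 : c ^ k₀ * c ^ k₀ = 1 := by
      rw [← pow_add, ← hk, ← hoc, pow_orderOf_eq_one]
    rw [aff_zero_pow_apply, one_pow, Lin_pm_one (eq_one_or_neg_one_of_sq h2 h3)]
    rfl
  · intro k hkk
    have h4 : ∀ X, Lin F (c ^ k, (1 : ℤˣ)) X = X := by
      intro X
      have h5 := congrArg (fun f : Equiv.Perm (Matrix (Fin 2) (Fin 2) F) => f X) hkk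
      beta_reduce at h5
      rwa [aff_zero_pow_apply, one_pow, Equiv.Perm.one_apply] at h5
    have h5 : c ^ (2 * k) = 1 := by
      rw [mul_comm, pow_mul]
      rcases eq_pm_one_of_Lin h4 with h | h
      · rw [h, one_pow]
      · rw [h, neg_one_sq]
    have h6 : Fintype.card F + 1 ∣ 2 * k := by
      rw [← hoc]
      exact orderOf_dvd_of_pow_eq_one h5
    have h7 : 2 * k₀ ∣ 2 * k := by
      have : 2 * k₀ = Fintype.card F + 1 := by omega
      rwa [this]
    exact (Nat.mul_dvd_mul_iff_left (by norm_num)).mp h7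

end Cfsg.Agent.Helper8.ReeEx
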