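import Mathlib
import Cfsg.Agent.Helper8.ReeExE

set_option autoImplicit false

/-!
A group with a non-trivial normal `3`-subgroup whose maximal element orders are `6`, `9`,
`q - 1`, `(q + 1) / 2`.
-/

namespace Cfsg.Agent.Helper8.ReeEx

open Matrix Cfsg.Agent.Helper7.SL2 Cfsg.Agent.Helper8.SL2C

variable {F : Type*} [Field F] [CharP F 3]

/-- the translations. -/
def Tsub (F : Type*) [Field F] [CharP F 3] : Subgroup ↥(Hgrp F) where
  carrier := {f | ∃ B : Matrix (Fin 2) (Fin 2) F, ∀ X, (f : Equiv.Perm _) X = X + B}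
  mul_mem' := by
    rintro f f' ⟨B, hf⟩ ⟨B', hf'⟩
    refine ⟨B' + B, fun X => ?_⟩
    rw [Subgroup.coe_mul, Equiv.Perm.mul_apply, hf, hf', add_assoc]
  one_mem' := ⟨0, fun X => by rw [add_zero]; rfl⟩
  inv_mem' := by
    rintro f ⟨B, hf⟩
    refine ⟨-B, fun X => ?_⟩
    rw [Subgroup.coe_inv, Equiv.Perm.inv_eq_iff_eq, hf, neg_add_cancel_right]

theorem Tsub_normal : (Tsub F).Normal := by
  refine ⟨fun t ht h => ?_⟩
  obtain ⟨B, hB⟩ := ht
  obtain ⟨x, B', hh⟩ := h.2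
  refine ⟨Lin F x B, fun X => ?_⟩
  rw [Subgroup.coe_mul, Subgroup.coe_mul, Equiv.Perm.mul_apply, Equiv.Perm.mul_apply, hB, hh,
    map_add, add_right_comm, ← hh, Subgroup.coe_inv]
  congr 1
  simp

theorem Tsub_isPGroup : IsPGroup 3 (Tsub F) := by
  rintro ⟨t, B, hB⟩
  refine ⟨1, ?_⟩
  apply Subtype.ext
  apply Subtype.ext
  apply Equiv.ext
  intro X
  rw [pow_one]
  change ((t : Equiv.Perm (Matrix (Fin 2) (Fin 2) F)) ^ 3) X = X
  rw [pow_succ, pow_two, Equiv.Perm.mul_apply, Equiv.Perm.mul_apply, hB, hB, hB, add_assoc,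
    add_assoc]
  have : B + (B + B) = (3 : ℕ) • B := by
    rw [succ_nsmul, two_nsmul]
    abel
  rw [this, three_smul_eq_zero, add_zero]

theorem Tsub_ne_bot : Tsub F ≠ ⊥ := by
  intro h
  have hmem : (⟨aff 1 1, aff_mem _ _⟩ : ↥(Hgrp F)) ∈ Tsub F := by
    refine ⟨1, fun X => ?_⟩
    change aff 1 1 X = X + 1
    rw [aff_apply, map_one, Module.End.one_apply]
  rw [h, Subgroup.mem_bot] at hmem
  have h1 := congrArg (fun f : ↥(Hgrp F) => (f : Equiv.Perm (Matrix (Fin 2) (Fin 2) F)) 0) hmem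
  beta_reduce at h1
  change aff 1 1 (0 : Matrix (Fin 2) (Fin 2) F) = 0 at h1
  rw [aff_apply, map_zero, zero_add] at h1
  exact one_ne_zero h1

theorem three_pow_mod_four {α : ℕ} (hodd : Odd α) : 3 ^ α % 4 = 3 := by
  obtain ⟨j, rfl⟩ := hodd
  rw [pow_succ, pow_mul, Nat.mul_mod, Nat.pow_mod]
  norm_num

theorem three_pow_mod_three {α : ℕ} (hα : 1 ≤ α) : 3 ^ α % 3 = 0 := by
  obtain ⟨j, rfl⟩ : ∃ j, α = j + 1 := ⟨α - 1, by omega⟩
  rw [pow_succ, Nat.mul_mod_left]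

/-- the arithmetic of the four orders. -/
theorem antichain {q : ℕ} (h27 : 27 ≤ q) (h4 : q % 4 = 3) (h3 : q % 3 = 0) {d d' : ℕ}
    (hd : d = 6 ∨ d = 9 ∨ d = q - 1 ∨ d = (q + 1) / 2)
    (hd' : d' = 6 ∨ d' = 9 ∨ d' = q - 1 ∨ d' = (q + 1) / 2) (hdvd : d ∣ d') : d' = d := by
  have hle : d ≤ d' := Nat.le_of_dvd (by omega) hdvd
  obtain ⟨c, hc⟩ := hdvd
  rcases hd with rfl | rfl | rfl | rfl <;> rcases hd' with rfl | rfl | rfl | rfl <;>
    first
    | rfl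
    | omega
    | skip
  -- the remaining case: `(q + 1) / 2 ∣ q - 1`
  all_goals
    exfalso
    rcases Nat.lt_or_ge c 2 with hc2 | hc2
    · interval_cases c <;> omega
    · have : (q + 1) / 2 * 2 ≤ (q + 1) / 2 * c := Nat.mul_le_mul_left _ hc2
      omega

end Cfsg.Agent.Helper8.ReeEx
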