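import Mathlib
import Cfsg.Agent.Helper8.ReeExF

set_option autoImplicit false

/-!
A group with a non-trivial normal `3`-subgroup whose maximal element orders are `6`, `9`,
`q - 1`, `(q + 1) / 2`: the statement.
-/

namespace Cfsg.Agent.Helper8.ReeEx

open Matrix

/-- the maximal element orders of the affine group. -/
theorem maximal_orders {F : Type} [Field F] [CharP F 3] [Fintype F] {q : ℕ}
    (hq : Fintype.card F = q) (h27 : 27 ≤ q) (h4 : q % 4 = 3) (h3 : q % 3 = 0) :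
    {n : ℕ | n ∈ Set.range (orderOf : ↥(Hgrp F) → ℕ) ∧
      ∀ m ∈ Set.range (orderOf : ↥(Hgrp F) → ℕ), n ∣ m → m = n} =
      ({6, 9, q - 1, (q + 1) / 2} : Set ℕ) := by
  subst hq
  -- every order divides one of the four
  have hO1 : ∀ h : ↥(Hgrp F), ∃ d : ℕ, (d = 6 ∨ d = 9 ∨ d = Fintype.card F - 1 ∨
      d = (Fintype.card F + 1) / 2) ∧ orderOf h ∣ d := by
    intro h
    rw [← Subgroup.orderOf_coe]
    rcases pow_cases h4 h.2 with hp | hp | hp | hp
    · exact ⟨6, Or.inl rfl, orderOf_dvd_of_pow_eq_one hp⟩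
    · exact ⟨9, Or.inr (Or.inl rfl), orderOf_dvd_of_pow_eq_one hp⟩
    · exact ⟨_, Or.inr (Or.inr (Or.inl rfl)), orderOf_dvd_of_pow_eq_one hp⟩
    · exact ⟨_, Or.inr (Or.inr (Or.inr rfl)), orderOf_dvd_of_pow_eq_one hp⟩
  -- each of the four is an order
  have hO2 : ∀ d : ℕ, (d = 6 ∨ d = 9 ∨ d = Fintype.card F - 1 ∨
      d = (Fintype.card F + 1) / 2) → d ∈ Set.range (orderOf : ↥(Hgrp F) → ℕ) := by
    intro d hd
    have key : ∃ f ∈ Hgrp F, orderOf f = d := by
      rcases hd with rfl | rfl | rfl | rfl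
      · exact exists_order_six
      · exact exists_order_nine
      · exact exists_order_sub h4
      · exact exists_order_half h4
    obtain ⟨f, hf, hof⟩ := key
    exact ⟨⟨f, hf⟩, by rw [← Subgroup.orderOf_coe]; exact hof⟩
  ext n
  simp only [Set.mem_ofPred_eq, Set.mem_insert_iff, Set.mem_singleton_iff]
  constructor
  · rintro ⟨⟨h, rfl⟩, hmax⟩
    obtain ⟨d, hd, hdvd⟩ := hO1 h
    have := hmax d (hO2 d hd) hdvd
    rw [← this]
    exact hd
  · intro hn
    refine ⟨hO2 n hn, ?_⟩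
    rintro m ⟨h, rfl⟩ hnm
    obtain ⟨d, hd, hdvd⟩ := hO1 h
    have h5 := antichain h27 h4 h3 hn hd (hnm.trans hdvd)
    rw [h5] at hdvd
    exact Nat.dvd_antisymm hdvd hnm

/-- the existence statement. -/
theorem exists_group (α : ℕ) (hα : 3 ≤ α) (hodd : Odd α) :
    ∃ (H : Type) (_ : Group H) (_ : Fintype H),
      (∃ P : Subgroup H, P.Normal ∧ P ≠ ⊥ ∧ IsPGroup 3 ↥P) ∧
      {n : ℕ | n ∈ Set.range (orderOf : H → ℕ) ∧
        ∀ m ∈ Set.range (orderOf : H → ℕ), n ∣ m → m = n} =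
        ({6, 9, 3 ^ α - 1, (3 ^ α + 1) / 2} : Set ℕ) := by
  classical
  let _inst : Fintype (GaloisField 3 α) := Fintype.ofFinite _
  have hcard : Fintype.card (GaloisField 3 α) = 3 ^ α := by
    rw [← Nat.card_eq_fintype_card]
    exact GaloisField.card 3 α (by omega)
  have h27 : 27 ≤ 3 ^ α := by
    calc 27 = 3 ^ 3 := by norm_num
      _ ≤ 3 ^ α := Nat.pow_le_pow_right (by norm_num) hα
  refine ⟨↥(Hgrp (GaloisField 3 α)), inferInstance, Fintype.ofFinite _,
    ⟨Tsub (GaloisField 3 α), Tsub_normal, Tsub_ne_bot, Tsub_isPGroup⟩, ?_⟩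
  exact maximal_orders hcard h27 (three_pow_mod_four hodd) (three_pow_mod_three (by omega))

end Cfsg.Agent.Helper8.ReeEx
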