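import Mathlib
import Cfsg.Agent.Helper8.ReflClassPlane
import Cfsg.Agent.Helper8.PerpRepr
import Cfsg.Agent.Helper8.SpinorSign
import Cfsg.Agent.Helper8.ReflMatrix

set_option autoImplicit false

/-! The reflections of one norm class generate a subgroup of index two of the orthogonal group
(odd characteristic, even dimension, not `O_4(3)`) (helper8). -/

namespace Cfsg.Agent.Helper8.ReflClass

open Module Cfsg.Agent.Helper8.QuadForm Cfsg.Agent.Helper8.OrthOrder
  Cfsg.Agent.Helper8.Reflections Cfsg.Agent.Helper8.SiegelGroup Cfsg.Agent.Helper8.SiegelGeom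
  Cfsg.Agent.Helper8.PerpRepr Cfsg.Agent.Helper8.SpinorSign Cfsg.Agent.Helper8.OmegaOdd

variable {F : Type*} [Field F] {V : Type*} [AddCommGroup V] [Module F V]

theorem reflG_smul (Q : QuadraticForm F V) {t : F} (ht : t ≠ 0) (u : V) :
    reflG Q (t • u) = reflG Q u :=
  Subtype.ext (refl_smul Q ht u)

/-- an element of the field outside `{0, a, -a}`. -/
theorem exists_not_three [Fintype F] (h3 : Fintype.card F ≠ 3) (h2 : (2 : F) ≠ 0) (a : F) :
    ∃ γ : F, γ ≠ 0 ∧ γ ≠ a ∧ γ ≠ -a := by
  classical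
  by_contra hcon
  push Not at hcon
  have hsub : (Finset.univ : Finset F) ⊆ {0, a, -a} := by
    intro γ _
    by_cases h0 : γ = 0
    · simp [h0]
    by_cases h1 : γ = a
    · simp [h1]
    · have := hcon γ h0 h1
      simp [this]
  have hle : Fintype.card F ≤ 3 := by
    have := Finset.card_le_card hsub
    rw [Finset.card_univ] at this
    exact le_trans this Finset.card_le_three
  have hlt : 2 < Fintype.card F := by
    rw [Fintype.two_lt_card_iff]
    refine ⟨0, 1, -1, zero_ne_one, ?_, ?_⟩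
    · intro h
      have : (1 : F) = 0 := by linear_combination h
      exact one_ne_zero this
    · intro h
      apply h2
      linear_combination h
  omega

/-- the product of the reflections in `w` and `w + s`, `s` singular and orthogonal to `w`. -/
theorem pair_mem_of_singular [Fintype F] [FiniteDimensional F V] (h2 : (2 : F) ≠ 0)
    (Q : QuadraticForm F V) (hQ : Nondeg Q) (heven : Even (finrank F V))
    (h43 : ¬ (finrank F V = 4 ∧ Fintype.card F = 3)) {w s : V} {κ : F} (hw : Q w = κ)
    (hκ : κ ≠ 0) (hs : Q s = 0) (hws : QuadraticMap.polar Q w s = 0) {c : F} (hc : c ≠ 0) :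
    reflG Q w * reflG Q (w + s) ∈ RC Q c := by
  by_cases hs0 : s = 0
  · rw [hs0, add_zero, reflG_mul_self]
    exact (RC Q c).one_mem
  have hws' : Q (w + s) = κ := by
    rw [QuadraticMap.map_add Q, hw, hs, hws, add_zero, add_zero]
  have hww : QuadraticMap.polar Q w w ≠ 0 := by
    rw [polar_self', hw]
    exact mul_ne_zero h2 hκ
  have h4κ : (4 : F) * κ ^ 2 ≠ 0 := by
    have : (4 : F) = 2 * 2 := by norm_num
    rw [this]
    exact mul_ne_zero (mul_ne_zero h2 h2) (pow_ne_zero 2 hκ)
  -- an intermediate vector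
  suffices hu : ∃ u, Q u = κ ∧ 4 * κ ^ 2 - (QuadraticMap.polar Q w u) ^ 2 ≠ 0 ∧
      4 * κ ^ 2 - (QuadraticMap.polar Q u (w + s)) ^ 2 ≠ 0 by
    obtain ⟨u, hu, hd1, hd2⟩ := hu
    have h1 := pair_mem_of_disc Q hw hu hκ hd1 hc
    have h3 := pair_mem_of_disc Q hu hws' hκ hd2 hc
    have : reflG Q w * reflG Q (w + s) = (reflG Q w * reflG Q u) * (reflG Q u * reflG Q (w + s)) := by
      rw [mul_assoc, ← mul_assoc (reflG Q u), reflG_mul_self, one_mul]
    rw [this]
    exact (RC Q c).mul_mem h1 h3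
  by_cases h5 : 5 ≤ finrank F V
  · obtain ⟨z, hwz, hsz, hz⟩ := exists_perp_repr h2 Q hQ (a := w) (b := s) (by rw [hw]; exact hκ)
      (Or.inl h5) κ
    refine ⟨z, hz, ?_, ?_⟩
    · rw [hwz]
      simpa using h4κ
    · rw [QuadraticMap.polar_add_right, QuadraticMap.polar_comm Q z w, hwz,
        QuadraticMap.polar_comm Q z s, hsz]
      simpa using h4κ
  · -- a hyperbolic partner of `s` orthogonal to `w`
    have hsW : s ∈ perpVec Q w := by rw [mem_perpVec]; exact hws
    obtain ⟨f, hfW, hf, hsf⟩ := exists_partner_in Q (perpVec Q w) (perpVec_nondeg Q hQ hww) hsW hs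
      hs0
    rw [mem_perpVec] at hfW
    have hdimW := finrank_perpVec Q hww
    have hq3 : Fintype.card F ≠ 3 := by
      intro hq
      have h4 : finrank F V ≠ 4 := fun h => h43 ⟨h, hq⟩
      have h1 : finrank F (perpVec Q w) = 1 := by
        obtain ⟨k, hk⟩ := heven
        omega
      have hs' : (⟨s, hsW⟩ : perpVec Q w) ≠ 0 := fun h => hs0 (congrArg Subtype.val h)
      obtain ⟨a, ha⟩ := (finrank_eq_one_iff_of_nonzero' (⟨s, hsW⟩ : perpVec Q w) hs').mp h1
        ⟨f, (mem_perpVec Q w f).mpr hfW⟩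
      have ha' : a • s = f := congrArg Subtype.val ha
      rw [← ha', QuadraticMap.polar_smul_right, polar_self', hs] at hsf
      simp at hsf
    obtain ⟨γ, hγ0, hγ1, hγ2⟩ := exists_not_three hq3 h2 (2 * κ)
    have hfs : QuadraticMap.polar Q f s = 1 := by rw [QuadraticMap.polar_comm]; exact hsf
    refine ⟨(κ / γ) • s + γ • f, ?_, ?_, ?_⟩
    · rw [Q_comb, hs, hf, hsf]
      field_simp
      ring
    · rw [QuadraticMap.polar_add_right, QuadraticMap.polar_smul_right,
        QuadraticMap.polar_smul_right, hws, hfW]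
      simpa using h4κ
    · rw [QuadraticMap.polar_add_left, QuadraticMap.polar_smul_left, QuadraticMap.polar_smul_left,
        QuadraticMap.polar_add_right, QuadraticMap.polar_add_right, polar_self', hs,
        QuadraticMap.polar_comm Q s w, hws, QuadraticMap.polar_comm Q f w, hfW, hfs]
      simp only [smul_eq_mul, mul_zero, add_zero, zero_add, mul_one]
      have : 4 * κ ^ 2 - γ ^ 2 = (2 * κ - γ) * (2 * κ + γ) := by ring
      rw [this]
      apply mul_ne_zero
      · intro h
        apply hγ1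
        linear_combination -h
      · intro h
        apply hγ2
        linear_combination h

/-- generation of the abstract isometry group by reflections. -/
theorem closure_reflG' [FiniteDimensional F V] (h2 : (2 : F) ≠ 0) (Q : QuadraticForm F V)
    (hQ : Nondeg Q) :
    Subgroup.closure {g : ↥(Isom Q) | ∃ z, Q z ≠ 0 ∧ g = reflG Q z} = ⊤ := by
  rw [eq_top_iff]
  intro g _
  have hmem := mem_closure_refl h2 Q hQ g.1 g.2
  have himg : {r : V ≃ₗ[F] V | ∃ z, Q z ≠ 0 ∧ r = refl Q z}
      = (Isom Q).subtype '' {g : ↥(Isom Q) | ∃ z, Q z ≠ 0 ∧ g = reflG Q z} := by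
    ext r
    constructor
    · rintro ⟨z, hz, rfl⟩
      exact ⟨reflG Q z, ⟨z, hz, rfl⟩, rfl⟩
    · rintro ⟨_, ⟨z, hz, rfl⟩, rfl⟩
      exact ⟨z, hz, rfl⟩
  rw [himg, ← MonoidHom.map_closure] at hmem
  obtain ⟨g', hg', hgg'⟩ := hmem
  have : g' = g := Subtype.ext hgg'
  rw [← this]
  exact hg'

/-- **the reflections of one norm class generate a subgroup of index two.** -/
theorem index_RC [Fintype F] [FiniteDimensional F V] (h2 : (2 : F) ≠ 0) (Q : QuadraticForm F V)
    (hQ : Nondeg Q) (hn : 2 ≤ finrank F V) (heven : Even (finrank F V))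
    (h43 : ¬ (finrank F V = 4 ∧ Fintype.card F = 3)) {c : F} (hc : c ≠ 0) :
    (RC Q c).index = 2 := by
  classical
  obtain ⟨e, he⟩ := exists_nonsquare (F := F) h2
  have he0 : e ≠ 0 := by
    rintro rfl
    exact he IsSquare.zero
  obtain ⟨w0, hw0⟩ := exists_repr Q hQ hn (c * e)
  have hκ : c * e ≠ 0 := mul_ne_zero hc he0
  -- the two norm classes
  have hcl : ∀ a : F, a ≠ 0 → (∃ t : F, t ≠ 0 ∧ a = c * t ^ 2) ∨
      (∃ t : F, t ≠ 0 ∧ a = c * e * t ^ 2) := by
    intro a ha
    by_cases hsq : IsSquare (a / c)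
    · obtain ⟨r, hr⟩ := hsq
      left
      refine ⟨r, ?_, ?_⟩
      · rintro rfl
        rw [mul_zero] at hr
        exact (div_ne_zero ha hc) hr
      · rw [div_eq_iff hc] at hr
        rw [hr]
        ring
    · right
      obtain ⟨r, hr⟩ := isSquare_mul_of_not (div_ne_zero ha hc) hsq he
      rw [div_mul_eq_mul_div, div_eq_iff hc] at hr
      have hr0 : r ≠ 0 := by
        rintro rfl
        rw [mul_zero, zero_mul] at hr
        exact (mul_ne_zero ha he0) hr
      refine ⟨r / e, div_ne_zero hr0 he0, ?_⟩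
      field_simp
      linear_combination hr
  -- products of two reflections of the other class
  have hpair : ∀ z z' : V, ∀ t t' : F, t ≠ 0 → t' ≠ 0 → Q z = c * e * t ^ 2 →
      Q z' = c * e * t' ^ 2 → reflG Q z * reflG Q z' ∈ RC Q c := by
    intro z z' t t' ht ht' hz hz'
    obtain ⟨z1, hz1⟩ : ∃ z1, z1 = t⁻¹ • z := ⟨_, rfl⟩
    obtain ⟨z2, hz2⟩ : ∃ z2, z2 = t'⁻¹ • z' := ⟨_, rfl⟩
    have hQ1 : Q z1 = c * e := by
      rw [hz1, QuadraticMap.map_smul, hz, smul_eq_mul]
      field_simp
    have hQ2 : Q z2 = c * e := by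
      rw [hz2, QuadraticMap.map_smul, hz', smul_eq_mul]
      field_simp
    have hr1 : reflG Q z = reflG Q z1 := by rw [hz1, reflG_smul Q (inv_ne_zero ht)]
    have hr2 : reflG Q z' = reflG Q z2 := by rw [hz2, reflG_smul Q (inv_ne_zero ht')]
    rw [hr1, hr2]
    by_cases hd : 4 * (c * e) ^ 2 - (QuadraticMap.polar Q z1 z2) ^ 2 = 0
    swap
    · exact pair_mem_of_disc Q hQ1 hQ2 hκ hd hc
    have hB : (QuadraticMap.polar Q z1 z2 - 2 * (c * e)) *
        (QuadraticMap.polar Q z1 z2 + 2 * (c * e)) = 0 := by linear_combination -hd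
    rcases mul_eq_zero.mp hB with hB | hB
    · have hs : Q (z2 - z1) = 0 := by
        rw [sub_eq_add_neg, QuadraticMap.map_add Q, QuadraticMap.map_neg,
          QuadraticMap.polar_neg_right, hQ1, hQ2, QuadraticMap.polar_comm Q z2 z1]
        linear_combination -hB
      have hws : QuadraticMap.polar Q z1 (z2 - z1) = 0 := by
        rw [QuadraticMap.polar_sub_right, polar_self', hQ1]
        linear_combination hB
      have := pair_mem_of_singular h2 Q hQ heven h43 hQ1 hκ hs hws hc
      rwa [add_sub_cancel] at this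
    · have hs : Q (-z2 - z1) = 0 := by
        rw [sub_eq_add_neg, QuadraticMap.map_add Q, QuadraticMap.map_neg, QuadraticMap.map_neg,
          QuadraticMap.polar_neg_right, QuadraticMap.polar_neg_left, hQ1, hQ2,
          QuadraticMap.polar_comm Q z2 z1]
        linear_combination hB
      have hws : QuadraticMap.polar Q z1 (-z2 - z1) = 0 := by
        rw [QuadraticMap.polar_sub_right, QuadraticMap.polar_neg_right, polar_self', hQ1]
        linear_combination -hB
      have := pair_mem_of_singular h2 Q hQ heven h43 hQ1 hκ hs hws hc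
      have e1 : z1 + (-z2 - z1) = (-1 : F) • z2 := by module
      rw [e1, reflG_smul Q (neg_ne_zero.mpr one_ne_zero)] at this
      exact this
  -- every isometry lies in `RC` or in its coset by the reflection in `w0`
  have hkey : ∀ g : ↥(Isom Q), g ∈ RC Q c ∨ reflG Q w0 * g ∈ RC Q c := by
    intro g
    have hg : g ∈ Subgroup.closure {g : ↥(Isom Q) | ∃ z, Q z ≠ 0 ∧ g = reflG Q z} := by
      rw [closure_reflG' h2 Q hQ]
      trivial
    have step : ∀ z, Q z ≠ 0 → ∀ y : ↥(Isom Q),
        (y ∈ RC Q c ∨ reflG Q w0 * y ∈ RC Q c) →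
        (reflG Q z * y ∈ RC Q c ∨ reflG Q w0 * (reflG Q z * y) ∈ RC Q c) := by
      intro z hz y hy
      rcases hcl (Q z) hz with ⟨t, ht, hzt⟩ | ⟨t, ht, hzt⟩
      · have hzN : reflG Q z ∈ RC Q c := reflG_mem_RC Q ht hzt
        rcases hy with hy | hy
        · left
          exact (RC Q c).mul_mem hzN hy
        · right
          have : reflG Q w0 * (reflG Q z * y)
              = (reflG Q w0 * reflG Q z * (reflG Q w0)⁻¹) * (reflG Q w0 * y) := by group
          rw [this, reflG_conj]
          apply (RC Q c).mul_mem _ hy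
          apply reflG_mem_RC Q ht
          show Q (refl Q w0 z) = c * t ^ 2
          rw [Q_refl, hzt]
      · rcases hy with hy | hy
        · right
          rw [← mul_assoc]
          exact (RC Q c).mul_mem
            (hpair w0 z 1 t one_ne_zero ht (by rw [hw0]; ring) hzt) hy
        · left
          have : reflG Q z * y = (reflG Q z * reflG Q w0) * (reflG Q w0 * y) := by
            rw [mul_assoc, ← mul_assoc (reflG Q w0), reflG_mul_self, one_mul]
          rw [this]
          exact (RC Q c).mul_mem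
            (hpair z w0 t 1 ht one_ne_zero hzt (by rw [hw0]; ring)) hy
    induction hg using Subgroup.closure_induction_left with
    | one =>
      left
      exact (RC Q c).one_mem
    | mul_left x hx y hy ih =>
      obtain ⟨z, hz, rfl⟩ := hx
      exact step z hz y ih
    | inv_mul_cancel x hx y hy ih =>
      obtain ⟨z, hz, rfl⟩ := hx
      rw [reflG_inv]
      exact step z hz y ih
  -- the sign character
  have hχ1 : ∀ g ∈ RC Q c, signHom Q (c * e) g = 1 := by
    intro g hg
    have hle : RC Q c ≤ (signHom Q (c * e)).ker := by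
      unfold RC
      rw [Subgroup.closure_le]
      rintro g ⟨v, t, ht, hv, rfl⟩
      rw [SetLike.mem_coe, MonoidHom.mem_ker]
      have hv0 : Q v ≠ 0 := by
        rw [hv]
        exact mul_ne_zero hc (pow_ne_zero 2 ht)
      apply (signHom_refl h2 Q hκ hv0).2
      rw [hv]
      have : c * e * (c * t ^ 2) = (c * t) * (c * t) * e := by ring
      rw [this]
      exact not_isSquare_mul (mul_ne_zero (mul_ne_zero hc ht) (mul_ne_zero hc ht)) ⟨c * t, rfl⟩ he
    exact hle hg
  have hχ2 : signHom Q (c * e) (reflG Q w0) = -1 := by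
    apply (signHom_refl h2 Q hκ (by rw [hw0]; exact hκ)).1
    rw [hw0]
    exact ⟨c * e, rfl⟩
  have hnot : reflG Q w0 ∉ RC Q c := by
    intro h
    have := hχ1 _ h
    rw [hχ2] at this
    exact absurd this (by decide)
  rw [Subgroup.index_eq_two_iff]
  refine ⟨reflG Q w0, fun b => ?_⟩
  rcases hkey b⁻¹ with h | h
  · have hb : b ∈ RC Q c := by
      have := (RC Q c).inv_mem h
      rwa [inv_inv] at this
    refine Or.inr ⟨hb, fun h' => hnot ?_⟩
    have := (RC Q c).mul_mem ((RC Q c).inv_mem hb) h'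
    rwa [inv_mul_cancel_left] at this
  · have hb : b * reflG Q w0 ∈ RC Q c := by
      have := (RC Q c).inv_mem h
      rwa [mul_inv_rev, inv_inv, reflG_inv] at this
    refine Or.inl ⟨hb, fun h' => hnot ?_⟩
    have := (RC Q c).mul_mem ((RC Q c).inv_mem h') hb
    rwa [inv_mul_cancel_left] at this

open Cfsg.Agent.Helper8.ReflMatrix in
/-- the matrix form of `index_RC`. -/
theorem index_closure_reflectionMatrix [Fintype F] (h2 : (2 : F) ≠ 0) {n : ℕ} (hn : 2 ≤ n)
    (heven : Even n) (Q : QuadraticForm F (Fin n → F))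
    (hQ : (QuadraticMap.polarBilin Q).Nondegenerate)
    (h43 : ¬ (n = 4 ∧ Fintype.card F = 3)) (c : F) (hc : c ≠ 0) :
    (Subgroup.closure {g : ↥(Cfsg.isometryGroup F ⇑Q) | ∃ (v : Fin n → F) (t : F), t ≠ 0 ∧
      Q v = c * t ^ 2 ∧ ((g : Matrix.GeneralLinearGroup (Fin n) F) : Matrix (Fin n) (Fin n) F)
        = Cfsg.reflectionMatrix ⇑Q v}).index = 2 := by
  have hfin : finrank F (Fin n → F) = n := by
    rw [Module.finrank_fintype_fun_eq_card, Fintype.card_fin]
  have hmain := index_RC h2 Q ((nondeg_iff Q).mp hQ) (by rw [hfin]; exact hn)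
    (by rw [hfin]; exact heven) (by rw [hfin]; exact h43) hc
  rw [← Subgroup.index_map_equiv _ (isomEquiv Q), MonoidHom.map_closure]
  have himg : (⇑((isomEquiv Q : ↥(Cfsg.isometryGroup F ⇑Q) ≃* ↥(Isom Q)) :
      ↥(Cfsg.isometryGroup F ⇑Q) →* ↥(Isom Q))) ''
      {g : ↥(Cfsg.isometryGroup F ⇑Q) | ∃ (v : Fin n → F) (t : F), t ≠ 0 ∧
      Q v = c * t ^ 2 ∧ ((g : Matrix.GeneralLinearGroup (Fin n) F) : Matrix (Fin n) (Fin n) F)
        = Cfsg.reflectionMatrix ⇑Q v}
      = {g | ∃ (v : Fin n → F) (t : F), t ≠ 0 ∧ Q v = c * t ^ 2 ∧ g = reflG Q v} := by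
    ext g
    constructor
    · rintro ⟨g', ⟨v, t, ht, hv, hg'⟩, rfl⟩
      refine ⟨v, t, ht, hv, ?_⟩
      rw [eq_reflElt Q hg']
      exact isomEquiv_reflElt Q v
    · rintro ⟨v, t, ht, hv, rfl⟩
      exact ⟨reflElt Q v, ⟨v, t, ht, hv, reflElt_val Q v⟩, isomEquiv_reflElt Q v⟩
  rw [himg]
  exact hmain

end Cfsg.Agent.Helper8.ReflClass
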