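import Mathlib
import Cfsg.Agent.Helper8.ReflF3

set_option autoImplicit false

/-!
The subgroup generated by the reflections of norm `c` over the field with three elements has index
two in the isometry group, in dimension at least five.
-/

namespace Cfsg.Agent.Helper8.ReflF3

open Module Cfsg.Agent.Helper8.QuadForm Cfsg.Agent.Helper8.OrthOrder
  Cfsg.Agent.Helper8.Reflections Cfsg.Agent.Helper8.ReflMatrix Cfsg.Agent.Helper8.OmegaOdd
  Cfsg.Agent.Helper8.ThreeTransp Cfsg.Agent.Helper8.PerpRepr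

variable {ι : Type} [Fintype ι] [DecidableEq ι] (Q : QuadraticForm (ZMod 3) (ι → ZMod 3))

theorem conj_reflElt (ρ : ↥(Cfsg.isometryGroup (ZMod 3) ⇑Q)) (v : ι → ZMod 3) :
    ρ * reflElt Q v * ρ⁻¹ = reflElt Q ((isomEquiv Q ρ).1 v) := by
  apply eq_of_isomEquiv
  rw [map_mul, map_mul, map_inv, isomEquiv_reflElt_val]
  show (isomEquiv Q ρ).1 * (isomEquiv Q (reflElt Q v)).1 * ((isomEquiv Q ρ).1)⁻¹ = _
  rw [isomEquiv_reflElt_val]
  exact refl_conj Q (isomEquiv Q ρ).1 (isomEquiv Q ρ).2 v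

theorem normal (c : ZMod 3) : (Cfsg.reflectionSubgroup ⇑Q c).Normal := by
  have h : Cfsg.reflectionSubgroup ⇑Q c = Subgroup.normalClosure (Cfsg.reflectionsOfNorm ⇑Q c) := by
    unfold Cfsg.reflectionSubgroup Subgroup.normalClosure
    congr 1
    apply Set.Subset.antisymm Group.subset_conjugatesOfSet
    intro x hx
    obtain ⟨a, ha, hax⟩ := Group.mem_conjugatesOfSet_iff.mp hx
    obtain ⟨v, hv, rfl⟩ := (mem_reflectionsOfNorm Q c a).mp ha
    obtain ⟨ρ, hρ⟩ := isConj_iff.mp hax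
    rw [mem_reflectionsOfNorm]
    refine ⟨(isomEquiv Q ρ).1 v, ?_, ?_⟩
    · rw [(isomEquiv Q ρ).2 v, hv]
    · rw [← hρ, conj_reflElt]
  rw [h]
  exact Subgroup.normalClosure_normal

theorem pair_mem_of_perp {c : ZMod 3} (hc : c ≠ 0) {w w' : ι → ZMod 3} (hw : Q w = -c)
    (hw' : Q w' = -c) (hww' : QuadraticMap.polar Q w w' = 0) :
    reflElt Q w * reflElt Q w' ∈ Cfsg.reflectionSubgroup ⇑Q c := by
  obtain ⟨hp, hm, hprod⟩ := refl_mul_refl_of_perp Q (neg_ne_zero.mpr hc) hw hw' hww'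
  rw [neg_neg] at hp hm
  have : reflElt Q w * reflElt Q w' = reflElt Q (w + w') * reflElt Q (w - w') := by
    apply eq_of_isomEquiv
    rw [map_mul, map_mul]
    show (isomEquiv Q (reflElt Q w)).1 * (isomEquiv Q (reflElt Q w')).1
      = (isomEquiv Q (reflElt Q (w + w'))).1 * (isomEquiv Q (reflElt Q (w - w'))).1
    rw [isomEquiv_reflElt_val, isomEquiv_reflElt_val, isomEquiv_reflElt_val, isomEquiv_reflElt_val]
    exact hprod
  rw [this]
  exact Subgroup.mul_mem _ (reflElt_mem Q c hp) (reflElt_mem Q c hm)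

theorem pair_mem (hQ : (QuadraticMap.polarBilin Q).Nondegenerate) (hn : 5 ≤ Fintype.card ι)
    {c : ZMod 3} (hc : c ≠ 0) {w w' : ι → ZMod 3} (hw : Q w = -c) (hw' : Q w' = -c) :
    reflElt Q w * reflElt Q w' ∈ Cfsg.reflectionSubgroup ⇑Q c := by
  have hnd := (nondeg_iff Q).mp hQ
  have hdim : 5 ≤ finrank (ZMod 3) (ι → ZMod 3) := by
    rw [Module.finrank_fintype_fun_eq_card]; exact hn
  obtain ⟨z, hzw, hzw', hz⟩ := exists_perp_repr two_ne Q hnd (a := w) (b := w')
    (by rw [hw]; exact neg_ne_zero.mpr hc) (Or.inl hdim) (-c)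
  have h1 := pair_mem_of_perp Q hc hw hz hzw
  have h2 := pair_mem_of_perp Q hc hz hw' (by rw [QuadraticMap.polar_comm]; exact hzw')
  have : reflElt Q w * reflElt Q w' = (reflElt Q w * reflElt Q z) * (reflElt Q z * reflElt Q w') := by
    have hzz := reflElt_mul_self Q z
    calc reflElt Q w * reflElt Q w' = reflElt Q w * 1 * reflElt Q w' := by rw [mul_one]
      _ = reflElt Q w * (reflElt Q z * reflElt Q z) * reflElt Q w' := by rw [hzz]
      _ = _ := by group
  rw [this]
  exact Subgroup.mul_mem _ h1 h2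

theorem not_isSquare_neg_one : ¬ IsSquare (-1 : ZMod 3) := by decide

theorem le_ker_chi {c : ZMod 3} (hc : c ≠ 0) :
    Cfsg.reflectionSubgroup ⇑Q c ≤ (chi Q (-c)).ker := by
  unfold Cfsg.reflectionSubgroup
  rw [Subgroup.closure_le]
  intro g hg
  obtain ⟨v, hv, rfl⟩ := (mem_reflectionsOfNorm Q c g).mp hg
  rw [SetLike.mem_coe, MonoidHom.mem_ker]
  refine (chi_reflElt Q two_ne (neg_ne_zero.mpr hc) (by rw [hv]; exact hc)).2 ?_
  rw [hv, neg_mul, sq_eq_one hc]
  exact not_isSquare_neg_one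

theorem index_eq_two (hQ : (QuadraticMap.polarBilin Q).Nondegenerate) (hn : 5 ≤ Fintype.card ι)
    {c : ZMod 3} (hc : c ≠ 0) : (Cfsg.reflectionSubgroup ⇑Q c).index = 2 := by
  classical
  have hnd := (nondeg_iff Q).mp hQ
  have hdim : 2 ≤ finrank (ZMod 3) (ι → ZMod 3) := by
    rw [Module.finrank_fintype_fun_eq_card]; omega
  haveI := normal Q c
  obtain ⟨w₀, hw₀⟩ := exists_repr Q hnd hdim (-c)
  obtain ⟨R, hR⟩ : ∃ R, R = Cfsg.reflectionSubgroup ⇑Q c := ⟨_, rfl⟩
  haveI : R.Normal := by rw [hR]; infer_instance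
  rw [← hR]
  -- the reflection in `w₀` is not in `R`
  have hnot : reflElt Q w₀ ∉ R := by
    intro hmem
    have h1 := le_ker_chi Q hc (hR ▸ hmem)
    rw [MonoidHom.mem_ker] at h1
    have h2 := (chi_reflElt Q two_ne (neg_ne_zero.mpr hc)
      (z := w₀) (by rw [hw₀]; exact neg_ne_zero.mpr hc)).1 (by
        rw [hw₀]; exact ⟨c, by ring⟩)
    rw [h1] at h2
    exact absurd h2 (by decide)
  -- the quotient is generated by one involution
  obtain ⟨α, hαdef⟩ : ∃ α, α = QuotientGroup.mk' R (reflElt Q w₀) := ⟨_, rfl⟩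
  have hαα : α * α = 1 := by
    rw [hαdef, ← map_mul, reflElt_mul_self, map_one]
  have himage : ∀ z, Q z ≠ 0 → QuotientGroup.mk' R (reflElt Q z) ∈ Subgroup.closure ({α} : Set _) := by
    intro z hz
    have hcases : ∀ c t : ZMod 3, c ≠ 0 → t ≠ 0 → t = c ∨ t = -c := by decide
    rcases hcases c (Q z) hc hz with h | h
    · have : QuotientGroup.mk' R (reflElt Q z) = 1 := by
        rw [QuotientGroup.mk'_apply, QuotientGroup.eq_one_iff, hR]
        exact reflElt_mem Q c h
      rw [this]; exact Subgroup.one_mem _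
    · have hmem := pair_mem Q hQ hn hc h hw₀
      have : QuotientGroup.mk' R (reflElt Q z) * α = 1 := by
        rw [hαdef, ← map_mul, QuotientGroup.mk'_apply, QuotientGroup.eq_one_iff, hR]
        exact hmem
      have h2 : QuotientGroup.mk' R (reflElt Q z) = α := by
        have := mul_eq_one_iff_eq_inv.mp this
        rw [this]
        exact inv_eq_of_mul_eq_one_right hαα
      rw [h2]
      exact Subgroup.subset_closure rfl
  have hgen : Subgroup.closure ({α} : Set (↥(Cfsg.isometryGroup (ZMod 3) ⇑Q) ⧸ R)) = ⊤ := by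
    rw [eq_top_iff]
    have hsurj : Function.Surjective (QuotientGroup.mk' R) := QuotientGroup.mk'_surjective R
    rw [← Subgroup.map_top_of_surjective _ hsurj, ← closure_reflElt Q two_ne hQ,
      MonoidHom.map_closure, Subgroup.closure_le]
    rintro _ ⟨g, ⟨z, hz, rfl⟩, rfl⟩
    exact himage z hz
  have hcard := Cfsg.Agent.Helper8.OmegaEven.card_le_two α hαα hgen
  have hidx : R.index = Nat.card (↥(Cfsg.isometryGroup (ZMod 3) ⇑Q) ⧸ R) := rfl
  have hne1 : R.index ≠ 1 := by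
    rw [Ne, Subgroup.index_eq_one]
    intro htop
    apply hnot
    rw [htop]; trivial
  haveI : Finite ↥(Cfsg.isometryGroup (ZMod 3) ⇑Q) := inferInstance
  have hne0 : R.index ≠ 0 := Subgroup.index_ne_zero_of_finite
  omega

end Cfsg.Agent.Helper8.ReflF3
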