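import Cfsg.Agent.Helper8.RegUExist
set_option autoImplicit false

namespace Cfsg.Agent.Helper8.RegU

open Polynomial Matrix Module

variable {F : Type*} [Field F] {m : ℕ}

local notation "Mat" => Matrix (Fin m ⊕ Fin m) (Fin m ⊕ Fin m) F

theorem adj_adj (z : Mat) : adj (adj z) = z := by
  unfold adj
  rw [Matrix.transpose_mul, Matrix.transpose_mul, Matrix.transpose_transpose, Matrix.transpose_neg,
    J_transpose, neg_neg]
  calc -J (Fin m) F * (-J (Fin m) F * (z * J (Fin m) F)) * J (Fin m) F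
      = (J (Fin m) F * J (Fin m) F) * z * (J (Fin m) F * J (Fin m) F) := by
        simp only [Matrix.mul_assoc, Matrix.neg_mul, Matrix.mul_neg, neg_neg]
    _ = z := by rw [J_squared]; simp

theorem mem_symplectic_iff' (z : Mat) : z ∈ symplecticGroup (Fin m) F ↔ adj z * z = 1 := by
  rw [mem_symplectic_iff]
  exact mul_eq_one_comm

/-- the commutant of a regular unipotent symplectic element -/
theorem exists_Psi_eq (u : symplecticGroup (Fin m) F) (hR : IsRegNilp (Tm u) (2 * m)) (z : Mat)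
    (hz : z * (u : Mat) = (u : Mat) * z) : ∃ r, Psi (Tm u) (2 * m) hR.pow r = z := by
  set ui : Mat := ((u⁻¹ : symplecticGroup (Fin m) F) : Mat) with hui
  have c2 : z * ui = ui * z := by
    calc z * ui = ui * (u : Mat) * (z * ui) := by rw [coe_inv_mul, Matrix.one_mul]
      _ = ui * ((u : Mat) * z) * ui := by simp only [Matrix.mul_assoc]
      _ = ui * (z * (u : Mat)) * ui := by rw [hz]
      _ = ui * z * ((u : Mat) * ui) := by simp only [Matrix.mul_assoc]
      _ = ui * z := by rw [coe_mul_inv, Matrix.mul_one]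
  have c3 : z * Tm u = Tm u * z := by
    rw [Tm, Matrix.mul_sub, Matrix.sub_mul, hz, c2]
  obtain ⟨P, hP⟩ := (hR.commute_iff z).mp c3
  exact ⟨AdjoinRoot.mk _ P, by rw [Psi_mk, hP]⟩

/-- two regular nilpotent matrices are similar -/
theorem exists_intertwiner {ι : Type*} [Fintype ι] [DecidableEq ι] (T T' : Matrix ι ι F) (n : ℕ)
    (h : IsRegNilp T n) (h' : IsRegNilp T' n) :
    ∃ g gi : Matrix ι ι F, g * gi = 1 ∧ gi * g = 1 ∧ g * T = T' * g := by
  obtain ⟨v, hv⟩ := h.exists_cyclic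
  obtain ⟨v', hv'⟩ := h'.exists_cyclic
  have hcard : Fintype.card (Fin n) = finrank F (ι → F) := by
    rw [Fintype.card_fin, Module.finrank_fintype_fun_eq_card, h.card]
  have : Nonempty (Fin n) := ⟨⟨0, h.pos⟩⟩
  let b : Basis (Fin n) F (ι → F) := basisOfLinearIndependentOfCardEqFinrank hv hcard
  let b' : Basis (Fin n) F (ι → F) := basisOfLinearIndependentOfCardEqFinrank hv' hcard
  have hb : ∀ i, b i = (T ^ (i : ℕ)) *ᵥ v := fun i => by simp [b]
  have hb' : ∀ i, b' i = (T' ^ (i : ℕ)) *ᵥ v' := fun i => by simp [b']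
  let e : (ι → F) ≃ₗ[F] (ι → F) := b.equiv b' (Equiv.refl _)
  have he : ∀ i, e (b i) = b' i := fun i => by simp [e]
  refine ⟨LinearMap.toMatrix' e.toLinearMap, LinearMap.toMatrix' e.symm.toLinearMap, ?_, ?_, ?_⟩
  · rw [← LinearMap.toMatrix'_mul, ← LinearMap.toMatrix'_one]
    congr 1
    ext x
    simp
  · rw [← LinearMap.toMatrix'_mul, ← LinearMap.toMatrix'_one]
    congr 1
    ext x
    simp
  · apply Matrix.toLin'.injective
    apply b.ext
    intro i
    rw [Matrix.toLin'_mul, Matrix.toLin'_mul, LinearMap.comp_apply, LinearMap.comp_apply,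
      Matrix.toLin'_toMatrix', LinearEquiv.coe_coe, he, Matrix.toLin'_apply, Matrix.toLin'_apply]
    have hTb : T *ᵥ b i = (T ^ ((i : ℕ) + 1)) *ᵥ v := by
      rw [hb, Matrix.mulVec_mulVec, ← pow_succ']
    have hTb' : T' *ᵥ b' i = (T' ^ ((i : ℕ) + 1)) *ᵥ v' := by
      rw [hb', Matrix.mulVec_mulVec, ← pow_succ']
    rw [hTb, hTb']
    by_cases hi : (i : ℕ) + 1 < n
    · have h1 : (T ^ ((i : ℕ) + 1)) *ᵥ v = b ⟨(i : ℕ) + 1, hi⟩ := (hb ⟨(i : ℕ) + 1, hi⟩).symm
      have h2 : (T' ^ ((i : ℕ) + 1)) *ᵥ v' = b' ⟨(i : ℕ) + 1, hi⟩ :=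
        (hb' ⟨(i : ℕ) + 1, hi⟩).symm
      rw [h1, he, h2]
    · have hi' : (i : ℕ) + 1 = n := by have := i.2; omega
      rw [hi', h.pow, h'.pow, Matrix.zero_mulVec, Matrix.zero_mulVec, map_zero]

end Cfsg.Agent.Helper8.RegU
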