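import Cfsg.Agent.Helper8.PSUSingE
import Cfsg.Agent.Helper8.RegUComm
set_option autoImplicit false
set_option linter.unusedSectionVars false

/-!
Hermitian square roots of unipotent Hermitian matrices (successive approximation), over the field
with `q ^ 2` elements.
-/

namespace Cfsg.Agent.Helper8.RegSU

open Polynomial Matrix Cfsg Cfsg.Agent.Helper8.GUOrder Cfsg.Agent.Helper8.SUCenter
  Cfsg.Agent.Helper8.AutSU Cfsg.Agent.Helper8.PU3 Cfsg.Agent.Helper8.PSUSing

variable {K : Type*} [Field K] [Fintype K] {q : ℕ} [hF : Fact (Fintype.card K = q ^ 2)]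
variable {ι : Type*} [Fintype ι] [DecidableEq ι]

theorem st_add (X Y : Matrix ι ι K) : st (q := q) (X + Y) = st (q := q) X + st (q := q) Y := by
  unfold st
  rw [Matrix.map_add (frobq K q) (map_add _), Matrix.transpose_add]

theorem st_zero : st (q := q) (0 : Matrix ι ι K) = 0 := by
  unfold st
  ext i j
  simp

theorem st_smul (c : K) (X : Matrix ι ι K) : st (q := q) (c • X) = c ^ q • st (q := q) X := by
  unfold st
  ext i j
  simp [frobq_apply, mul_pow]

theorem st_neg (X : Matrix ι ι K) : st (q := q) (-X) = -st (q := q) X := by
  have h := st_add (q := q) X (-X)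
  rw [add_neg_cancel, st_zero] at h
  exact eq_neg_of_add_eq_zero_right h.symm

theorem st_sub (X Y : Matrix ι ι K) : st (q := q) (X - Y) = st (q := q) X - st (q := q) Y := by
  rw [sub_eq_add_neg, st_add, st_neg, sub_eq_add_neg]

theorem st_commute {X Y : Matrix ι ι K} (h : Commute X Y) :
    Commute (st (q := q) X) (st (q := q) Y) := by
  rw [Commute, SemiconjBy, ← st_mul, ← st_mul, h.eq]

theorem st_injective : Function.Injective (st (q := q) : Matrix ι ι K → Matrix ι ι K) := by
  intro X Y h
  rw [← st_st (q := q) X, h, st_st]

/-- a trace-one element -/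
theorem exists_trace_one : ∃ l : K, l + l ^ q = 1 := by
  have hσ : frobq K q ≠ RingHom.id K := by
    intro h
    obtain ⟨a, ha⟩ := exists_not_fixed (K := K) hF.out
    apply ha
    have := congrArg (fun f : K →+* K => f a) h
    simpa [frobq_apply] using this
  obtain ⟨c, hc⟩ := Cfsg.Agent.Helper7.WittHerm.exists_trace (frobq K q) hσ
    (fun a => frobq_frobq a) 1 (map_one _)
  exact ⟨c, by rw [← frobq_apply (F := K) (q := q)]; exact hc⟩


omit [Fintype K] hF in
theorem commute_inv_of_commute {z w wi : Matrix ι ι K} (h1 : w * wi = 1) (h2 : wi * w = 1)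
    (h : Commute z w) : Commute z wi := by
  rw [Commute, SemiconjBy]
  calc z * wi = (wi * w) * (z * wi) := by rw [h2, Matrix.one_mul]
    _ = wi * (w * z) * wi := by simp only [Matrix.mul_assoc]
    _ = wi * (z * w) * wi := by rw [h.eq]
    _ = wi * z * (w * wi) := by simp only [Matrix.mul_assoc]
    _ = wi * z := by rw [h1, Matrix.mul_one]

/-- successive approximation: a unipotent Hermitian matrix is a norm -/
theorem exists_st_mul_eq (l : K) (hl : l + l ^ q = 1) :
    ∀ (k : ℕ) (b : Matrix ι ι K), st (q := q) b = b → b ^ k = 0 →
      ∃ c : Matrix ι ι K, (∀ z : Matrix ι ι K, Commute z b → Commute z c) ∧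
        st (q := q) c * c = 1 + b := by
  intro k
  induction k using Nat.strong_induction_on with
  | _ k ih =>
    intro b hb hk
    rcases Nat.lt_or_ge k 2 with hk2 | hk2
    · have hb0 : b = 0 := by
        interval_cases k
        · rw [pow_zero] at hk
          calc b = b * 1 := (mul_one b).symm
            _ = 0 := by rw [hk, mul_zero]
        · simpa using hk
      subst hb0
      exact ⟨1, fun z _ => Commute.one_right z, by rw [st_one, mul_one, add_zero]⟩
    · set ν : K := l ^ q * l with hν
      have hνq : ν ^ q = ν := by
        rw [hν, mul_pow, ← pow_mul, ← sq, pow_qsq, mul_comm]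
      set c₁ : Matrix ι ι K := 1 + l • b with hc₁
      set w : Matrix ι ι K := 1 + b + ν • (b * b) with hw
      have hc₁st : st (q := q) c₁ = 1 + l ^ q • b := by
        rw [hc₁, st_add, st_one, st_smul, hb]
      have h1 : st (q := q) c₁ * c₁ = w := by
        rw [hc₁st, hc₁, hw, Matrix.add_mul, Matrix.mul_add, Matrix.mul_add, Matrix.one_mul,
          Matrix.one_mul, Matrix.mul_one, Matrix.smul_mul, Matrix.mul_smul, smul_smul]
        have e : l • b + l ^ q • b = b := by rw [← add_smul, hl, one_smul]
        generalize (l ^ q * l) • (b * b) = X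
        calc 1 + l • b + (l ^ q • b + X) = 1 + (l • b + l ^ q • b) + X := by abel
          _ = 1 + b + X := by rw [e]
      have hbw : Commute b w := by
        rw [hw]
        apply Commute.add_right
        · exact (Commute.one_right b).add_right (Commute.refl b)
        · exact ((Commute.refl b).mul_right (Commute.refl b)).smul_right ν
      have hnil : IsNilpotent (b + ν • (b * b)) := by
        have e : b + ν • (b * b) = b * (1 + ν • b) := by
          rw [Matrix.mul_add, Matrix.mul_one, Matrix.mul_smul]
        rw [e]
        have hc : Commute b (1 + ν • b) :=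
          (Commute.one_right b).add_right ((Commute.refl b).smul_right ν)
        exact ⟨k, by rw [hc.mul_pow, hk, Matrix.zero_mul]⟩
      have hwu : IsUnit w := by
        rw [hw, add_assoc]
        exact hnil.isUnit_one_add
      obtain ⟨wu, hwu'⟩ := hwu
      set wi : Matrix ι ι K := ((wu⁻¹ : (Matrix ι ι K)ˣ) : Matrix ι ι K) with hwi
      have hwwi : w * wi = 1 := by rw [← hwu', hwi]; exact wu.mul_inv
      have hwiw : wi * w = 1 := by rw [← hwu', hwi]; exact wu.inv_mul
      have hwst : st (q := q) w = w := by
        rw [hw, st_add, st_add, st_one, st_smul, st_mul, hb, hνq]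
      have hwist : st (q := q) wi = wi := by
        have e1 : st (q := q) wi * w = 1 := by
          rw [← hwst, ← st_mul, hwwi, st_one]
        calc st (q := q) wi = st (q := q) wi * (w * wi) := by rw [hwwi, Matrix.mul_one]
          _ = (st (q := q) wi * w) * wi := by rw [Matrix.mul_assoc]
          _ = wi := by rw [e1, Matrix.one_mul]
      have hbwi : Commute b wi := commute_inv_of_commute hwwi hwiw hbw
      have hbbwi : Commute (b * b) wi := hbwi.mul_left hbwi
      set b' : Matrix ι ι K := -(ν • (wi * (b * b))) with hb'
      have hwb' : w * (1 + b') = 1 + b := by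
        rw [hb', Matrix.mul_add, Matrix.mul_one, Matrix.mul_neg, Matrix.mul_smul,
          ← Matrix.mul_assoc, hwwi, Matrix.one_mul, hw]
        abel
      have hb'st : st (q := q) b' = b' := by
        rw [hb', st_neg, st_smul, st_mul, st_mul, hb, hwist, hνq, hbbwi.eq]
      have hk' : (k + 1) / 2 < k := by omega
      have hb'k : b' ^ ((k + 1) / 2) = 0 := by
        have e : b' = (-ν) • (wi * (b * b)) := by rw [hb', neg_smul]
        rw [e, _root_.smul_pow, hbbwi.symm.mul_pow, ← pow_two, ← pow_mul]
        have : 2 * ((k + 1) / 2) = k + (2 * ((k + 1) / 2) - k) := by omega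
        rw [this, pow_add, hk, Matrix.zero_mul, Matrix.mul_zero, smul_zero]
      obtain ⟨c₂, hc₂comm, hc₂⟩ := ih _ hk' b' hb'st hb'k
      -- commuting facts
      have hcomm_b' : ∀ z : Matrix ι ι K, Commute z b → Commute z b' := by
        intro z hz
        have hzw : Commute z w := by
          rw [hw]
          apply Commute.add_right
          · exact (Commute.one_right z).add_right hz
          · exact (hz.mul_right hz).smul_right ν
        have hzwi : Commute z wi := commute_inv_of_commute hwwi hwiw hzw
        rw [hb']
        exact ((hzwi.mul_right (hz.mul_right hz)).smul_right ν).neg_right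
      have hwc₂ : Commute w c₂ := hc₂comm w (hcomm_b' w hbw.symm)
      have hstc₂w : Commute (st (q := q) c₂) w := by
        have := st_commute (q := q) hwc₂.symm
        rwa [hwst] at this
      refine ⟨c₁ * c₂, ?_, ?_⟩
      · intro z hz
        have hz1 : Commute z c₁ := by
          rw [hc₁]
          exact (Commute.one_right z).add_right (hz.smul_right l)
        exact hz1.mul_right (hc₂comm z (hcomm_b' z hz))
      · rw [st_mul]
        calc st (q := q) c₂ * st (q := q) c₁ * (c₁ * c₂)
            = st (q := q) c₂ * (st (q := q) c₁ * c₁) * c₂ := by simp only [Matrix.mul_assoc]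
          _ = w * (st (q := q) c₂ * c₂) := by rw [h1, hstc₂w.eq, Matrix.mul_assoc]
          _ = 1 + b := by rw [hc₂, hwb']

end Cfsg.Agent.Helper8.RegSU
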