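import Cfsg.Agent.Helper8.RegSUA
set_option autoImplicit false
set_option linter.unusedSectionVars false

/-!
Regular unipotent unitary matrices: conjugacy in `GL` implies conjugacy in `GU`; the determinant
on the unitary centraliser.
-/

namespace Cfsg.Agent.Helper8.RegSU

open Polynomial Matrix Cfsg Cfsg.Agent.Helper8.GUOrder Cfsg.Agent.Helper8.SUCenter
  Cfsg.Agent.Helper8.AutSU Cfsg.Agent.Helper8.PU3 Cfsg.Agent.Helper8.PSUSing
  Cfsg.Agent.Helper8.RegU

variable {K : Type*} [Field K] [Fintype K] {q : ℕ} [hF : Fact (Fintype.card K = q ^ 2)]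
variable {ι : Type*} [Fintype ι] [DecidableEq ι]

omit [Fintype K] hF in
/-- an element of the commutant of a regular nilpotent matrix is a scalar plus a nilpotent -/
theorem exists_scalar_sub_pow {N₀ : Matrix ι ι K} {n : ℕ} (h : IsRegNilp N₀ n)
    (z : Matrix ι ι K) (hz : z * N₀ = N₀ * z) : ∃ c : K, (z - c • 1) ^ n = 0 := by
  obtain ⟨P, rfl⟩ := (h.commute_iff z).mp hz
  refine ⟨P.coeff 0, ?_⟩
  have e : aeval N₀ P - P.coeff 0 • 1 = N₀ * aeval N₀ P.divX := by
    conv_lhs => rw [← Polynomial.divX_mul_X_add P]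
    rw [map_add, map_mul, aeval_X, aeval_C, Algebra.algebraMap_eq_smul_one]
    have hc : Commute (aeval N₀ P.divX) N₀ := by
      have h1 : Commute (aeval N₀ P.divX) (aeval N₀ (X : K[X])) := by
        rw [Commute, SemiconjBy, ← map_mul, ← map_mul, mul_comm]
      rwa [aeval_X] at h1
    rw [hc.eq]
    simp
  have hc : Commute N₀ (aeval N₀ P.divX) := by
    have h1 : Commute (aeval N₀ (X : K[X])) (aeval N₀ P.divX) := by
      rw [Commute, SemiconjBy, ← map_mul, ← map_mul, mul_comm]
    rwa [aeval_X] at h1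
  rw [e, hc.mul_pow, h.pow, Matrix.zero_mul]

omit [Fintype K] hF in
theorem commute_of_commute_regNilp {N₀ : Matrix ι ι K} {n : ℕ} (h : IsRegNilp N₀ n)
    (z z' : Matrix ι ι K) (hz : z * N₀ = N₀ * z) (hz' : z' * N₀ = N₀ * z') : Commute z z' := by
  obtain ⟨P, rfl⟩ := (h.commute_iff z).mp hz
  obtain ⟨P', rfl⟩ := (h.commute_iff z').mp hz'
  rw [Commute, SemiconjBy, ← map_mul, ← map_mul, mul_comm]

omit [Fintype K] hF in
theorem smul_one_pow_eq_zero [Nonempty ι] {c : K} {k : ℕ}
    (h : (c • (1 : Matrix ι ι K)) ^ k = 0) : c = 0 := by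
  rw [_root_.smul_pow, one_pow] at h
  obtain ⟨i⟩ := ‹Nonempty ι›
  have := congrFun (congrFun h i) i
  rw [Matrix.smul_apply, Matrix.one_apply_eq, smul_eq_mul, mul_one, Matrix.zero_apply] at this
  exact pow_eq_zero_iff (fun hk => by
    rw [hk, pow_zero] at this; exact one_ne_zero this) |>.mp this

omit [Fintype K] hF in
/-- the determinant of a scalar plus a nilpotent -/
theorem det_smul_one_add_nilp (c : K) (b : Matrix ι ι K) (hb : IsNilpotent b) :
    (c • 1 + b).det = c ^ Fintype.card ι := by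
  have hnb : IsNilpotent (-b) := hb.neg
  have h1 := Matrix.isNilpotent_charpoly_sub_pow_of_isNilpotent hnb
  have h2 : (-b).charpoly = X ^ Fintype.card ι := by
    have := h1.eq_zero
    exact sub_eq_zero.mp this
  have h3 := Matrix.eval_charpoly (-b) c
  rw [h2, eval_pow, eval_X] at h3
  rw [h3]
  congr 1
  rw [sub_neg_eq_add]
  congr 1
  ext i j
  simp [Matrix.scalar_apply, Matrix.smul_apply, Matrix.one_apply, Matrix.diagonal_apply]


theorem nonempty_of_regNilp {N₀ : Matrix ι ι K} {n : ℕ} (h : IsRegNilp N₀ n) : Nonempty ι := by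
  have h1 : 0 < Fintype.card ι := by rw [h.card]; exact h.pos
  exact Fintype.card_pos_iff.mp h1

/-- **Wall's lemma for regular unipotent unitary matrices**: two of them are conjugate under a
unitary matrix. -/
theorem exists_unitary_conj {u₀ u : Matrix ι ι K} {n : ℕ} (h₀ : IsRegNilp (u₀ - 1) n)
    (h : IsRegNilp (u - 1) n) (hu₀ : st (q := q) u₀ * u₀ = 1) (hu : st (q := q) u * u = 1) :
    ∃ s : Matrix ι ι K, st (q := q) s * s = 1 ∧ s * u₀ = u * s := by
  have hne : Nonempty ι := nonempty_of_regNilp h₀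
  obtain ⟨g, gi, hg, hgi, hgN⟩ := exists_intertwiner _ _ n h₀ h
  have hconj : g * u₀ = u * g := by
    rw [Matrix.mul_sub, Matrix.sub_mul, Matrix.mul_one, Matrix.one_mul] at hgN
    exact sub_left_injective hgN
  have hu₀' : u₀ * st (q := q) u₀ = 1 := mul_eq_one_comm.mp hu₀
  have hu' : u * st (q := q) u = 1 := mul_eq_one_comm.mp hu
  set a : Matrix ι ι K := st (q := q) g * g with ha
  set ai : Matrix ι ι K := gi * st (q := q) gi with hai
  have haai : a * ai = 1 := by
    calc a * ai = st (q := q) g * (g * gi) * st (q := q) gi := by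
          rw [ha, hai]; simp only [Matrix.mul_assoc]
      _ = 1 := by rw [hg, Matrix.mul_one, ← st_mul, hgi, st_one]
  have haia : ai * a = 1 := mul_eq_one_comm.mp haai
  have hast : st (q := q) a = a := by rw [ha, st_mul, st_st]
  -- `a` commutes with `u₀`
  have h1 : st (q := q) g * u = u₀ * st (q := q) g := by
    have e := congrArg (st (q := q)) hconj
    rw [st_mul, st_mul] at e
    calc st (q := q) g * u = (u₀ * st (q := q) u₀) * st (q := q) g * u := by
          rw [hu₀', Matrix.one_mul]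
      _ = u₀ * (st (q := q) u₀ * st (q := q) g) * u := by simp only [Matrix.mul_assoc]
      _ = u₀ * (st (q := q) g * st (q := q) u) * u := by rw [e]
      _ = u₀ * st (q := q) g * (st (q := q) u * u) := by simp only [Matrix.mul_assoc]
      _ = u₀ * st (q := q) g := by rw [hu, Matrix.mul_one]
  have hau₀ : a * u₀ = u₀ * a := by
    calc a * u₀ = st (q := q) g * (g * u₀) := by rw [ha, Matrix.mul_assoc]
      _ = (st (q := q) g * u) * g := by rw [hconj, Matrix.mul_assoc]
      _ = u₀ * a := by rw [h1, ha, Matrix.mul_assoc]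
  have haN : a * (u₀ - 1) = (u₀ - 1) * a := by
    rw [Matrix.mul_sub, Matrix.sub_mul, hau₀, Matrix.mul_one, Matrix.one_mul]
  obtain ⟨a₀, ha₀⟩ := exists_scalar_sub_pow h₀ a haN
  -- `a₀ ≠ 0`
  have ha₀ne : a₀ ≠ 0 := by
    rintro rfl
    rw [zero_smul, sub_zero] at ha₀
    have hc : Commute a ai := by rw [Commute, SemiconjBy, haai, haia]
    have : (a * ai) ^ n = 0 := by rw [hc.mul_pow, ha₀, Matrix.zero_mul]
    rw [haai, one_pow] at this
    exact one_ne_zero this
  -- `a₀` is fixed by the Frobenius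
  have ha₀q : a₀ ^ q = a₀ := by
    set b₀ : Matrix ι ι K := a - a₀ • 1 with hb₀
    have hb₀st : st (q := q) b₀ = a - a₀ ^ q • 1 := by
      rw [hb₀, st_sub, st_smul, st_one, hast]
    have hn1 : IsNilpotent b₀ := ⟨n, ha₀⟩
    have hn2 : IsNilpotent (st (q := q) b₀) := ⟨n, by rw [← st_pow, ha₀, st_zero]⟩
    have hc : Commute b₀ (st (q := q) b₀) := by
      rw [hb₀st, hb₀]
      have c1 : Commute a (a₀ ^ q • (1 : Matrix ι ι K)) :=
        (Commute.one_right a).smul_right _
      have c2 : Commute (a₀ • (1 : Matrix ι ι K)) a := (Commute.one_left a).smul_left _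
      have c3 : Commute (a₀ • (1 : Matrix ι ι K)) (a₀ ^ q • (1 : Matrix ι ι K)) :=
        ((Commute.one_left (1 : Matrix ι ι K)).smul_left _).smul_right _
      exact ((Commute.refl a).sub_right c1).sub_left (c2.sub_right c3)
    have hn3 := hc.isNilpotent_sub hn1 hn2
    have e : b₀ - st (q := q) b₀ = (a₀ ^ q - a₀) • (1 : Matrix ι ι K) := by
      rw [hb₀st, hb₀, sub_smul]
      abel
    rw [e] at hn3
    obtain ⟨k, hk⟩ := hn3
    have := smul_one_pow_eq_zero hk
    exact sub_eq_zero.mp this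
  obtain ⟨c₀, hc₀⟩ := exists_norm (K := K) hF.out ha₀ne ha₀q
  have ha₀iq : (a₀⁻¹) ^ q = a₀⁻¹ := by rw [inv_pow, ha₀q]
  set b : Matrix ι ι K := a₀⁻¹ • a - 1 with hb
  have hbst : st (q := q) b = b := by
    rw [hb, st_sub, st_smul, st_one, hast, ha₀iq]
  have hbn : b ^ n = 0 := by
    have e : b = a₀⁻¹ • (a - a₀ • 1) := by
      rw [hb, smul_sub, smul_smul, inv_mul_cancel₀ ha₀ne, one_smul]
    rw [e, _root_.smul_pow, ha₀, smul_zero]
  obtain ⟨l, hl⟩ := exists_trace_one (K := K) (q := q)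
  obtain ⟨c, hccomm, hc⟩ := exists_st_mul_eq (q := q) l hl n b hbst hbn
  have hc' : st (q := q) c * c = a₀⁻¹ • a := by rw [hc, hb]; abel
  set c' : Matrix ι ι K := c₀ • c with hc'def
  have hc'a : st (q := q) c' * c' = a := by
    rw [hc'def, st_smul, Matrix.smul_mul, Matrix.mul_smul, smul_smul, hc', smul_smul]
    have : c₀ ^ q * c₀ * a₀⁻¹ = 1 := by rw [mul_comm (c₀ ^ q), hc₀, mul_inv_cancel₀ ha₀ne]
    rw [this, one_smul]
  set ci : Matrix ι ι K := ai * st (q := q) c' with hci
  have hcic : ci * c' = 1 := by rw [hci, Matrix.mul_assoc, hc'a, haia]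
  have hcci : c' * ci = 1 := mul_eq_one_comm.mp hcic
  have hu₀b : Commute u₀ b := by
    rw [hb]
    have : Commute u₀ a := by rw [Commute, SemiconjBy, hau₀]
    exact (this.smul_right _).sub_right (Commute.one_right u₀)
  have hu₀c' : Commute u₀ c' := (hccomm u₀ hu₀b).smul_right c₀
  have hu₀ci : Commute u₀ ci := commute_inv_of_commute hcci hcic hu₀c'
  refine ⟨g * ci, ?_, ?_⟩
  · rw [st_mul]
    calc st (q := q) ci * st (q := q) g * (g * ci) = st (q := q) ci * a * ci := by
          rw [ha]; simp only [Matrix.mul_assoc]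
      _ = st (q := q) ci * (st (q := q) c' * c') * ci := by rw [hc'a]
      _ = (st (q := q) ci * st (q := q) c') * (c' * ci) := by simp only [Matrix.mul_assoc]
      _ = 1 := by rw [← st_mul, hcci, st_one, Matrix.mul_one]
  · calc g * ci * u₀ = g * (ci * u₀) := by rw [Matrix.mul_assoc]
      _ = g * (u₀ * ci) := by rw [hu₀ci.eq]
      _ = (g * u₀) * ci := by rw [Matrix.mul_assoc]
      _ = u * (g * ci) := by rw [hconj, Matrix.mul_assoc]

/-- the determinant of a unitary matrix centralising a regular unipotent matrix -/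
theorem det_of_commute {u₀ s : Matrix ι ι K} {n : ℕ} (h₀ : IsRegNilp (u₀ - 1) n)
    (hs : st (q := q) s * s = 1) (hcomm : s * u₀ = u₀ * s) :
    ∃ ζ : K, ζ * ζ ^ q = 1 ∧ s.det = ζ ^ n := by
  have hne : Nonempty ι := nonempty_of_regNilp h₀
  have hsN : s * (u₀ - 1) = (u₀ - 1) * s := by
    rw [Matrix.mul_sub, Matrix.sub_mul, hcomm, Matrix.mul_one, Matrix.one_mul]
  obtain ⟨ζ, hζ⟩ := exists_scalar_sub_pow h₀ s hsN
  set b : Matrix ι ι K := s - ζ • 1 with hb
  have hbn : IsNilpotent b := ⟨n, hζ⟩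
  have hdet : s.det = ζ ^ n := by
    have e : s = ζ • 1 + b := by rw [hb]; abel
    rw [e, det_smul_one_add_nilp ζ b hbn, h₀.card]
  refine ⟨ζ, ?_, hdet⟩
  -- `(ζ^q + b*)(ζ + b) = 1`
  have hs' : s * st (q := q) s = 1 := mul_eq_one_comm.mp hs
  have hbst : st (q := q) b = st (q := q) s - ζ ^ q • 1 := by
    rw [hb, st_sub, st_smul, st_one]
  have hn2 : IsNilpotent (st (q := q) b) := ⟨n, by rw [← st_pow, hζ, st_zero]⟩
  have hc : Commute b (st (q := q) b) := by
    rw [hbst, hb]
    have c0 : Commute s (st (q := q) s) := by rw [Commute, SemiconjBy, hs, hs']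
    have c1 : Commute s (ζ ^ q • (1 : Matrix ι ι K)) := (Commute.one_right s).smul_right _
    have c2 : Commute (ζ • (1 : Matrix ι ι K)) (st (q := q) s) :=
      (Commute.one_left _).smul_left _
    have c3 : Commute (ζ • (1 : Matrix ι ι K)) (ζ ^ q • (1 : Matrix ι ι K)) :=
      ((Commute.one_left (1 : Matrix ι ι K)).smul_left _).smul_right _
    exact (c0.sub_right c1).sub_left (c2.sub_right c3)
  -- `1 - ζ ζ^q = ζ^q b + ζ b* + b* b` is nilpotent
  have e : (1 - ζ * ζ ^ q) • (1 : Matrix ι ι K) =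
      ζ ^ q • b + ζ • st (q := q) b + st (q := q) b * b := by
    have e1 : st (q := q) s = ζ ^ q • 1 + st (q := q) b := by rw [hbst]; abel
    have e2 : s = ζ • 1 + b := by rw [hb]; abel
    have e3 : (ζ ^ q • (1 : Matrix ι ι K) + st (q := q) b) * (ζ • 1 + b) = 1 := by
      rw [← e1, ← e2, hs]
    rw [Matrix.add_mul, Matrix.mul_add, Matrix.mul_add, Matrix.smul_mul, Matrix.smul_mul,
      Matrix.one_mul, Matrix.one_mul, Matrix.mul_smul, Matrix.mul_one, smul_smul] at e3
    rw [sub_smul, one_smul, mul_comm ζ (ζ ^ q), sub_eq_iff_eq_add]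
    conv_lhs => rw [← e3]
    abel
  have hn3 : IsNilpotent ((1 - ζ * ζ ^ q) • (1 : Matrix ι ι K)) := by
    rw [e]
    have n1 : IsNilpotent (ζ ^ q • b) := by
      obtain ⟨k, hk⟩ := hbn
      exact ⟨k, by rw [_root_.smul_pow, hk, smul_zero]⟩
    have n2 : IsNilpotent (ζ • st (q := q) b) := by
      obtain ⟨k, hk⟩ := hn2
      exact ⟨k, by rw [_root_.smul_pow, hk, smul_zero]⟩
    have n3 : IsNilpotent (st (q := q) b * b) := by
      obtain ⟨k, hk⟩ := hbn
      exact ⟨k, by rw [hc.symm.mul_pow, hk, Matrix.mul_zero]⟩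
    have c12 : Commute (ζ ^ q • b) (ζ • st (q := q) b) := (hc.smul_left _).smul_right _
    have n12 := c12.isNilpotent_add n1 n2
    have c123 : Commute (ζ ^ q • b + ζ • st (q := q) b) (st (q := q) b * b) := by
      apply Commute.add_left
      · exact ((hc.mul_right (Commute.refl b))).smul_left _
      · exact (((Commute.refl (st (q := q) b)).mul_right hc.symm)).smul_left _
    exact c123.isNilpotent_add n12 n3
  obtain ⟨k, hk⟩ := hn3
  have := smul_one_pow_eq_zero hk
  exact (sub_eq_zero.mp this).symm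

end Cfsg.Agent.Helper8.RegSU
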