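import Cfsg.Agent.Helper8.RegSUB
set_option autoImplicit false
set_option linter.unusedSectionVars false

/-!
Existence of a regular unipotent unitary matrix (all characteristics).
-/

namespace Cfsg.Agent.Helper8.RegSU

open Polynomial Matrix Cfsg Cfsg.Agent.Helper8.GUOrder Cfsg.Agent.Helper8.SUCenter
  Cfsg.Agent.Helper8.AutSU Cfsg.Agent.Helper8.PU3 Cfsg.Agent.Helper8.PSUSing
  Cfsg.Agent.Helper8.RegU

variable {K : Type*} [Field K] [Fintype K] {q : ℕ} [hF : Fact (Fintype.card K = q ^ 2)]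
variable {ι : Type*} [Fintype ι] [DecidableEq ι]

theorem pow_q_pow_q' (a : K) : (a ^ q) ^ q = a := by
  rw [← pow_mul, ← sq]; exact pow_qsq a

/-- an element of given norm and nonzero trace -/
theorem exists_norm_trace {c : K} (hc0 : c ≠ 0) (hc : c ^ q = c) :
    ∃ z : K, z * z ^ q = c ∧ z + z ^ q ≠ 0 := by
  obtain ⟨z₀, hz₀⟩ := exists_norm (K := K) hF.out hc0 hc
  by_cases ht : z₀ + z₀ ^ q = 0
  · obtain ⟨ζ, hζ, hζ2⟩ := exists_zeta_sq (K := K) hF.out
    have hz₀0 : z₀ ≠ 0 := by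
      rintro rfl
      rw [zero_mul] at hz₀
      exact hc0 hz₀.symm
    refine ⟨z₀ * ζ, ?_, ?_⟩
    · rw [mul_pow]
      calc z₀ * ζ * (z₀ ^ q * ζ ^ q) = (z₀ * z₀ ^ q) * (ζ * ζ ^ q) := by ring
        _ = c := by rw [hz₀, hζ, mul_one]
    · rw [mul_pow]
      have e : z₀ ^ q = -z₀ := by linear_combination ht
      rw [e]
      intro h
      have h1 : z₀ * (ζ - ζ ^ q) = 0 := by linear_combination h
      rcases mul_eq_zero.mp h1 with h2 | h2
      · exact hz₀0 h2
      · apply hζ2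
        have : ζ ^ q = ζ := by linear_combination -h2
        rw [this] at hζ
        exact hζ
  · exact ⟨z₀, hz₀, ht⟩

/-- a Hermitian matrix whose square is a nonzero scalar is equivalent to the identity -/
theorem exists_form_change (J : Matrix ι ι K) (hJ : st (q := q) J = J) (κ : K) (hκ : κ ≠ 0)
    (hκq : κ ^ q = κ) (hJJ : J * J = κ • 1) :
    ∃ P Pi : Matrix ι ι K, P * Pi = 1 ∧ st (q := q) P * P = J := by
  have hnκ : (-κ) ^ q = -κ := by rw [neg_pow_q hF.out, hκq]
  obtain ⟨z, hz, hzt⟩ := exists_norm_trace (K := K) (q := q) (neg_ne_zero.mpr hκ) hnκ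
  set t : K := z + z ^ q with ht
  have htq : t ^ q = t := by
    rw [ht, Cfsg.Agent.Helper7.Herm.add_pow_q hF.out, pow_q_pow_q', add_comm]
  have hti0 : t⁻¹ ≠ 0 := inv_ne_zero hzt
  have htiq : (t⁻¹) ^ q = t⁻¹ := by rw [inv_pow, htq]
  obtain ⟨y, hy⟩ := exists_norm (K := K) hF.out hti0 htiq
  set P : Matrix ι ι K := y • (z • 1 + J) with hP
  have hPst : st (q := q) P = y ^ q • (z ^ q • 1 + J) := by
    rw [hP, st_smul, st_add, st_smul, st_one, hJ]
  have hPP : st (q := q) P * P = J := by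
    rw [hPst, hP, Matrix.smul_mul, Matrix.mul_smul, smul_smul, Matrix.add_mul, Matrix.mul_add,
      Matrix.mul_add, Matrix.smul_mul, Matrix.smul_mul, Matrix.one_mul, Matrix.one_mul,
      Matrix.mul_smul, Matrix.mul_one, hJJ, smul_smul]
    have e1 : (z ^ q * z) • (1 : Matrix ι ι K) + z ^ q • J + (z • J + κ • 1) = t • J := by
      have : z ^ q * z = -κ := by rw [mul_comm]; exact hz
      rw [this, ht, add_smul, neg_smul]
      abel
    rw [e1, smul_smul]
    have : y ^ q * y * t = 1 := by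
      rw [mul_comm (y ^ q), hy, inv_mul_cancel₀ hzt]
    rw [this, one_smul]
  refine ⟨P, κ⁻¹ • (J * st (q := q) P), ?_, hPP⟩
  apply mul_eq_one_comm.mp
  rw [Matrix.smul_mul, Matrix.mul_assoc, hPP, hJJ, smul_smul, inv_mul_cancel₀ hκ, one_smul]


/-- the twisted Cayley transform of a skew-adjoint regular nilpotent matrix -/
theorem exists_regular_of_skew (J S : Matrix ι ι K) (n : ℕ) (hS : IsRegNilp S n)
    (hSJ : st (q := q) S * J = -(J * S)) :
    ∃ B : Matrix ι ι K, st (q := q) B * J * B = J ∧ IsRegNilp (B - 1) n := by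
  obtain ⟨l, hl⟩ := exists_trace_one (K := K) (q := q)
  set W : Matrix ι ι K := 1 + l • S with hW
  set V : Matrix ι ι K := 1 - l ^ q • S with hV
  have hVu : IsUnit V := by
    rw [hV, sub_eq_add_neg]
    apply IsNilpotent.isUnit_one_add
    exact ⟨n, by rw [neg_pow, _root_.smul_pow, hS.pow, smul_zero, mul_zero]⟩
  obtain ⟨Vu, hVu'⟩ := hVu
  set Vi : Matrix ι ι K := ((Vu⁻¹ : (Matrix ι ι K)ˣ) : Matrix ι ι K) with hVi
  have hVVi : V * Vi = 1 := by rw [← hVu', hVi]; exact Vu.mul_inv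
  have hViV : Vi * V = 1 := by rw [← hVu', hVi]; exact Vu.inv_mul
  have hSV : Commute S V := by
    rw [hV]
    exact (Commute.one_right S).sub_right ((Commute.refl S).smul_right _)
  have hSW : Commute S W := by
    rw [hW]
    exact (Commute.one_right S).add_right ((Commute.refl S).smul_right _)
  have hWV : Commute W V := by
    rw [hW]
    exact (Commute.one_left V).add_left (hSV.smul_left _)
  have hSVi : Commute S Vi := commute_inv_of_commute hVVi hViV hSV
  have hWVi : Commute W Vi := commute_inv_of_commute hVVi hViV hWV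
  have hWst : st (q := q) W = 1 + l ^ q • st (q := q) S := by
    rw [hW, st_add, st_one, st_smul]
  have hVst : st (q := q) V = 1 - l • st (q := q) S := by
    rw [hV, st_sub, st_one, st_smul, pow_q_pow_q']
  have h1 : st (q := q) W * J = J * V := by
    rw [hWst, hV, Matrix.add_mul, Matrix.one_mul, Matrix.smul_mul, hSJ, Matrix.mul_sub,
      Matrix.mul_one, Matrix.mul_smul, smul_neg, sub_eq_add_neg]
  have h2 : st (q := q) V * J = J * W := by
    rw [hVst, hW, Matrix.sub_mul, Matrix.one_mul, Matrix.smul_mul, hSJ, Matrix.mul_add,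
      Matrix.mul_one, Matrix.mul_smul, smul_neg, sub_neg_eq_add]
  set B : Matrix ι ι K := W * Vi with hB
  have hBJ : st (q := q) B * J * B = J := by
    rw [hB, st_mul]
    calc st (q := q) Vi * st (q := q) W * J * (W * Vi)
        = st (q := q) Vi * (st (q := q) W * J) * (W * Vi) := by simp only [Matrix.mul_assoc]
      _ = st (q := q) Vi * J * (V * W) * Vi := by rw [h1]; simp only [Matrix.mul_assoc]
      _ = st (q := q) Vi * J * W * (V * Vi) := by rw [← hWV.eq]; simp only [Matrix.mul_assoc]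
      _ = st (q := q) Vi * (J * W) := by rw [hVVi, Matrix.mul_one, Matrix.mul_assoc]
      _ = (st (q := q) Vi * st (q := q) V) * J := by rw [← h2, Matrix.mul_assoc]
      _ = J := by rw [← st_mul, hVVi, st_one, Matrix.one_mul]
  have hB1 : B - 1 = S * Vi := by
    have e : W - V = S := by
      rw [hW, hV]
      have : l • S + l ^ q • S = S := by rw [← add_smul, hl, one_smul]
      calc 1 + l • S - (1 - l ^ q • S) = l • S + l ^ q • S := by abel
        _ = S := this
    calc B - 1 = W * Vi - V * Vi := by rw [hB, hVVi]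
      _ = (W - V) * Vi := (Matrix.sub_mul W V Vi).symm
      _ = S * Vi := by rw [e]
  refine ⟨B, hBJ, hS.card, hS.pos, ?_, ?_⟩
  · rw [hB1, hSVi.mul_pow, hS.pow, Matrix.zero_mul]
  · rw [hB1]
    have hu : IsUnit Vi := ⟨⟨Vi, V, hViV, hVVi⟩, rfl⟩
    rw [Matrix.rank_mul_eq_left_of_isUnit_det _ _ ((Matrix.isUnit_iff_isUnit_det _).mp hu),
      hS.rank]

omit [Fintype K] hF in
/-- conjugates of regular nilpotent matrices -/
theorem isRegNilp_conj {N : Matrix ι ι K} {n : ℕ} (h : IsRegNilp N n) (P Pi : Matrix ι ι K)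
    (h1 : P * Pi = 1) : IsRegNilp (P * N * Pi) n := by
  have h2 : Pi * P = 1 := mul_eq_one_comm.mp h1
  refine ⟨h.card, h.pos, ?_, ?_⟩
  · rw [conj_pow' P Pi N h1, h.pow, Matrix.mul_zero, Matrix.zero_mul]
  · have hu1 : IsUnit P := ⟨⟨P, Pi, h1, h2⟩, rfl⟩
    have hu2 : IsUnit Pi := ⟨⟨Pi, P, h2, h1⟩, rfl⟩
    rw [Matrix.rank_mul_eq_left_of_isUnit_det _ _ ((Matrix.isUnit_iff_isUnit_det _).mp hu2),
      Matrix.rank_mul_eq_right_of_isUnit_det _ _ ((Matrix.isUnit_iff_isUnit_det _).mp hu1),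
      h.rank]

end Cfsg.Agent.Helper8.RegSU
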