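import Cfsg.Agent.Helper8.RegSUC
set_option autoImplicit false
set_option linter.unusedSectionVars false

/-!
The explicit skew-adjoint regular nilpotent matrix, and a regular unipotent unitary matrix for the
standard Hermitian form.
-/

namespace Cfsg.Agent.Helper8.RegSU

open Polynomial Matrix Cfsg Cfsg.Agent.Helper8.GUOrder Cfsg.Agent.Helper8.SUCenter
  Cfsg.Agent.Helper8.AutSU Cfsg.Agent.Helper8.PU3 Cfsg.Agent.Helper8.PSUSing
  Cfsg.Agent.Helper8.RegU

variable {K : Type*} [Field K] [Fintype K] {q : ℕ} [hF : Fact (Fintype.card K = q ^ 2)]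

/-- the antidiagonal sign matrix -/
def J₀ (K : Type*) [Field K] (n : ℕ) : Matrix (Fin n) (Fin n) K :=
  fun i j => if j = Fin.rev i then (-1) ^ (j : ℕ) else 0

omit [Fintype K] hF in
theorem isRegNilp_A₀ (n : ℕ) (hn : 1 ≤ n) : IsRegNilp (A₀ (F := K) n) n := by
  have hM : ∀ x y : Fin n, A₀ (F := K) n x y ≠ 0 ↔ (x : ℕ) = (y : ℕ) + 1 := by
    intro x y
    unfold A₀
    split_ifs with h
    · simp [h]
    · simp [h]
  have key := pow_apply_ne_zero_iff (A₀ (F := K) n) (fun x : Fin n => (x : ℕ)) n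
    Fin.val_injective (fun x => x.2) (fun j hj => ⟨⟨j, hj⟩, rfl⟩) hM
  apply isRegNilp_of_pow_ne_zero
  · rw [Fintype.card_fin]
  · exact hn
  · ext x y
    by_contra h
    have h1 : (A₀ (F := K) n ^ n) x y ≠ 0 := h
    rw [key] at h1
    have := x.2
    omega
  · intro h
    have h1 : (A₀ (F := K) n ^ (n - 1)) ⟨n - 1, by omega⟩ ⟨0, by omega⟩ ≠ 0 := by
      rw [key]
      simp
    apply h1
    rw [h]
    rfl

omit [Fintype K] hF in
theorem J₀_mul_J₀ (n : ℕ) (hn : 1 ≤ n) :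
    J₀ K n * J₀ K n = ((-1 : K) ^ (n - 1)) • (1 : Matrix (Fin n) (Fin n) K) := by
  ext i j
  rw [Matrix.mul_apply, Matrix.smul_apply, Matrix.one_apply, smul_eq_mul]
  unfold J₀
  simp only [ite_mul, zero_mul, Finset.sum_ite_eq', Finset.mem_univ, if_true, Fin.rev_rev]
  by_cases hij : i = j
  · subst hij
    rw [if_pos rfl, if_pos rfl, mul_one, ← pow_add, Fin.val_rev]
    congr 1
    have := i.2
    omega
  · rw [if_neg (fun h => hij h.symm), if_neg hij, mul_zero, mul_zero]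

omit [Fintype K] hF in
theorem J₀_transpose (n : ℕ) (hn : 1 ≤ n) :
    (J₀ K n)ᵀ = ((-1 : K) ^ (n - 1)) • J₀ K n := by
  ext i j
  rw [Matrix.transpose_apply, Matrix.smul_apply, smul_eq_mul]
  unfold J₀
  by_cases hij : j = Fin.rev i
  · have hji : i = Fin.rev j := by rw [hij, Fin.rev_rev]
    rw [if_pos hij, if_pos hji, ← pow_add]
    have h1 : (n - 1 + (j : ℕ)) = (i : ℕ) + 2 * (j : ℕ) := by
      rw [hij, Fin.val_rev]
      have := i.2
      omega
    rw [h1, pow_add, pow_mul]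
    simp
  · have hji : ¬ i = Fin.rev j := by
      intro h
      apply hij
      rw [h, Fin.rev_rev]
    rw [if_neg hij, if_neg hji, mul_zero]

omit [Fintype K] hF in
theorem A₀_J₀ (n : ℕ) : (A₀ (F := K) n)ᵀ * J₀ K n = -(J₀ K n * A₀ (F := K) n) := by
  ext i j
  rw [Matrix.neg_apply, Matrix.mul_apply, Matrix.mul_apply]
  have e1 : ∀ k : Fin n, (A₀ (F := K) n)ᵀ i k * J₀ K n k j =
      if k = Fin.rev j then A₀ (F := K) n k i * (-1) ^ (j : ℕ) else 0 := by
    intro k
    unfold J₀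
    rw [Matrix.transpose_apply]
    by_cases hk : k = Fin.rev j
    · have : j = Fin.rev k := by rw [hk, Fin.rev_rev]
      rw [if_pos hk, if_pos this]
    · have : ¬ j = Fin.rev k := by
        intro h
        apply hk
        rw [h, Fin.rev_rev]
      rw [if_neg hk, if_neg this, mul_zero]
  have e2 : ∀ k : Fin n, J₀ K n i k * A₀ (F := K) n k j =
      if k = Fin.rev i then (-1) ^ (k : ℕ) * A₀ (F := K) n k j else 0 := by
    intro k
    unfold J₀
    rw [ite_mul, zero_mul]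
  simp only [e1, e2, Finset.sum_ite_eq', Finset.mem_univ, if_true]
  unfold A₀
  rw [Fin.val_rev, Fin.val_rev]
  have hi := i.2
  have hj := j.2
  by_cases h : n - ((j : ℕ) + 1) = (i : ℕ) + 1
  · have h' : n - ((i : ℕ) + 1) = (j : ℕ) + 1 := by omega
    rw [if_pos h, if_pos h', h', pow_succ]
    ring
  · have h' : ¬ n - ((i : ℕ) + 1) = (j : ℕ) + 1 := by omega
    rw [if_neg h, if_neg h']
    ring

theorem st_A₀ (n : ℕ) : st (q := q) (A₀ (F := K) n) = (A₀ (F := K) n)ᵀ := by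
  have hq := two_le_q' (K := K) (q := q)
  unfold st
  congr 1
  ext i j
  rw [Matrix.map_apply, frobq_apply]
  unfold A₀
  split_ifs
  · rw [one_pow]
  · rw [zero_pow (by omega)]

theorem st_J₀ (n : ℕ) : st (q := q) (J₀ K n) = (J₀ K n)ᵀ := by
  have hq := two_le_q' (K := K) (q := q)
  unfold st
  congr 1
  ext i j
  rw [Matrix.map_apply, frobq_apply]
  unfold J₀
  split_ifs
  · rw [← pow_mul, mul_comm, pow_mul, neg_one_pow_q hF.out]
  · rw [zero_pow (by omega)]


/-- a regular unipotent matrix in the special unitary group of the standard Hermitian form -/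
theorem exists_regular_unipotent_unitary (n : ℕ) (hn : 1 ≤ n) :
    ∃ u₀ : Matrix (Fin n) (Fin n) K, st (q := q) u₀ * u₀ = 1 ∧ u₀.det = 1 ∧
      IsRegNilp (u₀ - 1) n := by
  set ε : K := (-1) ^ (n - 1) with hε
  have hεε : ε * ε = 1 := by
    rw [hε, ← mul_pow]
    simp
  obtain ⟨μ, hμ0, hμq⟩ : ∃ μ : K, μ ≠ 0 ∧ μ ^ q = ε * μ := by
    rcases Nat.even_or_odd (n - 1) with h | h
    · refine ⟨1, one_ne_zero, ?_⟩
      rw [hε, h.neg_one_pow, one_pow, mul_one]
    · obtain ⟨c, hc0, hc⟩ := exists_trace_zero (K := K) hF.out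
      refine ⟨c, hc0, ?_⟩
      rw [hε, h.neg_one_pow]
      linear_combination hc
  set J : Matrix (Fin n) (Fin n) K := μ • J₀ K n with hJ
  have hJst : st (q := q) J = J := by
    rw [hJ, st_smul, st_J₀, J₀_transpose n hn, ← hε, hμq, smul_smul]
    have : ε * μ * ε = μ := by
      calc ε * μ * ε = (ε * ε) * μ := by ring
        _ = μ := by rw [hεε, one_mul]
    rw [this]
  set κ : K := μ * μ ^ q with hκ
  have hκ0 : κ ≠ 0 := mul_ne_zero hμ0 (pow_ne_zero _ hμ0)
  have hκq : κ ^ q = κ := by rw [hκ, mul_pow, pow_q_pow_q', mul_comm]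
  have hJJ : J * J = κ • 1 := by
    rw [hJ, Matrix.smul_mul, Matrix.mul_smul, smul_smul, J₀_mul_J₀ n hn, ← hε, smul_smul, hκ,
      hμq]
    congr 1
    ring
  have hSJ : st (q := q) (A₀ (F := K) n) * J = -(J * A₀ (F := K) n) := by
    rw [st_A₀, hJ, Matrix.mul_smul, A₀_J₀, Matrix.smul_mul, smul_neg]
  obtain ⟨B, hBJ, hBreg⟩ := exists_regular_of_skew (q := q) J (A₀ (F := K) n) n
    (isRegNilp_A₀ n hn) hSJ
  obtain ⟨P, Pi, hPPi, hPJ⟩ := exists_form_change (q := q) J hJst κ hκ0 hκq hJJ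
  have hu : st (q := q) (P * B * Pi) * (P * B * Pi) = 1 := unitary_conj P Pi B J hPPi hPJ hBJ
  have hsub : P * B * Pi - 1 = P * (B - 1) * Pi := by
    rw [Matrix.mul_sub, Matrix.sub_mul, Matrix.mul_one, hPPi]
  have hreg : IsRegNilp (P * B * Pi - 1) n := by
    rw [hsub]
    exact isRegNilp_conj hBreg P Pi hPPi
  refine ⟨P * B * Pi, hu, ?_, hreg⟩
  have e : P * B * Pi = (1 : K) • 1 + (P * B * Pi - 1) := by rw [one_smul]; abel
  rw [e, det_smul_one_add_nilp 1 _ ⟨n, hreg.pow⟩, one_pow]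

end Cfsg.Agent.Helper8.RegSU
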