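import Cfsg.Agent.Helper8.RegSUD
set_option autoImplicit false
set_option linter.unusedSectionVars false

/-!
The regular unipotent classes of the special unitary group.
-/

namespace Cfsg.Agent.Helper8.RegSU

open Polynomial Matrix Cfsg Cfsg.Agent.Helper8.GUOrder Cfsg.Agent.Helper8.SUCenter
  Cfsg.Agent.Helper8.AutSU Cfsg.Agent.Helper8.PU3 Cfsg.Agent.Helper8.PSUSing
  Cfsg.Agent.Helper8.RegU

variable {K : Type*} [Field K] [Fintype K] {q : ℕ} [hF : Fact (Fintype.card K = q ^ 2)]
variable {n : ℕ}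

/-- the diagonal matrix `diag(ξ, 1, …, 1)` -/
def dmat (n : ℕ) (ξ : K) : Matrix (Fin n) (Fin n) K :=
  Matrix.diagonal (fun i => if (i : ℕ) = 0 then ξ else 1)

omit [Fintype K] hF in
theorem dmat_mul (ξ η : K) : dmat n ξ * dmat n η = dmat n (ξ * η) := by
  unfold dmat
  rw [Matrix.diagonal_mul_diagonal]
  congr 1
  funext i
  split_ifs <;> simp

omit [Fintype K] hF in
theorem dmat_one : dmat n (1 : K) = 1 := by
  unfold dmat
  rw [← Matrix.diagonal_one]
  congr 1
  funext i
  split_ifs <;> rfl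

theorem st_dmat (ξ : K) : st (q := q) (dmat n ξ) = dmat n (ξ ^ q) := by
  have hq := two_le_q' (K := K) (q := q)
  unfold st dmat
  rw [Matrix.diagonal_map (map_zero _), Matrix.diagonal_transpose]
  congr 1
  funext i
  rw [frobq_apply]
  split_ifs
  · rfl
  · rw [one_pow]

omit [Fintype K] hF in
theorem det_dmat (hn : 1 ≤ n) (ξ : K) : (dmat n ξ).det = ξ := by
  unfold dmat
  rw [Matrix.det_diagonal]
  have : ∀ i : Fin n, (if (i : ℕ) = 0 then ξ else 1) = if i = (⟨0, hn⟩ : Fin n) then ξ else 1 := by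
    intro i
    have : (i : ℕ) = 0 ↔ i = (⟨0, hn⟩ : Fin n) := by
      rw [Fin.ext_iff]
    simp only [this]
  simp only [this]
  rw [Finset.prod_ite_eq']
  simp

theorem st_dmat_mul {ξ : K} (hξ : ξ * ξ ^ q = 1) : st (q := q) (dmat n ξ) * dmat n ξ = 1 := by
  rw [st_dmat, dmat_mul, mul_comm, hξ, dmat_one]

theorem dmat_mul_st {ξ : K} (hξ : ξ * ξ ^ q = 1) : dmat n ξ * st (q := q) (dmat n ξ) = 1 := by
  rw [st_dmat, dmat_mul, hξ, dmat_one]

/-- the matrix of an element of `SU` -/
abbrev mat (u : SU n K q) : Matrix (Fin n) (Fin n) K :=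
  ((u : Matrix.SpecialLinearGroup (Fin n) K) : Matrix (Fin n) (Fin n) K)

omit [Fintype K] hF in
theorem mat_mul (u v : SU n K q) : mat (u * v) = mat u * mat v := rfl

omit [Fintype K] hF in
theorem mat_injective : Function.Injective (mat : SU n K q → Matrix (Fin n) (Fin n) K) := by
  intro u v h
  apply Subtype.ext
  apply Subtype.ext
  exact h

omit [Fintype K] hF in
theorem det_mat (u : SU n K q) : (mat u).det = 1 := u.1.2

theorem st_mat (u : SU n K q) : st (q := q) (mat u) * mat u = 1 := by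
  rw [← unitary_iff_st]
  exact (mem_SU_iff hF.out u.1).mp u.2

/-- constructor -/
def mk' (M : Matrix (Fin n) (Fin n) K) (hU : st (q := q) M * M = 1) (hdet : M.det = 1) :
    SU n K q :=
  mkSU hF.out M ((unitary_iff_st M).mpr hU) hdet

theorem mat_mk' (M : Matrix (Fin n) (Fin n) K) (hU : st (q := q) M * M = 1) (hdet : M.det = 1) :
    mat (mk' M hU hdet) = M := rfl

/-- conjugacy in `SU` in terms of matrices -/
theorem isConj_iff_mat (u v : SU n K q) :
    IsConj u v ↔ ∃ H : Matrix (Fin n) (Fin n) K, st (q := q) H * H = 1 ∧ H.det = 1 ∧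
      H * mat u = mat v * H := by
  rw [isConj_iff]
  constructor
  · rintro ⟨c, hc⟩
    refine ⟨mat c, st_mat c, det_mat c, ?_⟩
    rw [mul_inv_eq_iff_eq_mul] at hc
    rw [← mat_mul, ← mat_mul, hc]
  · rintro ⟨H, hU, hdet, hH⟩
    refine ⟨mk' H hU hdet, ?_⟩
    rw [mul_inv_eq_iff_eq_mul]
    apply mat_injective
    rw [mat_mul, mat_mul, mat_mk']
    exact hH

end Cfsg.Agent.Helper8.RegSU
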