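import Cfsg.Agent.Helper8.RegSUE
set_option autoImplicit false
set_option linter.unusedSectionVars false

/-!
The regular unipotent classes of the special unitary group: representatives.
-/

namespace Cfsg.Agent.Helper8.RegSU

open Polynomial Matrix Cfsg Cfsg.Agent.Helper8.GUOrder Cfsg.Agent.Helper8.SUCenter
  Cfsg.Agent.Helper8.AutSU Cfsg.Agent.Helper8.PU3 Cfsg.Agent.Helper8.PSUSing
  Cfsg.Agent.Helper8.RegU

variable {K : Type*} [Field K] [Fintype K] {q : ℕ} [hF : Fact (Fintype.card K = q ^ 2)]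
variable {n : ℕ}

/-- the representatives -/
def rep (u₀ : Matrix (Fin n) (Fin n) K) (ξ : K) : Matrix (Fin n) (Fin n) K :=
  dmat n ξ * u₀ * st (q := q) (dmat n ξ)

theorem rep_unitary {u₀ : Matrix (Fin n) (Fin n) K} (hu₀ : st (q := q) u₀ * u₀ = 1) {ξ : K}
    (hξ : ξ * ξ ^ q = 1) : st (q := q) (rep (q := q) u₀ ξ) * rep (q := q) u₀ ξ = 1 := by
  unfold rep
  rw [st_mul, st_mul, st_st]
  calc dmat n ξ * (st (q := q) u₀ * st (q := q) (dmat n ξ)) *
        (dmat n ξ * u₀ * st (q := q) (dmat n ξ))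
      = dmat n ξ * (st (q := q) u₀ * (st (q := q) (dmat n ξ) * dmat n ξ) * u₀) *
          st (q := q) (dmat n ξ) := by simp only [Matrix.mul_assoc]
    _ = 1 := by
        rw [st_dmat_mul hξ, Matrix.mul_one, hu₀, Matrix.mul_one, dmat_mul_st hξ]

theorem rep_det (hn : 1 ≤ n) {u₀ : Matrix (Fin n) (Fin n) K} (hdet₀ : u₀.det = 1) {ξ : K}
    (hξ : ξ * ξ ^ q = 1) : (rep (q := q) u₀ ξ).det = 1 := by
  unfold rep
  rw [Matrix.det_mul, Matrix.det_mul, det_st, det_dmat hn, hdet₀, mul_one, hξ]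

theorem rep_reg {u₀ : Matrix (Fin n) (Fin n) K} (hreg₀ : IsRegNilp (u₀ - 1) n) {ξ : K}
    (hξ : ξ * ξ ^ q = 1) : IsRegNilp (rep (q := q) u₀ ξ - 1) n := by
  have e : rep (q := q) u₀ ξ - 1 = dmat n ξ * (u₀ - 1) * st (q := q) (dmat n ξ) := by
    unfold rep
    rw [Matrix.mul_sub, Matrix.sub_mul, Matrix.mul_one, dmat_mul_st hξ]
  rw [e]
  exact isRegNilp_conj hreg₀ _ _ (dmat_mul_st hξ)

/-- sufficient condition for conjugacy of the representatives -/
theorem conj_rep_of (hn : 1 ≤ n) (u₀ : Matrix (Fin n) (Fin n) K) {ξ η ζ : K}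
    (hξ : ξ * ξ ^ q = 1) (hη : η * η ^ q = 1) (hζ : ζ * ζ ^ q = 1) (h : ξ = η * ζ ^ n) :
    ∃ H : Matrix (Fin n) (Fin n) K, st (q := q) H * H = 1 ∧ H.det = 1 ∧
      H * rep (q := q) u₀ ξ = rep (q := q) u₀ η * H := by
  refine ⟨ζ • dmat n (η * ξ ^ q), ?_, ?_, ?_⟩
  · rw [st_smul, st_dmat, Matrix.smul_mul, Matrix.mul_smul, smul_smul, dmat_mul]
    have e1 : ζ ^ q * ζ = 1 := by rw [mul_comm]; exact hζ
    have e2 : (η * ξ ^ q) ^ q * (η * ξ ^ q) = 1 := by
      rw [mul_pow, pow_q_pow_q']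
      calc η ^ q * ξ * (η * ξ ^ q) = (η * η ^ q) * (ξ * ξ ^ q) := by ring
        _ = 1 := by rw [hη, hξ, mul_one]
    rw [e1, e2, one_smul, dmat_one]
  · rw [Matrix.det_smul, det_dmat hn, Fintype.card_fin]
    calc ζ ^ n * (η * ξ ^ q) = (η * ζ ^ n) * ξ ^ q := by ring
      _ = 1 := by rw [← h, hξ]
  · unfold rep
    rw [st_dmat, st_dmat]
    calc ζ • dmat n (η * ξ ^ q) * (dmat n ξ * u₀ * dmat n (ξ ^ q))
        = ζ • ((dmat n (η * ξ ^ q) * dmat n ξ) * u₀ * dmat n (ξ ^ q)) := by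
          rw [Matrix.smul_mul]; simp only [Matrix.mul_assoc]
      _ = ζ • (dmat n η * u₀ * dmat n (ξ ^ q)) := by
          rw [dmat_mul]
          have : η * ξ ^ q * ξ = η := by
            calc η * ξ ^ q * ξ = η * (ξ * ξ ^ q) := by ring
              _ = η := by rw [hξ, mul_one]
          rw [this]
      _ = ζ • (dmat n η * u₀ * (dmat n (η ^ q) * dmat n (η * ξ ^ q))) := by
          rw [dmat_mul]
          have : η ^ q * (η * ξ ^ q) = ξ ^ q := by
            calc η ^ q * (η * ξ ^ q) = (η * η ^ q) * ξ ^ q := by ring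
              _ = ξ ^ q := by rw [hη, one_mul]
          rw [this]
      _ = dmat n η * u₀ * dmat n (η ^ q) * ζ • dmat n (η * ξ ^ q) := by
          rw [Matrix.mul_smul]; simp only [Matrix.mul_assoc]

/-- necessary condition for conjugacy of the representatives -/
theorem of_conj_rep (hn : 1 ≤ n) {u₀ : Matrix (Fin n) (Fin n) K}
    (hreg₀ : IsRegNilp (u₀ - 1) n) {ξ η : K}
    (hξ : ξ * ξ ^ q = 1) (hη : η * η ^ q = 1) (H : Matrix (Fin n) (Fin n) K)
    (hH : st (q := q) H * H = 1) (hHdet : H.det = 1)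
    (hconj : H * rep (q := q) u₀ ξ = rep (q := q) u₀ η * H) :
    ∃ ζ : K, ζ * ζ ^ q = 1 ∧ ξ = η * ζ ^ n := by
  set dξ := dmat n ξ with hdξ
  set dη := dmat n η with hdη
  have h1 : st (q := q) dξ * dξ = 1 := st_dmat_mul hξ
  have h2 : dξ * st (q := q) dξ = 1 := dmat_mul_st hξ
  have h3 : st (q := q) dη * dη = 1 := st_dmat_mul hη
  have h4 : dη * st (q := q) dη = 1 := dmat_mul_st hη
  set s : Matrix (Fin n) (Fin n) K := st (q := q) dη * H * dξ with hs
  have hsU : st (q := q) s * s = 1 := by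
    rw [hs, st_mul, st_mul, st_st]
    calc st (q := q) dξ * (st (q := q) H * dη) * (st (q := q) dη * H * dξ)
        = st (q := q) dξ * (st (q := q) H * (dη * st (q := q) dη) * H) * dξ := by
          simp only [Matrix.mul_assoc]
      _ = 1 := by rw [h4, Matrix.mul_one, hH, Matrix.mul_one, h1]
  have hconj' : H * (dξ * u₀ * st (q := q) dξ) = (dη * u₀ * st (q := q) dη) * H := hconj
  have hsu : s * u₀ = u₀ * s := by
    calc s * u₀ = st (q := q) dη * (H * (dξ * u₀ * st (q := q) dξ)) * dξ := by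
          rw [hs]
          calc st (q := q) dη * H * dξ * u₀
              = st (q := q) dη * H * dξ * u₀ * (st (q := q) dξ * dξ) := by
                rw [h1, Matrix.mul_one]
            _ = st (q := q) dη * (H * (dξ * u₀ * st (q := q) dξ)) * dξ := by
                simp only [Matrix.mul_assoc]
      _ = st (q := q) dη * ((dη * u₀ * st (q := q) dη) * H) * dξ := by rw [hconj']
      _ = (st (q := q) dη * dη) * u₀ * (st (q := q) dη * H * dξ) := by
          simp only [Matrix.mul_assoc]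
      _ = u₀ * s := by rw [h3, Matrix.one_mul]
  obtain ⟨ζ, hζ, hdet⟩ := det_of_commute (q := q) hreg₀ hsU hsu
  refine ⟨ζ, hζ, ?_⟩
  rw [hs, Matrix.det_mul, Matrix.det_mul, det_st, hHdet, mul_one, hdξ, hdη, det_dmat hn,
    det_dmat hn] at hdet
  calc ξ = (η * η ^ q) * ξ := by rw [hη, one_mul]
    _ = η * (η ^ q * ξ) := by ring
    _ = η * ζ ^ n := by rw [hdet]

/-- every regular unipotent element is conjugate to a representative -/
theorem exists_conj_rep (hn : 1 ≤ n) {u₀ : Matrix (Fin n) (Fin n) K}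
    (hu₀ : st (q := q) u₀ * u₀ = 1) (hreg₀ : IsRegNilp (u₀ - 1) n)
    {A : Matrix (Fin n) (Fin n) K} (hA : st (q := q) A * A = 1)
    (hAreg : IsRegNilp (A - 1) n) :
    ∃ ξ : K, ξ * ξ ^ q = 1 ∧ ∃ H : Matrix (Fin n) (Fin n) K, st (q := q) H * H = 1 ∧
      H.det = 1 ∧ H * rep (q := q) u₀ ξ = A * H := by
  obtain ⟨s, hsU, hs⟩ := exists_unitary_conj (q := q) hreg₀ hAreg hu₀ hA
  set ξ : K := s.det with hξdef
  have hξ : ξ * ξ ^ q = 1 := by
    have := congrArg Matrix.det hsU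
    rw [Matrix.det_mul, det_st, Matrix.det_one] at this
    rw [mul_comm]
    exact this
  set dξ := dmat n ξ with hdξ
  have h1 : st (q := q) dξ * dξ = 1 := st_dmat_mul hξ
  have h2 : dξ * st (q := q) dξ = 1 := dmat_mul_st hξ
  refine ⟨ξ, hξ, s * st (q := q) dξ, ?_, ?_, ?_⟩
  · rw [st_mul, st_st]
    calc dξ * st (q := q) s * (s * st (q := q) dξ)
        = dξ * (st (q := q) s * s) * st (q := q) dξ := by simp only [Matrix.mul_assoc]
      _ = 1 := by rw [hsU, Matrix.mul_one, h2]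
  · rw [Matrix.det_mul, det_st, hdξ, det_dmat hn]
    exact hξ
  · unfold rep
    calc s * st (q := q) dξ * (dξ * u₀ * st (q := q) dξ)
        = s * (st (q := q) dξ * dξ) * u₀ * st (q := q) dξ := by simp only [Matrix.mul_assoc]
      _ = (s * u₀) * st (q := q) dξ := by rw [h1, Matrix.mul_one]
      _ = A * (s * st (q := q) dξ) := by rw [hs, Matrix.mul_assoc]

end Cfsg.Agent.Helper8.RegSU
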