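import Mathlib
set_option autoImplicit false

namespace Cfsg.Agent.Helper8.RegU

/-- Cayley transform count: in a finite commutative ring with a residue map `ε` detecting units
and an involution `σ` compatible with `ε`, the norm-one elements are twice as many as the skew
elements. -/
theorem card_norm_one_eq {R F : Type*} [CommRing R] [Fintype R] [DecidableEq R] [Field F]
    (h2 : (2 : F) ≠ 0) (ε : R →+* F) (hε : ∀ z, IsUnit z ↔ ε z ≠ 0) (σ : R →+* R)
    (hεσ : ∀ z, ε (σ z) = ε z) :
    (Finset.univ.filter (fun z : R => z * σ z = 1)).card =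
      2 * (Finset.univ.filter (fun y : R => σ y = -y)).card := by
  classical
  have hu2 : IsUnit (2 : R) := by
    rw [hε, map_ofNat]
    exact h2
  -- split by the residue
  have hres : ∀ z : R, z * σ z = 1 → ε z = 1 ∨ ε z = -1 := by
    intro z hz
    have h1 := congrArg ε hz
    rw [map_mul, hεσ, map_one] at h1
    exact mul_self_eq_one_iff.mp h1
  have hne : (1 : F) ≠ -1 := by
    intro h
    have : (2 : F) = 0 := by
      have h3 : (1 : F) + 1 = 0 := by nth_rewrite 2 [h]; ring
      rw [← h3]; norm_num
    exact h2 this
  set Gp := Finset.univ.filter (fun z : R => z * σ z = 1 ∧ ε z = 1) with hGp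
  set Gm := Finset.univ.filter (fun z : R => z * σ z = 1 ∧ ε z = -1) with hGm
  have hunion : Finset.univ.filter (fun z : R => z * σ z = 1) = Gp ∪ Gm := by
    ext z
    simp only [hGp, hGm, Finset.mem_filter, Finset.mem_univ, true_and, Finset.mem_union]
    constructor
    · intro hz
      rcases hres z hz with h | h
      · exact Or.inl ⟨hz, h⟩
      · exact Or.inr ⟨hz, h⟩
    · rintro (h | h) <;> exact h.1
  have hdisj : Disjoint Gp Gm := by
    rw [Finset.disjoint_left]
    intro z hz1 hz2
    simp only [hGp, hGm, Finset.mem_filter, Finset.mem_univ, true_and] at hz1 hz2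
    exact hne (hz1.2.symm.trans hz2.2)
  have hneg : Gm.card = Gp.card := by
    apply Finset.card_nbij' (fun z => -z) (fun z => -z)
    · intro z hz
      simp only [hGp, hGm, Finset.coe_filter, Finset.mem_univ, true_and, Set.mem_ofPred_eq] at hz ⊢
      refine ⟨?_, ?_⟩
      · rw [map_neg, neg_mul_neg]; exact hz.1
      · rw [map_neg, hz.2, neg_neg]
    · intro z hz
      simp only [hGp, hGm, Finset.coe_filter, Finset.mem_univ, true_and, Set.mem_ofPred_eq] at hz ⊢
      refine ⟨?_, ?_⟩
      · rw [map_neg, neg_mul_neg]; exact hz.1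
      · rw [map_neg, hz.2]
    · intro z _; exact neg_neg z
    · intro z _; exact neg_neg z
  -- Cayley transform
  have hcay : Gp.card = (Finset.univ.filter (fun y : R => σ y = -y)).card := by
    apply Finset.card_nbij' (fun z => (z - 1) * Ring.inverse (z + 1))
      (fun y => (1 + y) * Ring.inverse (1 - y))
    · intro z hz
      simp only [hGp, Finset.coe_filter, Finset.mem_univ, true_and, Set.mem_ofPred_eq] at hz ⊢
      obtain ⟨hz1, hz2⟩ := hz
      have hw : IsUnit (z + 1) := by
        rw [hε, map_add, hz2, map_one]
        have : (1 : F) + 1 = 2 := by norm_num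
        rw [this]; exact h2
      have hσw : IsUnit (σ (z + 1)) := hw.map σ
      set w' := Ring.inverse (z + 1) with hw'
      have e1 : (z + 1) * w' = 1 := Ring.mul_inverse_cancel _ hw
      have e2 : σ (z + 1) * σ w' = 1 := by rw [← map_mul, e1, map_one]
      have hunit : IsUnit ((z + 1) * σ (z + 1)) := hw.mul hσw
      have key : (σ ((z - 1) * w') + (z - 1) * w') * ((z + 1) * σ (z + 1)) = 0 := by
        have e3 : σ z * z = 1 := by rw [mul_comm]; exact hz1
        have expand : (σ ((z - 1) * w') + (z - 1) * w') * ((z + 1) * σ (z + 1)) =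
            (σ z - 1) * (z + 1) * (σ (z + 1) * σ w') + (z - 1) * (σ z + 1) * ((z + 1) * w') := by
          simp only [map_mul, map_sub, map_add, map_one]
          ring
        rw [expand, e1, e2, mul_one, mul_one]
        have : (σ z - 1) * (z + 1) + (z - 1) * (σ z + 1) = 2 * (σ z * z) - 2 := by ring
        rw [this, e3]; ring
      have := hunit.mul_left_eq_zero.mp key
      exact eq_neg_of_add_eq_zero_left this
    · intro y hy
      simp only [hGp, Finset.coe_filter, Finset.mem_univ, true_and, Set.mem_ofPred_eq] at hy ⊢
      have hεy : ε y = 0 := by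
        have h1 := congrArg ε hy
        rw [hεσ, map_neg] at h1
        have h3 : (2 : F) * ε y = 0 := by
          have : ε y + ε y = 0 := by nth_rewrite 1 [h1]; ring
          rw [← this]; ring
        exact (mul_eq_zero.mp h3).resolve_left h2
      have hv : IsUnit (1 - y) := by
        rw [hε, map_sub, map_one, hεy, sub_zero]; exact one_ne_zero
      set v' := Ring.inverse (1 - y) with hv'
      have e1 : (1 - y) * v' = 1 := Ring.mul_inverse_cancel _ hv
      have e2 : σ (1 - y) * σ v' = 1 := by rw [← map_mul, e1, map_one]
      have e3 : σ (1 - y) = 1 + y := by rw [map_sub, map_one, hy, sub_neg_eq_add]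
      have e4 : σ (1 + y) = 1 - y := by rw [map_add, map_one, hy]; ring
      refine ⟨?_, ?_⟩
      · rw [map_mul, e4]
        calc (1 + y) * v' * ((1 - y) * σ v') = ((1 + y) * σ v') * ((1 - y) * v') := by ring
          _ = 1 := by rw [← e3, e2, e1, mul_one]
      · rw [map_mul, map_add, map_one, hεy, add_zero, one_mul]
        have := congrArg ε e1
        rw [map_mul, map_sub, map_one, hεy, sub_zero, one_mul] at this
        exact this
    · intro z hz
      simp only [hGp, Finset.coe_filter, Finset.mem_univ, true_and, Set.mem_ofPred_eq] at hz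
      obtain ⟨hz1, hz2⟩ := hz
      have hw : IsUnit (z + 1) := by
        rw [hε, map_add, hz2, map_one]
        have : (1 : F) + 1 = 2 := by norm_num
        rw [this]; exact h2
      set w' := Ring.inverse (z + 1) with hw'
      have e1 : (z + 1) * w' = 1 := Ring.mul_inverse_cancel _ hw
      have hw'u : IsUnit w' := IsUnit.of_mul_eq_one (z + 1) (by rw [mul_comm]; exact e1)
      have a1 : 1 + (z - 1) * w' = 2 * z * w' := by
        calc 1 + (z - 1) * w' = (z + 1) * w' + (z - 1) * w' := by rw [e1]
          _ = 2 * z * w' := by ring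
      have a2 : 1 - (z - 1) * w' = 2 * w' := by
        calc 1 - (z - 1) * w' = (z + 1) * w' - (z - 1) * w' := by rw [e1]
          _ = 2 * w' := by ring
      change (1 + (z - 1) * w') * Ring.inverse (1 - (z - 1) * w') = z
      rw [a1, a2]
      have hu : IsUnit (2 * w') := hu2.mul hw'u
      calc 2 * z * w' * Ring.inverse (2 * w') = z * ((2 * w') * Ring.inverse (2 * w')) := by ring
        _ = z := by rw [Ring.mul_inverse_cancel _ hu, mul_one]
    · intro y hy
      simp only [Finset.coe_filter, Finset.mem_univ, true_and, Set.mem_ofPred_eq] at hy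
      have hεy : ε y = 0 := by
        have h1 := congrArg ε hy
        rw [hεσ, map_neg] at h1
        have h3 : (2 : F) * ε y = 0 := by
          have : ε y + ε y = 0 := by nth_rewrite 1 [h1]; ring
          rw [← this]; ring
        exact (mul_eq_zero.mp h3).resolve_left h2
      have hv : IsUnit (1 - y) := by
        rw [hε, map_sub, map_one, hεy, sub_zero]; exact one_ne_zero
      set v' := Ring.inverse (1 - y) with hv'
      have e1 : (1 - y) * v' = 1 := Ring.mul_inverse_cancel _ hv
      have hv'u : IsUnit v' := IsUnit.of_mul_eq_one (1 - y) (by rw [mul_comm]; exact e1)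
      have a1 : (1 + y) * v' - 1 = 2 * y * v' := by
        calc (1 + y) * v' - 1 = (1 + y) * v' - (1 - y) * v' := by rw [e1]
          _ = 2 * y * v' := by ring
      have a2 : (1 + y) * v' + 1 = 2 * v' := by
        calc (1 + y) * v' + 1 = (1 + y) * v' + (1 - y) * v' := by rw [e1]
          _ = 2 * v' := by ring
      change ((1 + y) * v' - 1) * Ring.inverse ((1 + y) * v' + 1) = y
      rw [a1, a2]
      have hu : IsUnit (2 * v') := hu2.mul hv'u
      calc 2 * y * v' * Ring.inverse (2 * v') = y * ((2 * v') * Ring.inverse (2 * v')) := by ring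
        _ = y := by rw [Ring.mul_inverse_cancel _ hu, mul_one]
  rw [hunion, Finset.card_union_of_disjoint hdisj, hneg, hcay]
  ring

end Cfsg.Agent.Helper8.RegU
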