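import Cfsg.Agent.Helper8.JordanBasis
set_option autoImplicit false

namespace Cfsg.Agent.Helper8.RegU

open Polynomial Module
open Cfsg.Agent.Helper8.Jordan

variable {F : Type*} [Field F]

/-- the truncated polynomial ring -/
abbrev TP (F : Type*) [Field F] (n : ℕ) := AdjoinRoot (X ^ n : F[X])

theorem root_pow_eq_zero (n : ℕ) : (AdjoinRoot.root (X ^ n : F[X])) ^ n = 0 := by
  have := AdjoinRoot.mk_self (f := (X ^ n : F[X]))
  rwa [map_pow, AdjoinRoot.mk_X] at this

/-- the residue map -/
noncomputable def eps (n : ℕ) (hn : 1 ≤ n) : TP F n →+* F :=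
  AdjoinRoot.lift (RingHom.id F) 0 (by
    rw [eval₂_pow, eval₂_X, zero_pow (by omega)])

theorem eps_mk (n : ℕ) (hn : 1 ≤ n) (P : F[X]) :
    eps n hn (AdjoinRoot.mk (X ^ n : F[X]) P) = P.eval 0 := by
  unfold eps
  rw [AdjoinRoot.lift_mk]
  rfl

/-- the involution `X ↦ -X` -/
noncomputable def sig (n : ℕ) : TP F n →+* TP F n :=
  AdjoinRoot.lift (AdjoinRoot.of (X ^ n : F[X])) (-(AdjoinRoot.root (X ^ n : F[X]))) (by
    rw [eval₂_pow, eval₂_X, neg_pow, root_pow_eq_zero, mul_zero])

theorem sig_root (n : ℕ) : sig (F := F) n (AdjoinRoot.root _) = -(AdjoinRoot.root _) := by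
  unfold sig
  rw [AdjoinRoot.lift_root]

theorem sig_of (n : ℕ) (c : F) : sig (F := F) n (AdjoinRoot.of _ c) = AdjoinRoot.of _ c := by
  unfold sig
  rw [AdjoinRoot.lift_of]

theorem eps_sig (n : ℕ) (hn : 1 ≤ n) (z : TP F n) : eps n hn (sig n z) = eps n hn z := by
  induction z using AdjoinRoot.induction_on with
  | ih P =>
    induction P using Polynomial.induction_on' with
    | add p q hp hq => rw [map_add, map_add, map_add, hp, hq, map_add]
    | monomial k c =>
      rw [← C_mul_X_pow_eq_monomial, map_mul, map_pow, AdjoinRoot.mk_X, AdjoinRoot.mk_C,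
        map_mul, map_pow, sig_root, sig_of, map_mul, map_mul, map_pow, map_pow, map_neg]
      have h0 : eps (F := F) n hn (AdjoinRoot.root _) = 0 := by
        rw [← AdjoinRoot.mk_X, eps_mk, eval_X]
      rw [h0]
      rcases Nat.eq_zero_or_pos k with rfl | hk
      · simp
      · rw [neg_zero]

theorem isUnit_iff (n : ℕ) (hn : 1 ≤ n) (z : TP F n) : IsUnit z ↔ eps n hn z ≠ 0 := by
  constructor
  · intro h
    exact (h.map (eps n hn)).ne_zero
  · intro h
    induction z using AdjoinRoot.induction_on with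
    | ih P =>
      rw [eps_mk] at h
      have h1 : P = C (P.coeff 0) + X * P.divX := by
        rw [add_comm]; exact (X_mul_divX_add P).symm
      rw [h1, map_add, map_mul, AdjoinRoot.mk_X, AdjoinRoot.mk_C]
      apply IsNilpotent.isUnit_add_left_of_commute
      · apply Commute.isNilpotent_mul_right (Commute.all _ _)
        exact ⟨n, root_pow_eq_zero n⟩
      · apply IsUnit.map
        rw [coeff_zero_eq_eval_zero]
        exact isUnit_iff_ne_zero.mpr h
      · exact Commute.all _ _

theorem sig_smul (n : ℕ) (c : F) (y : TP F n) : sig n (c • y) = c • sig n y := by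
  rw [Algebra.smul_def, Algebra.smul_def, map_mul, AdjoinRoot.algebraMap_eq, sig_of]

theorem sig_qb0 (n : ℕ) (l : Fin n) :
    sig (F := F) n (qb0 n l) = ((-1 : F) ^ (l : ℕ)) • qb0 n l := by
  rw [qb0_apply, map_pow, AdjoinRoot.mk_X, map_pow, sig_root, neg_pow, Algebra.smul_def,
    map_pow, map_neg, map_one]

theorem repr_sig (n : ℕ) (y : TP F n) (l : Fin n) :
    (qb0 n).repr (sig n y) l = (-1 : F) ^ (l : ℕ) * (qb0 n).repr y l := by
  classical
  conv_lhs => rw [← (qb0 (F := F) n).sum_repr y]
  rw [map_sum]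
  simp only [sig_smul, sig_qb0, smul_smul]
  rw [map_sum, Finsupp.finsetSum_apply]
  simp only [map_smul, Basis.repr_self, Finsupp.smul_apply, Finsupp.single_apply, smul_eq_mul,
    mul_ite, mul_one, mul_zero]
  rw [Finset.sum_ite_eq' Finset.univ l]
  simp [mul_comm]

theorem sig_eq_neg_iff (n : ℕ) (h2 : (2 : F) ≠ 0) (y : TP F n) :
    sig n y = -y ↔ ∀ l : Fin n, Even (l : ℕ) → (qb0 n).repr y l = 0 := by
  constructor
  · intro h l hl
    have h1 := repr_sig n y l
    rw [h, map_neg, Finsupp.neg_apply, hl.neg_one_pow, one_mul] at h1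
    have h3 : (2 : F) * (qb0 n).repr y l = 0 := by
      have : (qb0 n).repr y l + (qb0 n).repr y l = 0 := by nth_rewrite 1 [← h1]; ring
      rw [← this]; ring
    exact (mul_eq_zero.mp h3).resolve_left h2
  · intro h
    apply (qb0 n).repr.injective
    ext l
    rw [repr_sig, map_neg, Finsupp.neg_apply]
    rcases Nat.even_or_odd (l : ℕ) with hl | hl
    · rw [h l hl, mul_zero, neg_zero]
    · rw [hl.neg_one_pow, neg_one_mul]

theorem prod_even_odd (q m : ℕ) :
    ∏ l : Fin (2 * m), (if Even (l : ℕ) then 1 else q) = q ^ m := by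
  rw [Fin.prod_univ_eq_prod_range (fun l => if Even l then 1 else q) (2 * m)]
  induction m with
  | zero => simp
  | succ m ih =>
    have : 2 * (m + 1) = 2 * m + 1 + 1 := by ring
    rw [this, Finset.prod_range_succ, Finset.prod_range_succ, ih]
    have h1 : Even (2 * m) := even_two_mul m
    have h2 : ¬ Even (2 * m + 1) := by
      rw [Nat.not_even_iff_odd]; exact odd_two_mul_add_one m
    rw [if_pos h1, if_neg h2, mul_one, pow_succ]

theorem card_skew [Fintype F] (m : ℕ) [Fintype (TP F (2 * m))] [DecidableEq (TP F (2 * m))]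
    (h2 : (2 : F) ≠ 0) :
    (Finset.univ.filter (fun y : TP F (2 * m) => sig (2 * m) y = -y)).card =
      Fintype.card F ^ m := by
  classical
  rw [← Fintype.card_subtype]
  let e : TP F (2 * m) ≃ (Fin (2 * m) → F) := (qb0 (2 * m)).equivFun.toEquiv
  have he : ∀ y l, e y l = (qb0 (2 * m)).repr y l := fun y l => rfl
  have h1 : Fintype.card {y : TP F (2 * m) // sig (2 * m) y = -y} =
      Fintype.card {c : Fin (2 * m) → F // ∀ l : Fin (2 * m), Even (l : ℕ) → c l = 0} := by
    apply Fintype.card_congr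
    refine e.subtypeEquiv ?_
    intro y
    rw [sig_eq_neg_iff (2 * m) h2]
    simp only [he]
  rw [h1, Fintype.card_congr (Equiv.subtypePiEquivPi
    (p := fun (l : Fin (2 * m)) (x : F) => Even (l : ℕ) → x = 0)), Fintype.card_pi]
  rw [← prod_even_odd (Fintype.card F) m]
  apply Finset.prod_congr rfl
  intro l _
  by_cases hl : Even (l : ℕ)
  · rw [if_pos hl]
    have : Fintype.card {x : F // Even (l : ℕ) → x = 0} = Fintype.card {x : F // x = 0} := by
      apply Fintype.card_congr
      exact Equiv.subtypeEquivRight (fun x => ⟨fun h => h hl, fun h _ => h⟩)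
    rw [this]
    simp
  · rw [if_neg hl]
    have : Fintype.card {x : F // Even (l : ℕ) → x = 0} = Fintype.card {x : F // True} := by
      apply Fintype.card_congr
      exact Equiv.subtypeEquivRight (fun x => ⟨fun _ => trivial, fun _ h => absurd h hl⟩)
    rw [this]
    simp

end Cfsg.Agent.Helper8.RegU
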