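import Cfsg.Agent.Helper8.RegUNilp
import Cfsg.Agent.Helper8.RegUTrunc
import Cfsg.Agent.Helper8.RegUCayley
set_option autoImplicit false

namespace Cfsg.Agent.Helper8.RegU

open Polynomial Matrix Module

variable {F : Type*} [Field F] {m : ℕ}

/-- the adjoint anti-involution of the symplectic form -/
def adj (z : Matrix (Fin m ⊕ Fin m) (Fin m ⊕ Fin m) F) : Matrix (Fin m ⊕ Fin m) (Fin m ⊕ Fin m) F :=
  -J (Fin m) F * zᵀ * J (Fin m) F

theorem adj_one : adj (1 : Matrix (Fin m ⊕ Fin m) (Fin m ⊕ Fin m) F) = 1 := by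
  unfold adj
  rw [Matrix.transpose_one, Matrix.mul_one, Matrix.neg_mul, J_squared, neg_neg]

theorem adj_mul (a b : Matrix (Fin m ⊕ Fin m) (Fin m ⊕ Fin m) F) :
    adj (a * b) = adj b * adj a := by
  unfold adj
  rw [Matrix.transpose_mul]
  have hJ : J (Fin m) F * -J (Fin m) F = 1 := by
    rw [Matrix.mul_neg, J_squared, neg_neg]
  calc -J (Fin m) F * (bᵀ * aᵀ) * J (Fin m) F
      = -J (Fin m) F * bᵀ * 1 * aᵀ * J (Fin m) F := by
        rw [Matrix.mul_one]; simp only [Matrix.mul_assoc]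
    _ = -J (Fin m) F * bᵀ * (J (Fin m) F * -J (Fin m) F) * aᵀ * J (Fin m) F := by rw [hJ]
    _ = -J (Fin m) F * bᵀ * J (Fin m) F * (-J (Fin m) F * aᵀ * J (Fin m) F) := by
        simp only [Matrix.mul_assoc]

theorem adj_add (a b : Matrix (Fin m ⊕ Fin m) (Fin m ⊕ Fin m) F) :
    adj (a + b) = adj a + adj b := by
  unfold adj
  rw [Matrix.transpose_add, Matrix.mul_add, Matrix.add_mul]

theorem adj_smul (c : F) (a : Matrix (Fin m ⊕ Fin m) (Fin m ⊕ Fin m) F) :
    adj (c • a) = c • adj a := by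
  unfold adj
  rw [Matrix.transpose_smul, Matrix.mul_smul, Matrix.smul_mul]

theorem adj_neg (a : Matrix (Fin m ⊕ Fin m) (Fin m ⊕ Fin m) F) : adj (-a) = -adj a := by
  unfold adj
  rw [Matrix.transpose_neg, Matrix.mul_neg, Matrix.neg_mul]

theorem adj_sub (a b : Matrix (Fin m ⊕ Fin m) (Fin m ⊕ Fin m) F) :
    adj (a - b) = adj a - adj b := by
  rw [sub_eq_add_neg, adj_add, adj_neg, ← sub_eq_add_neg]

theorem adj_pow (a : Matrix (Fin m ⊕ Fin m) (Fin m ⊕ Fin m) F) (k : ℕ) :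
    adj (a ^ k) = adj a ^ k := by
  induction k with
  | zero => rw [pow_zero, pow_zero, adj_one]
  | succ k ih => rw [pow_succ, adj_mul, ih, pow_succ']

theorem mem_symplectic_iff (z : Matrix (Fin m ⊕ Fin m) (Fin m ⊕ Fin m) F) :
    z ∈ symplecticGroup (Fin m) F ↔ z * adj z = 1 := by
  rw [SymplecticGroup.mem_iff]
  unfold adj
  constructor
  · intro h
    calc z * (-J (Fin m) F * zᵀ * J (Fin m) F)
        = -(z * J (Fin m) F * zᵀ * J (Fin m) F) := by
          simp only [Matrix.mul_assoc, Matrix.neg_mul, Matrix.mul_neg]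
      _ = 1 := by rw [h, J_squared, neg_neg]
  · intro h
    have h1 : z * J (Fin m) F * zᵀ * J (Fin m) F = -1 := by
      have : z * (-J (Fin m) F * zᵀ * J (Fin m) F) = -(z * J (Fin m) F * zᵀ * J (Fin m) F) := by
        simp only [Matrix.mul_assoc, Matrix.neg_mul, Matrix.mul_neg]
      rw [this] at h
      rw [← h, neg_neg]
    have h2 := congrArg (fun X => X * J (Fin m) F) h1
    simp only [Matrix.mul_assoc, J_squared] at h2
    simp only [Matrix.mul_neg, Matrix.mul_one, Matrix.neg_mul, Matrix.one_mul, neg_inj] at h2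
    rw [Matrix.mul_assoc]
    exact h2

theorem adj_coe (u : symplecticGroup (Fin m) F) :
    adj (u : Matrix (Fin m ⊕ Fin m) (Fin m ⊕ Fin m) F) =
      ((u⁻¹ : symplecticGroup (Fin m) F) : Matrix (Fin m ⊕ Fin m) (Fin m ⊕ Fin m) F) := by
  rw [SymplecticGroup.coe_inv]
  rfl

end Cfsg.Agent.Helper8.RegU
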