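import Cfsg.Agent.Helper8.RegUNorm
set_option autoImplicit false

namespace Cfsg.Agent.Helper8.RegU

open Polynomial Matrix Module

variable {F : Type*} [Field F] {m : ℕ}

local notation "Mat" => Matrix (Fin m ⊕ Fin m) (Fin m ⊕ Fin m) F

/-- the similitude with multiplier `c` -/
def simil (m : ℕ) (c : F) : Matrix (Fin m ⊕ Fin m) (Fin m ⊕ Fin m) F :=
  Matrix.fromBlocks (c • 1) 0 0 1

theorem simil_mul (c d : F) : simil m c * simil m d = simil m (c * d) := by
  unfold simil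
  rw [Matrix.fromBlocks_multiply]
  simp [smul_smul, mul_comm]

theorem simil_one : simil (F := F) m 1 = 1 := by
  unfold simil
  rw [one_smul, Matrix.fromBlocks_one]

theorem adj_simil (c : F) (hc : c ≠ 0) : adj (simil m c) = c • simil m c⁻¹ := by
  unfold adj simil Matrix.J
  rw [Matrix.fromBlocks_transpose, Matrix.fromBlocks_neg, Matrix.fromBlocks_multiply,
    Matrix.fromBlocks_multiply, Matrix.fromBlocks_smul]
  simp [smul_smul, hc]

theorem isSquare_mul_of_not [Fintype F] (a b : F) (ha : ¬ IsSquare a)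
    (hb : ¬ IsSquare b) : IsSquare (a * b) := by
  classical
  have ha0 : a ≠ 0 := by rintro rfl; exact ha ⟨0, by simp⟩
  have hb0 : b ≠ 0 := by rintro rfl; exact hb ⟨0, by simp⟩
  rw [← quadraticChar_neg_one_iff_not_isSquare] at ha hb
  rw [← quadraticChar_one_iff_isSquare (mul_ne_zero ha0 hb0), map_mul, ha, hb]
  norm_num

/-- the predicate of being a regular unipotent element -/
def IsRegU (u : symplecticGroup (Fin m) F) : Prop :=
  ((u : Mat) - 1) ^ (2 * m) = 0 ∧ ((u : Mat) - 1).rank = 2 * m - 1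

theorem conj_pow (g gi N : Mat) (hgi : gi * g = 1) (k : ℕ) (hk : 1 ≤ k) :
    (g * N * gi) ^ k = g * N ^ k * gi := by
  induction k with
  | zero => omega
  | succ k ih =>
    rcases Nat.eq_zero_or_pos k with rfl | hk'
    · simp
    · rw [pow_succ, ih hk', pow_succ]
      calc g * N ^ k * gi * (g * N * gi) = g * N ^ k * (gi * g) * N * gi := by
            simp only [Matrix.mul_assoc]
        _ = g * (N ^ k * N) * gi := by rw [hgi, Matrix.mul_one]; simp only [Matrix.mul_assoc]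

theorem eps_of (n : ℕ) (hn : 1 ≤ n) (t : F) : eps n hn (AdjoinRoot.of _ t) = t := by
  rw [← AdjoinRoot.mk_C, eps_mk, eval_C]

theorem Psi_of (T : Mat) (n : ℕ) (hT : T ^ n = 0) (t : F) :
    Psi T n hT (AdjoinRoot.of _ t) = t • (1 : Mat) := by
  rw [← AdjoinRoot.mk_C, Psi_mk, aeval_C, Algebra.algebraMap_eq_smul_one]

theorem exists_two_reps [Fintype F] (hodd : Odd (Fintype.card F)) (hm : 1 ≤ m) :
    ∃ u₀ u₁ : symplecticGroup (Fin m) F, IsRegU u₀ ∧ IsRegU u₁ ∧ ¬ IsConj u₁ u₀ ∧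
      ∀ u : symplecticGroup (Fin m) F, IsRegU u → IsConj u u₀ ∨ IsConj u u₁ := by
  classical
  have h2 : (2 : F) ≠ 0 := two_ne_zero_of_odd hodd
  have hn1 : 1 ≤ 2 * m := by omega
  obtain ⟨u₀, h01, h02⟩ := exists_regular_unipotent (F := F) h2 hm
  have hR := isRegNilp_Tm h2 hm u₀ h01 h02
  set Ψ := Psi (Tm u₀) (2 * m) hR.pow with hΨ
  have hchar : ringChar F ≠ 2 := by
    intro h
    apply h2
    have := ringChar.Nat.cast_ringChar (R := F)
    rw [h] at this
    exact_mod_cast this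
  obtain ⟨c₀, hc₀⟩ := FiniteField.exists_nonsquare hchar
  have hc₀0 : c₀ ≠ 0 := by rintro rfl; exact hc₀ ⟨0, by simp⟩
  set g₁ : Mat := simil m c₀ with hg₁
  set gi₁ : Mat := simil m c₀⁻¹ with hgi₁
  have hgg : g₁ * gi₁ = 1 := by rw [hg₁, hgi₁, simil_mul, mul_inv_cancel₀ hc₀0, simil_one]
  have hgig : gi₁ * g₁ = 1 := by rw [hg₁, hgi₁, simil_mul, inv_mul_cancel₀ hc₀0, simil_one]
  have hadjg : adj g₁ = c₀ • gi₁ := adj_simil c₀ hc₀0
  have hadjgi : adj gi₁ = c₀⁻¹ • g₁ := by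
    have := adj_simil (m := m) c₀⁻¹ (inv_ne_zero hc₀0)
    rwa [inv_inv] at this
  have hadjgg : adj g₁ * g₁ = c₀ • (1 : Mat) := by
    rw [hadjg, Matrix.smul_mul, hgig]
  -- the second representative
  have hu₀adj : (u₀ : Mat) * adj (u₀ : Mat) = 1 := (mem_symplectic_iff _).mp u₀.2
  have hu₁mem : g₁ * (u₀ : Mat) * gi₁ ∈ symplecticGroup (Fin m) F := by
    rw [mem_symplectic_iff, adj_mul, adj_mul, hadjg, hadjgi]
    calc g₁ * (u₀ : Mat) * gi₁ * (c₀⁻¹ • g₁ * (adj (u₀ : Mat) * c₀ • gi₁))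
        = (c₀ * c₀⁻¹) • (g₁ * (u₀ : Mat) * (gi₁ * g₁) * adj (u₀ : Mat) * gi₁) := by
          simp only [Matrix.mul_smul, Matrix.smul_mul, smul_smul, Matrix.mul_assoc]
      _ = g₁ * ((u₀ : Mat) * adj (u₀ : Mat)) * gi₁ := by
          rw [mul_inv_cancel₀ hc₀0, one_smul, hgig, Matrix.mul_one]
          simp only [Matrix.mul_assoc]
      _ = 1 := by rw [hu₀adj, Matrix.mul_one, hgg]
  set u₁ : symplecticGroup (Fin m) F := ⟨g₁ * (u₀ : Mat) * gi₁, hu₁mem⟩ with hu₁
  have hu₁coe : (u₁ : Mat) = g₁ * (u₀ : Mat) * gi₁ := rfl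
  have hu₁N : (u₁ : Mat) - 1 = g₁ * ((u₀ : Mat) - 1) * gi₁ := by
    rw [hu₁coe, Matrix.mul_sub, Matrix.sub_mul, Matrix.mul_one, hgg]
  have hconj₁ : g₁ * (u₀ : Mat) = (u₁ : Mat) * g₁ := by
    rw [hu₁coe, Matrix.mul_assoc, hgig, Matrix.mul_one]
  have hreg₁ : IsRegU u₁ := by
    refine ⟨?_, ?_⟩
    · rw [hu₁N, conj_pow _ _ _ hgig _ hn1, h01, Matrix.mul_zero, Matrix.zero_mul]
    · rw [hu₁N]
      have hu1 : IsUnit g₁ := ⟨⟨g₁, gi₁, hgg, hgig⟩, rfl⟩
      have hu2 : IsUnit gi₁ := ⟨⟨gi₁, g₁, hgig, hgg⟩, rfl⟩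
      rw [Matrix.rank_mul_eq_left_of_isUnit_det _ _ ((Matrix.isUnit_iff_isUnit_det _).mp hu2),
        Matrix.rank_mul_eq_right_of_isUnit_det _ _ ((Matrix.isUnit_iff_isUnit_det _).mp hu1), h02]
  have hΨ1 : Ψ 1 = adj (1 : Mat) * 1 := by rw [map_one, adj_one, Matrix.mul_one]
  have hΨc : Ψ (AdjoinRoot.of _ c₀) = adj g₁ * g₁ := by rw [hadjgg, hΨ, Psi_of]
  have h1u : (1 : Mat) * (u₀ : Mat) = (u₀ : Mat) * 1 := by rw [Matrix.one_mul, Matrix.mul_one]
  refine ⟨u₀, u₁, ⟨h01, h02⟩, hreg₁, ?_, ?_⟩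
  · -- non-conjugacy
    intro hconj
    obtain ⟨a, ha⟩ := norm_of_isConj u₀ u₁ u₀ hR g₁ gi₁ 1 1 hgg hgig (Matrix.one_mul 1)
      (Matrix.one_mul 1) hconj₁ h1u (AdjoinRoot.of _ c₀) 1 hΨc hΨ1 hconj
    have := congrArg (eps (2 * m) hn1) ha
    rw [eps_of, map_mul, map_mul, map_one, mul_one, eps_sig] at this
    exact hc₀ ⟨_, this⟩
  · -- every regular unipotent is conjugate to one of the two
    intro u hu
    have hRu : IsRegNilp ((u : Mat) - 1) (2 * m) :=
      ⟨by rw [Fintype.card_sum, Fintype.card_fin]; ring, hn1, hu.1, hu.2⟩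
    have hR₀ : IsRegNilp ((u₀ : Mat) - 1) (2 * m) :=
      ⟨by rw [Fintype.card_sum, Fintype.card_fin]; ring, hn1, h01, h02⟩
    obtain ⟨g, gi, hg, hgi, hgN⟩ := exists_intertwiner _ _ (2 * m) hR₀ hRu
    have hconj : g * (u₀ : Mat) = (u : Mat) * g := by
      rw [Matrix.mul_sub, Matrix.sub_mul, Matrix.mul_one, Matrix.one_mul] at hgN
      exact sub_left_injective hgN
    have hcomm := commute_adj_mul u₀ u g hconj
    obtain ⟨r, hr⟩ := exists_Psi_eq u₀ hR _ hcomm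
    have hsig : sig (2 * m) r = r := by
      apply Psi_injective (Tm u₀) (2 * m) hR
      rw [Psi_sig (Tm u₀) (2 * m) hR.pow (adj_Tm u₀), hr, adj_mul, adj_adj]
    -- `r` is a unit
    have hrunit : eps (2 * m) hn1 r ≠ 0 := by
      rw [← isUnit_iff]
      set hi : Mat := gi * adj gi with hhi
      have e1 : (adj g * g) * hi = 1 := by
        calc adj g * g * (gi * adj gi) = adj g * (g * gi) * adj gi := by
              simp only [Matrix.mul_assoc]
          _ = 1 := by rw [hg, Matrix.mul_one, ← adj_mul, hgi, adj_one]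
      have e2 : hi * (adj g * g) = 1 := mul_eq_one_comm.mp e1
      have hcomm' : hi * (u₀ : Mat) = (u₀ : Mat) * hi := inv_conj_eq _ _ _ _ e1 e2 hcomm
      obtain ⟨ri, hri⟩ := exists_Psi_eq u₀ hR _ hcomm'
      have : r * ri = 1 := by
        apply Psi_injective (Tm u₀) (2 * m) hR
        rw [map_mul, hr, hri, e1, map_one]
      exact IsUnit.of_mul_eq_one ri this
    by_cases hsq : IsSquare (eps (2 * m) hn1 r)
    · left
      obtain ⟨c, hc⟩ := hsq
      have hc0 : c ≠ 0 := by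
        rintro rfl
        rw [mul_zero] at hc
        exact hrunit hc
      obtain ⟨a, ha⟩ := exists_mul_sig_eq h2 (2 * m) hn1 r hsig c hc0 hc
      exact isConj_of_norm u₀ u u₀ hR g gi 1 hg hgi hconj h1u r 1 a hr hΨ1
        (by rw [mul_one, mul_comm (sig (2 * m) a) a]; exact ha.symm)
    · right
      obtain ⟨c, hc⟩ := isSquare_mul_of_not _ _ hsq hc₀
      set r₂ : TP F (2 * m) := AdjoinRoot.of _ c₀⁻¹ * r with hr₂
      have hr₂σ : sig (2 * m) r₂ = r₂ := by rw [hr₂, map_mul, sig_of, hsig]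
      have hr₂ε : eps (2 * m) hn1 r₂ = (c₀⁻¹ * c) * (c₀⁻¹ * c) := by
        rw [hr₂, map_mul, eps_of]
        have : eps (2 * m) hn1 r = c₀⁻¹ * (c * c) := by
          rw [← hc, mul_comm (eps (2 * m) hn1 r), ← mul_assoc, inv_mul_cancel₀ hc₀0, one_mul]
        rw [this]; ring
      have hcc0 : c₀⁻¹ * c ≠ 0 := by
        apply mul_ne_zero (inv_ne_zero hc₀0)
        rintro rfl
        rw [mul_zero] at hc
        exact (mul_ne_zero hrunit hc₀0) hc
      obtain ⟨a, ha⟩ := exists_mul_sig_eq h2 (2 * m) hn1 r₂ hr₂σ _ hcc0 hr₂ε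
      refine isConj_of_norm u₀ u u₁ hR g gi g₁ hg hgi hconj hconj₁ r (AdjoinRoot.of _ c₀) a hr hΨc ?_
      have : r = AdjoinRoot.of _ c₀ * r₂ := by
        rw [hr₂, ← mul_assoc, ← map_mul, mul_inv_cancel₀ hc₀0, map_one, one_mul]
      rw [this, ← ha]; ring


theorem card_regU_classes [Fintype F] (hodd : Odd (Fintype.card F)) (hm : 1 ≤ m) :
    Nat.card {C : ConjClasses (symplecticGroup (Fin m) F) //
      ∃ u : symplecticGroup (Fin m) F, ConjClasses.mk u = C ∧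
        ((u : Mat) - 1) ^ (2 * m) = 0 ∧ ((u : Mat) - 1).rank = 2 * m - 1} = 2 := by
  obtain ⟨u₀, u₁, h0, h1, hne, hall⟩ := exists_two_reps (F := F) hodd hm
  have hset : {C : ConjClasses (symplecticGroup (Fin m) F) |
      ∃ u : symplecticGroup (Fin m) F, ConjClasses.mk u = C ∧
        ((u : Mat) - 1) ^ (2 * m) = 0 ∧ ((u : Mat) - 1).rank = 2 * m - 1} =
      {ConjClasses.mk u₁, ConjClasses.mk u₀} := by
    ext C
    simp only [Set.mem_ofPred_eq, Set.mem_insert_iff, Set.mem_singleton_iff]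
    constructor
    · rintro ⟨u, rfl, hu⟩
      rcases hall u hu with h | h
      · right; exact ConjClasses.mk_eq_mk_iff_isConj.mpr h
      · left; exact ConjClasses.mk_eq_mk_iff_isConj.mpr h
    · rintro (rfl | rfl)
      · exact ⟨u₁, rfl, h1⟩
      · exact ⟨u₀, rfl, h0⟩
  have hne' : (ConjClasses.mk u₁ : ConjClasses (symplecticGroup (Fin m) F)) ≠ ConjClasses.mk u₀ := by
    intro h
    exact hne (ConjClasses.mk_eq_mk_iff_isConj.mp h)
  have := Set.ncard_pair hne'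
  rw [← hset, ← _root_.Nat.card_coe_set_eq] at this
  exact this

end Cfsg.Agent.Helper8.RegU
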