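import Cfsg.Agent.Helper8.RegUPsi
set_option autoImplicit false

namespace Cfsg.Agent.Helper8.RegU

open Polynomial Matrix Module

variable {F : Type*} [Field F] {m : ℕ}

local notation "Mat" => Matrix (Fin m ⊕ Fin m) (Fin m ⊕ Fin m) F

theorem two_ne_zero_of_odd [Fintype F] (hodd : Odd (Fintype.card F)) : (2 : F) ≠ 0 := by
  intro h
  have hc : ringChar F = 2 := by
    have : CharP F 2 := CharTwo.of_one_ne_zero_of_two_eq_zero one_ne_zero h
    exact ringChar.eq F 2
  have : Even (Fintype.card F) :=
    Nat.even_iff.mpr ((FiniteField.even_card_iff_char_two (F := F)).mp hc)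
  exact (Nat.not_even_iff_odd.mpr hodd) this

theorem commute_Psi (T : Mat) (n : ℕ) (hT : T ^ n = 0) (a : Mat) (ha : Commute a T)
    (r : TP F n) : Commute a (Psi T n hT r) := by
  induction r using AdjoinRoot.induction_on with
  | ih P =>
    rw [Psi_mk]
    induction P using Polynomial.induction_on' with
    | add p q hp hq => rw [map_add]; exact hp.add_right hq
    | monomial k c =>
      rw [← C_mul_X_pow_eq_monomial, map_mul, map_pow, aeval_X, aeval_C,
        Algebra.algebraMap_eq_smul_one, Matrix.smul_mul, Matrix.one_mul]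
      exact (ha.pow_right k).smul_right c

theorem card_centralizer [Fintype F] (hodd : Odd (Fintype.card F)) (hm : 1 ≤ m)
    (u : symplecticGroup (Fin m) F) (hnil : ((u : Mat) - 1) ^ (2 * m) = 0)
    (hreg : ((u : Mat) - 1).rank = 2 * m - 1) :
    Nat.card (Subgroup.centralizer ({u} : Set (symplecticGroup (Fin m) F))) =
      2 * Fintype.card F ^ m := by
  classical
  have h2 : (2 : F) ≠ 0 := two_ne_zero_of_odd hodd
  have hR := isRegNilp_Tm h2 hm u hnil hreg
  set T := Tm u with hT
  set n := 2 * m with hn
  have hn1 : 1 ≤ n := by omega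
  have : Module.Finite F (TP F n) := (monic_X_pow n).finite_adjoinRoot
  have : Finite (TP F n) := Module.finite_of_finite F
  haveI : Fintype (TP F n) := Fintype.ofFinite _
  have hcount : Nat.card {r : TP F n // r * sig n r = 1} = 2 * Fintype.card F ^ m := by
    rw [Nat.card_eq_fintype_card, Fintype.card_subtype,
      card_norm_one_eq h2 (eps n hn1) (isUnit_iff n hn1) (sig n) (eps_sig n hn1), card_skew m h2]
  rw [← hcount]
  symm
  have hΨ1 : ∀ r : TP F n, r * sig n r = 1 →
      Psi T n hR.pow r ∈ symplecticGroup (Fin m) F := by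
    intro r hr
    rw [mem_symplectic_iff, ← Psi_sig T n hR.pow (adj_Tm u), ← map_mul, hr, map_one]
  have hcommT : Commute (u : Mat) T := commute_coe_Tm u
  let f : {r : TP F n // r * sig n r = 1} →
      Subgroup.centralizer ({u} : Set (symplecticGroup (Fin m) F)) := fun r =>
    ⟨⟨Psi T n hR.pow r.1, hΨ1 r.1 r.2⟩, by
      rw [Subgroup.mem_centralizer_iff]
      intro h hh
      rw [Set.mem_singleton_iff] at hh
      subst hh
      apply Subtype.ext
      rw [Submonoid.coe_mul, Submonoid.coe_mul]
      exact (commute_Psi T n hR.pow (h : Mat) hcommT r.1).eq⟩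
  apply Nat.card_eq_of_bijective f
  constructor
  · intro r r' hrr'
    have h1 := congrArg (fun g : Subgroup.centralizer ({u} : Set (symplecticGroup (Fin m) F)) =>
      ((g : symplecticGroup (Fin m) F) : Mat)) hrr'
    exact Subtype.ext (Psi_injective T n hR h1)
  · intro g
    have hg : u * (g : symplecticGroup (Fin m) F) = (g : symplecticGroup (Fin m) F) * u := by
      have := g.2
      rw [Subgroup.mem_centralizer_iff] at this
      exact this u (Set.mem_singleton u)
    have hg1 : Commute (g : symplecticGroup (Fin m) F) u := hg.symm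
    have hg2 : Commute (g : symplecticGroup (Fin m) F) u⁻¹ := hg1.inv_right
    set z : Mat := ((g : symplecticGroup (Fin m) F) : Mat) with hz
    have c1 : z * (u : Mat) = (u : Mat) * z := by
      have := congrArg (fun x : symplecticGroup (Fin m) F => (x : Mat)) hg1.eq
      simpa [Submonoid.coe_mul] using this
    have c2 : z * ((u⁻¹ : symplecticGroup (Fin m) F) : Mat) =
        ((u⁻¹ : symplecticGroup (Fin m) F) : Mat) * z := by
      have := congrArg (fun x : symplecticGroup (Fin m) F => (x : Mat)) hg2.eq
      simpa [Submonoid.coe_mul] using this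
    have c3 : z * T = T * z := by
      rw [hT, Tm, Matrix.mul_sub, Matrix.sub_mul, c1, c2]
    obtain ⟨P, hP⟩ := (hR.commute_iff z).mp c3
    have hzr : Psi T n hR.pow (AdjoinRoot.mk _ P) = z := by rw [Psi_mk, hP]
    have hr1 : AdjoinRoot.mk (X ^ n : F[X]) P * sig n (AdjoinRoot.mk _ P) = 1 := by
      apply Psi_injective T n hR
      rw [map_mul, Psi_sig T n hR.pow (adj_Tm u), hzr, map_one]
      exact (mem_symplectic_iff z).mp (g : symplecticGroup (Fin m) F).2
    refine ⟨⟨AdjoinRoot.mk _ P, hr1⟩, ?_⟩
    apply Subtype.ext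
    apply Subtype.ext
    exact hzr

end Cfsg.Agent.Helper8.RegU
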