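import Cfsg.Agent.Helper8.RegUSqrt
set_option autoImplicit false

namespace Cfsg.Agent.Helper8.RegU

open Polynomial Matrix Module

variable {F : Type*} [Field F] {m : ℕ}

local notation "Mat" => Matrix (Fin m ⊕ Fin m) (Fin m ⊕ Fin m) F

theorem inv_conj_eq (g gi a b : Mat) (hg : g * gi = 1) (hgi : gi * g = 1)
    (h : g * a = b * g) : gi * b = a * gi := by
  calc gi * b = gi * b * (g * gi) := by rw [hg, Matrix.mul_one]
    _ = gi * (b * g) * gi := by simp only [Matrix.mul_assoc]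
    _ = gi * (g * a) * gi := by rw [h]
    _ = (gi * g) * a * gi := by simp only [Matrix.mul_assoc]
    _ = a * gi := by rw [hgi, Matrix.one_mul]

/-- (ML) sufficient condition for conjugacy in the symplectic group -/
theorem isConj_of_norm (u₀ u u' : symplecticGroup (Fin m) F) (hR : IsRegNilp (Tm u₀) (2 * m))
    (g gi g' : Mat) (hg : g * gi = 1) (hgi : gi * g = 1)
    (hconj : g * (u₀ : Mat) = (u : Mat) * g) (hconj' : g' * (u₀ : Mat) = (u' : Mat) * g')
    (r r' a : TP F (2 * m)) (hr : Psi (Tm u₀) (2 * m) hR.pow r = adj g * g)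
    (hr' : Psi (Tm u₀) (2 * m) hR.pow r' = adj g' * g')
    (hra : r = sig (2 * m) a * r' * a) : IsConj u u' := by
  set Ψ := Psi (Tm u₀) (2 * m) hR.pow with hΨ
  set s : Mat := g' * Ψ a * gi with hs
  have hcomm : Commute (u₀ : Mat) (Ψ a) :=
    commute_Psi (Tm u₀) (2 * m) hR.pow (u₀ : Mat) (commute_coe_Tm u₀) a
  have h1 : gi * (u : Mat) = (u₀ : Mat) * gi := inv_conj_eq g gi _ _ hg hgi hconj
  have hsu : s * (u : Mat) = (u' : Mat) * s := by
    calc s * (u : Mat) = g' * Ψ a * (gi * (u : Mat)) := by rw [hs]; simp only [Matrix.mul_assoc]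
      _ = g' * (Ψ a * (u₀ : Mat)) * gi := by rw [h1]; simp only [Matrix.mul_assoc]
      _ = g' * ((u₀ : Mat) * Ψ a) * gi := by rw [hcomm.eq]
      _ = (g' * (u₀ : Mat)) * Ψ a * gi := by simp only [Matrix.mul_assoc]
      _ = (u' : Mat) * s := by rw [hconj', hs]; simp only [Matrix.mul_assoc]
  have hadjs : adj s = adj gi * Ψ (sig (2 * m) a) * adj g' := by
    rw [hs, adj_mul, adj_mul, ← Psi_sig (Tm u₀) (2 * m) hR.pow (adj_Tm u₀), Matrix.mul_assoc]
  have hsSp : s ∈ symplecticGroup (Fin m) F := by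
    rw [mem_symplectic_iff', hadjs, hs]
    calc adj gi * Ψ (sig (2 * m) a) * adj g' * (g' * Ψ a * gi)
        = adj gi * (Ψ (sig (2 * m) a) * (adj g' * g') * Ψ a) * gi := by
          simp only [Matrix.mul_assoc]
      _ = adj gi * Ψ r * gi := by rw [← hr', ← map_mul, ← map_mul, ← hra]
      _ = (adj gi * adj g) * (g * gi) := by rw [hr]; simp only [Matrix.mul_assoc]
      _ = 1 := by rw [← adj_mul, hg, adj_one, Matrix.mul_one]
  rw [isConj_iff]
  refine ⟨⟨s, hsSp⟩, ?_⟩
  rw [mul_inv_eq_iff_eq_mul]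
  apply Subtype.ext
  rw [Submonoid.coe_mul, Submonoid.coe_mul]
  exact hsu

/-- (NC) necessary condition for conjugacy in the symplectic group -/
theorem norm_of_isConj (u₀ u u' : symplecticGroup (Fin m) F) (hR : IsRegNilp (Tm u₀) (2 * m))
    (g gi g' gi' : Mat) (hg : g * gi = 1) (hgi : gi * g = 1) (hg' : g' * gi' = 1)
    (hgi' : gi' * g' = 1)
    (hconj : g * (u₀ : Mat) = (u : Mat) * g) (hconj' : g' * (u₀ : Mat) = (u' : Mat) * g')
    (r r' : TP F (2 * m)) (hr : Psi (Tm u₀) (2 * m) hR.pow r = adj g * g)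
    (hr' : Psi (Tm u₀) (2 * m) hR.pow r' = adj g' * g') (hc : IsConj u u') :
    ∃ a : TP F (2 * m), r = sig (2 * m) a * r' * a := by
  set Ψ := Psi (Tm u₀) (2 * m) hR.pow with hΨ
  rw [isConj_iff] at hc
  obtain ⟨S, hS⟩ := hc
  rw [mul_inv_eq_iff_eq_mul] at hS
  set s : Mat := (S : Mat) with hs
  have hsu : s * (u : Mat) = (u' : Mat) * s := by
    have := congrArg (fun x : symplecticGroup (Fin m) F => (x : Mat)) hS
    simpa [Submonoid.coe_mul] using this
  have h1 : gi' * (u' : Mat) = (u₀ : Mat) * gi' := inv_conj_eq g' gi' _ _ hg' hgi' hconj'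
  set z : Mat := gi' * s * g with hz
  have hzu : z * (u₀ : Mat) = (u₀ : Mat) * z := by
    calc z * (u₀ : Mat) = gi' * s * (g * (u₀ : Mat)) := by rw [hz]; simp only [Matrix.mul_assoc]
      _ = gi' * (s * (u : Mat)) * g := by rw [hconj]; simp only [Matrix.mul_assoc]
      _ = (gi' * (u' : Mat)) * s * g := by rw [hsu]; simp only [Matrix.mul_assoc]
      _ = (u₀ : Mat) * z := by rw [h1, hz]; simp only [Matrix.mul_assoc]
  obtain ⟨a, ha⟩ := exists_Psi_eq u₀ hR z hzu
  refine ⟨a, ?_⟩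
  have hsz : s = g' * Ψ a * gi := by
    rw [ha, hz]
    calc s = (g' * gi') * s * (g * gi) := by rw [hg, hg', Matrix.one_mul, Matrix.mul_one]
      _ = g' * (gi' * s * g) * gi := by simp only [Matrix.mul_assoc]
  have hsSp : adj s * s = 1 := (mem_symplectic_iff' s).mp S.2
  have hadjs : adj s = adj gi * Ψ (sig (2 * m) a) * adj g' := by
    rw [hsz, adj_mul, adj_mul, ← Psi_sig (Tm u₀) (2 * m) hR.pow (adj_Tm u₀), Matrix.mul_assoc]
  have h3 : adj gi * Ψ (sig (2 * m) a * r' * a) * gi = 1 := by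
    rw [← hsSp, hadjs]
    conv_rhs => rw [hsz]
    rw [map_mul, map_mul, hr']
    simp only [Matrix.mul_assoc]
  have h4 : Ψ (sig (2 * m) a * r' * a) = adj g * g := by
    have hgg : adj g * adj gi = 1 := by rw [← adj_mul, hgi, adj_one]
    calc Ψ (sig (2 * m) a * r' * a)
        = (adj g * adj gi) * Ψ (sig (2 * m) a * r' * a) * (gi * g) := by
          rw [hgg, hgi, Matrix.one_mul, Matrix.mul_one]
      _ = adj g * (adj gi * Ψ (sig (2 * m) a * r' * a) * gi) * g := by
          simp only [Matrix.mul_assoc]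
      _ = adj g * g := by rw [h3, Matrix.mul_one]
  apply Psi_injective (Tm u₀) (2 * m) hR
  rw [hr, ← h4]

end Cfsg.Agent.Helper8.RegU
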