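import Cfsg.Agent.Helper8.RegUTm
set_option autoImplicit false

namespace Cfsg.Agent.Helper8.RegU

open Polynomial Matrix Module

variable {F : Type*} [Field F] {m : ℕ}

local notation "Mat" => Matrix (Fin m ⊕ Fin m) (Fin m ⊕ Fin m) F

/-- the truncated polynomial ring mapped to the polynomials in `T` -/
noncomputable def Psi (T : Mat) (n : ℕ) (hT : T ^ n = 0) : TP F n →ₐ[F] Mat :=
  Ideal.Quotient.liftₐ (Ideal.span {(X ^ n : F[X])}) (aeval T) (by
    intro a ha
    obtain ⟨w, rfl⟩ := Ideal.mem_span_singleton.mp ha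
    rw [map_mul, map_pow, aeval_X, hT, zero_mul])

theorem Psi_mk (T : Mat) (n : ℕ) (hT : T ^ n = 0) (P : F[X]) :
    Psi T n hT (AdjoinRoot.mk (X ^ n : F[X]) P) = aeval T P := rfl

theorem Psi_injective (T : Mat) (n : ℕ) (h : IsRegNilp T n) :
    Function.Injective (Psi T n h.pow) := by
  rw [injective_iff_map_eq_zero]
  intro r hr
  induction r using AdjoinRoot.induction_on with
  | ih P =>
    rw [Psi_mk, h.aeval_eq_zero_iff] at hr
    exact AdjoinRoot.mk_eq_zero.mpr hr

theorem Psi_sig (T : Mat) (n : ℕ) (hT : T ^ n = 0) (hadj : adj T = -T) (r : TP F n) :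
    Psi T n hT (sig n r) = adj (Psi T n hT r) := by
  induction r using AdjoinRoot.induction_on with
  | ih P =>
    induction P using Polynomial.induction_on' with
    | add p q hp hq => rw [map_add, map_add, map_add, hp, hq, map_add, adj_add]
    | monomial k c =>
      rw [← C_mul_X_pow_eq_monomial, map_mul, map_pow, AdjoinRoot.mk_X, AdjoinRoot.mk_C,
        map_mul, map_pow, sig_root, sig_of, map_mul, map_pow, map_neg, map_mul, map_pow]
      have h1 : Psi T n hT (AdjoinRoot.root _) = T := by
        rw [← AdjoinRoot.mk_X, Psi_mk, aeval_X]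
      have h2 : Psi T n hT (AdjoinRoot.of _ c) = c • (1 : Mat) := by
        rw [← AdjoinRoot.mk_C, Psi_mk, aeval_C, Algebra.algebraMap_eq_smul_one]
      rw [h1, h2, adj_mul, adj_pow, hadj, adj_smul, adj_one]
      rw [Matrix.smul_mul, Matrix.one_mul, Matrix.mul_smul, Matrix.mul_one]

end Cfsg.Agent.Helper8.RegU
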