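import Cfsg.Agent.Helper8.RegUComm
set_option autoImplicit false

namespace Cfsg.Agent.Helper8.RegU

open Polynomial Matrix Module

variable {F : Type*} [Field F] {m : ℕ}

local notation "Mat" => Matrix (Fin m ⊕ Fin m) (Fin m ⊕ Fin m) F

/-- square roots of norm-like elements of the truncated polynomial ring -/
theorem exists_mul_sig_eq [Finite F] (h2 : (2 : F) ≠ 0) (n : ℕ) (hn : 1 ≤ n) (r : TP F n)
    (hr : sig n r = r) (c : F) (hc : c ≠ 0) (hrc : eps n hn r = c * c) :
    ∃ a : TP F n, a * sig n a = r := by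
  have : Module.Finite F (TP F n) := (monic_X_pow n).finite_adjoinRoot
  have : Finite (TP F n) := Module.finite_of_finite F
  let U := {x : TP F n // eps n hn x = 1}
  let sq : U → U := fun x => ⟨x.1 * x.1, by rw [map_mul, x.2, one_mul]⟩
  have hinj : Function.Injective sq := by
    intro x y hxy
    have h1 : x.1 * x.1 = y.1 * y.1 := congrArg Subtype.val hxy
    have h3 : (x.1 - y.1) * (x.1 + y.1) = 0 := by
      have : (x.1 - y.1) * (x.1 + y.1) = x.1 * x.1 - y.1 * y.1 := by ring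
      rw [this, h1, sub_self]
    have hu : IsUnit (x.1 + y.1) := by
      rw [isUnit_iff n hn, map_add, x.2, y.2]
      have : (1 : F) + 1 = 2 := by norm_num
      rw [this]; exact h2
    have := hu.mul_left_eq_zero.mp h3
    exact Subtype.ext (sub_eq_zero.mp this)
  have hsurj : Function.Surjective sq := Finite.injective_iff_surjective.mp hinj
  set r₁ : TP F n := AdjoinRoot.of _ (c * c)⁻¹ * r with hr₁
  have hεof : ∀ t : F, eps n hn (AdjoinRoot.of _ t) = t := by
    intro t
    rw [← AdjoinRoot.mk_C, eps_mk, eval_C]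
  have hr₁ε : eps n hn r₁ = 1 := by
    rw [hr₁, map_mul, hεof, hrc, inv_mul_cancel₀ (mul_ne_zero hc hc)]
  have hr₁σ : sig n r₁ = r₁ := by rw [hr₁, map_mul, sig_of, hr]
  obtain ⟨s, hs⟩ := hsurj ⟨r₁, hr₁ε⟩
  have hs1 : s.1 * s.1 = r₁ := congrArg Subtype.val hs
  have hσs : sig n s.1 = s.1 := by
    let s' : U := ⟨sig n s.1, by rw [eps_sig, s.2]⟩
    have : sq s' = sq s := by
      apply Subtype.ext
      change sig n s.1 * sig n s.1 = s.1 * s.1
      rw [← map_mul, hs1, hr₁σ]
    exact congrArg Subtype.val (hinj this)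
  refine ⟨AdjoinRoot.of _ c * s.1, ?_⟩
  rw [map_mul, sig_of, hσs]
  calc AdjoinRoot.of _ c * s.1 * (AdjoinRoot.of _ c * s.1)
      = AdjoinRoot.of _ (c * c) * (s.1 * s.1) := by rw [map_mul]; ring
    _ = r := by
        rw [hs1, hr₁, ← mul_assoc, ← map_mul, mul_inv_cancel₀ (mul_ne_zero hc hc), map_one, one_mul]

/-- (KL) -/
theorem commute_adj_mul (u₀ u : symplecticGroup (Fin m) F) (g : Mat)
    (hconj : g * (u₀ : Mat) = (u : Mat) * g) :
    (adj g * g) * (u₀ : Mat) = (u₀ : Mat) * (adj g * g) := by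
  have h1 : adj (u₀ : Mat) * adj g = adj g * adj (u : Mat) := by
    rw [← adj_mul, ← adj_mul, hconj]
  rw [adj_coe, adj_coe] at h1
  have h2 : adj g * (u : Mat) = (u₀ : Mat) * adj g := by
    calc adj g * (u : Mat) = (u₀ : Mat) * (((u₀⁻¹ : symplecticGroup (Fin m) F) : Mat) * adj g) *
          (u : Mat) := by rw [← Matrix.mul_assoc, coe_mul_inv, Matrix.one_mul]
      _ = (u₀ : Mat) * (adj g * ((u⁻¹ : symplecticGroup (Fin m) F) : Mat)) * (u : Mat) := by rw [h1]
      _ = (u₀ : Mat) * adj g * (((u⁻¹ : symplecticGroup (Fin m) F) : Mat) * (u : Mat)) := by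
          simp only [Matrix.mul_assoc]
      _ = (u₀ : Mat) * adj g := by rw [coe_inv_mul, Matrix.mul_one]
  calc adj g * g * (u₀ : Mat) = adj g * (g * (u₀ : Mat)) := by rw [Matrix.mul_assoc]
    _ = adj g * ((u : Mat) * g) := by rw [hconj]
    _ = (adj g * (u : Mat)) * g := by rw [Matrix.mul_assoc]
    _ = (u₀ : Mat) * (adj g * g) := by rw [h2, Matrix.mul_assoc]

end Cfsg.Agent.Helper8.RegU
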