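import Cfsg.Agent.Helper8.RegUAdj
set_option autoImplicit false

namespace Cfsg.Agent.Helper8.RegU

open Polynomial Matrix Module

variable {F : Type*} [Field F] {m : ℕ}

local notation "Mat" => Matrix (Fin m ⊕ Fin m) (Fin m ⊕ Fin m) F

theorem coe_mul_inv (u : symplecticGroup (Fin m) F) :
    (u : Mat) * ((u⁻¹ : symplecticGroup (Fin m) F) : Mat) = 1 := by
  have h : u * u⁻¹ = 1 := mul_inv_cancel u
  have h1 : ((u * u⁻¹ : symplecticGroup (Fin m) F) : Mat) =
      ((1 : symplecticGroup (Fin m) F) : Mat) := by rw [h]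
  rwa [Submonoid.coe_mul, Submonoid.coe_one] at h1

theorem coe_inv_mul (u : symplecticGroup (Fin m) F) :
    ((u⁻¹ : symplecticGroup (Fin m) F) : Mat) * (u : Mat) = 1 := by
  have h : u⁻¹ * u = 1 := inv_mul_cancel u
  have h1 : ((u⁻¹ * u : symplecticGroup (Fin m) F) : Mat) =
      ((1 : symplecticGroup (Fin m) F) : Mat) := by rw [h]
  rwa [Submonoid.coe_mul, Submonoid.coe_one] at h1

/-- `T = u - u⁻¹` -/
def Tm (u : symplecticGroup (Fin m) F) : Mat :=
  (u : Mat) - ((u⁻¹ : symplecticGroup (Fin m) F) : Mat)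

theorem adj_Tm (u : symplecticGroup (Fin m) F) : adj (Tm u) = -Tm u := by
  unfold Tm
  rw [adj_sub, adj_coe, adj_coe, inv_inv, neg_sub]

theorem commute_coe_Tm (u : symplecticGroup (Fin m) F) : Commute (u : Mat) (Tm u) := by
  unfold Tm
  apply Commute.sub_right (Commute.refl _)
  rw [Commute, SemiconjBy, coe_mul_inv, coe_inv_mul]

theorem Tm_eq (u : symplecticGroup (Fin m) F) :
    Tm u = ((u : Mat) - 1) * (((u⁻¹ : symplecticGroup (Fin m) F) : Mat) * ((u : Mat) + 1)) := by
  unfold Tm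
  rw [Matrix.mul_add, Matrix.mul_one, coe_inv_mul, Matrix.sub_mul, Matrix.one_mul, Matrix.mul_add,
    Matrix.mul_one, coe_mul_inv]
  abel

theorem isRegNilp_Tm (h2 : (2 : F) ≠ 0) (hm : 1 ≤ m) (u : symplecticGroup (Fin m) F)
    (hnil : ((u : Mat) - 1) ^ (2 * m) = 0) (hrank : ((u : Mat) - 1).rank = 2 * m - 1) :
    IsRegNilp (Tm u) (2 * m) := by
  set N : Mat := (u : Mat) - 1 with hN
  set ui : Mat := ((u⁻¹ : symplecticGroup (Fin m) F) : Mat) with hui
  set W : Mat := ui * ((u : Mat) + 1) with hW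
  have hu1 : (u : Mat) + 1 = (2 : F) • (1 : Mat) + N := by
    rw [hN, two_smul]; abel
  have hUnit1 : IsUnit ((u : Mat) + 1) := by
    rw [hu1]
    apply IsNilpotent.isUnit_add_left_of_commute ⟨2 * m, hnil⟩
    · exact (isUnit_iff_ne_zero.mpr h2).map (algebraMap F Mat) |> fun h => by
        rwa [Algebra.algebraMap_eq_smul_one] at h
    · exact (Commute.one_right N).smul_right _
  have hUnit2 : IsUnit ui := ⟨⟨ui, (u : Mat), coe_inv_mul u, coe_mul_inv u⟩, rfl⟩
  have hWunit : IsUnit W := hUnit2.mul hUnit1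
  have hcomm_u_ui : Commute (u : Mat) ui := by
    rw [Commute, SemiconjBy, coe_mul_inv, coe_inv_mul]
  have hNW : Commute N W := by
    have h1 : Commute N ui := Commute.sub_left hcomm_u_ui (Commute.one_left _)
    have h2' : Commute N ((u : Mat) + 1) :=
      Commute.sub_left (Commute.add_right (Commute.refl _) (Commute.one_right _))
        (Commute.one_left _)
    exact h1.mul_right h2'
  refine ⟨?_, by omega, ?_, ?_⟩
  · rw [Fintype.card_sum, Fintype.card_fin]; ring
  · rw [Tm_eq, hNW.mul_pow, hnil, zero_mul]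
  · rw [Tm_eq, Matrix.rank_mul_eq_left_of_isUnit_det _ _ ((Matrix.isUnit_iff_isUnit_det _).mp hWunit),
      hrank]

end Cfsg.Agent.Helper8.RegU
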