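import Cfsg.Agent.Helper8.RegularPA

/-!
# Regular `p`-groups, part B: the main induction
-/

set_option autoImplicit false

namespace Cfsg.Agent.Helper8.HP

open scoped commutatorElement
open Subgroup

variable {G : Type*} [Group G]

theorem conj_eq_commutator_mul (k x : G) : k * x * k⁻¹ = ⁅k, x⁆ * x := by
  rw [commutatorElement_def]; group

theorem conj_mem_closure_sup_commutator {K : Subgroup G} {x k : G} (hx : x ∈ K) (hk : k ∈ K) :
    k * x * k⁻¹ ∈ closure {x} ⊔ ⁅K, K⁆ := by
  rw [conj_eq_commutator_mul]
  exact mul_mem (mem_sup_right (commutator_mem_commutator hk hx))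
    (mem_sup_left (subset_closure rfl))

theorem conj_mem_commutator_self {K : Subgroup G} {k n : G} (hk : k ∈ K) (hn : n ∈ ⁅K, K⁆) :
    k * n * k⁻¹ ∈ ⁅K, K⁆ := by
  rw [conj_eq_commutator_mul]
  exact mul_mem (commutator_mem_commutator hk (commutator_self_le K hn)) hn

theorem card_lt_card_of_lt' [Finite G] {H K : Subgroup G} (h : H < K) :
    Nat.card H < Nat.card K := by
  refine lt_of_le_of_ne (Subgroup.card_le_of_le h.le) fun heq => ?_
  exact h.ne (Subgroup.eq_of_le_of_card_ge h.le (le_of_eq heq.symm))

/-- Key step of the induction: the pair `(a, b)` is fine once all proper subgroups of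
`⟨a, b⟩` are. -/
theorem pairProp_of_lt [Finite G] {p : ℕ} [Fact p.Prime] (hG : IsPGroup p G) {a b : G}
    (hreg : RegSub p (closure ({a, b} : Set G)))
    (ih : ∀ K' : Subgroup G, K' < closure ({a, b} : Set G) → SubProp p K') : PairProp p a b := by
  set K := closure ({a, b} : Set G) with hKdef
  have haK : a ∈ K := left_mem_closure_pair a b
  have hbK : b ∈ K := right_mem_closure_pair a b
  by_cases hcomm : a * b = b * a
  · -- commuting case
    have hc : Commute a b := hcomm
    refine ⟨?_, a * b, mul_mem haK hbK, (hc.mul_pow p).symm⟩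
    have : (a⁻¹ * b) ^ p = (a ^ p)⁻¹ * b ^ p := by
      rw [(hc.inv_left).mul_pow, inv_pow]
    rw [this, inv_mul_eq_one]
  -- noncommuting case
  set K' := ⁅K, K⁆ with hK'def
  have hK'K : K' ≤ K := commutator_self_le K
  have hM : ∀ x ∈ K, closure {x} ⊔ K' < K := by
    intro x hx
    refine lt_of_le_of_ne (sup_le ((closure_le K).2 (by simpa using hx)) hK'K) fun heq => ?_
    exact hcomm (comm_of_le_closure_sup_commutator hG hx (le_of_eq heq.symm) a haK b hbK)
  have hK'lt : K' < K := lt_of_le_of_lt le_sup_right (hM 1 (one_mem K))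
  have hPK' : SubProp p K' := ih K' hK'lt
  -- regularity modulo ℧₁(K')
  have hregK : ∀ u ∈ K, ∀ v ∈ K, (u ^ p * v ^ p)⁻¹ * (u * v) ^ p ∈ agemo p K' := by
    intro u hu v hv
    exact agemo_mono p (commutator_mono (closure_pair_le hu hv) (closure_pair_le hu hv))
      (hreg u hu v hv)
  -- Lemma E: a generating pair whose commutator has order dividing p forces exp K' ∣ p
  have hE : ∀ u v : G, closure ({u, v} : Set G) = K → ⁅u, v⁆ ^ p = 1 → agemo p K' = ⊥ := by
    intro u v huv hw
    apply agemo_eq_bot_of_pow_eq_one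
    have huK : u ∈ K := huv ▸ left_mem_closure_pair u v
    have hvK : v ∈ K := huv ▸ right_mem_closure_pair u v
    set S : Set G := {y | ∃ k ∈ K, y = k * ⁅u, v⁆ * k⁻¹} with hS
    have hwK' : ⁅u, v⁆ ∈ K' := commutator_mem_commutator huK hvK
    have hSprop : ∀ s ∈ S, s ∈ K' ∧ s ^ p = 1 := by
      rintro s ⟨k, hk, rfl⟩
      exact ⟨conj_mem_commutator_self hk hwK', by rw [conj_pow, hw]; group⟩
    have hle : K' ≤ closure S := by
      rw [hK'def, ← huv]
      apply commutator_closure_pair_le
      · rw [huv]
        intro k hk n hn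
        induction hn using closure_induction with
        | mem n hn =>
          obtain ⟨k₁, hk₁, rfl⟩ := hn
          refine subset_closure ⟨k * k₁, mul_mem hk hk₁, ?_⟩
          group
        | one => simp
        | mul x y _ _ ihx ihy =>
          have : k * (x * y) * k⁻¹ = (k * x * k⁻¹) * (k * y * k⁻¹) := by group
          rw [this]; exact mul_mem ihx ihy
        | inv x _ ihx =>
          have : k * x⁻¹ * k⁻¹ = (k * x * k⁻¹)⁻¹ := by group
          rw [this]; exact inv_mem ihx
      · exact subset_closure ⟨1, one_mem K, by group⟩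
    intro x hx
    exact hPK'.pow_eq_one_of_closure hSprop (hle hx)
  refine ⟨⟨fun hab => ?_, fun hab => ?_⟩, ?_⟩
  · -- a^p = b^p ⇒ (a⁻¹b)^p = 1
    have hMa := hM a haK
    have h1 : a ∈ closure {a} ⊔ K' := mem_sup_left (subset_closure rfl)
    have h2 : b * a * b⁻¹ ∈ closure {a} ⊔ K' := conj_mem_closure_sup_commutator haK hbK
    have h3 : a ^ p = (b * a * b⁻¹) ^ p := by
      rw [conj_pow, hab]; group
    have h4 := ((ih _ hMa) a h1 _ h2).1.1 h3
    have h5 : a⁻¹ * (b * a * b⁻¹) = ⁅a⁻¹, b⁆ := by rw [commutatorElement_def]; group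
    rw [h5] at h4
    have hcl : closure ({a⁻¹, b} : Set G) = K := by
      apply le_antisymm
      · exact closure_pair_le (inv_mem haK) hbK
      · rw [hKdef]
        refine closure_pair_le ?_ (right_mem_closure_pair _ _)
        have := inv_mem (left_mem_closure_pair a⁻¹ b)
        simpa using this
    have hbot := hE a⁻¹ b hcl h4
    have h6 := hregK a⁻¹ (inv_mem haK) b hbK
    rw [hbot, mem_bot, inv_mul_eq_one] at h6
    rw [← h6, inv_pow, hab, inv_mul_cancel]
  · -- (a⁻¹b)^p = 1 ⇒ a^p = b^p
    set c := a⁻¹ * b with hc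
    have hcK : c ∈ K := mul_mem (inv_mem haK) hbK
    have hMc := hM c hcK
    have h1 : c⁻¹ ∈ closure {c} ⊔ K' := mem_sup_left (inv_mem (subset_closure rfl))
    have h2 : a * c * a⁻¹ ∈ closure {c} ⊔ K' := conj_mem_closure_sup_commutator hcK haK
    have hP := ih _ hMc
    have h3 : (a * c * a⁻¹ * c⁻¹) ^ p = 1 := by
      have hmem : a * c * a⁻¹ * c⁻¹ ∈ hP.omegaSub := by
        apply mul_mem
        · exact ⟨h2, by rw [conj_pow, hab]; group⟩
        · exact ⟨h1, by rw [inv_pow, hab, inv_one]⟩
      exact hmem.2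
    have hcl : closure ({a, c} : Set G) = K := by
      apply le_antisymm
      · exact closure_pair_le haK hcK
      · rw [hKdef]
        refine closure_pair_le (left_mem_closure_pair _ _) ?_
        have := mul_mem (left_mem_closure_pair a c) (right_mem_closure_pair a c)
        simpa [hc] using this
    have hbot := hE a c hcl (by rw [commutatorElement_def]; exact h3)
    have h6 := hregK a haK c hcK
    rw [hbot, mem_bot, inv_mul_eq_one, hab, mul_one] at h6
    rw [h6, hc, mul_inv_cancel_left]
  · -- a^p b^p is a p-th power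
    have hd := inv_mem (hregK a haK b hbK)
    obtain ⟨e, he, hde⟩ := hPK'.mem_agemo_iff.1 hd
    have habK : a * b ∈ K := mul_mem haK hbK
    have hMab := hM (a * b) habK
    have h1 : a * b ∈ closure {a * b} ⊔ K' := mem_sup_left (subset_closure rfl)
    have h2 : e ∈ closure {a * b} ⊔ K' := mem_sup_right he
    obtain ⟨c, hc, hce⟩ := ((ih _ hMab) _ h1 _ h2).2
    refine ⟨c, closure_pair_le habK (hK'K he) hc, ?_⟩
    rw [← hce, ← hde]
    group

/-- **Main theorem on regular `p`-groups** (Huppert III.10.5/10.6 for exponent `p`). -/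
theorem subProp_of_regSub [Finite G] {p : ℕ} [Fact p.Prime] (hG : IsPGroup p G) :
    ∀ H : Subgroup G, RegSub p H → SubProp p H := by
  have main : ∀ n : ℕ, ∀ H : Subgroup G, Nat.card H = n → RegSub p H → SubProp p H := by
    intro n
    induction n using Nat.strong_induction_on with
    | _ n ih =>
      intro H hn hreg a ha b hb
      have hK : closure ({a, b} : Set G) ≤ H := closure_pair_le ha hb
      apply pairProp_of_lt hG (hreg.mono hK)
      intro K' hK'
      have hlt : Nat.card K' < n := by
        rw [← hn]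
        exact lt_of_lt_of_le (card_lt_card_of_lt' hK') (Subgroup.card_le_of_le hK)
      exact ih _ hlt K' rfl (hreg.mono (hK'.le.trans hK))
  exact fun H hreg => main _ H rfl hreg

end Cfsg.Agent.Helper8.HP
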