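import Cfsg.Agent.Helper8.RegularPB

/-!
# Regular `p`-groups, part C: consequences

* `lcs_eq_bot_of_card`: a group of order `p ^ n`, `2 ≤ n`, has class `≤ n - 1`.
* `regSub_of_card_le`: a `p`-group of order `≤ p ^ p` is regular.
* `omega p H`, `mem_omega_iff`, `mem_agemo_iff`, `card_agemo_mul_card_omega`,
  `relIndex_agemo`, `commutator_pow_eq_one_iff` for regular `H`.
-/

set_option autoImplicit false

namespace Cfsg.Agent.Helper8.HP

open scoped commutatorElement
open Subgroup

universe u

/-- A group of order `p ^ n` with `2 ≤ n` has nilpotency class at most `n - 1`. -/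
theorem lcs_eq_bot_of_card {p : ℕ} [hp : Fact p.Prime] :
    ∀ (n : ℕ) (P : Type u) [Group P] [Finite P], Nat.card P = p ^ n → 2 ≤ n →
      (⊤ : Subgroup P).lowerCentralSeries (n - 1) = ⊥ := by
  intro n
  induction n using Nat.strong_induction_on with
  | _ n ih =>
    intro P _ _ hcard hn
    have hP : IsPGroup p P := IsPGroup.of_card hcard
    have hnt : Nontrivial P := by
      rw [← Finite.one_lt_card_iff_nontrivial, hcard]
      exact Nat.one_lt_pow (by omega) hp.out.one_lt
    obtain ⟨k, hk⟩ := (IsPGroup.iff_card.1 (hP.to_subgroup (center P)))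
    obtain ⟨m, hm⟩ := (IsPGroup.iff_card.1 (hP.to_quotient (center P)))
    have hmul : Nat.card (P ⧸ center P) * Nat.card (center P) = Nat.card P :=
      (Subgroup.card_eq_card_quotient_mul_card_subgroup (center P)).symm
    have hmk : m + k = n := by
      rw [hm, hk, hcard, ← pow_add] at hmul
      exact Nat.pow_right_injective hp.out.two_le hmul
    have hk1 : 1 ≤ k := by
      have : Nontrivial (center P) := hP.center_nontrivial
      have h1 : 1 < Nat.card (center P) := Finite.one_lt_card
      rw [hk] at h1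
      rcases Nat.eq_zero_or_pos k with rfl | h
      · simp at h1
      · exact h
    rcases Nat.lt_or_ge m 2 with hm2 | hm2
    · -- quotient cyclic ⇒ commutative
      have hcyc : IsCyclic (P ⧸ center P) := by
        rcases Nat.lt_succ_iff.1 hm2 with h
        interval_cases m
        · have : Subsingleton (P ⧸ center P) := by
            rw [← Finite.card_le_one_iff_subsingleton, hm]; simp
          infer_instance
        · exact isCyclic_of_prime_card (p := p) (by simpa using hm)
      have hcomm : ∀ a b : P, a * b = b * a :=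
        ((QuotientGroup.mk' (center P)).isMulCommutative_of_isCyclic_of_ker_le_center
          (by simp)).is_comm.comm
      have h1 : (⊤ : Subgroup P).lowerCentralSeries 1 = ⊥ := by
        apply Subgroup.lowerCentralSeries_succ_eq_bot
        intro x _
        rw [mem_center_iff]
        exact fun g => hcomm g x
      exact le_bot_iff.1 (h1 ▸ (⊤ : Subgroup P).lowerCentralSeries_antitone (by omega : 1 ≤ n - 1))
    · have hq := ih m (by omega) (P ⧸ center P) hm hm2
      have h1 : (⊤ : Subgroup P).lowerCentralSeries (m - 1) ≤ center P := by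
        have h2 := map_lowerCentralSeries (⊤ : Subgroup P) (QuotientGroup.mk' (center P)) (m - 1)
        rw [← MonoidHom.range_eq_map, MonoidHom.range_eq_top.2 (QuotientGroup.mk'_surjective _), hq,
          Subgroup.map_eq_bot_iff, QuotientGroup.ker_mk'] at h2
        exact h2
      have h3 := Subgroup.lowerCentralSeries_succ_eq_bot _ h1
      exact le_bot_iff.1 (h3 ▸ (⊤ : Subgroup P).lowerCentralSeries_antitone (by omega))

variable {G : Type*} [Group G]

/-- A `p`-subgroup of order at most `p ^ p` has class `< p`. -/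
theorem lcs_eq_bot_of_card_le [Finite G] {p : ℕ} [hp : Fact p.Prime] (hG : IsPGroup p G)
    {H : Subgroup G} (hH : Nat.card H ≤ p ^ p) : H.lowerCentralSeries (p - 1) = ⊥ := by
  obtain ⟨n, hn⟩ := IsPGroup.iff_card.1 (hG.to_subgroup H)
  have hnp : n ≤ p := by
    rw [hn] at hH
    exact (Nat.pow_le_pow_iff_right hp.out.one_lt).1 hH
  have h2 := hp.out.two_le
  rw [← top_subtype_lowerCentralSeries]
  rcases Nat.lt_or_ge n 2 with hn2 | hn2
  · -- order ≤ p: commutative
    have hcomm : ∀ a b : H, a * b = b * a := by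
      interval_cases n
      · have : Subsingleton H := by
          rw [← Finite.card_le_one_iff_subsingleton, hn]; simp
        intro a b; exact Subsingleton.elim _ _
      · have : IsCyclic H := isCyclic_of_prime_card (p := p) (by simpa using hn)
        intro a b
        exact (IsCyclic.commGroup (α := H)).mul_comm a b
    have h1 : (⊤ : Subgroup H).lowerCentralSeries 1 = ⊥ := by
      apply Subgroup.lowerCentralSeries_succ_eq_bot
      intro x _
      rw [mem_center_iff]
      exact fun g => hcomm g x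
    have := (⊤ : Subgroup H).lowerCentralSeries_antitone (by omega : 1 ≤ p - 1)
    rw [h1, le_bot_iff] at this
    rw [this, Subgroup.map_bot]
  · have h1 := lcs_eq_bot_of_card (p := p) n H hn hn2
    have := (⊤ : Subgroup H).lowerCentralSeries_antitone (by omega : n - 1 ≤ p - 1)
    rw [h1, le_bot_iff] at this
    rw [this, Subgroup.map_bot]

/-- A `p`-group of order at most `p ^ p` is regular. -/
theorem regSub_of_card_le [Finite G] {p : ℕ} [hp : Fact p.Prime] (hG : IsPGroup p G)
    {H : Subgroup G} (hH : Nat.card H ≤ p ^ p) : RegSub p H :=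
  regSub_of_lcs_eq_bot hp.out (lcs_eq_bot_of_card_le hG hH)

/-- A group of exponent `p` is regular. -/
theorem regSub_of_pow_eq_one {p : ℕ} {H : Subgroup G} (h : ∀ x ∈ H, x ^ p = 1) : RegSub p H := by
  intro a ha b hb
  rw [h a ha, h b hb, h _ (mul_mem ha hb)]
  simp

/-- `Ω₁(H)`: the subgroup generated by the elements of `H` of order dividing `p`. -/
def omega (p : ℕ) (H : Subgroup G) : Subgroup G := closure {x : G | x ∈ H ∧ x ^ p = 1}

theorem omega_le (p : ℕ) (H : Subgroup G) : omega p H ≤ H :=
  (closure_le H).2 fun _ hx => hx.1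

theorem mem_omega_of_pow_eq_one {p : ℕ} {H : Subgroup G} {x : G} (hx : x ∈ H) (h : x ^ p = 1) :
    x ∈ omega p H := subset_closure ⟨hx, h⟩

theorem omega_mono (p : ℕ) {H K : Subgroup G} (h : H ≤ K) : omega p H ≤ omega p K :=
  closure_mono fun _ hx => ⟨h hx.1, hx.2⟩

theorem SubProp.omega_eq {p : ℕ} {H : Subgroup G} (hH : SubProp p H) : omega p H = hH.omegaSub :=
  le_antisymm ((closure_le _).2 fun _ hx => hx) fun _ hx => subset_closure hx

theorem SubProp.mem_omega_iff {p : ℕ} {H : Subgroup G} (hH : SubProp p H) {x : G} :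
    x ∈ omega p H ↔ x ∈ H ∧ x ^ p = 1 := by
  rw [hH.omega_eq]; exact Iff.rfl

/-- `|℧₁(H)| · |Ω₁(H)| = |H|` under `SubProp` (in particular for regular `H`). -/
theorem SubProp.card_agemo_mul_card_omega [Finite G] {p : ℕ} {H : Subgroup G}
    (hH : SubProp p H) : Nat.card (agemo p H) * Nat.card (omega p H) = Nat.card H := by
  set Ω := (omega p H).subgroupOf H with hΩ
  have h1 : Nat.card Ω = Nat.card (omega p H) :=
    Nat.card_congr (subgroupOfEquivOfLe (omega_le p H)).toEquiv
  have hrel : ∀ x y : H, x⁻¹ * y ∈ Ω ↔ (x : G) ^ p = (y : G) ^ p := by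
    intro x y
    rw [hΩ, mem_subgroupOf, hH.mem_omega_iff]
    simp only [coe_mul, coe_inv]
    rw [(hH x x.2 y y.2).1]
    exact ⟨fun h => h.2, fun h => ⟨mul_mem (inv_mem x.2) y.2, h⟩⟩
  let f : H → agemo p H := fun h => ⟨(h : G) ^ p, pow_mem_agemo p h.2⟩
  let g : H ⧸ Ω → agemo p H := fun q => Quotient.liftOn' q f (by
    intro x y hxy
    rw [QuotientGroup.leftRel_apply] at hxy
    exact Subtype.ext ((hrel x y).1 hxy))
  have hg : Function.Bijective g := by
    constructor
    · intro q₁ q₂
      refine Quotient.inductionOn₂' q₁ q₂ fun x y h => ?_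
      apply Quotient.sound'
      rw [QuotientGroup.leftRel_apply]
      exact (hrel x y).2 (congrArg Subtype.val h)
    · rintro ⟨y, hy⟩
      obtain ⟨h, hh, rfl⟩ := hH.mem_agemo_iff.1 hy
      exact ⟨Quotient.mk'' ⟨h, hh⟩, rfl⟩
  have h2 : Nat.card (H ⧸ Ω) = Nat.card (agemo p H) := Nat.card_congr (Equiv.ofBijective g hg)
  rw [← h1, ← h2, mul_comm]
  exact Ω.card_mul_index

theorem card_mul_relIndex [Finite G] {A H : Subgroup G} (h : A ≤ H) :
    Nat.card A * A.relIndex H = Nat.card H := by
  rw [relIndex, ← Nat.card_congr (subgroupOfEquivOfLe h).toEquiv]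
  exact (A.subgroupOf H).card_mul_index

/-- `|H : ℧₁(H)| = |Ω₁(H)|` under `SubProp`. -/
theorem SubProp.relIndex_agemo [Finite G] {p : ℕ} {H : Subgroup G} (hH : SubProp p H) :
    (agemo p H).relIndex H = Nat.card (omega p H) := by
  have h1 := hH.card_agemo_mul_card_omega
  have h2 := card_mul_relIndex (agemo_le p H)
  have hpos : 0 < Nat.card (agemo p H) := Nat.card_pos
  exact Nat.eq_of_mul_eq_mul_left hpos (h2.trans h1.symm)

/-- In a regular group: `⁅a ^ p, b⁆ = 1 ↔ ⁅a, b⁆ ^ p = 1`. -/
theorem SubProp.commutator_pow_eq_one_iff {p : ℕ} {H : Subgroup G} (hH : SubProp p H) {a b : G}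
    (ha : a ∈ H) (hb : b ∈ H) : ⁅a ^ p, b⁆ = 1 ↔ ⁅a, b⁆ ^ p = 1 := by
  have h1 : ⁅a ^ p, b⁆ = 1 ↔ a ^ p = (b * a * b⁻¹) ^ p := by
    rw [commutatorElement_eq_one_iff_mul_comm, conj_pow]
    constructor
    · intro h; rw [← h]; group
    · intro h
      calc a ^ p * b = b * a ^ p * b⁻¹ * b := by rw [← h]
        _ = b * a ^ p := by group
  have h2 := (hH a ha (b * a * b⁻¹) (mul_mem (mul_mem hb ha) (inv_mem hb))).1
  have h3 : a⁻¹ * (b * a * b⁻¹) = a⁻¹ * ⁅a, b⁆⁻¹ * a⁻¹⁻¹ := by
    rw [commutatorElement_def]; group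
  rw [h1, h2, h3, conj_pow, inv_pow]
  constructor
  · intro h
    have : (⁅a, b⁆ ^ p)⁻¹ = 1 := by
      have h' : a * (a⁻¹ * (⁅a, b⁆ ^ p)⁻¹ * a⁻¹⁻¹) * a⁻¹ = a * 1 * a⁻¹ := by rw [h]
      rw [mul_one, mul_inv_cancel] at h'
      rw [← h']; group
    simpa using this
  · intro h; rw [h]; group

end Cfsg.Agent.Helper8.HP
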