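import Mathlib
import Cfsg.Agent.Helper7.QuadFormMatrices

set_option autoImplicit false
set_option linter.unusedSectionVars false

/-! Transvections `1 + v ψᵀ` lying in a subgroup of `SL_n(F)`: the calculus used for generation
by regular unipotent elements (helper8). -/

namespace Cfsg.Agent.Helper8.RgGen

open Matrix

variable {ι : Type} [Fintype ι] [DecidableEq ι] {F : Type*} [Field F]

/-- the transvection `1 + v ψᵀ` lies in `H`. -/
def TV (H : Subgroup (Matrix.SpecialLinearGroup ι F)) (v ψ : ι → F) : Prop :=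
  ∃ g ∈ H, (g : Matrix ι ι F) = 1 + vecMulVec v ψ

theorem ext_coe {g h : Matrix.SpecialLinearGroup ι F} (e : (g : Matrix ι ι F) = (h : Matrix ι ι F)) :
    g = h := Subtype.ext e

theorem coe_inv_mul (g : Matrix.SpecialLinearGroup ι F) :
    ((g⁻¹ : Matrix.SpecialLinearGroup ι F) : Matrix ι ι F) * (g : Matrix ι ι F) = 1 := by
  rw [← Matrix.SpecialLinearGroup.coe_mul, inv_mul_cancel, Matrix.SpecialLinearGroup.coe_one]

theorem coe_mul_inv (g : Matrix.SpecialLinearGroup ι F) :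
    (g : Matrix ι ι F) * ((g⁻¹ : Matrix.SpecialLinearGroup ι F) : Matrix ι ι F) = 1 := by
  rw [← Matrix.SpecialLinearGroup.coe_mul, mul_inv_cancel, Matrix.SpecialLinearGroup.coe_one]

theorem coe_inv_eq {g : Matrix.SpecialLinearGroup ι F} {B : Matrix ι ι F}
    (e : (g : Matrix ι ι F) * B = 1) : ((g⁻¹ : Matrix.SpecialLinearGroup ι F) : Matrix ι ι F) = B := by
  calc ((g⁻¹ : Matrix.SpecialLinearGroup ι F) : Matrix ι ι F)
      = ((g⁻¹ : Matrix.SpecialLinearGroup ι F) : Matrix ι ι F) * ((g : Matrix ι ι F) * B) := by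
        rw [e, mul_one]
    _ = B := by rw [← Matrix.mul_assoc, coe_inv_mul, one_mul]

theorem vmv_mul_vmv (v ψ v' ψ' : ι → F) :
    vecMulVec v ψ * vecMulVec v' ψ' = (ψ ⬝ᵥ v') • vecMulVec v ψ' := by
  rw [vecMulVec_mul_vecMulVec, vecMulVec_smul]

theorem TV.orth {H : Subgroup (Matrix.SpecialLinearGroup ι F)} {v ψ : ι → F} (h : TV H v ψ) :
    ψ ⬝ᵥ v = 0 := by
  obtain ⟨g, _, hg⟩ := h
  have h1 := g.det_coe
  rw [hg] at h1
  have h2 := Cfsg.Agent.Helper7.QF.det_one_add_smul_vecMulVec (1 : F) v ψ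
  rw [one_smul, one_mul, h1] at h2
  exact (add_eq_left.mp h2.symm)

theorem TV.zero_left (H : Subgroup (Matrix.SpecialLinearGroup ι F)) (ψ : ι → F) : TV H 0 ψ :=
  ⟨1, H.one_mem, by rw [Matrix.SpecialLinearGroup.coe_one, zero_vecMulVec, add_zero]⟩

theorem TV.add {H : Subgroup (Matrix.SpecialLinearGroup ι F)} {v v' ψ : ι → F} (h : TV H v ψ)
    (h' : TV H v' ψ) : TV H (v + v') ψ := by
  have ho := h'.orth
  obtain ⟨g, hgH, hg⟩ := h
  obtain ⟨g', hgH', hg'⟩ := h'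
  refine ⟨g * g', H.mul_mem hgH hgH', ?_⟩
  rw [Matrix.SpecialLinearGroup.coe_mul, hg, hg', add_mul, one_mul, mul_add, mul_one, vmv_mul_vmv, ho,
    zero_smul, add_zero, add_vecMulVec]
  abel

theorem TV.neg {H : Subgroup (Matrix.SpecialLinearGroup ι F)} {v ψ : ι → F} (h : TV H v ψ) :
    TV H (-v) ψ := by
  have ho := h.orth
  obtain ⟨g, hgH, hg⟩ := h
  refine ⟨g⁻¹, H.inv_mem hgH, ?_⟩
  apply coe_inv_eq
  rw [hg, add_mul, one_mul, mul_add, mul_one, vmv_mul_vmv, neg_vecMulVec, dotProduct_neg, ho]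
  simp

theorem TV.sub {H : Subgroup (Matrix.SpecialLinearGroup ι F)} {v v' ψ : ι → F} (h : TV H v ψ)
    (h' : TV H v' ψ) : TV H (v - v') ψ := by
  rw [sub_eq_add_neg]
  exact h.add h'.neg

theorem TV.smul_iff {H : Subgroup (Matrix.SpecialLinearGroup ι F)} {v ψ : ι → F} (c : F) :
    TV H (c • v) ψ ↔ TV H v (c • ψ) := by
  unfold TV
  rw [smul_vecMulVec, vecMulVec_smul]

theorem TV.sign {H : Subgroup (Matrix.SpecialLinearGroup ι F)} {v ψ : ι → F} {β : F}
    (hβ : β = 1 ∨ β = -1) (h : TV H (β • v) ψ) : TV H v ψ := by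
  rcases hβ with rfl | rfl
  · rwa [one_smul] at h
  · have := h.neg
    rwa [neg_smul, one_smul, neg_neg] at this

theorem TV.sign' {H : Subgroup (Matrix.SpecialLinearGroup ι F)} {v ψ : ι → F} {β : F}
    (hβ : β = 1 ∨ β = -1) (h : TV H v ψ) : TV H (β • v) ψ := by
  rcases hβ with rfl | rfl
  · rwa [one_smul]
  · rw [neg_smul, one_smul]
    exact h.neg

/-- conjugation. -/
theorem TV.conj {H : Subgroup (Matrix.SpecialLinearGroup ι F)} {v ψ : ι → F} (h : TV H v ψ)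
    {g : Matrix.SpecialLinearGroup ι F} (hg : g ∈ H) :
    TV H ((g : Matrix ι ι F) *ᵥ v) (ψ ᵥ* ((g⁻¹ : Matrix.SpecialLinearGroup ι F) : Matrix ι ι F)) := by
  obtain ⟨t, htH, ht⟩ := h
  refine ⟨g * t * g⁻¹, H.mul_mem (H.mul_mem hg htH) (H.inv_mem hg), ?_⟩
  rw [Matrix.SpecialLinearGroup.coe_mul, Matrix.SpecialLinearGroup.coe_mul, ht, mul_add, mul_one, add_mul,
    coe_mul_inv, mul_vecMulVec, vecMulVec_mul]

/-- conjugation, with the new functional given by an equation. -/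
theorem TV.conj' {H : Subgroup (Matrix.SpecialLinearGroup ι F)} {v ψ ψ' : ι → F} (h : TV H v ψ)
    {g : Matrix.SpecialLinearGroup ι F} (hg : g ∈ H) (e : ψ' ᵥ* (g : Matrix ι ι F) = ψ) :
    TV H ((g : Matrix ι ι F) *ᵥ v) ψ' := by
  have h1 := h.conj hg
  have h2 : ψ ᵥ* ((g⁻¹ : Matrix.SpecialLinearGroup ι F) : Matrix ι ι F) = ψ' := by
    rw [← e, vecMul_vecMul, coe_mul_inv, vecMul_one]
  rwa [h2] at h1

/-- the commutator rule. -/
theorem TV.comm {H : Subgroup (Matrix.SpecialLinearGroup ι F)} {v ψ v' ψ' : ι → F} (h : TV H v ψ)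
    (h' : TV H v' ψ') (h0 : ψ' ⬝ᵥ v = 0) : TV H ((ψ ⬝ᵥ v') • v) ψ' := by
  have ho := h.orth
  have ho' := h'.orth
  have hn := h.neg
  have hn' := h'.neg
  obtain ⟨g, hgH, hg⟩ := h
  obtain ⟨g', hgH', hg'⟩ := h'
  obtain ⟨k, hkH, hk⟩ := hn
  obtain ⟨k', hkH', hk'⟩ := hn'
  refine ⟨g * g' * k * k', H.mul_mem (H.mul_mem (H.mul_mem hgH hgH') hkH) hkH', ?_⟩
  rw [Matrix.SpecialLinearGroup.coe_mul, Matrix.SpecialLinearGroup.coe_mul, Matrix.SpecialLinearGroup.coe_mul, hg, hg',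
    hk, hk', neg_vecMulVec, neg_vecMulVec]
  have e1 : vecMulVec v ψ * vecMulVec v ψ = 0 := by rw [vmv_mul_vmv, ho, zero_smul]
  have e2 : vecMulVec v' ψ' * vecMulVec v' ψ' = 0 := by rw [vmv_mul_vmv, ho', zero_smul]
  have e3 : vecMulVec v' ψ' * vecMulVec v ψ = 0 := by rw [vmv_mul_vmv, h0, zero_smul]
  have e4 : vecMulVec v ψ * vecMulVec v' ψ' = vecMulVec ((ψ ⬝ᵥ v') • v) ψ' := by
    rw [vmv_mul_vmv, smul_vecMulVec]
  rw [← e4]
  generalize vecMulVec v ψ = A at *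
  generalize vecMulVec v' ψ' = B at *
  have s1 : (1 + A) * (1 + B) * (1 + -A) = 1 + B + A * B := by
    have : (1 + A) * (1 + B) * (1 + -A) = 1 + B + A * B - A * A - B * A - A * (B * A) := by
      noncomm_ring
    rw [this, e1, e3, mul_zero]
    simp
  have s2 : (1 + B + A * B) * (1 + -B) = 1 + A * B := by
    have : (1 + B + A * B) * (1 + -B) = 1 + A * B - B * B - A * (B * B) := by
      noncomm_ring
    rw [this, e2, mul_zero]
    simp
  rw [s1, s2]

end Cfsg.Agent.Helper8.RgGen
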