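import Mathlib
import Cfsg.Agent.Helper8.RgGenA
import Cfsg.Agent.Helper7.Transvections

set_option autoImplicit false
set_option linter.unusedSectionVars false

/-! Generation of `SL_n(F)` by an upper regular unipotent, a lower one, and one root element
(helper8). -/

namespace Cfsg.Agent.Helper8.RgGen

open Matrix

variable {F : Type*} [Field F] {n : ℕ}

/-- basis vectors indexed by `ℕ` (zero when out of range). -/
def bv (n : ℕ) (F : Type*) [Field F] (j : ℕ) : Fin n → F := fun i => if i.val = j then 1 else 0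

theorem bv_apply (j : ℕ) (i : Fin n) : bv n F j i = if i.val = j then 1 else 0 := rfl

theorem bv_eq_single {j : ℕ} (hj : j < n) : bv n F j = Pi.single (⟨j, hj⟩ : Fin n) 1 := by
  funext i
  rw [bv_apply, Pi.single_apply]
  congr 1
  rw [Fin.ext_iff]

theorem bv_dot {j : ℕ} (hj : j < n) (v : Fin n → F) : bv n F j ⬝ᵥ v = v ⟨j, hj⟩ := by
  rw [bv_eq_single hj, single_dotProduct, one_mul]

theorem bv_dot_bv {i j : ℕ} (hi : i < n) : bv n F i ⬝ᵥ bv n F j = if i = j then 1 else 0 := by
  rw [bv_dot hi, bv_apply]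

/-- the upper shift matrix. -/
def Nm (n : ℕ) (F : Type*) [Field F] : Matrix (Fin n) (Fin n) F :=
  Matrix.of fun i j => if j.val = i.val + 1 then 1 else 0

/-- the signed lower shift matrix. -/
def Mm (n : ℕ) {F : Type*} [Field F] (b : ℕ → F) : Matrix (Fin n) (Fin n) F :=
  Matrix.of fun i j => if i.val = j.val + 1 then b j.val else 0

theorem Nm_apply (i j : Fin n) : Nm n F i j = if j.val = i.val + 1 then 1 else 0 := rfl

theorem Mm_apply (b : ℕ → F) (i j : Fin n) :
    Mm n b i j = if i.val = j.val + 1 then b j.val else 0 := rfl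

theorem Nm_mulVec_bv_succ {j : ℕ} (hj : j + 1 < n) : Nm n F *ᵥ bv n F (j + 1) = bv n F j := by
  rw [bv_eq_single hj, mulVec_single_one]
  funext i
  rw [col_apply, Nm_apply, bv_apply]
  simp only [add_left_inj]
  congr 1
  exact propext eq_comm

theorem Nm_mulVec_bv_zero : Nm n F *ᵥ bv n F 0 = 0 := by
  by_cases hn : 0 < n
  · rw [bv_eq_single hn, mulVec_single_one]
    funext i
    rw [col_apply, Nm_apply]
    simp
  · have : n = 0 := by omega
    subst this
    funext i
    exact i.elim0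

theorem Mm_mulVec_bv (b : ℕ → F) {j : ℕ} (hj : j + 1 < n) :
    Mm n b *ᵥ bv n F j = b j • bv n F (j + 1) := by
  rw [bv_eq_single (by omega : j < n), mulVec_single_one]
  funext i
  rw [col_apply, Mm_apply, Pi.smul_apply, bv_apply, smul_eq_mul]
  simp

theorem Mm_mulVec_bv_last (b : ℕ → F) {j : ℕ} (hj : j + 1 = n) :
    Mm n b *ᵥ bv n F j = 0 := by
  rw [bv_eq_single (by omega : j < n), mulVec_single_one]
  funext i
  rw [col_apply, Mm_apply]
  have : i.val ≠ j + 1 := by have := i.isLt; omega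
  simp [this]

theorem bv_vecMul_Nm_last {j : ℕ} (hj : j + 1 = n) : bv n F j ᵥ* Nm n F = 0 := by
  rw [bv_eq_single (by omega : j < n), single_one_vecMul]
  funext i
  rw [row_apply, Nm_apply]
  have : i.val ≠ j + 1 := by have := i.isLt; omega
  simp [this]

theorem bv_succ_vecMul_Mm (b : ℕ → F) {j : ℕ} (hj : j + 1 < n) :
    bv n F (j + 1) ᵥ* Mm n b = b j • bv n F j := by
  rw [bv_eq_single hj, single_one_vecMul]
  funext i
  rw [row_apply, Mm_apply, Pi.smul_apply, bv_apply, smul_eq_mul]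
  simp only [add_left_inj]
  by_cases h : i.val = j
  · rw [if_pos h.symm, if_pos h, h, mul_one]
  · rw [if_neg (fun h' => h h'.symm), if_neg h, mul_zero]

theorem vecMul_one_add_vmv {ι : Type} [Fintype ι] [DecidableEq ι] (ψ w φ : ι → F) :
    ψ ᵥ* (1 + vecMulVec w φ) = ψ + (ψ ⬝ᵥ w) • φ := by
  rw [vecMul_add, vecMul_one, vecMul_vecMulVec]

/-- all transvections with functional `ψ` lie in `H`. -/
def FullAx {ι : Type} [Fintype ι] [DecidableEq ι] (H : Subgroup (Matrix.SpecialLinearGroup ι F))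
    (ψ : ι → F) : Prop :=
  ∀ v : ι → F, ψ ⬝ᵥ v = 0 → TV H v ψ

theorem FullAx.vecMul {ι : Type} [Fintype ι] [DecidableEq ι]
    {H : Subgroup (Matrix.SpecialLinearGroup ι F)} {ψ : ι → F} (h : FullAx H ψ)
    {g : Matrix.SpecialLinearGroup ι F} (hg : g ∈ H) :
    FullAx H (ψ ᵥ* (g : Matrix ι ι F)) := by
  intro v hv
  rw [← dotProduct_mulVec] at hv
  have h1 := h _ hv
  have h2 := h1.conj' (H.inv_mem hg) (ψ' := ψ ᵥ* (g : Matrix ι ι F))
    (by rw [vecMul_vecMul, coe_mul_inv, vecMul_one])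
  rw [mulVec_mulVec, coe_inv_mul, one_mulVec] at h2
  exact h2

theorem FullAx.of_smul {ι : Type} [Fintype ι] [DecidableEq ι]
    {H : Subgroup (Matrix.SpecialLinearGroup ι F)} {ψ : ι → F} {c : F} (hc : c ≠ 0)
    (h : FullAx H (c • ψ)) : FullAx H ψ := by
  intro v hv
  have h1 := h (c⁻¹ • v) (by rw [smul_dotProduct, dotProduct_smul, hv, smul_zero, smul_zero])
  have h2 := (TV.smul_iff c).mpr h1
  rwa [smul_smul, mul_inv_cancel₀ hc, one_smul] at h2

end Cfsg.Agent.Helper8.RgGen
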