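import Mathlib
import Cfsg.Agent.Helper8.RgGenB

set_option autoImplicit false
set_option linter.unusedSectionVars false

/-! Generation of `SL_n(F)` by an upper regular unipotent, a lower one, and one root element: the
main argument (helper8). -/

namespace Cfsg.Agent.Helper8.RgGen

open Matrix

variable {F : Type*} [Field F]

theorem sign_mul {x y : F} (hx : x = 1 ∨ x = -1) (hy : y = 1 ∨ y = -1) :
    x * y = 1 ∨ x * y = -1 := by
  rcases hx with rfl | rfl <;> rcases hy with rfl | rfl <;> simp

theorem sign_sq {x : F} (hx : x = 1 ∨ x = -1) : x * x = 1 := by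
  rcases hx with rfl | rfl <;> simp

theorem sign_ne_zero {x : F} (hx : x = 1 ∨ x = -1) : x ≠ 0 := by
  rcases hx with rfl | rfl <;> simp

/-- **Criterion.** A subgroup of `SL_{k+3}(F)` containing the upper regular unipotent `1 + N`, a
signed lower regular unipotent `1 + M_b`, and the root element `1 + λ E_{k,k+2}` with `λ` a
generator of `Fˣ`, is everything. -/
theorem eq_top_of_mem (k : ℕ) (lam : F) (hgen : ∀ s : F, s ≠ 0 → ∃ t : ℕ, s = lam ^ t)
    (r : ℕ) (hr : 1 ≤ r) (hlr : lam ^ r = 1)
    (b : ℕ → F) (hb : ∀ j, b j = 1 ∨ b j = -1)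
    (H : Subgroup (Matrix.SpecialLinearGroup (Fin (k + 3)) F))
    (u1 u3 : Matrix.SpecialLinearGroup (Fin (k + 3)) F)
    (hu1 : (u1 : Matrix (Fin (k + 3)) (Fin (k + 3)) F) = 1 + Nm (k + 3) F)
    (hu3 : (u3 : Matrix (Fin (k + 3)) (Fin (k + 3)) F) = 1 + Mm (k + 3) b)
    (h1 : u1 ∈ H) (h3 : u3 ∈ H)
    (h2 : TV H (lam • bv (k + 3) F k) (bv (k + 3) F (k + 2))) : H = ⊤ := by
  classical
  have hu1v : ∀ v : Fin (k + 3) → F, (u1 : Matrix (Fin (k + 3)) (Fin (k + 3)) F) *ᵥ v
      = v + Nm (k + 3) F *ᵥ v := by
    intro v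
    rw [hu1, add_mulVec, one_mulVec]
  have hu3v : ∀ v : Fin (k + 3) → F, (u3 : Matrix (Fin (k + 3)) (Fin (k + 3)) F) *ᵥ v
      = v + Mm (k + 3) b *ᵥ v := by
    intro v
    rw [hu3, add_mulVec, one_mulVec]
  -- (S1) invariance under N
  have hN : ∀ v : Fin (k + 3) → F, TV H v (bv (k + 3) F (k + 2)) →
      TV H (Nm (k + 3) F *ᵥ v) (bv (k + 3) F (k + 2)) := by
    intro v hv
    have e : bv (k + 3) F (k + 2) ᵥ* (u1 : Matrix (Fin (k + 3)) (Fin (k + 3)) F)
        = bv (k + 3) F (k + 2) := by
      rw [hu1, vecMul_add, vecMul_one, bv_vecMul_Nm_last (by omega), add_zero]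
    have h := hv.conj' h1 e
    rw [hu1v] at h
    have h' := h.sub hv
    rwa [add_sub_cancel_left] at h'
  -- descent for one basis vector
  have hdesc : ∀ (c : F) (i j : ℕ), j + i < k + 3 →
      TV H (c • bv (k + 3) F (j + i)) (bv (k + 3) F (k + 2)) →
      TV H (c • bv (k + 3) F j) (bv (k + 3) F (k + 2)) := by
    intro c i
    induction i with
    | zero => intro j _ h; exact h
    | succ i ih =>
      intro j hj h
      have h' : TV H (c • bv (k + 3) F (j + 1 + i)) (bv (k + 3) F (k + 2)) := by
        rwa [show j + 1 + i = j + (i + 1) by omega]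
      have h'' := hN _ (ih (j + 1) (by omega) h')
      rwa [mulVec_smul, Nm_mulVec_bv_succ (by omega)] at h''
  -- descent for a pair
  have hpair : ∀ (c β : F), (β = 1 ∨ β = -1) →
      TV H (c • (bv (k + 3) F k + β • bv (k + 3) F (k + 1))) (bv (k + 3) F (k + 2)) →
      ∀ j, j ≤ k + 1 → TV H (c • bv (k + 3) F j) (bv (k + 3) F (k + 2)) := by
    intro c β hβ h
    have hA : ∀ i j, j + i = k →
        TV H (c • (bv (k + 3) F j + β • bv (k + 3) F (j + 1))) (bv (k + 3) F (k + 2)) := by
      intro i
      induction i with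
      | zero =>
        intro j hj
        have : j = k := by omega
        subst this
        exact h
      | succ i ih =>
        intro j hj
        have h' := hN _ (ih (j + 1) (by omega))
        rwa [mulVec_smul, mulVec_add, mulVec_smul, Nm_mulVec_bv_succ (by omega),
          Nm_mulVec_bv_succ (by omega)] at h'
    have hB0 : TV H (c • bv (k + 3) F 0) (bv (k + 3) F (k + 2)) := by
      have h' := hN _ (hA k 0 (by omega))
      rw [mulVec_smul, mulVec_add, mulVec_smul, Nm_mulVec_bv_zero, Nm_mulVec_bv_succ (by omega),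
        zero_add, smul_comm] at h'
      exact TV.sign hβ h'
    intro j
    induction j with
    | zero => intro _; exact hB0
    | succ j ih =>
      intro hj
      have hj' := ih (by omega)
      have ha := hA (k - j) j (by omega)
      have hs := ha.sub hj'
      have e : c • (bv (k + 3) F j + β • bv (k + 3) F (j + 1)) - c • bv (k + 3) F j
          = β • (c • bv (k + 3) F (j + 1)) := by
        rw [smul_add, add_sub_cancel_left, smul_comm]
      rw [e] at hs
      exact TV.sign hβ hs
  -- (S2) the multiplication rule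
  have hz : ((u3⁻¹ : Matrix.SpecialLinearGroup (Fin (k + 3)) F) :
      Matrix (Fin (k + 3)) (Fin (k + 3)) F) *ᵥ bv (k + 3) F k
      = bv (k + 3) F k - b k • bv (k + 3) F (k + 1) + (b k * b (k + 1)) • bv (k + 3) F (k + 2) := by
    have e : (u3 : Matrix (Fin (k + 3)) (Fin (k + 3)) F) *ᵥ
        (bv (k + 3) F k - b k • bv (k + 3) F (k + 1) + (b k * b (k + 1)) • bv (k + 3) F (k + 2))
        = bv (k + 3) F k := by
      rw [hu3v, mulVec_add, mulVec_sub, mulVec_smul, mulVec_smul, Mm_mulVec_bv b (by omega),
        Mm_mulVec_bv b (by omega), Mm_mulVec_bv_last b (by omega)]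
      module
    calc ((u3⁻¹ : Matrix.SpecialLinearGroup (Fin (k + 3)) F) :
          Matrix (Fin (k + 3)) (Fin (k + 3)) F) *ᵥ bv (k + 3) F k
        = ((u3⁻¹ : Matrix.SpecialLinearGroup (Fin (k + 3)) F) :
          Matrix (Fin (k + 3)) (Fin (k + 3)) F) *ᵥ ((u3 : Matrix (Fin (k + 3)) (Fin (k + 3)) F) *ᵥ
            (bv (k + 3) F k - b k • bv (k + 3) F (k + 1)
              + (b k * b (k + 1)) • bv (k + 3) F (k + 2))) := by rw [e]
      _ = _ := by rw [mulVec_mulVec, coe_inv_mul, one_mulVec]
  have hM : ∀ s s' : F, TV H (s • bv (k + 3) F k) (bv (k + 3) F (k + 2)) →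
      TV H (s' • bv (k + 3) F k) (bv (k + 3) F (k + 2)) →
      TV H ((s * s') • (bv (k + 3) F k + b k • bv (k + 3) F (k + 1))) (bv (k + 3) F (k + 2)) := by
    intro s s' ha hb'
    have hconj := hb'.conj h3
    have hu3b : (u3 : Matrix (Fin (k + 3)) (Fin (k + 3)) F) *ᵥ (s' • bv (k + 3) F k)
        = s' • (bv (k + 3) F k + b k • bv (k + 3) F (k + 1)) := by
      rw [hu3v, mulVec_smul, Mm_mulVec_bv b (by omega), smul_add]
    rw [hu3b] at hconj
    have h0 : bv (k + 3) F (k + 2) ⬝ᵥ (s' • (bv (k + 3) F k + b k • bv (k + 3) F (k + 1))) = 0 := by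
      rw [dotProduct_smul, dotProduct_add, dotProduct_smul, bv_dot_bv (by omega),
        bv_dot_bv (by omega), if_neg (by omega), if_neg (by omega)]
      simp
    have hc := hconj.comm ha h0
    have hval : (bv (k + 3) F (k + 2) ᵥ* ((u3⁻¹ : Matrix.SpecialLinearGroup (Fin (k + 3)) F) :
        Matrix (Fin (k + 3)) (Fin (k + 3)) F)) ⬝ᵥ (s • bv (k + 3) F k) = s * (b k * b (k + 1)) := by
      rw [← dotProduct_mulVec, mulVec_smul, hz, dotProduct_smul, dotProduct_add, dotProduct_sub,
        dotProduct_smul, dotProduct_smul, bv_dot_bv (by omega), bv_dot_bv (by omega),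
        bv_dot_bv (by omega), if_neg (by omega), if_neg (by omega), if_pos rfl]
      simp
    rw [hval] at hc
    have hsign := sign_mul (hb k) (hb (k + 1))
    apply TV.sign hsign
    have e : (b k * b (k + 1)) • (s * s') • (bv (k + 3) F k + b k • bv (k + 3) F (k + 1))
        = (s * (b k * b (k + 1))) • s' • (bv (k + 3) F k + b k • bv (k + 3) F (k + 1)) := by
      rw [smul_smul, smul_smul]
      congr 1
      ring
    rw [e]
    exact hc
  -- (S3) powers of lam
  have hP : ∀ t : ℕ, ∀ j, j ≤ k → TV H ((lam ^ (t + 1)) • bv (k + 3) F j) (bv (k + 3) F (k + 2)) := by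
    intro t
    induction t with
    | zero =>
      intro j hj
      rw [zero_add, pow_one]
      obtain ⟨i, rfl⟩ : ∃ i, k = j + i := ⟨k - j, by omega⟩
      exact hdesc lam i j (by omega) h2
    | succ t ih =>
      intro j hj
      have h0 : TV H (lam • bv (k + 3) F k) (bv (k + 3) F (k + 2)) := h2
      have hm := hM (lam ^ (t + 1)) lam (ih k (le_refl k)) h0
      rw [← pow_succ] at hm
      exact hpair _ _ (hb k) hm j (by omega)
  have hQ : ∀ t : ℕ, ∀ j, j ≤ k + 1 →
      TV H ((lam ^ (t + 2)) • bv (k + 3) F j) (bv (k + 3) F (k + 2)) := by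
    intro t j hj
    have h0 : TV H (lam • bv (k + 3) F k) (bv (k + 3) F (k + 2)) := h2
    have hm := hM (lam ^ (t + 1)) lam (hP t k (le_refl k)) h0
    rw [← pow_succ] at hm
    exact hpair _ _ (hb k) hm j hj
  -- (S4) all scalars
  have hall : ∀ (s : F) (j : ℕ), j ≤ k + 1 → TV H (s • bv (k + 3) F j) (bv (k + 3) F (k + 2)) := by
    intro s j hj
    by_cases hs : s = 0
    · rw [hs, zero_smul]
      exact TV.zero_left H _
    · obtain ⟨t0, ht0⟩ := hgen s hs
      have e : s = lam ^ ((t0 + 2 * r - 2) + 2) := by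
        have e1 : t0 + 2 * r - 2 + 2 = t0 + r + r := by omega
        rw [e1, pow_add, pow_add, hlr, mul_one, mul_one]
        exact ht0
      rw [e]
      exact hQ _ j hj
  -- (S5) the last coordinate functional is full
  have hfullL : FullAx H (bv (k + 3) F (k + 2)) := by
    intro v hv
    rw [bv_dot (by omega : k + 2 < k + 3)] at hv
    have e : v = ∑ i : Fin (k + 3), v i • bv (k + 3) F i.val := by
      funext a
      rw [Finset.sum_apply]
      simp only [Pi.smul_apply, bv_apply, smul_eq_mul, mul_ite, mul_one, mul_zero]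
      rw [Finset.sum_eq_single a]
      · simp
      · intro i _ hia
        rw [if_neg]
        intro h
        exact hia (Fin.ext h.symm)
      · intro h
        exact absurd (Finset.mem_univ a) h
    rw [e]
    apply Finset.sum_induction _ (fun x => TV H x (bv (k + 3) F (k + 2)))
    · intro x y hx hy
      exact hx.add hy
    · exact TV.zero_left H _
    · intro i _
      by_cases hi : i.val ≤ k + 1
      · exact hall _ _ hi
      · have hi2 : i = ⟨k + 2, by omega⟩ := by
          apply Fin.ext
          have := i.isLt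
          simp only
          omega
        rw [hi2, hv, zero_smul]
        exact TV.zero_left H _
  -- (S6) all coordinate functionals are full
  have hax : ∀ i j, j + i = k + 2 → FullAx H (bv (k + 3) F j) := by
    intro i
    induction i with
    | zero =>
      intro j hj
      have : j = k + 2 := by omega
      subst this
      exact hfullL
    | succ i ih =>
      intro j hj
      have hj1 := ih (j + 1) (by omega)
      have f1 := hj1.vecMul h3
      have e1 : bv (k + 3) F (j + 1) ᵥ* (u3 : Matrix (Fin (k + 3)) (Fin (k + 3)) F)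
          = bv (k + 3) F (j + 1) + b j • bv (k + 3) F j := by
        rw [hu3, vecMul_add, vecMul_one, bv_succ_vecMul_Mm b (by omega)]
      have hw : TV H ((-(b j)) • bv (k + 3) F j) (bv (k + 3) F (j + 1)) := by
        apply hj1
        rw [dotProduct_smul, bv_dot_bv (by omega), if_neg (by omega), smul_zero]
      obtain ⟨g, hgH, hg⟩ := hw
      have f2 := f1.vecMul hgH
      have e2 : (bv (k + 3) F (j + 1) + b j • bv (k + 3) F j) ⬝ᵥ ((-(b j)) • bv (k + 3) F j)
          = -1 := by
        rw [dotProduct_smul, add_dotProduct, smul_dotProduct, bv_dot_bv (by omega),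
          bv_dot_bv (by omega), if_neg (by omega), if_pos rfl]
        have := sign_sq (hb j)
        simp only [smul_eq_mul, mul_one, zero_add]
        rw [neg_mul, this]
      rw [e1, hg, vecMul_one_add_vmv, e2] at f2
      have e3 : bv (k + 3) F (j + 1) + b j • bv (k + 3) F j + (-1 : F) • bv (k + 3) F (j + 1)
          = b j • bv (k + 3) F j := by
        module
      rw [e3] at f2
      exact f2.of_smul (sign_ne_zero (hb j))
  -- (S7) all elementary transvections
  have : Nontrivial (Fin (k + 3)) := Fin.nontrivial_iff_two_le.mpr (by omega)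
  rw [eq_top_iff]
  intro M _
  refine Cfsg.Agent.Helper7.Transv.transvection_induction (fun M => M ∈ H) ?_
    (fun A B hA hB => H.mul_mem hA hB) M
  intro i j hij c
  have hf := hax (k + 2 - j.val) j.val (by have := j.isLt; omega)
  have hv : bv (k + 3) F j.val ⬝ᵥ (c • bv (k + 3) F i.val) = 0 := by
    rw [dotProduct_smul, bv_dot_bv j.isLt, if_neg, smul_zero]
    intro h
    exact hij (Fin.ext h.symm)
  obtain ⟨g, hgH, hg⟩ := hf _ hv
  have : g = Matrix.SpecialLinearGroup.transvection hij c := by
    apply Subtype.ext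
    rw [hg, Matrix.SpecialLinearGroup.transvection_coe]
    congr 1
    ext a a'
    rw [vecMulVec_apply, Pi.smul_apply, bv_apply, bv_apply, Matrix.single_apply]
    by_cases h1 : i = a
    · by_cases h2 : j = a'
      · subst h1 h2
        simp
      · have : ¬ a'.val = j.val := fun h => h2 (Fin.ext h.symm)
        simp [h2, this]
    · have : ¬ a.val = i.val := fun h => h1 (Fin.ext h.symm)
      simp [h1, this]
  rw [← this]
  exact hgH

end Cfsg.Agent.Helper8.RgGen
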