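import Mathlib
import Cfsg.Agent.Helper8.RgGenC

set_option autoImplicit false
set_option linter.unusedSectionVars false

/-! Generation of `SL_n(F)` by three conjugate regular unipotent elements: the elements
(helper8). -/

namespace Cfsg.Agent.Helper8.RgGen

open Matrix

variable {F : Type*} [Field F] {n : ℕ}

/-- two matrices agreeing on the basis vectors are equal. -/
theorem ext_bv {A B : Matrix (Fin n) (Fin n) F}
    (h : ∀ j, j < n → A *ᵥ bv n F j = B *ᵥ bv n F j) : A = B := by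
  ext i j
  have h1 := congrFun (h j.val j.isLt) i
  rw [bv_eq_single j.isLt, mulVec_single_one, mulVec_single_one] at h1
  exact h1

theorem Nm_pow_mulVec_bv_add (t j : ℕ) (hj : j + t < n) :
    (Nm n F ^ t) *ᵥ bv n F (j + t) = bv n F j := by
  induction t with
  | zero => rw [pow_zero, one_mulVec, add_zero]
  | succ t ih =>
    rw [pow_succ, ← mulVec_mulVec, show j + (t + 1) = (j + t) + 1 by omega,
      Nm_mulVec_bv_succ (by omega), ih (by omega)]

theorem Nm_pow_mulVec_bv_lt (t : ℕ) : ∀ j, j < t → (Nm n F ^ t) *ᵥ bv n F j = 0 := by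
  induction t with
  | zero => intro j hj; omega
  | succ t ih =>
    intro j hj
    rw [pow_succ, ← mulVec_mulVec]
    rcases j with _ | j
    · rw [Nm_mulVec_bv_zero, mulVec_zero]
    · by_cases hjn : j + 1 < n
      · rw [Nm_mulVec_bv_succ hjn, ih j (by omega)]
      · have : bv n F (j + 1) = 0 := by
          funext i
          rw [bv_apply, if_neg]
          · rfl
          · have := i.isLt
            omega
        rw [this, mulVec_zero, mulVec_zero]

theorem Nm_pow_eq_zero : Nm n F ^ n = 0 := by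
  apply ext_bv
  intro j hj
  rw [Nm_pow_mulVec_bv_lt n j hj, zero_mulVec]

theorem bv_ne_zero {j : ℕ} (hj : j < n) : bv n F j ≠ 0 := by
  intro h
  have := congrFun h ⟨j, hj⟩
  rw [bv_apply, if_pos rfl] at this
  exact one_ne_zero this

theorem Nm_pow_ne_zero (hn : 0 < n) : Nm n F ^ (n - 1) ≠ 0 := by
  intro h
  have h1 := Nm_pow_mulVec_bv_add (F := F) (n := n) (n - 1) 0 (by omega)
  rw [h, zero_mulVec] at h1
  exact bv_ne_zero hn h1.symm

theorem det_one_add_Nm : (1 + Nm n F).det = 1 := by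
  rw [Matrix.det_of_isUpperTriangular]
  · apply Finset.prod_eq_one
    intro i _
    rw [Matrix.add_apply, Matrix.one_apply_eq, Nm_apply, if_neg (by omega), add_zero]
  · intro i j hij
    have hji : j < i := hij
    have hne : i ≠ j := Ne.symm (ne_of_lt hji)
    have hv : j.val < i.val := hji
    show (1 + Nm n F) i j = 0
    rw [Matrix.add_apply, Matrix.one_apply_ne hne, Nm_apply, zero_add, if_neg]
    omega

/-- the upper regular unipotent element. -/
def u1 (n : ℕ) (F : Type*) [Field F] : Matrix.SpecialLinearGroup (Fin n) F :=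
  ⟨1 + Nm n F, det_one_add_Nm⟩

theorem u1_coe : ((u1 n F : Matrix.SpecialLinearGroup (Fin n) F) : Matrix (Fin n) (Fin n) F)
    = 1 + Nm n F := rfl

theorem u1_regular (hn : 0 < n) :
    IsNilpotent ((u1 n F : Matrix (Fin n) (Fin n) F) - 1) ∧
      ((u1 n F : Matrix (Fin n) (Fin n) F) - 1) ^ (n - 1) ≠ 0 := by
  rw [u1_coe, add_sub_cancel_left]
  exact ⟨⟨n, Nm_pow_eq_zero⟩, Nm_pow_ne_zero hn⟩

theorem one_add_vmv_mulVec {ι : Type} [Fintype ι] [DecidableEq ι] (a φ v : ι → F) :
    (1 + vecMulVec a φ) *ᵥ v = v + (φ ⬝ᵥ v) • a := by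
  rw [add_mulVec, one_mulVec, vecMulVec_mulVec, op_smul_eq_smul]

/-- conjugating `1 + N` by the root element `1 - λ E_{k+1,k+2}` multiplies it by `1 + λ E_{k,k+2}`. -/
theorem conj_u1 (k : ℕ) (lam : F) (g : Matrix.SpecialLinearGroup (Fin (k + 3)) F)
    (hg : (g : Matrix (Fin (k + 3)) (Fin (k + 3)) F)
      = 1 + vecMulVec ((-lam) • bv (k + 3) F (k + 1)) (bv (k + 3) F (k + 2))) :
    ((g * u1 (k + 3) F * g⁻¹ * (u1 (k + 3) F)⁻¹ : Matrix.SpecialLinearGroup (Fin (k + 3)) F) :
      Matrix (Fin (k + 3)) (Fin (k + 3)) F)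
      = 1 + vecMulVec (lam • bv (k + 3) F k) (bv (k + 3) F (k + 2)) := by
  have key : (g : Matrix (Fin (k + 3)) (Fin (k + 3)) F) * (1 + Nm (k + 3) F)
      = (1 + vecMulVec (lam • bv (k + 3) F k) (bv (k + 3) F (k + 2))) * (1 + Nm (k + 3) F)
        * (g : Matrix (Fin (k + 3)) (Fin (k + 3)) F) := by
    rw [Matrix.ext_iff_mulVec]
    intro v
    have hlast : bv (k + 3) F (k + 2) ⬝ᵥ (Nm (k + 3) F *ᵥ v) = 0 := by
      rw [dotProduct_mulVec, bv_vecMul_Nm_last (by omega), zero_dotProduct]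
    rw [← mulVec_mulVec, ← mulVec_mulVec, ← mulVec_mulVec, hg, one_add_vmv_mulVec,
      one_add_vmv_mulVec, one_add_vmv_mulVec]
    simp only [add_mulVec, one_mulVec, mulVec_add, mulVec_smul, dotProduct_add, dotProduct_smul,
      Nm_mulVec_bv_succ (show k + 1 < k + 3 by omega), hlast,
      bv_dot_bv (show k + 2 < k + 3 by omega)]
    simp only [show ¬ (k + 2 = k + 1) by omega, show ¬ (k + 2 = k) by omega, if_false, smul_zero,
      add_zero]
    module
  rw [Matrix.SpecialLinearGroup.coe_mul, Matrix.SpecialLinearGroup.coe_mul,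
    Matrix.SpecialLinearGroup.coe_mul, u1_coe, key, Matrix.mul_assoc _ _ (g⁻¹ : Matrix.SpecialLinearGroup (Fin (k + 3)) F).1,
    coe_mul_inv, mul_one, Matrix.mul_assoc, ← u1_coe, coe_mul_inv, mul_one]

end Cfsg.Agent.Helper8.RgGen
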