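import Mathlib
import Cfsg.Agent.Helper8.RgGenD

set_option autoImplicit false
set_option linter.unusedSectionVars false

/-! Generation of `SL_n(F)` by three conjugate regular unipotent elements (helper8). -/

namespace Cfsg.Agent.Helper8.RgGen

open Matrix

variable {F : Type*} [Field F]

/-- the reversal permutation matrix. -/
def Rm (n : ℕ) (F : Type*) [Field F] : Matrix (Fin n) (Fin n) F :=
  (Fin.revPerm : Equiv.Perm (Fin n)).permMatrix F

theorem Rm_mulVec_bv {n j : ℕ} (hj : j < n) : Rm n F *ᵥ bv n F j = bv n F (n - 1 - j) := by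
  unfold Rm
  rw [Matrix.permMatrix_mulVec]
  funext i
  rw [Function.comp_apply, bv_apply, bv_apply, Fin.revPerm_apply, Fin.val_rev]
  have := i.isLt
  congr 1
  apply propext
  constructor <;> intro h <;> omega

theorem det_Rm (n : ℕ) : (Rm n F).det = 1 ∨ (Rm n F).det = -1 := by
  unfold Rm
  rw [Matrix.det_permutation]
  rcases Int.units_eq_one_or (Equiv.Perm.sign (Fin.revPerm : Equiv.Perm (Fin n))) with h | h
  · left
    rw [h]
    simp
  · right
    rw [h]
    simp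

/-- the sign pattern. -/
def dd (ε : F) (j : ℕ) : F := if j = 0 then ε else 1

theorem dd_sign {ε : F} (hε : ε = 1 ∨ ε = -1) (j : ℕ) : dd ε j = 1 ∨ dd ε j = -1 := by
  unfold dd
  split_ifs
  · exact hε
  · exact Or.inl rfl

/-- the diagonal sign matrix. -/
def Dm (n : ℕ) (ε : F) : Matrix (Fin n) (Fin n) F := Matrix.diagonal fun i => dd ε i.val

theorem Dm_mulVec_bv {n : ℕ} (ε : F) (j : ℕ) : Dm n ε *ᵥ bv n F j = dd ε j • bv n F j := by
  funext i
  unfold Dm
  rw [Matrix.mulVec_diagonal, Pi.smul_apply, bv_apply, smul_eq_mul]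
  by_cases h : i.val = j
  · rw [if_pos h, h]
  · rw [if_neg h, mul_zero, mul_zero]

theorem det_Dm {n : ℕ} (hn : 0 < n) (ε : F) : (Dm n ε).det = ε := by
  unfold Dm
  rw [Matrix.det_diagonal, Finset.prod_eq_single (⟨0, hn⟩ : Fin n)]
  · simp [dd]
  · intro i _ hi
    have : i.val ≠ 0 := fun h => hi (Fin.ext h)
    simp [dd, this]
  · intro h
    exact absurd (Finset.mem_univ _) h

/-- the conjugating matrix turns `1 + N` into the signed lower regular unipotent. -/
theorem conj_key (k : ℕ) {ε : F} (hε : ε = 1 ∨ ε = -1) :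
    (Dm (k + 3) ε * Rm (k + 3) F) * (1 + Nm (k + 3) F)
      = (1 + Mm (k + 3) (dd ε)) * (Dm (k + 3) ε * Rm (k + 3) F) := by
  have hεε : ε * ε = 1 := sign_sq hε
  have hDR : ∀ j, j < k + 3 → (Dm (k + 3) ε * Rm (k + 3) F) *ᵥ bv (k + 3) F j
      = dd ε (k + 3 - 1 - j) • bv (k + 3) F (k + 3 - 1 - j) := by
    intro j hj
    rw [← mulVec_mulVec, Rm_mulVec_bv hj, Dm_mulVec_bv]
  apply ext_bv
  intro j hj
  rw [← mulVec_mulVec, ← mulVec_mulVec _ (1 + Mm (k + 3) (dd ε)), hDR j hj, add_mulVec,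
    one_mulVec, mulVec_add, hDR j hj, add_mulVec, one_mulVec, mulVec_smul]
  rcases j with _ | j
  · rw [Nm_mulVec_bv_zero, mulVec_zero, add_zero,
      Mm_mulVec_bv_last (dd ε) (show k + 3 - 1 - 0 + 1 = k + 3 by omega), smul_zero, add_zero]
  · rw [Nm_mulVec_bv_succ hj, hDR j (by omega),
      Mm_mulVec_bv (dd ε) (show k + 3 - 1 - (j + 1) + 1 < k + 3 by omega),
      show k + 3 - 1 - (j + 1) + 1 = k + 3 - 1 - j by omega, smul_smul]
    congr 2
    unfold dd
    rw [if_neg (show ¬ (k + 3 - 1 - j = 0) by omega)]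
    split_ifs
    · exact hεε.symm
    · rw [mul_one]

/-- **`SL_n(F)` with `n ≥ 3` is generated by three conjugate regular unipotent elements.** -/
theorem three_conj [Fintype F] (k : ℕ) :
    ∃ u g h : Matrix.SpecialLinearGroup (Fin (k + 3)) F,
      (IsNilpotent ((u : Matrix (Fin (k + 3)) (Fin (k + 3)) F) - 1) ∧
        ((u : Matrix (Fin (k + 3)) (Fin (k + 3)) F) - 1) ^ (k + 3 - 1) ≠ 0) ∧
      Subgroup.closure ({u, g * u * g⁻¹, h * u * h⁻¹} :
        Set (Matrix.SpecialLinearGroup (Fin (k + 3)) F)) = ⊤ := by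
  classical
  obtain ⟨gen, hgen⟩ := IsCyclic.exists_generator (α := Fˣ)
  have hgen' : ∀ s : F, s ≠ 0 → ∃ t : ℕ, s = (gen : F) ^ t := by
    intro s hs
    have hu := hgen (Units.mk0 s hs)
    rw [← mem_powers_iff_mem_zpowers] at hu
    obtain ⟨j, hj⟩ := hu
    refine ⟨j, ?_⟩
    have := congrArg (fun u : Fˣ => (u : F)) hj
    simpa using this.symm
  have hpow : (gen : F) ^ (Fintype.card F - 1) = 1 :=
    FiniteField.pow_card_sub_one_eq_one _ gen.ne_zero
  have hcard : 1 ≤ Fintype.card F - 1 := by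
    have := Fintype.one_lt_card (α := F)
    omega
  -- the root element used for the second conjugate
  have hdet2 : (1 + vecMulVec ((-(gen : F)) • bv (k + 3) F (k + 1)) (bv (k + 3) F (k + 2))).det
      = 1 := by
    have h := Cfsg.Agent.Helper7.QF.det_one_add_smul_vecMulVec (1 : F)
      ((-(gen : F)) • bv (k + 3) F (k + 1)) (bv (k + 3) F (k + 2))
    rw [one_smul, one_mul, dotProduct_smul, bv_dot_bv (by omega), if_neg (by omega), smul_zero,
      add_zero] at h
    exact h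
  -- the conjugator for the third
  obtain ⟨ε, hε, hdetR⟩ : ∃ ε : F, (ε = 1 ∨ ε = -1) ∧ (Rm (k + 3) F).det = ε := by
    rcases det_Rm (F := F) (k + 3) with h | h
    · exact ⟨1, Or.inl rfl, h⟩
    · exact ⟨-1, Or.inr rfl, h⟩
  have hdet3 : (Dm (k + 3) ε * Rm (k + 3) F).det = 1 := by
    rw [Matrix.det_mul, det_Dm (by omega), hdetR]
    exact sign_sq hε
  set g2 : Matrix.SpecialLinearGroup (Fin (k + 3)) F := ⟨_, hdet2⟩ with hg2
  set g3 : Matrix.SpecialLinearGroup (Fin (k + 3)) F := ⟨_, hdet3⟩ with hg3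
  refine ⟨u1 (k + 3) F, g2, g3, u1_regular (by omega), ?_⟩
  have hu3 : ((g3 * u1 (k + 3) F * g3⁻¹ : Matrix.SpecialLinearGroup (Fin (k + 3)) F) :
      Matrix (Fin (k + 3)) (Fin (k + 3)) F) = 1 + Mm (k + 3) (dd ε) := by
    rw [Matrix.SpecialLinearGroup.coe_mul, Matrix.SpecialLinearGroup.coe_mul, u1_coe]
    have : (g3 : Matrix (Fin (k + 3)) (Fin (k + 3)) F) = Dm (k + 3) ε * Rm (k + 3) F := rfl
    rw [this, conj_key k hε, ← this, Matrix.mul_assoc, coe_mul_inv, mul_one]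
  set H := Subgroup.closure ({u1 (k + 3) F, g2 * u1 (k + 3) F * g2⁻¹, g3 * u1 (k + 3) F * g3⁻¹} :
    Set (Matrix.SpecialLinearGroup (Fin (k + 3)) F)) with hH
  have m1 : u1 (k + 3) F ∈ H := Subgroup.subset_closure (by simp)
  have m2 : g2 * u1 (k + 3) F * g2⁻¹ ∈ H := Subgroup.subset_closure (by simp)
  have m3 : g3 * u1 (k + 3) F * g3⁻¹ ∈ H := Subgroup.subset_closure (by simp)
  apply eq_top_of_mem k (gen : F) hgen' (Fintype.card F - 1) hcard hpow (dd ε) (dd_sign hε) H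
    (u1 (k + 3) F) (g3 * u1 (k + 3) F * g3⁻¹) u1_coe hu3 m1 m3
  exact ⟨g2 * u1 (k + 3) F * g2⁻¹ * (u1 (k + 3) F)⁻¹, H.mul_mem m2 (H.inv_mem m1),
    conj_u1 k (gen : F) g2 rfl⟩

end Cfsg.Agent.Helper8.RgGen
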