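import Mathlib
import Cfsg.Prelude.Def_RootSubgroups
import Cfsg.Agent.Helper7.RootSubgroupBasic
import Cfsg.Agent.Helper8.RankOneExtra

set_option autoImplicit false

/-! Sets of abstract root subgroups: basic facts on the commutator case (helper8). -/

namespace Cfsg.Agent.Helper8.RootComm

open Cfsg Cfsg.Agent.Helper7.R1 Cfsg.Agent.Helper7.Root

variable {G : Type*} [Group G] {S : Set (Subgroup G)} {A B C D E : Subgroup G}

/-- the commutator `a⁻¹ b⁻¹ a b` -/
def psi (a b : G) : G := a⁻¹ * b⁻¹ * a * b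

theorem psi_mem {a b : G} (ha : a ∈ A) (hb : b ∈ B) : psi a b ∈ ⁅A, B⁆ := by
  have := Subgroup.commutator_mem_commutator (A.inv_mem ha) (B.inv_mem hb)
  simpa [psi, commutatorElement_def] using this

theorem comm_mem {a b : G} (ha : a ∈ A) (hb : b ∈ B) : a * b * a⁻¹ * b⁻¹ ∈ ⁅A, B⁆ :=
  Subgroup.commutator_mem_commutator ha hb

@[simp] theorem psi_one_right (a : G) : psi a 1 = 1 := by simp [psi]

@[simp] theorem psi_one_left (b : G) : psi 1 b = 1 := by simp [psi]

theorem conj_eq_mul_psi (a b : G) : b⁻¹ * a * b = a * psi a b := by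
  unfold psi; group

theorem conj_eq_mul_psi' (a b : G) : b * a * b⁻¹ = a * psi a b⁻¹ := by
  unfold psi; group

/-- general group identity: multiplicativity of `psi a` when `psi a b` commutes suitably -/
theorem psi_mul_right_of_comm (a b b' : G)
    (h : psi a b * (a⁻¹ * b'⁻¹ * a) = (a⁻¹ * b'⁻¹ * a) * psi a b) :
    psi a (b * b') = psi a b * psi a b' := by
  have e1 : psi a (b * b') = (a⁻¹ * b'⁻¹ * a) * psi a b * b' := by unfold psi; group
  have e2 : psi a b * psi a b' = psi a b * (a⁻¹ * b'⁻¹ * a) * b' := by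
    unfold psi; group
  rw [e1, e2, h]

theorem psi_mul_left_of_comm (a a' b : G)
    (h : psi a b * a'⁻¹ = a'⁻¹ * psi a b) :
    psi (a * a') b = psi a b * psi a' b := by
  have e1 : psi (a * a') b = a'⁻¹ * psi a b * (b⁻¹ * a' * b) := by unfold psi; group
  have e2 : psi a b * psi a' b = psi a b * a'⁻¹ * (b⁻¹ * a' * b) := by
    unfold psi; group
  rw [e1, e2, h]

section CommCase

variable (h : RootCommutatorCase S A B)
include h

theorem central {c : G} (hc : c ∈ ⁅A, B⁆) {x : G} (hx : x ∈ A ⊔ B) : c * x = x * c :=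
  h.2.1 c hc x hx

theorem psi_central {a b : G} (ha : a ∈ A) (hb : b ∈ B) {x : G} (hx : x ∈ A ⊔ B) :
    psi a b * x = x * psi a b :=
  central h (psi_mem ha hb) hx

theorem psi_mul_right {a b b' : G} (ha : a ∈ A) (hb : b ∈ B) (hb' : b' ∈ B) :
    psi a (b * b') = psi a b * psi a b' := by
  apply psi_mul_right_of_comm
  apply psi_central h ha hb
  exact mul_mem (mul_mem (Subgroup.mem_sup_left (A.inv_mem ha))
    (Subgroup.mem_sup_right (B.inv_mem hb'))) (Subgroup.mem_sup_left ha)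

theorem psi_mul_left {a a' b : G} (ha : a ∈ A) (ha' : a' ∈ A) (hb : b ∈ B) :
    psi (a * a') b = psi a b * psi a' b := by
  apply psi_mul_left_of_comm
  apply psi_central h ha hb
  exact Subgroup.mem_sup_left (A.inv_mem ha')

theorem psi_inv_right {a b : G} (ha : a ∈ A) (hb : b ∈ B) : psi a b⁻¹ = (psi a b)⁻¹ := by
  have := psi_mul_right h ha hb (B.inv_mem hb)
  rw [mul_inv_cancel, psi_one_right] at this
  exact eq_inv_of_mul_eq_one_right this.symm

theorem psi_inv_left {a b : G} (ha : a ∈ A) (hb : b ∈ B) : psi a⁻¹ b = (psi a b)⁻¹ := by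
  have := psi_mul_left h ha (A.inv_mem ha) hb
  rw [mul_inv_cancel, psi_one_left] at this
  exact eq_inv_of_mul_eq_one_right this.symm

/-- the two commutator conventions agree in the commutator case -/
theorem psi_eq {a b : G} (ha : a ∈ A) (hb : b ∈ B) : psi a b = a * b * a⁻¹ * b⁻¹ := by
  have hz := psi_central h ha hb (x := b * a)
    (mul_mem (Subgroup.mem_sup_right hb) (Subgroup.mem_sup_left ha))
  have e1 : a * b = b * a * psi a b := by unfold psi; group
  have e2 : a * b * a⁻¹ * b⁻¹ = (b * a * psi a b) * a⁻¹ * b⁻¹ := by rw [← e1]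
  rw [e2, ← hz]; group

theorem psi_surj_right {a : G} (ha : a ∈ A) (ha1 : a ≠ 1) {c : G} (hc : c ∈ ⁅A, B⁆) :
    ∃ b ∈ B, psi a b = c := by
  let T : Subgroup G :=
    { carrier := {c | ∃ b ∈ B, psi a b = c}
      mul_mem' := by
        rintro _ _ ⟨b, hb, rfl⟩ ⟨b', hb', rfl⟩
        exact ⟨b * b', B.mul_mem hb hb', psi_mul_right h ha hb hb'⟩
      one_mem' := ⟨1, B.one_mem, psi_one_right a⟩
      inv_mem' := by
        rintro _ ⟨b, hb, rfl⟩
        exact ⟨b⁻¹, B.inv_mem hb, psi_inv_right h ha hb⟩ }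
  have hle : ⁅A, B⁆ ≤ T := by
    rw [← h.2.2.1 a ha ha1, Subgroup.closure_le]
    rintro _ ⟨b, hb, rfl⟩
    exact ⟨b, hb, psi_eq h ha hb⟩
  exact hle hc

theorem psi_surj_left {b : G} (hb : b ∈ B) (hb1 : b ≠ 1) {c : G} (hc : c ∈ ⁅A, B⁆) :
    ∃ a ∈ A, psi a b = c := by
  let T : Subgroup G :=
    { carrier := {c | ∃ a ∈ A, psi a b = c}
      mul_mem' := by
        rintro _ _ ⟨a, ha, rfl⟩ ⟨a', ha', rfl⟩
        exact ⟨a * a', A.mul_mem ha ha', psi_mul_left h ha ha' hb⟩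
      one_mem' := ⟨1, A.one_mem, psi_one_left b⟩
      inv_mem' := by
        rintro _ ⟨a, ha, rfl⟩
        exact ⟨a⁻¹, A.inv_mem ha, psi_inv_left h ha hb⟩ }
  have hle : ⁅A, B⁆ ≤ T := by
    rw [← h.2.2.2 b hb hb1, Subgroup.closure_le]
    rintro _ ⟨a, ha, rfl⟩
    exact ⟨a, ha, psi_eq h ha hb⟩
  exact hle hc

omit h in
/-- `b A b⁻¹ ≤ A ⁅A, B⁆` -/
theorem conjBy_le_sup {b : G} (hb : b ∈ B) : conjBy A b ≤ A ⊔ ⁅A, B⁆ := by
  intro x hx
  rw [mem_conjBy] at hx
  have e : x = (b⁻¹ * x * b) * psi (b⁻¹ * x * b) b⁻¹ := by unfold psi; group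
  rw [e]
  exact mul_mem (Subgroup.mem_sup_left hx) (Subgroup.mem_sup_right (psi_mem hx (B.inv_mem hb)))

/-- every `a c` with `a ≠ 1` lies in a `B`-conjugate of `A` -/
theorem exists_conj_mem {a : G} (ha : a ∈ A) (ha1 : a ≠ 1) {c : G} (hc : c ∈ ⁅A, B⁆) :
    ∃ b ∈ B, a * c ∈ conjBy A b := by
  obtain ⟨b, hb, e⟩ := psi_surj_right h ha ha1 hc
  refine ⟨b⁻¹, B.inv_mem hb, ?_⟩
  rw [mem_conjBy, ← e]
  have : b⁻¹⁻¹ * (a * psi a b) * b⁻¹ = a := by unfold psi; group
  rw [this]; exact ha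

theorem commutator_ne_bot (hS : IsRootSubgroupSet S) : ⁅A, B⁆ ≠ ⊥ := hS.ne_bot _ h.1

theorem comm_left {a c : G} (ha : a ∈ A) (hc : c ∈ ⁅A, B⁆) : a * c = c * a :=
  (central h hc (Subgroup.mem_sup_left ha)).symm

theorem comm_right {b c : G} (hb : b ∈ B) (hc : c ∈ ⁅A, B⁆) : b * c = c * b :=
  (central h hc (Subgroup.mem_sup_right hb)).symm

end CommCase

/-- the commutator case is symmetric -/
theorem symm (h : RootCommutatorCase S A B) : RootCommutatorCase S B A := by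
  have e : ⁅B, A⁆ = ⁅A, B⁆ := Subgroup.commutator_comm B A
  refine ⟨e ▸ h.1, ?_, ?_, ?_⟩
  · intro c hc x hx
    rw [e] at hc
    rw [sup_comm] at hx
    exact h.2.1 c hc x hx
  · intro b hb hb1
    rw [e, ← h.2.2.2 b hb hb1]
    apply le_antisymm
    · rw [Subgroup.closure_le]
      rintro _ ⟨a, ha, rfl⟩
      have : (fun a : G => a * b * a⁻¹ * b⁻¹) a ∈
          Subgroup.closure ((fun a : G => a * b * a⁻¹ * b⁻¹) '' (A : Set G)) :=
        Subgroup.subset_closure ⟨a, ha, rfl⟩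
      have h2 := Subgroup.inv_mem _ this
      have e2 : ((fun a : G => a * b * a⁻¹ * b⁻¹) a)⁻¹ = b * a * b⁻¹ * a⁻¹ := by
        simp only; group
      rw [e2] at h2
      exact h2
    · rw [Subgroup.closure_le]
      rintro _ ⟨a, ha, rfl⟩
      have : (fun a : G => b * a * b⁻¹ * a⁻¹) a ∈
          Subgroup.closure ((fun a : G => b * a * b⁻¹ * a⁻¹) '' (A : Set G)) :=
        Subgroup.subset_closure ⟨a, ha, rfl⟩
      have h2 := Subgroup.inv_mem _ this
      have e2 : ((fun a : G => b * a * b⁻¹ * a⁻¹) a)⁻¹ = a * b * a⁻¹ * b⁻¹ := by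
        simp only; group
      rw [e2] at h2
      exact h2
  · intro a ha ha1
    rw [e, ← h.2.2.1 a ha ha1]
    apply le_antisymm
    · rw [Subgroup.closure_le]
      rintro _ ⟨b, hb, rfl⟩
      have : (fun b : G => a * b * a⁻¹ * b⁻¹) b ∈
          Subgroup.closure ((fun b : G => a * b * a⁻¹ * b⁻¹) '' (B : Set G)) :=
        Subgroup.subset_closure ⟨b, hb, rfl⟩
      have h2 := Subgroup.inv_mem _ this
      have e2 : ((fun b : G => a * b * a⁻¹ * b⁻¹) b)⁻¹ = b * a * b⁻¹ * a⁻¹ := by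
        simp only; group
      rw [e2] at h2
      exact h2
    · rw [Subgroup.closure_le]
      rintro _ ⟨b, hb, rfl⟩
      have : (fun b : G => b * a * b⁻¹ * a⁻¹) b ∈
          Subgroup.closure ((fun b : G => b * a * b⁻¹ * a⁻¹) '' (B : Set G)) :=
        Subgroup.subset_closure ⟨b, hb, rfl⟩
      have h2 := Subgroup.inv_mem _ this
      have e2 : ((fun b : G => b * a * b⁻¹ * a⁻¹) b)⁻¹ = a * b * a⁻¹ * b⁻¹ := by
        simp only; group
      rw [e2] at h2
      exact h2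

/-- if all commutators `[a, b]` are central in `⟨A, B⟩` then `(A, B)` is no rank one pair -/
theorem not_rankOne_of_central (hp : IsRankOnePair A B)
    (hz : ∀ a ∈ A, ∀ b ∈ B, ∀ x ∈ A ⊔ B, psi a b * x = x * psi a b) : False := by
  obtain ⟨a, ha, ha1⟩ := exists_nonid hp
  obtain ⟨b, hb, hb1, e⟩ := hp.cond_left a ha ha1
  have hy : b⁻¹ * a * b ∈ conjBy A b⁻¹ := by
    rw [mem_conjBy]
    have : b⁻¹⁻¹ * (b⁻¹ * a * b) * b⁻¹ = a := by group
    rw [this]; exact ha
  rw [e, mem_conjBy, inv_inv] at hy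
  -- b'' := a * (b⁻¹ a b) * a⁻¹ ∈ B
  set b'' := a * (b⁻¹ * a * b) * a⁻¹ with hb''
  have hzc := hz a ha b hb
  have e1 : b'' = a * psi a b := by
    have : b'' = a * (a * psi a b) * a⁻¹ := by rw [hb'']; unfold psi; group
    rw [this, mul_assoc, mul_assoc, hzc a⁻¹ (Subgroup.mem_sup_left (A.inv_mem ha))]
    group
  have e2 : a = b'' * (psi a b)⁻¹ := by rw [e1]; group
  have hfix : conjBy B a = B := by
    rw [e2, conjBy_mul]
    have h1 : conjBy B (psi a b)⁻¹ = B := by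
      apply conjBy_inv_of_conjBy
      apply conjBy_of_comm
      intro x hx
      exact hzc x (Subgroup.mem_sup_right hx)
    rw [h1, conjBy_of_mem hy]
  exact ha1 (eq_one_of_conjBy_right hp ha hfix)

end Cfsg.Agent.Helper8.RootComm
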