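import Mathlib
import Cfsg.Agent.Helper8.RootCommA

set_option autoImplicit false

/-! Sets of abstract root subgroups: a pair whose commutator is a member is in the commutator case
(helper8). -/

namespace Cfsg.Agent.Helper8.RootComm

open Cfsg Cfsg.Agent.Helper7.R1 Cfsg.Agent.Helper7.Root

variable {G : Type*} [Group G] {S : Set (Subgroup G)} {A B C D E : Subgroup G}

theorem commutator_conj_mem {n x : G} (hn : n ∈ ⁅A, B⁆) (hx : x ∈ A ⊔ B) :
    x * n * x⁻¹ ∈ ⁅A, B⁆ := by
  have hle : A ⊔ B ≤ Subgroup.normalizer ((⁅A, B⁆ : Subgroup G) : Set G) :=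
    sup_le (Subgroup.normalizer_commutator_ge_left A B) (Subgroup.normalizer_commutator_ge_right A B)
  have := hle hx
  rw [Subgroup.mem_normalizer_iff] at this
  exact (this n).1 hn

/-- a rank one pair whose commutator subgroup is a member of `S` does not exist -/
theorem not_rankOne (hS : IsRootSubgroupSet S) (hA : A ∈ S) (hC : ⁅A, B⁆ ∈ S)
    (hp : IsRankOnePair A B) : False := by
  by_cases hfix : ∀ n ∈ ⁅A, B⁆, ∀ D ∈ unipotentSubgroups A B, conjBy D n = D
  · apply not_rankOne_of_central hp
    intro a ha b hb x hx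
    exact comm_of_fixes_all hp (hfix _ (psi_mem ha hb)) x hx
  · push Not at hfix
    obtain ⟨n, hn, D, hD, hmove⟩ := hfix
    have hB : B ≤ ⁅A, B⁆ ⊔ A := right_le_sup_of_moves hp
      (fun n hn x hx => commutator_conj_mem hn hx) (Subgroup.commutator_le_sup A B) hn hD hmove
    have hnorm : ∀ a ∈ A, conjBy ⁅A, B⁆ a = ⁅A, B⁆ := by
      intro a ha
      have h1 := conjBy_of_mem_normalizer (B := ⁅A, B⁆) (a := a⁻¹)
        (Subgroup.normalizer_commutator_ge_left A B (A.inv_mem ha))
      rwa [inv_inv] at h1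
    rcases hS.pair A hA _ hC with h0 | hr | hcase
    · -- A commutes with ⁅A,B⁆ : then A commutes with B
      obtain ⟨a, ha, ha1⟩ := exists_nonid hp
      apply ha1
      apply eq_one_of_conjBy_right hp ha
      apply conjBy_of_comm
      intro b hb
      have hb' := hB hb
      refine sup_induction' (p := fun x => a * x = x * a) ?_ ?_ ?_ ?_ hb'
      · intro c hc
        exact comm_of_commutator_eq_bot h0 ha hc
      · intro a' ha'
        exact comm_of_isMulCommutative (hS.commutative A hA) ha ha'
      · simp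
      · intro x y hx hy
        rw [← mul_assoc, hx, mul_assoc, hy, mul_assoc]
    · obtain ⟨a, ha, ha1⟩ := exists_nonid hp
      exact ha1 (eq_one_of_conjBy_right hr ha (hnorm a ha))
    · apply not_rankOne_of_central hp
      intro a ha b hb x hx
      -- psi a b ∈ ⁅A, ⁅A,B⁆⁆, central in A ⊔ ⁅A,B⁆ ⊇ A ⊔ B
      have hle : A ⊔ B ≤ A ⊔ ⁅A, B⁆ := sup_le le_sup_left (by rw [sup_comm]; exact hB)
      have key : ∀ y ∈ ⁅A, B⁆ ⊔ A, y ∈ A ⊔ ⁅A, B⁆ ∧
          ∀ x ∈ A ⊔ ⁅A, B⁆, psi a y * x = x * psi a y := by
        intro y hy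
        refine sup_induction' (p := fun y => y ∈ A ⊔ ⁅A, B⁆ ∧
          ∀ x ∈ A ⊔ ⁅A, B⁆, psi a y * x = x * psi a y) ?_ ?_ ?_ ?_ hy
        · intro c hc
          refine ⟨Subgroup.mem_sup_right hc, fun x hx => ?_⟩
          exact psi_central hcase ha hc hx
        · intro a' ha'
          refine ⟨Subgroup.mem_sup_left ha', fun x _ => ?_⟩
          have : psi a a' = 1 := by
            unfold psi
            have := comm_of_isMulCommutative (hS.commutative A hA) ha ha'
            rw [mul_assoc, this]; group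
          rw [this]; simp
        · exact ⟨one_mem _, fun x _ => by simp⟩
        · rintro y y' ⟨hym, hy⟩ ⟨hym', hy'⟩
          refine ⟨mul_mem hym hym', fun x hx => ?_⟩
          have hcomm := hy (a⁻¹ * y'⁻¹ * a)
            (mul_mem (mul_mem (Subgroup.mem_sup_left (A.inv_mem ha)) (inv_mem hym'))
              (Subgroup.mem_sup_left ha))
          rw [psi_mul_right_of_comm a y y' hcomm, mul_assoc, hy' x hx, ← mul_assoc, hy x hx,
            mul_assoc]
      exact (key b (hB hb)).2 x (hle hx)

/-- a pair of members whose commutator subgroup is a member is in the commutator case -/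
theorem commCase_of_mem (hS : IsRootSubgroupSet S) (hA : A ∈ S) (hB : B ∈ S) (hC : ⁅A, B⁆ ∈ S) :
    RootCommutatorCase S A B := by
  rcases hS.pair A hA B hB with h0 | hr | hcase
  · exact absurd h0 (hS.ne_bot _ hC)
  · exact (not_rankOne hS hA hC hr).elim
  · exact hcase

end Cfsg.Agent.Helper8.RootComm
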