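import Mathlib
import Cfsg.Agent.Helper8.RootCommB

set_option autoImplicit false

/-! Sets of abstract root subgroups: the partition of `A ⁅A, B⁆` in the commutator case, `A` having
a rank one partner (helper8). -/

namespace Cfsg.Agent.Helper8.RootComm

open Cfsg Cfsg.Agent.Helper7.R1 Cfsg.Agent.Helper7.Root

variable {G : Type*} [Group G] {S : Set (Subgroup G)} {A B C D E P : Subgroup G}

theorem mem_sup_iff (h : RootCommutatorCase S A B) {x : G} :
    x ∈ A ⊔ ⁅A, B⁆ ↔ ∃ a ∈ A, ∃ c ∈ ⁅A, B⁆, x = a * c := by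
  constructor
  · intro hx
    refine sup_induction' (p := fun x => ∃ a ∈ A, ∃ c ∈ ⁅A, B⁆, x = a * c) ?_ ?_ ?_ ?_ hx
    · intro a ha; exact ⟨a, ha, 1, one_mem _, by simp⟩
    · intro c hc; exact ⟨1, one_mem _, c, hc, by simp⟩
    · exact ⟨1, one_mem _, 1, one_mem _, by simp⟩
    · rintro _ _ ⟨a, ha, c, hc, rfl⟩ ⟨a', ha', c', hc', rfl⟩
      refine ⟨a * a', mul_mem ha ha', c * c', mul_mem hc hc', ?_⟩
      have := comm_left h ha' hc
      rw [mul_assoc, ← mul_assoc c, ← this]; group
  · rintro ⟨a, ha, c, hc, rfl⟩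
    exact mul_mem (Subgroup.mem_sup_left ha) (Subgroup.mem_sup_right hc)

theorem left_ne_commutator (hS : IsRootSubgroupSet S) (h : RootCommutatorCase S A B) :
    A ≠ ⁅A, B⁆ := by
  intro e
  apply commutator_ne_bot h hS
  rw [Subgroup.commutator_eq_bot_iff_le_centralizer]
  intro a ha
  rw [Subgroup.mem_centralizer_iff]
  intro b hb
  rw [e] at ha
  exact comm_right h hb ha

section Partner

variable (hS : IsRootSubgroupSet S) (hAS : A ∈ S) (hPS : P ∈ S) (hP : IsRankOnePair A P)
  (h : RootCommutatorCase S A B)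
include hS hAS hPS hP h

/-- `b ↦ a⁻¹ b⁻¹ a b` is injective -/
theorem psi_inj {a b : G} (ha : a ∈ A) (ha1 : a ≠ 1) (hb : b ∈ B) (e : psi a b = 1) : b = 1 := by
  by_contra hb1
  have hab : b⁻¹ * a * b = a := by
    rw [conj_eq_mul_psi, e, mul_one]
  have hmem : a ∈ conjBy A b := by
    rw [mem_conjBy, hab]; exact ha
  have hAb : A = conjBy A b := by
    by_contra hne
    have := inf_eq_bot_of_partner hS hPS hP (hS.conj_mem A hAS b) hne
    have h2 : a ∈ A ⊓ conjBy A b := ⟨ha, hmem⟩
    rw [this, Subgroup.mem_bot] at h2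
    exact ha1 h2
  have hle : ⁅A, B⁆ ≤ A := by
    rw [← h.2.2.2 b hb hb1, Subgroup.closure_le]
    rintro _ ⟨a', ha', rfl⟩
    have h1 : b * a'⁻¹ * b⁻¹ ∈ A := by
      rw [hAb, mem_conjBy]
      have : b⁻¹ * (b * a'⁻¹ * b⁻¹) * b = a'⁻¹ := by group
      rw [this]; exact A.inv_mem ha'
    have := A.mul_mem ha' h1
    have e2 : a' * (b * a'⁻¹ * b⁻¹) = a' * b * a'⁻¹ * b⁻¹ := by group
    rw [e2] at this
    exact this
  have hne := left_ne_commutator hS h
  have hbot := inf_eq_bot_of_partner hS hPS hP h.1 hne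
  apply commutator_ne_bot h hS
  rw [eq_bot_iff, ← hbot]
  exact le_inf hle le_rfl

/-- the isomorphism `b ↦ a⁻¹ b⁻¹ a b` from `B` onto `⁅A, B⁆` -/
theorem exists_equiv {a : G} (ha : a ∈ A) (ha1 : a ≠ 1) :
    ∃ φ : ↥B ≃* ↥⁅A, B⁆, ∀ b : ↥B, (φ b : G) = a⁻¹ * (b : G)⁻¹ * a * b := by
  let f : ↥B →* ↥⁅A, B⁆ :=
    { toFun := fun b => ⟨psi a b, psi_mem ha b.2⟩
      map_one' := by
        apply Subtype.ext
        simp
      map_mul' := by
        intro b b'
        apply Subtype.ext
        exact psi_mul_right h ha b.2 b'.2 }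
  have hinj : Function.Injective f := by
    rw [injective_iff_map_eq_one]
    intro b hb
    have h1 : psi a b = 1 := congrArg Subtype.val hb
    apply Subtype.ext
    exact psi_inj hS hAS hPS hP h ha ha1 b.2 h1
  have hsurj : Function.Surjective f := by
    rintro ⟨c, hc⟩
    obtain ⟨b, hb, e⟩ := psi_surj_right h ha ha1 hc
    exact ⟨⟨b, hb⟩, Subtype.ext e⟩
  refine ⟨MulEquiv.ofBijective f ⟨hinj, hsurj⟩, ?_⟩
  intro b
  rfl

/-- the members of `S` inside `A ⁅A, B⁆` -/
theorem members_cases (hD : D ∈ S) (hDle : D ≤ A ⊔ ⁅A, B⁆) :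
    (∃ b ∈ B, D = conjBy A b) ∨ D = ⁅A, B⁆ := by
  by_cases hDC : D ≤ ⁅A, B⁆
  · right
    by_contra hne
    -- choose d ∈ D, d ≠ 1
    obtain ⟨d, hd, hd1⟩ : ∃ d ∈ D, d ≠ 1 := by
      by_contra hcon
      push Not at hcon
      apply hS.ne_bot D hD
      rw [eq_bot_iff]
      intro x hx
      rw [Subgroup.mem_bot]
      exact hcon x hx
    obtain ⟨a, ha, ha1⟩ := exists_nonid hP
    have hdC : d ∈ ⁅A, B⁆ := hDC hd
    -- d * a is a root element
    have hroot : ∀ c ∈ ⁅A, B⁆, c * a ∈ rootElements S := by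
      intro c hc
      obtain ⟨b, hb, hmem⟩ := exists_conj_mem h ha ha1 hc
      rw [comm_left h ha hc] at hmem
      refine ⟨?_, conjBy A b, hS.conj_mem A hAS b, hmem⟩
      intro e1
      have : a = c⁻¹ := eq_inv_of_mul_eq_one_right e1
      apply ha1
      have h3 : a ∈ A ⊓ ⁅A, B⁆ := ⟨ha, by rw [this]; exact Subgroup.inv_mem _ hc⟩
      rw [inf_eq_bot_of_partner hS hPS hP h.1 (left_ne_commutator hS h), Subgroup.mem_bot] at h3
      exact h3
    -- no nontrivial element of ⁅A,B⁆ centralizes P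
    have hnc : ∀ c ∈ ⁅A, B⁆, c ≠ 1 → ¬ (∀ x ∈ P, c * x = x * c) := by
      intro c hc hc1 hcP
      apply central_mul_not_rootElement hS hPS hP (z := c) ?_ hc1 ha ha1 (hroot c hc)
      intro x hx
      refine sup_induction' (p := fun x => c * x = x * c) ?_ ?_ ?_ ?_ hx
      · intro a' ha'
        exact (comm_left h ha' hc).symm
      · exact hcP
      · simp
      · intro x y hx hy
        rw [← mul_assoc, hx, mul_assoc, hy, mul_assoc]
    rcases hS.pair P hPS D hD with h0 | hr | hcase1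
    · exact hnc d hdC hd1 (fun x hx => (comm_of_commutator_eq_bot h0 hx hd).symm)
    · -- D has a rank one partner, so D ∩ ⁅A,B⁆ = 1 or equal
      have := inf_eq_bot_of_partner hS hPS (RankOnePair_symm hr) h.1 hne
      have h2 : d ∈ D ⊓ ⁅A, B⁆ := ⟨hd, hdC⟩
      rw [this, Subgroup.mem_bot] at h2
      exact hd1 h2
    · rcases hS.pair P hPS _ h.1 with h0' | hr' | hcase2
      · exact hnc d hdC hd1 (fun x hx => (comm_of_commutator_eq_bot h0' hx hdC).symm)
      · have := inf_eq_bot_of_partner hS hPS (RankOnePair_symm hr') hD (Ne.symm hne)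
        have h2 : d ∈ ⁅A, B⁆ ⊓ D := ⟨hdC, hd⟩
        rw [this, Subgroup.mem_bot] at h2
        exact hd1 h2
      · -- both in the commutator case with P
        -- pick c ∈ ⁅A,B⁆ ∖ D
        obtain ⟨c, hc, hcD⟩ : ∃ c ∈ ⁅A, B⁆, c ∉ D := by
          by_contra hcon
          push Not at hcon
          exact hne (le_antisymm hDC hcon)
        obtain ⟨e, he, he1⟩ := exists_nonid (RankOnePair_symm hP)
        -- ⁅P, D⁆ = ⁅P, ⁅A,B⁆⁆
        have hFF : ⁅P, D⁆ = ⁅P, ⁅A, B⁆⁆ := by
          rw [← hcase1.2.2.2 d hd hd1, ← hcase2.2.2.2 d hdC hd1]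
        have hce : psi e c ∈ ⁅P, D⁆ := by
          rw [hFF]; exact psi_mem he hc
        obtain ⟨d', hd', e2⟩ := psi_surj_right hcase1 he he1 hce
        -- psi e (c * d'⁻¹) = 1
        have h3 : psi e (c * d'⁻¹) = 1 := by
          rw [psi_mul_right hcase2 he hc (inv_mem (hDC hd')),
            psi_inv_right hcase2 he (hDC hd'), e2, mul_inv_cancel]
        set c' := c * d'⁻¹ with hc'
        have hc'C : c' ∈ ⁅A, B⁆ := mul_mem hc (inv_mem (hDC hd'))
        have hc'1 : c' ≠ 1 := by
          intro e3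
          apply hcD
          have : c = d' := by
            have := congrArg (· * d') e3
            simpa [hc'] using this
          rw [this]; exact hd'
        -- e commutes with c', so e ∈ P ∩ c' P c'⁻¹
        have hcomm : c'⁻¹ * e * c' = e := by
          rw [conj_eq_mul_psi, h3, mul_one]
        have hmem : e ∈ conjBy P c' := by
          rw [mem_conjBy, hcomm]; exact he
        have hPc : P = conjBy P c' := by
          by_contra hne'
          have := inf_eq_bot_of_partner hS hAS (RankOnePair_symm hP) (hS.conj_mem P hPS c') hne'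
          have h2 : e ∈ P ⊓ conjBy P c' := ⟨he, hmem⟩
          rw [this, Subgroup.mem_bot] at h2
          exact he1 h2
        have hle : ⁅P, ⁅A, B⁆⁆ ≤ P := by
          rw [← hcase2.2.2.2 c' hc'C hc'1, Subgroup.closure_le]
          rintro _ ⟨p, hp, rfl⟩
          have h1 : c' * p⁻¹ * c'⁻¹ ∈ P := by
            rw [hPc, mem_conjBy]
            have : c'⁻¹ * (c' * p⁻¹ * c'⁻¹) * c' = p⁻¹ := by group
            rw [this]; exact P.inv_mem hp
          have := P.mul_mem hp h1
          have e2 : p * (c' * p⁻¹ * c'⁻¹) = p * c' * p⁻¹ * c'⁻¹ := by group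
          rw [e2] at this
          exact this
        have hne2 := left_ne_commutator hS hcase2
        have hbot := inf_eq_bot_of_partner hS hAS (RankOnePair_symm hP) hcase2.1 hne2
        apply commutator_ne_bot hcase2 hS
        rw [eq_bot_iff, ← hbot]
        exact le_inf hle le_rfl
  · left
    obtain ⟨d, hd, hdC⟩ : ∃ d ∈ D, d ∉ ⁅A, B⁆ := by
      by_contra hcon
      push Not at hcon
      exact hDC hcon
    obtain ⟨a, ha, c, hc, rfl⟩ := (mem_sup_iff h).1 (hDle hd)
    have ha1 : a ≠ 1 := by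
      rintro rfl
      apply hdC
      simpa using hc
    obtain ⟨b, hb, hmem⟩ := exists_conj_mem h ha ha1 hc
    refine ⟨b, hb, ?_⟩
    by_contra hne
    have hPb : IsRankOnePair (conjBy A b) (conjBy P b) := isRankOnePair_conj hP b
    have := inf_eq_bot_of_partner hS (hS.conj_mem P hPS b) hPb hD (Ne.symm hne)
    have h2 : a * c ∈ conjBy A b ⊓ D := ⟨hmem, hd⟩
    rw [this, Subgroup.mem_bot] at h2
    apply hdC
    rw [h2]; exact one_mem _

end Partner

end Cfsg.Agent.Helper8.RootComm
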