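import Mathlib
import Cfsg.Agent.Helper8.RootCommC

set_option autoImplicit false

/-! Generic group lemmas for the nilpotent chain `⟨A, B, C⟩` of abstract root subgroups
(helper8). -/

namespace Cfsg.Agent.Helper8.RootChain

open Cfsg Cfsg.Agent.Helper7.R1 Cfsg.Agent.Helper7.Root Cfsg.Agent.Helper8.RootComm

variable {G : Type*} [Group G]

/-- for `x` normalising `K`, the `g` in the normaliser of `K` with `x g x⁻¹ g⁻¹ ∈ K` -/
def commSub (K : Subgroup G) (x : G) : Subgroup G where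
  carrier := {g | g ∈ Subgroup.normalizer (K : Set G) ∧ x * g * x⁻¹ * g⁻¹ ∈ K}
  one_mem' := ⟨one_mem _, by simp⟩
  mul_mem' := by
    rintro g h ⟨hg, hgK⟩ ⟨hh, hhK⟩
    refine ⟨mul_mem hg hh, ?_⟩
    have e : x * (g * h) * x⁻¹ * (g * h)⁻¹ = (x * g * x⁻¹ * g⁻¹) * (g * (x * h * x⁻¹ * h⁻¹) * g⁻¹) := by
      group
    rw [e]
    exact K.mul_mem hgK ((hg _).1 hhK)
  inv_mem' := by
    rintro g ⟨hg, hgK⟩
    refine ⟨inv_mem hg, ?_⟩
    have e : x * g⁻¹ * x⁻¹ * g⁻¹⁻¹ = g⁻¹ * (x * g * x⁻¹ * g⁻¹)⁻¹ * g⁻¹⁻¹ := by group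
    rw [e]
    exact ((inv_mem hg) _).1 (K.inv_mem hgK)

theorem mem_commSub {K : Subgroup G} {x g : G} :
    g ∈ commSub K x ↔ g ∈ Subgroup.normalizer (K : Set G) ∧ x * g * x⁻¹ * g⁻¹ ∈ K := Iff.rfl

/-- commutators of elements of two closures lie in `K` if this holds for the generators, all
generators normalising `K` -/
theorem comm_closure_mem {K : Subgroup G} {X Y : Set G}
    (hX : ∀ x ∈ X, x ∈ Subgroup.normalizer (K : Set G))
    (hY : ∀ y ∈ Y, y ∈ Subgroup.normalizer (K : Set G))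
    (h : ∀ x ∈ X, ∀ y ∈ Y, x * y * x⁻¹ * y⁻¹ ∈ K) :
    ∀ x ∈ Subgroup.closure X, ∀ y ∈ Subgroup.closure Y, x * y * x⁻¹ * y⁻¹ ∈ K := by
  have h1 : ∀ x ∈ X, Subgroup.closure Y ≤ commSub K x := by
    intro x hx
    rw [Subgroup.closure_le]
    intro y hy
    exact ⟨hY y hy, h x hx y hy⟩
  intro x hx y hy
  have hyN : y ∈ Subgroup.normalizer (K : Set G) := by
    have : Subgroup.closure Y ≤ Subgroup.normalizer (K : Set G) := by
      rw [Subgroup.closure_le]; exact hY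
    exact this hy
  have h2 : Subgroup.closure X ≤ commSub K y := by
    rw [Subgroup.closure_le]
    intro x' hx'
    refine ⟨hX x' hx', ?_⟩
    have := (h1 x' hx' hy).2
    have e : y * x' * y⁻¹ * x'⁻¹ = (x' * y * x'⁻¹ * y⁻¹)⁻¹ := by group
    rw [e]
    exact K.inv_mem this
  have := (h2 hx).2
  have e : x * y * x⁻¹ * y⁻¹ = (y * x * y⁻¹ * x⁻¹)⁻¹ := by group
  rw [e]
  exact K.inv_mem this

/-- Hall–Witt identity in terms of `psi` -/
theorem hall_witt (x y z : G) :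
    (y⁻¹ * psi (psi x y⁻¹) z * y) * (z⁻¹ * psi (psi y z⁻¹) x * z) *
      (x⁻¹ * psi (psi z x⁻¹) y * x) = 1 := by
  unfold psi; group

/-- `psi x (y z) = psi x z * z⁻¹ psi x y z` -/
theorem psi_mul_right_gen (x y z : G) : psi x (y * z) = psi x z * (z⁻¹ * psi x y * z) := by
  unfold psi; group

theorem psi_mul_left_gen (x y z : G) : psi (x * y) z = (y⁻¹ * psi x z * y) * psi y z := by
  unfold psi; group

theorem psi_conj (x y g : G) : g⁻¹ * psi x y * g = psi (g⁻¹ * x * g) (g⁻¹ * y * g) := by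
  unfold psi; group

theorem psi_eq_one_iff {x y : G} : psi x y = 1 ↔ x * y = y * x := by
  unfold psi
  constructor
  · intro h
    have := congrArg (fun t => y * x * t) h
    simp only [mul_one] at this
    rw [← this]; group
  · intro h
    have : x⁻¹ * y⁻¹ * x * y = x⁻¹ * y⁻¹ * (x * y) := by group
    rw [this, h]; group

theorem psi_inv (x y : G) : (psi x y)⁻¹ = psi y x := by unfold psi; group

/-- class two lemma: if `P`, `Q` are abelian and all commutators `psi p q` lie in a subgroup `Z`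
centralising `P ⊔ Q`, then `⁅P ⊔ Q, P ⊔ Q⁆ ≤ Z` -/
theorem commutator_sup_le {P Q Z : Subgroup G} (hP : ∀ x ∈ P, ∀ y ∈ P, x * y = y * x)
    (hQ : ∀ x ∈ Q, ∀ y ∈ Q, x * y = y * x) (hPQ : ∀ p ∈ P, ∀ q ∈ Q, p * q * p⁻¹ * q⁻¹ ∈ Z)
    (hZ : ∀ z ∈ Z, ∀ x ∈ P ⊔ Q, z * x = x * z) : ⁅P ⊔ Q, P ⊔ Q⁆ ≤ Z := by
  have hZn : ∀ x ∈ P ⊔ Q, x ∈ Subgroup.normalizer (Z : Set G) := by
    intro x hx n
    constructor
    · intro hn
      have := hZ n hn x hx
      have e : x * n * x⁻¹ = n := by rw [← this]; group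
      rw [e]; exact hn
    · intro hn
      have := hZ _ hn x hx
      have e : n = x⁻¹ * (x * n * x⁻¹ * x) := by group
      rw [e, this]
      have e2 : x⁻¹ * (x * (x * n * x⁻¹)) = x * n * x⁻¹ := by group
      rw [e2]; exact hn
  have key := comm_closure_mem (K := Z) (X := (P : Set G) ∪ Q) (Y := (P : Set G) ∪ Q)
    (fun x hx => hZn x (by
      rcases hx with hx | hx
      · exact Subgroup.mem_sup_left hx
      · exact Subgroup.mem_sup_right hx))
    (fun x hx => hZn x (by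
      rcases hx with hx | hx
      · exact Subgroup.mem_sup_left hx
      · exact Subgroup.mem_sup_right hx))
    (by
      rintro x (hx | hx) y (hy | hy)
      · rw [hP x hx y hy]; simp
      · exact hPQ x hx y hy
      · have := Z.inv_mem (hPQ y hy x hx)
        have e : (y * x * y⁻¹ * x⁻¹)⁻¹ = x * y * x⁻¹ * y⁻¹ := by group
        rwa [e] at this
      · rw [hQ x hx y hy]; simp)
  rw [Subgroup.closure_union, Subgroup.closure_eq, Subgroup.closure_eq] at key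
  rw [Subgroup.commutator_le]
  intro x hx y hy
  exact key x hx y hy

theorem commutator_commutator_sup_eq_bot {P Q Z : Subgroup G}
    (hP : ∀ x ∈ P, ∀ y ∈ P, x * y = y * x)
    (hQ : ∀ x ∈ Q, ∀ y ∈ Q, x * y = y * x) (hPQ : ∀ p ∈ P, ∀ q ∈ Q, p * q * p⁻¹ * q⁻¹ ∈ Z)
    (hZ : ∀ z ∈ Z, ∀ x ∈ P ⊔ Q, z * x = x * z) : ⁅⁅P ⊔ Q, P ⊔ Q⁆, P ⊔ Q⁆ = ⊥ := by
  rw [Subgroup.commutator_eq_bot_iff_le_centralizer]
  intro z hz
  have hzZ := commutator_sup_le hP hQ hPQ hZ hz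
  rw [Subgroup.mem_centralizer_iff]
  intro x hx
  exact (hZ z hzZ x hx).symm

end Cfsg.Agent.Helper8.RootChain
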