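import Mathlib
import Cfsg.Agent.Helper8.RootChainA

set_option autoImplicit false

/-! The configuration `A, B, C` of abstract root subgroups with `⁅A, B⁆, ⁅C, B⁆ ∈ S` and `A`, `C`
commuting: basic facts (helper8). -/

namespace Cfsg.Agent.Helper8.RootChain

open Cfsg Cfsg.Agent.Helper7.R1 Cfsg.Agent.Helper7.Root Cfsg.Agent.Helper8.RootComm

variable {G : Type*} [Group G] {S : Set (Subgroup G)} {A B C : Subgroup G}

structure Chain (S : Set (Subgroup G)) (A B C : Subgroup G) : Prop where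
  hS : IsRootSubgroupSet S
  hA : A ∈ S
  hB : B ∈ S
  hC : C ∈ S
  hAB : RootCommutatorCase S A B
  hCB : RootCommutatorCase S C B
  hne : A ≠ C
  hcomm : ∀ a ∈ A, ∀ c ∈ C, a * c = c * a

theorem exists_nonid_of_mem (hS : IsRootSubgroupSet S) {D : Subgroup G} (hD : D ∈ S) :
    ∃ d ∈ D, d ≠ 1 := by
  by_contra hcon
  push Not at hcon
  apply hS.ne_bot D hD
  rw [eq_bot_iff]
  intro x hx
  rw [Subgroup.mem_bot]
  exact hcon x hx

/-- strengthened form: `a c` is the conjugate of `a` by an element of `B` -/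
theorem exists_conj_eq (h : RootCommutatorCase S A B) {a : G} (ha : a ∈ A) (ha1 : a ≠ 1) {c : G}
    (hc : c ∈ ⁅A, B⁆) : ∃ b ∈ B, a * c = b⁻¹ * a * b := by
  obtain ⟨b, hb, e⟩ := psi_surj_right h ha ha1 hc
  exact ⟨b, hb, by rw [conj_eq_mul_psi, e]⟩

theorem mul_mem_rootElements (hS : IsRootSubgroupSet S) (hA : A ∈ S) (h : RootCommutatorCase S A B)
    {a : G} (ha : a ∈ A) (ha1 : a ≠ 1) {c : G} (hc : c ∈ ⁅A, B⁆) : a * c ∈ rootElements S := by
  obtain ⟨b, hb, e⟩ := exists_conj_eq h ha ha1 hc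
  refine ⟨?_, conjBy A b⁻¹, hS.conj_mem A hA b⁻¹, ?_⟩
  · rw [e]
    intro e1
    apply ha1
    have := congrArg (fun t => b * t * b⁻¹) e1
    simpa [mul_assoc] using this
  · rw [mem_conjBy, e]
    have : b⁻¹⁻¹ * (b⁻¹ * a * b) * b⁻¹ = a := by group
    rw [this]; exact ha

/-- a subgroup centralised elementwise by `c` -/
theorem commutator_comm_of_comm {P Q : Subgroup G} {c : G} (hP : ∀ p ∈ P, c * p = p * c)
    (hQ : ∀ q ∈ Q, c * q = q * c) : ∀ l ∈ ⁅P, Q⁆, c * l = l * c := by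
  have : ⁅P, Q⁆ ≤ Subgroup.centralizer ({c} : Set G) := by
    rw [Subgroup.commutator_le]
    intro p hp q hq
    rw [Subgroup.mem_centralizer_iff]
    intro x hx
    rw [Set.mem_singleton_iff] at hx
    rw [hx, commutatorElement_def]
    have h1 : Commute c p := hP p hp
    have h2 : Commute c q := hQ q hq
    exact (((h1.mul_right h2).mul_right h1.inv_right).mul_right h2.inv_right).eq
  intro l hl
  have := this hl
  rw [Subgroup.mem_centralizer_iff] at this
  exact this c rfl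

namespace Chain

variable (h : Chain S A B C)
include h

theorem symm : Chain S C B A :=
  ⟨h.hS, h.hC, h.hB, h.hA, h.hCB, h.hAB, h.hne.symm, fun c hc a ha => (h.hcomm a ha c hc).symm⟩

theorem M_mem : ⁅A, B⁆ ∈ S := h.hAB.1

theorem comm_bot : ⁅C, A⁆ = ⊥ := by
  rw [Subgroup.commutator_eq_bot_iff_le_centralizer]
  intro c hc
  rw [Subgroup.mem_centralizer_iff]
  intro a ha
  exact h.hcomm a ha c hc

/-- three subgroups lemma: if `⁅A, B⁆` commutes with `C` then `⁅C, B⁆` commutes with `A` -/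
theorem three (h0 : ⁅⁅A, B⁆, C⁆ = ⊥) : ⁅⁅C, B⁆, A⁆ = ⊥ := by
  have h1 : ⁅⁅C, A⁆, B⁆ = ⊥ := by rw [h.comm_bot, Subgroup.commutator_bot_left]
  have := Subgroup.commutator_commutator_eq_bot_of_rotate (H₁ := B) (H₂ := C) (H₃ := A) h1 h0
  rwa [Subgroup.commutator_comm B C] at this

/-- the pair `(⁅A, B⁆, C)` is in the commutator case if it does not commute -/
theorem commCase (h0 : ⁅⁅A, B⁆, C⁆ ≠ ⊥) : RootCommutatorCase S ⁅A, B⁆ C := by
  rcases h.hS.pair _ h.M_mem C h.hC with h1 | hr | hc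
  · exact absurd h1 h0
  · exfalso
    obtain ⟨a₀, ha₀, ha₀1⟩ := exists_nonid_of_mem h.hS h.hA
    obtain ⟨m, hm, hm1⟩ := exists_nonid_of_mem h.hS h.M_mem
    refine central_mul_not_rootElement h.hS h.hC hr (z := a₀) ?_ ha₀1 hm hm1
      (mul_mem_rootElements h.hS h.hA h.hAB ha₀ ha₀1 hm)
    intro x hx
    refine sup_induction' (p := fun x => a₀ * x = x * a₀) ?_ ?_ ?_ ?_ hx
    · intro m' hm'
      exact comm_left h.hAB ha₀ hm'
    · intro c hc
      exact h.hcomm a₀ ha₀ c hc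
    · simp
    · intro x y hx hy
      rw [← mul_assoc, hx, mul_assoc, hy, mul_assoc]
  · exact hc

end Chain

end Cfsg.Agent.Helper8.RootChain
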