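import Mathlib
import Cfsg.Agent.Helper8.RootChainB

set_option autoImplicit false

/-! The configuration `A, B, C` with `⁅⁅A, B⁆, C⁆ ≠ 1`: Hall–Witt consequences (helper8). -/

namespace Cfsg.Agent.Helper8.RootChain

open Cfsg Cfsg.Agent.Helper7.R1 Cfsg.Agent.Helper7.Root Cfsg.Agent.Helper8.RootComm

variable {G : Type*} [Group G] {S : Set (Subgroup G)} {A B C : Subgroup G}

structure Chain2 (S : Set (Subgroup G)) (A B C : Subgroup G) : Prop extends Chain S A B C where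
  hL : RootCommutatorCase S ⁅A, B⁆ C
  hL' : RootCommutatorCase S ⁅C, B⁆ A

theorem comm_inv_left {x y : G} (h : x * y = y * x) : x⁻¹ * y = y * x⁻¹ :=
  ((Commute.inv_left (show Commute x y from h))).eq

theorem comm_inv_right {x y : G} (h : x * y = y * x) : x * y⁻¹ = y⁻¹ * x :=
  ((Commute.inv_right (show Commute x y from h))).eq

theorem conj_eq_of_comm {x y : G} (h : x * y = y * x) : x⁻¹ * y * x = y := by
  rw [mul_assoc, ← h]; group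

theorem conj_eq_of_comm' {x y : G} (h : x * y = y * x) : x * y * x⁻¹ = y := by
  rw [h]; group

namespace Chain2

variable (h : Chain2 S A B C)
include h

theorem symm : Chain2 S C B A := ⟨h.toChain.symm, h.hL', h.hL⟩

theorem L_comm_A {l : G} (hl : l ∈ ⁅⁅A, B⁆, C⁆) {a : G} (ha : a ∈ A) : a * l = l * a :=
  commutator_comm_of_comm (fun _ hm => comm_left h.hAB ha hm) (fun c hc => h.hcomm a ha c hc) l hl

theorem L_comm_M {l : G} (hl : l ∈ ⁅⁅A, B⁆, C⁆) {m : G} (hm : m ∈ ⁅A, B⁆) : m * l = l * m :=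
  comm_left h.hL hm hl

theorem L_comm_C {l : G} (hl : l ∈ ⁅⁅A, B⁆, C⁆) {c : G} (hc : c ∈ C) : c * l = l * c :=
  comm_right h.hL hc hl

/-- Hall–Witt: `b⁻¹ ψ(ψ(a, b⁻¹), c) b = ψ(ψ(b, c⁻¹), a)⁻¹` -/
theorem hw_eq {a b c : G} (ha : a ∈ A) (hb : b ∈ B) (hc : c ∈ C) :
    b⁻¹ * psi (psi a b⁻¹) c * b = (psi (psi b c⁻¹) a)⁻¹ := by
  have hw := hall_witt a b c
  have h3 : psi c a⁻¹ = 1 := by
    rw [psi_eq_one_iff]
    exact (h.hcomm a⁻¹ (A.inv_mem ha) c hc).symm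
  rw [h3, psi_one_left, mul_one, inv_mul_cancel, mul_one] at hw
  have hn : psi b c⁻¹ ∈ ⁅C, B⁆ := by
    have := psi_mem (A := C) (B := B) (C.inv_mem hc) hb
    have h2 := Subgroup.inv_mem _ this
    rwa [psi_inv] at h2
  have hl' : psi (psi b c⁻¹) a ∈ ⁅⁅C, B⁆, A⁆ := psi_mem hn ha
  have hcl := h.symm.L_comm_A hl' hc
  rw [conj_eq_of_comm hcl] at hw
  exact eq_inv_of_mul_eq_one_left hw

theorem hw_le {b : G} (hb : b ∈ B) (hb1 : b ≠ 1) {l : G} (hl : l ∈ ⁅⁅A, B⁆, C⁆) :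
    b⁻¹ * l * b ∈ ⁅⁅C, B⁆, A⁆ := by
  obtain ⟨c, hc, hc1⟩ := exists_nonid_of_mem h.hS h.hC
  obtain ⟨m, hm, rfl⟩ := psi_surj_left h.hL hc hc1 hl
  have hb1' : b⁻¹ ≠ 1 := by simpa using hb1
  obtain ⟨a, ha, rfl⟩ := psi_surj_left h.hAB (B.inv_mem hb) hb1' hm
  rw [h.hw_eq ha hb hc]
  apply Subgroup.inv_mem
  have hn : psi b c⁻¹ ∈ ⁅C, B⁆ := by
    have := psi_mem (A := C) (B := B) (C.inv_mem hc) hb
    have h2 := Subgroup.inv_mem _ this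
    rwa [psi_inv] at h2
  exact psi_mem hn ha

theorem hw_ge {b : G} (hb : b ∈ B) (hb1 : b ≠ 1) {l' : G} (hl' : l' ∈ ⁅⁅C, B⁆, A⁆) :
    ∃ l ∈ ⁅⁅A, B⁆, C⁆, b⁻¹ * l * b = l' := by
  obtain ⟨a, ha, ha1⟩ := exists_nonid_of_mem h.hS h.hA
  obtain ⟨n, hn, e1⟩ := psi_surj_left h.hL' ha ha1 (Subgroup.inv_mem _ hl')
  obtain ⟨c', hc', e2⟩ := psi_surj_left h.hCB hb hb1 (Subgroup.inv_mem _ hn)
  refine ⟨psi (psi a b⁻¹) c'⁻¹, psi_mem (psi_mem ha (B.inv_mem hb)) (C.inv_mem hc'), ?_⟩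
  rw [h.hw_eq ha hb (C.inv_mem hc'), inv_inv]
  have : psi b c' = n := by
    rw [← psi_inv, e2, inv_inv]
  rw [this, e1, inv_inv]

theorem hw {b : G} (hb : b ∈ B) (hb1 : b ≠ 1) : conjBy ⁅⁅A, B⁆, C⁆ b⁻¹ = ⁅⁅C, B⁆, A⁆ := by
  ext x
  rw [mem_conjBy, inv_inv]
  constructor
  · intro hx
    have := h.hw_le hb hb1 hx
    have e : b⁻¹ * (b * x * b⁻¹) * b = x := by group
    rwa [e] at this
  · intro hx
    obtain ⟨l, hl, rfl⟩ := h.hw_ge hb hb1 hx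
    have e : b * (b⁻¹ * l * b) * b⁻¹ = l := by group
    rwa [e]

theorem L_comm_N {l : G} (hl : l ∈ ⁅⁅A, B⁆, C⁆) {n : G} (hn : n ∈ ⁅C, B⁆) : n * l = l * n := by
  obtain ⟨b, hb, hb1⟩ := exists_nonid_of_mem h.hS h.hB
  have hl' := h.hw_le hb hb1 hl
  have h1 : n * (b⁻¹ * l * b) = (b⁻¹ * l * b) * n := comm_left h.hL' hn hl'
  have h2 : b * n = n * b := comm_right h.hCB hb hn
  have h3 : b⁻¹ * n = n * b⁻¹ := comm_inv_left h2
  have e1 : n * l = b * (n * (b⁻¹ * l * b)) * b⁻¹ := by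
    have : b * (n * (b⁻¹ * l * b)) * b⁻¹ = (b * n) * b⁻¹ * l := by group
    rw [this, h2]; group
  have e2 : l * n = b * ((b⁻¹ * l * b) * n) * b⁻¹ := by
    have : b * ((b⁻¹ * l * b) * n) * b⁻¹ = l * (b * n) * b⁻¹ := by group
    rw [this, h2]; group
  rw [e1, e2, h1]

theorem L_comm_L' {l : G} (hl : l ∈ ⁅⁅A, B⁆, C⁆) {l' : G} (hl' : l' ∈ ⁅⁅C, B⁆, A⁆) :
    l * l' = l' * l := by
  have hle : l ∈ ⁅A, B⁆ ⊔ C := Subgroup.commutator_le_sup _ _ hl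
  refine sup_induction' (p := fun x => x * l' = l' * x) ?_ ?_ ?_ ?_ hle
  · intro m hm
    exact h.symm.L_comm_N hl' hm
  · intro c hc
    exact h.symm.L_comm_A hl' hc
  · simp
  · intro x y hx hy
    rw [mul_assoc, hy, ← mul_assoc, hx, mul_assoc]

end Chain2

end Cfsg.Agent.Helper8.RootChain
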