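import Mathlib
import Cfsg.Agent.Helper8.RootChainC

set_option autoImplicit false

/-! The configuration `A, B, C` with `⁅⁅A, B⁆, C⁆ ≠ 1`: the subgroup `T = L L'` and `⁅M, N⁆`
(helper8). -/

namespace Cfsg.Agent.Helper8.RootChain

open Cfsg Cfsg.Agent.Helper7.R1 Cfsg.Agent.Helper7.Root Cfsg.Agent.Helper8.RootComm

variable {G : Type*} [Group G] {S : Set (Subgroup G)} {A B C : Subgroup G}

namespace Chain2

variable (h : Chain2 S A B C)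
include h

theorem T_comm_A {t : G} (ht : t ∈ ⁅⁅A, B⁆, C⁆ ⊔ ⁅⁅C, B⁆, A⁆) {a : G} (ha : a ∈ A) :
    a * t = t * a := by
  refine sup_induction' (p := fun x => a * x = x * a) ?_ ?_ ?_ ?_ ht
  · intro l hl; exact h.L_comm_A hl ha
  · intro l' hl'; exact h.symm.L_comm_C hl' ha
  · simp
  · intro x y hx hy
    rw [← mul_assoc, hx, mul_assoc, hy, mul_assoc]

theorem T_comm_M {t : G} (ht : t ∈ ⁅⁅A, B⁆, C⁆ ⊔ ⁅⁅C, B⁆, A⁆) {m : G} (hm : m ∈ ⁅A, B⁆) :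
    m * t = t * m := by
  refine sup_induction' (p := fun x => m * x = x * m) ?_ ?_ ?_ ?_ ht
  · intro l hl; exact h.L_comm_M hl hm
  · intro l' hl'; exact h.symm.L_comm_N hl' hm
  · simp
  · intro x y hx hy
    rw [← mul_assoc, hx, mul_assoc, hy, mul_assoc]

theorem T_comm_C {t : G} (ht : t ∈ ⁅⁅A, B⁆, C⁆ ⊔ ⁅⁅C, B⁆, A⁆) {c : G} (hc : c ∈ C) :
    c * t = t * c := by
  rw [sup_comm] at ht
  exact h.symm.T_comm_A ht hc

theorem T_comm_N {t : G} (ht : t ∈ ⁅⁅A, B⁆, C⁆ ⊔ ⁅⁅C, B⁆, A⁆) {n : G} (hn : n ∈ ⁅C, B⁆) :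
    n * t = t * n := by
  rw [sup_comm] at ht
  exact h.symm.T_comm_M ht hn

theorem T_comm {t t' : G} (ht : t ∈ ⁅⁅A, B⁆, C⁆ ⊔ ⁅⁅C, B⁆, A⁆)
    (ht' : t' ∈ ⁅⁅A, B⁆, C⁆ ⊔ ⁅⁅C, B⁆, A⁆) : t * t' = t' * t := by
  have hLc := h.hS.commutative _ h.hL.1
  have hL'c := h.hS.commutative _ h.hL'.1
  refine sup_induction' (p := fun x => x * t' = t' * x) ?_ ?_ ?_ ?_ ht
  · intro l hl
    refine sup_induction' (p := fun y => l * y = y * l) ?_ ?_ ?_ ?_ ht'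
    · intro l₂ hl₂; exact comm_of_isMulCommutative hLc hl hl₂
    · intro l' hl'; exact h.L_comm_L' hl hl'
    · simp
    · intro x y hx hy
      rw [← mul_assoc, hx, mul_assoc, hy, mul_assoc]
  · intro l' hl'
    refine sup_induction' (p := fun y => l' * y = y * l') ?_ ?_ ?_ ?_ ht'
    · intro l hl; exact (h.L_comm_L' hl hl').symm
    · intro l₂ hl₂; exact comm_of_isMulCommutative hL'c hl' hl₂
    · simp
    · intro x y hx hy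
      rw [← mul_assoc, hx, mul_assoc, hy, mul_assoc]
  · simp
  · intro x y hx hy
    rw [mul_assoc, hy, ← mul_assoc, hx, mul_assoc]

theorem T_conj {b : G} (hb : b ∈ B) {t : G} (ht : t ∈ ⁅⁅A, B⁆, C⁆ ⊔ ⁅⁅C, B⁆, A⁆) :
    b * t * b⁻¹ ∈ ⁅⁅A, B⁆, C⁆ ⊔ ⁅⁅C, B⁆, A⁆ := by
  by_cases hb1 : b = 1
  · subst hb1; simpa using ht
  have hb1' : b⁻¹ ≠ 1 := by simpa using hb1
  refine sup_induction' (p := fun x => b * x * b⁻¹ ∈ ⁅⁅A, B⁆, C⁆ ⊔ ⁅⁅C, B⁆, A⁆) ?_ ?_ ?_ ?_ ht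
  · intro l hl
    have := h.hw_le (B.inv_mem hb) hb1' hl
    rw [inv_inv] at this
    exact Subgroup.mem_sup_right this
  · intro l' hl'
    have := h.symm.hw_le (B.inv_mem hb) hb1' hl'
    rw [inv_inv] at this
    exact Subgroup.mem_sup_left this
  · simp
  · intro x y hx hy
    have e : b * (x * y) * b⁻¹ = (b * x * b⁻¹) * (b * y * b⁻¹) := by group
    rw [e]; exact mul_mem hx hy

/-- `b⁻¹ ψ(m, c) b = ψ(m, ψ(c, b)) ψ(m, c)` -/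
theorem psi_MN_eq {m c b : G} (hm : m ∈ ⁅A, B⁆) (hc : c ∈ C) (hb : b ∈ B) :
    b⁻¹ * psi m c * b = psi m (psi c b) * psi m c := by
  have hbm : b * m = m * b := comm_right h.hAB hb hm
  have e1 : b⁻¹ * m * b = m := conj_eq_of_comm hbm
  have e2 : b⁻¹ * c * b = c * psi c b := conj_eq_mul_psi c b
  rw [psi_conj, e1, e2, psi_mul_right_gen]
  have hn : psi c b ∈ ⁅C, B⁆ := psi_mem hc hb
  have hl : psi m c ∈ ⁅⁅A, B⁆, C⁆ := psi_mem hm hc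
  rw [conj_eq_of_comm (h.L_comm_N hl hn)]

theorem psi_MN_mem {m n : G} (hm : m ∈ ⁅A, B⁆) (hn : n ∈ ⁅C, B⁆) :
    psi m n ∈ ⁅⁅A, B⁆, C⁆ ⊔ ⁅⁅C, B⁆, A⁆ := by
  obtain ⟨b, hb, hb1⟩ := exists_nonid_of_mem h.hS h.hB
  obtain ⟨c, hc, rfl⟩ := psi_surj_left h.hCB hb hb1 hn
  have e := h.psi_MN_eq hm hc hb
  have hl : psi m c ∈ ⁅⁅A, B⁆, C⁆ := psi_mem hm hc
  have e2 : psi m (psi c b) = (b⁻¹ * psi m c * b) * (psi m c)⁻¹ := by rw [e]; group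
  rw [e2]
  exact mul_mem (Subgroup.mem_sup_right (h.hw_le hb hb1 hl))
    (Subgroup.mem_sup_left (Subgroup.inv_mem _ hl))

theorem K1_le_T : ⁅⁅A, B⁆, ⁅C, B⁆⁆ ≤ ⁅⁅A, B⁆, C⁆ ⊔ ⁅⁅C, B⁆, A⁆ := by
  rw [Subgroup.commutator_le]
  intro m hm n hn
  have := h.psi_MN_mem (Subgroup.inv_mem _ hm) (Subgroup.inv_mem _ hn)
  simpa [psi, commutatorElement_def] using this

theorem L_B_mem {l : G} (hl : l ∈ ⁅⁅A, B⁆, C⁆) {b : G} (hb : b ∈ B) :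
    b⁻¹ * l * b * l⁻¹ ∈ ⁅⁅A, B⁆, ⁅C, B⁆⁆ := by
  obtain ⟨c, hc, hc1⟩ := exists_nonid_of_mem h.hS h.hC
  obtain ⟨m, hm, rfl⟩ := psi_surj_left h.hL hc hc1 hl
  rw [h.psi_MN_eq hm hc hb]
  have e : psi m (psi c b) * psi m c * (psi m c)⁻¹ = psi m (psi c b) := by group
  rw [e]
  exact psi_mem hm (psi_mem hc hb)

theorem K1_comm_B {k : G} (hk : k ∈ ⁅⁅A, B⁆, ⁅C, B⁆⁆) {b : G} (hb : b ∈ B) : b * k = k * b :=
  commutator_comm_of_comm (fun _ hm => comm_right h.hAB hb hm)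
    (fun _ hn => comm_right h.hCB hb hn) k hk

end Chain2

end Cfsg.Agent.Helper8.RootChain
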