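import Mathlib
import Cfsg.Agent.Helper8.RootChainD

set_option autoImplicit false

/-! Nilpotency of `⟨A, B, C⟩` from a central chain (helper8). -/

namespace Cfsg.Agent.Helper8.RootChain

open Cfsg Cfsg.Agent.Helper7.R1 Cfsg.Agent.Helper7.Root Cfsg.Agent.Helper8.RootComm

variable {G : Type*} [Group G] {S : Set (Subgroup G)} {A B C : Subgroup G}

theorem isNilpotent_of_chain {R : Subgroup G} (K : ℕ → Subgroup G) (n : ℕ) (h0 : K 0 = ⊥)
    (hn : R ≤ K n)
    (hstep : ∀ i, ∀ x ∈ K (i + 1), x ∈ R → ∀ g ∈ R, x * g * x⁻¹ * g⁻¹ ∈ K i) :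
    Group.IsNilpotent ↥R := by
  rw [Subgroup.nilpotent_iff_finite_ascending_central_series]
  refine ⟨n, fun i => (K i).subgroupOf R, ⟨?_, ?_⟩, ?_⟩
  · simp [h0]
  · intro x i hx g
    rw [Subgroup.mem_subgroupOf] at hx ⊢
    have := hstep i x hx x.2 g g.2
    simpa [commutatorElement_def] using this
  · rw [Subgroup.subgroupOf_eq_top]
    exact hn

theorem mem_normalizer_of_comm {K : Subgroup G} {x : G} (h : ∀ k ∈ K, x * k = k * x) :
    x ∈ Subgroup.normalizer (K : Set G) := by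
  apply mem_normalizer_of_conjBy
  exact conjBy_of_comm h

theorem mem_normalizer_of_conj_mem {K : Subgroup G} {x : G} (h1 : ∀ t ∈ K, x * t * x⁻¹ ∈ K)
    (h2 : ∀ t ∈ K, x⁻¹ * t * x ∈ K) : x ∈ Subgroup.normalizer (K : Set G) := by
  intro t
  constructor
  · exact h1 t
  · intro ht
    have := h2 _ ht
    have e : x⁻¹ * (x * t * x⁻¹) * x = t := by group
    rwa [e] at this

theorem comm_elt_eq_one {x y : G} (h : x * y = y * x) : x * y * x⁻¹ * y⁻¹ = 1 := by
  rw [h]; group

theorem closure_three (P Q R : Subgroup G) :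
    Subgroup.closure ((P : Set G) ∪ Q ∪ R) = P ⊔ Q ⊔ R := by
  rw [Subgroup.closure_union, Subgroup.closure_union, Subgroup.closure_eq, Subgroup.closure_eq,
    Subgroup.closure_eq]

theorem sup3_induction {P Q R : Subgroup G} {p : G → Prop} (hP : ∀ x ∈ P, p x) (hQ : ∀ x ∈ Q, p x)
    (hR : ∀ x ∈ R, p x) (one : p 1) (mul : ∀ x y, p x → p y → p (x * y)) {x : G}
    (hx : x ∈ P ⊔ Q ⊔ R) : p x := by
  refine sup_induction' (p := p) ?_ hR one mul hx
  intro y hy
  exact sup_induction' (p := p) hP hQ one mul hy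

/-- the nilpotency criterion for `⟨A, B, C⟩` -/
theorem Chain.isNilpotent (h : Chain S A B C) (T K₁ : Subgroup G)
    (t1 : ⁅⁅A, B⁆, C⁆ ≤ T) (t1' : ⁅⁅C, B⁆, A⁆ ≤ T)
    (t2a : ∀ t ∈ T, ∀ a ∈ A, a * t = t * a) (t2c : ∀ t ∈ T, ∀ c ∈ C, c * t = t * c)
    (t2m : ∀ t ∈ T, ∀ m ∈ ⁅A, B⁆, m * t = t * m) (t2n : ∀ t ∈ T, ∀ n ∈ ⁅C, B⁆, n * t = t * n)
    (t2t : ∀ t ∈ T, ∀ t' ∈ T, t * t' = t' * t)
    (t3 : ∀ b ∈ B, ∀ t ∈ T, b * t * b⁻¹ ∈ T)
    (k1 : K₁ ≤ T) (k1b : ∀ k ∈ K₁, ∀ b ∈ B, b * k = k * b)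
    (k2 : ∀ t ∈ T, ∀ b ∈ B, t * b * t⁻¹ * b⁻¹ ∈ K₁) :
    Group.IsNilpotent ↥(A ⊔ B ⊔ C) := by
  have hAc := h.hS.commutative A h.hA
  have hBc := h.hS.commutative B h.hB
  have hCc := h.hS.commutative C h.hC
  let K : ℕ → Subgroup G := fun i =>
    match i with
    | 0 => ⊥
    | 1 => K₁
    | 2 => T
    | 3 => T ⊔ ⁅A, B⁆ ⊔ ⁅C, B⁆
    | _ => ⊤
  have hK0 : K 0 = ⊥ := rfl
  have hK1 : K 1 = K₁ := rfl
  have hK2 : K 2 = T := rfl
  have hK3 : K 3 = T ⊔ ⁅A, B⁆ ⊔ ⁅C, B⁆ := rfl
  apply isNilpotent_of_chain K 4 hK0 (by change _ ≤ ⊤; exact le_top)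
  -- normalizer facts for T
  have hTa : ∀ a ∈ A, a ∈ Subgroup.normalizer (T : Set G) := fun a ha =>
    mem_normalizer_of_comm (fun t ht => t2a t ht a ha)
  have hTc : ∀ c ∈ C, c ∈ Subgroup.normalizer (T : Set G) := fun c hc =>
    mem_normalizer_of_comm (fun t ht => t2c t ht c hc)
  have hTb : ∀ b ∈ B, b ∈ Subgroup.normalizer (T : Set G) := fun b hb =>
    mem_normalizer_of_conj_mem (t3 b hb) (fun t ht => by
      have := t3 b⁻¹ (B.inv_mem hb) t ht
      rwa [inv_inv] at this)
  have hTm : ∀ m ∈ ⁅A, B⁆, m ∈ Subgroup.normalizer (T : Set G) := fun m hm =>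
    mem_normalizer_of_comm (fun t ht => t2m t ht m hm)
  have hTn : ∀ n ∈ ⁅C, B⁆, n ∈ Subgroup.normalizer (T : Set G) := fun n hn =>
    mem_normalizer_of_comm (fun t ht => t2n t ht n hn)
  intro i
  match i with
  | 0 =>
    intro x hx _ g hg
    rw [hK0, Subgroup.mem_bot]
    rw [hK1] at hx
    apply comm_elt_eq_one
    refine sup3_induction (p := fun g => x * g = g * x) ?_ ?_ ?_ ?_ ?_ hg
    · intro a ha; exact (t2a x (k1 hx) a ha).symm
    · intro b hb; exact (k1b x hx b hb).symm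
    · intro c hc; exact (t2c x (k1 hx) c hc).symm
    · simp
    · intro y z hy hz
      rw [← mul_assoc, hy, mul_assoc, hz, mul_assoc]
  | 1 =>
    intro x hx _ g hg
    rw [hK1]
    rw [hK2] at hx
    have key := comm_closure_mem (K := K₁) (X := (T : Set G)) (Y := (A : Set G) ∪ B ∪ C)
      (fun t ht => mem_normalizer_of_comm (fun k hk => t2t t ht k (k1 hk)))
      (by
        rintro y ((hy | hy) | hy)
        · exact mem_normalizer_of_comm (fun k hk => t2a k (k1 hk) y hy)
        · exact mem_normalizer_of_comm (fun k hk => k1b k hk y hy)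
        · exact mem_normalizer_of_comm (fun k hk => t2c k (k1 hk) y hy))
      (by
        rintro t ht y ((hy | hy) | hy)
        · rw [comm_elt_eq_one (t2a t ht y hy).symm]; exact one_mem _
        · exact k2 t ht y hy
        · rw [comm_elt_eq_one (t2c t ht y hy).symm]; exact one_mem _)
    rw [Subgroup.closure_eq, closure_three] at key
    exact key x hx g hg
  | 2 =>
    intro x hx _ g hg
    rw [hK2]
    rw [hK3] at hx
    have key := comm_closure_mem (K := T) (X := (T : Set G) ∪ ((⁅A, B⁆ : Subgroup G) : Set G) ∪ ((⁅C, B⁆ : Subgroup G) : Set G))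
      (Y := (A : Set G) ∪ B ∪ C)
      (by
        rintro y ((hy | hy) | hy)
        · exact Subgroup.le_normalizer hy
        · exact hTm y hy
        · exact hTn y hy)
      (by
        rintro y ((hy | hy) | hy)
        · exact hTa y hy
        · exact hTb y hy
        · exact hTc y hy)
      (by
        rintro x ((hx | hx) | hx) y ((hy | hy) | hy)
        · rw [comm_elt_eq_one (t2a x hx y hy).symm]; exact one_mem _
        · have e : x * y * x⁻¹ * y⁻¹ = x * (y * x⁻¹ * y⁻¹) := by group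
          rw [e]; exact T.mul_mem hx (t3 y hy _ (T.inv_mem hx))
        · rw [comm_elt_eq_one (t2c x hx y hy).symm]; exact one_mem _
        · rw [comm_elt_eq_one (comm_left h.hAB hy hx).symm]; exact one_mem _
        · rw [comm_elt_eq_one (comm_right h.hAB hy hx).symm]; exact one_mem _
        · exact t1 (Subgroup.commutator_mem_commutator hx hy)
        · exact t1' (Subgroup.commutator_mem_commutator hx hy)
        · rw [comm_elt_eq_one (comm_right h.hCB hy hx).symm]; exact one_mem _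
        · rw [comm_elt_eq_one (comm_left h.hCB hy hx).symm]; exact one_mem _)
    rw [closure_three, closure_three] at key
    exact key x hx g hg
  | 3 =>
    intro x _ hx g hg
    rw [hK3]
    -- conjugation by elements of A, B, C preserves K₃
    have cA : ∀ a ∈ A, ∀ x ∈ T ⊔ ⁅A, B⁆ ⊔ ⁅C, B⁆, a * x * a⁻¹ ∈ T ⊔ ⁅A, B⁆ ⊔ ⁅C, B⁆ := by
      intro a ha x hx
      refine sup3_induction (p := fun x => a * x * a⁻¹ ∈ T ⊔ ⁅A, B⁆ ⊔ ⁅C, B⁆) ?_ ?_ ?_ ?_ ?_ hx
      · intro t ht
        rw [conj_eq_of_comm' (t2a t ht a ha)]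
        exact Subgroup.mem_sup_left (Subgroup.mem_sup_left ht)
      · intro m hm
        rw [conj_eq_of_comm' (comm_left h.hAB ha hm)]
        exact Subgroup.mem_sup_left (Subgroup.mem_sup_right hm)
      · intro n hn
        have e : a * n * a⁻¹ = (a * n * a⁻¹ * n⁻¹) * n := by group
        rw [e]
        refine mul_mem (Subgroup.mem_sup_left (Subgroup.mem_sup_left (t1' ?_)))
          (Subgroup.mem_sup_right hn)
        rw [Subgroup.commutator_comm]
        exact Subgroup.commutator_mem_commutator ha hn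
      · simp
      · intro y z hy hz
        have e : a * (y * z) * a⁻¹ = (a * y * a⁻¹) * (a * z * a⁻¹) := by group
        rw [e]; exact mul_mem hy hz
    have cC : ∀ c ∈ C, ∀ x ∈ T ⊔ ⁅A, B⁆ ⊔ ⁅C, B⁆, c * x * c⁻¹ ∈ T ⊔ ⁅A, B⁆ ⊔ ⁅C, B⁆ := by
      intro c hc x hx
      refine sup3_induction (p := fun x => c * x * c⁻¹ ∈ T ⊔ ⁅A, B⁆ ⊔ ⁅C, B⁆) ?_ ?_ ?_ ?_ ?_ hx
      · intro t ht
        rw [conj_eq_of_comm' (t2c t ht c hc)]
        exact Subgroup.mem_sup_left (Subgroup.mem_sup_left ht)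
      · intro m hm
        have e : c * m * c⁻¹ = (c * m * c⁻¹ * m⁻¹) * m := by group
        rw [e]
        refine mul_mem (Subgroup.mem_sup_left (Subgroup.mem_sup_left (t1 ?_)))
          (Subgroup.mem_sup_left (Subgroup.mem_sup_right hm))
        rw [Subgroup.commutator_comm]
        exact Subgroup.commutator_mem_commutator hc hm
      · intro n hn
        rw [conj_eq_of_comm' (comm_left h.hCB hc hn)]
        exact Subgroup.mem_sup_right hn
      · simp
      · intro y z hy hz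
        have e : c * (y * z) * c⁻¹ = (c * y * c⁻¹) * (c * z * c⁻¹) := by group
        rw [e]; exact mul_mem hy hz
    have cB : ∀ b ∈ B, ∀ x ∈ T ⊔ ⁅A, B⁆ ⊔ ⁅C, B⁆, b * x * b⁻¹ ∈ T ⊔ ⁅A, B⁆ ⊔ ⁅C, B⁆ := by
      intro b hb x hx
      refine sup3_induction (p := fun x => b * x * b⁻¹ ∈ T ⊔ ⁅A, B⁆ ⊔ ⁅C, B⁆) ?_ ?_ ?_ ?_ ?_ hx
      · intro t ht
        exact Subgroup.mem_sup_left (Subgroup.mem_sup_left (t3 b hb t ht))
      · intro m hm
        rw [conj_eq_of_comm' (comm_right h.hAB hb hm)]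
        exact Subgroup.mem_sup_left (Subgroup.mem_sup_right hm)
      · intro n hn
        rw [conj_eq_of_comm' (comm_right h.hCB hb hn)]
        exact Subgroup.mem_sup_right hn
      · simp
      · intro y z hy hz
        have e : b * (y * z) * b⁻¹ = (b * y * b⁻¹) * (b * z * b⁻¹) := by group
        rw [e]; exact mul_mem hy hz
    have hN : ∀ y ∈ (A : Set G) ∪ B ∪ C,
        y ∈ Subgroup.normalizer ((T ⊔ ⁅A, B⁆ ⊔ ⁅C, B⁆ : Subgroup G) : Set G) := by
      rintro y ((hy | hy) | hy)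
      · exact mem_normalizer_of_conj_mem (cA y hy) (fun t ht => by
          have := cA y⁻¹ (A.inv_mem hy) t ht
          rwa [inv_inv] at this)
      · exact mem_normalizer_of_conj_mem (cB y hy) (fun t ht => by
          have := cB y⁻¹ (B.inv_mem hy) t ht
          rwa [inv_inv] at this)
      · exact mem_normalizer_of_conj_mem (cC y hy) (fun t ht => by
          have := cC y⁻¹ (C.inv_mem hy) t ht
          rwa [inv_inv] at this)
    have key := comm_closure_mem (K := T ⊔ ⁅A, B⁆ ⊔ ⁅C, B⁆) (X := (A : Set G) ∪ B ∪ C)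
      (Y := (A : Set G) ∪ B ∪ C) hN hN
      (by
        rintro x ((hx | hx) | hx) y ((hy | hy) | hy)
        · rw [comm_elt_eq_one (comm_of_isMulCommutative hAc hx hy)]; exact one_mem _
        · exact Subgroup.mem_sup_left (Subgroup.mem_sup_right
            (Subgroup.commutator_mem_commutator hx hy))
        · rw [comm_elt_eq_one (h.hcomm x hx y hy)]; exact one_mem _
        · refine Subgroup.mem_sup_left (Subgroup.mem_sup_right ?_)
          rw [Subgroup.commutator_comm]
          exact Subgroup.commutator_mem_commutator hx hy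
        · rw [comm_elt_eq_one (comm_of_isMulCommutative hBc hx hy)]; exact one_mem _
        · refine Subgroup.mem_sup_right ?_
          rw [Subgroup.commutator_comm]
          exact Subgroup.commutator_mem_commutator hx hy
        · rw [comm_elt_eq_one (h.hcomm y hy x hx).symm]; exact one_mem _
        · exact Subgroup.mem_sup_right (Subgroup.commutator_mem_commutator hx hy)
        · rw [comm_elt_eq_one (comm_of_isMulCommutative hCc hx hy)]; exact one_mem _)
    rw [closure_three] at key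
    exact key x hx g hg
  | (j + 4) =>
    intro x _ _ g _
    change _ ∈ (⊤ : Subgroup G)
    trivial

end Cfsg.Agent.Helper8.RootChain
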