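import Mathlib
import Cfsg.Agent.Helper8.RootChainE

set_option autoImplicit false

/-! The configuration `A, B, C`: nilpotency of `⟨A, B, C⟩` and the subgroups `X`, `Y` (helper8). -/

namespace Cfsg.Agent.Helper8.RootChain

open Cfsg Cfsg.Agent.Helper7.R1 Cfsg.Agent.Helper7.Root Cfsg.Agent.Helper8.RootComm

variable {G : Type*} [Group G] {S : Set (Subgroup G)} {A B C : Subgroup G}

theorem isMulCommutative_sup {P Q : Subgroup G} (hP : ∀ x ∈ P, ∀ y ∈ P, x * y = y * x)
    (hQ : ∀ x ∈ Q, ∀ y ∈ Q, x * y = y * x) (hPQ : ∀ p ∈ P, ∀ q ∈ Q, p * q = q * p) :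
    IsMulCommutative ↥(P ⊔ Q) := by
  have key : ∀ x ∈ P ⊔ Q, ∀ y ∈ P ⊔ Q, x * y = y * x := by
    intro x hx y hy
    refine sup_induction' (p := fun x => x * y = y * x) ?_ ?_ ?_ ?_ hx
    · intro p hp
      refine sup_induction' (p := fun y => p * y = y * p) ?_ ?_ ?_ ?_ hy
      · exact fun p' hp' => hP p hp p' hp'
      · exact fun q hq => hPQ p hp q hq
      · simp
      · intro u v hu hv
        rw [← mul_assoc, hu, mul_assoc, hv, mul_assoc]
    · intro q hq
      refine sup_induction' (p := fun y => q * y = y * q) ?_ ?_ ?_ ?_ hy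
      · exact fun p hp => (hPQ p hp q hq).symm
      · exact fun q' hq' => hQ q hq q' hq'
      · simp
      · intro u v hu hv
        rw [← mul_assoc, hu, mul_assoc, hv, mul_assoc]
    · simp
    · intro u v hu hv
      rw [mul_assoc, hv, ← mul_assoc, hu, mul_assoc]
  exact ⟨⟨fun x y => Subtype.ext (key x.1 x.2 y.1 y.2)⟩⟩

theorem exists_of_mem_conjBy_inv {P : Subgroup G} {b x : G} (hx : x ∈ conjBy P b⁻¹) :
    ∃ p ∈ P, x = b⁻¹ * p * b := by
  rw [mem_conjBy, inv_inv] at hx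
  exact ⟨b * x * b⁻¹, hx, by group⟩

theorem mem_conjBy_inv {P : Subgroup G} {b p : G} (hp : p ∈ P) : b⁻¹ * p * b ∈ conjBy P b⁻¹ := by
  rw [mem_conjBy, inv_inv]
  have : b * (b⁻¹ * p * b) * b⁻¹ = p := by group
  rwa [this]

theorem conjBy_mono {P Q : Subgroup G} (h : P ≤ Q) (g : G) : conjBy P g ≤ conjBy Q g :=
  Subgroup.map_mono h

theorem conjBy_eq_of_le {W : Subgroup G} {g : G} (h1 : conjBy W g ≤ W) (h2 : conjBy W g⁻¹ ≤ W) :
    conjBy W g = W := by
  apply le_antisymm h1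
  have := conjBy_mono h2 g
  rwa [conjBy_conjBy, mul_inv_cancel, conjBy_one] at this

namespace Chain

variable (h : Chain S A B C)
include h

theorem nilpotent : Group.IsNilpotent ↥(A ⊔ B ⊔ C) := by
  by_cases h0 : ⁅⁅A, B⁆, C⁆ = ⊥
  · have h0' := h.three h0
    refine h.isNilpotent ⊥ ⊥ (by rw [h0]) (by rw [h0']) ?_ ?_ ?_ ?_ ?_ ?_ le_rfl ?_ ?_
    · intro t ht a _; rw [Subgroup.mem_bot] at ht; subst ht; simp
    · intro t ht a _; rw [Subgroup.mem_bot] at ht; subst ht; simp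
    · intro t ht a _; rw [Subgroup.mem_bot] at ht; subst ht; simp
    · intro t ht a _; rw [Subgroup.mem_bot] at ht; subst ht; simp
    · intro t ht a _; rw [Subgroup.mem_bot] at ht; subst ht; simp
    · intro b _ t ht; rw [Subgroup.mem_bot] at ht; subst ht; simp
    · intro t ht a _; rw [Subgroup.mem_bot] at ht; subst ht; simp
    · intro t ht b _; rw [Subgroup.mem_bot] at ht; subst ht; simp
  · have h0' : ⁅⁅C, B⁆, A⁆ ≠ ⊥ := fun e => h0 (h.symm.three e)
    have h2 : Chain2 S A B C := ⟨h, h.commCase h0, h.symm.commCase h0'⟩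
    have k1 := h2.K1_le_T
    refine h.isNilpotent (⁅⁅A, B⁆, C⁆ ⊔ ⁅⁅C, B⁆, A⁆) ⁅⁅A, B⁆, ⁅C, B⁆⁆ le_sup_left le_sup_right
      (fun t ht a ha => h2.T_comm_A ht ha) (fun t ht c hc => h2.T_comm_C ht hc)
      (fun t ht m hm => h2.T_comm_M ht hm) (fun t ht n hn => h2.T_comm_N ht hn)
      (fun t ht t' ht' => h2.T_comm ht ht') (fun b hb t ht => h2.T_conj hb ht) k1
      (fun k hk b hb => h2.K1_comm_B hk hb) ?_
    have key := comm_closure_mem (K := ⁅⁅A, B⁆, ⁅C, B⁆⁆)
      (X := ((⁅⁅A, B⁆, C⁆ : Subgroup G) : Set G) ∪ ((⁅⁅C, B⁆, A⁆ : Subgroup G) : Set G))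
      (Y := (B : Set G))
      (by
        rintro x (hx | hx)
        · exact mem_normalizer_of_comm
            (fun k hk => h2.T_comm (Subgroup.mem_sup_left hx) (k1 hk))
        · exact mem_normalizer_of_comm
            (fun k hk => h2.T_comm (Subgroup.mem_sup_right hx) (k1 hk)))
      (fun b hb => mem_normalizer_of_comm (fun k hk => h2.K1_comm_B hk hb))
      (by
        rintro l (hl | hl) b hb
        · have hk := h2.L_B_mem (Subgroup.inv_mem _ hl) (B.inv_mem hb)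
          rw [inv_inv, inv_inv] at hk
          have hc := h2.T_comm (Subgroup.mem_sup_left hl) (k1 hk)
          have e : l * b * l⁻¹ * b⁻¹ = l * (b * l⁻¹ * b⁻¹ * l) * l⁻¹ := by group
          rw [e, conj_eq_of_comm' hc]
          exact hk
        · have hk := h2.symm.L_B_mem (Subgroup.inv_mem _ hl) (B.inv_mem hb)
          rw [inv_inv, inv_inv, Subgroup.commutator_comm] at hk
          have hc := h2.T_comm (Subgroup.mem_sup_right hl) (k1 hk)
          have e : l * b * l⁻¹ * b⁻¹ = l * (b * l⁻¹ * b⁻¹ * l) * l⁻¹ := by group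
          rw [e, conj_eq_of_comm' hc]
          exact hk)
    rw [Subgroup.closure_union, Subgroup.closure_eq, Subgroup.closure_eq, Subgroup.closure_eq]
      at key
    exact key

/-- `X = ⟨A, b⁻¹ C b⟩` and `Y = ⟨b⁻¹ A b, C⟩` commute -/
theorem XY_comm {b : G} (hb : b ∈ B) : ⁅A ⊔ conjBy C b⁻¹, conjBy A b⁻¹ ⊔ C⁆ = ⊥ := by
  have hAc := h.hS.commutative A h.hA
  have hCc := h.hS.commutative C h.hC
  rw [Subgroup.commutator_eq_bot_iff_le_centralizer]
  apply sup_le
  · intro a ha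
    rw [Subgroup.mem_centralizer_iff]
    intro y hy
    refine sup_induction' (p := fun y => y * a = a * y) ?_ ?_ ?_ ?_ hy
    · intro y hy
      obtain ⟨a', ha', rfl⟩ := exists_of_mem_conjBy_inv hy
      rw [conj_eq_mul_psi, mul_assoc, ← comm_left h.hAB ha (psi_mem ha' hb), ← mul_assoc,
        comm_of_isMulCommutative hAc ha' ha, mul_assoc]
    · intro c hc
      exact (h.hcomm a ha c hc).symm
    · simp
    · intro u v hu hv
      rw [mul_assoc, hv, ← mul_assoc, hu, mul_assoc]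
  · intro x hx
    obtain ⟨c, hc, rfl⟩ := exists_of_mem_conjBy_inv hx
    rw [Subgroup.mem_centralizer_iff]
    intro y hy
    refine sup_induction' (p := fun y => y * (b⁻¹ * c * b) = (b⁻¹ * c * b) * y) ?_ ?_ ?_ ?_ hy
    · intro y hy
      obtain ⟨a', ha', rfl⟩ := exists_of_mem_conjBy_inv hy
      have e1 : b⁻¹ * a' * b * (b⁻¹ * c * b) = b⁻¹ * (a' * c) * b := by group
      have e2 : b⁻¹ * c * b * (b⁻¹ * a' * b) = b⁻¹ * (c * a') * b := by group
      rw [e1, e2, h.hcomm a' ha' c hc]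
    · intro c' hc'
      rw [conj_eq_mul_psi, ← mul_assoc, comm_of_isMulCommutative hCc hc' hc, mul_assoc,
        comm_left h.hCB hc' (psi_mem hc hb), mul_assoc]
    · simp
    · intro u v hu hv
      rw [mul_assoc, hv, ← mul_assoc, hu, mul_assoc]

/-- in the abelian case `X` is abelian -/
theorem X_comm (h0 : ⁅⁅C, B⁆, A⁆ = ⊥) {b : G} (hb : b ∈ B) :
    IsMulCommutative ↥(A ⊔ conjBy C b⁻¹) := by
  have hAc := h.hS.commutative A h.hA
  have hCc := h.hS.commutative C h.hC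
  apply isMulCommutative_sup
  · exact fun x hx y hy => comm_of_isMulCommutative hAc hx hy
  · intro x hx y hy
    obtain ⟨c, hc, rfl⟩ := exists_of_mem_conjBy_inv hx
    obtain ⟨c', hc', rfl⟩ := exists_of_mem_conjBy_inv hy
    have e1 : b⁻¹ * c * b * (b⁻¹ * c' * b) = b⁻¹ * (c * c') * b := by group
    have e2 : b⁻¹ * c' * b * (b⁻¹ * c * b) = b⁻¹ * (c' * c) * b := by group
    rw [e1, e2, comm_of_isMulCommutative hCc hc hc']
  · intro a ha x hx
    obtain ⟨c, hc, rfl⟩ := exists_of_mem_conjBy_inv hx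
    have hn : psi c b ∈ ⁅C, B⁆ := psi_mem hc hb
    have hna : psi c b * a = a * psi c b := comm_of_commutator_eq_bot h0 hn ha
    rw [conj_eq_mul_psi, ← mul_assoc, h.hcomm a ha c hc, mul_assoc, ← hna, mul_assoc]

end Chain

namespace Chain2

variable (h : Chain2 S A B C)
include h

/-- in the non-abelian case `X` is not abelian -/
theorem X_not_comm {b : G} (hb : b ∈ B) (hb1 : b ≠ 1) :
    ¬ IsMulCommutative ↥(A ⊔ conjBy C b⁻¹) := by
  intro hcomm
  have hne : ⁅⁅C, B⁆, A⁆ ≠ ⊥ := h.hS.ne_bot _ h.hL'.1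
  apply hne
  rw [Subgroup.commutator_eq_bot_iff_le_centralizer]
  intro n hn
  rw [Subgroup.mem_centralizer_iff]
  intro a ha
  obtain ⟨c, hc, rfl⟩ := psi_surj_left h.hCB hb hb1 hn
  have hx : b⁻¹ * c * b ∈ A ⊔ conjBy C b⁻¹ := Subgroup.mem_sup_right (mem_conjBy_inv hc)
  have ha' : a ∈ A ⊔ conjBy C b⁻¹ := Subgroup.mem_sup_left ha
  have := comm_of_isMulCommutative hcomm ha' hx
  rw [conj_eq_mul_psi, ← mul_assoc, h.hcomm a ha c hc, mul_assoc, mul_assoc] at this
  exact mul_left_cancel this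

theorem X_class_two {b : G} (hb : b ∈ B) :
    ⁅⁅A ⊔ conjBy C b⁻¹, A ⊔ conjBy C b⁻¹⁆, A ⊔ conjBy C b⁻¹⁆ = ⊥ := by
  have hAc := h.hS.commutative A h.hA
  have hCc := h.hS.commutative C h.hC
  apply commutator_commutator_sup_eq_bot (Z := ⁅⁅C, B⁆, A⁆)
  · exact fun x hx y hy => comm_of_isMulCommutative hAc hx hy
  · intro x hx y hy
    obtain ⟨c, hc, rfl⟩ := exists_of_mem_conjBy_inv hx
    obtain ⟨c', hc', rfl⟩ := exists_of_mem_conjBy_inv hy
    have e1 : b⁻¹ * c * b * (b⁻¹ * c' * b) = b⁻¹ * (c * c') * b := by group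
    have e2 : b⁻¹ * c' * b * (b⁻¹ * c * b) = b⁻¹ * (c' * c) * b := by group
    rw [e1, e2, comm_of_isMulCommutative hCc hc hc']
  · intro a ha x hx
    obtain ⟨c, hc, rfl⟩ := exists_of_mem_conjBy_inv hx
    have hn : psi c b ∈ ⁅C, B⁆ := psi_mem hc hb
    rw [conj_eq_mul_psi]
    have hl' : a * psi c b * a⁻¹ * (psi c b)⁻¹ ∈ ⁅⁅C, B⁆, A⁆ := by
      rw [Subgroup.commutator_comm]
      exact Subgroup.commutator_mem_commutator ha hn
    have hcl := h.symm.L_comm_A hl' hc
    have hac : a * c = c * a := h.hcomm a ha c hc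
    have e : a * (c * psi c b) * a⁻¹ * (c * psi c b)⁻¹ =
        (a * c) * psi c b * a⁻¹ * (psi c b)⁻¹ * c⁻¹ := by group
    rw [e, hac]
    have e2 : c * a * psi c b * a⁻¹ * (psi c b)⁻¹ * c⁻¹ =
        c * (a * psi c b * a⁻¹ * (psi c b)⁻¹) * c⁻¹ := by group
    rw [e2, conj_eq_of_comm' hcl]
    exact hl'
  · intro z hz x hx
    refine sup_induction' (p := fun x => z * x = x * z) ?_ ?_ ?_ ?_ hx
    · intro a ha
      exact (comm_right h.hL' ha hz).symm
    · intro x hx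
      obtain ⟨c, hc, rfl⟩ := exists_of_mem_conjBy_inv hx
      have hn : psi c b ∈ ⁅C, B⁆ := psi_mem hc hb
      have h1 := h.symm.L_comm_A hz hc
      have h2 := comm_left h.hL' hn hz
      rw [conj_eq_mul_psi, ← mul_assoc, ← h1, mul_assoc, ← h2, mul_assoc]
    · simp
    · intro u v hu hv
      rw [← mul_assoc, hu, mul_assoc, hv, mul_assoc]

end Chain2

end Cfsg.Agent.Helper8.RootChain
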