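import Mathlib
import Cfsg.Agent.Helper8.RootChainF

set_option autoImplicit false

/-! The configuration `A, B, C`: `X Y` is normal in `⟨A, B, C⟩` (helper8). -/

namespace Cfsg.Agent.Helper8.RootChain

open Cfsg Cfsg.Agent.Helper7.R1 Cfsg.Agent.Helper7.Root Cfsg.Agent.Helper8.RootComm

variable {G : Type*} [Group G] {S : Set (Subgroup G)} {A B C : Subgroup G}

namespace Chain

variable (h : Chain S A B C)
include h

/-- `X Y = A C M N` -/
theorem W_eq {b : G} (hb : b ∈ B) (hb1 : b ≠ 1) :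
    (A ⊔ conjBy C b⁻¹) ⊔ (conjBy A b⁻¹ ⊔ C) = A ⊔ C ⊔ ⁅A, B⁆ ⊔ ⁅C, B⁆ := by
  have hbi : b⁻¹ ∈ B := B.inv_mem hb
  apply le_antisymm
  · refine sup_le (sup_le ?_ ?_) (sup_le ?_ ?_)
    · exact le_sup_of_le_left (le_sup_of_le_left le_sup_left)
    · refine (conjBy_le_sup (A := C) (B := B) hbi).trans (sup_le ?_ le_sup_right)
      exact le_sup_of_le_left (le_sup_of_le_left le_sup_right)
    · refine (conjBy_le_sup (A := A) (B := B) hbi).trans (sup_le ?_ ?_)
      · exact le_sup_of_le_left (le_sup_of_le_left le_sup_left)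
      · exact le_sup_of_le_left le_sup_right
    · exact le_sup_of_le_left (le_sup_of_le_left le_sup_right)
  · refine sup_le (sup_le (sup_le ?_ ?_) ?_) ?_
    · exact le_sup_of_le_left le_sup_left
    · exact le_sup_of_le_right le_sup_right
    · intro m hm
      obtain ⟨a, ha, rfl⟩ := psi_surj_left h.hAB hb hb1 hm
      have e : psi a b = a⁻¹ * (b⁻¹ * a * b) := by unfold psi; group
      rw [e]
      exact mul_mem (Subgroup.mem_sup_left (Subgroup.mem_sup_left (A.inv_mem ha)))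
        (Subgroup.mem_sup_right (Subgroup.mem_sup_left (mem_conjBy_inv ha)))
    · intro n hn
      obtain ⟨c, hc, rfl⟩ := psi_surj_left h.hCB hb hb1 hn
      have e : psi c b = c⁻¹ * (b⁻¹ * c * b) := by unfold psi; group
      rw [e]
      exact mul_mem (Subgroup.mem_sup_right (Subgroup.mem_sup_right (C.inv_mem hc)))
        (Subgroup.mem_sup_left (Subgroup.mem_sup_right (mem_conjBy_inv hc)))

theorem W'_conj_le {b' : G} (hb' : b' ∈ B) :
    conjBy (A ⊔ C ⊔ ⁅A, B⁆ ⊔ ⁅C, B⁆) b' ≤ A ⊔ C ⊔ ⁅A, B⁆ ⊔ ⁅C, B⁆ := by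
  rw [conjBy_sup, conjBy_sup, conjBy_sup]
  refine sup_le (sup_le (sup_le ?_ ?_) ?_) ?_
  · refine (conjBy_le_sup (A := A) (B := B) hb').trans (sup_le ?_ ?_)
    · exact le_sup_of_le_left (le_sup_of_le_left le_sup_left)
    · exact le_sup_of_le_left le_sup_right
  · refine (conjBy_le_sup (A := C) (B := B) hb').trans (sup_le ?_ le_sup_right)
    exact le_sup_of_le_left (le_sup_of_le_left le_sup_right)
  · rw [conjBy_of_comm (fun m hm => comm_right h.hAB hb' hm)]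
    exact le_sup_of_le_left le_sup_right
  · rw [conjBy_of_comm (fun n hn => comm_right h.hCB hb' hn)]
    exact le_sup_right

theorem W_conj {b : G} (hb : b ∈ B) (hb1 : b ≠ 1) {r : G} (hr : r ∈ A ⊔ B ⊔ C) :
    conjBy ((A ⊔ conjBy C b⁻¹) ⊔ (conjBy A b⁻¹ ⊔ C)) r =
      (A ⊔ conjBy C b⁻¹) ⊔ (conjBy A b⁻¹ ⊔ C) := by
  rw [h.W_eq hb hb1]
  refine sup3_induction (p := fun r => conjBy (A ⊔ C ⊔ ⁅A, B⁆ ⊔ ⁅C, B⁆) r =
    A ⊔ C ⊔ ⁅A, B⁆ ⊔ ⁅C, B⁆) ?_ ?_ ?_ ?_ ?_ hr
  · intro a ha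
    apply conjBy_of_mem'
    exact Subgroup.mem_sup_left (Subgroup.mem_sup_left (Subgroup.mem_sup_left ha))
  · intro b' hb'
    exact conjBy_eq_of_le (h.W'_conj_le hb') (h.W'_conj_le (B.inv_mem hb'))
  · intro c hc
    apply conjBy_of_mem'
    exact Subgroup.mem_sup_left (Subgroup.mem_sup_left (Subgroup.mem_sup_right hc))
  · exact conjBy_one _
  · intro x y hx hy
    rw [conjBy_mul, hy, hx]

omit h in
theorem W_sup {b : G} (hb : b ∈ B) :
    ((A ⊔ conjBy C b⁻¹) ⊔ (conjBy A b⁻¹ ⊔ C)) ⊔ B = A ⊔ B ⊔ C := by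
  have hbR : b⁻¹ ∈ A ⊔ B ⊔ C :=
    Subgroup.mem_sup_left (Subgroup.mem_sup_right (B.inv_mem hb))
  apply le_antisymm
  · refine sup_le (sup_le (sup_le ?_ ?_) (sup_le ?_ ?_)) ?_
    · exact le_sup_of_le_left le_sup_left
    · exact conjBy_le_of_le le_sup_right hbR
    · exact conjBy_le_of_le (le_sup_of_le_left le_sup_left) hbR
    · exact le_sup_right
    · exact le_sup_of_le_left le_sup_right
  · refine sup_le (sup_le ?_ le_sup_right) ?_
    · exact le_sup_of_le_left (le_sup_of_le_left le_sup_left)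
    · exact le_sup_of_le_left (le_sup_of_le_right le_sup_right)

end Chain

end Cfsg.Agent.Helper8.RootChain
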