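import Mathlib
import Cfsg.Agent.Helper8.RootChainG
import Cfsg.Agent.Helper8.RootSubA

set_option autoImplicit false

/-! Sets of abstract root subgroups: no line joins two different components of the graph of rank
one pairs (helper8). -/

namespace Cfsg.Agent.Helper8.RootLine

open Cfsg Cfsg.Agent.Helper7.R1 Cfsg.Agent.Helper7.Root Cfsg.Agent.Helper8.RootComm
  Cfsg.Agent.Helper8.RootChain Cfsg.Agent.Helper8.RootSub

variable {G : Type*} [Group G] {S : Set (Subgroup G)} {A B C D E F P Q : Subgroup G}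

/-- a rank one group is not nilpotent (inside an ambient group) -/
theorem not_isNilpotent_sup (h : IsRankOnePair A B) : ¬ Group.IsNilpotent ↥(A ⊔ B) := by
  have hA : A ≤ A ⊔ B := le_sup_left
  have hB : B ≤ A ⊔ B := le_sup_right
  have hp : IsRankOnePair (A.subgroupOf (A ⊔ B)) (B.subgroupOf (A ⊔ B)) :=
    (isRankOnePair_subgroupOf hA hB).2 h
  have htop : A.subgroupOf (A ⊔ B) ⊔ B.subgroupOf (A ⊔ B) = ⊤ := by
    rw [← Subgroup.subgroupOf_sup hA hB, Subgroup.subgroupOf_self]
  exact not_isNilpotent ⟨htop, hp⟩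

theorem not_isNilpotent_of_le (h : IsRankOnePair A B) {R : Subgroup G} (hle : A ⊔ B ≤ R) :
    ¬ Group.IsNilpotent ↥R := by
  intro hR
  apply not_isNilpotent_sup h
  have : Group.IsNilpotent ↥((A ⊔ B).subgroupOf R) := inferInstance
  exact (Group.isNilpotent_congr (Subgroup.subgroupOfEquivOfLe hle)).1 this

theorem reach_symm {r : Subgroup G → Subgroup G → Prop} (hs : ∀ x y, r x y → r y x)
    {x y : Subgroup G} (h : Relation.ReflTransGen r x y) : Relation.ReflTransGen r y x := by
  induction h with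
  | refl => exact Relation.ReflTransGen.refl
  | tail _ hbc ih => exact (Relation.ReflTransGen.single (hs _ _ hbc)).trans ih

theorem fadj_symm (x y : Subgroup G) (h : FAdj S x y) : FAdj S y x :=
  ⟨h.2.1, h.1, RankOnePair_symm h.2.2⟩

/-- a member of a component with more than one member has a rank one partner -/
theorem exists_partner_of_component (hA2 : ∃ A' ∈ componentOf (FAdj S) S A, A' ≠ A) :
    ∃ E ∈ S, IsRankOnePair A E := by
  obtain ⟨A', ⟨_, hr⟩, hne⟩ := hA2
  rcases Relation.ReflTransGen.cases_head hr with e | ⟨X, hX, _⟩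
  · exact absurd e.symm hne
  · exact ⟨X, hX.2.1, hX.2.2⟩

/-- the key configuration leading to a contradiction -/
theorem no_line_aux (hS : IsRootSubgroupSet S) (hP : P ∈ S) (hQ : Q ∈ S) (hF : F ∈ S) (hD : D ∈ S)
    (hPQ : ∀ p ∈ P, ∀ q ∈ Q, p * q = q * p) (hQF : IsRankOnePair Q F) {p q : G} (hp : p ∈ P)
    (hp1 : p ≠ 1) (hq : q ∈ Q) (hq1 : q ≠ 1) (hpq : p * q ∈ D) (hpq1 : p * q ≠ 1)
    (hDle : D ≤ P ⊔ Q) (hDP : D ≠ P) (hFP : ¬ IsRankOnePair P F) (hFD : ¬ IsRankOnePair D F) :
    False := by
  have hPc := hS.commutative P hP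
  have hQc := hS.commutative Q hQ
  -- elements of P ⊔ Q commute with Q and with P
  have hcQ : ∀ x ∈ P ⊔ Q, ∀ q' ∈ Q, x * q' = q' * x := by
    intro x hx q' hq'
    refine sup_induction' (p := fun x => x * q' = q' * x) ?_ ?_ ?_ ?_ hx
    · exact fun p' hp' => hPQ p' hp' q' hq'
    · exact fun q'' hq'' => comm_of_isMulCommutative hQc hq'' hq'
    · simp
    · intro u v hu hv
      rw [mul_assoc, hv, ← mul_assoc, hu, mul_assoc]
  have hcP : ∀ x ∈ P ⊔ Q, ∀ p' ∈ P, x * p' = p' * x := by
    intro x hx p' hp'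
    refine sup_induction' (p := fun x => x * p' = p' * x) ?_ ?_ ?_ ?_ hx
    · exact fun p'' hp'' => comm_of_isMulCommutative hPc hp'' hp'
    · exact fun q'' hq'' => (hPQ p' hp' q'' hq'').symm
    · simp
    · intro u v hu hv
      rw [mul_assoc, hv, ← mul_assoc, hu, mul_assoc]
  -- (P, F) is in the commutator case
  have hPF : RootCommutatorCase S P F := by
    rcases hS.pair P hP F hF with h0 | hr | hc
    · exfalso
      refine central_mul_not_rootElement hS hF hQF (z := p) ?_ hp1 hq hq1 ⟨hpq1, D, hD, hpq⟩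
      intro x hx
      refine sup_induction' (p := fun x => p * x = x * p) ?_ ?_ ?_ ?_ hx
      · exact fun q' hq' => hPQ p hp q' hq'
      · exact fun f hf => comm_of_commutator_eq_bot h0 hp hf
      · simp
      · intro u v hu hv
        rw [← mul_assoc, hu, mul_assoc, hv, mul_assoc]
    · exact absurd hr hFP
    · exact hc
  have hDF : RootCommutatorCase S D F := by
    rcases hS.pair D hD F hF with h0 | hr | hc
    · exfalso
      have hq1' : q⁻¹ ≠ 1 := by simpa using hq1
      have hroot : p * q * q⁻¹ ∈ rootElements S := by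
        rw [mul_assoc, mul_inv_cancel, mul_one]
        exact ⟨hp1, P, hP, hp⟩
      refine central_mul_not_rootElement hS hF hQF (z := p * q) ?_ hpq1 (Q.inv_mem hq) hq1' hroot
      intro x hx
      refine sup_induction' (p := fun x => p * q * x = x * (p * q)) ?_ ?_ ?_ ?_ hx
      · exact fun q' hq' => hcQ _ (hDle hpq) q' hq'
      · exact fun f hf => comm_of_commutator_eq_bot h0 hpq hf
      · simp
      · intro u v hu hv
        rw [← mul_assoc, hu, mul_assoc, hv, mul_assoc]
    · exact absurd hr hFD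
    · exact hc
  have hchain : Chain S P F D := ⟨hS, hP, hF, hD, hPF, hDF, Ne.symm hDP,
    fun p' hp' d hd => (hcP d (hDle hd) p' hp').symm⟩
  have hnil := hchain.nilpotent
  -- q ∈ P ⊔ D
  have hqR : q ∈ P ⊔ F ⊔ D := by
    have e : q = p⁻¹ * (p * q) := by group
    rw [e]
    exact mul_mem (Subgroup.mem_sup_left (Subgroup.mem_sup_left (P.inv_mem hp)))
      (Subgroup.mem_sup_right hpq)
  have hFR : F ≤ P ⊔ F ⊔ D := le_sup_of_le_left le_sup_right
  have hne : F ≠ conjBy F q := fun e => hq1 (eq_one_of_conjBy_right hQF hq e.symm)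
  have hpair := pair_of_unipotent hQF (right_mem_unipotent hQF)
    (conjBy_mem_unipotent (right_mem_unipotent hQF) (Subgroup.mem_sup_left hq)) hne
  exact not_isNilpotent_of_le hpair.1 (sup_le hFR (conjBy_le_of_le hFR hqR)) hnil

end Cfsg.Agent.Helper8.RootLine
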