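import Mathlib
import Cfsg.Agent.Helper8.RootLineA

set_option autoImplicit false

/-! Sets of abstract root subgroups: no line joins two different components (helper8). -/

namespace Cfsg.Agent.Helper8.RootLine

open Cfsg Cfsg.Agent.Helper7.R1 Cfsg.Agent.Helper7.Root Cfsg.Agent.Helper8.RootComm
  Cfsg.Agent.Helper8.RootChain Cfsg.Agent.Helper8.RootSub

variable {G : Type*} [Group G] {S : Set (Subgroup G)} {A B C D E F P Q : Subgroup G}

theorem component_eq_of_reach (hr : Relation.ReflTransGen (FAdj S) A B) :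
    componentOf (FAdj S) S A = componentOf (FAdj S) S B := by
  ext X
  constructor
  · rintro ⟨hX, h⟩
    exact ⟨hX, (reach_symm fadj_symm hr).trans h⟩
  · rintro ⟨hX, h⟩
    exact ⟨hX, hr.trans h⟩

/-- if `B` is a line partner of `A`, both having rank one partners, then `A` and `B` lie in the
same component -/
theorem reach_of_line (hS : IsRootSubgroupSet S) (hA : A ∈ S) (hE : E ∈ S) (hAE : IsRankOnePair A E)
    (hF : F ∈ S) (hBF : IsRankOnePair B F) (hline : B ∈ linePartners S A) :
    Relation.ReflTransGen (FAdj S) A B := by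
  obtain ⟨⟨hB, hBA, hcomm⟩, hpart⟩ := hline
  by_contra hnr
  have hAB : ∀ a ∈ A, ∀ b ∈ B, a * b = b * a := fun a ha b hb =>
    comm_of_commutator_eq_bot hcomm ha hb
  have hbot : A ⊓ B = ⊥ := inf_eq_bot_of_partner hS hE hAE hB (Ne.symm hBA)
  obtain ⟨a, ha, ha1⟩ := exists_nonid hAE
  obtain ⟨b, hb, hb1⟩ := exists_nonid hBF
  have hab1 : a * b ≠ 1 := by
    intro e
    have : a = b⁻¹ := eq_inv_of_mul_eq_one_left e
    have h2 : a ∈ A ⊓ B := ⟨ha, by rw [this]; exact B.inv_mem hb⟩
    rw [hbot, Subgroup.mem_bot] at h2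
    exact ha1 h2
  have habm : a * b ∈ A ⊔ B := mul_mem (Subgroup.mem_sup_left ha) (Subgroup.mem_sup_right hb)
  obtain ⟨D, ⟨hD, hDle⟩, habD⟩ := hpart.2.1 (a * b) habm hab1
  have hDA : D ≠ A := by
    rintro rfl
    have : b ∈ D := by
      have := D.mul_mem (D.inv_mem ha) habD
      have e : a⁻¹ * (a * b) = b := by group
      rwa [e] at this
    have h2 : b ∈ D ⊓ B := ⟨this, hb⟩
    rw [hbot, Subgroup.mem_bot] at h2
    exact hb1 h2
  have hDB : D ≠ B := by
    rintro rfl
    have : a ∈ D := by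
      have := D.mul_mem habD (D.inv_mem hb)
      have e : a * b * b⁻¹ = a := by group
      rwa [e] at this
    have h2 : a ∈ A ⊓ D := ⟨ha, this⟩
    rw [hbot, Subgroup.mem_bot] at h2
    exact ha1 h2
  have hFA : ¬ IsRankOnePair A F := by
    intro hr
    apply hnr
    exact (Relation.ReflTransGen.single ⟨hA, hF, hr⟩).trans
      (Relation.ReflTransGen.single ⟨hF, hB, RankOnePair_symm hBF⟩)
  have hEB : ¬ IsRankOnePair B E := by
    intro hr
    apply hnr
    exact (Relation.ReflTransGen.single ⟨hA, hE, hAE⟩).trans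
      (Relation.ReflTransGen.single ⟨hE, hB, RankOnePair_symm hr⟩)
  by_cases hDF : IsRankOnePair D F
  · by_cases hDE : IsRankOnePair D E
    · apply hnr
      exact ((Relation.ReflTransGen.single ⟨hA, hE, hAE⟩).trans
        (Relation.ReflTransGen.single ⟨hE, hD, RankOnePair_symm hDE⟩)).trans
        ((Relation.ReflTransGen.single ⟨hD, hF, hDF⟩).trans
        (Relation.ReflTransGen.single ⟨hF, hB, RankOnePair_symm hBF⟩))
    · -- roles: P = B, Q = A, F = E
      have hba : b * a = a * b := (hAB a ha b hb).symm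
      refine no_line_aux hS hB hA hE hD (fun p hp q hq => (hAB q hq p hp).symm) hAE hb hb1 ha ha1
        (by rw [hba]; exact habD) (by rw [hba]; exact hab1) (by rw [sup_comm]; exact hDle) hDB hEB
        hDE
  · exact no_line_aux hS hA hB hF hD hAB hBF ha ha1 hb hb1 habD hab1 hDle hDA hFA hDF

end Cfsg.Agent.Helper8.RootLine
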