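import Mathlib
import Cfsg.Agent.Helper8.RootLineB
import Cfsg.Agent.Helper8.RootSubB
import Cfsg.Agent.S5029

set_option autoImplicit false

/-! Sets of abstract root subgroups: a conjugacy class with a non-isolated member is connected
(helper8). -/

namespace Cfsg.Agent.Helper8.RootLine

open Cfsg Cfsg.Agent.Helper7.R1 Cfsg.Agent.Helper7.Root Cfsg.Agent.Helper8.RootComm
  Cfsg.Agent.Helper8.RootChain Cfsg.Agent.Helper8.RootSub

variable {G : Type*} [Group G] {S : Set (Subgroup G)} {A B C D E F P Q : Subgroup G}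

theorem not_isolated_of_pair (hA : A ∈ S) (hE : E ∈ S) (h : IsRankOnePair A E) :
    ¬ IsIsolatedIn (FAdj S) S A := by
  rintro ⟨_, hiso⟩
  exact (hiso E).1 ⟨hA, hE, h⟩

/-- conjugating by an element of a member stays in the component, all members having partners -/
theorem reach_conj (hS : IsRootSubgroupSet S)
    (hall : ∀ X ∈ S, ∃ Y ∈ S, IsRankOnePair X Y) (hA : A ∈ S) (hE : E ∈ S) {e : G} (he : e ∈ E) :
    Relation.ReflTransGen (FAdj S) A (conjBy A e) := by
  rcases hS.pair A hA E hE with h0 | hr | hc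
  · have : conjBy A e = A :=
      conjBy_of_comm (fun a ha => (comm_of_commutator_eq_bot h0 ha he).symm)
    rw [this]
  · have h1 := isRankOnePair_conj hr e
    rw [conjBy_of_mem he] at h1
    exact (Relation.ReflTransGen.single ⟨hA, hE, hr⟩).trans
      (Relation.ReflTransGen.single ⟨hE, hS.conj_mem A hA e, RankOnePair_symm h1⟩)
  · have hC : ⁅A, E⁆ ∈ S := hc.1
    obtain ⟨PA, hPA, hAPA⟩ := hall A hA
    obtain ⟨PC, hPC, hCPC⟩ := hall _ hC
    have hA' : conjBy A e ∈ S := hS.conj_mem A hA e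
    obtain ⟨PA', hPA', hAPA'⟩ := hall _ hA'
    have hl1 : A ∈ linePartners S ⁅A, E⁆ :=
      (Cfsg.Agent.S5029.result hS (not_isolated_of_pair hA hPA hAPA) hA hE hC).2.2.1
    have hCe : ⁅conjBy A e, E⁆ = ⁅A, E⁆ := by
      have h1 : conjBy ⁅A, E⁆ e = ⁅conjBy A e, conjBy E e⁆ := Subgroup.map_commutator A E _
      rw [conjBy_of_mem he] at h1
      rw [← h1]
      exact conjBy_of_comm (fun c hc' => comm_right hc he hc')
    have hl2 : conjBy A e ∈ linePartners S ⁅A, E⁆ := by
      have := (Cfsg.Agent.S5029.result hS (not_isolated_of_pair hA' hPA' hAPA') hA' hE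
        (by rw [hCe]; exact hC)).2.2.1
      rwa [hCe] at this
    have r1 := reach_of_line hS hC hPC hCPC hPA hAPA hl1
    have r2 := reach_of_line hS hC hPC hCPC hPA' hAPA' hl2
    exact (reach_symm fadj_symm r1).trans r2

/-- the subgroup of elements conjugating every member into its component -/
def stab (S : Set (Subgroup G)) (hS : IsRootSubgroupSet S) : Subgroup G where
  carrier := {g | ∀ A ∈ S, Relation.ReflTransGen (FAdj S) A (conjBy A g)}
  one_mem' := by
    intro A _
    rw [conjBy_one]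
  mul_mem' := by
    intro g k hg hk A hA
    rw [conjBy_mul]
    exact (hk A hA).trans (hg _ (hS.conj_mem A hA k))
  inv_mem' := by
    intro g hg A hA
    have := hg _ (hS.conj_mem A hA g⁻¹)
    rw [conjBy_conjBy, mul_inv_cancel, conjBy_one] at this
    exact reach_symm fadj_symm this

theorem connected_of_conjClass (hS : IsRootSubgroupSet S) (hconj : IsConjClassOfSubgroups S)
    (hnon : ∃ A ∈ S, ¬ IsIsolatedIn (FAdj S) S A) : IsConnectedFamily (FAdj S) S := by
  obtain ⟨A₀, hA₀, hiso⟩ := hnon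
  obtain ⟨E₀, hE₀, hAE₀⟩ := exists_partner hiso hA₀
  have hall : ∀ X ∈ S, ∃ Y ∈ S, IsRankOnePair X Y := by
    intro X hX
    obtain ⟨g, rfl⟩ := hconj.2 A₀ hA₀ X hX
    exact ⟨conjBy E₀ g, hS.conj_mem E₀ hE₀ g, isRankOnePair_conj hAE₀ g⟩
  have htop : stab S hS = ⊤ := by
    rw [eq_top_iff, ← hS.generates]
    apply iSup₂_le
    intro E hE e he A hA
    exact reach_conj hS hall hA hE he
  intro A hA B hB
  obtain ⟨g, rfl⟩ := hconj.2 A hA B hB
  have : g ∈ stab S hS := by rw [htop]; trivial
  exact this A hA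

end Cfsg.Agent.Helper8.RootLine
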