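import Mathlib
import Cfsg.Agent.Helper8.RootChainG

set_option autoImplicit false

/-! Abstract root subgroups: `A, B` with `C = ⁅A, B⁆ ∈ S` and `D` with `⁅D, C⁆ = A`: `B, D` form a
rank one pair (helper8). -/

namespace Cfsg.Agent.Helper8.RootOpp

open Cfsg Cfsg.Agent.Helper7.R1 Cfsg.Agent.Helper7.Root Cfsg.Agent.Helper8.RootComm
  Cfsg.Agent.Helper8.RootChain

variable {G : Type*} [Group G] {S : Set (Subgroup G)} {A B D : Subgroup G}

structure Opp (S : Set (Subgroup G)) (A B D : Subgroup G) : Prop where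
  hS : IsRootSubgroupSet S
  hA : A ∈ S
  hB : B ∈ S
  hD : D ∈ S
  h1 : RootCommutatorCase S A B
  hDC : ⁅D, ⁅A, B⁆⁆ = A

namespace Opp

variable (h : Opp S A B D)
include h

theorem hC : ⁅A, B⁆ ∈ S := h.h1.1

theorem h2 : RootCommutatorCase S D ⁅A, B⁆ :=
  commCase_of_mem h.hS h.hD h.hC (by rw [h.hDC]; exact h.hA)

theorem comm_AC {a c : G} (ha : a ∈ A) (hc : c ∈ ⁅A, B⁆) : a * c = c * a := comm_left h.h1 ha hc

theorem comm_BC {b c : G} (hb : b ∈ B) (hc : c ∈ ⁅A, B⁆) : b * c = c * b := comm_right h.h1 hb hc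

theorem comm_DA {d a : G} (hd : d ∈ D) (ha : a ∈ A) : d * a = a * d := by
  have ha' : a ∈ ⁅D, ⁅A, B⁆⁆ := by rw [h.hDC]; exact ha
  exact comm_left h.h2 hd ha'

theorem psi_cd_mem {c d : G} (hc : c ∈ ⁅A, B⁆) (hd : d ∈ D) : psi c d ∈ A := by
  have := psi_mem (A := D) (B := ⁅A, B⁆) hd hc
  have h2 := Subgroup.inv_mem _ this
  rw [psi_inv, h.hDC] at h2
  exact h2

/-- for `c ≠ 1` in `C` every element of `A` is `ψ(c, d)` -/
theorem psi_cd_surj {c : G} (hc : c ∈ ⁅A, B⁆) (hc1 : c ≠ 1) {a : G} (ha : a ∈ A) :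
    ∃ d ∈ D, psi c d = a := by
  have ha' : a⁻¹ ∈ ⁅D, ⁅A, B⁆⁆ := by rw [h.hDC]; exact A.inv_mem ha
  obtain ⟨d, hd, e⟩ := psi_surj_left h.h2 hc hc1 ha'
  refine ⟨d, hd, ?_⟩
  rw [← psi_inv, e, inv_inv]

/-- the computation excluding the commutator case for `(B, D)` -/
theorem false_of_comm {a b c d : G} (ha : a ∈ A) (hb : b ∈ B) (hd : d ∈ D)
    (hc : c = psi a b) (hc1 : c ≠ 1) (hcd : psi c d = a)
    (hbb : b * (d⁻¹ * b * d) = (d⁻¹ * b * d) * b) : False := by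
  have hcC : c ∈ ⁅A, B⁆ := by rw [hc]; exact psi_mem ha hb
  have E1 : b⁻¹ * a * b = a * c := by rw [hc]; exact conj_eq_mul_psi a b
  have E2 : d⁻¹ * c * d = c * a := by rw [← hcd]; exact conj_eq_mul_psi c d
  have hda : d * a = a * d := h.comm_DA hd ha
  have hbc : b * c = c * b := h.comm_BC hb hcC
  have hac : a * c = c * a := h.comm_AC ha hcC
  have E2' : d⁻¹ * a * d = a := conj_eq_of_comm hda
  have E3 : d * c * d⁻¹ = c * a⁻¹ := by
    have : c = d * (c * a) * d⁻¹ := by rw [← E2]; group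
    have e2 : d * (c * a) * d⁻¹ = (d * c * d⁻¹) * (d * a * d⁻¹) := by group
    rw [e2, conj_eq_of_comm' hda] at this
    exact eq_mul_inv_of_mul_eq this.symm
  have E4 : b⁻¹ * c * b = c := conj_eq_of_comm hbc
  set b' := d⁻¹ * b * d with hb'
  -- b'⁻¹ a b' = a c a
  have F1 : b'⁻¹ * a * b' = a * (c * a) := by
    have e1 : b'⁻¹ * a * b' = d⁻¹ * (b⁻¹ * (d * a * d⁻¹) * b) * d := by rw [hb']; group
    rw [e1, conj_eq_of_comm' hda, E1]
    have e2 : d⁻¹ * (a * c) * d = (d⁻¹ * a * d) * (d⁻¹ * c * d) := by group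
    rw [e2, E2', E2]
  have F2 : b'⁻¹ * c * b' = a⁻¹ := by
    have e1 : b'⁻¹ * c * b' = d⁻¹ * (b⁻¹ * (d * c * d⁻¹) * b) * d := by rw [hb']; group
    rw [e1, E3]
    have e2 : b⁻¹ * (c * a⁻¹) * b = (b⁻¹ * c * b) * (b⁻¹ * a * b)⁻¹ := by group
    rw [e2, E4, E1]
    have e3 : c * (a * c)⁻¹ = c * c⁻¹ * a⁻¹ := by group
    rw [e3, mul_inv_cancel, one_mul]
    have hda' : d * a⁻¹ = a⁻¹ * d := comm_inv_right hda
    exact conj_eq_of_comm hda'
  have G1 : (b * b')⁻¹ * a * (b * b') = a * c := by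
    have e1 : (b * b')⁻¹ * a * (b * b') = b'⁻¹ * (b⁻¹ * a * b) * b' := by group
    rw [e1, E1]
    have e2 : b'⁻¹ * (a * c) * b' = (b'⁻¹ * a * b') * (b'⁻¹ * c * b') := by group
    rw [e2, F1, F2]; group
  have G2 : (b' * b)⁻¹ * a * (b' * b) = a * c * c * (a * c) := by
    have e1 : (b' * b)⁻¹ * a * (b' * b) = b⁻¹ * (b'⁻¹ * a * b') * b := by group
    rw [e1, F1]
    have e2 : b⁻¹ * (a * (c * a)) * b = (b⁻¹ * a * b) * (b⁻¹ * c * b) * (b⁻¹ * a * b) := by group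
    rw [e2, E1, E4]
  rw [hbb, G2] at G1
  -- a c c a c = a c  ⇒ c a c = 1
  have H1 : c * (a * c) = 1 := by
    have : a * c * (c * (a * c)) = a * c * 1 := by
      rw [mul_one]
      calc a * c * (c * (a * c)) = a * c * c * (a * c) := by group
        _ = a * c := G1
    exact mul_left_cancel this
  have H2 : a ∈ ⁅A, B⁆ := by
    have : a = c⁻¹ * c⁻¹ := by
      have := congrArg (fun t => c⁻¹ * t * c⁻¹) H1
      have e : c⁻¹ * (c * (a * c)) * c⁻¹ = a := by group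
      rw [e] at this
      rw [this]; group
    rw [this]
    exact mul_mem (inv_mem hcC) (inv_mem hcC)
  have H3 : b * a = a * b := h.comm_BC hb H2
  have H4 : b⁻¹ * a * b = a := conj_eq_of_comm H3
  rw [H4] at E1
  apply hc1
  have := mul_left_cancel (a := a) (b := 1) (c := c) (by rw [mul_one]; exact E1)
  exact this.symm

/-- `B` and `D` form a rank one pair -/
theorem rankOne : IsRankOnePair B D := by
  rcases h.hS.pair B h.hB D h.hD with h0 | hr | hc
  · exfalso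
    apply h.hS.ne_bot A h.hA
    rw [← h.hDC, Subgroup.commutator_eq_bot_iff_le_centralizer]
    intro d hd
    rw [Subgroup.mem_centralizer_iff]
    intro c hc
    have := commutator_comm_of_comm (P := A) (Q := B) (c := d)
      (fun a ha => h.comm_DA hd ha) (fun b hb => (comm_of_commutator_eq_bot h0 hb hd).symm) c hc
    exact this.symm
  · exact hr
  · exfalso
    obtain ⟨a, ha, ha1⟩ := exists_nonid_of_mem h.hS h.hA
    -- some b with psi a b ≠ 1
    obtain ⟨b, hb, hc1⟩ : ∃ b ∈ B, psi a b ≠ 1 := by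
      by_contra hcon
      push Not at hcon
      apply h.hS.ne_bot _ h.hC
      rw [← h.h1.2.2.1 a ha ha1, Subgroup.closure_eq_bot_iff]
      rintro _ ⟨b, hb, rfl⟩
      rw [Set.mem_singleton_iff]
      have := hcon b hb
      rw [psi_eq h.h1 ha hb] at this
      exact this
    have hcC : psi a b ∈ ⁅A, B⁆ := psi_mem ha hb
    obtain ⟨d, hd, hcd⟩ := h.psi_cd_surj hcC hc1 ha
    have hk : psi b d ∈ ⁅B, D⁆ := psi_mem hb hd
    have hkb : psi b d * b = b * psi b d := central hc hk (Subgroup.mem_sup_left hb)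
    have hbb : b * (d⁻¹ * b * d) = (d⁻¹ * b * d) * b := by
      rw [conj_eq_mul_psi, mul_assoc b (psi b d) b, hkb]
    exact h.false_of_comm ha hb hd rfl hc1 hcd hbb

end Opp

end Cfsg.Agent.Helper8.RootOpp
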