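import Mathlib
import Cfsg.Agent.Helper8.RootOppA

set_option autoImplicit false

/-! Abstract root subgroups: `A, B` with `C = ⁅A, B⁆ ∈ S` and `D` with `⁅D, C⁆ = A`: the natural
module `N = A C` for `X = ⟨B, D⟩` (helper8). -/

namespace Cfsg.Agent.Helper8.RootOpp

open Cfsg Cfsg.Agent.Helper7.R1 Cfsg.Agent.Helper7.Root Cfsg.Agent.Helper8.RootComm
  Cfsg.Agent.Helper8.RootChain

variable {G : Type*} [Group G] {S : Set (Subgroup G)} {A B D : Subgroup G}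

/-- the fixed points of `U` on `N` -/
def fixOn (N U : Subgroup G) : Subgroup G := N ⊓ Subgroup.centralizer (U : Set G)

theorem mem_fixOn {N U : Subgroup G} {n : G} :
    n ∈ fixOn N U ↔ n ∈ N ∧ ∀ u ∈ U, u * n = n * u := by
  unfold fixOn
  rw [Subgroup.mem_inf, Subgroup.mem_centralizer_iff]
  rfl

theorem fixOn_conj {N U : Subgroup G} {x : G} (hx : conjBy N x = N) :
    fixOn N (conjBy U x) = conjBy (fixOn N U) x := by
  ext n
  rw [mem_conjBy, mem_fixOn, mem_fixOn]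
  constructor
  · rintro ⟨hn, hc⟩
    refine ⟨?_, ?_⟩
    · rw [← hx, mem_conjBy] at hn
      exact hn
    · intro u hu
      have hu' : x * u * x⁻¹ ∈ conjBy U x := by
        rw [mem_conjBy]
        have : x⁻¹ * (x * u * x⁻¹) * x = u := by group
        rwa [this]
      have := hc _ hu'
      have e1 : u * (x⁻¹ * n * x) = x⁻¹ * ((x * u * x⁻¹) * n) * x := by group
      have e2 : x⁻¹ * n * x * u = x⁻¹ * (n * (x * u * x⁻¹)) * x := by group
      rw [e1, e2, this]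
  · rintro ⟨hn, hc⟩
    refine ⟨?_, ?_⟩
    · rw [← hx, mem_conjBy]
      exact hn
    · intro v hv
      rw [mem_conjBy] at hv
      have := hc _ hv
      have e1 : v * n = x * ((x⁻¹ * v * x) * (x⁻¹ * n * x)) * x⁻¹ := by group
      have e2 : n * v = x * ((x⁻¹ * n * x) * (x⁻¹ * v * x)) * x⁻¹ := by group
      rw [e1, e2, this]

namespace Opp

variable (h : Opp S A B D)
include h

theorem sup_comm_eq : A ⊔ ⁅A, B⁆ = ⁅A, B⁆ ⊔ ⁅⁅A, B⁆, D⁆ := by
  rw [Subgroup.commutator_comm ⁅A, B⁆ D, h.hDC, sup_comm]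

/-- `X = ⟨B, D⟩` normalises `N = A C` -/
theorem N_conj {x : G} (hx : x ∈ B ⊔ D) : conjBy (A ⊔ ⁅A, B⁆) x = A ⊔ ⁅A, B⁆ := by
  have hB : ∀ b ∈ B, conjBy (A ⊔ ⁅A, B⁆) b ≤ A ⊔ ⁅A, B⁆ := by
    intro b hb
    rw [conjBy_sup]
    refine sup_le (conjBy_le_sup hb) ?_
    rw [conjBy_of_comm (fun c hc => h.comm_BC hb hc)]
    exact le_sup_right
  have hD : ∀ d ∈ D, conjBy (A ⊔ ⁅A, B⁆) d ≤ A ⊔ ⁅A, B⁆ := by
    intro d hd
    rw [conjBy_sup]
    refine sup_le ?_ ?_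
    · rw [conjBy_of_comm (fun a ha => h.comm_DA hd ha)]
      exact le_sup_left
    · have := conjBy_le_sup (A := ⁅A, B⁆) (B := D) hd
      rw [← h.sup_comm_eq] at this
      exact this
  refine sup_induction' (p := fun x => conjBy (A ⊔ ⁅A, B⁆) x = A ⊔ ⁅A, B⁆) ?_ ?_ ?_ ?_ hx
  · intro b hb
    exact conjBy_eq_of_le (hB b hb) (hB _ (B.inv_mem hb))
  · intro d hd
    exact conjBy_eq_of_le (hD d hd) (hD _ (D.inv_mem hd))
  · exact conjBy_one _
  · intro x y hx hy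
    rw [conjBy_mul, hy, hx]

/-- for `a ∈ A#` some `b ∈ B` has `ψ(a, b) ≠ 1` -/
theorem exists_psi_ne {a : G} (ha : a ∈ A) (ha1 : a ≠ 1) : ∃ b ∈ B, psi a b ≠ 1 := by
  by_contra hcon
  push Not at hcon
  apply h.hS.ne_bot _ h.hC
  rw [← h.h1.2.2.1 a ha ha1, Subgroup.closure_eq_bot_iff]
  rintro _ ⟨b, hb, rfl⟩
  rw [Set.mem_singleton_iff]
  have := hcon b hb
  rw [psi_eq h.h1 ha hb] at this
  exact this

theorem fix_B : fixOn (A ⊔ ⁅A, B⁆) B = ⁅A, B⁆ := by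
  ext n
  rw [mem_fixOn]
  constructor
  · rintro ⟨hn, hc⟩
    obtain ⟨a, ha, c, hcC, rfl⟩ := (mem_sup_iff h.h1).1 hn
    by_cases ha1 : a = 1
    · subst ha1; simpa using hcC
    · exfalso
      obtain ⟨b, hb, hne⟩ := h.exists_psi_ne ha ha1
      apply hne
      rw [psi_eq_one_iff]
      have h1 := hc b hb
      have h2 := h.comm_BC hb hcC
      have : b * a * c = a * b * c := by
        rw [mul_assoc, h1, mul_assoc, ← h2, mul_assoc]
      exact (mul_right_cancel this).symm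
  · intro hn
    exact ⟨Subgroup.mem_sup_right hn, fun b hb => h.comm_BC hb hn⟩

theorem fix_D : fixOn (A ⊔ ⁅A, B⁆) D = A := by
  ext n
  rw [mem_fixOn]
  constructor
  · rintro ⟨hn, hc⟩
    obtain ⟨a, ha, c, hcC, rfl⟩ := (mem_sup_iff h.h1).1 hn
    by_cases hc1 : c = 1
    · subst hc1; simpa using ha
    · exfalso
      obtain ⟨a', ha', ha'1⟩ := exists_nonid_of_mem h.hS h.hA
      obtain ⟨d, hd, e⟩ := h.psi_cd_surj hcC hc1 ha'
      apply ha'1
      rw [← e, psi_eq_one_iff]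
      have h1 := hc d hd
      have h2 := h.comm_DA hd ha
      have : a * (d * c) = a * (c * d) := by
        rw [← mul_assoc, ← h2, mul_assoc, h1, mul_assoc]
      exact (mul_left_cancel this).symm
  · intro hn
    exact ⟨Subgroup.mem_sup_left hn, fun d hd => h.comm_DA hd hn⟩

/-- `ψ(a, b) ≠ 1` for `a ≠ 1`, `b ≠ 1` -/
theorem psi_ne_one {a b : G} (ha : a ∈ A) (ha1 : a ≠ 1) (hb : b ∈ B) (hb1 : b ≠ 1) :
    psi a b ≠ 1 := by
  intro e
  have h1 : psi b a = 1 := by rw [← psi_inv, e, inv_one]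
  exact ha1 (psi_inj h.hS h.hB h.hD h.rankOne (RootComm.symm h.h1) hb hb1 ha h1)

theorem inf_AC : A ⊓ ⁅A, B⁆ = ⊥ := by
  rw [eq_bot_iff]
  rintro x ⟨hxA, hxC⟩
  rw [Subgroup.mem_bot]
  by_contra hx1
  obtain ⟨b, hb, hb1⟩ := exists_nonid_of_mem h.hS h.hB
  apply h.psi_ne_one hxA hx1 hb hb1
  rw [psi_eq_one_iff]
  exact (h.comm_BC hb hxC).symm

/-- `d⁻¹ C d = b⁻¹ A b` for partners `b`, `d` -/
theorem conj_C_eq {b d : G} (hb : b ∈ B) (hd : d ∈ D) (e : conjBy D b⁻¹ = conjBy B d⁻¹) :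
    conjBy A b⁻¹ = conjBy ⁅A, B⁆ d⁻¹ := by
  have h1 := fixOn_conj (U := D) (h.N_conj (Subgroup.mem_sup_left (B.inv_mem hb)))
  have h2 := fixOn_conj (U := B) (h.N_conj (Subgroup.mem_sup_right (D.inv_mem hd)))
  rw [h.fix_D] at h1
  rw [h.fix_B] at h2
  rw [← h1, ← h2, e]

end Opp

end Cfsg.Agent.Helper8.RootOpp
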