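import Mathlib
import Cfsg.Agent.Helper8.RootOppB

set_option autoImplicit false

/-! Abstract root subgroups: `A, B` with `C = ⁅A, B⁆ ∈ S` and `D` with `⁅D, C⁆ = A`: the orbit of
`A` under `X = ⟨B, D⟩` (helper8). -/

namespace Cfsg.Agent.Helper8.RootOpp

open Cfsg Cfsg.Agent.Helper7.R1 Cfsg.Agent.Helper7.Root Cfsg.Agent.Helper8.RootComm
  Cfsg.Agent.Helper8.RootChain

variable {G : Type*} [Group G] {S : Set (Subgroup G)} {A B D : Subgroup G}

namespace Opp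

variable (h : Opp S A B D)
include h

/-- every `d C d⁻¹`, `d ≠ 1`, is some `b A b⁻¹` -/
theorem conjC_eq_conjA {d : G} (hd : d ∈ D) (hd1 : d ≠ 1) :
    ∃ b ∈ B, conjBy ⁅A, B⁆ d = conjBy A b := by
  have hd1' : d⁻¹ ≠ 1 := by simpa using hd1
  obtain ⟨b, hb, _, e⟩ := h.rankOne.cond_right d⁻¹ (D.inv_mem hd) hd1'
  have := h.conj_C_eq hb (D.inv_mem hd) e
  rw [inv_inv] at this
  exact ⟨b⁻¹, B.inv_mem hb, this.symm⟩

theorem conjA_eq_conjC {b : G} (hb : b ∈ B) (hb1 : b ≠ 1) :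
    ∃ d ∈ D, conjBy A b = conjBy ⁅A, B⁆ d := by
  have hb1' : b⁻¹ ≠ 1 := by simpa using hb1
  obtain ⟨d, hd, _, e⟩ := h.rankOne.cond_left b⁻¹ (B.inv_mem hb) hb1'
  have := h.conj_C_eq (B.inv_mem hb) hd e.symm
  rw [inv_inv] at this
  exact ⟨d⁻¹, D.inv_mem hd, this⟩

theorem omega12 : (fun b : G => conjBy A b) '' (B : Set G) ∪ {⁅A, B⁆} =
    (fun d : G => conjBy ⁅A, B⁆ d) '' (D : Set G) ∪ {A} := by
  ext E
  constructor
  · rintro (⟨b, hb, rfl⟩ | rfl)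
    · by_cases hb1 : b = 1
      · right; subst hb1; simp [conjBy_one]
      · obtain ⟨d, hd, e⟩ := h.conjA_eq_conjC hb hb1
        left; exact ⟨d, hd, e.symm⟩
    · left; exact ⟨1, D.one_mem, conjBy_one _⟩
  · rintro (⟨d, hd, rfl⟩ | rfl)
    · by_cases hd1 : d = 1
      · right; subst hd1; simp [conjBy_one]
      · obtain ⟨b, hb, e⟩ := h.conjC_eq_conjA hd hd1
        left; exact ⟨b, hb, e.symm⟩
    · left; exact ⟨1, B.one_mem, conjBy_one _⟩

/-- `C` is a conjugate of `A` under `X` -/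
theorem exists_conj : ∃ x ∈ B ⊔ D, ⁅A, B⁆ = conjBy A x := by
  obtain ⟨d, hd, hd1⟩ := exists_nonid_of_mem h.hS h.hD
  obtain ⟨b, hb, e⟩ := h.conjC_eq_conjA hd hd1
  refine ⟨d⁻¹ * b, mul_mem (Subgroup.mem_sup_right (D.inv_mem hd)) (Subgroup.mem_sup_left hb), ?_⟩
  rw [conjBy_mul, ← e, conjBy_conjBy, inv_mul_cancel, conjBy_one]

theorem omega1_invariant {x : G} (hx : x ∈ B ⊔ D) :
    ∀ E ∈ (fun b : G => conjBy A b) '' (B : Set G) ∪ {⁅A, B⁆},
      conjBy E x ∈ (fun b : G => conjBy A b) '' (B : Set G) ∪ {⁅A, B⁆} := by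
  refine sup_induction' (p := fun x => ∀ E ∈ (fun b : G => conjBy A b) '' (B : Set G) ∪ {⁅A, B⁆},
      conjBy E x ∈ (fun b : G => conjBy A b) '' (B : Set G) ∪ {⁅A, B⁆}) ?_ ?_ ?_ ?_ hx
  · rintro b' hb' E (⟨b, hb, rfl⟩ | rfl)
    · left
      exact ⟨b' * b, B.mul_mem hb' hb, (conjBy_conjBy A b b').symm⟩
    · right
      rw [Set.mem_singleton_iff]
      exact conjBy_of_comm (fun c hc => h.comm_BC hb' hc)
  · intro d' hd' E hE
    rw [h.omega12] at hE ⊢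
    rcases hE with ⟨d, hd, rfl⟩ | rfl
    · left
      exact ⟨d' * d, D.mul_mem hd' hd, (conjBy_conjBy _ d d').symm⟩
    · right
      rw [Set.mem_singleton_iff]
      exact conjBy_of_comm (fun a ha => h.comm_DA hd' ha)
  · intro E hE
    rw [conjBy_one]; exact hE
  · intro x y hx hy E hE
    rw [conjBy_mul]
    exact hx _ (hy E hE)

theorem omega_eq : {E | ∃ x ∈ B ⊔ D, E = conjBy A x} =
    (fun b : G => conjBy A b) '' (B : Set G) ∪ {⁅A, B⁆} := by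
  ext E
  constructor
  · rintro ⟨x, hx, rfl⟩
    exact h.omega1_invariant hx A (Or.inl ⟨1, B.one_mem, conjBy_one _⟩)
  · rintro (⟨b, hb, rfl⟩ | rfl)
    · exact ⟨b, Subgroup.mem_sup_left hb, rfl⟩
    · exact h.exists_conj

theorem omega_eq_C : {E | ∃ x ∈ B ⊔ D, E = conjBy A x} =
    {E | ∃ x ∈ B ⊔ D, E = conjBy ⁅A, B⁆ x} := by
  obtain ⟨x₀, hx₀, e⟩ := h.exists_conj
  ext E
  constructor
  · rintro ⟨x, hx, rfl⟩
    refine ⟨x * x₀⁻¹, mul_mem hx (inv_mem hx₀), ?_⟩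
    rw [e, conjBy_conjBy, mul_assoc, inv_mul_cancel, mul_one]
  · rintro ⟨x, hx, rfl⟩
    refine ⟨x * x₀, mul_mem hx hx₀, ?_⟩
    rw [e, conjBy_conjBy]

/-- `b A b⁻¹ ∩ C = 1` -/
theorem inf_conjA_C {b : G} (hb : b ∈ B) : conjBy A b ⊓ ⁅A, B⁆ = ⊥ := by
  rw [eq_bot_iff]
  intro x hx
  have hx1 : x ∈ conjBy A b := hx.1
  have hx2 : x ∈ ⁅A, B⁆ := hx.2
  rw [mem_conjBy] at hx1
  have hc : b * x = x * b := h.comm_BC hb hx2
  rw [conj_eq_of_comm hc] at hx1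
  have : x ∈ A ⊓ ⁅A, B⁆ := ⟨hx1, hx2⟩
  rwa [h.inf_AC] at this

theorem inf_conjA_conjA {b b' : G} (hb : b ∈ B) (hb' : b' ∈ B) (hne : conjBy A b ≠ conjBy A b') :
    conjBy A b ⊓ conjBy A b' = ⊥ := by
  rw [eq_bot_iff]
  intro x hx
  have hx1 : x ∈ conjBy A b := hx.1
  have hx2 : x ∈ conjBy A b' := hx.2
  rw [Subgroup.mem_bot]
  rw [mem_conjBy] at hx1 hx2
  set a := b⁻¹ * x * b with ha
  set a' := b'⁻¹ * x * b' with ha'
  set e := b'⁻¹ * b with he
  have heB : e ∈ B := B.mul_mem (B.inv_mem hb') hb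
  have e1 : a' = e * a * e⁻¹ := by rw [ha, ha', he]; group
  have e2 : a' = a * psi a e⁻¹ := by rw [e1]; exact conj_eq_mul_psi' a e
  have hpsi : psi a e⁻¹ ∈ A ⊓ ⁅A, B⁆ := by
    refine ⟨?_, psi_mem hx1 (B.inv_mem heB)⟩
    have : psi a e⁻¹ = a⁻¹ * a' := by rw [e2]; group
    rw [this]
    exact A.mul_mem (A.inv_mem hx1) hx2
  rw [h.inf_AC, Subgroup.mem_bot] at hpsi
  by_cases ha1 : a = 1
  · have : x = b * a * b⁻¹ := by rw [ha]; group
    rw [this, ha1]; group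
  · exfalso
    have he1 : e⁻¹ = 1 := by
      by_contra hne1
      exact h.psi_ne_one hx1 ha1 (B.inv_mem heB) hne1 hpsi
    apply hne
    have : b = b' := by
      have h1 : e = 1 := by simpa using he1
      rw [he] at h1
      have := congrArg (fun t => b' * t) h1
      simpa using this
    rw [this]

theorem partition : IsSubgroupPartition (A ⊔ ⁅A, B⁆) {E | ∃ x ∈ B ⊔ D, E = conjBy A x} := by
  rw [h.omega_eq]
  refine ⟨?_, ?_, ?_⟩
  · rintro E (⟨b, hb, rfl⟩ | rfl)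
    · exact conjBy_le_sup hb
    · exact le_sup_right
  · intro x hx hx1
    obtain ⟨a, ha, c, hc, rfl⟩ := (mem_sup_iff h.h1).1 hx
    by_cases ha1 : a = 1
    · subst ha1
      exact ⟨_, Or.inr rfl, by simpa using hc⟩
    · obtain ⟨b, hb, hm⟩ := exists_conj_mem h.h1 ha ha1 hc
      exact ⟨_, Or.inl ⟨b, hb, rfl⟩, hm⟩
  · rintro E (⟨b, hb, rfl⟩ | rfl) E' (⟨b', hb', rfl⟩ | rfl) hne
    · exact h.inf_conjA_conjA hb hb' hne
    · exact h.inf_conjA_C hb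
    · rw [inf_comm]; exact h.inf_conjA_C hb'
    · exact absurd rfl hne

/-- elements of `X` centralising `N` are central in `X` -/
theorem central_of_centralizes {x : G} (hx : x ∈ B ⊔ D)
    (hxN : ∀ n ∈ A ⊔ ⁅A, B⁆, x * n = n * x) {y : G} (hy : y ∈ B ⊔ D) : x * y = y * x := by
  -- any z ∈ X centralising N normalises B
  have key : ∀ z ∈ B ⊔ D, (∀ n ∈ A ⊔ ⁅A, B⁆, z * n = n * z) → conjBy B z = B := by
    intro z hz hzN
    have hU : conjBy B z ∈ unipotentSubgroups B D := ⟨z, hz, rfl⟩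
    rw [mem_unipotent_iff h.rankOne] at hU
    rcases hU with e | ⟨b', hb', e⟩
    · exact e
    · exfalso
      have h1 := fixOn_conj (U := B) (h.N_conj hz)
      have h2 := fixOn_conj (U := D) (h.N_conj (Subgroup.mem_sup_left hb'))
      rw [h.fix_B, e] at h1
      rw [h.fix_D] at h2
      rw [h2] at h1
      have hCz : conjBy ⁅A, B⁆ z = ⁅A, B⁆ :=
        conjBy_of_comm (fun c hc => hzN c (Subgroup.mem_sup_right hc))
      rw [hCz] at h1
      have := h.inf_conjA_C hb'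
      rw [h1, inf_idem] at this
      exact h.hS.ne_bot _ h.hC this
  have hfix : ∀ U ∈ unipotentSubgroups B D, conjBy U x = U := by
    rintro U ⟨y, hy, rfl⟩
    have hz : y⁻¹ * x * y ∈ B ⊔ D := mul_mem (mul_mem (inv_mem hy) hx) hy
    have hzN : ∀ n ∈ A ⊔ ⁅A, B⁆, (y⁻¹ * x * y) * n = n * (y⁻¹ * x * y) := by
      intro n hn
      have hn' : y * n * y⁻¹ ∈ A ⊔ ⁅A, B⁆ := by
        have := h.N_conj hy
        rw [← this, mem_conjBy]
        have e : y⁻¹ * (y * n * y⁻¹) * y = n := by group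
        rwa [e]
      have := hxN _ hn'
      have e1 : y⁻¹ * x * y * n = y⁻¹ * (x * (y * n * y⁻¹)) * y := by group
      have e2 : n * (y⁻¹ * x * y) = y⁻¹ * ((y * n * y⁻¹) * x) * y := by group
      rw [e1, e2, this]
    have := key _ hz hzN
    rw [conjBy_conjBy]
    have e : x * y = y * (y⁻¹ * x * y) := by group
    rw [e, conjBy_mul, this]
  exact comm_of_fixes_all h.rankOne hfix y hy

end Opp

end Cfsg.Agent.Helper8.RootOpp
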