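import Mathlib
import Cfsg.Agent.Helper8.RootNatA

set_option autoImplicit false

/-! Abstract root subgroups: the natural module `C ⁅C, B⁆` for a rank one group `⟨A, B⟩`
(helper8). -/

namespace Cfsg.Agent.Helper8.RootNat

open Cfsg Cfsg.Agent.Helper7.R1 Cfsg.Agent.Helper7.Root Cfsg.Agent.Helper8.RootComm
  Cfsg.Agent.Helper8.RootChain Cfsg.Agent.Helper8.RankOneExtra Cfsg.Agent.Helper8.RootOpp

variable {G : Type*} [Group G] {S : Set (Subgroup G)} {A B C : Subgroup G}

theorem comm_sup_of_comm {P Q : Subgroup G} {z : G} (hP : ∀ p ∈ P, z * p = p * z)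
    (hQ : ∀ q ∈ Q, z * q = q * z) : ∀ x ∈ P ⊔ Q, z * x = x * z := by
  intro x hx
  refine sup_induction' (p := fun x => Commute z x) ?_ ?_ ?_ ?_ hx
  · exact hP
  · exact hQ
  · exact Commute.one_right z
  · exact fun u v hu hv => Commute.mul_right hu hv

structure NatCfg (S : Set (Subgroup G)) (A B C : Subgroup G) : Prop where
  hS : IsRootSubgroupSet S
  hA : A ∈ S
  hB : B ∈ S
  hC : C ∈ S
  hAB : IsRankOnePair A B
  hCB : RootCommutatorCase S C B
  hCA : ∀ c ∈ C, ∀ a ∈ A, c * a = a * c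
  hprod : ∀ c ∈ C, c ≠ 1 → ∀ a ∈ A, a ≠ 1 → c * a ∈ rootElements S
  hP : ∃ P ∈ S, IsRankOnePair C P

namespace NatCfg

variable (h : NatCfg S A B C)
include h

theorem hK : ⁅C, B⁆ ∈ S := h.hCB.1

/-- `(A, K)` is in the commutator case -/
theorem hAK : RootCommutatorCase S A ⁅C, B⁆ := by
  rcases h.hS.pair A h.hA _ h.hK with h0 | hr | hc
  · exfalso
    -- conjBy A b⁻¹ commutes with C for all b ∈ B
    have key : ∀ b ∈ B, ∀ x ∈ conjBy A b⁻¹, ∀ c ∈ C, x * c = c * x := by
      intro b hb x hx c hc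
      rw [mem_conjBy, inv_inv] at hx
      -- b x b⁻¹ ∈ A commutes with b c b⁻¹ ∈ C K
      have h1 : b * c * b⁻¹ ∈ C ⊔ ⁅C, B⁆ := conjBy_le_sup hb (by
        rw [mem_conjBy]
        have e : b⁻¹ * (b * c * b⁻¹) * b = c := by group
        rwa [e])
      have h2 : (b * x * b⁻¹) * (b * c * b⁻¹) = (b * c * b⁻¹) * (b * x * b⁻¹) :=
        comm_sup_of_comm (fun c' hc' => (h.hCA c' hc' _ hx).symm)
          (fun k hk => comm_of_commutator_eq_bot h0 hx hk) _ h1
      have e1 : x * c = b⁻¹ * ((b * x * b⁻¹) * (b * c * b⁻¹)) * b := by group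
      have e2 : c * x = b⁻¹ * ((b * c * b⁻¹) * (b * x * b⁻¹)) * b := by group
      rw [e1, e2, h2]
    obtain ⟨b, hb, hb1⟩ := exists_nonid (RankOnePair_symm h.hAB)
    have hb1' : b⁻¹ ≠ 1 := by simpa using hb1
    have hne : A ≠ conjBy A b⁻¹ := fun e =>
      hb1' (eq_one_of_conjBy_right (RankOnePair_symm h.hAB) (B.inv_mem hb) e.symm)
    have hpair := pair_of_unipotent h.hAB left_mem_unipotent
      (conjBy_mem_unipotent left_mem_unipotent (Subgroup.mem_sup_right (B.inv_mem hb))) hne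
    apply commutator_ne_bot h.hCB h.hS
    rw [Subgroup.commutator_eq_bot_iff_le_centralizer]
    intro c hc
    rw [Subgroup.mem_centralizer_iff]
    intro b' hb'
    have hb'X : b' ∈ A ⊔ conjBy A b⁻¹ := by rw [hpair.2]; exact Subgroup.mem_sup_right hb'
    exact (comm_sup_of_comm (z := c) (fun a ha => h.hCA c hc a ha)
      (fun x hx => (key b hb x hx c hc).symm) b' hb'X).symm
  · exfalso
    obtain ⟨c, hc, hc1⟩ := exists_nonid_of_mem h.hS h.hC
    obtain ⟨k, hk, hk1⟩ := exists_nonid_of_mem h.hS h.hK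
    refine central_mul_not_rootElement h.hS h.hA (RankOnePair_symm hr) (z := c) ?_ hc1 hk hk1
      (mul_mem_rootElements h.hS h.hC h.hCB hc hc1 hk)
    exact comm_sup_of_comm (fun k' hk' => comm_left h.hCB hc hk') (fun a ha => h.hCA c hc a ha)
  · exact hc

/-- the key relation `c ψ(ψ(c, b), a⁻¹) = 1` for partners `a`, `b` -/
theorem key_rel {a b : G} (ha : a ∈ A) (ha1 : a ≠ 1) (hb : b ∈ B)
    (e : conjBy A b⁻¹ = conjBy B a⁻¹) {c : G} (hc : c ∈ C) :
    c * psi (psi c b) a⁻¹ = 1 := by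
  have hAK := h.hAK
  set k := psi c b with hk
  have hkK : k ∈ ⁅C, B⁆ := psi_mem hc hb
  set l := psi k a⁻¹ with hl
  have hlL : l ∈ ⁅A, ⁅C, B⁆⁆ := by
    have := psi_mem (A := ⁅C, B⁆) (B := A) hkK (A.inv_mem ha)
    rwa [Subgroup.commutator_comm] at this
  have hck : c * k = k * c := comm_left h.hCB hc hkK
  have hkl : k * l = l * k := comm_right hAK hkK hlL
  -- c commutes with l
  have hcl : c * l = l * c :=
    commutator_comm_of_comm (fun a' ha' => h.hCA c hc a' ha')
      (fun k' hk' => comm_left h.hCB hc hk') l hlL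
  -- x = b⁻¹ c b = c k commutes with a⁻¹ b' a
  have hx : b⁻¹ * c * b ∈ conjBy C b⁻¹ := mem_conjBy_inv hc
  have hcomm1 : ∀ b' ∈ B, (c * k * l) * b' = b' * (c * k * l) := by
    intro b' hb'
    have hy : a⁻¹ * b' * a ∈ conjBy A b⁻¹ := by rw [e]; exact mem_conjBy_inv hb'
    obtain ⟨a', ha', ey⟩ := exists_of_mem_conjBy_inv hy
    have h1 : (b⁻¹ * c * b) * (a⁻¹ * b' * a) = (a⁻¹ * b' * a) * (b⁻¹ * c * b) := by
      rw [ey]
      have e1 : b⁻¹ * c * b * (b⁻¹ * a' * b) = b⁻¹ * (c * a') * b := by group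
      have e2 : b⁻¹ * a' * b * (b⁻¹ * c * b) = b⁻¹ * (a' * c) * b := by group
      rw [e1, e2, h.hCA c hc a' ha']
    have e3 : a * (b⁻¹ * c * b) * a⁻¹ = c * k * l := by
      rw [conj_eq_mul_psi, ← hk]
      have e4 : a * (c * k) * a⁻¹ = (a * c * a⁻¹) * (a * k * a⁻¹) := by group
      rw [e4, conj_eq_of_comm' (h.hCA c hc a ha).symm, conj_eq_mul_psi', ← hl, mul_assoc]
    have e5 : (c * k * l) * b' = a * ((b⁻¹ * c * b) * (a⁻¹ * b' * a)) * a⁻¹ := by
      rw [← e3]; group
    have e6 : b' * (c * k * l) = a * ((a⁻¹ * b' * a) * (b⁻¹ * c * b)) * a⁻¹ := by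
      rw [← e3]; group
    rw [e5, e6, h1]
  -- z = c * l commutes with B
  have hzB : ∀ b' ∈ B, (c * l) * b' = b' * (c * l) := by
    intro b' hb'
    have hkb : k * b' = b' * k := (comm_right h.hCB hb' hkK).symm
    have e1 : c * k * l = k * (c * l) := by rw [hck, mul_assoc]
    have h2 := hcomm1 b' hb'
    rw [e1] at h2
    have h3 : k * (c * l * b') = k * (b' * (c * l)) := by
      rw [← mul_assoc, h2, ← mul_assoc, ← hkb, mul_assoc]
    exact mul_left_cancel h3
  have hzA : ∀ a' ∈ A, (c * l) * a' = a' * (c * l) := by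
    intro a' ha'
    have h1 := h.hCA c hc a' ha'
    have h2 : l * a' = a' * l := (comm_left hAK ha' hlL).symm
    rw [mul_assoc, h2, ← mul_assoc, h1, mul_assoc]
  by_contra hz1
  -- z * a is a root element
  obtain ⟨k', hk', ek⟩ := exists_conj_eq hAK ha ha1 hlL
  have hroot : c * l * a ∈ rootElements S := by
    have e1 : c * l * a = k'⁻¹ * (c * a) * k' := by
      have hck' : c * k' = k' * c := comm_left h.hCB hc hk'
      have : l * a = a * l := (comm_left hAK ha hlL).symm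
      rw [mul_assoc, this, ek]
      have e2 : c * (k'⁻¹ * a * k') = (c * k'⁻¹) * a * k' := by group
      rw [e2, comm_inv_right hck']; group
    by_cases hc1 : c = 1
    · subst hc1
      refine ⟨?_, conjBy A k'⁻¹, h.hS.conj_mem A h.hA _, ?_⟩
      · rw [e1, one_mul]
        intro e2
        apply ha1
        have := congrArg (fun t => k' * t * k'⁻¹) e2
        simpa [mul_assoc] using this
      · rw [e1, one_mul]; exact mem_conjBy_inv ha
    · obtain ⟨hne1, D, hD, hmem⟩ := h.hprod c hc hc1 a ha ha1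
      refine ⟨?_, conjBy D k'⁻¹, h.hS.conj_mem D hD _, ?_⟩
      · rw [e1]
        intro e2
        apply hne1
        have := congrArg (fun t => k' * t * k'⁻¹) e2
        simpa [mul_assoc] using this
      · rw [e1]; exact mem_conjBy_inv hmem
  refine central_mul_not_rootElement h.hS h.hB h.hAB (z := c * l) ?_ hz1 ha ha1 hroot
  exact comm_sup_of_comm hzA hzB

end NatCfg

end Cfsg.Agent.Helper8.RootNat
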