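import Mathlib
import Cfsg.Agent.Helper8.RootNatB

set_option autoImplicit false

/-! Abstract root subgroups: the natural module `C ⁅C, B⁆` forces `⟨A, B⟩` to be special
(helper8). -/

namespace Cfsg.Agent.Helper8.RootNat

open Cfsg Cfsg.Agent.Helper7.R1 Cfsg.Agent.Helper7.Root Cfsg.Agent.Helper8.RootComm
  Cfsg.Agent.Helper8.RootChain Cfsg.Agent.Helper8.RankOneExtra Cfsg.Agent.Helper8.RootOpp

variable {G : Type*} [Group G] {S : Set (Subgroup G)} {A B C : Subgroup G}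

namespace NatCfg

variable (h : NatCfg S A B C)
include h

/-- `⁅A, ⁅C, B⁆⁆ = C` -/
theorem comm_eq : ⁅A, ⁅C, B⁆⁆ = C := by
  obtain ⟨P, hP, hCP⟩ := h.hP
  obtain ⟨c, hc, hc1⟩ := exists_nonid_of_mem h.hS h.hC
  obtain ⟨a, ha, ha1⟩ := exists_nonid h.hAB
  obtain ⟨b, hb, hb1, e⟩ := h.hAB.cond_left a ha ha1
  have hrel := h.key_rel ha ha1 hb e hc
  have hl : psi (psi c b) a⁻¹ ∈ ⁅A, ⁅C, B⁆⁆ := by
    have := psi_mem (A := ⁅C, B⁆) (B := A) (psi_mem hc hb) (A.inv_mem ha)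
    rwa [Subgroup.commutator_comm] at this
  have hl' : psi (psi c b) a⁻¹ = c⁻¹ := (eq_inv_of_mul_eq_one_right hrel)
  by_contra hne
  have hbot := inf_eq_bot_of_partner h.hS hP hCP h.hAK.1 (Ne.symm hne)
  have h2 : c⁻¹ ∈ C ⊓ ⁅A, ⁅C, B⁆⁆ := ⟨C.inv_mem hc, by rw [← hl']; exact hl⟩
  rw [hbot, Subgroup.mem_bot] at h2
  exact hc1 (inv_eq_one.mp h2)

theorem opp : Opp S C B A := ⟨h.hS, h.hC, h.hB, h.hA, h.hCB, h.comm_eq⟩

/-- `α (β c) = c` where `β c = ψ(c, b)`, `α k = ψ(k, a)`, for partners `a`, `b` -/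
theorem alpha_beta {a b : G} (ha : a ∈ A) (ha1 : a ≠ 1) (hb : b ∈ B)
    (e : conjBy A b⁻¹ = conjBy B a⁻¹) {c : G} (hc : c ∈ C) : psi (psi c b) a = c := by
  have hrel := h.key_rel ha ha1 hb e hc
  have hKA : RootCommutatorCase S ⁅C, B⁆ A := RootComm.symm h.hAK
  rw [psi_inv_right hKA (psi_mem hc hb) ha] at hrel
  have := eq_inv_of_mul_eq_one_right hrel
  exact inv_injective this

theorem beta_alpha {a b : G} (ha : a ∈ A) (ha1 : a ≠ 1) (hb : b ∈ B) (hb1 : b ≠ 1)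
    (e : conjBy A b⁻¹ = conjBy B a⁻¹) {k : G} (hk : k ∈ ⁅C, B⁆) : psi (psi k a) b = k := by
  obtain ⟨c, hc, rfl⟩ := psi_surj_left h.hCB hb hb1 hk
  rw [h.alpha_beta ha ha1 hb e hc]

end NatCfg

end Cfsg.Agent.Helper8.RootNat
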