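import Mathlib
import Cfsg.Agent.Helper8.RootNatC

set_option autoImplicit false

/-! Abstract root subgroups: the natural module `C ⁅C, B⁆` forces `⟨A, B⟩` to be special
(helper8). -/

namespace Cfsg.Agent.Helper8.RootNat

open Cfsg Cfsg.Agent.Helper7.R1 Cfsg.Agent.Helper7.Root Cfsg.Agent.Helper8.RootComm
  Cfsg.Agent.Helper8.RootChain Cfsg.Agent.Helper8.RankOneExtra Cfsg.Agent.Helper8.RootOpp

variable {G : Type*} [Group G] {S : Set (Subgroup G)} {A B C : Subgroup G}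

namespace NatCfg

variable (h : NatCfg S A B C)
include h

theorem alpha_mem {a k : G} (ha : a ∈ A) (hk : k ∈ ⁅C, B⁆) : psi k a ∈ C := by
  have := psi_mem (A := ⁅C, B⁆) (B := A) hk ha
  rwa [Subgroup.commutator_comm, h.comm_eq] at this

theorem special_aux {a b : G} (ha : a ∈ A) (ha1 : a ≠ 1) (hb : b ∈ B) (hb1 : b ≠ 1)
    (e : conjBy A b⁻¹ = conjBy B a⁻¹) : b⁻¹ * a * b = a⁻¹ * b⁻¹ * a := by
  have hKA : RootCommutatorCase S ⁅C, B⁆ A := RootComm.symm h.hAK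
  have hCB := h.hCB
  -- basic conjugation formulas
  have cb : ∀ c ∈ C, b * c * b⁻¹ = c * (psi c b)⁻¹ := by
    intro c hc
    rw [conj_eq_mul_psi', psi_inv_right hCB hc hb]
  have kb : ∀ k ∈ ⁅C, B⁆, b * k * b⁻¹ = k := fun k hk =>
    conj_eq_of_comm' (comm_right hCB hb hk)
  have kb' : ∀ k ∈ ⁅C, B⁆, b⁻¹ * k * b = k := fun k hk =>
    conj_eq_of_comm (comm_right hCB hb hk)
  have ka : ∀ k ∈ ⁅C, B⁆, a⁻¹ * k * a = k * psi k a := fun k _ => conj_eq_mul_psi k a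
  have kai : ∀ k ∈ ⁅C, B⁆, a * k * a⁻¹ = k * (psi k a)⁻¹ := by
    intro k hk
    rw [conj_eq_mul_psi', psi_inv_right hKA hk ha]
  have ca : ∀ c ∈ C, a⁻¹ * c * a = c := fun c hc => conj_eq_of_comm (h.hCA c hc a ha).symm
  have ca' : ∀ c ∈ C, a * c * a⁻¹ = c := fun c hc => conj_eq_of_comm' (h.hCA c hc a ha).symm
  have hck : ∀ c ∈ C, ∀ k ∈ ⁅C, B⁆, c * k = k * c := fun c hc k hk => comm_left hCB hc hk
  have ab := fun c hc => h.alpha_beta ha ha1 hb e (c := c) hc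
  have ba := fun k hk => h.beta_alpha ha ha1 hb hb1 e (k := k) hk
  -- a⁻¹ (c (βc)⁻¹) a = (βc)⁻¹
  have step : ∀ c ∈ C, a⁻¹ * (c * (psi c b)⁻¹) * a = (psi c b)⁻¹ := by
    intro c hc
    have hk : psi c b ∈ ⁅C, B⁆ := psi_mem hc hb
    have hki : (psi c b)⁻¹ ∈ ⁅C, B⁆ := Subgroup.inv_mem _ hk
    have e1 : a⁻¹ * (c * (psi c b)⁻¹) * a = (a⁻¹ * c * a) * (a⁻¹ * (psi c b)⁻¹ * a) := by group
    rw [e1, ca c hc, ka _ hki, psi_inv_left hKA hk ha, ab c hc]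
    have := hck c hc _ hki
    rw [← mul_assoc, this, mul_assoc, mul_inv_cancel, mul_one]
  -- conjugation of c
  have c1 : ∀ c ∈ C, (b⁻¹ * a * b)⁻¹ * c * (b⁻¹ * a * b) = (psi c b)⁻¹ := by
    intro c hc
    have hki : (psi c b)⁻¹ ∈ ⁅C, B⁆ := Subgroup.inv_mem _ (psi_mem hc hb)
    have e1 : (b⁻¹ * a * b)⁻¹ * c * (b⁻¹ * a * b) = b⁻¹ * (a⁻¹ * (b * c * b⁻¹) * a) * b := by group
    rw [e1, cb c hc, step c hc, kb' _ hki]
  have c2 : ∀ c ∈ C, (a⁻¹ * b⁻¹ * a)⁻¹ * c * (a⁻¹ * b⁻¹ * a) = (psi c b)⁻¹ := by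
    intro c hc
    have e1 : (a⁻¹ * b⁻¹ * a)⁻¹ * c * (a⁻¹ * b⁻¹ * a) =
        a⁻¹ * (b * (a * c * a⁻¹) * b⁻¹) * a := by group
    rw [e1, ca' c hc, cb c hc, step c hc]
  -- conjugation of k
  have k1 : ∀ k ∈ ⁅C, B⁆, (b⁻¹ * a * b)⁻¹ * k * (b⁻¹ * a * b) = k * (psi k a * k) := by
    intro k hk
    have hαk : psi k a ∈ C := h.alpha_mem ha hk
    have e1 : (b⁻¹ * a * b)⁻¹ * k * (b⁻¹ * a * b) = b⁻¹ * (a⁻¹ * (b * k * b⁻¹) * a) * b := by group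
    rw [e1, kb k hk, ka k hk]
    have e2 : b⁻¹ * (k * psi k a) * b = (b⁻¹ * k * b) * (b⁻¹ * psi k a * b) := by group
    rw [e2, kb' k hk, conj_eq_mul_psi, ba k hk]
  have k2 : ∀ k ∈ ⁅C, B⁆, (a⁻¹ * b⁻¹ * a)⁻¹ * k * (a⁻¹ * b⁻¹ * a) = k * (psi k a * k) := by
    intro k hk
    have hαk : psi k a ∈ C := h.alpha_mem ha hk
    have hαki : (psi k a)⁻¹ ∈ C := C.inv_mem hαk
    have e1 : (a⁻¹ * b⁻¹ * a)⁻¹ * k * (a⁻¹ * b⁻¹ * a) =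
        a⁻¹ * (b * (a * k * a⁻¹) * b⁻¹) * a := by group
    rw [e1, kai k hk]
    have e2 : b * (k * (psi k a)⁻¹) * b⁻¹ = (b * k * b⁻¹) * (b * (psi k a)⁻¹ * b⁻¹) := by group
    rw [e2, kb k hk, cb _ hαki, psi_inv_left hCB hαk hb, inv_inv, ba k hk]
    have e3 : a⁻¹ * (k * ((psi k a)⁻¹ * k)) * a =
        (a⁻¹ * k * a) * (a⁻¹ * (psi k a)⁻¹ * a) * (a⁻¹ * k * a) := by group
    rw [e3, ka k hk, ca _ hαki]
    have hc' := hck _ hαk k hk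
    have e4 : k * psi k a * (psi k a)⁻¹ * (k * psi k a) = k * (k * psi k a) := by group
    rw [e4, hc']
  -- w := u₂ u₁⁻¹ centralises C K
  set u₁ := b⁻¹ * a * b with hu₁
  set u₂ := a⁻¹ * b⁻¹ * a with hu₂
  have hwC : ∀ c ∈ C, (u₂ * u₁⁻¹) * c = c * (u₂ * u₁⁻¹) := by
    intro c hc
    have h1 := c1 c hc
    have h2 := c2 c hc
    have e1 : u₁⁻¹ * c * u₁ = u₂⁻¹ * c * u₂ := by rw [h1, h2]
    have : c = u₁ * (u₂⁻¹ * c * u₂) * u₁⁻¹ := by rw [← e1]; group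
    have e2 : u₂ * u₁⁻¹ * c = u₂ * u₁⁻¹ * (u₁ * (u₂⁻¹ * c * u₂) * u₁⁻¹) := by rw [← this]
    rw [e2]; group
  have hwK : ∀ k ∈ ⁅C, B⁆, (u₂ * u₁⁻¹) * k = k * (u₂ * u₁⁻¹) := by
    intro k hk
    have h1 := k1 k hk
    have h2 := k2 k hk
    have e1 : u₁⁻¹ * k * u₁ = u₂⁻¹ * k * u₂ := by rw [h1, h2]
    have : k = u₁ * (u₂⁻¹ * k * u₂) * u₁⁻¹ := by rw [← e1]; group
    have e2 : u₂ * u₁⁻¹ * k = u₂ * u₁⁻¹ * (u₁ * (u₂⁻¹ * k * u₂) * u₁⁻¹) := by rw [← this]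
    rw [e2]; group
  have hwX : u₂ * u₁⁻¹ ∈ B ⊔ A := by
    rw [hu₁, hu₂]
    have hA' : a ∈ B ⊔ A := Subgroup.mem_sup_right ha
    have hB' : b ∈ B ⊔ A := Subgroup.mem_sup_left hb
    exact mul_mem (mul_mem (mul_mem (inv_mem hA') (inv_mem hB')) hA')
      (inv_mem (mul_mem (mul_mem (inv_mem hB') hA') hB'))
  have hcentral := fun y hy => h.opp.central_of_centralizes hwX
    (comm_sup_of_comm hwC hwK) (y := y) hy
  -- w ∈ conjBy A b⁻¹, central, hence trivial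
  have hu₁U : u₁ ∈ conjBy A b⁻¹ := mem_conjBy_inv ha
  have hu₂U : u₂ ∈ conjBy A b⁻¹ := by
    rw [e]; exact mem_conjBy_inv (B.inv_mem hb)
  have hwU : u₂ * u₁⁻¹ ∈ conjBy A b⁻¹ := mul_mem hu₂U (inv_mem hu₁U)
  rw [mem_conjBy, inv_inv] at hwU
  have hwb : (u₂ * u₁⁻¹) * b = b * (u₂ * u₁⁻¹) := hcentral b (Subgroup.mem_sup_left hb)
  rw [conj_eq_of_comm' hwb.symm] at hwU
  have hfix : conjBy B (u₂ * u₁⁻¹) = B :=
    conjBy_of_comm (fun b' hb' => hcentral b' (Subgroup.mem_sup_left hb'))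
  have hw1 := eq_one_of_conjBy_right h.hAB hwU hfix
  have := mul_inv_eq_one.mp hw1
  exact this.symm

theorem special : IsSpecialRankOnePair A B := by
  refine ⟨h.hAB, ?_⟩
  intro a ha ha1 b hb hb1 e
  exact h.special_aux ha ha1 hb hb1 e

end NatCfg

end Cfsg.Agent.Helper8.RootNat
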