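import Mathlib
import Cfsg.Agent.Helper8.RootNatD

set_option autoImplicit false

/-! Non-degenerate classes of abstract root subgroups: every rank one pair is special, witnessed by
a natural module (helper8). -/

namespace Cfsg.Agent.Helper8.RootNat

open Cfsg Cfsg.Agent.Helper7.R1 Cfsg.Agent.Helper7.Root Cfsg.Agent.Helper8.RootComm
  Cfsg.Agent.Helper8.RootChain Cfsg.Agent.Helper8.RankOneExtra Cfsg.Agent.Helper8.RootOpp
  Cfsg.Agent.Helper8.RootLine

variable {G : Type*} [Group G] {S : Set (Subgroup G)} {A B C E : Subgroup G}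

theorem all_partners (hS : IsRootSubgroupClass S) (hA : A ∈ S) (hB : B ∈ S)
    (hAB : IsRankOnePair A B) : ∀ X ∈ S, ∃ Y ∈ S, IsRankOnePair X Y := by
  intro X hX
  obtain ⟨g, rfl⟩ := hS.2.2 A hA X hX
  exact ⟨conjBy B g, hS.1.conj_mem B hB g, isRankOnePair_conj hAB g⟩

/-- in a class containing a commutator pair, every member has a commutator partner -/
theorem exists_commCase (hS : IsRootSubgroupClass S)
    (hnd : ∃ A ∈ S, ∃ B ∈ S, RootCommutatorCase S A B) (hA : A ∈ S) :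
    ∃ E ∈ S, RootCommutatorCase S A E := by
  obtain ⟨A₁, hA₁, E₁, hE₁, hc⟩ := hnd
  obtain ⟨g, rfl⟩ := hS.2.2 A₁ hA₁ A hA
  refine ⟨conjBy E₁ g, hS.1.conj_mem E₁ hE₁ g, ?_⟩
  apply commCase_of_mem hS.1 hA (hS.1.conj_mem E₁ hE₁ g)
  have h1 : conjBy ⁅A₁, E₁⁆ g = ⁅conjBy A₁ g, conjBy E₁ g⁆ := Subgroup.map_commutator A₁ E₁ _
  rw [← h1]
  exact hS.1.conj_mem _ hc.1 g

theorem sup_conj_eq (hAE : RootCommutatorCase S A E) {e : G} (he : e ∈ E) (he1 : e ≠ 1) :
    A ⊔ conjBy A e = A ⊔ ⁅A, E⁆ := by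
  apply le_antisymm
  · exact sup_le le_sup_left (conjBy_le_sup he)
  · refine sup_le le_sup_left ?_
    intro f hf
    have he1' : e⁻¹ ≠ 1 := by simpa using he1
    obtain ⟨a, ha, rfl⟩ := psi_surj_left hAE (E.inv_mem he) he1' hf
    have e1 : psi a e⁻¹ = a⁻¹ * (e * a * e⁻¹) := by unfold psi; group
    rw [e1]
    refine mul_mem (Subgroup.mem_sup_left (A.inv_mem ha)) (Subgroup.mem_sup_right ?_)
    rw [mem_conjBy]
    have e2 : e⁻¹ * (e * a * e⁻¹) * e = a := by group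
    rwa [e2]

/-- the configuration of a natural module exists for every rank one pair of a class containing a
commutator pair -/
theorem exists_natCfg (hS : IsRootSubgroupClass S)
    (hnd : ∃ A ∈ S, ∃ B ∈ S, RootCommutatorCase S A B) (hA : A ∈ S) (hB : B ∈ S)
    (hAB : IsRankOnePair A B) :
    ∃ C, C ∈ linePartners S A ∧ NatCfg S A B C := by
  have hall := all_partners hS hA hB hAB
  obtain ⟨E, hE, hAE⟩ := exists_commCase hS hnd hA
  have hF : ⁅A, E⁆ ∈ S := hAE.1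
  have hAc := hS.1.commutative A hA
  have hFc := hS.1.commutative _ hF
  have hiso : ¬ IsIsolatedIn (FAdj S) S A := not_isolated_of_pair hA hB hAB
  obtain ⟨hmem, hpart, -, -⟩ := Cfsg.Agent.S5029.result hS.1 hiso hA hE hF
  have hNc : ∀ x ∈ A ⊔ ⁅A, E⁆, ∀ y ∈ A ⊔ ⁅A, E⁆, x * y = y * x := by
    intro x hx y hy
    have h1 : ∀ a ∈ A, ∀ y ∈ A ⊔ ⁅A, E⁆, a * y = y * a := fun a ha =>
      comm_sup_of_comm (fun a' ha' => comm_of_isMulCommutative hAc ha ha')
        (fun f hf => comm_left hAE ha hf)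
    have h2 : ∀ f ∈ ⁅A, E⁆, ∀ y ∈ A ⊔ ⁅A, E⁆, f * y = y * f := fun f hf =>
      comm_sup_of_comm (fun a' ha' => (comm_left hAE ha' hf).symm)
        (fun f' hf' => comm_of_isMulCommutative hFc hf hf')
    exact (comm_sup_of_comm (z := y) (fun a ha => (h1 a ha y hy).symm)
      (fun f hf => (h2 f hf y hy).symm) x hx).symm
  obtain ⟨C, hC, hCA, hBC⟩ := exists_commCase_on_line hS.1 hA hB hAB hF
    (Ne.symm (left_ne_commutator hS.1 hAE)) le_sup_left le_sup_right hNc hpart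
  have hsup : A ⊔ C = A ⊔ ⁅A, E⁆ := by
    have hC' := hC
    rw [hmem] at hC'
    rcases hC' with ⟨e, he, rfl⟩ | rfl
    · have he1 : e ≠ 1 := by
        rintro rfl
        exact hCA (conjBy_one A)
      exact sup_conj_eq hAE he he1
    · rfl
  have hCAcomm : ∀ c ∈ C, ∀ a ∈ A, c * a = a * c := fun c hc a ha =>
    hNc c (hC.2 hc) a (Subgroup.mem_sup_left ha)
  have hbot : A ⊓ C = ⊥ := inf_eq_bot_of_partner hS.1 hB hAB hC.1 (Ne.symm hCA)
  refine ⟨C, ⟨⟨hC.1, hCA, ?_⟩, ?_⟩, ?_⟩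
  · rw [Subgroup.commutator_eq_bot_iff_le_centralizer]
    intro a ha
    rw [Subgroup.mem_centralizer_iff]
    intro c hc
    exact hCAcomm c hc a ha
  · rw [hsup]; exact hpart
  · refine ⟨hS.1, hA, hB, hC.1, hAB, RootComm.symm hBC, hCAcomm, ?_, hall C hC.1⟩
    intro c hc hc1 a ha ha1
    have hmemN : c * a ∈ A ⊔ ⁅A, E⁆ := mul_mem (hC.2 hc) (Subgroup.mem_sup_left ha)
    have hne : c * a ≠ 1 := by
      intro e
      have : a = c⁻¹ := eq_inv_of_mul_eq_one_right e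
      have h2 : a ∈ A ⊓ C := ⟨ha, by rw [this]; exact C.inv_mem hc⟩
      rw [hbot, Subgroup.mem_bot] at h2
      exact ha1 h2
    obtain ⟨D, hD, hcaD⟩ := hpart.2.1 _ hmemN hne
    exact ⟨hne, D, hD.1, hcaD⟩

end Cfsg.Agent.Helper8.RootNat
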