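import Mathlib
import Cfsg.Agent.Helper8.RootNatE

set_option autoImplicit false

/-! Abstract root subgroups: lines. For each point `C` of a line `N` there is a point `C'` and a member
`K` of `S` normalising `N`, fixing `C'` and transitive on the other points (helper8). -/

namespace Cfsg.Agent.Helper8.RootNat

open Cfsg Cfsg.Agent.Helper7.R1 Cfsg.Agent.Helper7.Root Cfsg.Agent.Helper8.RootComm
  Cfsg.Agent.Helper8.RootChain Cfsg.Agent.Helper8.RankOneExtra Cfsg.Agent.Helper8.RootOpp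
  Cfsg.Agent.Helper8.RootLine

variable {G : Type*} [Group G] {S : Set (Subgroup G)} {A B C F N : Subgroup G}

/-- on a partitioned abelian subgroup `N ≥ A`, some member `C ≠ A` inside `N` is in the commutator
case with `B` -/
theorem exists_commCase_on_line' (hS : IsRootSubgroupSet S) (hA : A ∈ S) (hB : B ∈ S)
    (hAB : IsRankOnePair A B) (hF : F ∈ S) (hFA : F ≠ A) (hAN : A ≤ N) (hFN : F ≤ N)
    (hNc : ∀ x ∈ N, ∀ y ∈ N, x * y = y * x)
    (hpart : IsSubgroupPartition N (membersIn S N)) :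
    ∃ C ∈ membersIn S N, C ≠ A ∧ RootCommutatorCase S B C ∧ F ⊓ (A ⊔ C) ≠ ⊥ := by
  -- products c a are root elements for members C ≤ N
  have hprod : ∀ x ∈ N, x ≠ 1 → x ∈ rootElements S := by
    intro x hx hx1
    obtain ⟨C, hC, hxC⟩ := hpart.2.1 x hx hx1
    exact ⟨hx1, C, hC.1, hxC⟩
  have hTI : ∀ C ∈ S, A ≠ C → A ⊓ C = ⊥ := fun C hC hne =>
    inf_eq_bot_of_partner hS hB hAB hC hne
  have hcase : ∀ C ∈ membersIn S N, C ≠ A → IsRankOnePair B C ∨ RootCommutatorCase S B C := by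
    rintro C ⟨hC, hCN⟩ hCA
    rcases hS.pair B hB C hC with h0 | hr | hc
    · exfalso
      refine not_comm_of_products hS hB hAB hC (fun c hc a ha => hNc c (hCN hc) a (hAN ha)) ?_ h0
      intro c hc hc1 a ha ha1
      apply hprod _ (mul_mem (hCN hc) (hAN ha))
      intro e
      have : a = c⁻¹ := eq_inv_of_mul_eq_one_right e
      have h2 : a ∈ A ⊓ C := ⟨ha, by rw [this]; exact C.inv_mem hc⟩
      rw [hTI C hC (Ne.symm hCA), Subgroup.mem_bot] at h2
      exact ha1 h2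
    · exact Or.inl hr
    · exact Or.inr hc
  rcases hcase F ⟨hF, hFN⟩ hFA with hr | hc
  swap
  · refine ⟨F, ⟨hF, hFN⟩, hFA, hc, ?_⟩
    rw [inf_of_le_left le_sup_right]
    exact hS.ne_bot F hF
  -- (B, F) rank one
  obtain ⟨f, hf, hf1⟩ := exists_nonid (RankOnePair_symm hr)
  obtain ⟨b, hb, hb1, e1⟩ := (RankOnePair_symm hr).cond_left f hf hf1
  -- e1 : conjBy F b⁻¹ = conjBy B f⁻¹
  obtain ⟨a, ha, ha1, e2⟩ := hAB.cond_right b hb hb1
  -- e2 : conjBy B a⁻¹ = conjBy A b⁻¹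
  -- n := a * f⁻¹
  have hn : a * f⁻¹ ∈ N := mul_mem (hAN ha) (inv_mem (hFN hf))
  have hn1 : a * f⁻¹ ≠ 1 := by
    intro e
    have : a = f := by
      have := congrArg (fun t => t * f) e
      simpa using this
    have h2 : a ∈ A ⊓ F := ⟨ha, by rw [this]; exact hf⟩
    rw [hTI F hF (Ne.symm hFA), Subgroup.mem_bot] at h2
    exact ha1 h2
  obtain ⟨C, hC, hnC⟩ := hpart.2.1 _ hn hn1
  have hCA : C ≠ A := by
    rintro rfl
    have : f ∈ C := by
      have := C.mul_mem (C.inv_mem hnC) ha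
      have e : (a * f⁻¹)⁻¹ * a = f := by group
      rwa [e] at this
    have h2 : f ∈ C ⊓ F := ⟨this, hf⟩
    rw [hTI F hF (Ne.symm hFA), Subgroup.mem_bot] at h2
    exact hf1 h2
  have hinf : F ⊓ (A ⊔ C) ≠ ⊥ := by
    intro e
    have h2 : f ∈ F ⊓ (A ⊔ C) := by
      refine ⟨hf, ?_⟩
      have e' : f = (a * f⁻¹)⁻¹ * a := by group
      rw [e']
      exact Subgroup.mul_mem _ (Subgroup.inv_mem _ (Subgroup.mem_sup_right hnC)) (Subgroup.mem_sup_left ha)
    rw [e, Subgroup.mem_bot] at h2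
    exact hf1 h2
  refine ⟨C, hC, hCA, ?_, hinf⟩
  rcases hcase C hC hCA with hrC | hc
  swap
  · exact hc
  exfalso
  -- conjBy B f⁻¹ and conjBy B a⁻¹ commute elementwise
  have hcomm : ∀ x ∈ conjBy B f⁻¹, ∀ y ∈ conjBy B a⁻¹, x * y = y * x := by
    intro x hx y hy
    rw [← e1] at hx
    rw [e2] at hy
    rw [mem_conjBy, inv_inv] at hx hy
    have := hNc _ (hFN hx) _ (hAN hy)
    have e3 : x * y = b⁻¹ * ((b * x * b⁻¹) * (b * y * b⁻¹)) * b := by group
    have e4 : y * x = b⁻¹ * ((b * y * b⁻¹) * (b * x * b⁻¹)) * b := by group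
    rw [e3, e4, this]
  -- hence B and conjBy B (f * a⁻¹) commute
  have hmC : f * a⁻¹ ∈ C := by
    have := C.inv_mem hnC
    have e : (a * f⁻¹)⁻¹ = f * a⁻¹ := by group
    rwa [e] at this
  have hm1 : f * a⁻¹ ≠ 1 := by
    intro e
    apply hn1
    have : (a * f⁻¹)⁻¹ = 1 := by
      have e' : (a * f⁻¹)⁻¹ = f * a⁻¹ := by group
      rw [e', e]
    exact inv_eq_one.mp this
  have hcomm2 : ∀ x ∈ B, ∀ y ∈ conjBy B (f * a⁻¹), x * y = y * x := by
    intro x hx y hy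
    rw [mem_conjBy] at hy
    set y₀ := (f * a⁻¹)⁻¹ * y * (f * a⁻¹) with hy₀
    have hx' : f⁻¹ * x * f ∈ conjBy B f⁻¹ := by
      rw [mem_conjBy, inv_inv]
      have e : f * (f⁻¹ * x * f) * f⁻¹ = x := by group
      rwa [e]
    have hy' : a⁻¹ * y₀ * a ∈ conjBy B a⁻¹ := by
      rw [mem_conjBy, inv_inv]
      have e : a * (a⁻¹ * y₀ * a) * a⁻¹ = y₀ := by group
      rwa [e]
    have := hcomm _ hx' _ hy'
    have ey : y = f * (a⁻¹ * y₀ * a) * f⁻¹ := by rw [hy₀]; group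
    have e3 : x * (f * (a⁻¹ * y₀ * a) * f⁻¹) = f * ((f⁻¹ * x * f) * (a⁻¹ * y₀ * a)) * f⁻¹ := by
      group
    have e4 : f * (a⁻¹ * y₀ * a) * f⁻¹ * x = f * ((a⁻¹ * y₀ * a) * (f⁻¹ * x * f)) * f⁻¹ := by
      group
    rw [ey, e3, e4, this]
  have hCB : IsRankOnePair C B := RankOnePair_symm hrC
  have hne : B ≠ conjBy B (f * a⁻¹) := fun e =>
    hm1 (eq_one_of_conjBy_right hCB hmC e.symm)
  have hpair := (pair_of_unipotent hCB (right_mem_unipotent hCB)
    (conjBy_mem_unipotent (right_mem_unipotent hCB) (Subgroup.mem_sup_left hmC)) hne).1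
  obtain ⟨x, hx, hx1⟩ := exists_nonid hpair
  obtain ⟨y, hy, hy1⟩ := exists_nonid (RankOnePair_symm hpair)
  exact not_commute hpair hx hx1 hy hy1 (hcomm2 x hx y hy)

end Cfsg.Agent.Helper8.RootNat
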