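import Mathlib
import Cfsg.Agent.Helper8.RootNatF

set_option autoImplicit false

/-! Abstract root subgroups: lines. For each point `C` of a line `N` there is a point `C'` and a member
`K` of `S` normalising `N`, fixing `C'` and transitive on the other points (helper8). -/

namespace Cfsg.Agent.Helper8.RootNat

open Cfsg Cfsg.Agent.Helper7.R1 Cfsg.Agent.Helper7.Root Cfsg.Agent.Helper8.RootComm
  Cfsg.Agent.Helper8.RootChain Cfsg.Agent.Helper8.RankOneExtra Cfsg.Agent.Helper8.RootOpp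
  Cfsg.Agent.Helper8.RootLine

variable {G : Type*} [Group G] {S : Set (Subgroup G)} {C F : Subgroup G}

theorem exists_ne_one_of_ne_bot {H : Subgroup G} (h : H ≠ ⊥) : ∃ x ∈ H, x ≠ 1 := by
  by_contra hcon
  push Not at hcon
  apply h
  rw [eq_bot_iff]
  intro x hx
  rw [Subgroup.mem_bot]
  exact hcon x hx

theorem line_comm (hS : IsRootSubgroupSet S) (hC : C ∈ S) (hFl : F ∈ linePartners S C) :
    ∀ x ∈ C ⊔ F, ∀ y ∈ C ⊔ F, x * y = y * x := by
  obtain ⟨⟨hFS, hFC, hcomm⟩, hpart⟩ := hFl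
  have := isMulCommutative_sup (P := C) (Q := F)
    (fun x hx y hy => comm_of_isMulCommutative (hS.commutative C hC) hx hy)
    (fun x hx y hy => comm_of_isMulCommutative (hS.commutative F hFS) hx hy)
    (fun p hp q hq => comm_of_commutator_eq_bot hcomm hp hq)
  intro x hx y hy
  exact comm_of_isMulCommutative this hx hy

/-- For a point `C` of the line `C F` there are a point `C'` and a member `K` of `S` normalising the
line, centralising `C'`, such that every other point is a `K`-conjugate of `C`. -/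
theorem line_point_stabilizer (hS : IsRootSubgroupSet S)
    (hF : ∀ A ∈ S, ¬ IsIsolatedIn (FAdj S) S A) (hC : C ∈ S) (hFl : F ∈ linePartners S C) :
    ∃ C' ∈ membersIn S (C ⊔ F), C' ≠ C ∧ C ⊔ C' = C ⊔ F ∧ ∃ K ∈ S,
      K ≤ Subgroup.normalizer ((C ⊔ F : Subgroup G) : Set G) ∧
      (∀ k ∈ K, ∀ c ∈ C', k * c = c * k) ∧
      ∀ D ∈ membersIn S (C ⊔ F), D = C' ∨ ∃ k ∈ K, D = conjBy C k := by
  have hNc := line_comm hS hC hFl
  obtain ⟨⟨hFS, hFC, hcomm⟩, hpart⟩ := hFl
  obtain ⟨P, hP, hCP⟩ := exists_partner (hF C hC) hC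
  obtain ⟨C', hC', hC'C, hcase, hinf⟩ :=
    exists_commCase_on_line' hS hC hP hCP hFS hFC le_sup_left le_sup_right hNc hpart
  have hCmem : C ∈ membersIn S (C ⊔ F) := ⟨hC, le_sup_left⟩
  have hFmem : F ∈ membersIn S (C ⊔ F) := ⟨hFS, le_sup_right⟩
  have hTI : C ⊓ C' = ⊥ := hpart.2.2 C hCmem C' hC' (Ne.symm hC'C)
  have hcfg : NatCfg S C P C' :=
    { hS := hS
      hA := hC
      hB := hP
      hC := hC'.1
      hAB := hCP
      hCB := RootComm.symm hcase
      hCA := fun c hc a ha => hNc c (hC'.2 hc) a (Subgroup.mem_sup_left ha)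
      hprod := by
        intro c hc hc1 a ha ha1
        have hne : c * a ≠ 1 := by
          intro e
          have e' : a = c⁻¹ := eq_inv_of_mul_eq_one_right e
          have h2 : a ∈ C ⊓ C' := ⟨ha, by rw [e']; exact Subgroup.inv_mem _ hc⟩
          rw [hTI, Subgroup.mem_bot] at h2
          exact ha1 h2
        obtain ⟨D, hD, hmem⟩ := hpart.2.1 (c * a)
          (Subgroup.mul_mem _ (hC'.2 hc) (Subgroup.mem_sup_left ha)) hne
        exact ⟨hne, D, hD.1, hmem⟩
      hP := exists_partner (hF C' hC'.1) hC'.1 }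
  have hK := hcfg.hK
  have hAK := hcfg.hAK
  have hce := hcfg.comm_eq
  -- the line is `C C'`
  have hle1 : C ⊔ C' ≤ C ⊔ F := sup_le le_sup_left hC'.2
  have hFle : F ≤ C ⊔ C' := by
    obtain ⟨f, hf, hf1⟩ := exists_ne_one_of_ne_bot hinf
    have hfF : f ∈ F := hf.1
    have hfN : f ∈ C ⊔ ⁅C, ⁅C', P⁆⁆ := by rw [hce]; exact hf.2
    obtain ⟨c, hc, k', hk', e⟩ := (mem_sup_iff hAK).1 hfN
    by_cases hc1 : c = 1
    · have hfC' : f ∈ C' := by
        rw [e, hc1, one_mul, ← hce]; exact hk'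
      have hFC' : F = C' := by
        by_contra hne
        have h2 : f ∈ F ⊓ C' := ⟨hfF, hfC'⟩
        rw [hpart.2.2 F hFmem C' hC' hne, Subgroup.mem_bot] at h2
        exact hf1 h2
      rw [hFC']; exact le_sup_right
    · obtain ⟨b, hb, hmem⟩ := exists_conj_mem hAK hc hc1 hk'
      have hle : conjBy C b ≤ C ⊔ C' := by
        have := conjBy_le_sup (A := C) (B := ⁅C', P⁆) hb
        rwa [hce] at this
      have hDmem : conjBy C b ∈ membersIn S (C ⊔ F) :=
        ⟨hS.conj_mem C hC b, le_trans hle hle1⟩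
      have hFD : F = conjBy C b := by
        by_contra hne
        have h2 : f ∈ F ⊓ conjBy C b := ⟨hfF, by rw [e]; exact hmem⟩
        rw [hpart.2.2 F hFmem _ hDmem hne, Subgroup.mem_bot] at h2
        exact hf1 h2
      rw [hFD]; exact hle
  have hN : C ⊔ C' = C ⊔ F := le_antisymm hle1 (sup_le le_sup_left hFle)
  -- `K` centralises `C'`
  have hKC' : ∀ k ∈ ⁅C', P⁆, ∀ c ∈ C', k * c = c * k := by
    intro k hk c hc
    have hc' : c ∈ ⁅C, ⁅C', P⁆⁆ := by rw [hce]; exact hc
    exact comm_right hAK hk hc'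
  -- `K` normalises the line
  have hconj : ∀ k ∈ ⁅C', P⁆, conjBy (C ⊔ F) k ≤ C ⊔ F := by
    intro k hk
    rw [← hN]
    have e : conjBy (C ⊔ C') k = conjBy C k ⊔ conjBy C' k := Subgroup.map_sup _ _ _
    rw [e]
    apply sup_le
    · have := conjBy_le_sup (A := C) (B := ⁅C', P⁆) hk
      rwa [hce] at this
    · rw [conjBy_of_comm' (hKC' k hk)]; exact le_sup_right
  refine ⟨C', hC', hC'C, hN, ⁅C', P⁆, hK, ?_, hKC', ?_⟩
  · intro k hk
    apply mem_normalizer_of_conj_mem
    · intro t ht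
      apply hconj k hk
      rw [mem_conjBy]
      have e : k⁻¹ * (k * t * k⁻¹) * k = t := by group
      rwa [e]
    · intro t ht
      apply hconj k⁻¹ (Subgroup.inv_mem _ hk)
      rw [mem_conjBy, inv_inv]
      have e : k * (k⁻¹ * t * k) * k⁻¹ = t := by group
      rwa [e]
  · intro D hD
    have hDle : D ≤ C ⊔ ⁅C, ⁅C', P⁆⁆ := by rw [hce, hN]; exact hD.2
    rcases members_cases hS hC hP hCP hAK hD.1 hDle with ⟨b, hb, e⟩ | e
    · exact Or.inr ⟨b, hb, e⟩
    · left; rw [e, hce]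

end Cfsg.Agent.Helper8.RootNat
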