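import Mathlib
import Cfsg.Agent.Helper8.RootNatG

set_option autoImplicit false

/-! Abstract root subgroups: the members of `S` normalising a line generate a group which is doubly
transitive on the points of the line (helper8). -/

namespace Cfsg.Agent.Helper8.RootNat

open Cfsg Cfsg.Agent.Helper7.R1 Cfsg.Agent.Helper7.Root Cfsg.Agent.Helper8.RootComm
  Cfsg.Agent.Helper8.RootChain Cfsg.Agent.Helper8.RankOneExtra Cfsg.Agent.Helper8.RootOpp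
  Cfsg.Agent.Helper8.RootLine

variable {G : Type*} [Group G] {S : Set (Subgroup G)} {A B : Subgroup G}

theorem conjBy_eq_of_mem_normalizer {N : Subgroup G} {x : G}
    (hx : x ∈ Subgroup.normalizer (N : Set G)) : conjBy N x = N := by
  have hx' : x⁻¹ ∈ Subgroup.normalizer (N : Set G) := Subgroup.inv_mem _ hx
  apply conjBy_eq_of_le
  · intro t ht
    rw [mem_conjBy] at ht
    have := (hx (x⁻¹ * t * x)).1 ht
    have e : x * (x⁻¹ * t * x) * x⁻¹ = t := by group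
    rwa [e] at this
  · intro t ht
    rw [mem_conjBy, inv_inv] at ht
    have := (hx' (x * t * x⁻¹)).1 ht
    have e : x⁻¹ * (x * t * x⁻¹) * x⁻¹⁻¹ = t := by group
    rwa [e] at this

theorem conjBy_mem_membersIn (hS : IsRootSubgroupSet S) {N D : Subgroup G} {x : G}
    (hx : x ∈ Subgroup.normalizer (N : Set G)) (hD : D ∈ membersIn S N) :
    conjBy D x ∈ membersIn S N := by
  refine ⟨hS.conj_mem D hD.1 x, ?_⟩
  have := conjBy_mono hD.2 x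
  rwa [conjBy_eq_of_mem_normalizer hx] at this

theorem line_two_transitive (hS : IsRootSubgroupSet S)
    (hF : ∀ A ∈ S, ¬ IsIsolatedIn (FAdj S) S A) (hA : A ∈ S) (hB : B ∈ linePartners S A) :
    ∀ C₁ ∈ membersIn S (A ⊔ B), ∀ C₂ ∈ membersIn S (A ⊔ B), ∀ D₁ ∈ membersIn S (A ⊔ B),
      ∀ D₂ ∈ membersIn S (A ⊔ B), C₁ ≠ C₂ → D₁ ≠ D₂ →
        ∃ x ∈ ⨆ E ∈ normalizingMembers S (A ⊔ B), E, conjBy C₁ x = D₁ ∧ conjBy C₂ x = D₂ := by
  have hNc := line_comm hS hA hB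
  have hpart := hB.2
  have hAmem : A ∈ membersIn S (A ⊔ B) := ⟨hA, le_sup_left⟩
  -- the group `R`
  have hRn : (⨆ E ∈ normalizingMembers S (A ⊔ B), E) ≤
      Subgroup.normalizer ((A ⊔ B : Subgroup G) : Set G) :=
    iSup₂_le fun E hE => hE.2
  -- first application
  obtain ⟨A', hA', hA'A, hN, K, hK, hKn, hKA', hKtr⟩ := line_point_stabilizer hS hF hA hB
  have hKR : K ≤ ⨆ E ∈ normalizingMembers S (A ⊔ B), E :=
    le_iSup₂_of_le K ⟨hK, hKn⟩ le_rfl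
  have hTI : A ⊓ A' = ⊥ := hpart.2.2 A hAmem A' hA' (Ne.symm hA'A)
  -- second application
  have hN' : A' ⊔ A = A ⊔ B := by rw [sup_comm]; exact hN
  have hAl : A ∈ linePartners S A' := by
    refine ⟨⟨hA, Ne.symm hA'A, ?_⟩, ?_⟩
    · rw [Subgroup.commutator_eq_bot_iff_le_centralizer]
      intro a ha
      rw [Subgroup.mem_centralizer_iff]
      intro c hc
      exact hNc c (Subgroup.mem_sup_left hc) a (hA'.2 ha)
    · rw [hN']; exact hpart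
  obtain ⟨A'', hA'', hA''A', -, K', hK', hK'n, -, hK'tr⟩ :=
    line_point_stabilizer hS hF hA'.1 hAl
  rw [hN'] at hA'' hK'n hK'tr
  have hK'R : K' ≤ ⨆ E ∈ normalizingMembers S (A ⊔ B), E :=
    le_iSup₂_of_le K' ⟨hK', hK'n⟩ le_rfl
  -- a third point
  obtain ⟨T, hT, hTA, hTA'⟩ : ∃ T ∈ membersIn S (A ⊔ B), T ≠ A ∧ T ≠ A' := by
    obtain ⟨a, ha, ha1⟩ := exists_ne_one_of_ne_bot (hS.ne_bot A hA)
    obtain ⟨c, hc, hc1⟩ := exists_ne_one_of_ne_bot (hS.ne_bot A' hA'.1)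
    have hne : a * c ≠ 1 := by
      intro e
      have e' : c = a⁻¹ := eq_inv_of_mul_eq_one_right e
      have h2 : c ∈ A ⊓ A' := ⟨by rw [e']; exact Subgroup.inv_mem _ ha, hc⟩
      rw [hTI, Subgroup.mem_bot] at h2
      exact hc1 h2
    obtain ⟨T, hT, hmem⟩ := hpart.2.1 (a * c)
      (Subgroup.mul_mem _ (Subgroup.mem_sup_left ha) (hA'.2 hc)) hne
    refine ⟨T, hT, ?_, ?_⟩
    · rintro rfl
      have h3 : c ∈ T := by
        have := Subgroup.mul_mem _ (Subgroup.inv_mem _ ha) hmem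
        rwa [inv_mul_cancel_left] at this
      have h2 : c ∈ T ⊓ A' := ⟨h3, hc⟩
      rw [hTI, Subgroup.mem_bot] at h2
      exact hc1 h2
    · rintro rfl
      have h3 : a ∈ T := by
        have := Subgroup.mul_mem _ hmem (Subgroup.inv_mem _ hc)
        rwa [mul_inv_cancel_right] at this
      have h2 : a ∈ A ⊓ T := ⟨ha, h3⟩
      rw [hTI, Subgroup.mem_bot] at h2
      exact ha1 h2
  -- a point different from `A'` and `A''`
  obtain ⟨D₀, hD₀, hD₀A', hD₀A''⟩ : ∃ D₀ ∈ membersIn S (A ⊔ B), D₀ ≠ A' ∧ D₀ ≠ A'' := by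
    by_cases h : A = A''
    · refine ⟨T, hT, hTA', ?_⟩
      rw [← h]; exact hTA
    · exact ⟨A, hAmem, Ne.symm hA'A, h⟩
  obtain ⟨k', hk', ek'⟩ : ∃ k ∈ K', D₀ = conjBy A' k := by
    rcases hK'tr D₀ hD₀ with e | h
    · exact absurd e hD₀A''
    · exact h
  -- `K` fixes `A'`
  have hfix : ∀ k ∈ K, conjBy A' k = A' := fun k hk => conjBy_of_comm' (hKA' k hk)
  -- points other than `A'` are `K`-conjugates of `A`
  have hKtr' : ∀ D ∈ membersIn S (A ⊔ B), D ≠ A' → ∃ k ∈ K, D = conjBy A k := by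
    intro D hD hne
    rcases hKtr D hD with e | h
    · exact absurd e hne
    · exact h
  -- transitivity
  have htrans : ∀ C ∈ membersIn S (A ⊔ B),
      ∃ x ∈ ⨆ E ∈ normalizingMembers S (A ⊔ B), E, conjBy A' x = C := by
    intro C hC
    by_cases hCA' : C = A'
    · exact ⟨1, Subgroup.one_mem _, by rw [conjBy_one, hCA']⟩
    · obtain ⟨k₁, hk₁, e₁⟩ := hKtr' C hC hCA'
      obtain ⟨k₂, hk₂, e₂⟩ := hKtr' D₀ hD₀ hD₀A'
      refine ⟨k₁ * k₂⁻¹ * k', Subgroup.mul_mem _ (Subgroup.mul_mem _ (hKR hk₁)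
        (Subgroup.inv_mem _ (hKR hk₂))) (hK'R hk'), ?_⟩
      have e3 : conjBy A' (k₁ * k₂⁻¹ * k') = conjBy (conjBy A' k') (k₁ * k₂⁻¹) := by
        rw [conjBy_conjBy]
      rw [e3, ← ek', e₂, conjBy_conjBy, e₁]
      congr 1
      group
  intro C₁ hC₁ C₂ hC₂ D₁ hD₁ D₂ hD₂ hC hD
  obtain ⟨x₁, hx₁, ex₁⟩ := htrans C₁ hC₁
  obtain ⟨y₁, hy₁, ey₁⟩ := htrans D₁ hD₁
  have hx₁n : x₁⁻¹ ∈ Subgroup.normalizer ((A ⊔ B : Subgroup G) : Set G) :=
    Subgroup.inv_mem _ (hRn hx₁)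
  have hy₁n : y₁⁻¹ ∈ Subgroup.normalizer ((A ⊔ B : Subgroup G) : Set G) :=
    Subgroup.inv_mem _ (hRn hy₁)
  have hC₂' : conjBy C₂ x₁⁻¹ ≠ A' := by
    intro e
    apply hC
    rw [← ex₁, ← e, conjBy_conjBy, mul_inv_cancel, conjBy_one]
  have hD₂' : conjBy D₂ y₁⁻¹ ≠ A' := by
    intro e
    apply hD
    rw [← ey₁, ← e, conjBy_conjBy, mul_inv_cancel, conjBy_one]
  obtain ⟨k₁, hk₁, e₁⟩ := hKtr' _ (conjBy_mem_membersIn hS hx₁n hC₂) hC₂'
  obtain ⟨k₂, hk₂, e₂⟩ := hKtr' _ (conjBy_mem_membersIn hS hy₁n hD₂) hD₂'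
  have hk : k₂ * k₁⁻¹ ∈ K := Subgroup.mul_mem _ hk₂ (Subgroup.inv_mem _ hk₁)
  refine ⟨y₁ * (k₂ * k₁⁻¹) * x₁⁻¹, Subgroup.mul_mem _ (Subgroup.mul_mem _ hy₁ (hKR hk))
    (Subgroup.inv_mem _ hx₁), ?_, ?_⟩
  · rw [← ex₁, conjBy_conjBy]
    have e : y₁ * (k₂ * k₁⁻¹) * x₁⁻¹ * x₁ = y₁ * (k₂ * k₁⁻¹) := by group
    rw [e, ← conjBy_conjBy, hfix _ hk, ey₁]
  · have e3 : conjBy C₂ (y₁ * (k₂ * k₁⁻¹) * x₁⁻¹) =
        conjBy (conjBy C₂ x₁⁻¹) (y₁ * (k₂ * k₁⁻¹)) := by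
      rw [conjBy_conjBy]
    rw [e3, e₁, conjBy_conjBy]
    have e : y₁ * (k₂ * k₁⁻¹) * k₁ = y₁ * k₂ := by group
    rw [e, ← conjBy_conjBy, ← e₂, conjBy_conjBy, mul_inv_cancel, conjBy_one]

end Cfsg.Agent.Helper8.RootNat
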