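import Mathlib
import Cfsg.Agent.Helper8.RootNatH

set_option autoImplicit false

/-! Classes of abstract root subgroups containing a commutator pair: the graph of lines and the
commuting graph are connected (helper8). -/

namespace Cfsg.Agent.Helper8.RootGraph

open Cfsg Cfsg.Agent.Helper7.R1 Cfsg.Agent.Helper7.Root Cfsg.Agent.Helper8.RootComm
  Cfsg.Agent.Helper8.RootChain Cfsg.Agent.Helper8.RankOneExtra Cfsg.Agent.Helper8.RootOpp
  Cfsg.Agent.Helper8.RootLine Cfsg.Agent.Helper8.RootNat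

variable {G : Type*} [Group G] {S : Set (Subgroup G)} {A B C : Subgroup G}

theorem linePartners_symm (hA : A ∈ S) (hB : B ∈ linePartners S A) : A ∈ linePartners S B := by
  obtain ⟨⟨hBS, hBA, hcomm⟩, hpart⟩ := hB
  refine ⟨⟨hA, Ne.symm hBA, ?_⟩, ?_⟩
  · rw [Subgroup.commutator_comm]; exact hcomm
  · rw [sup_comm]; exact hpart

theorem eadj_symm {A B : Subgroup G} (h : EAdj S S A B) : EAdj S S B A :=
  ⟨h.2.1, h.1, linePartners_symm h.1 h.2.2⟩

/-- in the commutator case, with `A` non-isolated, `⁅A, B⁆` is a line partner of `A` -/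
theorem eadj_commutator (hS : IsRootSubgroupSet S) (hA : A ∈ S) (hB : B ∈ S)
    (hiso : ¬ IsIsolatedIn (FAdj S) S A) (hAB : RootCommutatorCase S A B) :
    EAdj S S ⁅A, B⁆ A :=
  ⟨hAB.1, hA, (Cfsg.Agent.S5029.result hS hiso hA hB hAB.1).2.2.1⟩

/-- a rank one pair of a class containing a commutator pair is joined by a path of lines -/
theorem reach_of_rankOne (hS : IsRootSubgroupClass S)
    (hnd : ∃ A ∈ S, ∃ B ∈ S, RootCommutatorCase S A B) (hA : A ∈ S) (hB : B ∈ S)
    (hAB : IsRankOnePair A B) : Relation.ReflTransGen (EAdj S S) A B := by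
  obtain ⟨C, hC, hcfg⟩ := exists_natCfg hS hnd hA hB hAB
  have hCS : C ∈ S := hcfg.hC
  have h1 : EAdj S S A C := ⟨hA, hCS, hC⟩
  have hCiso : ¬ IsIsolatedIn (FAdj S) S C := by
    obtain ⟨P, hP, hCP⟩ := hcfg.hP
    exact not_isolated_of_pair hCS hP hCP
  have hBiso : ¬ IsIsolatedIn (FAdj S) S B :=
    not_isolated_of_pair hB hA (RankOnePair_symm hAB)
  have h2 : EAdj S S C ⁅C, B⁆ := eadj_symm (eadj_commutator hS.1 hCS hB hCiso hcfg.hCB)
  have h3 : EAdj S S ⁅C, B⁆ B := by
    have := eadj_commutator hS.1 hB hCS hBiso (RootComm.symm hcfg.hCB)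
    rwa [Subgroup.commutator_comm] at this
  exact Relation.ReflTransGen.head h1 (Relation.ReflTransGen.head h2
    (Relation.ReflTransGen.single h3))

theorem eadj_connected (hS : IsRootSubgroupClass S)
    (hnd : ∃ A ∈ S, ∃ B ∈ S, RootCommutatorCase S A B)
    (hr : ∃ A ∈ S, ∃ B ∈ S, IsRankOnePair A B) : IsConnectedFamily (EAdj S S) S := by
  obtain ⟨A₀, hA₀, B₀, hB₀, hAB₀⟩ := hr
  have hF : IsConnectedFamily (FAdj S) S :=
    connected_of_conjClass hS.1 hS.2 ⟨A₀, hA₀, not_isolated_of_pair hA₀ hB₀ hAB₀⟩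
  intro A hA B hB
  have := hF A hA B hB
  clear hB
  induction this with
  | refl => exact Relation.ReflTransGen.refl
  | tail _ hbc ih =>
    exact ih.trans (reach_of_rankOne hS hnd hbc.1 hbc.2.1 hbc.2.2)

theorem dadj_connected (hS : IsRootSubgroupClass S)
    (hnd : ∃ A ∈ S, ∃ B ∈ S, RootCommutatorCase S A B)
    (hr : ∃ A ∈ S, ∃ B ∈ S, IsRankOnePair A B) : IsConnectedFamily (DAdj S) S := by
  intro A hA B hB
  have := eadj_connected hS hnd hr A hA B hB
  clear hB
  induction this with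
  | refl => exact Relation.ReflTransGen.refl
  | tail _ hbc ih =>
    refine ih.tail ?_
    obtain ⟨h1, h2, ⟨-, hne, hc⟩, -⟩ := hbc
    exact ⟨h1, h2, Ne.symm hne, hc⟩

end Cfsg.Agent.Helper8.RootGraph
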