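import Mathlib
import Cfsg.Agent.Helper8.RootGraphA

set_option autoImplicit false

/-! Abstract root subgroups: for a line `A C` there is a line partner `K` of `A` with
`⁅C, K⁆ = A` (helper8). -/

namespace Cfsg.Agent.Helper8.RootGen

open Cfsg Cfsg.Agent.Helper7.R1 Cfsg.Agent.Helper7.Root Cfsg.Agent.Helper8.RootComm
  Cfsg.Agent.Helper8.RootChain Cfsg.Agent.Helper8.RankOneExtra Cfsg.Agent.Helper8.RootOpp
  Cfsg.Agent.Helper8.RootLine Cfsg.Agent.Helper8.RootNat Cfsg.Agent.Helper8.RootGraph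

variable {G : Type*} [Group G] {S : Set (Subgroup G)} {A B C F : Subgroup G}

/-- the commutator case is invariant under conjugation -/
theorem commCase_conj (hS : IsRootSubgroupSet S) (hA : A ∈ S) (hB : B ∈ S)
    (h : RootCommutatorCase S A B) (g : G) :
    RootCommutatorCase S (conjBy A g) (conjBy B g) := by
  apply commCase_of_mem hS (hS.conj_mem A hA g) (hS.conj_mem B hB g)
  have h1 : conjBy ⁅A, B⁆ g = ⁅conjBy A g, conjBy B g⁆ := Subgroup.map_commutator A B _
  rw [← h1]
  exact hS.conj_mem _ h.1 g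

theorem commutator_conj (A B : Subgroup G) (g : G) :
    ⁅conjBy A g, conjBy B g⁆ = conjBy ⁅A, B⁆ g :=
  (Subgroup.map_commutator A B _).symm

/-- the natural module configuration on a line `A F`, for a partner `B` of `A` in the commutator
case with `F` -/
theorem natCfg_of_line (hS : IsRootSubgroupSet S)
    (hF : ∀ A ∈ S, ¬ IsIsolatedIn (FAdj S) S A) (hA : A ∈ S) (hB : B ∈ S)
    (hAB : IsRankOnePair A B) (hFl : F ∈ linePartners S A) (hBF : RootCommutatorCase S B F) :
    NatCfg S A B F := by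
  have hNc := line_comm hS hA hFl
  obtain ⟨⟨hFS, hFA, hcomm⟩, hpart⟩ := hFl
  have hTI : A ⊓ F = ⊥ := hpart.2.2 A ⟨hA, le_sup_left⟩ F ⟨hFS, le_sup_right⟩ (Ne.symm hFA)
  exact
    { hS := hS
      hA := hA
      hB := hB
      hC := hFS
      hAB := hAB
      hCB := RootComm.symm hBF
      hCA := fun c hc a ha => hNc c (Subgroup.mem_sup_right hc) a (Subgroup.mem_sup_left ha)
      hprod := by
        intro c hc hc1 a ha ha1
        have hne : c * a ≠ 1 := by
          intro e
          have e' : a = c⁻¹ := eq_inv_of_mul_eq_one_right e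
          have h2 : a ∈ A ⊓ F := ⟨ha, by rw [e']; exact Subgroup.inv_mem _ hc⟩
          rw [hTI, Subgroup.mem_bot] at h2
          exact ha1 h2
        obtain ⟨D, hD, hmem⟩ := hpart.2.1 (c * a)
          (Subgroup.mul_mem _ (Subgroup.mem_sup_right hc) (Subgroup.mem_sup_left ha)) hne
        exact ⟨hne, D, hD.1, hmem⟩
      hP := exists_partner (hF F hFS) hFS }

/-- a member on a line through `A`, other than `A`, is a rank one partner of a partner `B` of `A`
or in the commutator case with it -/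
theorem rankOne_or_commCase_of_line (hS : IsRootSubgroupSet S) (hA : A ∈ S) (hB : B ∈ S)
    (hAB : IsRankOnePair A B) (hFl : F ∈ linePartners S A) :
    IsRankOnePair B F ∨ RootCommutatorCase S B F := by
  have hNc := line_comm hS hA hFl
  obtain ⟨⟨hFS, hFA, hcomm⟩, hpart⟩ := hFl
  have hTI : A ⊓ F = ⊥ := hpart.2.2 A ⟨hA, le_sup_left⟩ F ⟨hFS, le_sup_right⟩ (Ne.symm hFA)
  rcases hS.pair B hB F hFS with h0 | hr | hc
  · exfalso
    refine not_comm_of_products hS hB hAB hFS
      (fun c hc a ha => hNc c (Subgroup.mem_sup_right hc) a (Subgroup.mem_sup_left ha)) ?_ h0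
    intro c hc hc1 a ha ha1
    have hne : c * a ≠ 1 := by
      intro e
      have e' : a = c⁻¹ := eq_inv_of_mul_eq_one_right e
      have h2 : a ∈ A ⊓ F := ⟨ha, by rw [e']; exact Subgroup.inv_mem _ hc⟩
      rw [hTI, Subgroup.mem_bot] at h2
      exact ha1 h2
    obtain ⟨D, hD, hmem⟩ := hpart.2.1 (c * a)
      (Subgroup.mul_mem _ (Subgroup.mem_sup_right hc) (Subgroup.mem_sup_left ha)) hne
    exact ⟨hne, D, hD.1, hmem⟩
  · exact Or.inl hr
  · exact Or.inr hc

/-- for a line `C F` there is a rank one partner of `C` in the commutator case with `F` -/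
theorem exists_partner_commCase (hS : IsRootSubgroupSet S)
    (hF : ∀ A ∈ S, ¬ IsIsolatedIn (FAdj S) S A) (hC : C ∈ S) (hFl : F ∈ linePartners S C) :
    ∃ P ∈ S, IsRankOnePair C P ∧ RootCommutatorCase S P F := by
  have hNc := line_comm hS hC hFl
  have hFl' := hFl
  obtain ⟨⟨hFS, hFC, hcomm⟩, hpart⟩ := hFl
  obtain ⟨P₀, hP₀, hCP₀⟩ := exists_partner (hF C hC) hC
  obtain ⟨C', hC', hC'C, hcase, -⟩ :=
    exists_commCase_on_line' hS hC hP₀ hCP₀ hFS hFC le_sup_left le_sup_right hNc hpart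
  obtain ⟨x, -, e1, e2⟩ := line_two_transitive hS hF hC hFl' C ⟨hC, le_sup_left⟩ C' hC'
    C ⟨hC, le_sup_left⟩ F ⟨hFS, le_sup_right⟩ (Ne.symm hC'C) (Ne.symm hFC)
  refine ⟨conjBy P₀ x, hS.conj_mem P₀ hP₀ x, ?_, ?_⟩
  · have := isRankOnePair_conj hCP₀ x
    rwa [e1] at this
  · have := commCase_conj hS hP₀ hC'.1 hcase x
    rwa [e2] at this

/-- for a line `A C` there is a line partner `K` of `A` with `⁅C, K⁆ = A` -/
theorem exists_line_commutator (hS : IsRootSubgroupSet S)
    (hF : ∀ A ∈ S, ¬ IsIsolatedIn (FAdj S) S A) (hA : A ∈ S) (hCl : C ∈ linePartners S A) :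
    ∃ K ∈ linePartners S A, RootCommutatorCase S C K ∧ ⁅C, K⁆ = A := by
  have hC : C ∈ S := hCl.1.1
  have hAl : A ∈ linePartners S C := linePartners_symm hA hCl
  obtain ⟨P, hP, hCP, hPA⟩ := exists_partner_commCase hS hF hC hAl
  have hcfg := natCfg_of_line hS hF hC hP hCP hAl hPA
  have hK := hcfg.hK
  have hCK := hcfg.hAK
  have hce := hcfg.comm_eq
  refine ⟨⁅A, P⁆, ?_, hCK, hce⟩
  -- `A` is a line partner of `⁅A, P⁆`
  have h1 := eadj_commutator hS hA hP (hF A hA) (RootComm.symm hPA)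
  exact (eadj_symm h1).2.2

end Cfsg.Agent.Helper8.RootGen
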