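import Mathlib
import Cfsg.Agent.Helper8.RootGenA

set_option autoImplicit false

/-! Non-degenerate classes of abstract root subgroups: `G` is generated by the line partners of `A`
together with a rank one partner `B` of `A` (helper8). -/

namespace Cfsg.Agent.Helper8.RootGen

open Cfsg Cfsg.Agent.Helper7.R1 Cfsg.Agent.Helper7.Root Cfsg.Agent.Helper8.RootComm
  Cfsg.Agent.Helper8.RootChain Cfsg.Agent.Helper8.RankOneExtra Cfsg.Agent.Helper8.RootOpp
  Cfsg.Agent.Helper8.RootLine Cfsg.Agent.Helper8.RootNat Cfsg.Agent.Helper8.RootGraph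

variable {G : Type*} [Group G] {S : Set (Subgroup G)} {A B C F : Subgroup G}

theorem membersIn_conj (hS : IsRootSubgroupSet S) {N D : Subgroup G} (g : G)
    (hD : D ∈ membersIn S N) : conjBy D g ∈ membersIn S (conjBy N g) :=
  ⟨hS.conj_mem D hD.1 g, conjBy_mono hD.2 g⟩

theorem conjBy_conjBy_inv (D : Subgroup G) (g : G) : conjBy (conjBy D g⁻¹) g = D := by
  rw [conjBy_conjBy, mul_inv_cancel, conjBy_one]

theorem conjBy_inv_conjBy (D : Subgroup G) (g : G) : conjBy (conjBy D g) g⁻¹ = D := by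
  rw [conjBy_conjBy, inv_mul_cancel, conjBy_one]

/-- line partners are invariant under conjugation -/
theorem linePartners_conj (hS : IsRootSubgroupSet S) (hB : B ∈ linePartners S A) (g : G) :
    conjBy B g ∈ linePartners S (conjBy A g) := by
  obtain ⟨⟨hBS, hBA, hcomm⟩, hpart⟩ := hB
  refine ⟨⟨hS.conj_mem B hBS g, fun e => hBA (conjBy_inj e), ?_⟩, ?_⟩
  · rw [commutator_conj, hcomm]
    exact Subgroup.map_bot _
  · have hsup : conjBy A g ⊔ conjBy B g = conjBy (A ⊔ B) g := (Subgroup.map_sup _ _ _).symm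
    rw [hsup]
    refine ⟨fun C hC => hC.2, ?_, ?_⟩
    · intro x hx hx1
      rw [mem_conjBy] at hx
      have hx1' : g⁻¹ * x * g ≠ 1 := by
        intro e
        apply hx1
        have := congrArg (fun t => g * t * g⁻¹) e
        simpa [mul_assoc] using this
      obtain ⟨C₀, hC₀, hmem⟩ := hpart.2.1 _ hx hx1'
      refine ⟨conjBy C₀ g, membersIn_conj hS g hC₀, ?_⟩
      rw [mem_conjBy]; exact hmem
    · intro C hC D hD hne
      have hC' : conjBy C g⁻¹ ∈ membersIn S (A ⊔ B) := by
        have := membersIn_conj hS g⁻¹ hC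
        rwa [conjBy_inv_conjBy] at this
      have hD' : conjBy D g⁻¹ ∈ membersIn S (A ⊔ B) := by
        have := membersIn_conj hS g⁻¹ hD
        rwa [conjBy_inv_conjBy] at this
      have hne' : conjBy C g⁻¹ ≠ conjBy D g⁻¹ := fun e => hne (conjBy_inj e)
      have hbot := hpart.2.2 _ hC' _ hD' hne'
      rw [eq_bot_iff]
      intro x hx
      rw [Subgroup.mem_bot]
      have h2 : g⁻¹ * x * g ∈ conjBy C g⁻¹ ⊓ conjBy D g⁻¹ := by
        constructor
        · show g⁻¹ * x * g ∈ conjBy C g⁻¹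
          rw [mem_conjBy, inv_inv]
          have e : g * (g⁻¹ * x * g) * g⁻¹ = x := by group
          rw [e]; exact hx.1
        · show g⁻¹ * x * g ∈ conjBy D g⁻¹
          rw [mem_conjBy, inv_inv]
          have e : g * (g⁻¹ * x * g) * g⁻¹ = x := by group
          rw [e]; exact hx.2
      rw [hbot, Subgroup.mem_bot] at h2
      have := congrArg (fun t => g * t * g⁻¹) h2
      simpa [mul_assoc] using this

section Gen

variable {G₀ : Subgroup G}

theorem hF_of_class (hS : IsRootSubgroupClass S) (hA : A ∈ S) (hB : B ∈ S)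
    (hAB : IsRankOnePair A B) : ∀ A ∈ S, ¬ IsIsolatedIn (FAdj S) S A := by
  intro X hX
  obtain ⟨Y, hY, hXY⟩ := all_partners hS hA hB hAB X hX
  exact not_isolated_of_pair hX hY hXY

theorem commutator_le_of_le {H K : Subgroup G} (hH : H ≤ G₀) (hK : K ≤ G₀) : ⁅H, K⁆ ≤ G₀ := by
  rw [Subgroup.commutator_le]
  intro h hh k hk
  exact Subgroup.mul_mem _ (Subgroup.mul_mem _ (Subgroup.mul_mem _ (hH hh) (hK hk))
    (Subgroup.inv_mem _ (hH hh))) (Subgroup.inv_mem _ (hK hk))

/-- `A` lies in the subgroup generated by its line partners -/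
theorem left_le (hS : IsRootSubgroupClass S) (hnd : ∃ A ∈ S, ∃ B ∈ S, RootCommutatorCase S A B)
    (hA : A ∈ S) (hB : B ∈ S) (hAB : IsRankOnePair A B)
    (hL : ∀ C ∈ linePartners S A, C ≤ G₀) : A ≤ G₀ := by
  have hF := hF_of_class hS hA hB hAB
  obtain ⟨C, hC, -⟩ := exists_natCfg hS hnd hA hB hAB
  obtain ⟨K, hK, -, e⟩ := exists_line_commutator hS.1 hF hA hC
  rw [← e]
  exact commutator_le_of_le (hL C hC) (hL K hK)

end Gen

end Cfsg.Agent.Helper8.RootGen
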