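import Mathlib
import Cfsg.Agent.Helper8.RootGenB

set_option autoImplicit false

/-! Non-degenerate classes of abstract root subgroups: `G` is generated by the line partners of `A`
together with a rank one partner `B` of `A` (helper8). -/

namespace Cfsg.Agent.Helper8.RootGen

open Cfsg Cfsg.Agent.Helper7.R1 Cfsg.Agent.Helper7.Root Cfsg.Agent.Helper8.RootComm
  Cfsg.Agent.Helper8.RootChain Cfsg.Agent.Helper8.RankOneExtra Cfsg.Agent.Helper8.RootOpp
  Cfsg.Agent.Helper8.RootLine Cfsg.Agent.Helper8.RootNat Cfsg.Agent.Helper8.RootGraph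

variable {G : Type*} [Group G] {S : Set (Subgroup G)} {A B C F : Subgroup G} {G₀ : Subgroup G}

/-- the two members of a rank one pair inside `G₀` are conjugate in `G₀` -/
theorem exists_conj_of_rankOne (hAB : IsRankOnePair A B) (hA0 : A ≤ G₀) (hB0 : B ≤ G₀) :
    ∃ x ∈ G₀, B = conjBy A x := by
  obtain ⟨x, hx, e⟩ := right_mem_unipotent hAB
  exact ⟨x, (sup_le hA0 hB0) hx, e⟩

/-- for a line `A C` and a partner `B` of `A`, there is a line partner `K` of `A` with
`⁅C, K⁆ = A` which is in the commutator case with `B` -/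
theorem exists_line_commutator_special (hS : IsRootSubgroupSet S)
    (hF : ∀ A ∈ S, ¬ IsIsolatedIn (FAdj S) S A) (hA : A ∈ S) (hB : B ∈ S)
    (hAB : IsRankOnePair A B) (hCl : C ∈ linePartners S A) :
    ∃ K ∈ linePartners S A, RootCommutatorCase S C K ∧ ⁅C, K⁆ = A ∧
      RootCommutatorCase S B K := by
  have hC : C ∈ S := hCl.1.1
  obtain ⟨K, hK, hCK, e⟩ := exists_line_commutator hS hF hA hCl
  have hKS : K ∈ S := hK.1.1
  have hNc := line_comm hS hA hK
  obtain ⟨K', hK', hK'A, hBK', -⟩ := exists_commCase_on_line' hS hA hB hAB hKS hK.1.2.1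
    le_sup_left le_sup_right hNc hK.2
  -- `K'` is a `C`-conjugate of `K`
  obtain ⟨P, hP, hKP⟩ := exists_partner (hF K hKS) hKS
  have hKC : RootCommutatorCase S K C := RootComm.symm hCK
  have e' : ⁅K, C⁆ = A := by rw [Subgroup.commutator_comm]; exact e
  have hle : K' ≤ K ⊔ ⁅K, C⁆ := by rw [e', sup_comm]; exact hK'.2
  rcases members_cases hS hKS hP hKP hKC hK'.1 hle with ⟨c, hc, rfl⟩ | h
  · -- `⁅C, conjBy K c⁆ = A`
    have hCc : conjBy C c = C :=
      conjBy_of_comm' (fun b hb => comm_of_isMulCommutative (hS.commutative C hC) hc hb)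
    have hAc : conjBy A c = A :=
      conjBy_of_comm' (fun a ha => by
        have ha' : a ∈ ⁅C, K⁆ := by rw [e]; exact ha
        exact comm_left hCK hc ha')
    have e2 : ⁅C, conjBy K c⁆ = A := by
      have := commutator_conj C K c
      rw [hCc, e, hAc] at this
      exact this
    have hCK' : RootCommutatorCase S C (conjBy K c) :=
      commCase_of_mem hS hC hK'.1 (by rw [e2]; exact hA)
    refine ⟨conjBy K c, ?_, hCK', e2, hBK'⟩
    -- line partner: from the partition of `K' ⁅K', C⁆`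
    have h1 := eadj_commutator hS hK'.1 hC (hF _ hK'.1) (RootComm.symm hCK')
    have e3 : ⁅conjBy K c, C⁆ = A := by rw [Subgroup.commutator_comm]; exact e2
    rw [e3] at h1
    exact h1.2.2
  · exact absurd (h.trans e') hK'A

/-- a line partner of `A` is conjugate to `A` under a subgroup containing the line partners of `A`
and a rank one partner -/
theorem line_conj (hS : IsRootSubgroupClass S)
    (hnd : ∃ A ∈ S, ∃ B ∈ S, RootCommutatorCase S A B)
    (hA : A ∈ S) (hB : B ∈ S) (hAB : IsRankOnePair A B)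
    (hL : ∀ C ∈ linePartners S A, C ≤ G₀) (hB0 : B ≤ G₀) (hCl : C ∈ linePartners S A) :
    ∃ g ∈ G₀, C = conjBy A g := by
  have hF := hF_of_class hS hA hB hAB
  have hA0 : A ≤ G₀ := left_le hS hnd hA hB hAB hL
  have hC : C ∈ S := hCl.1.1
  have hC0 : C ≤ G₀ := hL C hCl
  obtain ⟨x, hx, ex⟩ := exists_conj_of_rankOne hAB hA0 hB0
  rcases rankOne_or_commCase_of_line hS.1 hA hB hAB hCl with hr | hc
  · obtain ⟨z, hz, ez⟩ := exists_conj_of_rankOne hr hB0 hC0
    refine ⟨z * x, Subgroup.mul_mem _ hz hx, ?_⟩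
    rw [ez, ex, conjBy_conjBy]
  · obtain ⟨K, hK, hCK, e, hBK⟩ := exists_line_commutator_special hS.1 hF hA hB hAB hCl
    have hKS : K ∈ S := hK.1.1
    have hK0 : K ≤ G₀ := hL K hK
    have hcfg := natCfg_of_line hS.1 hF hA hB hAB hK hBK
    have hP'S : ⁅K, B⁆ ∈ S := hcfg.hK
    have hP'0 : ⁅K, B⁆ ≤ G₀ := commutator_le_of_le hK0 hB0
    have hce : ⁅A, ⁅K, B⁆⁆ = K := hcfg.comm_eq
    -- `K` and `⁅K, B⁆` are conjugate under `⟨B, A⟩`
    obtain ⟨x₁, hx₁, ex₁⟩ := hcfg.opp.exists_conj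
    have hx₁0 : x₁ ∈ G₀ := (sup_le hB0 hA0) hx₁
    -- the natural module `K A` for `⟨C, ⁅K, B⁆⟩`
    have hKC : RootCommutatorCase S K C := RootComm.symm hCK
    have e' : ⁅K, C⁆ = A := by rw [Subgroup.commutator_comm]; exact e
    have hopp : Opp S K C ⁅K, B⁆ :=
      { hS := hS.1
        hA := hKS
        hB := hC
        hD := hP'S
        h1 := hKC
        hDC := by rw [e', Subgroup.commutator_comm]; exact hce }
    obtain ⟨y, hy, ey⟩ := hopp.exists_conj
    have hy0 : y ∈ G₀ := (sup_le hC0 hP'0) hy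
    rw [e'] at ey
    -- ey : A = conjBy K y
    obtain ⟨z, hz, ez⟩ := exists_conj_of_rankOne hopp.rankOne hC0 hP'0
    -- ez : ⁅K, B⁆ = conjBy C z
    refine ⟨z⁻¹ * x₁ * y⁻¹, Subgroup.mul_mem _ (Subgroup.mul_mem _ (Subgroup.inv_mem _ hz) hx₁0)
      (Subgroup.inv_mem _ hy0), ?_⟩
    have h1 : conjBy A y⁻¹ = K := by rw [ey, conjBy_inv_conjBy]
    have h2 : conjBy ⁅K, B⁆ z⁻¹ = C := by rw [ez, conjBy_inv_conjBy]
    rw [mul_assoc, conjBy_mul, conjBy_mul, h1, ← ex₁, h2]

end Cfsg.Agent.Helper8.RootGen
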