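import Mathlib
import Cfsg.Agent.Helper8.RootGenC

set_option autoImplicit false

/-! Non-degenerate classes of abstract root subgroups: `G` is generated by the line partners of `A`
together with a rank one partner `B` of `A` (helper8). -/

namespace Cfsg.Agent.Helper8.RootGen

open Cfsg Cfsg.Agent.Helper7.R1 Cfsg.Agent.Helper7.Root Cfsg.Agent.Helper8.RootComm
  Cfsg.Agent.Helper8.RootChain Cfsg.Agent.Helper8.RankOneExtra Cfsg.Agent.Helper8.RootOpp
  Cfsg.Agent.Helper8.RootLine Cfsg.Agent.Helper8.RootNat Cfsg.Agent.Helper8.RootGraph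

variable {G : Type*} [Group G] {S : Set (Subgroup G)} {A B C F : Subgroup G} {G₀ : Subgroup G}

/-- every member of `S` is conjugate to `A` under a subgroup containing the line partners of `A`
and a rank one partner -/
theorem all_conj (hS : IsRootSubgroupClass S)
    (hnd : ∃ A ∈ S, ∃ B ∈ S, RootCommutatorCase S A B)
    (hA : A ∈ S) (hB : B ∈ S) (hAB : IsRankOnePair A B)
    (hL : ∀ C ∈ linePartners S A, C ≤ G₀) (hB0 : B ≤ G₀) {D : Subgroup G} (hD : D ∈ S) :
    ∃ g ∈ G₀, D = conjBy A g := by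
  have hreach := eadj_connected hS hnd ⟨A, hA, B, hB, hAB⟩ A hA D hD
  clear hD
  induction hreach with
  | refl => exact ⟨1, Subgroup.one_mem _, (conjBy_one A).symm⟩
  | tail _ hbc ih =>
    obtain ⟨g, hg, rfl⟩ := ih
    have h1 := linePartners_conj hS.1 hbc.2.2 g⁻¹
    rw [conjBy_inv_conjBy] at h1
    obtain ⟨g', hg', e⟩ := line_conj hS hnd hA hB hAB hL hB0 h1
    refine ⟨g * g', Subgroup.mul_mem _ hg hg', ?_⟩
    rw [conjBy_mul, ← e, conjBy_conjBy_inv]

theorem generated (hS : IsRootSubgroupClass S)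
    (hnd : ∃ A ∈ S, ∃ B ∈ S, RootCommutatorCase S A B)
    (hA : A ∈ S) (hB : B ∈ S) (hAB : IsRankOnePair A B)
    (hL : ∀ C ∈ linePartners S A, C ≤ G₀) (hB0 : B ≤ G₀) : G₀ = ⊤ := by
  have hA0 : A ≤ G₀ := left_le hS hnd hA hB hAB hL
  rw [eq_top_iff, ← hS.1.generates]
  apply iSup₂_le
  intro D hD
  obtain ⟨g, hg, rfl⟩ := all_conj hS hnd hA hB hAB hL hB0 hD
  intro x hx
  rw [mem_conjBy] at hx
  have := Subgroup.mul_mem _ (Subgroup.mul_mem _ hg (hA0 hx)) (Subgroup.inv_mem _ hg)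
  have e : g * (g⁻¹ * x * g) * g⁻¹ = x := by group
  rwa [e] at this

end Cfsg.Agent.Helper8.RootGen
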