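import Mathlib
import Cfsg.Agent.Helper8.RootGenD

set_option autoImplicit false

/-! Non-degenerate classes of abstract root subgroups: weak TI-subsets are abelian (helper8). -/

namespace Cfsg.Agent.Helper8.RootTI

open Cfsg Cfsg.Agent.Helper7.R1 Cfsg.Agent.Helper7.Root Cfsg.Agent.Helper8.RootComm
  Cfsg.Agent.Helper8.RootChain Cfsg.Agent.Helper8.RankOneExtra Cfsg.Agent.Helper8.RootOpp
  Cfsg.Agent.Helper8.RootLine Cfsg.Agent.Helper8.RootNat Cfsg.Agent.Helper8.RootGraph
  Cfsg.Agent.Helper8.RootGen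

variable {G : Type*} [Group G] {S Δ : Set (Subgroup G)} {A B : Subgroup G}

/-- the stabiliser of a family of subgroups under conjugation -/
def stabFamily (Δ : Set (Subgroup G)) : Subgroup G where
  carrier := {g | ∀ D ∈ Δ, conjBy D g ∈ Δ ∧ conjBy D g⁻¹ ∈ Δ}
  one_mem' := by
    intro D hD
    simp only [inv_one, conjBy_one]
    exact ⟨hD, hD⟩
  mul_mem' := by
    intro g h hg hh D hD
    constructor
    · rw [conjBy_mul]
      exact (hg _ (hh D hD).1).1
    · rw [mul_inv_rev, conjBy_mul]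
      exact (hh _ (hg D hD).2).2
  inv_mem' := by
    intro g hg D hD
    rw [inv_inv]
    exact ⟨(hg D hD).2, (hg D hD).1⟩

theorem mem_stabFamily_of_image {g : G} (h : (fun A => conjBy A g) '' Δ = Δ) :
    g ∈ stabFamily Δ := by
  intro D hD
  constructor
  · rw [← h]; exact ⟨D, hD, rfl⟩
  · have hD' := hD
    rw [← h] at hD'
    obtain ⟨D', hD'mem, e⟩ := hD'
    have e' : conjBy D' g = D := e
    rw [← e', conjBy_inv_conjBy]
    exact hD'mem

/-- a member of `S` normalising some member of a weak TI-subset stabilises the subset -/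
theorem le_stabFamily (hΔ : IsWeakTISubset S Δ) {F E : Subgroup G} (hF : F ∈ S) (hE : E ∈ Δ)
    (hfix : ∀ f ∈ F, conjBy E f ∈ Δ) : F ≤ stabFamily Δ := by
  intro f hf
  by_cases hf1 : f = 1
  · rw [hf1]; exact Subgroup.one_mem _
  · have hroot : f ∈ rootElements S := ⟨hf1, F, hF, hf⟩
    rcases hΔ.2.2.2 f hroot with h | h
    · exact mem_stabFamily_of_image h
    · exfalso
      have h1 : conjBy E f ∈ (fun A => conjBy A f) '' Δ := ⟨E, hE, rfl⟩
      exact Set.disjoint_left.1 h h1 (hfix f hf)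

theorem le_stabFamily_of_comm (hΔ : IsWeakTISubset S Δ) {F E : Subgroup G} (hF : F ∈ S)
    (hE : E ∈ Δ) (hcomm : ∀ f ∈ F, ∀ e ∈ E, f * e = e * f) : F ≤ stabFamily Δ := by
  apply le_stabFamily hΔ hF hE
  intro f hf
  rw [conjBy_of_comm' (hcomm f hf)]
  exact hE

/-- a weak TI-subset of a class containing a commutator pair contains no rank one pair -/
theorem not_rankOne (hS : IsRootSubgroupClass S)
    (hnd : ∃ A ∈ S, ∃ B ∈ S, RootCommutatorCase S A B) (hΔ : IsWeakTISubset S Δ)
    (hA : A ∈ Δ) (hB : B ∈ Δ) : ¬ IsRankOnePair A B := by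
  intro hAB
  have hAS := hΔ.1 hA
  have hBS := hΔ.1 hB
  have hL : ∀ C ∈ linePartners S A, C ≤ stabFamily Δ := by
    intro C hC
    apply le_stabFamily_of_comm hΔ hC.1.1 hA
    intro c hc a ha
    exact (comm_of_commutator_eq_bot hC.1.2.2 ha hc).symm
  have hB0 : B ≤ stabFamily Δ :=
    le_stabFamily_of_comm hΔ hBS hB
      (fun f hf e he => comm_of_isMulCommutative (hS.1.commutative B hBS) hf he)
  have htop := generated hS hnd hAS hBS hAB hL hB0
  apply hΔ.2.2.1
  apply Set.Subset.antisymm hΔ.1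
  intro D hD
  obtain ⟨g, rfl⟩ := hS.2.2 A hAS D hD
  have hg : g ∈ stabFamily Δ := by rw [htop]; trivial
  exact (hg A hA).1

theorem abelian (hS : IsRootSubgroupClass S)
    (hnd : ∃ A ∈ S, ∃ B ∈ S, RootCommutatorCase S A B)
    (hr : ∃ A ∈ S, ∃ B ∈ S, IsRankOnePair A B) (hΔ : IsWeakTISubset S Δ) :
    IsAbelianFamily Δ := by
  intro A hA B hB a ha b hb
  have hAS := hΔ.1 hA
  have hBS := hΔ.1 hB
  rcases hS.1.pair A hAS B hBS with h0 | hr1 | hc
  · exact comm_of_commutator_eq_bot h0 ha hb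
  · exact absurd hr1 (not_rankOne hS hnd hΔ hA hB)
  · exfalso
    obtain ⟨A₀, hA₀, B₀, hB₀, hAB₀⟩ := hr
    have hF := hF_of_class hS hA₀ hB₀ hAB₀
    -- `⁅A, B⁆` is a line partner of `A`
    have hCl : ⁅A, B⁆ ∈ linePartners S A :=
      (eadj_symm (eadj_commutator hS.1 hAS hBS (hF A hAS) hc)).2.2
    obtain ⟨K, hK, hCK, e⟩ := exists_line_commutator hS.1 hF hAS hCl
    have hKS : K ∈ S := hK.1.1
    have hopp : Opp S A B K :=
      { hS := hS.1
        hA := hAS
        hB := hBS
        hD := hKS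
        h1 := hc
        hDC := by rw [Subgroup.commutator_comm]; exact e }
    have hBK : IsRankOnePair B K := hopp.rankOne
    have hK0 : K ≤ stabFamily Δ := by
      apply le_stabFamily_of_comm hΔ hKS hA
      intro k hk a' ha'
      exact (comm_of_commutator_eq_bot hK.1.2.2 ha' hk).symm
    obtain ⟨k, hk, hk1⟩ := exists_nonid (RankOnePair_symm hBK)
    have hB' : conjBy B k ∈ Δ := ((hK0 hk) B hB).1
    have hne : B ≠ conjBy B k := fun e' =>
      hk1 (eq_one_of_conjBy_right (RankOnePair_symm hBK) hk e'.symm)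
    have hpair := (pair_of_unipotent hBK left_mem_unipotent
      (conjBy_mem_unipotent left_mem_unipotent (Subgroup.mem_sup_right hk)) hne).1
    exact not_rankOne hS hnd hΔ hB hB' hpair

end Cfsg.Agent.Helper8.RootTI
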