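import Mathlib
import Cfsg.Agent.Helper8.RootTIA

set_option autoImplicit false

/-! Rank one pairs: a conjugation-invariant relation between two commuting subgroups having a common
rank one partner is symmetric (helper8). -/

namespace Cfsg.Agent.Helper8.RootOrd

open Cfsg Cfsg.Agent.Helper7.R1 Cfsg.Agent.Helper7.Root Cfsg.Agent.Helper8.RootComm
  Cfsg.Agent.Helper8.RootChain Cfsg.Agent.Helper8.RankOneExtra Cfsg.Agent.Helper8.RootOpp
  Cfsg.Agent.Helper8.RootLine Cfsg.Agent.Helper8.RootNat Cfsg.Agent.Helper8.RootGraph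
  Cfsg.Agent.Helper8.RootGen

variable {G : Type*} [Group G] {A C E : Subgroup G}

theorem comm_conj {P Q : Subgroup G} (h : ∀ p ∈ P, ∀ q ∈ Q, p * q = q * p) (g : G) :
    ∀ x ∈ conjBy P g, ∀ y ∈ conjBy Q g, x * y = y * x := by
  intro x hx y hy
  rw [mem_conjBy] at hx hy
  have := h _ hx _ hy
  have e1 : x * y = g * ((g⁻¹ * x * g) * (g⁻¹ * y * g)) * g⁻¹ := by group
  have e2 : y * x = g * ((g⁻¹ * y * g) * (g⁻¹ * x * g)) * g⁻¹ := by group
  rw [e1, e2, this]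

/-- A conjugation-invariant relation `R` with `R A C`, for commuting `A`, `C` with a common rank one
partner `E`, also satisfies `R C A`. -/
theorem swap_rel {R : Subgroup G → Subgroup G → Prop}
    (hR : ∀ X Y : Subgroup G, ∀ g : G, R X Y → R (conjBy X g) (conjBy Y g))
    (hAC : ∀ a ∈ A, ∀ c ∈ C, a * c = c * a) (hAE : IsRankOnePair A E)
    (hCE : IsRankOnePair C E) (h : R A C) : R C A := by
  have key : ∀ c ∈ C, c ≠ 1 → ∃ e ∈ E, ∃ a₁ ∈ A,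
      conjBy E (c * a₁⁻¹) = conjBy A (c * e⁻¹) ∧ E = conjBy C (c * e⁻¹) := by
    intro c hc hc1
    obtain ⟨e, he, he1, e1⟩ := hCE.cond_left c hc hc1
    obtain ⟨a₁, ha₁, ha₁1, e2⟩ := hAE.cond_right e he he1
    refine ⟨e, he, a₁, ha₁, ?_, ?_⟩
    · rw [conjBy_mul, e2, ← conjBy_mul]
    · rw [conjBy_mul, e1, ← conjBy_mul, mul_inv_cancel, conjBy_one]
  obtain ⟨c, hc, hc1⟩ := exists_nonid hCE
  have hc1' : c⁻¹ ≠ 1 := by simpa using hc1
  obtain ⟨e, he, a₁, ha₁, eq1, eq2⟩ := key c hc hc1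
  obtain ⟨e', he', a₁', ha₁', eq1', eq2'⟩ := key c⁻¹ (C.inv_mem hc) hc1'
  -- the relations
  have hR1 : R (conjBy E (c * a₁⁻¹)) E := by
    have := hR A C (c * e⁻¹) h
    rwa [← eq1, ← eq2] at this
  have hR2 : R (conjBy E (c⁻¹ * a₁'⁻¹)) E := by
    have := hR A C (c⁻¹ * e'⁻¹) h
    rwa [← eq1', ← eq2'] at this
  -- commuting
  have hcomm1 : ∀ x ∈ conjBy E (c * a₁⁻¹), ∀ y ∈ E, x * y = y * x := by
    intro x hx y hy
    rw [eq1] at hx
    rw [eq2] at hy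
    exact comm_conj hAC _ x hx y hy
  have hcomm2 : ∀ x ∈ conjBy E (c⁻¹ * a₁'⁻¹), ∀ y ∈ E, x * y = y * x := by
    intro x hx y hy
    rw [eq1'] at hx
    rw [eq2'] at hy
    exact comm_conj hAC _ x hx y hy
  -- `E` commutes with `conjBy E (c * a₁⁻¹)⁻¹`
  have hcomm3 : ∀ x ∈ conjBy E (c * a₁⁻¹)⁻¹, ∀ y ∈ E, x * y = y * x := by
    intro x hx y hy
    have h3 := comm_conj hcomm1 (c * a₁⁻¹)⁻¹
    rw [conjBy_inv_conjBy] at h3
    exact (h3 y hy x hx).symm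
  -- the subgroup `F`
  have hca : ∀ a ∈ A, c⁻¹ * a = a * c⁻¹ := by
    intro a ha
    have := hAC a ha c hc
    have e3 : c⁻¹ * a = c⁻¹ * (a * c) * c⁻¹ := by group
    rw [e3, this]; group
  have hAF : IsRankOnePair A (conjBy E c⁻¹) := by
    have := isRankOnePair_conj hAE c⁻¹
    rwa [conjBy_of_comm' (B := A) (c := c⁻¹) hca] at this
  have ew : (c * a₁⁻¹)⁻¹ = a₁ * c⁻¹ := by group
  have ew' : c⁻¹ * a₁'⁻¹ = a₁'⁻¹ * c⁻¹ := hca _ (A.inv_mem ha₁')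
  have hF1 : conjBy E (c * a₁⁻¹)⁻¹ = conjBy (conjBy E c⁻¹) a₁ := by rw [ew, conjBy_mul]
  have hF2 : conjBy E (c⁻¹ * a₁'⁻¹) = conjBy (conjBy E c⁻¹) a₁'⁻¹ := by rw [ew', conjBy_mul]
  have hkey : a₁ = a₁'⁻¹ := by
    by_contra hne
    have hne2 : conjBy (conjBy E c⁻¹) a₁ ≠ conjBy (conjBy E c⁻¹) a₁'⁻¹ := by
      intro e3
      have e4 : conjBy (conjBy E c⁻¹) (a₁' * a₁) = conjBy E c⁻¹ := by
        rw [conjBy_mul, e3, conjBy_conjBy_inv]
      have := eq_one_of_conjBy_right hAF (A.mul_mem ha₁' ha₁) e4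
      apply hne
      exact eq_inv_of_mul_eq_one_right this
    have hu1 : conjBy (conjBy E c⁻¹) a₁ ∈ unipotentSubgroups A (conjBy E c⁻¹) :=
      conjBy_mem_unipotent (right_mem_unipotent hAF) (Subgroup.mem_sup_left ha₁)
    have hu2 : conjBy (conjBy E c⁻¹) a₁'⁻¹ ∈ unipotentSubgroups A (conjBy E c⁻¹) :=
      conjBy_mem_unipotent (right_mem_unipotent hAF) (Subgroup.mem_sup_left (A.inv_mem ha₁'))
    have hsup := (pair_of_unipotent hAF hu1 hu2 hne2).2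
    obtain ⟨a, ha, ha1⟩ := exists_nonid hAE
    obtain ⟨y, hy, hy1⟩ := exists_nonid (RankOnePair_symm hAE)
    apply not_commute hAE ha ha1 hy hy1
    have haX : a ∈ conjBy (conjBy E c⁻¹) a₁ ⊔ conjBy (conjBy E c⁻¹) a₁'⁻¹ := by
      rw [hsup]; exact Subgroup.mem_sup_left ha
    exact (comm_sup_of_comm (z := y)
      (fun p hp => (hcomm3 p (by rw [hF1]; exact hp) y hy).symm)
      (fun q hq => (hcomm2 q (by rw [hF2]; exact hq) y hy).symm) a haX).symm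
  -- conclusion
  have ew2 : c⁻¹ * a₁'⁻¹ = (c * a₁⁻¹)⁻¹ := by rw [ew, ← hkey]; exact hca _ ha₁
  rw [ew2] at hR2
  have h4 := hR _ _ (c * a₁⁻¹) hR2
  rw [conjBy_conjBy_inv] at h4
  -- h4 : R E (conjBy E (c * a₁⁻¹))
  rw [eq1] at h4
  have h5 : R (conjBy C (c * e⁻¹)) (conjBy A (c * e⁻¹)) := by
    rw [← eq2]; exact h4
  have h6 := hR _ _ (c * e⁻¹)⁻¹ h5
  rwa [conjBy_inv_conjBy, conjBy_inv_conjBy] at h6

end Cfsg.Agent.Helper8.RootOrd
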