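import Mathlib
import Cfsg.Agent.Helper8.RootOrdA

set_option autoImplicit false

/-! Classes of abstract root subgroups, degenerate or not: inclusions between the sets of commuting
members, or of rank one partners, of two members are equalities (helper8). -/

namespace Cfsg.Agent.Helper8.RootOrd

open Cfsg Cfsg.Agent.Helper7.R1 Cfsg.Agent.Helper7.Root Cfsg.Agent.Helper8.RootComm
  Cfsg.Agent.Helper8.RootChain Cfsg.Agent.Helper8.RankOneExtra Cfsg.Agent.Helper8.RootOpp
  Cfsg.Agent.Helper8.RootLine Cfsg.Agent.Helper8.RootNat Cfsg.Agent.Helper8.RootGraph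
  Cfsg.Agent.Helper8.RootGen

variable {G : Type*} [Group G] {S : Set (Subgroup G)} {A C E : Subgroup G}

theorem mem_centralizingMembers_iff {D X : Subgroup G} :
    D ∈ centralizingMembers S X ↔ D ∈ S ∧ ∀ d ∈ D, ∀ x ∈ X, d * x = x * d := by
  constructor
  · rintro ⟨hD, hle⟩
    refine ⟨hD, fun d hd x hx => ?_⟩
    have := hle hd
    rw [Subgroup.mem_centralizer_iff] at this
    exact (this x hx).symm
  · rintro ⟨hD, h⟩
    refine ⟨hD, fun d hd => ?_⟩
    rw [Subgroup.mem_centralizer_iff]
    intro x hx
    exact (h d hd x hx).symm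

theorem centralizing_conj (hS : IsRootSubgroupSet S) (X Y : Subgroup G) (g : G)
    (h : centralizingMembers S X ⊆ centralizingMembers S Y) :
    centralizingMembers S (conjBy X g) ⊆ centralizingMembers S (conjBy Y g) := by
  intro D hD
  rw [mem_centralizingMembers_iff] at hD ⊢
  obtain ⟨hDS, hcomm⟩ := hD
  have h1 : conjBy D g⁻¹ ∈ centralizingMembers S X := by
    rw [mem_centralizingMembers_iff]
    refine ⟨hS.conj_mem D hDS g⁻¹, ?_⟩
    have := comm_conj hcomm g⁻¹
    rwa [conjBy_inv_conjBy] at this
  have h2 := h h1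
  rw [mem_centralizingMembers_iff] at h2
  refine ⟨hDS, ?_⟩
  have := comm_conj h2.2 g
  rwa [conjBy_conjBy_inv] at this

theorem rankOnePartners_conj (hS : IsRootSubgroupSet S) (X Y : Subgroup G) (g : G)
    (h : rankOnePartners S X ⊆ rankOnePartners S Y) :
    rankOnePartners S (conjBy X g) ⊆ rankOnePartners S (conjBy Y g) := by
  rintro D ⟨hDS, hr⟩
  have h1 : conjBy D g⁻¹ ∈ rankOnePartners S X := by
    refine ⟨hS.conj_mem D hDS g⁻¹, ?_⟩
    have := isRankOnePair_conj hr g⁻¹
    rwa [conjBy_inv_conjBy] at this
  obtain ⟨-, h2⟩ := h h1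
  refine ⟨hDS, ?_⟩
  have := isRankOnePair_conj h2 g
  rwa [conjBy_conjBy_inv] at this

theorem comm_ne_of_rankOne {P Q : Subgroup G} (h : IsRankOnePair P Q)
    (hcomm : ∀ p ∈ P, ∀ q ∈ Q, p * q = q * p) : False := by
  obtain ⟨p, hp, hp1⟩ := exists_nonid h
  obtain ⟨q, hq, hq1⟩ := exists_nonid (RankOnePair_symm h)
  exact not_commute h hp hp1 hq hq1 (hcomm p hp q hq)

/-- first part: an inclusion between the commuting members is an equality -/
theorem centralizing_eq (hS : IsRootSubgroupClass S)
    (hdn : IsDegenerateRootSet S ∨ IsNondegenerateRootSet S)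
    (hA : A ∈ S) (hC : C ∈ S)
    (h : centralizingMembers S A ⊆ centralizingMembers S C) :
    centralizingMembers S A = centralizingMembers S C := by
  apply Set.Subset.antisymm h
  -- `A` and `C` commute
  have hAmem : A ∈ centralizingMembers S A := by
    rw [mem_centralizingMembers_iff]
    exact ⟨hA, fun d hd x hx => comm_of_isMulCommutative (hS.1.commutative A hA) hd hx⟩
  have hAC : ∀ a ∈ A, ∀ c ∈ C, a * c = c * a := (mem_centralizingMembers_iff.1 (h hAmem)).2
  by_cases hpart : ∃ E ∈ S, IsRankOnePair C E
  · obtain ⟨E, hE, hCE⟩ := hpart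
    have hF := hF_of_class hS hC hE hCE
    have hAE : IsRankOnePair A E := by
      rcases hS.1.pair A hA E hE with h0 | hr | hc
      · exfalso
        have hEmem : E ∈ centralizingMembers S A := by
          rw [mem_centralizingMembers_iff]
          exact ⟨hE, fun d hd x hx => (comm_of_commutator_eq_bot h0 hx hd).symm⟩
        have h2 := (mem_centralizingMembers_iff.1 (h hEmem)).2
        exact comm_ne_of_rankOne hCE (fun p hp q hq => (h2 q hq p hp).symm)
      · exact hr
      · exfalso
        rcases hdn with hdeg | hnd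
        · exact hdeg A hA E hE hc
        · -- `L = ⁅A, E⁆` is a line partner of `A` and of `E`
          have hL1 : ⁅A, E⁆ ∈ linePartners S A :=
            (eadj_symm (eadj_commutator hS.1 hA hE (hF A hA) hc)).2.2
          have hL2 : ⁅A, E⁆ ∈ linePartners S E := by
            have := (eadj_symm (eadj_commutator hS.1 hE hA (hF E hE) (RootComm.symm hc))).2.2
            rwa [Subgroup.commutator_comm] at this
          have hLmem : ⁅A, E⁆ ∈ centralizingMembers S A := by
            rw [mem_centralizingMembers_iff]
            exact ⟨hc.1, fun d hd x hx => (comm_of_commutator_eq_bot hL1.1.2.2 hx hd).symm⟩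
          have h2 := (mem_centralizingMembers_iff.1 (h hLmem)).2
          rcases rankOne_or_commCase_of_line hS.1 hE hC (RankOnePair_symm hCE) hL2 with hr | hcc
          · exact comm_ne_of_rankOne hr (fun p hp q hq => (h2 q hq p hp).symm)
          · apply commutator_ne_bot hcc hS.1
            rw [Subgroup.commutator_eq_bot_iff_le_centralizer]
            intro p hp
            rw [Subgroup.mem_centralizer_iff]
            intro q hq
            exact h2 q hq p hp
    exact swap_rel (R := fun X Y => centralizingMembers S X ⊆ centralizingMembers S Y)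
      (centralizing_conj hS.1) hAC hAE hCE h
  · -- no rank one pairs at all
    push Not at hpart
    have hno : ∀ X ∈ S, ∀ Y ∈ S, ¬ IsRankOnePair X Y := by
      intro X hX Y hY hXY
      obtain ⟨E, hE, hCE⟩ := all_partners hS hX hY hXY C hC
      exact hpart E hE hCE
    rcases hdn with hdeg | hnd
    · intro D hD
      rw [mem_centralizingMembers_iff] at hD ⊢
      refine ⟨hD.1, ?_⟩
      rcases hS.1.pair A hA D hD.1 with h0 | hr | hc
      · exact fun d hd x hx => (comm_of_commutator_eq_bot h0 hx hd).symm
      · exact absurd hr (hno A hA D hD.1)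
      · exact absurd hc (hdeg A hA D hD.1)
    · obtain ⟨-, ⟨X, hX, Y, hY, hXY⟩, -⟩ := hnd
      exact absurd hXY (hno X hX Y hY)

end Cfsg.Agent.Helper8.RootOrd
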