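import Mathlib
import Cfsg.Agent.Helper8.RootOrdB

set_option autoImplicit false

/-! Classes of abstract root subgroups, degenerate or not: an inclusion between the sets of rank one
partners of two members forces them to commute and to have the same rank one partners (helper8). -/

namespace Cfsg.Agent.Helper8.RootOrd

open Cfsg Cfsg.Agent.Helper7.R1 Cfsg.Agent.Helper7.Root Cfsg.Agent.Helper8.RootComm
  Cfsg.Agent.Helper8.RootChain Cfsg.Agent.Helper8.RankOneExtra Cfsg.Agent.Helper8.RootOpp
  Cfsg.Agent.Helper8.RootLine Cfsg.Agent.Helper8.RootNat Cfsg.Agent.Helper8.RootGraph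
  Cfsg.Agent.Helper8.RootGen

variable {G : Type*} [Group G] {S : Set (Subgroup G)} {A C E : Subgroup G}

/-- second part: an inclusion between the rank one partners -/
theorem rankOnePartners_eq (hS : IsRootSubgroupClass S)
    (hdn : IsDegenerateRootSet S ∨ IsNondegenerateRootSet S)
    (hA : A ∈ S) (hC : C ∈ S)
    (h : rankOnePartners S A ⊆ rankOnePartners S C) :
    ⁅A, C⁆ = ⊥ ∧ rankOnePartners S A = rankOnePartners S C := by
  have hcomm : ⁅A, C⁆ = ⊥ := by
    rcases hS.1.pair A hA C hC with h0 | hr | hc
    · exact h0
    · exfalso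
      exact (h ⟨hC, hr⟩).2.ne rfl
    · exfalso
      rcases hdn with hdeg | hnd
      · exact hdeg A hA C hC hc
      · obtain ⟨-, ⟨X, hX, Y, hY, hXY⟩, -⟩ := hnd
        have hF := hF_of_class hS hX hY hXY
        -- `K = ⁅A, C⁆` is a line partner of `C`
        have hK : ⁅A, C⁆ ∈ linePartners S C := by
          have := (eadj_symm (eadj_commutator hS.1 hC hA (hF C hC) (RootComm.symm hc))).2.2
          rwa [Subgroup.commutator_comm] at this
        obtain ⟨D, hD, hKD, e⟩ := exists_line_commutator hS.1 hF hC hK
        have hopp : Opp S C A D :=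
          { hS := hS.1
            hA := hC
            hB := hA
            hD := hD.1.1
            h1 := RootComm.symm hc
            hDC := by
              rw [Subgroup.commutator_comm C A, Subgroup.commutator_comm]; exact e }
        have hAD : IsRankOnePair A D := hopp.rankOne
        have hCD := (h ⟨hD.1.1, hAD⟩).2
        exact comm_ne_of_rankOne hCD
          (fun p hp q hq => comm_of_commutator_eq_bot hD.1.2.2 hp hq)
  refine ⟨hcomm, ?_⟩
  apply Set.Subset.antisymm h
  by_cases hpart : ∃ E ∈ S, IsRankOnePair A E
  · obtain ⟨E, hE, hAE⟩ := hpart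
    have hCE : IsRankOnePair C E := (h ⟨hE, hAE⟩).2
    exact swap_rel (R := fun X Y => rankOnePartners S X ⊆ rankOnePartners S Y)
      (rankOnePartners_conj hS.1) (fun a ha c hc => comm_of_commutator_eq_bot hcomm ha hc)
      hAE hCE h
  · push Not at hpart
    rintro P ⟨hP, hCP⟩
    exfalso
    obtain ⟨E, hE, hAE⟩ := all_partners hS hC hP hCP A hA
    exact hpart E hE hAE

end Cfsg.Agent.Helper8.RootOrd
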