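import Mathlib
import Cfsg.Agent.Helper8.RankOneExtra

set_option autoImplicit false

/-! Special rank one pairs: partners, the braid relation and the power formula
`b(aⁿ)ⁿ = b(a)` (helper8). -/

namespace Cfsg.Agent.Helper8.SpecR1

open Cfsg Cfsg.Agent.Helper7.R1

variable {G : Type*} [Group G]

/-- `b = b(a)`: the partner relation between non-identity elements of `A` and `B` -/
def Partner (A B : Subgroup G) (a b : G) : Prop :=
  a ∈ A ∧ a ≠ 1 ∧ b ∈ B ∧ b ≠ 1 ∧ conjBy A b⁻¹ = conjBy B a⁻¹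

theorem Partner.symm {A B : Subgroup G} {a b : G} (h : Partner A B a b) : Partner B A b a :=
  ⟨h.2.2.1, h.2.2.2.1, h.1, h.2.1, h.2.2.2.2.symm⟩

theorem special_symm {A B : Subgroup G} (hs : IsSpecialRankOnePair A B) :
    IsSpecialRankOnePair B A := by
  refine ⟨RankOnePair_symm hs.1, ?_⟩
  intro b hb hb1 a ha ha1 hc
  have h1 := hs.2 a ha ha1 b hb hb1 hc.symm
  have h2 := congrArg (·⁻¹) h1
  simp only [mul_inv_rev, inv_inv] at h2
  rw [← mul_assoc, ← mul_assoc] at h2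
  exact h2.symm

theorem exists_partner_right {A B : Subgroup G} (hp : IsRankOnePair A B) {a : G} (ha : a ∈ A)
    (ha1 : a ≠ 1) : ∃ b, Partner A B a b := by
  obtain ⟨b, hb, hb1, hc⟩ := hp.cond_left a ha ha1
  exact ⟨b, ha, ha1, hb, hb1, hc⟩

theorem exists_partner_left {A B : Subgroup G} (hp : IsRankOnePair A B) {b : G} (hb : b ∈ B)
    (hb1 : b ≠ 1) : ∃ a, Partner A B a b := by
  obtain ⟨a, ha⟩ := exists_partner_right (RankOnePair_symm hp) hb hb1
  exact ⟨a, ha.symm⟩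

theorem partner_unique_right {A B : Subgroup G} (hp : IsRankOnePair A B) {a b b' : G}
    (h : Partner A B a b) (h' : Partner A B a b') : b = b' := by
  obtain ⟨b₀, _, huniq⟩ := existsUnique_partner hp h.1 h.2.1
  rw [huniq b ⟨h.2.2.1, h.2.2.2.1, h.2.2.2.2⟩, huniq b' ⟨h'.2.2.1, h'.2.2.2.1, h'.2.2.2.2⟩]

theorem partner_unique_left {A B : Subgroup G} (hp : IsRankOnePair A B) {a a' b : G}
    (h : Partner A B a b) (h' : Partner A B a' b) : a = a' :=
  partner_unique_right (RankOnePair_symm hp) h.symm h'.symm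

/-- the special relation -/
theorem Partner.special {A B : Subgroup G} (hs : IsSpecialRankOnePair A B) {a b : G}
    (h : Partner A B a b) : b⁻¹ * a * b = a⁻¹ * b⁻¹ * a :=
  hs.2 a h.1 h.2.1 b h.2.2.1 h.2.2.2.1 h.2.2.2.2

/-- in a special rank one pair, `b(a⁻¹) = b(a)⁻¹` -/
theorem Partner.conj_eq {A B : Subgroup G} (hs : IsSpecialRankOnePair A B) {a b : G}
    (h : Partner A B a b) : conjBy A b = conjBy B a := by
  have hp := hs.1
  have e1 : (b⁻¹ * a * b)⁻¹ = b⁻¹ * a⁻¹ * b := by group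
  have e2 : (a⁻¹ * b⁻¹ * a)⁻¹ = a⁻¹ * b * a := by group
  have e3 : b⁻¹ * a⁻¹ * b = a⁻¹ * b * a := by rw [← e1, ← e2, h.special hs]
  have c1 : conjBy A (a⁻¹ * b * a) = conjBy (conjBy A b) a⁻¹ := by
    rw [mul_assoc, conjBy_mul, conjBy_mul, conjBy_of_mem h.1]
  have c2 : conjBy A (b⁻¹ * a⁻¹ * b) = conjBy (conjBy (conjBy A b) a⁻¹) b⁻¹ := by
    rw [mul_assoc, conjBy_mul, conjBy_mul]
  have hfix : conjBy (conjBy (conjBy A b) a⁻¹) b⁻¹ = conjBy (conjBy A b) a⁻¹ := by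
    rw [← c2, e3, c1]
  have hmem : conjBy (conjBy A b) a⁻¹ ∈ unipotentSubgroups A B := by
    refine ⟨a⁻¹ * b, ?_, ?_⟩
    · exact Subgroup.mul_mem _ (Subgroup.mem_sup_left (A.inv_mem h.1))
        (Subgroup.mem_sup_right h.2.2.1)
    · rw [conjBy_mul]
  have hB : conjBy (conjBy A b) a⁻¹ = B := by
    by_contra hne
    have hp' := (pair_of_unipotent hp (right_mem_unipotent hp) hmem (Ne.symm hne)).1
    have := eq_one_of_conjBy_right hp' (B.inv_mem h.2.2.1) hfix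
    exact h.2.2.2.1 (inv_eq_one.1 this)
  rw [conjBy_eq_iff, inv_inv] at hB
  exact hB

theorem Partner.inv {A B : Subgroup G} (hs : IsSpecialRankOnePair A B) {a b : G}
    (h : Partner A B a b) : Partner A B a⁻¹ b⁻¹ := by
  refine ⟨A.inv_mem h.1, by simpa using h.2.1, B.inv_mem h.2.2.1, by simpa using h.2.2.2.1, ?_⟩
  rw [inv_inv, inv_inv]
  exact h.conj_eq hs

/-- the braid relation -/
theorem Partner.braid {A B : Subgroup G} (hs : IsSpecialRankOnePair A B) {a b : G}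
    (h : Partner A B a b) : a * b * a⁻¹ = b * a⁻¹ * b⁻¹ := by
  have h1 := h.special hs
  have h2 : a * b = b * (a⁻¹ * b⁻¹ * a) := by
    rw [← h1]; group
  calc a * b * a⁻¹ = b * (a⁻¹ * b⁻¹ * a) * a⁻¹ := by rw [h2]
    _ = b * a⁻¹ * b⁻¹ := by group

theorem Partner.E_const {A B : Subgroup G} (hs : IsSpecialRankOnePair A B) {a b : G}
    (h : Partner A B a b) (k : ℕ) : a ^ k * b * a⁻¹ * b ^ (k + 1) = b * a⁻¹ * b := by
  induction k with
  | zero => simp
  | succ k ih =>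
    have h1 : a ^ (k + 1) * b * a⁻¹ * b ^ (k + 1 + 1) =
        a ^ k * (a * b * a⁻¹) * b ^ (k + 1 + 1) := by
      rw [pow_succ]; group
    rw [h1, h.braid hs, ← ih]
    have h2 : b ^ (k + 1 + 1) = b * b ^ (k + 1) := pow_succ' b (k + 1)
    rw [h2]
    group

theorem Partner.conj_E {A B : Subgroup G} (hs : IsSpecialRankOnePair A B) {a b : G}
    (h : Partner A B a b) : conjBy A (b * a⁻¹ * b) = B := by
  rw [mul_assoc, conjBy_mul A b (a⁻¹ * b), conjBy_mul A a⁻¹ b, h.conj_eq hs, conjBy_conjBy B a a⁻¹,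
    inv_mul_cancel, conjBy_one, conjBy_of_mem h.2.2.1]

theorem Partner.pow_eq_one_iff {A B : Subgroup G} (hs : IsSpecialRankOnePair A B) {a b : G}
    (h : Partner A B a b) (j : ℕ) : a ^ j = 1 ↔ b ^ j = 1 := by
  have h1 := h.special hs
  have h2 : b⁻¹ = (a * b⁻¹) * a * (a * b⁻¹)⁻¹ := by
    have : (a * b⁻¹) * a * (a * b⁻¹)⁻¹ = a * (b⁻¹ * a * b) * a⁻¹ := by group
    rw [this, h1]; group
  have h3 : (b⁻¹) ^ j = (a * b⁻¹) * a ^ j * (a * b⁻¹)⁻¹ := by
    conv_lhs => rw [h2]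
    rw [conj_pow]
  constructor
  · intro ha
    rw [ha, mul_one, mul_inv_cancel, inv_pow, inv_eq_one] at h3
    exact h3
  · intro hb
    rw [inv_pow, hb, inv_one] at h3
    have h4 := congrArg (fun t => (a * b⁻¹)⁻¹ * t * (a * b⁻¹)) h3
    simp only [mul_one, inv_mul_cancel] at h4
    rw [h4]
    group

end Cfsg.Agent.Helper8.SpecR1
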