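import Mathlib
import Cfsg.Agent.Helper8.SpecR1A
import Cfsg.Prelude.Def_Transfer
import Cfsg.Agent.Helper7.RootSubgroupBasic

set_option autoImplicit false

/-! Special rank one pairs: the power formula `b(aⁿ)ⁿ = b(a)` and the structure of abelian
unipotent subgroups (helper8). -/

namespace Cfsg.Agent.Helper8.SpecR1

open Cfsg Cfsg.Agent.Helper7.R1

variable {G : Type*} [Group G]

/-- the power formula: if `d` is the partner of `bⁿ ≠ 1` and `a` the partner of `b`, then
`dⁿ = a` -/
theorem pow_partner (n : ℕ) : ∀ (A B : Subgroup G), IsSpecialRankOnePair A B → ∀ a b d : G,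
    Partner A B a b → b ^ n ≠ 1 → Partner A B d (b ^ n) → d ^ n = a := by
  induction n with
  | zero =>
    intro A B hs a b d _ h0
    exact absurd (pow_zero b) h0
  | succ k ih =>
    intro A B hs a b d hab hne hd
    have hp := hs.1
    by_cases hak : a ^ k = 1
    · have hbk : b ^ k = 1 := (hab.pow_eq_one_iff hs k).1 hak
      have hb : b ^ (k + 1) = b := by rw [pow_succ, hbk, one_mul]
      rw [hb] at hd
      have hda : d = a := partner_unique_left hp hd hab
      rw [hda, pow_succ, hak, one_mul]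
    · obtain ⟨bk, hbk⟩ := exists_partner_right hp (A.pow_mem hab.1 k) hak
      have h1 : bk ^ k = b := ih B A (special_symm hs) b a bk hab.symm hak hbk.symm
      have hβk : (bk ^ (k + 1)) ^ k = b ^ (k + 1) := by
        rw [← pow_mul, mul_comm, pow_mul, h1]
      have hβk1 : (bk ^ (k + 1)) ^ k ≠ 1 := by rw [hβk]; exact hne
      have hβ1 : bk ^ (k + 1) ≠ 1 := by
        intro e
        apply hβk1
        rw [e, one_pow]
      have hβB : bk ^ (k + 1) ∈ B := B.pow_mem hbk.2.2.1 _
      obtain ⟨e, he⟩ := exists_partner_left hp hβB hβ1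
      have hd' : Partner A B d ((bk ^ (k + 1)) ^ k) := by rw [hβk]; exact hd
      have h2 : d ^ k = e := ih A B hs e (bk ^ (k + 1)) d he hβk1 hd'
      have hcE := hab.conj_E hs
      rw [← hab.E_const hs k] at hcE
      have hd_inv := (hd.inv hs).2.2.2.2
      rw [inv_inv, inv_inv] at hd_inv
      have c1 : conjBy A (a ^ k * b * a⁻¹ * b ^ (k + 1)) =
          conjBy B (a ^ k * b * (a⁻¹ * d)) := by
        rw [conjBy_mul A (a ^ k * b * a⁻¹) (b ^ (k + 1)), hd_inv, conjBy_conjBy]
        congr 1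
        group
      rw [c1] at hcE
      have c2 : conjBy B (b * (a⁻¹ * d)) = conjBy B (a ^ k)⁻¹ := by
        have h3 := congrArg (fun C => conjBy C (a ^ k)⁻¹) hcE
        rw [conjBy_conjBy] at h3
        rw [← h3]
        congr 1
        group
      rw [← hbk.2.2.2.2] at c2
      have c3 : conjBy B (a⁻¹ * d) = conjBy A (bk ^ (k + 1))⁻¹ := by
        have h3 := congrArg (fun C => conjBy C b⁻¹) c2
        rw [conjBy_conjBy, conjBy_conjBy] at h3
        have e1 : b⁻¹ * (b * (a⁻¹ * d)) = a⁻¹ * d := by group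
        have e2 : b⁻¹ * bk⁻¹ = (bk ^ (k + 1))⁻¹ := by
          rw [pow_succ', h1, mul_inv_rev]
        rw [e1, e2] at h3
        exact h3
      rw [he.2.2.2.2] at c3
      have c4 : a⁻¹ * d = e⁻¹ :=
        conjBy_right_inj hp (A.mul_mem (A.inv_mem hab.1) hd.1) (A.inv_mem he.1) c3
      have c5 : d * e = a := by
        have h3 : d = a * e⁻¹ := by rw [← c4]; group
        rw [h3]; group
      rw [pow_succ', h2]
      exact c5

/-- abelian unipotent subgroups of a special rank one pair are elementary abelian or torsion-free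
and divisible -/
theorem elemAbelian_or_divisible {A B : Subgroup G} (hs : IsSpecialRankOnePair A B)
    (hA : IsMulCommutative A) :
    (∃ p : ℕ, p.Prime ∧ IsElementaryAbelian p A) ∨
    ((∀ a ∈ A, a ≠ 1 → ¬ IsOfFinOrder a) ∧ ∀ a ∈ A, ∀ n : ℕ, 0 < n → ∃ c ∈ A, c ^ n = a) := by
  have hp := hs.1
  by_cases htf : ∀ a ∈ A, a ≠ 1 → ¬ IsOfFinOrder a
  · right
    refine ⟨htf, ?_⟩
    intro a ha n hn
    by_cases ha1 : a = 1
    · exact ⟨1, A.one_mem, by rw [ha1, one_pow]⟩
    · obtain ⟨b, hab⟩ := exists_partner_right hp ha ha1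
      have hbn : b ^ n ≠ 1 := by
        intro e
        have := (hab.pow_eq_one_iff hs n).2 e
        exact htf a ha ha1 (isOfFinOrder_iff_pow_eq_one.2 ⟨n, hn, this⟩)
      obtain ⟨d, hd⟩ := exists_partner_left hp (B.pow_mem hab.2.2.1 n) hbn
      exact ⟨d, hd.1, pow_partner n A B hs a b d hab hbn hd⟩
  · left
    push Not at htf
    obtain ⟨a₀, ha₀, ha₀1, hfin⟩ := htf
    have hn0 : orderOf a₀ ≠ 0 := (orderOf_pos_iff.2 hfin).ne'
    have hn1 : orderOf a₀ ≠ 1 := fun e => ha₀1 (orderOf_eq_one_iff.1 e)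
    obtain ⟨p, hpp, hpn⟩ := Nat.exists_prime_and_dvd hn1
    refine ⟨p, hpp, hA, ?_⟩
    obtain ⟨a, ha, hap, ha1⟩ : ∃ a ∈ A, a ^ p = 1 ∧ a ≠ 1 := by
      refine ⟨a₀ ^ (orderOf a₀ / p), A.pow_mem ha₀ _, ?_, ?_⟩
      · have e : orderOf (a₀ ^ (orderOf a₀ / p)) = p := orderOf_pow_orderOf_div hn0 hpn
        have := pow_orderOf_eq_one (a₀ ^ (orderOf a₀ / p))
        rwa [e] at this
      · intro e
        have e2 : orderOf (a₀ ^ (orderOf a₀ / p)) = p := orderOf_pow_orderOf_div hn0 hpn
        rw [e, orderOf_one] at e2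
        exact hpp.one_lt.ne e2
    intro x hx
    by_contra hxp
    have hx1 : x ≠ 1 := by
      intro e
      apply hxp
      rw [e, one_pow]
    have hcomm : Commute x a := Cfsg.Agent.Helper7.Root.comm_of_isMulCommutative hA hx ha
    have hyp : (x * a) ^ p = x ^ p := by rw [hcomm.mul_pow, hap, mul_one]
    have hy1 : x * a ≠ 1 := by
      intro e
      apply hxp
      rw [← hyp, e, one_pow]
    have hyA : x * a ∈ A := A.mul_mem hx ha
    obtain ⟨bx, hbx⟩ := exists_partner_right hp hx hx1
    obtain ⟨by', hby⟩ := exists_partner_right hp hyA hy1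
    obtain ⟨c, hc⟩ := exists_partner_right hp (A.pow_mem hx p) hxp
    have h1 : c ^ p = bx :=
      pow_partner p B A (special_symm hs) bx x c hbx.symm hxp hc.symm
    have hc' : Partner A B ((x * a) ^ p) c := by rw [hyp]; exact hc
    have h2 : c ^ p = by' :=
      pow_partner p B A (special_symm hs) by' (x * a) c hby.symm (by rw [hyp]; exact hxp) hc'.symm
    rw [← h2, h1] at hby
    have := partner_unique_left hp hbx hby
    apply ha1
    have h3 : x * a = x * 1 := by rw [mul_one]; exact this.symm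
    exact mul_left_cancel h3

end Cfsg.Agent.Helper8.SpecR1
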