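import Mathlib
import Cfsg.Agent.Helper8.SpecR1B

set_option autoImplicit false

/-! Special rank one pairs with abelian unipotent subgroups: the elements `n(a) = b a⁻¹ b`
(`b = b(a)`), the diagonal elements `n(e)⁻¹ n(a)` and the formula for the action of `n(a)` on `A`
(helper8). -/

namespace Cfsg.Agent.Helper8.SpecH

open Cfsg Cfsg.Agent.Helper7.R1 Cfsg.Agent.Helper8.SpecR1

variable {G : Type*} [Group G] {A B : Subgroup G}

theorem inv_special (hs : IsSpecialRankOnePair A B) {a b : G} (h : Partner A B a b) :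
    a⁻¹ * b * a = b⁻¹ * a⁻¹ * b := by
  have h1 := h.special hs
  have e1 : (b⁻¹ * a * b)⁻¹ = b⁻¹ * a⁻¹ * b := by group
  have e2 : (a⁻¹ * b⁻¹ * a)⁻¹ = a⁻¹ * b * a := by group
  rw [← e1, ← e2, h1]

/-- `b a⁻¹ b = a⁻¹ b a⁻¹` -/
theorem nE_eq (hs : IsSpecialRankOnePair A B) {a b : G} (h : Partner A B a b) :
    b * a⁻¹ * b = a⁻¹ * b * a⁻¹ := by
  have h2 := inv_special hs h
  have e3 : b * (a⁻¹ * b * a) * a⁻¹ = b * a⁻¹ * b := by group
  have e4 : b * (b⁻¹ * a⁻¹ * b) * a⁻¹ = a⁻¹ * b * a⁻¹ := by group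
  rw [← e3, ← e4, h2]

/-- `n(a)` maps `A` to `B` -/
theorem conj_nE_left (hs : IsSpecialRankOnePair A B) {a b : G} (h : Partner A B a b) :
    conjBy A (b * a⁻¹ * b) = B := h.conj_E hs

/-- `n(a)` maps `B` to `A` -/
theorem conj_nE_right (hs : IsSpecialRankOnePair A B) {a b : G} (h : Partner A B a b) :
    conjBy B (b * a⁻¹ * b) = A := by
  rw [nE_eq hs h, mul_assoc, conjBy_mul B a⁻¹ (b * a⁻¹), conjBy_mul B b a⁻¹, ← h.2.2.2.2,
    conjBy_conjBy A b⁻¹ b, mul_inv_cancel, conjBy_one, conjBy_of_mem (A.inv_mem h.1)]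

theorem conj_nE_inv_left (hs : IsSpecialRankOnePair A B) {a b : G} (h : Partner A B a b) :
    conjBy A (b * a⁻¹ * b)⁻¹ = B := by
  have := conj_nE_right hs h
  rw [conjBy_eq_iff] at this
  exact this.symm

theorem conj_nE_inv_right (hs : IsSpecialRankOnePair A B) {a b : G} (h : Partner A B a b) :
    conjBy B (b * a⁻¹ * b)⁻¹ = A := by
  have := conj_nE_left hs h
  rw [conjBy_eq_iff] at this
  exact this.symm

/-- `n(a) a n(a)⁻¹ = b(a)⁻¹` -/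
theorem nE_conj_self (hs : IsSpecialRankOnePair A B) {a b : G} (h : Partner A B a b) :
    (b * a⁻¹ * b) * a * (b * a⁻¹ * b)⁻¹ = b⁻¹ := by
  have h1 := (h.inv hs).special hs
  rw [inv_inv, inv_inv] at h1
  -- h1 : b * a⁻¹ * b⁻¹ = a * b * a⁻¹
  have h2 : b * a * b⁻¹ = a * b⁻¹ * a⁻¹ := by
    have e1 : (b * a⁻¹ * b⁻¹)⁻¹ = b * a * b⁻¹ := by group
    have e2 : (a * b * a⁻¹)⁻¹ = a * b⁻¹ * a⁻¹ := by group
    rw [← e1, ← e2, h1]
  calc (b * a⁻¹ * b) * a * (b * a⁻¹ * b)⁻¹ = b * a⁻¹ * (b * a * b⁻¹) * a * b⁻¹ := by group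
    _ = b * a⁻¹ * (a * b⁻¹ * a⁻¹) * a * b⁻¹ := by rw [h2]
    _ = b⁻¹ := by group

theorem nE_mem_sup {a b : G} (h : Partner A B a b) : b * a⁻¹ * b ∈ A ⊔ B :=
  Subgroup.mul_mem _ (Subgroup.mul_mem _ (Subgroup.mem_sup_right h.2.2.1)
    (Subgroup.mem_sup_left (A.inv_mem h.1))) (Subgroup.mem_sup_right h.2.2.1)

/-- the diagonal elements `n(e)⁻¹ n(a)` -/
theorem hua_mem (hs : IsSpecialRankOnePair A B) {e f a b : G} (he : Partner A B e f)
    (h : Partner A B a b) :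
    (f * e⁻¹ * f)⁻¹ * (b * a⁻¹ * b) ∈ rankOneDiagonal A B := by
  refine ⟨⟨?_, ?_⟩, ?_⟩
  · exact Subgroup.mul_mem _ (Subgroup.inv_mem _ (nE_mem_sup he)) (nE_mem_sup h)
  · apply mem_normalizer_of_conjBy
    rw [conjBy_mul, conj_nE_left hs h, conj_nE_inv_right hs he]
  · apply mem_normalizer_of_conjBy
    rw [conjBy_mul, conj_nE_right hs h, conj_nE_inv_left hs he]

/-- the formula for the action of `n(a)` on `A`: if `β = b(x)`, `γ = b β = b(x₁)` and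
`δ = b(a⁻¹ x₁)`, then `n(a) x n(a)⁻¹ = b δ` -/
theorem nE_conj_formula (hs : IsSpecialRankOnePair A B) {a b x β x₁ δ : G}
    (h : Partner A B a b) (hx : Partner A B x β) (h1 : Partner A B x₁ (b * β))
    (h2 : Partner A B (a⁻¹ * x₁) δ) :
    (b * a⁻¹ * b) * x * (b * a⁻¹ * b)⁻¹ = b * δ := by
  have hp := hs.1
  have hp' := RankOnePair_symm hp
  -- both sides lie in `B` and conjugate `A` to the same subgroup
  have hmem : (b * a⁻¹ * b) * x * (b * a⁻¹ * b)⁻¹ ∈ B := by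
    have : (b * a⁻¹ * b) * x * (b * a⁻¹ * b)⁻¹ ∈ conjBy A (b * a⁻¹ * b) := by
      rw [mem_conjBy]
      have e : (b * a⁻¹ * b)⁻¹ * ((b * a⁻¹ * b) * x * (b * a⁻¹ * b)⁻¹) * (b * a⁻¹ * b) = x := by
        group
      rw [e]; exact hx.1
    rwa [conj_nE_left hs h] at this
  have hmem2 : b * δ ∈ B := B.mul_mem h.2.2.1 h2.2.2.1
  apply conjBy_right_inj hp' hmem hmem2
  -- left side
  have e1 : conjBy A ((b * a⁻¹ * b) * x * (b * a⁻¹ * b)⁻¹) =
      conjBy (conjBy B x) (b * a⁻¹ * b) := by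
    rw [conjBy_conjBy, conjBy_mul A ((b * a⁻¹ * b) * x) (b * a⁻¹ * b)⁻¹, conj_nE_inv_left hs h]
  have e2 : conjBy (conjBy B x) (b * a⁻¹ * b) = conjBy A (b * δ) := by
    rw [← hx.conj_eq hs, conjBy_conjBy, mul_assoc (b * a⁻¹) b β, mul_assoc b a⁻¹ (b * β),
      conjBy_mul A b (a⁻¹ * (b * β)), conjBy_mul A a⁻¹ (b * β), h1.conj_eq hs,
      conjBy_conjBy B x₁ a⁻¹, ← h2.conj_eq hs, conjBy_conjBy]
  rw [e1, e2]

end Cfsg.Agent.Helper8.SpecH
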