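import Mathlib
import Cfsg.Agent.Helper8.SpecHA

set_option autoImplicit false

/-! Special rank one pairs with abelian unipotent subgroups: `A = [A, H]` as soon as `A` has more
than three elements (helper8). -/

namespace Cfsg.Agent.Helper8.SpecH

open Cfsg Cfsg.Agent.Helper7.R1 Cfsg.Agent.Helper8.SpecR1
open scoped IsMulCommutative commutatorElement

variable {G : Type*} [Group G] {A B : Subgroup G}

theorem comm_diag_le (A B : Subgroup G) : ⁅A, rankOneDiagonal A B⁆ ≤ A := by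
  rw [Subgroup.commutator_le]
  intro a ha k hk
  have hkN : k ∈ Subgroup.normalizer (A : Set G) := hk.1.2
  have h1 : k * a⁻¹ * k⁻¹ ∈ A := (Subgroup.mem_normalizer_iff.mp hkN a⁻¹).mp (A.inv_mem ha)
  have e : ⁅a, k⁆ = a * (k * a⁻¹ * k⁻¹) := by
    rw [commutatorElement_def]; group
  rw [e]
  exact A.mul_mem ha h1

/-- conjugation by a diagonal element is trivial modulo `[A, H]` -/
theorem conj_diag_cong {k y : G} (hk : k ∈ rankOneDiagonal A B) (hy : y ∈ A) :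
    k * y * k⁻¹ * y⁻¹ ∈ ⁅A, rankOneDiagonal A B⁆ := by
  have : ⁅k, y⁆ ∈ ⁅rankOneDiagonal A B, A⁆ := Subgroup.commutator_mem_commutator hk hy
  rw [Subgroup.commutator_comm] at this
  exact this

/-- `ψ(y) = n(a)⁻¹ b(y)⁻¹ n(a)` lies in `A` and is congruent to `y` modulo `[A, H]` -/
theorem psi_cong (hs : IsSpecialRankOnePair A B) {a b y β : G} (h : Partner A B a b)
    (hy : Partner A B y β) :
    (b * a⁻¹ * b)⁻¹ * β⁻¹ * (b * a⁻¹ * b) ∈ A ∧
    ((b * a⁻¹ * b)⁻¹ * β⁻¹ * (b * a⁻¹ * b)) * y⁻¹ ∈ ⁅A, rankOneDiagonal A B⁆ := by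
  have hk := hua_mem hs h hy
  have hself := nE_conj_self hs hy
  have e : (b * a⁻¹ * b)⁻¹ * β⁻¹ * (b * a⁻¹ * b) =
      ((b * a⁻¹ * b)⁻¹ * (β * y⁻¹ * β)) * y * ((b * a⁻¹ * b)⁻¹ * (β * y⁻¹ * β))⁻¹ := by
    rw [← hself]; group
  constructor
  · rw [e]
    exact (Subgroup.mem_normalizer_iff.mp hk.1.2 y).mp hy.1
  · rw [e]
    exact conj_diag_cong hk hy.1

theorem comm_alg {Q : Type*} [CommGroup Q] {a x x₁ x₂ p p₁ p₂ : Q} (c : p = x) (c1 : p₁ = x₁)
    (c2 : p₂ = x₂) (e7 : x = a⁻¹ * p₂⁻¹) (e8 : p₁⁻¹ = a⁻¹ * p⁻¹) (e9 : x₂ = a⁻¹ * x₁) :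
    a * x * x = 1 := by
  rw [c] at e8
  rw [c1] at e8
  rw [c2] at e7
  have h1 : x₁ = a * x := by rw [← inv_inj, e8, mul_inv]
  have h2 : x₂ = x := by rw [e9, h1, inv_mul_cancel_left]
  rw [h2] at e7
  calc a * x * x = a * x * (a⁻¹ * x⁻¹) := congrArg (a * x * ·) e7
    _ = 1 := by rw [mul_mul_mul_comm, mul_inv_cancel, mul_inv_cancel, one_mul]

/-- the key congruence: `a x² ∈ [A, H]` -/
theorem star (hs : IsSpecialRankOnePair A B) (hA : IsMulCommutative A) {a x : G} (ha : a ∈ A)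
    (ha1 : a ≠ 1) (hx : x ∈ A) (hx1 : x ≠ 1) (hxa : x ≠ a⁻¹) :
    a * x * x ∈ ⁅A, rankOneDiagonal A B⁆ := by
  have hp := hs.1
  obtain ⟨b, h⟩ := exists_partner_right hp ha ha1
  obtain ⟨β, hβ⟩ := exists_partner_right hp hx hx1
  have hγ1 : b * β ≠ 1 := by
    intro e
    have e' : β = b⁻¹ := eq_inv_of_mul_eq_one_right e
    rw [e'] at hβ
    exact hxa (partner_unique_left hp hβ (h.inv hs))
  obtain ⟨x₁, h1⟩ := exists_partner_left hp (B.mul_mem h.2.2.1 hβ.2.2.1) hγ1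
  have hx₁a : a⁻¹ * x₁ ≠ 1 := by
    intro e
    have e' : a = x₁ := inv_mul_eq_one.mp e
    rw [← e'] at h1
    have e2 : b = b * β := partner_unique_right hp h h1
    exact hβ.2.2.2.1 (left_eq_mul.mp e2)
  obtain ⟨δ, h2⟩ := exists_partner_right hp (A.mul_mem (A.inv_mem ha) h1.1) hx₁a
  have hform := nE_conj_formula hs h hβ h1 h2
  obtain ⟨mx, cx⟩ := psi_cong hs h hβ
  obtain ⟨m1, cx1⟩ := psi_cong hs h h1
  obtain ⟨m2, cx2⟩ := psi_cong hs h h2
  have hself := nE_conj_self hs h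
  set n := b * a⁻¹ * b with hn
  -- identities in `G`
  have E7 : x = a⁻¹ * (n⁻¹ * δ⁻¹ * n)⁻¹ := by
    have e1 : x = n⁻¹ * (n * x * n⁻¹) * n := by group
    have e2 : a⁻¹ = n⁻¹ * (n * a * n⁻¹)⁻¹ * n := by group
    rw [e2, hself, e1, hform]
    group
  have E8 : (n⁻¹ * (b * β)⁻¹ * n)⁻¹ = a⁻¹ * (n⁻¹ * β⁻¹ * n)⁻¹ := by
    have e2 : a⁻¹ = n⁻¹ * (n * a * n⁻¹)⁻¹ * n := by group
    rw [e2, hself]
    group
  -- pass to the quotient of `A` by `[A, H]`
  have : IsMulCommutative ↥A := hA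
  let N : Subgroup ↥A := (⁅A, rankOneDiagonal A B⁆).subgroupOf A
  let π : ↥A →* ↥A ⧸ N := QuotientGroup.mk' N
  have hπ : ∀ (u v : ↥A), (u : G) * (v : G)⁻¹ ∈ ⁅A, rankOneDiagonal A B⁆ → π u = π v := by
    intro u v huv
    have : π (u * v⁻¹) = 1 := by
      rw [QuotientGroup.mk'_apply, QuotientGroup.eq_one_iff]
      exact huv
    rw [map_mul, map_inv, mul_inv_eq_one] at this
    exact this
  have key := comm_alg (Q := ↥A ⧸ N) (a := π ⟨a, ha⟩) (x := π ⟨x, hx⟩) (x₁ := π ⟨x₁, h1.1⟩)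
    (x₂ := π ⟨a⁻¹ * x₁, h2.1⟩) (p := π ⟨_, mx⟩) (p₁ := π ⟨_, m1⟩) (p₂ := π ⟨_, m2⟩)
    (hπ _ _ cx) (hπ _ _ cx1) (hπ _ _ cx2)
    (by
      rw [← map_inv, ← map_inv, ← map_mul]
      congr 1
      apply Subtype.ext
      exact E7)
    (by
      rw [← map_inv, ← map_inv, ← map_inv, ← map_mul]
      congr 1
      apply Subtype.ext
      exact E8)
    (by
      rw [← map_inv, ← map_mul]
      congr 1)
  rw [← map_mul, ← map_mul, QuotientGroup.mk'_apply, QuotientGroup.eq_one_iff] at key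
  exact key

theorem mem_comm_of_third (hs : IsSpecialRankOnePair A B) (hA : IsMulCommutative A) {a y : G}
    (ha : a ∈ A) (ha1 : a ≠ 1) (hy : y ∈ A) (hy1 : y ≠ 1) (hya : y ≠ a) (hya' : y ≠ a⁻¹) :
    y ∈ ⁅A, rankOneDiagonal A B⁆ := by
  have s1 := star hs hA ha ha1 hy hy1 hya'
  have s2 := star hs hA ha ha1 (A.inv_mem hy) (inv_ne_one.mpr hy1)
    (by intro e; exact hya (inv_injective e))
  have s3 := star hs hA hy hy1 ha ha1 (by intro e; apply hya'; rw [e, inv_inv])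
  have c : Commute a y := Cfsg.Agent.Helper7.Root.comm_of_isMulCommutative hA ha hy
  have e1 : (a * y * y) * (a * y⁻¹ * y⁻¹) = a * a := by
    calc (a * y * y) * (a * y⁻¹ * y⁻¹) = a * (y * y * a) * (y⁻¹ * y⁻¹) := by group
      _ = a * (a * (y * y)) * (y⁻¹ * y⁻¹) := by rw [(c.symm.mul_left c.symm).eq]
      _ = a * a := by group
  have s4 : a * a ∈ ⁅A, rankOneDiagonal A B⁆ := e1 ▸ Subgroup.mul_mem _ s1 s2
  have e2 : y = (y * a * a) * (a * a)⁻¹ := by group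
  rw [e2]
  exact Subgroup.mul_mem _ s3 (Subgroup.inv_mem _ s4)

/-- `A = [A, H]` as soon as `A` has more than three elements -/
theorem le_comm_diag (hs : IsSpecialRankOnePair A B) (hA : IsMulCommutative A)
    (h3 : 3 < ENat.card A) : A ≤ ⁅A, rankOneDiagonal A B⁆ := by
  intro a ha
  by_cases ha1 : a = 1
  · rw [ha1]; exact Subgroup.one_mem _
  obtain ⟨y, hy, hy1, hya, hya'⟩ : ∃ y ∈ A, y ≠ 1 ∧ y ≠ a ∧ y ≠ a⁻¹ := by
    by_contra hcon
    push Not at hcon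
    have hsub : (A : Set G) ⊆ {1, a, a⁻¹} := by
      intro y hy
      by_cases h1 : y = 1
      · left; exact h1
      by_cases h2 : y = a
      · right; left; exact h2
      right; right; exact hcon y hy h1 h2
    have hcard : ENat.card A ≤ 3 := by
      calc ENat.card A = (A : Set G).encard := rfl
        _ ≤ ({1, a, a⁻¹} : Set G).encard := Set.encard_le_encard hsub
        _ ≤ ({a, a⁻¹} : Set G).encard + 1 := Set.encard_insert_le _ _
        _ ≤ (({a⁻¹} : Set G).encard + 1) + 1 := by gcongr; exact Set.encard_insert_le _ _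
        _ = 3 := by rw [Set.encard_singleton]; rfl
    exact absurd h3 (not_lt.mpr hcard)
  exact mem_comm_of_third hs hA hy hy1 ha ha1 (Ne.symm hya)
    (by intro e; apply hya'; rw [e, inv_inv])

theorem comm_diag_eq (hs : IsSpecialRankOnePair A B) (hA : IsMulCommutative A)
    (h3 : 3 < ENat.card A) : ⁅A, rankOneDiagonal A B⁆ = A :=
  le_antisymm (comm_diag_le A B) (le_comm_diag hs hA h3)

end Cfsg.Agent.Helper8.SpecH
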