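import Mathlib
import Cfsg.Agent.Helper8.SpecR1B

set_option autoImplicit false

/-! Special rank one pairs with cyclic unipotent subgroups of prime order, obtained from the
braid-type relations `(bᵐ)⁻¹ aᵏ bᵐ = (aᵏ)⁻¹ (bᵐ)⁻¹ aᵏ` (`k m ≡ 1 mod p`) (helper8). -/

namespace Cfsg.Agent.Helper8.SpecSL2

open Cfsg Cfsg.Agent.Helper7.R1 Cfsg.Agent.Helper8.SpecR1

variable {G : Type*} [Group G]

/-- the braid-type relations between `a` and `b` -/
def Rel (p : ℕ) (a b : G) : Prop :=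
  ∀ k m : ℕ, (k * m) % p = 1 → (b ^ m)⁻¹ * a ^ k * b ^ m = (a ^ k)⁻¹ * (b ^ m)⁻¹ * a ^ k

theorem conjBy_zpowers (a g : G) :
    conjBy (Subgroup.zpowers a) g = Subgroup.zpowers (g * a * g⁻¹) := by
  show (Subgroup.zpowers a).map (MulAut.conj g).toMonoidHom = _
  rw [MonoidHom.map_zpowers]
  rfl

theorem nilpotent_zpowers (a : G) : Group.IsNilpotent ↥(Subgroup.zpowers a) := by
  let _i : CommGroup ↥(Subgroup.zpowers a) := IsCyclic.commGroup
  exact CommGroup.isNilpotent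

theorem exists_pow_of_mem_zpowers {p : ℕ} (_hp : p.Prime) {a x : G} (hap : a ^ p = 1)
    (hx : x ∈ Subgroup.zpowers a) : ∃ n : ℕ, x = a ^ n := by
  obtain ⟨k, rfl⟩ := Subgroup.mem_zpowers_iff.mp hx
  have hp0 : (p : ℤ) ≠ 0 := by exact_mod_cast _hp.ne_zero
  have h1 : a ^ (p : ℤ) = 1 := by rw [zpow_natCast]; exact hap
  refine ⟨(k % (p : ℤ)).toNat, ?_⟩
  rw [zpow_eq_zpow_emod k h1, ← zpow_natCast, Int.toNat_of_nonneg (Int.emod_nonneg k hp0)]

theorem mod_ne_zero_of_mul {p k m : ℕ} (hp : p.Prime) (h : (k * m) % p = 1) : k % p ≠ 0 := by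
  intro hk
  have : (k * m) % p = 0 := by
    rw [Nat.mul_mod, hk, zero_mul, Nat.zero_mod]
  omega

theorem pow_ne_one_of_mod {p : ℕ} (hp : p.Prime) {a : G} (hap : a ^ p = 1) (ha1 : a ≠ 1) {k : ℕ}
    (hk : k % p ≠ 0) : a ^ k ≠ 1 := by
  intro h
  have hord : orderOf a = p := by
    rcases (Nat.dvd_prime hp).mp (orderOf_dvd_of_pow_eq_one hap) with h1 | h1
    · exact absurd (orderOf_eq_one_iff.mp h1) ha1
    · exact h1
  have := orderOf_dvd_of_pow_eq_one h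
  rw [hord] at this
  exact hk (Nat.mod_eq_zero_of_dvd this)

theorem exists_inv_mod {p k : ℕ} (hp : p.Prime) (hk : k % p ≠ 0) : ∃ m : ℕ, (k * m) % p = 1 := by
  have hcop : Nat.Coprime k p := by
    rw [Nat.coprime_comm]
    exact (Nat.Prime.coprime_iff_not_dvd hp).mpr (fun h => hk (Nat.mod_eq_zero_of_dvd h))
  obtain ⟨m, -, hm⟩ := Nat.exists_mul_mod_eq_one_of_coprime hcop hp.one_lt
  exact ⟨m, hm⟩

theorem zpowers_pow_eq {p : ℕ} (hp : p.Prime) {a : G} (hap : a ^ p = 1) {k : ℕ}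
    (hk : k % p ≠ 0) : Subgroup.zpowers (a ^ k) = Subgroup.zpowers a := by
  apply le_antisymm
  · rw [Subgroup.zpowers_le]
    exact (Subgroup.zpowers a).pow_mem (Subgroup.mem_zpowers a) k
  · rw [Subgroup.zpowers_le]
    obtain ⟨m, hm⟩ := exists_inv_mod hp hk
    have : a = (a ^ k) ^ m := by
      rw [← pow_mul, pow_eq_pow_mod (k * m) hap, hm, pow_one]
    have h1 : (a ^ k) ^ m ∈ Subgroup.zpowers (a ^ k) :=
      (Subgroup.zpowers (a ^ k)).pow_mem (Subgroup.mem_zpowers _) m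
    rwa [← this] at h1

theorem conj_eq_of_rel {p : ℕ} (hp : p.Prime) {a b : G} (hap : a ^ p = 1) (hbp : b ^ p = 1)
    (hR : Rel p a b) {k m : ℕ} (hkm : (k * m) % p = 1) :
    conjBy (Subgroup.zpowers a) (b ^ m)⁻¹ = conjBy (Subgroup.zpowers b) (a ^ k)⁻¹ := by
  have hk : k % p ≠ 0 := mod_ne_zero_of_mul hp hkm
  have hm : m % p ≠ 0 := mod_ne_zero_of_mul hp (by rwa [mul_comm] at hkm)
  have e1 : Subgroup.zpowers a = Subgroup.zpowers (a ^ k) := (zpowers_pow_eq hp hap hk).symm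
  have e2 : Subgroup.zpowers b = Subgroup.zpowers ((b ^ m)⁻¹) := by
    rw [Subgroup.zpowers_inv, zpowers_pow_eq hp hbp hm]
  conv_lhs => rw [e1]
  conv_rhs => rw [e2]
  rw [conjBy_zpowers, conjBy_zpowers, inv_inv, inv_inv, hR k m hkm]

/-- the pair `(⟨a⟩, ⟨b⟩)` is a rank one pair -/
theorem isRankOnePair_of_rel {p : ℕ} (hp : p.Prime) {a b : G} (hap : a ^ p = 1) (hbp : b ^ p = 1)
    (ha1 : a ≠ 1) (hb1 : b ≠ 1) (hne : Subgroup.zpowers a ≠ Subgroup.zpowers b)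
    (hR : Rel p a b) : IsRankOnePair (Subgroup.zpowers a) (Subgroup.zpowers b) := by
  refine ⟨hne, ?_, ?_, ?_, ?_⟩
  · exact nilpotent_zpowers a
  · exact nilpotent_zpowers b
  · intro a' ha' ha'1
    obtain ⟨k, rfl⟩ := exists_pow_of_mem_zpowers hp hap ha'
    have hk : k % p ≠ 0 := by
      intro hk
      apply ha'1
      rw [pow_eq_pow_mod k hap, hk, pow_zero]
    obtain ⟨m, hm⟩ := exists_inv_mod hp hk
    have hm' : m % p ≠ 0 := mod_ne_zero_of_mul hp (by rwa [mul_comm] at hm)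
    exact ⟨b ^ m, (Subgroup.zpowers b).pow_mem (Subgroup.mem_zpowers b) m,
      pow_ne_one_of_mod hp hbp hb1 hm', conj_eq_of_rel hp hap hbp hR hm⟩
  · intro b' hb' hb'1
    obtain ⟨m, rfl⟩ := exists_pow_of_mem_zpowers hp hbp hb'
    have hm : m % p ≠ 0 := by
      intro hm
      apply hb'1
      rw [pow_eq_pow_mod m hbp, hm, pow_zero]
    obtain ⟨k, hk⟩ := exists_inv_mod hp hm
    rw [mul_comm] at hk
    have hk' : k % p ≠ 0 := mod_ne_zero_of_mul hp hk
    exact ⟨a ^ k, (Subgroup.zpowers a).pow_mem (Subgroup.mem_zpowers a) k,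
      pow_ne_one_of_mod hp hap ha1 hk', (conj_eq_of_rel hp hap hbp hR hk).symm⟩

/-- the partners in `(⟨a⟩, ⟨b⟩)` -/
theorem partner_of_rel {p : ℕ} (hp : p.Prime) {a b : G} (hap : a ^ p = 1) (hbp : b ^ p = 1)
    (ha1 : a ≠ 1) (hb1 : b ≠ 1) (hR : Rel p a b) {k m : ℕ} (hkm : (k * m) % p = 1) :
    Partner (Subgroup.zpowers a) (Subgroup.zpowers b) (a ^ k) (b ^ m) := by
  have hk : k % p ≠ 0 := mod_ne_zero_of_mul hp hkm
  have hm : m % p ≠ 0 := mod_ne_zero_of_mul hp (by rwa [mul_comm] at hkm)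
  exact ⟨(Subgroup.zpowers a).pow_mem (Subgroup.mem_zpowers a) k, pow_ne_one_of_mod hp hap ha1 hk,
    (Subgroup.zpowers b).pow_mem (Subgroup.mem_zpowers b) m, pow_ne_one_of_mod hp hbp hb1 hm,
    conj_eq_of_rel hp hap hbp hR hkm⟩

/-- the pair `(⟨a⟩, ⟨b⟩)` is a special rank one pair -/
theorem isSpecial_of_rel {p : ℕ} (hp : p.Prime) {a b : G} (hap : a ^ p = 1) (hbp : b ^ p = 1)
    (ha1 : a ≠ 1) (hb1 : b ≠ 1) (hne : Subgroup.zpowers a ≠ Subgroup.zpowers b)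
    (hR : Rel p a b) : IsSpecialRankOnePair (Subgroup.zpowers a) (Subgroup.zpowers b) := by
  have hpair := isRankOnePair_of_rel hp hap hbp ha1 hb1 hne hR
  refine ⟨hpair, ?_⟩
  intro a' ha' ha'1 b' hb' hb'1 hc
  obtain ⟨k, rfl⟩ := exists_pow_of_mem_zpowers hp hap ha'
  have hk : k % p ≠ 0 := by
    intro hk
    apply ha'1
    rw [pow_eq_pow_mod k hap, hk, pow_zero]
  obtain ⟨m, hm⟩ := exists_inv_mod hp hk
  have h1 := partner_of_rel hp hap hbp ha1 hb1 hR hm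
  have h2 : Partner (Subgroup.zpowers a) (Subgroup.zpowers b) (a ^ k) b' :=
    ⟨ha', ha'1, hb', hb'1, hc⟩
  have := partner_unique_right hpair h2 h1
  rw [this]
  exact hR k m hm

/-- in a special rank one pair with `A` elementary abelian, the braid-type relations hold -/
theorem rel_of_partner {p : ℕ} (hp : p.Prime) {A B : Subgroup G} (hs : IsSpecialRankOnePair A B)
    (hA : ∀ x ∈ A, x ^ p = 1) {a b : G} (hab : Partner A B a b) :
    ∀ k m : ℕ, (k * m) % p = 1 → Partner A B (a ^ k) (b ^ m) := by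
  intro k m hkm
  have hpair := hs.1
  have hap : a ^ p = 1 := hA a hab.1
  have hbp : b ^ p = 1 := (hab.pow_eq_one_iff hs p).1 hap
  have hm : m % p ≠ 0 := mod_ne_zero_of_mul hp (by rwa [mul_comm] at hkm)
  have hbm : b ^ m ≠ 1 := pow_ne_one_of_mod hp hbp hab.2.2.2.1 hm
  obtain ⟨d, hd⟩ := exists_partner_left hpair (B.pow_mem hab.2.2.1 m) hbm
  have hdm : d ^ m = a := pow_partner m A B hs a b d hab hbm hd
  have hdp : d ^ p = 1 := hA d hd.1
  have hda : d = a ^ k := by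
    rw [← hdm, ← pow_mul, mul_comm, pow_eq_pow_mod (k * m) hdp, hkm, pow_one]
  rw [← hda]
  exact hd

theorem rel_of_special {p : ℕ} (hp : p.Prime) {A B : Subgroup G} (hs : IsSpecialRankOnePair A B)
    (hA : ∀ x ∈ A, x ^ p = 1) {a b : G} (hab : Partner A B a b) : Rel p a b := by
  intro k m hkm
  exact (rel_of_partner hp hs hA hab k m hkm).special hs

end Cfsg.Agent.Helper8.SpecSL2
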