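import Mathlib
import Cfsg.Agent.Helper8.SpecSL2A

set_option autoImplicit false

/-! Special rank one pairs: the kernel of a homomorphism compatible with two rank one pairs is
central; perfectness from the braid-type relations; finiteness of perfect groups that are finite
modulo their centre (helper8). -/

namespace Cfsg.Agent.Helper8.SpecSL2

open Cfsg Cfsg.Agent.Helper7.R1 Cfsg.Agent.Helper8.SpecR1
open scoped commutatorElement

theorem map_conjBy {G G' : Type*} [Group G] [Group G'] (f : G →* G') (C : Subgroup G) (g : G) :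
    (conjBy C g).map f = conjBy (C.map f) (f g) := by
  show (C.map (MulAut.conj g).toMonoidHom).map f = (C.map f).map (MulAut.conj (f g)).toMonoidHom
  rw [Subgroup.map_map, Subgroup.map_map]
  congr 1
  ext y
  simp

/-- a homomorphism mapping a rank one pair onto a rank one pair, injective on the first
unipotent subgroup, has central kernel -/
theorem comm_of_map_eq_one {G G' : Type*} [Group G] [Group G'] (f : G →* G')
    {A B : Subgroup G} (h : IsRankOnePair A B) {A' B' : Subgroup G'} (h' : IsRankOnePair A' B')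
    (hA : A.map f = A') (hB : B.map f = B')
    (hinj : ∀ x ∈ A, f x = 1 → x = 1) {z : G} (hzm : z ∈ A ⊔ B) (hz : f z = 1) :
    ∀ x ∈ A ⊔ B, z * x = x * z := by
  apply comm_of_fixes_all h
  intro C hC
  have key : ∀ C₁ ∈ unipotentSubgroups A B, ∀ C₂ ∈ unipotentSubgroups A B,
      C₁.map f = C₂.map f → C₁ = C₂ := by
    intro C₁ h₁ C₂ h₂ e
    rw [mem_unipotent_iff h] at h₁ h₂
    rcases h₁ with rfl | ⟨a₁, ha₁, rfl⟩ <;> rcases h₂ with rfl | ⟨a₂, ha₂, rfl⟩
    · rfl
    · rw [map_conjBy, hA, hB] at e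
      exact absurd e.symm (conjBy_right_ne_left h' (hA ▸ Subgroup.mem_map_of_mem f ha₂))
    · rw [map_conjBy, hA, hB] at e
      exact absurd e (conjBy_right_ne_left h' (hA ▸ Subgroup.mem_map_of_mem f ha₁))
    · rw [map_conjBy, map_conjBy, hB] at e
      have h1 := conjBy_right_inj h' (hA ▸ Subgroup.mem_map_of_mem f ha₁)
        (hA ▸ Subgroup.mem_map_of_mem f ha₂) e
      have h2 : a₁ * a₂⁻¹ = 1 :=
        hinj _ (A.mul_mem ha₁ (A.inv_mem ha₂)) (by rw [map_mul, map_inv, h1, mul_inv_cancel])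
      rw [mul_inv_eq_one] at h2
      rw [h2]
  apply key _ (conjBy_mem_unipotent hC hzm) _ hC
  rw [map_conjBy, hz, conjBy_one]

/-- the braid-type relations force perfectness when `p ≥ 5` -/
theorem commutator_eq_top_of_rel {G : Type*} [Group G] {p : ℕ} (hp : p.Prime) (hp5 : 5 ≤ p)
    {a b : G} (hap : a ^ p = 1) (hR : Rel p a b)
    (hgen : Subgroup.closure ({a, b} : Set G) = ⊤) : commutator G = ⊤ := by
  set x : Abelianization G := Abelianization.of a with hx
  set y : Abelianization G := Abelianization.of b with hy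
  have hxy : ∀ k m : ℕ, (k * m) % p = 1 → x ^ k * y ^ m = 1 := by
    intro k m hkm
    have h1 := congrArg (Abelianization.of) (hR k m hkm)
    simp only [map_mul, map_inv, map_pow] at h1
    rw [← hx, ← hy] at h1
    have h2 : (y ^ m)⁻¹ * x ^ k * y ^ m = x ^ k := by
      rw [mul_comm, ← mul_assoc, mul_inv_cancel, one_mul]
    have h3 : (x ^ k)⁻¹ * (y ^ m)⁻¹ * x ^ k = (y ^ m)⁻¹ := by
      rw [mul_comm, ← mul_assoc, mul_inv_cancel, one_mul]
    rw [h2, h3] at h1
    rw [h1, inv_mul_cancel]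
  have hp2 : p % 2 = 1 := by
    rcases hp.eq_two_or_odd with h | h
    · omega
    · exact h
  have h11 : x * y = 1 := by
    have := hxy 1 1 (by rw [mul_one]; exact Nat.mod_eq_of_lt hp.one_lt)
    simpa using this
  have hyx : y = x⁻¹ := by
    rw [eq_inv_iff_mul_eq_one, mul_comm]; exact h11
  have h2n : x ^ 2 * y ^ ((p + 1) / 2) = 1 := by
    apply hxy
    have : 2 * ((p + 1) / 2) = p + 1 := by omega
    rw [this, Nat.add_mod_left]
    exact Nat.mod_eq_of_lt hp.one_lt
  have hxp : x ^ p = 1 := by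
    rw [hx, ← map_pow, hap, map_one]
  have hx3 : x ^ 3 = 1 := by
    rw [hyx, inv_pow, mul_inv_eq_one] at h2n
    -- x^2 = x^((p+1)/2), so x^4 = x^(p+1) = x
    have h4 : x ^ 4 = x ^ (p + 1) := by
      have e1 : (4 : ℕ) = 2 * 2 := rfl
      have e2 : p + 1 = ((p + 1) / 2) * 2 := by omega
      rw [e1, pow_mul, h2n, ← pow_mul, ← e2]
    rw [pow_succ x p, hxp, one_mul] at h4
    have h5 : x ^ 3 * x = 1 * x := by
      rw [one_mul, ← pow_succ]; exact h4
    exact mul_right_cancel h5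
  have hx1 : x = 1 := by
    have hc : Nat.Coprime 3 p := by
      rw [Nat.coprime_primes Nat.prime_three hp]; omega
    have h1 := orderOf_dvd_of_pow_eq_one hx3
    have h2 := orderOf_dvd_of_pow_eq_one hxp
    have h3 : orderOf x ∣ 1 := by
      have := Nat.dvd_gcd h1 h2
      rwa [hc.gcd_eq_one] at this
    exact orderOf_eq_one_iff.mp (Nat.dvd_one.mp h3)
  have hy1 : y = 1 := by rw [hyx, hx1, inv_one]
  have ha : a ∈ commutator G := by
    rw [← Abelianization.ker_of, MonoidHom.mem_ker]; exact hx1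
  have hb : b ∈ commutator G := by
    rw [← Abelianization.ker_of, MonoidHom.mem_ker]; exact hy1
  rw [eq_top_iff, ← hgen, Subgroup.closure_le]
  intro z hz
  rcases hz with rfl | rfl
  · exact ha
  · exact hb

/-- a perfect group that is finite modulo its centre is finite (Schur) -/
theorem finite_of_perfect_of_center_finiteIndex {G : Type*} [Group G]
    (hfi : (Subgroup.center G).FiniteIndex) (hperf : commutator G = ⊤) : Finite G := by
  have : Finite (G ⧸ Subgroup.center G) := Subgroup.finite_quotient_of_finiteIndex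
  have hfin : Finite (commutatorSet G) := by
    let φ : (G ⧸ Subgroup.center G) × (G ⧸ Subgroup.center G) → G :=
      fun q => ⁅q.1.out, q.2.out⁆
    have hsub : commutatorSet G ⊆ Set.range φ := by
      rintro g ⟨g₁, g₂, rfl⟩
      refine ⟨(QuotientGroup.mk g₁, QuotientGroup.mk g₂), ?_⟩
      obtain ⟨z₁, hz₁⟩ := QuotientGroup.mk_out_eq_mul (Subgroup.center G) g₁
      obtain ⟨z₂, hz₂⟩ := QuotientGroup.mk_out_eq_mul (Subgroup.center G) g₂
      show ⁅(QuotientGroup.mk g₁ : G ⧸ Subgroup.center G).out,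
        (QuotientGroup.mk g₂ : G ⧸ Subgroup.center G).out⁆ = ⁅g₁, g₂⁆
      rw [hz₁, hz₂]
      have c1 : ∀ w : G, (z₁ : G) * w = w * z₁ := fun w =>
        (Subgroup.mem_center_iff.mp z₁.2 w).symm
      have c2 : ∀ w : G, (z₂ : G) * w = w * z₂ := fun w =>
        (Subgroup.mem_center_iff.mp z₂.2 w).symm
      simp only [commutatorElement_def, mul_inv_rev]
      have e1 : g₁ * (z₁ : G) * (g₂ * (z₂ : G)) * ((z₁ : G)⁻¹ * g₁⁻¹) * ((z₂ : G)⁻¹ * g₂⁻¹)
          = g₁ * g₂ * g₁⁻¹ * g₂⁻¹ * ((z₁ : G) * (z₁ : G)⁻¹) * ((z₂ : G) * (z₂ : G)⁻¹) := by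
        have c1' : ∀ w : G, (z₁ : G)⁻¹ * w = w * (z₁ : G)⁻¹ := fun w => by
          have := c1 ((z₁ : G)⁻¹ * w * (z₁ : G)⁻¹)
          have h' : (z₁ : G)⁻¹ * w = (z₁ : G) * ((z₁ : G)⁻¹ * w * (z₁ : G)⁻¹) := by
            rw [this]; group
          rw [h']; group
        have c2' : ∀ w : G, (z₂ : G)⁻¹ * w = w * (z₂ : G)⁻¹ := fun w => by
          have := c2 ((z₂ : G)⁻¹ * w * (z₂ : G)⁻¹)
          have h' : (z₂ : G)⁻¹ * w = (z₂ : G) * ((z₂ : G)⁻¹ * w * (z₂ : G)⁻¹) := by
            rw [this]; group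
          rw [h']; group
        calc g₁ * (z₁ : G) * (g₂ * (z₂ : G)) * ((z₁ : G)⁻¹ * g₁⁻¹) * ((z₂ : G)⁻¹ * g₂⁻¹)
            = g₁ * ((z₁ : G) * (g₂ * ((z₂ : G) * ((z₁ : G)⁻¹ * (g₁⁻¹ * ((z₂ : G)⁻¹ * g₂⁻¹)))))) := by
              simp only [mul_assoc]
          _ = g₁ * (g₂ * (g₁⁻¹ * (g₂⁻¹ * ((z₁ : G) * ((z₁ : G)⁻¹ * ((z₂ : G) * (z₂ : G)⁻¹)))))) := by
              rw [c2' g₂⁻¹, ← mul_assoc g₁⁻¹, ← mul_assoc (z₁ : G)⁻¹, c1' (g₁⁻¹ * g₂⁻¹),
                mul_assoc _ (z₁ : G)⁻¹, ← mul_assoc (z₂ : G), c2 (g₁⁻¹ * g₂⁻¹), mul_assoc _ (z₂ : G),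
                ← mul_assoc g₂, ← mul_assoc (z₁ : G), c1 (g₂ * (g₁⁻¹ * g₂⁻¹))]
              simp only [mul_assoc]
              congr 4
              rw [← mul_assoc (z₂ : G), c2 ((z₁ : G)⁻¹), mul_assoc]
          _ = _ := by simp only [mul_assoc]
      rw [e1, mul_inv_cancel, mul_inv_cancel, mul_one, mul_one]
    exact (Set.finite_range φ).subset hsub
  have h2 : Finite (commutator G) := inferInstance
  rw [hperf] at h2
  exact Finite.of_equiv _ Subgroup.topEquiv.toEquiv

end Cfsg.Agent.Helper8.SpecSL2
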