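import Mathlib
import Cfsg.Agent.Helper8.SpecSL2B
import Cfsg.Agent.Lead.SL2NatA

set_option autoImplicit false

/-! The standard special rank one pair of `SL₂(ZMod p)` (helper8). -/

namespace Cfsg.Agent.Helper8.SpecSL2

open Cfsg Matrix Cfsg.Agent.Helper5.SLB Cfsg.Agent.Lead.SL2Nat

variable (p : ℕ) [hp : Fact p.Prime]

/-- the upper unitriangular generator -/
def uu : SpecialLinearGroup (Fin 2) (ZMod p) := uMat 1

/-- the lower unitriangular generator -/
def ll : SpecialLinearGroup (Fin 2) (ZMod p) := lMat 1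

variable {p}

theorem lMat_inv' {F : Type*} [Field F] (t : F) : (lMat t)⁻¹ = lMat (-t) := by
  apply inv_eq_of_mul_eq_one_right
  rw [lMat_mul, add_neg_cancel, lMat_zero]

theorem lMat_injective' {F : Type*} [Field F] :
    Function.Injective (lMat : F → SpecialLinearGroup (Fin 2) F) := by
  intro s t h
  have := congrArg (fun M : SpecialLinearGroup (Fin 2) F =>
    (M : Matrix (Fin 2) (Fin 2) F) 1 0) h
  simpa [lMat_coe] using this

theorem uu_pow (k : ℕ) : uu p ^ k = uMat (k : ZMod p) := by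
  induction k with
  | zero => rw [pow_zero, Nat.cast_zero, uMat_zero]
  | succ k ih => rw [pow_succ, ih, uu, uMat_mul, Nat.cast_succ]

theorem ll_pow (k : ℕ) : ll p ^ k = lMat (k : ZMod p) := by
  induction k with
  | zero => rw [pow_zero, Nat.cast_zero, lMat_zero]
  | succ k ih => rw [pow_succ, ih, ll, lMat_mul, Nat.cast_succ]

theorem uu_pow_p : uu p ^ p = 1 := by
  rw [uu_pow, ZMod.natCast_self, uMat_zero]

theorem ll_pow_p : ll p ^ p = 1 := by
  rw [ll_pow, ZMod.natCast_self, lMat_zero]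

theorem uu_ne_one : uu p ≠ 1 := by
  intro h
  rw [uu, ← uMat_zero] at h
  exact one_ne_zero (uMat_injective h)

theorem ll_ne_one : ll p ≠ 1 := by
  intro h
  rw [ll, ← lMat_zero] at h
  exact one_ne_zero (lMat_injective' h)

theorem uMat_eq_pow (t : ZMod p) : uMat t = uu p ^ t.val := by
  rw [uu_pow, ZMod.natCast_zmod_val]

theorem lMat_eq_pow (t : ZMod p) : lMat t = ll p ^ t.val := by
  rw [ll_pow, ZMod.natCast_zmod_val]

theorem rel_uu_ll : Rel p (uu p) (ll p) := by
  intro k m hkm
  have h1 : (k : ZMod p) * (m : ZMod p) = 1 := by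
    rw [← Nat.cast_mul, ← ZMod.natCast_mod, hkm, Nat.cast_one]
  rw [uu_pow, ll_pow, lMat_inv', uMat_inv]
  set s : ZMod p := (k : ZMod p)
  set t : ZMod p := (m : ZMod p)
  apply sl2_ext
  · simp only [Cfsg.Agent.Helper5.SLB.mul_apply', uMat_00, uMat_01, uMat_10, uMat_11, lMat_00, lMat_01, lMat_10,
      lMat_11]
    ring
  · simp only [Cfsg.Agent.Helper5.SLB.mul_apply', uMat_00, uMat_01, uMat_10, uMat_11, lMat_00, lMat_01, lMat_10,
      lMat_11]
    linear_combination (-s) * h1
  · simp only [Cfsg.Agent.Helper5.SLB.mul_apply', uMat_00, uMat_01, uMat_10, uMat_11, lMat_00, lMat_01, lMat_10,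
      lMat_11]
    linear_combination (-t) * h1
  · simp only [Cfsg.Agent.Helper5.SLB.mul_apply', uMat_00, uMat_01, uMat_10, uMat_11, lMat_00, lMat_01, lMat_10,
      lMat_11]
    ring

theorem closure_uu_ll : Subgroup.closure ({uu p, ll p} : Set (SpecialLinearGroup (Fin 2) (ZMod p))) = ⊤ := by
  have h0 := Cfsg.Agent.Lead.SL2Nat.closure_eq_top (F := ZMod p)
  have h1 : Subgroup.closure ({g : SpecialLinearGroup (Fin 2) (ZMod p) |
      (∃ a, g = uMat a) ∨ ∃ b, g = lMat b}) ≤
      Subgroup.closure ({uu p, ll p} : Set (SpecialLinearGroup (Fin 2) (ZMod p))) := by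
    apply (Subgroup.closure_le _).mpr
    rintro g (⟨a, rfl⟩ | ⟨b, rfl⟩)
    · rw [uMat_eq_pow]
      exact Subgroup.pow_mem _ (Subgroup.subset_closure (Set.mem_insert (uu p) {ll p})) _
    · rw [lMat_eq_pow]
      exact Subgroup.pow_mem _ (Subgroup.subset_closure
        (Set.mem_insert_of_mem (uu p) (Set.mem_singleton (ll p)))) _
  rw [h0] at h1
  exact top_le_iff.mp h1

theorem zpowers_uu_ne : Subgroup.zpowers (uu p) ≠ Subgroup.zpowers (ll p) := by
  intro h
  have h1 : ll p ∈ Subgroup.zpowers (uu p) := h ▸ Subgroup.mem_zpowers _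
  obtain ⟨n, hn⟩ := exists_pow_of_mem_zpowers hp.out uu_pow_p h1
  rw [uu_pow] at hn
  have := congrArg (fun M : SpecialLinearGroup (Fin 2) (ZMod p) =>
    (M : Matrix (Fin 2) (Fin 2) (ZMod p)) 1 0) hn
  simp [ll, lMat_coe, uMat_coe] at this

theorem isRankOnePair_uu_ll :
    IsRankOnePair (Subgroup.zpowers (uu p)) (Subgroup.zpowers (ll p)) :=
  isRankOnePair_of_rel hp.out uu_pow_p ll_pow_p uu_ne_one ll_ne_one zpowers_uu_ne rel_uu_ll

/-- subgroups of the centre of `SL₂(ZMod p)` -/
theorem eq_bot_or_eq_center (K : Subgroup (SpecialLinearGroup (Fin 2) (ZMod p)))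
    (hK : K ≤ Subgroup.center (SpecialLinearGroup (Fin 2) (ZMod p))) :
    K = ⊥ ∨ K = Subgroup.center (SpecialLinearGroup (Fin 2) (ZMod p)) := by
  by_cases hb : K = ⊥
  · exact Or.inl hb
  right
  obtain ⟨x, hx, hx1⟩ : ∃ x ∈ K, x ≠ 1 := by
    by_contra hcon
    push Not at hcon
    apply hb
    rw [eq_bot_iff]
    intro x hx
    rw [Subgroup.mem_bot]
    exact hcon x hx
  have hroot : ∀ r : ZMod p, r ^ Fintype.card (Fin 2) = 1 → r = 1 ∨ r = -1 := by
    intro r hr
    rw [Fintype.card_fin] at hr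
    have : (r - 1) * (r + 1) = 0 := by linear_combination hr
    rcases mul_eq_zero.mp this with h | h
    · left; exact sub_eq_zero.mp h
    · right; exact eq_neg_of_add_eq_zero_left h
  obtain ⟨r, hr, hrx⟩ := Matrix.SpecialLinearGroup.mem_center_iff.mp (hK hx)
  have hr' : r = -1 := by
    rcases hroot r hr with h | h
    · exfalso
      apply hx1
      apply Subtype.ext
      rw [← hrx, h]
      simp
    · exact h
  apply le_antisymm hK
  intro y hy
  obtain ⟨r₂, hr₂, hry⟩ := Matrix.SpecialLinearGroup.mem_center_iff.mp hy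
  rcases hroot r₂ hr₂ with h | h
  · have : y = 1 := by
      apply Subtype.ext
      rw [← hry, h]
      simp
    rw [this]; exact K.one_mem
  · have : y = x := by
      apply Subtype.ext
      rw [← hry, ← hrx, h, hr']
    rw [this]; exact hx

end Cfsg.Agent.Helper8.SpecSL2
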