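import Mathlib
import Cfsg.Agent.Helper8.SpecSL2C
import Cfsg.Agent.S2117

set_option autoImplicit false

/-! Groups generated by two elements satisfying the braid-type relations and mapping onto
`SL₂(ZMod p)`: the kernel is central, and trivial when `p ≥ 5` (helper8). -/

namespace Cfsg.Agent.Helper8.SpecSL2

open Cfsg Matrix Cfsg.Agent.Helper7.R1

variable {p : ℕ} [hp : Fact p.Prime] {G : Type*} [Group G]

theorem sup_zpowers_eq_top {a b : G} (hgen : Subgroup.closure ({a, b} : Set G) = ⊤) :
    Subgroup.zpowers a ⊔ Subgroup.zpowers b = ⊤ := by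
  rw [eq_top_iff, ← hgen, Subgroup.closure_le]
  intro z hz
  rcases hz with rfl | rfl
  · exact Subgroup.mem_sup_left (Subgroup.mem_zpowers _)
  · exact Subgroup.mem_sup_right (Subgroup.mem_zpowers _)

theorem surjective_of_gen {a b : G} (hgen : Subgroup.closure ({a, b} : Set G) = ⊤)
    (f : G →* SpecialLinearGroup (Fin 2) (ZMod p)) (fa : f a = uu p) (fb : f b = ll p) :
    Function.Surjective f := by
  rw [← MonoidHom.range_eq_top, MonoidHom.range_eq_map, ← hgen, MonoidHom.map_closure,
    Set.image_pair, fa, fb, closure_uu_ll]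

theorem zpowers_ne_of_map {a b : G}
    (f : G →* SpecialLinearGroup (Fin 2) (ZMod p)) (fa : f a = uu p) (fb : f b = ll p) :
    Subgroup.zpowers a ≠ Subgroup.zpowers b := by
  intro h
  have := congrArg (Subgroup.map f) h
  rw [MonoidHom.map_zpowers, MonoidHom.map_zpowers, fa, fb] at this
  exact zpowers_uu_ne this

theorem isRankOnePair_of_map {a b : G} (hR : Rel p a b) (hap : a ^ p = 1) (hbp : b ^ p = 1)
    (f : G →* SpecialLinearGroup (Fin 2) (ZMod p)) (fa : f a = uu p) (fb : f b = ll p) :
    IsRankOnePair (Subgroup.zpowers a) (Subgroup.zpowers b) := by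
  have ha1 : a ≠ 1 := by
    rintro rfl
    rw [map_one] at fa
    exact uu_ne_one fa.symm
  have hb1 : b ≠ 1 := by
    rintro rfl
    rw [map_one] at fb
    exact ll_ne_one fb.symm
  exact isRankOnePair_of_rel hp.out hap hbp ha1 hb1 (zpowers_ne_of_map f fa fb) hR

/-- the kernel is central -/
theorem ker_le_center {a b : G} (hgen : Subgroup.closure ({a, b} : Set G) = ⊤)
    (hR : Rel p a b) (hap : a ^ p = 1) (hbp : b ^ p = 1)
    (f : G →* SpecialLinearGroup (Fin 2) (ZMod p)) (fa : f a = uu p) (fb : f b = ll p) :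
    f.ker ≤ Subgroup.center G := by
  intro z hz
  rw [MonoidHom.mem_ker] at hz
  have hpair := isRankOnePair_of_map hR hap hbp f fa fb
  have htop := sup_zpowers_eq_top hgen
  have hinj : ∀ x ∈ Subgroup.zpowers a, f x = 1 → x = 1 := by
    intro x hx hfx
    obtain ⟨n, rfl⟩ := exists_pow_of_mem_zpowers hp.out hap hx
    rw [map_pow, fa] at hfx
    by_cases hn : n % p = 0
    · rw [pow_eq_pow_mod n hap, hn, pow_zero]
    · exact absurd hfx (pow_ne_one_of_mod hp.out uu_pow_p uu_ne_one hn)
  have hcomm := comm_of_map_eq_one f hpair isRankOnePair_uu_ll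
    (by rw [MonoidHom.map_zpowers, fa]) (by rw [MonoidHom.map_zpowers, fb]) hinj
    (by rw [htop]; exact Subgroup.mem_top z) hz
  rw [Subgroup.mem_center_iff]
  intro g
  exact (hcomm g (by rw [htop]; exact Subgroup.mem_top g)).symm

/-- for `p ≥ 5` the map is injective: `SL₂(p)` has trivial Schur multiplier -/
theorem injective_of_five_le (hp5 : 5 ≤ p) {a b : G}
    (hgen : Subgroup.closure ({a, b} : Set G) = ⊤)
    (hR : Rel p a b) (hap : a ^ p = 1) (hbp : b ^ p = 1)
    (f : G →* SpecialLinearGroup (Fin 2) (ZMod p)) (fa : f a = uu p) (fb : f b = ll p) :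
    Function.Injective f := by
  have hperf : commutator G = ⊤ := commutator_eq_top_of_rel hp.out hp5 hap hR hgen
  have hker := ker_le_center hgen hR hap hbp f fa fb
  have hsurj := surjective_of_gen hgen f fa fb
  have hfi : (Subgroup.center G).FiniteIndex := by
    have : f.ker.FiniteIndex := inferInstance
    exact Subgroup.finiteIndex_of_le hker
  have hfin : Finite G := finite_of_perfect_of_center_finiteIndex hfi hperf
  have hstem : Cfsg.IsStemExtension f := ⟨hsurj, hker, by rw [hperf]; exact le_top⟩
  have hcard : Fintype.card (ZMod p) = p := ZMod.card p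
  have h4 : Fintype.card (ZMod p) ≠ 4 := by
    rw [hcard]
    intro h
    have := hp.out
    rw [h] at this
    norm_num at this
  have h9 : Fintype.card (ZMod p) ≠ 9 := by
    rw [hcard]
    intro h
    have := hp.out
    rw [h] at this
    norm_num at this
  have := Cfsg.Agent.S2117.ker_eq_bot h4 h9 f hstem
  exact (MonoidHom.ker_eq_bot_iff f).mp this

end Cfsg.Agent.Helper8.SpecSL2
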