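import Mathlib
import Cfsg.Agent.Helper8.SpecSL2D

set_option autoImplicit false

/-! Enumeration of a group generated by two elements `a`, `c` with the braid relation
`a c a = c a c`: the set `⟨a⟩⟨ζ⟩ ∪ ⟨a⟩⟨ζ⟩ν⟨a⟩` (helper8). -/

namespace Cfsg.Agent.Helper8.SpecSL2

open Cfsg Matrix Cfsg.Agent.Helper5.SLB Cfsg.Agent.Lead.SL2Nat

section braid

variable {G : Type*} [Group G]

/-- `ν = a c a` -/
def nu (a c : G) : G := a * c * a

/-- `ζ = ν²` -/
def ze (a c : G) : G := nu a c * nu a c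

variable {a c : G}

theorem nu_mul_left (h : a * c * a = c * a * c) : nu a c * a = c * nu a c := by
  unfold nu
  calc a * c * a * a = c * a * c * a := by rw [h]
    _ = c * (a * c * a) := by simp only [mul_assoc]

theorem nu_mul_right (h : a * c * a = c * a * c) : nu a c * c = a * nu a c := by
  unfold nu
  calc a * c * a * c = a * (c * a * c) := by simp only [mul_assoc]
    _ = a * (a * c * a) := by rw [h]

theorem ze_comm_left (h : a * c * a = c * a * c) : ze a c * a = a * ze a c := by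
  unfold ze
  calc nu a c * nu a c * a = nu a c * (nu a c * a) := by rw [mul_assoc]
    _ = nu a c * (c * nu a c) := by rw [nu_mul_left h]
    _ = (nu a c * c) * nu a c := by rw [mul_assoc]
    _ = a * nu a c * nu a c := by rw [nu_mul_right h]
    _ = a * (nu a c * nu a c) := by rw [mul_assoc]

theorem ze_comm_right (h : a * c * a = c * a * c) : ze a c * c = c * ze a c := by
  unfold ze
  calc nu a c * nu a c * c = nu a c * (nu a c * c) := by rw [mul_assoc]
    _ = nu a c * (a * nu a c) := by rw [nu_mul_right h]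
    _ = (nu a c * a) * nu a c := by rw [mul_assoc]
    _ = c * nu a c * nu a c := by rw [nu_mul_left h]
    _ = c * (nu a c * nu a c) := by rw [mul_assoc]

theorem ze_comm_nu : ze a c * nu a c = nu a c * ze a c := by
  unfold ze; rw [mul_assoc]

theorem ze_pow_comm_left (h : a * c * a = c * a * c) (j i : ℕ) :
    ze a c ^ j * a ^ i = a ^ i * ze a c ^ j :=
  ((show Commute (ze a c) a from ze_comm_left h).pow_pow j i).eq

theorem ze_pow_comm_nu (j : ℕ) : ze a c ^ j * nu a c = nu a c * ze a c ^ j :=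
  ((show Commute (ze a c) (nu a c) from ze_comm_nu).pow_left j).eq

/-- the set `⟨a⟩⟨ζ⟩ ∪ ⟨a⟩⟨ζ⟩ν⟨a⟩` -/
def TT (a c : G) : Set G :=
  {x | ∃ i j : ℕ, x = a ^ i * ze a c ^ j ∨ ∃ k : ℕ, x = a ^ i * ze a c ^ j * nu a c * a ^ k}

theorem one_mem_TT : (1 : G) ∈ TT a c := ⟨0, 0, Or.inl (by simp)⟩

theorem mul_left_mem_TT {t : G} (ht : t ∈ TT a c) : a * t ∈ TT a c := by
  obtain ⟨i, j, rfl | ⟨k, rfl⟩⟩ := ht
  · exact ⟨i + 1, j, Or.inl (by rw [pow_succ']; simp only [mul_assoc])⟩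
  · exact ⟨i + 1, j, Or.inr ⟨k, by rw [pow_succ']; simp only [mul_assoc]⟩⟩

theorem pow_mul_mem_TT (n : ℕ) {t : G} (ht : t ∈ TT a c) : a ^ n * t ∈ TT a c := by
  induction n with
  | zero => simpa using ht
  | succ n ih => rw [pow_succ', mul_assoc]; exact mul_left_mem_TT ih

theorem nu_mul_mem_TT (h : a * c * a = c * a * c)
    (K2 : ∀ i : ℕ, nu a c * a ^ i * nu a c ∈ TT a c) {t : G} (ht : t ∈ TT a c) :
    nu a c * t ∈ TT a c := by
  obtain ⟨i, j, rfl | ⟨k, rfl⟩⟩ := ht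
  · refine ⟨0, j, Or.inr ⟨i, ?_⟩⟩
    calc nu a c * (a ^ i * ze a c ^ j) = nu a c * (ze a c ^ j * a ^ i) := by
          rw [ze_pow_comm_left h]
      _ = (nu a c * ze a c ^ j) * a ^ i := by rw [mul_assoc]
      _ = (ze a c ^ j * nu a c) * a ^ i := by rw [ze_pow_comm_nu]
      _ = a ^ 0 * ze a c ^ j * nu a c * a ^ i := by rw [pow_zero, one_mul]
  · have e0 : nu a c * (a ^ i * ze a c ^ j * nu a c * a ^ k) =
        ze a c ^ j * (nu a c * a ^ i * nu a c) * a ^ k := by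
      calc nu a c * (a ^ i * ze a c ^ j * nu a c * a ^ k)
          = nu a c * (ze a c ^ j * a ^ i * nu a c * a ^ k) := by rw [ze_pow_comm_left h]
        _ = (nu a c * ze a c ^ j) * (a ^ i * nu a c * a ^ k) := by simp only [mul_assoc]
        _ = (ze a c ^ j * nu a c) * (a ^ i * nu a c * a ^ k) := by rw [ze_pow_comm_nu]
        _ = ze a c ^ j * (nu a c * a ^ i * nu a c) * a ^ k := by simp only [mul_assoc]
    rw [e0]
    obtain ⟨i', j', e | ⟨k', e⟩⟩ := K2 i
    · refine ⟨i' + k, j + j', Or.inl ?_⟩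
      rw [e]
      calc ze a c ^ j * (a ^ i' * ze a c ^ j') * a ^ k
          = (ze a c ^ j * a ^ i') * ze a c ^ j' * a ^ k := by simp only [mul_assoc]
        _ = (a ^ i' * ze a c ^ j) * ze a c ^ j' * a ^ k := by rw [ze_pow_comm_left h]
        _ = a ^ i' * (ze a c ^ (j + j') * a ^ k) := by rw [pow_add]; simp only [mul_assoc]
        _ = a ^ i' * (a ^ k * ze a c ^ (j + j')) := by rw [ze_pow_comm_left h]
        _ = a ^ (i' + k) * ze a c ^ (j + j') := by rw [pow_add a, mul_assoc]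
    · refine ⟨i', j + j', Or.inr ⟨k' + k, ?_⟩⟩
      rw [e]
      calc ze a c ^ j * (a ^ i' * ze a c ^ j' * nu a c * a ^ k') * a ^ k
          = (ze a c ^ j * a ^ i') * ze a c ^ j' * nu a c * a ^ k' * a ^ k := by
            simp only [mul_assoc]
        _ = (a ^ i' * ze a c ^ j) * ze a c ^ j' * nu a c * a ^ k' * a ^ k := by
            rw [ze_pow_comm_left h]
        _ = a ^ i' * ze a c ^ (j + j') * nu a c * a ^ (k' + k) := by
            rw [pow_add, pow_add]; simp only [mul_assoc]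

theorem nu_a_nu (h : a * c * a = c * a * c) :
    nu a c * a * nu a c = a⁻¹ * ze a c * nu a c * a⁻¹ := by
  have hc : c = a⁻¹ * nu a c * a⁻¹ := by unfold nu; group
  have hz : ze a c * a⁻¹ = a⁻¹ * ze a c :=
    ((show Commute (ze a c) a from ze_comm_left h).inv_right).eq
  calc nu a c * a * nu a c = c * nu a c * nu a c := by rw [nu_mul_left h]
    _ = c * ze a c := by unfold ze; rw [mul_assoc]
    _ = a⁻¹ * nu a c * a⁻¹ * ze a c := by rw [← hc]
    _ = a⁻¹ * nu a c * (ze a c * a⁻¹) := by rw [hz]; simp only [mul_assoc]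
    _ = a⁻¹ * (nu a c * ze a c) * a⁻¹ := by simp only [mul_assoc]
    _ = a⁻¹ * (ze a c * nu a c) * a⁻¹ := by rw [ze_comm_nu]
    _ = _ := by simp only [mul_assoc]

theorem nu_a2_nu (h : a * c * a = c * a * c) (hc3 : c * c = c⁻¹) :
    nu a c * a ^ 2 * nu a c = a * nu a c * a := by
  have hcinv : c⁻¹ = a * (nu a c)⁻¹ * a := by unfold nu; group
  calc nu a c * a ^ 2 * nu a c = (nu a c * a) * (a * nu a c) := by
        rw [pow_two]; simp only [mul_assoc]
    _ = (c * nu a c) * (nu a c * c) := by rw [nu_mul_left h, nu_mul_right h]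
    _ = c * (nu a c * nu a c * c) := by simp only [mul_assoc]
    _ = c * (ze a c * c) := rfl
    _ = c * (c * ze a c) := by rw [ze_comm_right h]
    _ = c⁻¹ * ze a c := by rw [← mul_assoc, hc3]
    _ = a * (nu a c)⁻¹ * a * ze a c := by rw [← hcinv]
    _ = a * (nu a c)⁻¹ * (ze a c * a) := by rw [ze_comm_left h]; simp only [mul_assoc]
    _ = a * nu a c * a := by unfold ze; group

theorem ze_sq_of_three (h : a * c * a = c * a * c) (ha3 : a * a = a⁻¹) (hc3 : c ^ 3 = 1) :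
    ze a c * ze a c = 1 := by
  have e1 : nu a c * a = a * c * a⁻¹ := by unfold nu; rw [mul_assoc (a * c), ha3]
  have e2 : (nu a c * a) ^ 3 = 1 := by rw [e1, conj_pow, hc3, mul_one, mul_inv_cancel]
  have m : nu a c * a = c * nu a c := nu_mul_left h
  have e3 : (nu a c * a) ^ 3 = ze a c * ze a c := by
    calc (nu a c * a) ^ 3 = nu a c * a * (nu a c * a) * (nu a c * a) := by
          rw [pow_succ, pow_two]
      _ = nu a c * a * (c * nu a c) * (nu a c * a) := by rw [← m]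
      _ = nu a c * (a * c) * (nu a c * nu a c * a) := by simp only [mul_assoc]
      _ = nu a c * (a * c) * (a * (nu a c * nu a c)) := by
          rw [show nu a c * nu a c * a = a * (nu a c * nu a c) from ze_comm_left h]
      _ = nu a c * (a * c * a) * (nu a c * nu a c) := by simp only [mul_assoc]
      _ = ze a c * ze a c := rfl
  rw [← e3, e2]

theorem braid_of_rel {p : ℕ} (hp : p.Prime) {a b : G} (hR : Rel p a b) :
    a * b⁻¹ * a = b⁻¹ * a * b⁻¹ := by
  have h1 := hR 1 1 (by rw [mul_one]; exact Nat.mod_eq_of_lt hp.one_lt)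
  rw [pow_one, pow_one] at h1
  have h2 : a * (b⁻¹ * a * b) * b⁻¹ = a * (a⁻¹ * b⁻¹ * a) * b⁻¹ := by rw [h1]
  calc a * b⁻¹ * a = a * (b⁻¹ * a * b) * b⁻¹ := by group
    _ = a * (a⁻¹ * b⁻¹ * a) * b⁻¹ := h2
    _ = b⁻¹ * a * b⁻¹ := by group

end braid

section main

variable {p : ℕ} [hp : Fact p.Prime] {G : Type*} [Group G]

theorem mem_TT_of_gen {a b : G} (hgen : Subgroup.closure ({a, b} : Set G) = ⊤)
    (hap : a ^ p = 1) (h : a * b⁻¹ * a = b⁻¹ * a * b⁻¹)
    (K1 : ze a b⁻¹ * ze a b⁻¹ = 1)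
    (K2 : ∀ i : ℕ, nu a b⁻¹ * a ^ i * nu a b⁻¹ ∈ TT a b⁻¹) (x : G) : x ∈ TT a b⁻¹ := by
  have hx : x ∈ Subgroup.closure ({a, b} : Set G) := by rw [hgen]; exact Subgroup.mem_top x
  have hainv : a⁻¹ = a ^ (p - 1) := by
    apply inv_eq_of_mul_eq_one_left
    rw [← pow_succ, Nat.sub_add_cancel hp.out.one_le, hap]
  have hnuinv : (nu a b⁻¹)⁻¹ = nu a b⁻¹ * nu a b⁻¹ * nu a b⁻¹ := by
    apply inv_eq_of_mul_eq_one_left
    have : nu a b⁻¹ * nu a b⁻¹ * nu a b⁻¹ * nu a b⁻¹ = ze a b⁻¹ * ze a b⁻¹ := by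
      unfold ze; simp only [mul_assoc]
    rw [this, K1]
  have hb' : ∀ y : G, b * y = a * (nu a b⁻¹ * (nu a b⁻¹ * (nu a b⁻¹ * (a * y)))) := by
    intro y
    have e : b = a * (nu a b⁻¹)⁻¹ * a := by unfold nu; group
    calc b * y = a * (nu a b⁻¹)⁻¹ * a * y := by rw [← e]
      _ = a * (nu a b⁻¹ * nu a b⁻¹ * nu a b⁻¹) * a * y := by rw [hnuinv]
      _ = _ := by simp only [mul_assoc]
  have hc' : ∀ y : G, b⁻¹ * y = a ^ (p - 1) * (nu a b⁻¹ * (a ^ (p - 1) * y)) := by
    intro y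
    have e : b⁻¹ = a⁻¹ * nu a b⁻¹ * a⁻¹ := by unfold nu; group
    calc b⁻¹ * y = a⁻¹ * nu a b⁻¹ * a⁻¹ * y := by rw [← e]
      _ = a ^ (p - 1) * nu a b⁻¹ * a ^ (p - 1) * y := by rw [hainv]
      _ = _ := by simp only [mul_assoc]
  induction hx using Subgroup.closure_induction_left with
  | one => exact one_mem_TT
  | mul_left g hg y hy ih =>
    rcases hg with hg | hg
    · rw [hg]; exact mul_left_mem_TT ih
    · rw [Set.mem_singleton_iff.mp hg, hb']
      exact mul_left_mem_TT (nu_mul_mem_TT h K2 (nu_mul_mem_TT h K2 (nu_mul_mem_TT h K2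
        (mul_left_mem_TT ih))))
  | inv_mul_cancel g hg y hy ih =>
    rcases hg with hg | hg
    · rw [hg, hainv]; exact pow_mul_mem_TT _ ih
    · rw [Set.mem_singleton_iff.mp hg, hc']
      exact pow_mul_mem_TT _ (nu_mul_mem_TT h K2 (pow_mul_mem_TT _ ih))

theorem injective_of_TT {a b : G} (hgen : Subgroup.closure ({a, b} : Set G) = ⊤)
    (hap : a ^ p = 1) (h : a * b⁻¹ * a = b⁻¹ * a * b⁻¹)
    (K1 : ze a b⁻¹ * ze a b⁻¹ = 1) (K1' : (-1 : ZMod p) = 1 → ze a b⁻¹ = 1)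
    (K2 : ∀ i : ℕ, nu a b⁻¹ * a ^ i * nu a b⁻¹ ∈ TT a b⁻¹)
    (f : G →* SpecialLinearGroup (Fin 2) (ZMod p)) (fa : f a = uu p) (fb : f b = ll p) :
    Function.Injective f := by
  rw [injective_iff_map_eq_one]
  intro x hx
  have hfnu : f (nu a b⁻¹) = wMat := by
    unfold nu
    rw [map_mul, map_mul, map_inv, fa, fb, uu, ll, lMat_inv']
    apply sl2_ext <;>
      simp [Cfsg.Agent.Helper5.SLB.mul_apply', uMat_00, uMat_01, uMat_10, uMat_11, lMat_00,
        lMat_01, lMat_10, lMat_11, wMat_00, wMat_01, wMat_10, wMat_11]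
  have hfa : ∀ i : ℕ, f (a ^ i) = uMat (i : ZMod p) := by
    intro i; rw [map_pow, fa, uu_pow]
  have hai : ∀ i : ℕ, uMat ((i : ℕ) : ZMod p) = 1 → a ^ i = 1 := by
    intro i hi
    rw [← uMat_zero] at hi
    have h0 := uMat_injective hi
    rw [ZMod.natCast_eq_zero_iff] at h0
    obtain ⟨m, rfl⟩ := h0
    rw [pow_mul, hap, one_pow]
  have hze2 : ∀ j : ℕ, ze a b⁻¹ ^ j = ze a b⁻¹ ^ (j % 2) := fun j =>
    pow_eq_pow_mod j (by rw [pow_two]; exact K1)
  have hfze : f (ze a b⁻¹) = wMat * wMat := by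
    unfold ze; rw [map_mul, hfnu]
  obtain ⟨i, j, rfl | ⟨k, rfl⟩⟩ := mem_TT_of_gen hgen hap h K1 K2 x
  · rw [hze2 j] at hx ⊢
    rcases Nat.mod_two_eq_zero_or_one j with hj | hj
    · rw [hj, pow_zero, mul_one] at hx ⊢
      rw [hfa] at hx; exact hai i hx
    · rw [hj, pow_one] at hx ⊢
      have hneg : (-1 : ZMod p) = 1 := by
        rw [map_mul, hfa, hfze] at hx
        have := congrArg (fun M : SpecialLinearGroup (Fin 2) (ZMod p) =>
          (M : Matrix (Fin 2) (Fin 2) (ZMod p)) 0 0) hx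
        simpa [Cfsg.Agent.Helper5.SLB.mul_apply', uMat_00, uMat_01, wMat_00, wMat_01, wMat_10,
          wMat_11] using this
      rw [K1' hneg, mul_one] at hx ⊢
      rw [hfa] at hx; exact hai i hx
  · exfalso
    rw [hze2 j] at hx
    have h10 : ∀ (M : SpecialLinearGroup (Fin 2) (ZMod p)) (s t : ZMod p),
        ((uMat s * M * uMat t : SpecialLinearGroup (Fin 2) (ZMod p)) :
          Matrix (Fin 2) (Fin 2) (ZMod p)) 1 0 = (M : Matrix (Fin 2) (Fin 2) (ZMod p)) 1 0 := by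
      intro M s t
      simp only [Cfsg.Agent.Helper5.SLB.mul_apply', uMat_00, uMat_10, uMat_11]
      ring
    have hx' : uMat (i : ZMod p) * (f (ze a b⁻¹) ^ (j % 2) * wMat) * uMat (k : ZMod p) = 1 := by
      rw [← hx, map_mul, map_mul, map_mul, hfa, hfa, map_pow, hfnu]
      simp only [mul_assoc]
    have h3 := congrArg (fun M : SpecialLinearGroup (Fin 2) (ZMod p) =>
      (M : Matrix (Fin 2) (Fin 2) (ZMod p)) 1 0) hx'
    simp only [h10] at h3
    rcases Nat.mod_two_eq_zero_or_one j with hj | hj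
    · rw [hj, pow_zero, one_mul, wMat_10] at h3
      simp at h3
    · rw [hj, pow_one, hfze] at h3
      simp [Cfsg.Agent.Helper5.SLB.mul_apply', wMat_00, wMat_01, wMat_10, wMat_11] at h3

theorem K2_zero {a c : G} : nu a c * a ^ 0 * nu a c ∈ TT a c :=
  ⟨0, 1, Or.inl (by rw [pow_zero, mul_one, one_mul, pow_one]; rfl)⟩

theorem K2_one {a c : G} (hap : a ^ p = 1) (h : a * c * a = c * a * c) :
    nu a c * a ^ 1 * nu a c ∈ TT a c := by
  have hainv : a⁻¹ = a ^ (p - 1) := by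
    apply inv_eq_of_mul_eq_one_left
    rw [← pow_succ, Nat.sub_add_cancel hp.out.one_le, hap]
  refine ⟨p - 1, 1, Or.inr ⟨p - 1, ?_⟩⟩
  rw [pow_one, pow_one, nu_a_nu h, hainv]

/-- the case `p = 2` -/
theorem injective_of_eq_two (hp2 : p = 2) {a b : G}
    (hgen : Subgroup.closure ({a, b} : Set G) = ⊤)
    (hR : Rel p a b) (hap : a ^ p = 1) (hbp : b ^ p = 1)
    (f : G →* SpecialLinearGroup (Fin 2) (ZMod p)) (fa : f a = uu p) (fb : f b = ll p) :
    Function.Injective f := by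
  have h := braid_of_rel hp.out hR
  have ha2 : a * a = 1 := by rw [← pow_two]; rw [hp2] at hap; exact hap
  have hb2 : b * b = 1 := by rw [← pow_two]; rw [hp2] at hbp; exact hbp
  have hc2 : b⁻¹ * b⁻¹ = 1 := by rw [← _root_.mul_inv_rev, hb2, inv_one]
  have hze : ze a b⁻¹ = 1 := by
    unfold ze nu
    calc a * b⁻¹ * a * (a * b⁻¹ * a) = a * b⁻¹ * (a * a) * b⁻¹ * a := by simp only [mul_assoc]
      _ = a * (b⁻¹ * b⁻¹) * a := by rw [ha2, mul_one]; simp only [mul_assoc]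
      _ = 1 := by rw [hc2, mul_one, ha2]
  apply injective_of_TT hgen hap h (by rw [hze, mul_one]) (fun _ => hze) ?_ f fa fb
  intro i
  obtain ⟨r, hr, e⟩ : ∃ r < 2, a ^ i = a ^ r :=
    ⟨i % 2, Nat.mod_lt _ (by norm_num), pow_eq_pow_mod i (by rw [pow_two]; exact ha2)⟩
  rw [e]
  interval_cases r
  · exact K2_zero
  · exact K2_one hap h

/-- the case `p = 3` -/
theorem injective_of_eq_three (hp3 : p = 3) {a b : G}
    (hgen : Subgroup.closure ({a, b} : Set G) = ⊤)
    (hR : Rel p a b) (hap : a ^ p = 1) (hbp : b ^ p = 1)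
    (f : G →* SpecialLinearGroup (Fin 2) (ZMod p)) (fa : f a = uu p) (fb : f b = ll p) :
    Function.Injective f := by
  have h := braid_of_rel hp.out hR
  have ha3 : a ^ 3 = 1 := by rw [hp3] at hap; exact hap
  have hb3 : b ^ 3 = 1 := by rw [hp3] at hbp; exact hbp
  have hc3 : b⁻¹ ^ 3 = 1 := by rw [inv_pow, hb3, inv_one]
  have haa : a * a = a⁻¹ := by
    apply eq_inv_of_mul_eq_one_left
    rw [← pow_two, ← pow_succ]; exact ha3
  have hcc : b⁻¹ * b⁻¹ = b⁻¹⁻¹ := by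
    apply eq_inv_of_mul_eq_one_left
    rw [← pow_two, ← pow_succ]; exact hc3
  have K1 := ze_sq_of_three h haa hc3
  have K1' : (-1 : ZMod p) = 1 → ze a b⁻¹ = 1 := by
    intro hneg
    exfalso
    have h2 : (2 : ZMod p) = 0 := by linear_combination -hneg
    have h3 : ((2 : ℕ) : ZMod p) = 0 := by exact_mod_cast h2
    rw [ZMod.natCast_eq_zero_iff, hp3] at h3
    omega
  apply injective_of_TT hgen hap h K1 K1' ?_ f fa fb
  intro i
  obtain ⟨r, hr, e⟩ : ∃ r < 3, a ^ i = a ^ r :=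
    ⟨i % 3, Nat.mod_lt _ (by norm_num), pow_eq_pow_mod i ha3⟩
  rw [e]
  interval_cases r
  · exact K2_zero
  · exact K2_one hap h
  · refine ⟨1, 0, Or.inr ⟨1, ?_⟩⟩
    rw [nu_a2_nu h hcc, pow_one, pow_zero, mul_one]

end main

end Cfsg.Agent.Helper8.SpecSL2
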