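import Mathlib
import Cfsg.Agent.Helper8.SpecSL2E

set_option autoImplicit false

/-! Two elements `a`, `b` of order `p` satisfying the braid-type relations generate a copy of
`SL₂(p)` or of `PSL₂(p)` (helper8). -/

namespace Cfsg.Agent.Helper8.SpecSL2

open Cfsg Matrix Cfsg.Agent.Helper7.R1

variable {p : ℕ} [hp : Fact p.Prime]

/-- a group generated by `a`, `b` with the braid-type relations which maps to `SL₂(p)` with
`a ↦ u`, `b ↦ l`, does so injectively -/
theorem injective_of_gen {G : Type*} [Group G] {a b : G}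
    (hgen : Subgroup.closure ({a, b} : Set G) = ⊤)
    (hR : Rel p a b) (hap : a ^ p = 1) (hbp : b ^ p = 1)
    (f : G →* SpecialLinearGroup (Fin 2) (ZMod p)) (fa : f a = uu p) (fb : f b = ll p) :
    Function.Injective f := by
  rcases Nat.lt_or_ge p 5 with h5 | h5
  · have hpr := hp.out
    have h2 := hpr.two_le
    have h23 : p = 2 ∨ p = 3 := by
      rcases Nat.lt_or_ge p 4 with h4 | h4
      · omega
      · exfalso
        have h4' : p = 4 := by omega
        rw [h4'] at hpr
        norm_num at hpr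
    rcases h23 with h | h
    · exact injective_of_eq_two h hgen hR hap hbp f fa fb
    · exact injective_of_eq_three h hgen hR hap hbp f fa fb
  · exact injective_of_five_le h5 hgen hR hap hbp f fa fb

theorem main_iso {X : Type*} [Group X] {a b : X} (hR : Rel p a b) (hap : a ^ p = 1)
    (hbp : b ^ p = 1) (ha1 : a ≠ 1) (hb1 : b ≠ 1)
    (hne : Subgroup.zpowers a ≠ Subgroup.zpowers b) :
    Nonempty (↥(Subgroup.closure ({a, b} : Set X)) ≃* SpecialLinearGroup (Fin 2) (ZMod p)) ∨
    Nonempty (↥(Subgroup.closure ({a, b} : Set X)) ≃*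
      ProjectiveSpecialLinearGroup (Fin 2) (ZMod p)) := by
  let ah : X × SpecialLinearGroup (Fin 2) (ZMod p) := (a, uu p)
  let bh : X × SpecialLinearGroup (Fin 2) (ZMod p) := (b, ll p)
  let D : Subgroup (X × SpecialLinearGroup (Fin 2) (ZMod p)) := Subgroup.closure {ah, bh}
  let a₀ : D := ⟨ah, Subgroup.subset_closure (Set.mem_insert ah {bh})⟩
  let b₀ : D := ⟨bh, Subgroup.subset_closure (Set.mem_insert_of_mem ah (Set.mem_singleton bh))⟩
  let f₁ : D →* X := (MonoidHom.fst X (SpecialLinearGroup (Fin 2) (ZMod p))).comp D.subtype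
  let f₂ : D →* SpecialLinearGroup (Fin 2) (ZMod p) :=
    (MonoidHom.snd X (SpecialLinearGroup (Fin 2) (ZMod p))).comp D.subtype
  have hgen₀ : Subgroup.closure ({a₀, b₀} : Set D) = ⊤ := by
    have h0 := Subgroup.closure_closure_coe_preimage
      (k := ({ah, bh} : Set (X × SpecialLinearGroup (Fin 2) (ZMod p))))
    have hset : (((↑) : D → X × SpecialLinearGroup (Fin 2) (ZMod p)) ⁻¹' {ah, bh}) =
        ({a₀, b₀} : Set D) := by
      ext ⟨x, hx⟩
      simp only [Set.mem_preimage, Set.mem_insert_iff, Set.mem_singleton_iff]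
      constructor
      · rintro (h | h)
        · left; exact Subtype.ext h
        · right; exact Subtype.ext h
      · rintro (h | h)
        · left; exact congrArg Subtype.val h
        · right; exact congrArg Subtype.val h
    rw [← hset]
    exact h0
  have hR₀ : Rel p a₀ b₀ := by
    intro k m hkm
    apply Subtype.ext
    apply Prod.ext
    · exact hR k m hkm
    · exact rel_uu_ll k m hkm
  have hap₀ : a₀ ^ p = 1 := by
    apply Subtype.ext
    apply Prod.ext
    · exact hap
    · exact uu_pow_p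
  have hbp₀ : b₀ ^ p = 1 := by
    apply Subtype.ext
    apply Prod.ext
    · exact hbp
    · exact ll_pow_p
  have fa₂ : f₂ a₀ = uu p := rfl
  have fb₂ : f₂ b₀ = ll p := rfl
  have fa₁ : f₁ a₀ = a := rfl
  have fb₁ : f₁ b₀ = b := rfl
  have hinj₂ := injective_of_gen hgen₀ hR₀ hap₀ hbp₀ f₂ fa₂ fb₂
  have hsurj₂ := surjective_of_gen hgen₀ f₂ fa₂ fb₂
  let e : D ≃* SpecialLinearGroup (Fin 2) (ZMod p) := MulEquiv.ofBijective f₂ ⟨hinj₂, hsurj₂⟩
  let ψ : SpecialLinearGroup (Fin 2) (ZMod p) →* X := f₁.comp e.symm.toMonoidHom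
  have he : ∀ x : D, e x = f₂ x := fun x => rfl
  have hψu : ψ (uu p) = a := by
    show f₁ (e.symm (uu p)) = a
    rw [← fa₂, ← he, e.symm_apply_apply]
    exact fa₁
  have hψl : ψ (ll p) = b := by
    show f₁ (e.symm (ll p)) = b
    rw [← fb₂, ← he, e.symm_apply_apply]
    exact fb₁
  have hrange : ψ.range = Subgroup.closure ({a, b} : Set X) := by
    rw [MonoidHom.range_eq_map, ← closure_uu_ll, MonoidHom.map_closure, Set.image_pair, hψu, hψl]
  have hpair₀ : IsRankOnePair (Subgroup.zpowers a₀) (Subgroup.zpowers b₀) :=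
    isRankOnePair_of_map hR₀ hap₀ hbp₀ f₂ fa₂ fb₂
  have hpairX : IsRankOnePair (Subgroup.zpowers a) (Subgroup.zpowers b) :=
    isRankOnePair_of_rel hp.out hap hbp ha1 hb1 hne hR
  have htop := sup_zpowers_eq_top hgen₀
  have hker : ψ.ker ≤ Subgroup.center (SpecialLinearGroup (Fin 2) (ZMod p)) := by
    intro s hs
    rw [MonoidHom.mem_ker] at hs
    have hx : f₁ (e.symm s) = 1 := hs
    have hinj : ∀ x ∈ Subgroup.zpowers a₀, f₁ x = 1 → x = 1 := by
      intro x hx hfx
      obtain ⟨n, rfl⟩ := exists_pow_of_mem_zpowers hp.out hap₀ hx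
      rw [map_pow, fa₁] at hfx
      by_cases hn : n % p = 0
      · rw [pow_eq_pow_mod n hap₀, hn, pow_zero]
      · exact absurd hfx (pow_ne_one_of_mod hp.out hap ha1 hn)
    have hcomm := comm_of_map_eq_one f₁ hpair₀ hpairX
      (by rw [MonoidHom.map_zpowers, fa₁]) (by rw [MonoidHom.map_zpowers, fb₁]) hinj
      (by rw [htop]; exact Subgroup.mem_top _) hx
    rw [Subgroup.mem_center_iff]
    intro t
    have h1 := hcomm (e.symm t) (by rw [htop]; exact Subgroup.mem_top _)
    have h2 := congrArg e h1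
    rw [map_mul, map_mul, e.apply_symm_apply, e.apply_symm_apply] at h2
    exact h2.symm
  rcases eq_bot_or_eq_center ψ.ker hker with hk | hk
  · left
    have hinjψ : Function.Injective ψ := (MonoidHom.ker_eq_bot_iff ψ).mp hk
    exact ⟨((MonoidHom.ofInjective hinjψ).trans (MulEquiv.subgroupCongr hrange)).symm⟩
  · right
    have e1 : ProjectiveSpecialLinearGroup (Fin 2) (ZMod p) ≃*
        SpecialLinearGroup (Fin 2) (ZMod p) ⧸ ψ.ker :=
      QuotientGroup.quotientMulEquivOfEq hk.symm
    exact ⟨((e1.trans (QuotientGroup.quotientKerEquivRange ψ)).trans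
      (MulEquiv.subgroupCongr hrange)).symm⟩

end Cfsg.Agent.Helper8.SpecSL2
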