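import Mathlib
import Cfsg.Agent.Helper8.SpecHB
import Cfsg.Agent.S5017
import Cfsg.Agent.S5022
import Cfsg.Agent.Helper2.Quasisimple2

set_option autoImplicit false

/-! Special rank one groups with abelian unipotent subgroups: the structure dichotomy
(helper8). -/

namespace Cfsg.Agent.Helper8.SpecH

open Cfsg Cfsg.Agent.Helper7.R1 Cfsg.Agent.Helper8.SpecR1

variable {X : Type*} [Group X] {A B : Subgroup X}

/-- the case `|A| > 3`: `X` is perfect, hence quasisimple -/
theorem large_case (h : IsRankOneGroup X A B) (hs : IsSpecialRankOnePair A B)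
    (hab : HasAbelianUnipotents A B) (h3 : 3 < ENat.card A) :
    commutator X ⊔ A = ⊤ ∧ IsQuasisimple (commutator X) ∧
      3 < ENat.card ↥(⁅A, rankOneDiagonal A B⁆ : Subgroup X) := by
  have hp := hs.1
  have heq := comm_diag_eq hs hab.1 h3
  have hA : A ≤ commutator X := by
    rw [← heq, commutator_def]
    exact Subgroup.commutator_mono le_top le_top
  obtain ⟨a, ha, ha1⟩ := exists_nonid hp
  obtain ⟨b, hpart⟩ := exists_partner_right hp ha ha1
  have hB : B ≤ commutator X := by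
    intro x hx
    rw [← conj_nE_left hs hpart, mem_conjBy] at hx
    have h1 := hA hx
    have hn : (commutator X).Normal := inferInstance
    have h2 := hn.conj_mem _ h1 (b * a⁻¹ * b)
    have e : (b * a⁻¹ * b) * ((b * a⁻¹ * b)⁻¹ * x * (b * a⁻¹ * b)) * (b * a⁻¹ * b)⁻¹ = x := by
      group
    rwa [e] at h2
  have hcomm : commutator X = ⊤ := by
    rw [eq_top_iff, ← h.1]
    exact sup_le hA hB
  refine ⟨by rw [hcomm, top_sup_eq], ?_, by rw [heq]; exact h3⟩
  have hq : IsQuasisimple X := (Cfsg.Agent.S5017.result h).2 ⟨hcomm⟩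
  rw [hcomm]
  refine Cfsg.Agent.Helper2.isQuasisimple_of_surjective_central hq
    (Subgroup.topEquiv (G := X)).symm.toMonoidHom (Subgroup.topEquiv (G := X)).symm.surjective ?_
  intro z hz
  rw [MonoidHom.mem_ker] at hz
  have : z = 1 := (Subgroup.topEquiv (G := X)).symm.injective (by rw [map_one]; exact hz)
  rw [this]
  exact Subgroup.one_mem _

/-- the case `|A| ≤ 3` -/
theorem small_case (h : IsRankOneGroup X A B) (hs : IsSpecialRankOnePair A B)
    (hab : HasAbelianUnipotents A B) (h3 : ENat.card A ≤ 3) :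
    Nonempty (X ≃* Matrix.SpecialLinearGroup (Fin 2) (ZMod 2)) ∨
      Nonempty (X ≃* Matrix.SpecialLinearGroup (Fin 2) (ZMod 3)) ∨
      Nonempty (X ≃* Matrix.ProjectiveSpecialLinearGroup (Fin 2) (ZMod 3)) := by
  have hp := hs.1
  have hfin : Finite A := by
    by_contra hinf
    rw [not_finite_iff_infinite] at hinf
    rw [ENat.card_eq_top_of_infinite] at h3
    exact absurd h3 (by simp)
  have hc3 : Nat.card A ≤ 3 := by
    rw [ENat.card_eq_coe_natCard] at h3
    exact_mod_cast h3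
  obtain ⟨a, ha, ha1⟩ := exists_nonid hp
  obtain ⟨b, hpart⟩ := exists_partner_right hp ha ha1
  have hnt : Nontrivial A :=
    ⟨⟨⟨1, A.one_mem⟩, ⟨a, ha⟩, fun e => ha1 (congrArg Subtype.val e).symm⟩⟩
  have hc2 : 1 < Nat.card A := Finite.one_lt_card
  have main : ∀ p : ℕ, [Fact p.Prime] → Nat.card A = p →
      Nonempty (X ≃* Matrix.SpecialLinearGroup (Fin 2) (ZMod p)) ∨
      Nonempty (X ≃* Matrix.ProjectiveSpecialLinearGroup (Fin 2) (ZMod p)) := by
    intro p _ hcard
    have hel : IsElementaryAbelian p A := ⟨hab.1, fun x hx => by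
      have := pow_card_eq_one' (G := ↥A) (x := ⟨x, hx⟩)
      rw [hcard] at this
      exact congrArg Subtype.val this⟩
    have hmain := Cfsg.Agent.S5022.result h hs hab hel ha ha1 hpart.2.2.1 hpart.2.2.2.1
      hpart.2.2.2.2
    have hAz : A = Subgroup.zpowers a := by
      apply le_antisymm
      · intro x hx
        have := mem_zpowers_of_prime_card (G := ↥A) hcard (g := ⟨a, ha⟩) (g' := ⟨x, hx⟩)
          (fun e => ha1 (congrArg Subtype.val e))
        obtain ⟨k, hk⟩ := Subgroup.mem_zpowers_iff.mp this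
        exact Subgroup.mem_zpowers_iff.mpr ⟨k, by simpa using congrArg Subtype.val hk⟩
      · exact Subgroup.zpowers_le.mpr ha
    have hBz : B = Subgroup.zpowers b := by
      rw [← conj_nE_left hs hpart]
      conv_lhs => rw [hAz]
      rw [Cfsg.Agent.Helper8.SpecSL2.conjBy_zpowers, nE_conj_self hs hpart, Subgroup.zpowers_inv]
    have htop : Subgroup.closure ({a, b} : Set X) = ⊤ := by
      rw [eq_top_iff, ← h.1]
      apply sup_le
      · rw [hAz, Subgroup.zpowers_le]
        exact Subgroup.subset_closure (Set.mem_insert a {b})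
      · rw [hBz, Subgroup.zpowers_le]
        exact Subgroup.subset_closure (Set.mem_insert_of_mem a (Set.mem_singleton b))
    have e0 : X ≃* ↥(Subgroup.closure ({a, b} : Set X)) :=
      (Subgroup.topEquiv.symm).trans (MulEquiv.subgroupCongr htop.symm)
    rcases hmain with ⟨⟨e⟩⟩ | ⟨⟨e⟩⟩
    · exact Or.inl ⟨e0.trans e⟩
    · exact Or.inr ⟨e0.trans e⟩
  have h23 : Nat.card A = 2 ∨ Nat.card A = 3 := by omega
  rcases h23 with h2 | h3'
  · have : Fact (Nat.Prime 2) := ⟨Nat.prime_two⟩
    rcases main 2 h2 with ⟨⟨e⟩⟩ | ⟨⟨e⟩⟩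
    · exact Or.inl ⟨e⟩
    · exact Or.inl ⟨e.trans (Cfsg.Agent.Helper5.SLB.pslEquivSL (F := ZMod 2))⟩
  · have : Fact (Nat.Prime 3) := ⟨Nat.prime_three⟩
    rcases main 3 h3' with ⟨⟨e⟩⟩ | ⟨⟨e⟩⟩
    · exact Or.inr (Or.inl ⟨e⟩)
    · exact Or.inr (Or.inr ⟨e⟩)

end Cfsg.Agent.Helper8.SpecH
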