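import Mathlib
import Cfsg.Agent.Helper8.SpecHC
import Cfsg.Agent.Lead.RootImage
import Cfsg.Agent.S5032
import Cfsg.Agent.S5034
import Cfsg.Agent.S5037

set_option autoImplicit false

/-! Sets of abstract root subgroups: normal subgroups are central or everything, and the group is
perfect, under the hypotheses of the quasisimplicity criterion (helper8). -/

namespace Cfsg.Agent.Helper8.RootQS

open Cfsg Cfsg.Agent.Helper7.R1 Cfsg.Agent.Helper8.SpecR1

variable {G : Type*} [Group G] {S : Set (Subgroup G)}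

/-- a normal subgroup containing a member of a generating conjugacy class is everything -/
theorem eq_top_of_member_le (hS : IsRootSubgroupSet S) (hcl : IsConjClassOfSubgroups S)
    {N : Subgroup G} (hN : N.Normal) {D : Subgroup G} (hD : D ∈ S) (hDN : D ≤ N) : N = ⊤ := by
  rw [eq_top_iff, ← hS.generates]
  apply iSup₂_le
  intro E hE
  obtain ⟨g, rfl⟩ := hcl.2 D hD E hE
  intro x hx
  rw [mem_conjBy] at hx
  have h1 := hN.conj_mem _ (hDN hx) g
  have e : g * (g⁻¹ * x * g) * g⁻¹ = x := by group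
  rwa [e] at h1

theorem nondegenerate_of_not_degenerate (hS : IsRootSubgroupSet S)
    (hnd : ¬ IsDegenerateRootSet S) (hr : ∃ A ∈ S, ∃ B ∈ S, IsRankOnePair A B) :
    IsNondegenerateRootSet S := by
  unfold IsDegenerateRootSet at hnd
  push Not at hnd
  obtain ⟨A, hA, B, hB, hAB⟩ := hnd
  refine ⟨⟨A, hA, ⁅A, B⁆, hAB.1, ?_, ?_⟩, hr, ⟨A, hA, B, hB, hAB⟩⟩
  · intro e
    -- then `A` commutes with `B`, so `⁅A, B⁆ = ⊥`
    have h1 : ⁅A, B⁆ = ⊥ := by
      rw [Subgroup.commutator_eq_bot_iff_le_centralizer]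
      intro a ha b hb
      have ha' : a ∈ ⁅A, B⁆ := e ▸ ha
      exact (hAB.2.1 a ha' b (Subgroup.mem_sup_right hb)).symm
    exact hS.ne_bot _ hAB.1 h1
  · rw [Subgroup.commutator_eq_bot_iff_le_centralizer]
    intro a ha c hc
    exact hAB.2.1 c hc a (Subgroup.mem_sup_left ha)

/-- a rank one pair in `S` whose members have the same image under `f` yields a member of `S` in
the kernel of `f` -/
theorem exists_member_map_bot_of_pair (hS : IsRootSubgroupSet S)
    (hcl : IsConjClassOfSubgroups S)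
    (h3 : IsDegenerateRootSet S → ∀ A ∈ S, 3 < ENat.card A)
    (h4 : ∀ A ∈ S, ∀ B ∈ rankOnePartners S A, IsSpecialRankOnePair A B)
    {Q : Type*} [Group Q] (f : G →* Q) {E C : Subgroup G} (hE : E ∈ S)
    (hC : C ∈ rankOnePartners S E) (heq : E.map f = C.map f) : ∃ D ∈ S, D.map f = ⊥ := by
  by_cases hdeg : IsDegenerateRootSet S
  · refine ⟨E, hE, ?_⟩
    have hs := h4 E hE C hC
    have hcomm := Cfsg.Agent.Helper8.SpecH.comm_diag_eq hs (hS.commutative E hE) (h3 hdeg E hE)
    have h1 : E ≤ ⁅E ⊔ C, E ⊔ C⁆ := by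
      conv_lhs => rw [← hcomm]
      apply Subgroup.commutator_mono le_sup_left
      exact inf_le_left.trans inf_le_left
    have h2 : (⁅E ⊔ C, E ⊔ C⁆).map f = ⊥ := by
      rw [Subgroup.map_commutator, Subgroup.map_sup, ← heq, sup_idem]
      have := hS.commutative E hE
      exact Subgroup.commutator_self_eq_bot_iff.2 (Subgroup.map_isMulCommutative E f)
    rw [eq_bot_iff, ← h2]
    exact Subgroup.map_mono h1
  · have hnd := nondegenerate_of_not_degenerate hS hdeg ⟨E, hE, C, hC.1, hC.2⟩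
    obtain ⟨⟨L, hL1, hL2⟩, -⟩ := Cfsg.Agent.S5034.result ⟨hS, hcl⟩ hnd hE hC
    refine ⟨⁅C, L⁆, hL2.2, ?_⟩
    rw [Subgroup.map_commutator, ← heq, ← Subgroup.map_commutator, hL1.1.2.2, Subgroup.map_bot]

/-- commuting images of a rank one pair coincide -/
theorem map_eq_of_commute (hS : IsRootSubgroupSet S) {Q : Type*} [Group Q] (f : G →* Q)
    {E C : Subgroup G} (hE : E ∈ S) (hC : C ∈ S) (hp : IsRankOnePair E C)
    (hcomm : ⁅E.map f, C.map f⁆ = ⊥) : E.map f = C.map f := by
  by_contra hne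
  have hp' := Cfsg.Agent.Lead.RootImage.pair_map f (hS.commutative E hE) (hS.commutative C hC)
    hp hne
  obtain ⟨e, he, he1⟩ := exists_nonid hp'
  obtain ⟨c, hc, hc1, -⟩ := hp'.cond_left e he he1
  exact Cfsg.Agent.Helper8.RankOneExtra.not_commute hp' he he1 hc hc1
    (Cfsg.Agent.Helper7.Root.comm_of_commutator_eq_bot hcomm he hc)

/-- if a non-identity element of `A` dies under `f`, the images of `A` and of a rank one partner
coincide -/
theorem map_eq_of_ker_mem (hS : IsRootSubgroupSet S) {Q : Type*} [Group Q] (f : G →* Q)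
    {A B : Subgroup G} (hA : A ∈ S) (hB : B ∈ S) (hp : IsRankOnePair A B) {a₀ : G}
    (ha₀ : a₀ ∈ A) (h1 : a₀ ≠ 1) (hf : f a₀ = 1) : A.map f = B.map f := by
  by_contra hne
  have hp' := Cfsg.Agent.Lead.RootImage.pair_map f (hS.commutative A hA) (hS.commutative B hB)
    hp hne
  obtain ⟨b₀, hb₀, -, e⟩ := hp.cond_left a₀ ha₀ h1
  have e' := congrArg (Subgroup.map f) e
  rw [Cfsg.Agent.Lead.RootImage.conjBy_map, Cfsg.Agent.Lead.RootImage.conjBy_map, map_inv,
    map_inv, hf, inv_one, conjBy_one] at e'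
  exact conjBy_right_ne_left (RankOnePair_symm hp')
    (Subgroup.inv_mem _ (Subgroup.mem_map_of_mem f hb₀)) e'

/-- a normal subgroup which is not central contains a member of `S` -/
theorem exists_member_le_normal (hS : IsRootSubgroupSet S) (hcl : IsConjClassOfSubgroups S)
    (hpartner : ∀ A ∈ S, ∃ B, B ∈ rankOnePartners S A)
    (h2' : ∀ A ∈ S, ∀ C ∈ S, A ≠ C → centralizingMembers S A ≠ centralizingMembers S C)
    (h3 : IsDegenerateRootSet S → ∀ A ∈ S, 3 < ENat.card A)
    (h4 : ∀ A ∈ S, ∀ B ∈ rankOnePartners S A, IsSpecialRankOnePair A B)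
    {N : Subgroup G} (hN : N.Normal) (hNZ : ¬ N ≤ Subgroup.center G) : ∃ D ∈ S, D ≤ N := by
  let f := QuotientGroup.mk' N
  have hker : ∀ D : Subgroup G, D.map f = ⊥ → D ≤ N := by
    intro D hD
    have := (Subgroup.map_eq_bot_iff D).mp hD
    rwa [QuotientGroup.ker_mk'] at this
  suffices h : ∃ D ∈ S, D.map f = ⊥ by
    obtain ⟨D, hD, e⟩ := h
    exact ⟨D, hD, hker D e⟩
  obtain ⟨n, hn, A, hA, a, ha, hna⟩ : ∃ n ∈ N, ∃ A ∈ S, ∃ a ∈ A, n * a ≠ a * n := by
    by_contra hcon
    push Not at hcon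
    apply hNZ
    intro n hn
    rw [Subgroup.mem_center_iff]
    intro g
    have h1 : (⨆ A ∈ S, A) ≤ Subgroup.centralizer {n} := by
      apply iSup₂_le
      intro A hA a ha
      rw [Subgroup.mem_centralizer_iff]
      intro m hm
      rw [Set.mem_singleton_iff.mp hm]
      exact hcon n hn A hA a ha
    rw [hS.generates] at h1
    have h2 := h1 (Subgroup.mem_top g)
    rw [Subgroup.mem_centralizer_iff] at h2
    exact (h2 n rfl).symm
  have hfn : f n = 1 := (QuotientGroup.eq_one_iff n).mpr hn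
  have hCS : conjBy A n ∈ S := hS.conj_mem A hA n
  have hCmap : (conjBy A n).map f = A.map f := by
    rw [Cfsg.Agent.Lead.RootImage.conjBy_map, hfn, conjBy_one]
  obtain ⟨B, hB⟩ := hpartner A hA
  have hdn : IsDegenerateRootSet S ∨ IsNondegenerateRootSet S := by
    by_cases hdeg : IsDegenerateRootSet S
    · exact Or.inl hdeg
    · exact Or.inr (nondegenerate_of_not_degenerate hS hdeg ⟨A, hA, B, hB.1, hB.2⟩)
  rcases hS.pair A hA (conjBy A n) hCS with hc | hr | hcc
  · by_cases hCA : conjBy A n = A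
    · have hmem : n * a * n⁻¹ ∈ A := by
        have h1 : n * a * n⁻¹ ∈ conjBy A n := by
          rw [mem_conjBy]
          have e : n⁻¹ * (n * a * n⁻¹) * n = a := by group
          rw [e]; exact ha
        rwa [hCA] at h1
      have ha₀ : n * a * n⁻¹ * a⁻¹ ∈ A := A.mul_mem hmem (A.inv_mem ha)
      have ha₀1 : n * a * n⁻¹ * a⁻¹ ≠ 1 := by
        intro e
        apply hna
        have e2 : n * a = (n * a * n⁻¹ * a⁻¹) * (a * n) := by group
        rw [e2, e, one_mul]
      have hfa₀ : f (n * a * n⁻¹ * a⁻¹) = 1 := by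
        rw [map_mul, map_mul, map_mul, map_inv, map_inv, hfn]
        group
      have heq := map_eq_of_ker_mem hS f hA hB.1 hB.2 ha₀ ha₀1 hfa₀
      exact exists_member_map_bot_of_pair hS hcl h3 h4 f hA hB heq
    · have hsub : ¬ centralizingMembers S A ⊆ centralizingMembers S (conjBy A n) := by
        intro hsub
        exact h2' A hA _ hCS (Ne.symm hCA)
          ((Cfsg.Agent.S5037.result ⟨hS, hcl⟩ hdn hA hCS (Ne.symm hCA)).1 hsub)
      obtain ⟨E, hEA, hEC⟩ := Set.not_subset.mp hsub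
      have hES : E ∈ S := hEA.1
      have hEAc : ⁅E, A⁆ = ⊥ := Subgroup.commutator_eq_bot_iff_le_centralizer.mpr hEA.2
      have hECn : ⁅E, conjBy A n⁆ ≠ ⊥ := by
        intro e
        exact hEC ⟨hES, Subgroup.commutator_eq_bot_iff_le_centralizer.mp e⟩
      have himg : ⁅E.map f, (conjBy A n).map f⁆ = ⊥ := by
        rw [hCmap, ← Subgroup.map_commutator, hEAc, Subgroup.map_bot]
      rcases hS.pair E hES (conjBy A n) hCS with h1 | h1 | h1
      · exact absurd h1 hECn
      · have heq := map_eq_of_commute hS f hES hCS h1 himg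
        exact exists_member_map_bot_of_pair hS hcl h3 h4 f hES ⟨hCS, h1⟩ heq
      · exact ⟨⁅E, conjBy A n⁆, h1.1, by rw [Subgroup.map_commutator]; exact himg⟩
  · exact exists_member_map_bot_of_pair hS hcl h3 h4 f hA ⟨hCS, hr⟩ hCmap.symm
  · refine ⟨⁅A, conjBy A n⁆, hcc.1, ?_⟩
    rw [Subgroup.map_commutator, hCmap]
    have := hS.commutative A hA
    exact Subgroup.commutator_self_eq_bot_iff.2 (Subgroup.map_isMulCommutative A f)

end Cfsg.Agent.Helper8.RootQS
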