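import Mathlib
import Cfsg.Agent.Helper8.RootQSA

set_option autoImplicit false

/-! The quasisimplicity criterion for groups generated by abstract root subgroups (helper8). -/

namespace Cfsg.Agent.Helper8.RootQS

open Cfsg Cfsg.Agent.Helper7.R1 Cfsg.Agent.Helper8.SpecR1

variable {G : Type*} [Group G] {S : Set (Subgroup G)}

theorem isQuasisimple_of_normal_dichotomy (hperf : commutator G = ⊤)
    (hnc : ∃ x y : G, x * y ≠ y * x)
    (hN : ∀ N : Subgroup G, N.Normal → N ≤ Subgroup.center G ∨ N = ⊤) : IsQuasisimple G := by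
  refine ⟨⟨hperf⟩, ?_⟩
  have hnt : Nontrivial (G ⧸ Subgroup.center G) := by
    by_contra hnt
    rw [not_nontrivial_iff_subsingleton] at hnt
    have htop : Subgroup.center G = ⊤ := by
      rw [eq_top_iff]
      intro x _
      have : (QuotientGroup.mk x : G ⧸ Subgroup.center G) = QuotientGroup.mk 1 :=
        Subsingleton.elim _ _
      rw [QuotientGroup.eq] at this
      simpa using this
    obtain ⟨x, y, hxy⟩ := hnc
    apply hxy
    have hy : y ∈ Subgroup.center G := by rw [htop]; trivial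
    exact (Subgroup.mem_center_iff.mp hy x)
  refine { toNontrivial := hnt, eq_bot_or_eq_top_of_normal := ?_ }
  intro M hM
  set N : Subgroup G := M.comap (QuotientGroup.mk' (Subgroup.center G)) with hNdef
  have hNn : N.Normal := hM.comap _
  have hMN : M = N.map (QuotientGroup.mk' (Subgroup.center G)) := by
    rw [hNdef, Subgroup.map_comap_eq_self_of_surjective (QuotientGroup.mk'_surjective _)]
  rcases hN N hNn with hle | htop
  · left
    rw [hMN, eq_bot_iff]
    rintro _ ⟨n, hn, rfl⟩
    rw [Subgroup.mem_bot, QuotientGroup.mk'_apply, QuotientGroup.eq_one_iff]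
    exact hle hn
  · right
    rw [hMN, htop, ← MonoidHom.range_eq_map,
      MonoidHom.range_eq_top_of_surjective _ (QuotientGroup.mk'_surjective _)]

theorem main (hS : IsRootSubgroupSet S) (h2 : ∃ A ∈ S, ∃ B ∈ S, A ≠ B)
    (h1 : IsConnectedFamily (FAdj S) S)
    (h2' : ∀ A ∈ S, ∀ C ∈ S, A ≠ C → centralizingMembers S A ≠ centralizingMembers S C)
    (h3 : IsDegenerateRootSet S → ∀ A ∈ S, 3 < ENat.card A)
    (h4 : ∀ A ∈ S, ∀ B ∈ rankOnePartners S A, IsSpecialRankOnePair A B) :
    commutator G = ⊤ ∧ IsQuasisimple G := by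
  have hcl := ((Cfsg.Agent.S5032.result hS h2).mp h1).1
  have hpartner : ∀ A ∈ S, ∃ B, B ∈ rankOnePartners S A := by
    intro A hA
    obtain ⟨A₁, hA₁, B₁, hB₁, hne⟩ := h2
    obtain ⟨D, hD, hDA⟩ : ∃ D ∈ S, D ≠ A := by
      by_cases e : A₁ = A
      · exact ⟨B₁, hB₁, fun e' => hne (e.trans e'.symm)⟩
      · exact ⟨A₁, hA₁, e⟩
    have hpath := h1 A hA D hD
    rcases Relation.ReflTransGen.cases_head hpath with e | ⟨c, hc, -⟩
    · exact absurd e.symm hDA
    · exact ⟨c, hc.2.1, hc.2.2⟩
  obtain ⟨A, hA, -⟩ := h2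
  obtain ⟨B, hB⟩ := hpartner A hA
  have hperf : commutator G = ⊤ := by
    have hex : ∃ D ∈ S, D ≤ commutator G := by
      by_cases hdeg : IsDegenerateRootSet S
      · refine ⟨A, hA, ?_⟩
        have hcomm := Cfsg.Agent.Helper8.SpecH.comm_diag_eq (h4 A hA B hB) (hS.commutative A hA)
          (h3 hdeg A hA)
        rw [← hcomm, commutator_def]
        exact Subgroup.commutator_mono le_top le_top
      · unfold IsDegenerateRootSet at hdeg
        push Not at hdeg
        obtain ⟨A', hA', B', hB', hAB⟩ := hdeg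
        exact ⟨⁅A', B'⁆, hAB.1, by
          rw [commutator_def]; exact Subgroup.commutator_mono le_top le_top⟩
    obtain ⟨D, hD, hDle⟩ := hex
    exact eq_top_of_member_le hS hcl inferInstance hD hDle
  refine ⟨hperf, isQuasisimple_of_normal_dichotomy hperf ?_ ?_⟩
  · obtain ⟨a, ha, ha1⟩ := exists_nonid hB.2
    obtain ⟨b, hb, hb1, -⟩ := hB.2.cond_left a ha ha1
    exact ⟨a, b, Cfsg.Agent.Helper8.RankOneExtra.not_commute hB.2 ha ha1 hb hb1⟩
  · intro N hN
    by_cases hNZ : N ≤ Subgroup.center G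
    · exact Or.inl hNZ
    · right
      obtain ⟨D, hD, hDN⟩ := exists_member_le_normal hS hcl hpartner h2' h3 h4 hN hNZ
      exact eq_top_of_member_le hS hcl hN hD hDN

end Cfsg.Agent.Helper8.RootQS
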