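import Mathlib
import Cfsg.Agent.Helper8.RootSubB

set_option autoImplicit false

/-! Families of abstract root subgroups viewed inside the subgroup they generate: transport of
the commutator case, and the three-case version of the transport of the axioms (helper8). -/

namespace Cfsg.Agent.Helper8.RootSub

open Cfsg Cfsg.Agent.Helper7.R1

variable {G : Type*} [Group G]

theorem image_subgroupOf_coe {H A : Subgroup G} (hA : A ≤ H) :
    (H.subtype '' ((A.subgroupOf H : Subgroup H) : Set H)) = (A : Set G) := by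
  ext x
  constructor
  · rintro ⟨y, hy, rfl⟩
    exact Subgroup.mem_subgroupOf.mp hy
  · intro hx
    exact ⟨⟨x, hA hx⟩, Subgroup.mem_subgroupOf.mpr hx, rfl⟩

theorem rootCommutatorCase_subgroupOf {S : Set (Subgroup G)} {H A B : Subgroup G} (hA : A ≤ H)
    (hB : B ≤ H) (h : RootCommutatorCase S A B) :
    RootCommutatorCase ((fun A : Subgroup G => A.subgroupOf H) '' S) (A.subgroupOf H)
      (B.subgroupOf H) := by
  obtain ⟨h1, h2, h3, h4⟩ := h
  have hle : ⁅A, B⁆ ≤ H := commutator_le_of_le hA hB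
  refine ⟨?_, ?_, ?_, ?_⟩
  · rw [commutator_subgroupOf hA hB]
    exact ⟨_, h1, rfl⟩
  · intro c hc x hx
    rw [commutator_subgroupOf hA hB] at hc
    rw [← Subgroup.subgroupOf_sup hA hB] at hx
    exact Subtype.ext (h2 c.1 (Subgroup.mem_subgroupOf.mp hc) x.1 (Subgroup.mem_subgroupOf.mp hx))
  · intro a ha ha1
    apply Subgroup.map_injective H.subtype_injective
    rw [MonoidHom.map_closure, commutator_subgroupOf hA hB, Subgroup.map_subgroupOf_eq_of_le hle,
      ← h3 a.1 (Subgroup.mem_subgroupOf.mp ha) (fun e => ha1 (Subtype.ext e))]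
    congr 1
    rw [Set.image_image, ← image_subgroupOf_coe hB, Set.image_image]
    rfl
  · intro b hb hb1
    apply Subgroup.map_injective H.subtype_injective
    rw [MonoidHom.map_closure, commutator_subgroupOf hA hB, Subgroup.map_subgroupOf_eq_of_le hle,
      ← h4 b.1 (Subgroup.mem_subgroupOf.mp hb) (fun e => hb1 (Subtype.ext e))]
    congr 1
    rw [Set.image_image, ← image_subgroupOf_coe hA, Set.image_image]
    rfl

variable (S : Set (Subgroup G))

/-- the three-case version of `isRootSubgroupSet_inside` -/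
theorem isRootSubgroupSet_inside3 (hcomm : ∀ A ∈ S, IsMulCommutative A) (hne : ∀ A ∈ S, A ≠ ⊥)
    (hconj : ∀ A ∈ S, ∀ g : G, conjBy A g ∈ S)
    (hpair : ∀ A ∈ S, ∀ B ∈ S, ⁅A, B⁆ = ⊥ ∨ IsRankOnePair A B ∨ RootCommutatorCase S A B) :
    IsRootSubgroupSet ((fun A : Subgroup G => A.subgroupOf (⨆ B ∈ S, B)) '' S) where
  commutative := by
    rintro _ ⟨A, hA, rfl⟩
    have := hcomm A hA
    constructor; constructor
    rintro ⟨⟨a, haH⟩, ha⟩ ⟨⟨b, hbH⟩, hb⟩
    apply Subtype.ext
    apply Subtype.ext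
    have h1 := this.is_comm.comm ⟨a, Subgroup.mem_subgroupOf.mp ha⟩ ⟨b, Subgroup.mem_subgroupOf.mp hb⟩
    show a * b = b * a
    exact congrArg Subtype.val h1
  ne_bot := by
    rintro _ ⟨A, hA, rfl⟩ h
    apply hne A hA
    rw [← Subgroup.bot_subgroupOf] at h
    exact (subgroupOf_eq_iff (le_gen S hA) bot_le).mp h
  generates := by
    apply Subgroup.map_injective (⨆ B ∈ S, B).subtype_injective
    rw [iSup_image, Subgroup.map_iSup]
    simp_rw [Subgroup.map_iSup]
    rw [← MonoidHom.range_eq_map, Subgroup.range_subtype]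
    apply le_antisymm
    · apply iSup₂_le
      intro A hA
      rw [Subgroup.map_subgroupOf_eq_of_le (le_gen S hA)]
      exact le_gen S hA
    · apply iSup₂_le
      intro A hA
      refine le_trans ?_ (le_iSup₂ (f := fun A (_ : A ∈ S) =>
        Subgroup.map (⨆ B ∈ S, B).subtype (A.subgroupOf (⨆ B ∈ S, B))) A hA)
      rw [Subgroup.map_subgroupOf_eq_of_le (le_gen S hA)]
  conj_mem := by
    rintro _ ⟨A, hA, rfl⟩ g
    exact ⟨conjBy A (g : G), hconj A hA g, (conjBy_subgroupOf A g).symm⟩
  pair := by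
    rintro _ ⟨A, hA, rfl⟩ _ ⟨B, hB, rfl⟩
    rcases hpair A hA B hB with h | h | h
    · exact Or.inl ((commutator_subgroupOf_eq_bot (le_gen S hA) (le_gen S hB)).mpr h)
    · exact Or.inr (Or.inl ((isRankOnePair_subgroupOf (le_gen S hA) (le_gen S hB)).mpr h))
    · exact Or.inr (Or.inr (rootCommutatorCase_subgroupOf (le_gen S hA) (le_gen S hB) h))

end Cfsg.Agent.Helper8.RootSub
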