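import Mathlib
import Cfsg.Agent.Helper1.FrobPCompl2

set_option autoImplicit false

/-!
# S4017, case 1 (and the branch of case 2 where no `p`-element acts on a `q`-subgroup)

`case1'` : if no `p`-element acts nontrivially on a `q`-subgroup, then `p`, `q` are the only prime
divisors of `|G|`.  `case1` : the same from `q ^ a - 1 < p`.
-/

namespace Cfsg.Agent.Helper8.S4017

open Subgroup

theorem card_sup_dvd_of_le_normalizer {G : Type*} [Group G] [Finite G] {X Y : Subgroup G}
    (h : Y ≤ Subgroup.normalizer (X : Set G)) :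
    Nat.card ↥(X ⊔ Y) ∣ Nat.card X * Nat.card Y := by
  have hXL : X ≤ X ⊔ Y := le_sup_left
  have hYL : Y ≤ X ⊔ Y := le_sup_right
  have : (X.subgroupOf (X ⊔ Y)).Normal :=
    (Subgroup.normal_subgroupOf_iff_le_normalizer hXL).2 (sup_le Subgroup.le_normalizer h)
  have h2 : X.subgroupOf (X ⊔ Y) ⊔ Y.subgroupOf (X ⊔ Y) = ⊤ := by
    rw [← Subgroup.subgroupOf_sup hXL hYL, Subgroup.subgroupOf_self]
  have h3 : (X.subgroupOf (X ⊔ Y)).relIndex (X.subgroupOf (X ⊔ Y) ⊔ Y.subgroupOf (X ⊔ Y)) =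
      (X.subgroupOf (X ⊔ Y)).relIndex (Y.subgroupOf (X ⊔ Y)) := Subgroup.relIndex_sup_left _ _
  rw [h2, Subgroup.relIndex_top_right] at h3
  have h4 : (X.subgroupOf (X ⊔ Y)).relIndex (Y.subgroupOf (X ⊔ Y)) ∣
      Nat.card (Y.subgroupOf (X ⊔ Y)) := Subgroup.relIndex_dvd_card _ _
  have h5 : Nat.card (X.subgroupOf (X ⊔ Y)) * (X.subgroupOf (X ⊔ Y)).index = Nat.card ↥(X ⊔ Y) :=
    Subgroup.card_mul_index _
  have h6 : Nat.card (X.subgroupOf (X ⊔ Y)) = Nat.card X :=
    Nat.card_congr (Subgroup.subgroupOfEquivOfLe hXL).toEquiv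
  have h7 : Nat.card (Y.subgroupOf (X ⊔ Y)) = Nat.card Y :=
    Nat.card_congr (Subgroup.subgroupOfEquivOfLe hYL).toEquiv
  rw [← h5, h3, h6]
  exact Nat.mul_dvd_mul_left _ (h7 ▸ h4)

/-- A mixed `{q, s}`-subgroup `V ⊔ ⟨y⟩` (with `p ∤` its order) cannot exist. -/
theorem no_mixed {G : Type*} [Group G] [Finite G] {p q : ℕ} (hp : p.Prime) (hq : q.Prime)
    (hpq : p ≠ q) (hpG : p ∣ Nat.card G)
    (hmix : ∀ H : Subgroup G, H ≠ ⊤ → ¬ IsPGroup q H → q ∣ Nat.card H → p ∣ Nat.card H)
    (V W : Subgroup G) (hV : IsPGroup q V) (hV1 : V ≠ ⊥) (s : ℕ) (hs : s.Prime) (hsp : s ≠ p)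
    (hsq : s ≠ q) (hW : IsPGroup s W) (hW1 : W ≠ ⊥)
    (hWV : W ≤ Subgroup.normalizer (V : Set G)) : False := by
  have := Fact.mk hq
  have := Fact.mk hs
  set H := V ⊔ W with hH
  have hdvd : Nat.card H ∣ Nat.card V * Nat.card W := card_sup_dvd_of_le_normalizer hWV
  obtain ⟨a, ha⟩ := hV.exists_card_eq
  obtain ⟨b, hb⟩ := hW.exists_card_eq
  have ha1 : a ≠ 0 := by
    rintro rfl
    rw [pow_zero] at ha
    exact hV1 ((Subgroup.card_eq_one).1 ha)
  have hb1 : b ≠ 0 := by
    rintro rfl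
    rw [pow_zero] at hb
    exact hW1 ((Subgroup.card_eq_one).1 hb)
  have hpn : ¬ p ∣ Nat.card H := by
    intro hpd
    have h1 : p ∣ q ^ a * s ^ b := by
      rw [← ha, ← hb]; exact hpd.trans hdvd
    rcases (Nat.Prime.dvd_mul hp).1 h1 with h | h
    · exact hpq ((Nat.prime_dvd_prime_iff_eq hp hq).1 (hp.dvd_of_dvd_pow h))
    · exact hsp ((Nat.prime_dvd_prime_iff_eq hp hs).1 (hp.dvd_of_dvd_pow h)).symm
  have hqH : q ∣ Nat.card H := by
    have h1 : Nat.card V ∣ Nat.card H := Subgroup.card_dvd_of_le le_sup_left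
    rw [ha] at h1
    exact (dvd_pow_self q ha1).trans h1
  have hsH : s ∣ Nat.card H := by
    have h1 : Nat.card W ∣ Nat.card H := Subgroup.card_dvd_of_le le_sup_right
    rw [hb] at h1
    exact (dvd_pow_self s hb1).trans h1
  have hnq : ¬ IsPGroup q H := by
    intro hHq
    obtain ⟨c, hc⟩ := hHq.exists_card_eq
    rw [hc] at hsH
    exact hsq ((Nat.prime_dvd_prime_iff_eq hs hq).1 (hs.dvd_of_dvd_pow hsH))
  have hne : H ≠ ⊤ := by
    intro htop
    apply hpn
    rw [htop, Subgroup.card_top]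
    exact hpG
  exact hpn (hmix H hne hnq hqH)

/-- Elements of `N(V)` of order prime to `q` centralize the nontrivial `q`-subgroup `V`. -/
theorem coprime_normalizer_centralizes {G : Type*} [Group G] [Finite G] {p q : ℕ} (hp : p.Prime)
    (hq : q.Prime) (hpq : p ≠ q) (hpG : p ∣ Nat.card G)
    (hmix : ∀ H : Subgroup G, H ≠ ⊤ → ¬ IsPGroup q H → q ∣ Nat.card H → p ∣ Nat.card H)
    (hnoact : ∀ (V : Subgroup G) (x : G), IsPGroup q V → (∃ k, orderOf x = p ^ k) →
      x ∈ Subgroup.normalizer (V : Set G) → x ∈ Subgroup.centralizer (V : Set G))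
    (V : Subgroup G) (hV : IsPGroup q V) (hV1 : V ≠ ⊥) (g : G)
    (hg : g ∈ Subgroup.normalizer (V : Set G)) (hco : (orderOf g).Coprime q) :
    g ∈ Subgroup.centralizer (V : Set G) := by
  have hn0 : orderOf g ≠ 0 := (orderOf_pos g).ne'
  have hall : ∀ {d : ℕ}, d.Prime → d ∣ orderOf g → d = p := by
    intro s hs hsd
    by_contra hsp
    have hsq : s ≠ q := by
      rintro rfl
      have : s ∣ Nat.gcd (orderOf g) s := Nat.dvd_gcd hsd dvd_rfl
      rw [hco] at this
      exact hs.one_lt.ne' (Nat.dvd_one.1 this)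
    set y := g ^ (orderOf g / s) with hy
    have hyo : orderOf y = s := orderOf_pow_orderOf_div hn0 hsd
    have hyN : Subgroup.zpowers y ≤ Subgroup.normalizer (V : Set G) := by
      rw [Subgroup.zpowers_le]
      exact Subgroup.pow_mem _ hg _
    have hW : IsPGroup s (Subgroup.zpowers y) := by
      have := Fact.mk hs
      apply IsPGroup.of_card (n := 1)
      rw [Nat.card_zpowers, hyo, pow_one]
    have hW1 : Subgroup.zpowers y ≠ ⊥ := by
      intro h
      rw [Subgroup.zpowers_eq_bot] at h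
      rw [h, orderOf_one] at hyo
      exact hs.one_lt.ne hyo
    exact no_mixed hp hq hpq hpG hmix V (Subgroup.zpowers y) hV hV1 s hs hsp hsq hW hW1 hyN
  have hk : orderOf g = p ^ (orderOf g).primeFactorsList.length :=
    Nat.eq_prime_pow_of_unique_prime_dvd hn0 hall
  exact hnoact V g hV ⟨_, hk⟩ hg

theorem case1' {G : Type*} [Group G] [Finite G] {p q : ℕ} (hp : p.Prime) (hq : q.Prime)
    (hpq : p ≠ q) (hpG : p ∣ Nat.card G) (hqG : q ∣ Nat.card G)
    (hmix : ∀ H : Subgroup G, H ≠ ⊤ → ¬ IsPGroup q H → q ∣ Nat.card H → p ∣ Nat.card H)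
    (hnoact : ∀ (V : Subgroup G) (x : G), IsPGroup q V → (∃ k, orderOf x = p ^ k) →
      x ∈ Subgroup.normalizer (V : Set G) → x ∈ Subgroup.centralizer (V : Set G)) :
    ∀ r : ℕ, r.Prime → r ∣ Nat.card G → r = p ∨ r = q := by
  intro r hr hrG
  by_contra hcon
  push Not at hcon
  obtain ⟨hrp, hrq⟩ := hcon
  have := Fact.mk hq
  have := Fact.mk hr
  let P : Sylow q G := default
  have hfrob : ∃ N : Subgroup G, N.Normal ∧ N.IsComplement' (P : Subgroup G) := by
    rw [Cfsg.Agent.Helper1.frobenius_normal_pcomplement_iff P]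
    intro Q hQP g hg hco
    by_cases hQ1 : Q = ⊥
    · subst hQ1
      rw [Subgroup.coe_bot, Subgroup.centralizer_eq_top_iff_subset.2]
      · trivial
      · intro x hx
        rw [Set.mem_singleton_iff] at hx
        rw [hx]
        exact Subgroup.one_mem _
    · exact coprime_normalizer_centralizes hp hq hpq hpG hmix hnoact Q (P.2.to_le hQP) hQ1 g hg hco
  obtain ⟨N, hNn, hNc⟩ := hfrob
  have := hNn
  have hcardP : Nat.card (P : Subgroup G) = q ^ (Nat.card G).factorization q :=
    Sylow.card_eq_multiplicity P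
  have hmul : Nat.card N * Nat.card (P : Subgroup G) = Nat.card G := hNc.card_mul_card
  have hidx : N.index = Nat.card (P : Subgroup G) := hNc.symm.index_eq_card
  have ha1 : (Nat.card G).factorization q ≠ 0 := by
    have : 0 < (Nat.card G).factorization q :=
      hq.factorization_pos_of_dvd Nat.card_pos.ne' hqG
    exact this.ne'
  -- r divides |N|
  have hrN : r ∣ Nat.card N := by
    have h1 : r ∣ Nat.card N * q ^ (Nat.card G).factorization q := by
      rw [← hcardP, hmul]; exact hrG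
    rcases (Nat.Prime.dvd_mul hr).1 h1 with h | h
    · exact h
    · exact absurd ((Nat.prime_dvd_prime_iff_eq hr hq).1 (hr.dvd_of_dvd_pow h)) hrq
  -- a Sylow r-subgroup of N, mapped to G
  let R' : Sylow r N := default
  set R : Subgroup G := (R' : Subgroup N).map N.subtype with hR
  have hfrat : Subgroup.normalizer ((R : Subgroup G) : Set G) ⊔ N = ⊤ :=
    Sylow.normalizer_sup_eq_top R'
  have hRr : IsPGroup r R := R'.2.map N.subtype
  have hR1 : R ≠ ⊥ := by
    intro h
    have h1 : (R' : Subgroup N) = ⊥ := by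
      rw [hR, Subgroup.map_eq_bot_iff_of_injective _ N.subtype_injective] at h
      exact h
    exact Sylow.ne_bot_of_dvd_card R' hrN h1
  -- q^a divides |N_G(R)|
  set M := Subgroup.normalizer ((R : Subgroup G) : Set G) with hM
  have h3 : N.relIndex (M ⊔ N) = N.relIndex M := Subgroup.relIndex_sup_right _ _
  rw [hfrat, Subgroup.relIndex_top_right, hidx, hcardP] at h3
  have h4 : q ^ (Nat.card G).factorization q ∣ Nat.card M := by
    rw [h3]; exact Subgroup.relIndex_dvd_card _ _
  -- a subgroup of M of order q^a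
  obtain ⟨T, hT⟩ := Sylow.exists_subgroup_card_pow_prime q h4
  set W : Subgroup G := T.map M.subtype with hW
  have hWcard : Nat.card W = q ^ (Nat.card G).factorization q := by
    rw [hW, Subgroup.card_map_of_injective M.subtype_injective, hT]
  have hWq : IsPGroup q W := IsPGroup.of_card hWcard
  have hW1 : W ≠ ⊥ := by
    intro h
    rw [h, Subgroup.card_bot] at hWcard
    exact ha1 ((Nat.pow_eq_one.1 hWcard.symm).resolve_left hq.one_lt.ne')
  have hWM : W ≤ M := by
    rw [hW]
    exact Subgroup.map_subtype_le T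
  -- the mixed subgroup R ⊔ W ... roles: V := W (q-group) must be normalized by R; here R is
  -- normalized by W instead, so argue directly.
  set H := R ⊔ W with hH
  have hdvd : Nat.card H ∣ Nat.card R * Nat.card W := card_sup_dvd_of_le_normalizer hWM
  obtain ⟨b, hb⟩ := hRr.exists_card_eq
  have hb1 : b ≠ 0 := by
    rintro rfl
    rw [pow_zero] at hb
    exact hR1 ((Subgroup.card_eq_one).1 hb)
  have hpn : ¬ p ∣ Nat.card H := by
    intro hpd
    have h1 : p ∣ r ^ b * q ^ (Nat.card G).factorization q := by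
      rw [← hb, ← hWcard]; exact hpd.trans hdvd
    rcases (Nat.Prime.dvd_mul hp).1 h1 with h | h
    · exact hrp ((Nat.prime_dvd_prime_iff_eq hp hr).1 (hp.dvd_of_dvd_pow h)).symm
    · exact hpq ((Nat.prime_dvd_prime_iff_eq hp hq).1 (hp.dvd_of_dvd_pow h))
  have hqH : q ∣ Nat.card H := by
    have h1 : Nat.card W ∣ Nat.card H := Subgroup.card_dvd_of_le le_sup_right
    rw [hWcard] at h1
    exact (dvd_pow_self q ha1).trans h1
  have hrH : r ∣ Nat.card H := by
    have h1 : Nat.card R ∣ Nat.card H := Subgroup.card_dvd_of_le le_sup_left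
    rw [hb] at h1
    exact (dvd_pow_self r hb1).trans h1
  have hnq : ¬ IsPGroup q H := by
    intro hHq
    obtain ⟨c, hc⟩ := hHq.exists_card_eq
    rw [hc] at hrH
    exact hrq ((Nat.prime_dvd_prime_iff_eq hr hq).1 (hr.dvd_of_dvd_pow hrH))
  have hne : H ≠ ⊤ := by
    intro htop
    apply hpn
    rw [htop, Subgroup.card_top]
    exact hpG
  exact hpn (hmix H hne hnq hqH)

/-- The conjugation action of a subgroup `K ≤ N(V)` on `V`. -/
@[reducible] def conjAct {G : Type*} [Group G] (V K : Subgroup G)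
    (hK : K ≤ Subgroup.normalizer (V : Set G)) : MulAction K V where
  smul k v := ⟨(k : G) * v * (k : G)⁻¹, (Subgroup.mem_normalizer_iff.1 (hK k.2) v).1 v.2⟩
  one_smul v := by
    apply Subtype.ext
    show ((1 : K) : G) * v * ((1 : K) : G)⁻¹ = v
    simp
  mul_smul a b v := by
    apply Subtype.ext
    show ((a * b : K) : G) * v * ((a * b : K) : G)⁻¹ = (a : G) * ((b : G) * v * (b : G)⁻¹) * (a : G)⁻¹
    simp [mul_assoc]

/-- A `p`-element acting nontrivially on a `q`-group of order `q ^ b` forces `p ∣ q ^ d - 1` for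
some `1 ≤ d ≤ b`. -/
theorem pelt_dvd {G : Type*} [Group G] [Finite G] {p q : ℕ} (hp : p.Prime) (hq : q.Prime)
    (hpq : p ≠ q) (V : Subgroup G) (b : ℕ) (hV : Nat.card V = q ^ b) (x : G) (k : ℕ)
    (hx : orderOf x = p ^ k) (hxN : x ∈ Subgroup.normalizer (V : Set G))
    (hxC : x ∉ Subgroup.centralizer (V : Set G)) :
    ∃ d : ℕ, 1 ≤ d ∧ d ≤ b ∧ p ∣ q ^ d - 1 := by
  have := Fact.mk hp
  have := Fact.mk hq
  have hVq : IsPGroup q V := IsPGroup.of_card hV
  set K := Subgroup.zpowers x with hK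
  have hKN : K ≤ Subgroup.normalizer (V : Set G) := by
    rw [hK, Subgroup.zpowers_le]; exact hxN
  have hKp : IsPGroup p K := by
    apply IsPGroup.of_card (n := k)
    rw [hK, Nat.card_zpowers, hx]
  let _ : MulAction K V := conjAct V K hKN
  have hsmul : ∀ (a : K) (v : V), ((a • v : V) : G) = (a : G) * v * (a : G)⁻¹ := fun _ _ => rfl
  have hmod := hKp.card_modEq_card_fixedPoints (α := V)
  -- the fixed points form the subgroup C = V ⊓ C(x)
  set C : Subgroup G := V ⊓ Subgroup.centralizer ({x} : Set G) with hC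
  have hfix : Nat.card (MulAction.fixedPoints K V) = Nat.card C := by
    apply Nat.card_congr
    refine ⟨fun v => ⟨(v.1 : G), ?_⟩, fun c => ⟨⟨(c : G), c.2.1⟩, ?_⟩, ?_, ?_⟩
    · refine ⟨v.1.2, ?_⟩
      show (v.1 : G) ∈ Subgroup.centralizer ({x} : Set G)
      rw [Subgroup.mem_centralizer_iff]
      intro y hy
      rw [Set.mem_singleton_iff] at hy
      subst hy
      have h1 := v.2 ⟨y, Subgroup.mem_zpowers y⟩
      have h2 : (y : G) * (v.1 : G) * (y : G)⁻¹ = (v.1 : G) := by
        have := congrArg (fun w : V => (w : G)) h1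
        simpa [hsmul] using this
      calc y * (v.1 : G) = (y * (v.1 : G) * y⁻¹) * y := by group
        _ = (v.1 : G) * y := by rw [h2]
    · intro a
      apply Subtype.ext
      rw [hsmul]
      obtain ⟨n, hn⟩ := Subgroup.mem_zpowers_iff.1 a.2
      have hcx : (c : G) * x = x * (c : G) := by
        have := Subgroup.mem_centralizer_iff.1 c.2.2 x (Set.mem_singleton x)
        exact this.symm
      have hcomm : Commute (a : G) (c : G) := by
        rw [← hn]
        exact (Commute.zpow_left (show Commute x (c : G) from hcx.symm) n)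
      show (a : G) * (c : G) * (a : G)⁻¹ = (c : G)
      rw [hcomm.eq, mul_inv_cancel_right]
    · intro v; rfl
    · intro c; rfl
  have hCV : C ≤ V := inf_le_left
  obtain ⟨c, hc⟩ := (hVq.to_le hCV).exists_card_eq
  have hcb : c < b := by
    have hdv : Nat.card C ∣ Nat.card V := Subgroup.card_dvd_of_le hCV
    rw [hc, hV] at hdv
    have hle : c ≤ b := (Nat.pow_dvd_pow_iff_le_right hq.one_lt).1 hdv
    rcases hle.lt_or_eq with h | h
    · exact h
    · exfalso
      subst h
      have hCeq : C = V := by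
        apply Subgroup.eq_of_le_of_card_ge hCV
        rw [hc, hV]
      apply hxC
      rw [Subgroup.mem_centralizer_iff]
      intro v hv
      have hvC : v ∈ C := by rw [hCeq]; exact hv
      exact (Subgroup.mem_centralizer_iff.1 hvC.2 x (Set.mem_singleton x)).symm
  refine ⟨b - c, by omega, by omega, ?_⟩
  rw [hfix, hV, hc] at hmod
  -- q^b ≡ q^c mod p
  have h1 : p ∣ q ^ b - q ^ c := (Nat.modEq_iff_dvd' (Nat.pow_le_pow_right hq.pos hcb.le)).1 hmod.symm
  have h2 : q ^ b - q ^ c = q ^ c * (q ^ (b - c) - 1) := by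
    rw [Nat.mul_sub, mul_one, ← pow_add, Nat.add_sub_cancel' hcb.le]
  rw [h2] at h1
  rcases (Nat.Prime.dvd_mul hp).1 h1 with h | h
  · exact absurd ((Nat.prime_dvd_prime_iff_eq hp hq).1 (hp.dvd_of_dvd_pow h)) hpq
  · exact h

theorem case1 {G : Type*} [Group G] [Finite G] {p q : ℕ} (hp : p.Prime) (hq : q.Prime)
    (hpq : p ≠ q) (hpG : p ∣ Nat.card G) (hqG : q ∣ Nat.card G)
    (hmix : ∀ H : Subgroup G, H ≠ ⊤ → ¬ IsPGroup q H → q ∣ Nat.card H → p ∣ Nat.card H)
    (hlarge : q ^ (Nat.card G).factorization q - 1 < p) :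
    ∀ r : ℕ, r.Prime → r ∣ Nat.card G → r = p ∨ r = q := by
  apply case1' hp hq hpq hpG hqG hmix
  intro V x hV hx hxN
  by_contra hxC
  obtain ⟨k, hk⟩ := hx
  have := Fact.mk hq
  obtain ⟨b, hb⟩ := hV.exists_card_eq
  obtain ⟨d, hd1, hdb, hdvd⟩ := pelt_dvd hp hq hpq V b hb x k hk hxN hxC
  have hba : b ≤ (Nat.card G).factorization q := by
    have h1 : Nat.card V ∣ Nat.card G := Subgroup.card_subgroup_dvd_card V
    rw [hb] at h1
    exact (hq.pow_dvd_iff_le_factorization Nat.card_pos.ne').1 h1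
  have h2 : q ^ d ≤ q ^ (Nat.card G).factorization q :=
    Nat.pow_le_pow_right hq.pos (hdb.trans hba)
  have h3 : 0 < q ^ d - 1 := by
    have : 2 ≤ q ^ d := by
      calc 2 ≤ q := hq.two_le
        _ = q ^ 1 := (pow_one q).symm
        _ ≤ q ^ d := Nat.pow_le_pow_right hq.pos hd1
    omega
  have h4 : p ≤ q ^ d - 1 := Nat.le_of_dvd h3 hdvd
  omega

end Cfsg.Agent.Helper8.S4017
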