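import Mathlib
import Cfsg.Agent.Helper7.S4017Defs

set_option autoImplicit false

/-!
# S4017, piece (P4): the case `Dsub p t = ⊥` of the minimal counterexample is impossible.
-/

namespace Cfsg.Agent.Helper7.S4017

universe u

variable {G : Type u} [Group G] [Finite G] {p a : ℕ}

theorem h8_mem_cent {t x : G} : x ∈ Cent t ↔ t * x = x * t := by
  unfold Cent
  rw [Subgroup.mem_centralizer_iff]
  constructor
  · intro h; exact h t (Set.mem_singleton t)
  · intro h y hy
    rw [Set.mem_singleton_iff] at hy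
    rw [hy]; exact h

theorem h8_inv_inv {s : G} (hs : IsInv s) : s⁻¹ = s :=
  inv_eq_of_mul_eq_one_left hs.2

theorem h8_card_cent_conj (g t : G) : Nat.card (Cent (g * t * g⁻¹)) = Nat.card (Cent t) := by
  apply Nat.card_congr
  refine ⟨fun x => ⟨g⁻¹ * x * g, ?_⟩, fun x => ⟨g * x * g⁻¹, ?_⟩, ?_, ?_⟩
  · have hx := h8_mem_cent.1 x.2
    rw [h8_mem_cent]
    have : t * (g⁻¹ * ↑x * g) = g⁻¹ * ((g * t * g⁻¹) * ↑x) * g := by group
    rw [this, hx]; group
  · have hx := h8_mem_cent.1 x.2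
    rw [h8_mem_cent]
    have : g * t * g⁻¹ * (g * ↑x * g⁻¹) = g * (t * ↑x) * g⁻¹ := by group
    rw [this, hx]; group
  · intro x; apply Subtype.ext; simp only []; group
  · intro x; apply Subtype.ext; simp only []; group

/-- In case A every involution centralizer is an elementary abelian Sylow 2-subgroup. -/
theorem h8_cent_inv (fa : FactsA G p a) (fb : FactsB G p a) (t : G) (ht : IsInv t)
    (hD : Dsub p t = ⊥) (s : G) (hs : IsInv s) :
    Nat.card (Cent s) = 2 ^ a ∧ (∀ x ∈ Cent s, x * x = 1) ∧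
      (∀ x ∈ Cent s, ∀ y ∈ Cent s, x * y = y * x) := by
  have h1 : Nat.card (Cent t) = 2 ^ a := by
    rw [fb.cent_card t ht, hD, Subgroup.card_bot, mul_one]
  obtain ⟨g, hg⟩ := fa.inv_conj t s ht hs
  have h2 : Nat.card (Cent s) = 2 ^ a := by
    rw [← hg, h8_card_cent_conj, h1]
  have h3 : IsPGroup 2 (Cent s) := IsPGroup.of_card h2
  have h4 : ∀ x ∈ Cent s, x * x = 1 := fa.two_exp (Cent s) h3
  refine ⟨h2, h4, ?_⟩
  intro x hx y hy
  have hxy := h4 (x * y) (Subgroup.mul_mem _ hx hy)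
  have hx2 := h4 x hx
  have hy2 := h4 y hy
  calc x * y = (x * y)⁻¹ := (inv_eq_of_mul_eq_one_left hxy).symm
    _ = y⁻¹ * x⁻¹ := mul_inv_rev x y
    _ = y * x := by rw [inv_eq_of_mul_eq_one_left hy2, inv_eq_of_mul_eq_one_left hx2]

/-- an element that is both a `2`-element (squares to one) and a `p`-element (`p` odd) is trivial -/
theorem h8_eq_one_of_sq_of_pelt (hp : p.Prime) (hp2 : p ≠ 2) {x : G} (hx2 : x * x = 1)
    (hxp : IsPElt p x) : x = 1 := by
  obtain ⟨k, hk⟩ := hxp
  have h1 : orderOf x ∣ 2 := by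
    apply orderOf_dvd_of_pow_eq_one
    rw [pow_two]; exact hx2
  rw [hk] at h1
  have h2 : k = 0 := by
    by_contra hk0
    have : p ∣ 2 := (dvd_pow_self p hk0).trans h1
    exact hp2 ((Nat.prime_dvd_prime_iff_eq hp Nat.prime_two).1 this)
  rw [h2, pow_zero] at hk
  exact orderOf_eq_one_iff.1 hk

theorem h8_p_odd (h : MinCE G p a) : p ≠ 2 := by
  intro hp2
  have h1 := h.hpa
  have h2 := h.ha
  rw [hp2] at h1
  -- 3 = 2^a with a ≥ 2
  have : 4 ≤ 2 ^ a := by
    calc 4 = 2 ^ 2 := by norm_num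
      _ ≤ 2 ^ a := Nat.pow_le_pow_right (by norm_num) h2
  omega

/-- elements of a Sylow `p`-subgroup are `p`-elements -/
theorem h8_pelt_of_mem [Fact p.Prime] (P : Sylow p G) {x : G} (hx : x ∈ P) : IsPElt p x := by
  obtain ⟨k, hk⟩ := P.2 ⟨x, hx⟩
  have h1 : x ^ p ^ k = 1 := by
    have := congrArg Subtype.val hk
    simpa using this
  obtain ⟨j, _, hj⟩ := (Nat.dvd_prime_pow (Fact.out : p.Prime)).1 (orderOf_dvd_of_pow_eq_one h1)
  exact ⟨j, hj⟩

theorem h8_orderOf_dvd_card {H : Subgroup G} {x : G} (hx : x ∈ H) : orderOf x ∣ Nat.card H := by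
  have := orderOf_dvd_natCard (⟨x, hx⟩ : H)
  rwa [Subgroup.orderOf_mk] at this

theorem h8_orderOf_inv {s : G} (hs : IsInv s) : orderOf s = 2 := by
  apply orderOf_eq_prime
  · rw [pow_two]; exact hs.2
  · exact hs.1

/-- an element inverting `u` normalizes `⟨u⟩` -/
theorem h8_mem_normalizer_zpowers {s u : G} (hinv : s * u * s⁻¹ = u⁻¹) :
    s ∈ Subgroup.normalizer ((Subgroup.zpowers u : Subgroup G) : Set G) := by
  apply Subgroup.mem_normalizer_fintype
  intro n hn
  obtain ⟨k, rfl⟩ := Subgroup.mem_zpowers_iff.1 hn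
  have h1 : s * u ^ k * s⁻¹ = (u⁻¹) ^ k := by
    have := map_zpow (MulAut.conj s) u k
    simp only [MulAut.conj_apply] at this
    rw [this, hinv]
  show s * u ^ k * s⁻¹ ∈ Subgroup.zpowers u
  rw [h1]
  exact Subgroup.zpow_mem _ (Subgroup.inv_mem _ (Subgroup.mem_zpowers u)) k

/-- the normalizer of `⟨u⟩` is a `{2,p}`-group when `u ≠ 1` is inverted by an involution -/
theorem h8_norm_zpowers (h : MinCE G p a) (fa : FactsA G p a) {s u : G} (hs : IsInv s) (hu1 : u ≠ 1)
    (hinv : s * u * s⁻¹ = u⁻¹) (hnc : s * u ≠ u * s) :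
    ∀ ℓ : ℕ, ℓ.Prime → ℓ ∣ Nat.card (Subgroup.normalizer ((Subgroup.zpowers u : Subgroup G) : Set G)) →
      ℓ = 2 ∨ ℓ = p := by
  have hX1 : Subgroup.zpowers u ≠ ⊥ := by
    intro hb; exact hu1 (Subgroup.zpowers_eq_bot.1 hb)
  have hX2 : Subgroup.zpowers u ≠ ⊤ := by
    intro htop
    have hsX : s ∈ Subgroup.zpowers u := by rw [htop]; trivial
    obtain ⟨k, hk⟩ := Subgroup.mem_zpowers_iff.1 hsX
    apply hnc
    rw [← hk]
    exact (Commute.zpow_left (Commute.refl u) k).eq
  have hN := fa.norm_ne_top _ hX1 hX2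
  have hsN := h8_mem_normalizer_zpowers hinv
  have h2 : 2 ∣ Nat.card (Subgroup.normalizer ((Subgroup.zpowers u : Subgroup G) : Set G)) := by
    rw [← h8_orderOf_inv hs]; exact h8_orderOf_dvd_card hsN
  exact h.hH1 _ hN h2

/-- the product of two non-commuting involutions is a nontrivial `p`-element inverted by the first -/
theorem h8_prod_inv (h : MinCE G p a) (fa : FactsA G p a) (fb : FactsB G p a) (t : G)
    (ht : IsInv t) (hD : Dsub p t = ⊥) (s t' : G) (hs : IsInv s) (ht' : IsInv t')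
    (hnc : s * t' ≠ t' * s) :
    s * t' ≠ 1 ∧ IsPElt p (s * t') ∧ s * (s * t') * s⁻¹ = (s * t')⁻¹ := by
  have hsi := h8_inv_inv hs
  have hti := h8_inv_inv ht'
  have hu1 : s * t' ≠ 1 := by
    intro h1
    apply hnc
    have : t' = s⁻¹ := (inv_eq_of_mul_eq_one_right h1).symm
    rw [this, mul_inv_cancel, inv_mul_cancel]
  have hinv : s * (s * t') * s⁻¹ = (s * t')⁻¹ := by
    rw [mul_inv_rev, hsi, hti, ← mul_assoc, hs.2, one_mul]
  have hinv' : t' * (s * t') * t'⁻¹ = (s * t')⁻¹ := by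
    rw [mul_inv_rev, hsi, hti, mul_assoc, mul_assoc, ht'.2, mul_one]
  refine ⟨hu1, ?_, hinv⟩
  set u := s * t' with hu
  have hncu : s * u ≠ u * s := by
    intro hc
    apply hnc
    have : s * (s * t') = s * (t' * s) := by rw [← hu, hc, hu, mul_assoc]
    exact mul_left_cancel this
  have hpf := h8_norm_zpowers h fa hs hu1 hinv hncu
  have huN : u ∈ Subgroup.normalizer ((Subgroup.zpowers u : Subgroup G) : Set G) :=
    Subgroup.le_normalizer (Subgroup.mem_zpowers u)
  have hdvd := h8_orderOf_dvd_card huN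
  have hn0 : orderOf u ≠ 0 := (orderOf_pos u).ne'
  -- 2 does not divide the order of u
  have h2n : ¬ 2 ∣ orderOf u := by
    intro h2
    set z := u ^ (orderOf u / 2) with hz
    have hzo : orderOf z = 2 := orderOf_pow_orderOf_div hn0 h2
    have hzinv : IsInv z := by
      refine ⟨?_, ?_⟩
      · intro h1; rw [h1, orderOf_one] at hzo; omega
      · rw [← pow_two, ← hzo]; exact pow_orderOf_eq_one z
    have hzi := h8_inv_inv hzinv
    have hsz : s * z * s⁻¹ = z := by
      have := map_pow (MulAut.conj s) u (orderOf u / 2)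
      simp only [MulAut.conj_apply] at this
      rw [hz, this, hinv, inv_pow, ← hz, hzi]
    have htz : t' * z * t'⁻¹ = z := by
      have := map_pow (MulAut.conj t') u (orderOf u / 2)
      simp only [MulAut.conj_apply] at this
      rw [hz, this, hinv', inv_pow, ← hz, hzi]
    have hs_mem : s ∈ Cent z := by
      rw [h8_mem_cent]
      calc z * s = (s * z * s⁻¹) * s := by rw [hsz]
        _ = s * z := by group
    have ht_mem : t' ∈ Cent z := by
      rw [h8_mem_cent]
      calc z * t' = (t' * z * t'⁻¹) * t' := by rw [htz]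
        _ = t' * z := by group
    exact hnc ((h8_cent_inv fa fb t ht hD z hzinv).2.2 s hs_mem t' ht_mem)
  have hall : ∀ {d : ℕ}, d.Prime → d ∣ orderOf u → d = p := by
    intro d hd hdu
    rcases hpf d hd (hdu.trans hdvd) with h2 | hp
    · exact absurd (h2 ▸ hdu) h2n
    · exact hp
  exact ⟨_, Nat.eq_prime_pow_of_unique_prime_dvd hn0 hall⟩

/-- the centralizer of a nontrivial `p`-element inverted by an involution `s` is a Sylow
`p`-subgroup normalized by `s` -/
theorem h8_cent_pelt [Fact p.Prime] (h : MinCE G p a) (fa : FactsA G p a) (fb : FactsB G p a)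
    (t : G) (ht : IsInv t) (hD : Dsub p t = ⊥) (s u : G) (hs : IsInv s) (hu1 : u ≠ 1)
    (hup : IsPElt p u) (hinv : s * u * s⁻¹ = u⁻¹) :
    ∃ P' : Sylow p G, (P' : Subgroup G) = Cent u ∧
      s ∈ Subgroup.normalizer ((P' : Subgroup G) : Set G) := by
  have hp2 := h8_p_odd h
  have hsi := h8_inv_inv hs
  have hncu : s * u ≠ u * s := by
    intro hc
    have h1 : u = u⁻¹ := by
      rw [← hinv, hc, mul_assoc, mul_inv_cancel, mul_one]
    have h2 : u * u = 1 := by
      nth_rewrite 2 [h1]; exact mul_inv_cancel u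
    exact hu1 (h8_eq_one_of_sq_of_pelt h.hp hp2 h2 hup)
  have hpf := h8_norm_zpowers h fa hs hu1 hinv hncu
  -- Cent u ≤ N(⟨u⟩)
  have hCN : Cent u ≤ Subgroup.normalizer ((Subgroup.zpowers u : Subgroup G) : Set G) := by
    intro x hx
    apply Subgroup.mem_normalizer_fintype
    intro n hn
    obtain ⟨k, rfl⟩ := Subgroup.mem_zpowers_iff.1 hn
    have hxu : u * x = x * u := h8_mem_cent.1 hx
    have : x * u ^ k * x⁻¹ = u ^ k := by
      have hc : Commute x (u ^ k) := (Commute.zpow_right (show Commute x u from hxu.symm) k)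
      rw [hc.eq, mul_inv_cancel_right]
    show x * u ^ k * x⁻¹ ∈ Subgroup.zpowers u
    rw [this]
    exact Subgroup.zpow_mem _ (Subgroup.mem_zpowers u) k
  have hdvd : Nat.card (Cent u) ∣
      Nat.card (Subgroup.normalizer ((Subgroup.zpowers u : Subgroup G) : Set G)) :=
    Subgroup.card_dvd_of_le hCN
  -- 2 does not divide |Cent u|
  have h2n : ¬ 2 ∣ Nat.card (Cent u) := by
    intro h2
    have : Fact (Nat.Prime 2) := ⟨Nat.prime_two⟩
    obtain ⟨z, hz⟩ := exists_prime_orderOf_dvd_card' (G := Cent u) 2 h2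
    have hzo : orderOf (z : G) = 2 := by rw [Subgroup.orderOf_coe]; exact hz
    have hzinv : IsInv (z : G) := by
      refine ⟨?_, ?_⟩
      · intro h1; rw [h1, orderOf_one] at hzo; omega
      · rw [← pow_two, ← hzo]; exact pow_orderOf_eq_one _
    have huz : u ∈ Cent (z : G) := by
      rw [h8_mem_cent]
      exact (h8_mem_cent.1 z.2).symm
    have hu2 := (h8_cent_inv fa fb t ht hD _ hzinv).2.1 u huz
    exact hu1 (h8_eq_one_of_sq_of_pelt h.hp hp2 hu2 hup)
  have hall : ∀ {d : ℕ}, d.Prime → d ∣ Nat.card (Cent u) → d = p := by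
    intro d hd hdu
    rcases hpf d hd (hdu.trans hdvd) with h2 | hp
    · exact absurd (h2 ▸ hdu) h2n
    · exact hp
  have hcard : Nat.card (Cent u) = p ^ (Nat.card (Cent u)).primeFactorsList.length :=
    Nat.eq_prime_pow_of_unique_prime_dvd Nat.card_pos.ne' hall
  have hCp : IsPGroup p (Cent u) := IsPGroup.of_card hcard
  obtain ⟨P', hP'⟩ := hCp.exists_le_sylow
  have huP : u ∈ P' := hP' (h8_mem_cent.2 rfl)
  have hPC : (P' : Subgroup G) ≤ Cent u := by
    intro x hx
    rw [h8_mem_cent]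
    exact h.hab P' u huP x hx
  have heq : (P' : Subgroup G) = Cent u := le_antisymm hPC hP'
  refine ⟨P', heq, ?_⟩
  rw [heq]
  apply Subgroup.mem_normalizer_fintype
  intro x hx
  have hxu : u * x = x * u := h8_mem_cent.1 hx
  show s * x * s⁻¹ ∈ Cent u
  rw [h8_mem_cent]
  -- u = s u⁻¹ s⁻¹
  have hu' : u = s * u⁻¹ * s⁻¹ := by
    rw [← hinv, hsi]
    calc u = (s * s) * u * (s * s) := by rw [hs.2, one_mul, mul_one]
      _ = s * (s * u * s) * s := by group
  have hxu' : u⁻¹ * x = x * u⁻¹ := by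
    calc u⁻¹ * x = u⁻¹ * (x * u) * u⁻¹ := by group
      _ = u⁻¹ * (u * x) * u⁻¹ := by rw [hxu]
      _ = x * u⁻¹ := by group
  calc u * (s * x * s⁻¹) = (s * u⁻¹ * s⁻¹) * (s * x * s⁻¹) := by rw [← hu']
    _ = s * (u⁻¹ * x) * s⁻¹ := by group
    _ = s * (x * u⁻¹) * s⁻¹ := by rw [hxu']
    _ = (s * x * s⁻¹) * (s * u⁻¹ * s⁻¹) := by group
    _ = (s * x * s⁻¹) * u := by rw [← hu']

/-- an involution normalizing a Sylow `p`-subgroup inverts it -/
theorem h8_inverts [Fact p.Prime] (h : MinCE G p a) (fa : FactsA G p a) (fb : FactsB G p a)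
    (t : G) (ht : IsInv t) (hD : Dsub p t = ⊥) (s : G) (hs : IsInv s) (P' : Sylow p G)
    (hsN : s ∈ Subgroup.normalizer ((P' : Subgroup G) : Set G)) :
    ∀ v ∈ P', s * v * s⁻¹ = v⁻¹ := by
  intro v hv
  have hp2 := h8_p_odd h
  have hsi := h8_inv_inv hs
  have hv' : s * v * s⁻¹ ∈ P' := (Subgroup.mem_normalizer_iff.1 hsN v).1 hv
  set w := v * (s * v * s⁻¹) with hw
  have hwP : w ∈ P' := Subgroup.mul_mem _ hv hv'
  have hws : s * w * s⁻¹ = w := by
    have h1 : s * w * s⁻¹ = (s * v * s⁻¹) * (s * (s * v * s⁻¹) * s⁻¹) := by rw [hw]; group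
    have h2 : s * (s * v * s⁻¹) * s⁻¹ = v := by
      rw [hsi]
      calc s * (s * v * s) * s = (s * s) * v * (s * s) := by group
        _ = v := by rw [hs.2, one_mul, mul_one]
    rw [h1, h2, hw]
    exact h.hab P' _ hv' _ hv
  have hwC : w ∈ Cent s := by
    rw [h8_mem_cent]
    calc s * w = (s * w * s⁻¹) * s := by group
      _ = w * s := by rw [hws]
  have hw2 := (h8_cent_inv fa fb t ht hD s hs).2.1 w hwC
  have hw1 : w = 1 := h8_eq_one_of_sq_of_pelt h.hp hp2 hw2 (h8_pelt_of_mem P' hwP)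
  exact (inv_eq_of_mul_eq_one_right hw1).symm

/-- trivial intersection: a Sylow `p`-subgroup normalized by an involution shares no nontrivial
element with another Sylow `p`-subgroup -/
theorem h8_ti [Fact p.Prime] (h : MinCE G p a) (fa : FactsA G p a) (fb : FactsB G p a)
    (t : G) (ht : IsInv t) (hD : Dsub p t = ⊥) (s : G) (hs : IsInv s) (P1 P2 : Sylow p G)
    (hsN : s ∈ Subgroup.normalizer ((P1 : Subgroup G) : Set G)) (v : G) (hv1 : v ∈ P1)
    (hv2 : v ∈ P2) (hv : v ≠ 1) : P1 = P2 := by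
  have hinv := h8_inverts h fa fb t ht hD s hs P1 hsN v hv1
  obtain ⟨P', hP', _⟩ := h8_cent_pelt h fa fb t ht hD s v hs hv (h8_pelt_of_mem P1 hv1) hinv
  have h1 : (P1 : Subgroup G) ≤ P' := by
    rw [hP']
    intro x hx
    rw [h8_mem_cent]
    exact h.hab P1 v hv1 x hx
  have h2 : (P2 : Subgroup G) ≤ P' := by
    rw [hP']
    intro x hx
    rw [h8_mem_cent]
    exact h.hab P2 v hv2 x hx
  have e1 : P' = P1 := Sylow.ext (P1.3 P'.2 h1)
  have e2 : P' = P2 := Sylow.ext (P2.3 P'.2 h2)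
  rw [← e1, ← e2]

/-- nontrivial `p`-elements inverted by `s` -/
def h8_R (p : ℕ) (s : G) : Set G := {u | u ≠ 1 ∧ IsPElt p u ∧ s * u * s⁻¹ = u⁻¹}

/-- Sylow `p`-subgroups normalized by `s` -/
def h8_S (p : ℕ) (s : G) : Set (Sylow p G) :=
  {P' | s ∈ Subgroup.normalizer ((P' : Subgroup G) : Set G)}

/-- some involution does not commute with `s` -/
theorem h8_exists_nc (h : MinCE G p a) (fa : FactsA G p a) (s : G) (hs : IsInv s) :
    ∃ t' : G, IsInv t' ∧ s * t' ≠ t' * s := by
  by_contra hcon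
  push Not at hcon
  have hle : Subgroup.normalClosure ({s} : Set G) ≤ Cent s := by
    unfold Subgroup.normalClosure
    rw [Subgroup.closure_le]
    intro x hx
    rw [Group.mem_conjugatesOfSet_iff] at hx
    obtain ⟨y, hy, hconj⟩ := hx
    rw [Set.mem_singleton_iff] at hy
    subst hy
    obtain ⟨c, hc⟩ := isConj_iff.1 hconj
    have hxinv : IsInv x := by
      rw [← hc]
      refine ⟨?_, ?_⟩
      · intro h1
        apply hs.1
        have : y = c⁻¹ * (c * y * c⁻¹) * c := by group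
        rw [this, h1]; group
      · calc c * y * c⁻¹ * (c * y * c⁻¹) = c * (y * y) * c⁻¹ := by group
          _ = 1 := by rw [hs.2]; group
    show x ∈ Cent y
    rw [h8_mem_cent]
    exact hcon x hxinv
  have hnorm : (Subgroup.normalClosure ({s} : Set G)).Normal := Subgroup.normalClosure_normal
  have hmem : s ∈ Subgroup.normalClosure ({s} : Set G) :=
    Subgroup.subset_normalClosure (Set.mem_singleton s)
  rcases h.hsimple _ hnorm with hb | htop
  · rw [hb, Subgroup.mem_bot] at hmem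
    exact hs.1 hmem
  · apply fa.cent_ne_top s hs.1
    rw [eq_top_iff, ← htop]
    exact hle

/-- the involutions commuting with `s` number `2 ^ a - 1` -/
theorem h8_card_invC (fa : FactsA G p a) (fb : FactsB G p a) (t : G) (ht : IsInv t)
    (hD : Dsub p t = ⊥) (s : G) (hs : IsInv s) :
    Set.ncard {z : G | IsInv z ∧ z ∈ Cent s} = 2 ^ a - 1 := by
  obtain ⟨hc, hsq, _⟩ := h8_cent_inv fa fb t ht hD s hs
  have heq : {z : G | IsInv z ∧ z ∈ Cent s} = ((Cent s : Subgroup G) : Set G) \ {1} := by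
    ext z
    simp only [Set.mem_ofPred_eq, Set.mem_sdiff, SetLike.mem_coe, Set.mem_singleton_iff]
    constructor
    · rintro ⟨hz, hzC⟩; exact ⟨hzC, hz.1⟩
    · rintro ⟨hzC, hz1⟩; exact ⟨⟨hz1, hsq z hzC⟩, hzC⟩
  rw [heq, Set.ncard_sdiff_singleton_of_mem (Subgroup.one_mem _)]
  have : Set.ncard ((Cent s : Subgroup G) : Set G) = Nat.card (Cent s) :=
    (Nat.card_coe_set_eq _).symm
  rw [this, hc]

/-- the involutions not commuting with `s` are in bijection with `h8_R p s` -/
theorem h8_card_invN (h : MinCE G p a) (fa : FactsA G p a) (fb : FactsB G p a) (t : G)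
    (ht : IsInv t) (hD : Dsub p t = ⊥) (s : G) (hs : IsInv s) :
    Set.ncard {z : G | IsInv z ∧ z ∉ Cent s} = Set.ncard (h8_R p s) := by
  have hsi := h8_inv_inv hs
  have hp2 := h8_p_odd h
  have himg : (fun z => s * z) '' {z : G | IsInv z ∧ z ∉ Cent s} = h8_R p s := by
    ext u
    constructor
    · rintro ⟨z, ⟨hz, hzC⟩, rfl⟩
      have hnc : s * z ≠ z * s := fun hc => hzC (h8_mem_cent.2 hc)
      exact h8_prod_inv h fa fb t ht hD s z hs hz hnc
    · rintro ⟨hu1, hup, hinv⟩
      refine ⟨s * u, ⟨⟨?_, ?_⟩, ?_⟩, ?_⟩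
      · intro h1
        have hus : u = s := by
          have : u = s⁻¹ := (inv_eq_of_mul_eq_one_right h1).symm
          rw [this, hsi]
        exact hu1 (h8_eq_one_of_sq_of_pelt h.hp hp2 (hus ▸ hs.2) hup)
      · calc s * u * (s * u) = (s * u * s⁻¹) * u := by rw [hsi]; group
          _ = 1 := by rw [hinv, inv_mul_cancel]
      · intro hC
        have hc : s * (s * u) = s * u * s := h8_mem_cent.1 hC
        have h1 : u = u⁻¹ := by
          calc u = (s * s) * u := by rw [hs.2, one_mul]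
            _ = s * (s * u) := by group
            _ = s * u * s := hc
            _ = s * u * s⁻¹ := by rw [hsi]
            _ = u⁻¹ := hinv
        have h2 : u * u = 1 := by
          nth_rewrite 2 [h1]; exact mul_inv_cancel u
        exact hu1 (h8_eq_one_of_sq_of_pelt h.hp hp2 h2 hup)
      · show s * (s * u) = u
        rw [← mul_assoc, hs.2, one_mul]
  rw [← himg, Set.ncard_image_of_injective _ (mul_right_injective s)]

theorem h8_card_R [Fact p.Prime] (h : MinCE G p a) (fa : FactsA G p a) (fb : FactsB G p a) (t : G)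
    (ht : IsInv t) (hD : Dsub p t = ⊥) (s : G) (hs : IsInv s) :
    Set.ncard (h8_R p s) =
      Set.ncard (h8_S (G := G) p s) * (p ^ (Nat.card G).factorization p - 1) := by
  classical
  have hex : ∀ u : h8_R p s, ∃ P' : Sylow p G, (P' : Subgroup G) = Cent u.1 ∧
      s ∈ Subgroup.normalizer ((P' : Subgroup G) : Set G) :=
    fun u => h8_cent_pelt h fa fb t ht hD s u.1 hs u.2.1 u.2.2.1 u.2.2.2
  choose f hf using hex
  let F : h8_R p s → h8_S (G := G) p s := fun u => ⟨f u, (hf u).2⟩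
  have e1 : h8_R p s ≃ Σ y : h8_S (G := G) p s, {x : h8_R p s // F x = y} :=
    (Equiv.sigmaFiberEquiv F).symm
  have hfib : ∀ y : h8_S (G := G) p s,
      Nat.card {x : h8_R p s // F x = y} = p ^ (Nat.card G).factorization p - 1 := by
    intro y
    have hmem : ∀ u : h8_R p s, u.1 ∈ ((f u : Sylow p G) : Subgroup G) := fun u => by
      rw [(hf u).1]; exact h8_mem_cent.2 rfl
    have e2 : {x : h8_R p s // F x = y} ≃ ↥((((y.1 : Sylow p G) : Subgroup G) : Set G) \ {1}) := by
      refine ⟨fun x => ⟨x.1.1, ?_, ?_⟩, fun v => ⟨⟨v.1, ?_, ?_, ?_⟩, ?_⟩, ?_, ?_⟩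
      · have h1 : f x.1 = y.1 := congrArg Subtype.val x.2
        have h2 : x.1.1 ∈ ((f x.1 : Sylow p G) : Subgroup G) := by
          rw [(hf x.1).1]; exact h8_mem_cent.2 rfl
        rw [h1] at h2
        exact h2
      · intro hx
        exact x.1.2.1 (Set.mem_singleton_iff.1 hx)
      · intro hv
        exact v.2.2 (Set.mem_singleton_iff.2 hv)
      · exact h8_pelt_of_mem y.1 v.2.1
      · exact h8_inverts h fa fb t ht hD s hs y.1 y.2 v.1 v.2.1
      · apply Subtype.ext
        show f _ = y.1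
        have hv1 : v.1 ≠ 1 := fun hv => v.2.2 (Set.mem_singleton_iff.2 hv)
        exact (h8_ti h fa fb t ht hD s hs y.1 (f _) y.2 v.1 v.2.1 (hmem _) hv1).symm
      · intro x; apply Subtype.ext; apply Subtype.ext; rfl
      · intro v; apply Subtype.ext; rfl
    rw [Nat.card_congr e2, Nat.card_coe_set_eq,
      Set.ncard_sdiff_singleton_of_mem (Subgroup.one_mem _)]
    have : Set.ncard (((y.1 : Sylow p G) : Subgroup G) : Set G) = Nat.card (y.1 : Sylow p G) :=
      (Nat.card_coe_set_eq _).symm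
    rw [this, Sylow.card_eq_multiplicity]
  have : Fintype (h8_S (G := G) p s) := Fintype.ofFinite _
  rw [← Nat.card_coe_set_eq, Nat.card_congr e1, Nat.card_sigma]
  simp only [hfib, Finset.sum_const, Finset.card_univ, smul_eq_mul]
  rw [← Nat.card_eq_fintype_card, Nat.card_coe_set_eq]

/-- the number of Sylow `p`-subgroups normalized by the involution `s` is a power of two -/
theorem h8_card_S [Fact p.Prime] (h : MinCE G p a) (fa : FactsA G p a) (fb : FactsB G p a) (t : G)
    (ht : IsInv t) (hD : Dsub p t = ⊥) (s : G) (hs : IsInv s) :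
    ∃ j : ℕ, Set.ncard (h8_S (G := G) p s) = 2 ^ j := by
  classical
  have hp2 := h8_p_odd h
  have hsi := h8_inv_inv hs
  obtain ⟨hcard, hsq, hcomm⟩ := h8_cent_inv fa fb t ht hD s hs
  obtain ⟨t', ht', hnc⟩ := h8_exists_nc h fa s hs
  obtain ⟨hu1, hup, hinv⟩ := h8_prod_inv h fa fb t ht hD s t' hs ht' hnc
  obtain ⟨P0, hP0, hsN0⟩ := h8_cent_pelt h fa fb t ht hD s (s * t') hs hu1 hup hinv
  have hnorm : ∀ (P' : Sylow p G) (g : G),
      g • P' = P' ↔ g ∈ Subgroup.normalizer ((P' : Subgroup G) : Set G) :=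
    fun P' g => Sylow.smul_eq_iff_mem_normalizer
  have horb : MulAction.orbit (Cent s) P0 = h8_S (G := G) p s := by
    ext P'
    constructor
    · rintro ⟨k, rfl⟩
      show s ∈ Subgroup.normalizer _
      rw [← hnorm]
      have hks : s * (k : G) = (k : G) * s := h8_mem_cent.1 k.2
      show s • ((k : G) • P0) = (k : G) • P0
      rw [← mul_smul, hks, mul_smul, (hnorm P0 s).2 hsN0]
    · intro hP'
      have hsN' : s ∈ Subgroup.normalizer ((P' : Subgroup G) : Set G) := hP'
      obtain ⟨x, hx⟩ := MulAction.exists_smul_eq G P0 P'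
      set z := x⁻¹ * s * x with hz
      have hzinv : IsInv z := by
        refine ⟨?_, ?_⟩
        · intro h1
          apply hs.1
          have : s = x * z * x⁻¹ := by rw [hz]; group
          rw [this, h1]; group
        · calc z * z = x⁻¹ * (s * s) * x := by rw [hz]; group
            _ = 1 := by rw [hs.2]; group
      have hzN : z ∈ Subgroup.normalizer ((P0 : Subgroup G) : Set G) := by
        rw [← hnorm]
        rw [hz, mul_smul, mul_smul, hx, (hnorm P' s).2 hsN', ← hx, inv_smul_smul]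
      have hinvs := h8_inverts h fa fb t ht hD s hs P0 hsN0
      have hinvz := h8_inverts h fa fb t ht hD z hzinv P0 hzN
      have hzi := h8_inv_inv hzinv
      set v1 := s * z with hv1
      have hv1c : ∀ v ∈ P0, v1 * v = v * v1 := by
        intro v hv
        have h1 : z * v * z⁻¹ = v⁻¹ := hinvz v hv
        have h2 : s * v⁻¹ * s⁻¹ = v⁻¹⁻¹ := hinvs v⁻¹ (Subgroup.inv_mem _ hv)
        rw [inv_inv] at h2
        calc v1 * v = s * (z * v * z⁻¹) * z := by rw [hv1]; group
          _ = s * v⁻¹ * z := by rw [h1]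
          _ = (s * v⁻¹ * s⁻¹) * s * z := by group
          _ = v * (s * z) := by rw [h2, mul_assoc]
      have hu_mem : s * t' ∈ (P0 : Subgroup G) := by rw [hP0]; exact h8_mem_cent.2 rfl
      have hv1P : v1 ∈ (P0 : Subgroup G) := by
        rw [hP0, h8_mem_cent]
        exact (hv1c _ hu_mem).symm
      -- a square root of `v1⁻¹` inside `P0`
      obtain ⟨k, hk⟩ := h8_pelt_of_mem P0 hv1P
      have hodd : Odd (orderOf v1) := by
        rw [hk]; exact ((Fact.out : p.Prime).odd_of_ne_two hp2).pow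
      obtain ⟨r, hr⟩ := hodd
      set w := (v1⁻¹) ^ (r + 1) with hw
      have hwP : w ∈ (P0 : Subgroup G) :=
        Subgroup.pow_mem _ (Subgroup.inv_mem _ hv1P) _
      have hww : w * w = v1⁻¹ := by
        have h1 : w * w = (v1⁻¹) ^ (orderOf v1 + 1) := by
          rw [hw, ← pow_add, hr]; congr 1; ring
        rw [h1, pow_succ, inv_pow, pow_orderOf_eq_one, inv_one, one_mul]
      have hsw : s * w⁻¹ * s⁻¹ = w := by
        have := hinvs w⁻¹ (Subgroup.inv_mem _ hwP)
        rwa [inv_inv] at this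
      have hwz : w * s * w⁻¹ = z := by
        calc w * s * w⁻¹ = w * (s * w⁻¹ * s⁻¹) * s := by group
          _ = (w * w) * s := by rw [hsw]
          _ = v1⁻¹ * s := by rw [hww]
          _ = z⁻¹ := by rw [hv1, mul_inv_rev, hsi, mul_assoc, hs.2, mul_one]
          _ = z := hzi
      have hcs : (x * w) * s * (x * w)⁻¹ = s := by
        calc (x * w) * s * (x * w)⁻¹ = x * (w * s * w⁻¹) * x⁻¹ := by group
          _ = x * z * x⁻¹ := by rw [hwz]
          _ = s := by rw [hz]; group
      have hcC : x * w ∈ Cent s := by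
        rw [h8_mem_cent]
        calc s * (x * w) = ((x * w) * s * (x * w)⁻¹) * (x * w) := by rw [hcs]
          _ = (x * w) * s := by group
      refine ⟨⟨x * w, hcC⟩, ?_⟩
      show (x * w) • P0 = P'
      rw [mul_smul, (hnorm P0 w).2 (Subgroup.le_normalizer hwP), hx]
  have hidx := MulAction.index_stabilizer (Cent s) P0
  rw [horb] at hidx
  have hdvd : (MulAction.stabilizer (Cent s) P0).index ∣ Nat.card (Cent s) :=
    Subgroup.index_dvd_card _
  rw [hidx, hcard] at hdvd
  obtain ⟨j, _, hj⟩ := (Nat.dvd_prime_pow Nat.prime_two).1 hdvd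
  exact ⟨j, hj⟩

/-- the final count: the number of involutions is `p + 2 ^ j * (p ^ e - 1)`, which is not
divisible by `p` -/
theorem h8_caseA_aux (h : MinCE G p a) (fa : FactsA G p a) (fb : FactsB G p a) (t : G)
    (ht : IsInv t) (hD : Dsub p t = ⊥) (hdvd : p ∣ Set.ncard {z : G | IsInv z}) : False := by
  have : Fact p.Prime := ⟨h.hp⟩
  have hp2 := h8_p_odd h
  have hsplit : {z : G | IsInv z} =
      {z : G | IsInv z ∧ z ∈ Cent t} ∪ {z : G | IsInv z ∧ z ∉ Cent t} := by
    ext z
    constructor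
    · intro hz
      by_cases hc : z ∈ Cent t
      · exact Or.inl ⟨hz, hc⟩
      · exact Or.inr ⟨hz, hc⟩
    · rintro (⟨hz, _⟩ | ⟨hz, _⟩) <;> exact hz
  have hdisj : Disjoint {z : G | IsInv z ∧ z ∈ Cent t} {z : G | IsInv z ∧ z ∉ Cent t} := by
    rw [Set.disjoint_left]
    rintro z ⟨_, h1⟩ ⟨_, h2⟩
    exact h2 h1
  have hcount : Set.ncard {z : G | IsInv z} = (2 ^ a - 1) +
      Set.ncard (h8_S (G := G) p t) * (p ^ (Nat.card G).factorization p - 1) := by
    rw [hsplit, Set.ncard_union_eq hdisj (Set.toFinite _) (Set.toFinite _),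
      h8_card_invC fa fb t ht hD t ht, h8_card_invN h fa fb t ht hD t ht,
      h8_card_R h fa fb t ht hD t ht]
  obtain ⟨j, hj⟩ := h8_card_S h fa fb t ht hD t ht
  rw [hcount, hj] at hdvd
  have hpa : 2 ^ a - 1 = p := by have := h.hpa; omega
  rw [hpa] at hdvd
  have h1 : p ∣ 2 ^ j * (p ^ (Nat.card G).factorization p - 1) :=
    (Nat.dvd_add_right (dvd_refl p)).1 hdvd
  have he : 1 ≤ (Nat.card G).factorization p :=
    (h.hp.dvd_iff_one_le_factorization Nat.card_pos.ne').1 h.hpG
  rcases (Nat.Prime.dvd_mul h.hp).1 h1 with h2 | h2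
  · have := Nat.Prime.dvd_of_dvd_pow h.hp h2
    exact hp2 ((Nat.prime_dvd_prime_iff_eq h.hp Nat.prime_two).1 this)
  · have h3 : p ∣ p ^ (Nat.card G).factorization p := dvd_pow_self p (by omega)
    have h4 : 1 ≤ p ^ (Nat.card G).factorization p := Nat.one_le_pow _ _ h.hp.pos
    have h5 : p ∣ 1 := by
      have h7 := Nat.dvd_sub h3 h2
      have h6 : p ^ (Nat.card G).factorization p -
          (p ^ (Nat.card G).factorization p - 1) = 1 := by omega
      rwa [h6] at h7
    exact h.hp.one_lt.ne' (Nat.dvd_one.1 h5)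

end Cfsg.Agent.Helper7.S4017
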