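import Mathlib
import Cfsg.Agent.Helper7.S4017Defs
import Cfsg.Agent.Helper8.S4017_CaseA
import Cfsg.Agent.Helper4.S4017_PDvdInv

set_option autoImplicit false

/-!
# S4017, piece (P4): the case `Dsub p t = ⊥` of the minimal counterexample is impossible.

Assembly of `h8_caseA_aux` (counting the involutions as `p + 2 ^ j * (p ^ e - 1)`) with
`p_dvd_card_inv` (the number of involutions is divisible by `p`).
-/

namespace Cfsg.Agent.Helper7.S4017

universe u

variable {G : Type u} [Group G] [Finite G] {p a : ℕ}

theorem caseA_false (h : MinCE G p a) (fa : FactsA G p a) (fb : FactsB G p a) (t : G)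
    (ht : IsInv t) (hD : Dsub p t = ⊥) : False := by
  apply h8_caseA_aux h fa fb t ht hD
  exact p_dvd_card_inv (a := a) h.hp (h8_p_odd h) h.hpG
    (fun z hz => (h8_cent_inv fa fb t ht hD z hz).1)

end Cfsg.Agent.Helper7.S4017
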