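import Mathlib
import Cfsg.Prelude.Def_Blocks
import Cfsg.Agent.Helper8.McKC
import Cfsg.Agent.Helper8.McKE
import Cfsg.Agent.Helper8.SL2Cent
import Cfsg.Agent.Helper8.SL2Cusp2
import Cfsg.Agent.Helper8.PSL2ClassSize
import Cfsg.Agent.Helper8.SL2Parab
import Cfsg.Agent.Helper6.CharCongr
import Cfsg.Agent.Helper6.Extraspecial
import Cfsg.Agent.Helper6.DefectZeroBlock
import Cfsg.Agent.Helper6.BlockEquiv
import Cfsg.Agent.Helper6.PrincipalDefect
import Cfsg.Agent.Helper6.DefectOrder
import Cfsg.Agent.Helper6.DefectClassValues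
import Cfsg.Agent.Helper6.DefectClass
import Cfsg.Agent.Helper6.ColumnOrth
import Cfsg.Agent.Helper6.PowCongr

set_option autoImplicit false

/-!
The `p`-blocks of `SL₂(F)` in the defining (odd) characteristic: general congruences for central
characters, and the behaviour of the irreducible characters of `SL₂(F)` under the central
involution.
-/

namespace Cfsg.Agent.Helper8.SL2Blk

open Matrix Cfsg Cfsg.Agent.Helper6 Cfsg.Agent.Helper8.SL2C Cfsg.Agent.Helper7.SL2
open Cfsg.Agent.Helper8.McK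

universe u

section general

variable {G : Type u} [Group G] {M : Ideal Cfsg.AlgInt}

/-- a central element multiplies an irreducible character by a scalar. -/
theorem irr_center_scalar [Finite G] (χ : Cfsg.IrrCharacter G) (z : G)
    (hz : z ∈ Subgroup.center G) :
    ∃ ω : ℂ, ∀ g : G, (χ : G → ℂ) (z * g) = ω * (χ : G → ℂ) g := by
  obtain ⟨n, ρ, hirr, hχ⟩ := χ.2
  have := hirr
  obtain ⟨ω, hω⟩ := exists_scalar_of_mem_center ρ z hz
  refine ⟨ω, fun g => ?_⟩
  rw [← hχ]
  show LinearMap.trace ℂ _ (ρ (z * g)) = ω * LinearMap.trace ℂ _ (ρ g)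
  have h1 : ρ (z * g) = ω • ρ g := by
    rw [map_mul, hω, smul_mul_assoc]
    rfl
  rw [h1, map_smul, smul_eq_mul]

/-- a natural number in the local ideal is divisible by `p`. -/
theorem dvd_of_memLocalIdeal_nat {p : ℕ} (hM : Cfsg.IsPModular p M) (n : ℕ)
    (h : Cfsg.MemLocalIdeal M (n : ℂ)) : p ∣ n := by
  by_contra hnd
  have h1 := natCast_not_mem_of_not_dvd hM.2.1 hM.1 hM.2.2 hnd
  apply h1
  rw [← memLocalIdeal_coe_iff hM.2.1]
  have : (((n : Cfsg.AlgInt) : Cfsg.AlgInt) : ℂ) = (n : ℂ) := by simp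
  rw [this]
  exact h

/-- if `p` divides the class size and not the degree, the central character lies in the local
ideal. -/
theorem centralChar_mem_of_dvd_index [Finite G] {p : ℕ} (hM : Cfsg.IsPModular p M)
    (χ : Cfsg.IrrCharacter G) (hdeg : ¬ p ∣ Cfsg.charDegree (χ : G → ℂ)) (g : G)
    (h : p ∣ (Subgroup.centralizer ({g} : Set G)).index) :
    Cfsg.MemLocalIdeal M (Cfsg.centralChar (χ : G → ℂ) g) := by
  obtain ⟨k, hk⟩ := h
  have hχ := IsIrrCharacter.isCharacter χ.2
  have hd := charDegree_cast_of_isCharacter hχ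
  unfold Cfsg.centralChar
  rw [hk, ← hd, Nat.cast_mul]
  exact memLocalIdeal_prime_mul_div hM.2.1 p hM.1 hM.2.2 k _ hdeg _
    (IsCharacter.isIntegral_value hχ g)

/-- the central character at `x y`, `x` a `p`-element commuting with the `p`-regular `y`, for a
character of degree prime to `p`. -/
theorem centralChar_sub_of_ppart [Finite G] {p : ℕ} (hM : Cfsg.IsPModular p M)
    (χ : Cfsg.IrrCharacter G) (hdeg : ¬ p ∣ Cfsg.charDegree (χ : G → ℂ)) (x y : G)
    (hc : x * y = y * x) (hx : ∃ k : ℕ, orderOf x = p ^ k) (hy : ¬ p ∣ orderOf y) :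
    Cfsg.MemLocalIdeal M (Cfsg.centralChar (χ : G → ℂ) (x * y) -
      ((Subgroup.centralizer ({x * y} : Set G)).index : ℂ) *
        ((χ : G → ℂ) y / (χ : G → ℂ) 1)) := by
  have hχ := IsIrrCharacter.isCharacter χ.2
  have hd := charDegree_cast_of_isCharacter hχ
  have h1 := char_mul_sub_memLocalIdeal hM.2.1 p hM.1 hM.2.2 hχ x y hc hx hy
  have h2 := memLocalRing_natCast_div hM.2.1 p hM.1 hM.2.2
    ((Subgroup.centralizer ({x * y} : Set G)).index) _ hdeg
  have h3 := MemLocalIdeal.mul_left hM.2.1 h2 h1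
  have e : Cfsg.centralChar (χ : G → ℂ) (x * y) -
      ((Subgroup.centralizer ({x * y} : Set G)).index : ℂ) *
        ((χ : G → ℂ) y / (χ : G → ℂ) 1) =
      ((Subgroup.centralizer ({x * y} : Set G)).index : ℂ) /
        (Cfsg.charDegree (χ : G → ℂ) : ℂ) * ((χ : G → ℂ) (x * y) - (χ : G → ℂ) y) := by
    unfold Cfsg.centralChar
    rw [hd]
    ring
  rw [e]
  exact h3

end general

variable {F : Type*} [Field F] [Fintype F] {M : Ideal Cfsg.AlgInt}

/-- the central involution acts on an irreducible character by a sign. -/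
theorem sign_mul (χ : Cfsg.IrrCharacter (SpecialLinearGroup (Fin 2) F)) :
    ∃ ε : ℂ, (ε = 1 ∨ ε = -1) ∧ ∀ g : SpecialLinearGroup (Fin 2) F,
      (χ : SpecialLinearGroup (Fin 2) F → ℂ) (-1 * g) =
        ε * (χ : SpecialLinearGroup (Fin 2) F → ℂ) g := by
  obtain ⟨ω, hω⟩ := irr_center_scalar χ (-1) (mem_center_iff'.mpr (Or.inr rfl))
  refine ⟨ω, ?_, hω⟩
  have h1 := hω 1
  have h2 := hω (-1)
  rw [neg_one_mul_neg_one] at h2
  rw [mul_one] at h1
  rw [h1] at h2
  have hne : (χ : SpecialLinearGroup (Fin 2) F → ℂ) 1 ≠ 0 := IsIrrCharacter.apply_one_ne_zero χ.2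
  have h3 : (ω - 1) * (ω + 1) * (χ : SpecialLinearGroup (Fin 2) F → ℂ) 1 = 0 := by
    linear_combination -h2
  rcases mul_eq_zero.mp h3 with h | h
  · rcases mul_eq_zero.mp h with h | h
    · left; linear_combination h
    · right; linear_combination h
  · exact absurd h hne

/-- the value at `-1` is plus or minus the degree. -/
theorem sign_cases (χ : Cfsg.IrrCharacter (SpecialLinearGroup (Fin 2) F)) :
    (χ : SpecialLinearGroup (Fin 2) F → ℂ) (-1) = (χ : SpecialLinearGroup (Fin 2) F → ℂ) 1 ∨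
    (χ : SpecialLinearGroup (Fin 2) F → ℂ) (-1) = -(χ : SpecialLinearGroup (Fin 2) F → ℂ) 1 := by
  obtain ⟨ε, hε, h⟩ := sign_mul χ
  have h1 := h 1
  rw [mul_one] at h1
  rcases hε with rfl | rfl
  · left; rw [h1, one_mul]
  · right; rw [h1]; ring

/-- class sizes of semisimple non-central elements are divisible by the characteristic. -/
theorem dvd_index_of_card (p : ℕ) [Fact p.Prime] [CharP F p]
    (g : SpecialLinearGroup (Fin 2) F)
    (hc : Nat.card (Subgroup.centralizer ({g} : Set (SpecialLinearGroup (Fin 2) F))) =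
        Fintype.card F - 1 ∨
      Nat.card (Subgroup.centralizer ({g} : Set (SpecialLinearGroup (Fin 2) F))) =
        Fintype.card F + 1) :
    p ∣ (Subgroup.centralizer ({g} : Set (SpecialLinearGroup (Fin 2) F))).index := by
  have hpq := char_dvd_card (F := F) p
  have hq2 : 1 < Fintype.card F := Fintype.one_lt_card
  have hmul := Subgroup.card_mul_index
    (Subgroup.centralizer ({g} : Set (SpecialLinearGroup (Fin 2) F)))
  rw [card_SL2'] at hmul
  rcases hc with h | h
  · rw [h] at hmul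
    have e : (Fintype.card F - 1) * (Subgroup.centralizer
        ({g} : Set (SpecialLinearGroup (Fin 2) F))).index =
        (Fintype.card F - 1) * (Fintype.card F * (Fintype.card F + 1)) := by
      rw [hmul]; ring
    have := Nat.eq_of_mul_eq_mul_left (by omega) e
    rw [this]
    exact Dvd.dvd.mul_right hpq _
  · rw [h] at hmul
    have e : (Fintype.card F + 1) * (Subgroup.centralizer
        ({g} : Set (SpecialLinearGroup (Fin 2) F))).index =
        (Fintype.card F + 1) * (Fintype.card F * (Fintype.card F - 1)) := by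
      rw [hmul]; ring
    have := Nat.eq_of_mul_eq_mul_left (by omega) e
    rw [this]
    exact Dvd.dvd.mul_right hpq _

/-- every element either has class size divisible by `p` or is conjugate to `± up β`. -/
theorem element_cases (p : ℕ) [Fact p.Prime] [CharP F p] (g : SpecialLinearGroup (Fin 2) F) :
    p ∣ (Subgroup.centralizer ({g} : Set (SpecialLinearGroup (Fin 2) F))).index ∨
    ∃ (z : SpecialLinearGroup (Fin 2) F) (β : F) (c : SpecialLinearGroup (Fin 2) F),
      (z = 1 ∨ z = -1) ∧ c * g * c⁻¹ = up β * z := by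
  rcases classify g with h | ⟨a, ha, hc⟩ | ⟨β, hc⟩ | ⟨β, hc⟩
  · left
    exact dvd_index_of_card p g (Or.inr (card_centralizer_of_ell h))
  · left
    rw [index_centralizer_eq_of_isConj' hc]
    exact dvd_index_of_card p _ (Or.inl (card_centralizer_tor ha))
  · right
    obtain ⟨c, hc⟩ := isConj_iff.mp hc
    exact ⟨1, β, c, Or.inl rfl, by rw [hc, mul_one]⟩
  · right
    obtain ⟨c, hc⟩ := isConj_iff.mp hc
    exact ⟨-1, β, c, Or.inr rfl, by rw [hc, SL2C.neg_eq_neg_one_mul, neg_one_comm]⟩

omit [Fintype F] in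
theorem orderOf_up_pow (p : ℕ) [Fact p.Prime] [CharP F p] (β : F) :
    ∃ k : ℕ, orderOf (up β : SpecialLinearGroup (Fin 2) F) = p ^ k := by
  by_cases hβ : β = 0
  · exact ⟨0, by rw [hβ, up_zero, orderOf_one, pow_zero]⟩
  · exact ⟨1, by rw [orderOf_up p hβ, pow_one]⟩

omit [Fintype F] in
theorem not_dvd_orderOf_sign (p : ℕ) [hp : Fact p.Prime] (hp2 : p ≠ 2)
    {z : SpecialLinearGroup (Fin 2) F} (hz : z = 1 ∨ z = -1) : ¬ p ∣ orderOf z := by
  intro h
  have h2 : orderOf z ∣ 2 := by
    apply orderOf_dvd_of_pow_eq_one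
    rcases hz with rfl | rfl
    · exact one_pow 2
    · rw [pow_two, neg_one_mul_neg_one]
  exact hp2 ((Nat.prime_dvd_prime_iff_eq hp.out Nat.prime_two).mp (h.trans h2))

omit [Fintype F] in
theorem sign_comm {z : SpecialLinearGroup (Fin 2) F} (hz : z = 1 ∨ z = -1)
    (g : SpecialLinearGroup (Fin 2) F) : g * z = z * g := by
  rcases hz with rfl | rfl
  · rw [mul_one, one_mul]
  · exact (neg_one_comm g).symm

end Cfsg.Agent.Helper8.SL2Blk
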