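import Mathlib
import Cfsg.Agent.Helper8.SL2BlkA

set_option autoImplicit false

/-!
The `p`-blocks of `SL₂(F)` in the defining (odd) characteristic: block membership is governed by
the sign at the central involution, apart from the Steinberg character which is alone in its block.
-/

namespace Cfsg.Agent.Helper8.SL2Blk

open Matrix Cfsg Cfsg.Agent.Helper6 Cfsg.Agent.Helper8.SL2C Cfsg.Agent.Helper7.SL2
open Cfsg.Agent.Helper8.McK

universe u

variable {F : Type*} [Field F] [Fintype F] {M : Ideal Cfsg.AlgInt}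

/-- characters of degree prime to `p` with the same sign lie in the same block. -/
theorem sameBlock_of_sign (p : ℕ) [Fact p.Prime] [CharP F p] (hp2 : p ≠ 2)
    (hM : Cfsg.IsPModular p M) (χ ψ : Cfsg.IrrCharacter (SpecialLinearGroup (Fin 2) F))
    (hχ : ¬ p ∣ Cfsg.charDegree (χ : SpecialLinearGroup (Fin 2) F → ℂ))
    (hψ : ¬ p ∣ Cfsg.charDegree (ψ : SpecialLinearGroup (Fin 2) F → ℂ)) (ε : ℂ)
    (hχε : (χ : SpecialLinearGroup (Fin 2) F → ℂ) (-1) =
      ε * (χ : SpecialLinearGroup (Fin 2) F → ℂ) 1)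
    (hψε : (ψ : SpecialLinearGroup (Fin 2) F → ℂ) (-1) =
      ε * (ψ : SpecialLinearGroup (Fin 2) F → ℂ) 1) :
    Cfsg.SameBlock M (χ : SpecialLinearGroup (Fin 2) F → ℂ)
      (ψ : SpecialLinearGroup (Fin 2) F → ℂ) := by
  intro g
  have hχ1 : (χ : SpecialLinearGroup (Fin 2) F → ℂ) 1 ≠ 0 := IsIrrCharacter.apply_one_ne_zero χ.2
  have hψ1 : (ψ : SpecialLinearGroup (Fin 2) F → ℂ) 1 ≠ 0 := IsIrrCharacter.apply_one_ne_zero ψ.2
  rcases element_cases p g with h | ⟨z, β, c, hz, hc⟩
  · exact MemLocalIdeal.sub hM.2.1 (centralChar_mem_of_dvd_index hM χ hχ g h)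
      (centralChar_mem_of_dvd_index hM ψ hψ g h)
  · rw [← centralChar_conj χ g c, ← centralChar_conj ψ g c, hc]
    have h1 := centralChar_sub_of_ppart hM χ hχ (up β) z (sign_comm hz _) (orderOf_up_pow p β)
      (not_dvd_orderOf_sign p hp2 hz)
    have h2 := centralChar_sub_of_ppart hM ψ hψ (up β) z (sign_comm hz _) (orderOf_up_pow p β)
      (not_dvd_orderOf_sign p hp2 hz)
    have hr : (χ : SpecialLinearGroup (Fin 2) F → ℂ) z / (χ : SpecialLinearGroup (Fin 2) F → ℂ) 1 =
        (ψ : SpecialLinearGroup (Fin 2) F → ℂ) z / (ψ : SpecialLinearGroup (Fin 2) F → ℂ) 1 := by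
      rcases hz with rfl | rfl
      · rw [div_self hχ1, div_self hψ1]
      · rw [hχε, hψε, mul_div_assoc, div_self hχ1, mul_div_assoc, div_self hψ1]
    have h3 := MemLocalIdeal.sub hM.2.1 h1 h2
    rw [hr] at h3
    convert h3 using 1
    ring

omit [Fintype F] in
/-- characters with different signs lie in different blocks. -/
theorem not_sameBlock_of_sign (p : ℕ) [hp : Fact p.Prime] (hp2 : p ≠ 2)
    (hM : Cfsg.IsPModular p M) (χ ψ : Cfsg.IrrCharacter (SpecialLinearGroup (Fin 2) F))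
    (hχ : (χ : SpecialLinearGroup (Fin 2) F → ℂ) (-1) =
      (χ : SpecialLinearGroup (Fin 2) F → ℂ) 1)
    (hψ : (ψ : SpecialLinearGroup (Fin 2) F → ℂ) (-1) =
      -(ψ : SpecialLinearGroup (Fin 2) F → ℂ) 1) :
    ¬ Cfsg.SameBlock M (χ : SpecialLinearGroup (Fin 2) F → ℂ)
      (ψ : SpecialLinearGroup (Fin 2) F → ℂ) := by
  intro h
  have h1 := h (-1)
  have hχ1 : (χ : SpecialLinearGroup (Fin 2) F → ℂ) 1 ≠ 0 := IsIrrCharacter.apply_one_ne_zero χ.2
  have hψ1 : (ψ : SpecialLinearGroup (Fin 2) F → ℂ) 1 ≠ 0 := IsIrrCharacter.apply_one_ne_zero ψ.2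
  have hidx : (Subgroup.centralizer
      ({-1} : Set (SpecialLinearGroup (Fin 2) F))).index = 1 := by
    rw [Subgroup.index_eq_one, Subgroup.centralizer_eq_top_iff_subset]
    intro x hx
    rw [Set.mem_singleton_iff] at hx
    rw [hx]
    exact mem_center_iff'.mpr (Or.inr rfl)
  unfold Cfsg.centralChar at h1
  rw [hidx, hχ, hψ, Nat.cast_one, one_mul, one_mul, div_self hχ1, neg_div, div_self hψ1] at h1
  have e : (1 : ℂ) - -1 = ((2 : ℕ) : ℂ) := by norm_num
  rw [e] at h1
  have := dvd_of_memLocalIdeal_nat hM 2 h1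
  exact hp2 ((Nat.prime_dvd_prime_iff_eq hp.out Nat.prime_two).mp this)

/-- every irreducible character other than the Steinberg character has degree prime to `p`. -/
theorem not_dvd_degree (hodd : Odd (Fintype.card F)) (p : ℕ) [Fact p.Prime] [CharP F p]
    (χ : Cfsg.IrrCharacter (SpecialLinearGroup (Fin 2) F))
    (hne : (χ : SpecialLinearGroup (Fin 2) F → ℂ) 1 ≠ (Fintype.card F : ℂ)) :
    ¬ p ∣ Cfsg.charDegree (χ : SpecialLinearGroup (Fin 2) F → ℂ) := by
  have hp : p.Prime := Fact.out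
  have hpq := char_dvd_card (F := F) p
  intro h
  obtain ⟨j, hj⟩ := hodd
  have hp1 : ¬ p ∣ 1 := hp.one_lt.ne' ∘ Nat.dvd_one.mp
  rcases degree_cases χ with e | e | e | e | e | e
  · rw [e] at h
    exact absurd h hp1
  · exact hne ((charDegree_eq_iff χ _).mp e)
  · rw [e] at h
    exact absurd ((Nat.dvd_add_right hpq).mp h) hp1
  · rw [e] at h
    apply hp1
    have h2 : p ∣ (Fintype.card F - 1) + 1 := by
      rw [Nat.sub_add_cancel Fintype.card_pos]
      exact hpq
    exact (Nat.dvd_add_right h).mp h2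
  · rw [e] at h
    apply hp1
    have h2 : p ∣ Fintype.card F + 1 := by
      have : Fintype.card F + 1 = 2 * ((Fintype.card F + 1) / 2) := by omega
      rw [this]
      exact Dvd.dvd.mul_left h 2
    exact (Nat.dvd_add_right hpq).mp h2
  · rw [e] at h
    apply hp1
    have h2 : p ∣ Fintype.card F - 1 := by
      have : Fintype.card F - 1 = 2 * ((Fintype.card F - 1) / 2) := by omega
      rw [this]
      exact Dvd.dvd.mul_left h 2
    have h3 : p ∣ (Fintype.card F - 1) + 1 := by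
      rw [Nat.sub_add_cancel Fintype.card_pos]
      exact hpq
    exact (Nat.dvd_add_right h2).mp h3

section steinberg

variable [DecidableEq F]

/-- the Steinberg character as an irreducible character. -/
noncomputable def StI (F : Type*) [Field F] [Fintype F] [DecidableEq F] :
    Cfsg.IrrCharacter (SpecialLinearGroup (Fin 2) F) := ⟨St, isIrrCharacter_St⟩

theorem StI_one : ((StI F : Cfsg.IrrCharacter (SpecialLinearGroup (Fin 2) F)) :
    SpecialLinearGroup (Fin 2) F → ℂ) 1 = (Fintype.card F : ℂ) := St_one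

theorem St_neg_one : St (F := F) (-1) = (Fintype.card F : ℂ) := by
  rw [St_apply]
  have h := Rind_central_mul (1 : MulChar F ℂ) (z := -1) (mem_center_iff'.mpr (Or.inr rfl)) 1
  rw [mul_one, Rind_one] at h
  rw [h, SL2C.neg_apply, one_00, MulChar.one_apply (isUnit_one.neg)]
  ring

theorem StI_neg_one : ((StI F : Cfsg.IrrCharacter (SpecialLinearGroup (Fin 2) F)) :
    SpecialLinearGroup (Fin 2) F → ℂ) (-1) = (Fintype.card F : ℂ) := St_neg_one

theorem eq_StI_of_degree (χ : Cfsg.IrrCharacter (SpecialLinearGroup (Fin 2) F))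
    (h : (χ : SpecialLinearGroup (Fin 2) F → ℂ) 1 = (Fintype.card F : ℂ)) : χ = StI F :=
  Subtype.ext (eq_St_of_degree χ.2 h)

/-- the Steinberg character is alone in its block. -/
theorem blockOf_StI (p : ℕ) [Fact p.Prime] [CharP F p] (hM : Cfsg.IsPModular p M) :
    Cfsg.blockOf M ((StI F : Cfsg.IrrCharacter (SpecialLinearGroup (Fin 2) F)) :
      SpecialLinearGroup (Fin 2) F → ℂ) = {StI F} := by
  apply blockOf_eq_singleton_of_not_dvd hM.2.1 p hM.1 hM.2.2
  have hp : p.Prime := Fact.out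
  have hpq := char_dvd_card (F := F) p
  have hp1 : ¬ p ∣ 1 := hp.one_lt.ne' ∘ Nat.dvd_one.mp
  have hd : Cfsg.charDegree ((StI F : Cfsg.IrrCharacter (SpecialLinearGroup (Fin 2) F)) :
      SpecialLinearGroup (Fin 2) F → ℂ) = Fintype.card F :=
    (charDegree_eq_iff (StI F) _).mpr StI_one
  rw [hd, card_SL2', Nat.mul_div_cancel_left _ Fintype.card_pos]
  intro h
  rcases (Nat.Prime.dvd_mul hp).mp h with h1 | h1
  · apply hp1
    have h3 : p ∣ (Fintype.card F - 1) + 1 := by
      rw [Nat.sub_add_cancel Fintype.card_pos]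
      exact hpq
    exact (Nat.dvd_add_right h1).mp h3
  · exact hp1 ((Nat.dvd_add_right hpq).mp h1)

/-- the block of a character of positive sign other than the Steinberg character. -/
theorem blockOf_plus (hodd : Odd (Fintype.card F)) (p : ℕ) [Fact p.Prime] [CharP F p]
    (hp2 : p ≠ 2) (hM : Cfsg.IsPModular p M)
    (χ : Cfsg.IrrCharacter (SpecialLinearGroup (Fin 2) F))
    (hχ : (χ : SpecialLinearGroup (Fin 2) F → ℂ) (-1) =
      (χ : SpecialLinearGroup (Fin 2) F → ℂ) 1)
    (hne : (χ : SpecialLinearGroup (Fin 2) F → ℂ) 1 ≠ (Fintype.card F : ℂ)) :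
    Cfsg.blockOf M (χ : SpecialLinearGroup (Fin 2) F → ℂ) =
      {ψ : Cfsg.IrrCharacter (SpecialLinearGroup (Fin 2) F) |
        (ψ : SpecialLinearGroup (Fin 2) F → ℂ) (-1) = (ψ : SpecialLinearGroup (Fin 2) F → ℂ) 1 ∧
        (ψ : SpecialLinearGroup (Fin 2) F → ℂ) 1 ≠ (Fintype.card F : ℂ)} := by
  ext ψ
  constructor
  · intro hψ
    have hψ' : Cfsg.SameBlock M (χ : SpecialLinearGroup (Fin 2) F → ℂ)
        (ψ : SpecialLinearGroup (Fin 2) F → ℂ) := hψ
    have hψq : (ψ : SpecialLinearGroup (Fin 2) F → ℂ) 1 ≠ (Fintype.card F : ℂ) := by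
      intro hq
      have e := eq_StI_of_degree ψ hq
      rw [e] at hψ'
      have h1 : χ ∈ Cfsg.blockOf M ((StI F : Cfsg.IrrCharacter (SpecialLinearGroup (Fin 2) F)) :
          SpecialLinearGroup (Fin 2) F → ℂ) := sameBlock_symm hψ'
      rw [blockOf_StI p hM, Set.mem_singleton_iff] at h1
      apply hne
      rw [h1]
      exact StI_one
    refine ⟨?_, hψq⟩
    rcases sign_cases ψ with h | h
    · exact h
    · exact absurd hψ' (not_sameBlock_of_sign p hp2 hM χ ψ hχ h)
  · rintro ⟨h1, h2⟩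
    exact sameBlock_of_sign p hp2 hM χ ψ (not_dvd_degree hodd p χ hne) (not_dvd_degree hodd p ψ h2)
      1 (by rw [hχ, one_mul]) (by rw [h1, one_mul])

/-- a character of negative sign is not the Steinberg character. -/
theorem degree_ne_of_minus (χ : Cfsg.IrrCharacter (SpecialLinearGroup (Fin 2) F))
    (hχ : (χ : SpecialLinearGroup (Fin 2) F → ℂ) (-1) =
      -(χ : SpecialLinearGroup (Fin 2) F → ℂ) 1) :
    (χ : SpecialLinearGroup (Fin 2) F → ℂ) 1 ≠ (Fintype.card F : ℂ) := by
  intro hq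
  have e := eq_StI_of_degree χ hq
  rw [e, StI_neg_one, StI_one] at hχ
  have hq0 : (Fintype.card F : ℂ) ≠ 0 := by exact_mod_cast Fintype.card_ne_zero
  apply hq0
  linear_combination (1 / 2 : ℂ) * hχ

/-- the block of a character of negative sign. -/
theorem blockOf_minus (hodd : Odd (Fintype.card F)) (p : ℕ) [Fact p.Prime] [CharP F p]
    (hp2 : p ≠ 2) (hM : Cfsg.IsPModular p M)
    (χ : Cfsg.IrrCharacter (SpecialLinearGroup (Fin 2) F))
    (hχ : (χ : SpecialLinearGroup (Fin 2) F → ℂ) (-1) =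
      -(χ : SpecialLinearGroup (Fin 2) F → ℂ) 1) :
    Cfsg.blockOf M (χ : SpecialLinearGroup (Fin 2) F → ℂ) =
      {ψ : Cfsg.IrrCharacter (SpecialLinearGroup (Fin 2) F) |
        (ψ : SpecialLinearGroup (Fin 2) F → ℂ) (-1) =
          -(ψ : SpecialLinearGroup (Fin 2) F → ℂ) 1} := by
  have hne := degree_ne_of_minus χ hχ
  ext ψ
  constructor
  · intro hψ
    have hψ' : Cfsg.SameBlock M (χ : SpecialLinearGroup (Fin 2) F → ℂ)
        (ψ : SpecialLinearGroup (Fin 2) F → ℂ) := hψ
    rcases sign_cases ψ with h | h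
    · exact absurd (sameBlock_symm hψ') (not_sameBlock_of_sign p hp2 hM ψ χ h hχ)
    · exact h
  · intro h1
    have h2 := degree_ne_of_minus ψ h1
    exact sameBlock_of_sign p hp2 hM χ ψ (not_dvd_degree hodd p χ hne) (not_dvd_degree hodd p ψ h2)
      (-1) (by rw [hχ]; ring) (by rw [Set.mem_ofPred_eq] at h1; rw [h1]; ring)

end steinberg

end Cfsg.Agent.Helper8.SL2Blk
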