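import Mathlib
import Cfsg.Agent.Helper8.SL2BlkB
import Cfsg.Agent.Helper7.FiniteFieldBasics

set_option autoImplicit false

/-!
The `p`-blocks of `SL₂(F)` in the defining (odd) characteristic: existence of a character of
negative sign, and Sylow subgroups as defect groups.
-/

namespace Cfsg.Agent.Helper8.SL2Blk

open Matrix Cfsg Cfsg.Agent.Helper6 Cfsg.Agent.Helper8.SL2C Cfsg.Agent.Helper7.SL2
open Cfsg.Agent.Helper8.McK
open scoped ComplexConjugate

universe u

/-- if no defect class of a block has class size divisible by `p`, every Sylow `p`-subgroup is a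
defect group of the block. -/
theorem isDefectGroup_sylow_of_not_dvd {G : Type u} [Group G] [Finite G] {M : Ideal Cfsg.AlgInt}
    (p : ℕ) [hp : Fact p.Prime] (hM : M.IsMaximal) (B : Set (Cfsg.IrrCharacter G))
    (hB : Cfsg.IsPBlock M B)
    (hnd : ∀ g : G, Cfsg.IsDefectClass M B g →
      ¬ p ∣ (Subgroup.centralizer ({g} : Set G)).index) (S : Sylow p G) :
    Cfsg.IsDefectGroup p M B (S : Subgroup G) := by
  obtain ⟨g₀, hg₀⟩ := exists_defectClass hM B hB
  have hnd0 := hnd g₀ hg₀
  obtain ⟨P₀⟩ : Nonempty (Sylow p (Subgroup.centralizer ({g₀} : Set G))) := inferInstance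
  set Q : Sylow p G := Sylow.ofCard _ (card_sylow_of_not_dvd_index p _ hnd0 P₀) with hQ
  have hQle : (Q : Subgroup G) ≤ Subgroup.centralizer ({g₀} : Set G) := by
    change (P₀ : Subgroup _).map (Subgroup.centralizer ({g₀} : Set G)).subtype ≤ _
    exact Subgroup.map_subtype_le _
  obtain ⟨x, hx⟩ := MulAction.exists_smul_eq G Q S
  set g := x * g₀ * x⁻¹ with hgdef
  have hg : Cfsg.IsDefectClass M B g := isDefectClass_conj _ g₀ x hg₀
  have hSle : (S : Subgroup G) ≤ Subgroup.centralizer ({g} : Set G) := by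
    intro y hy
    rw [← hx, Sylow.coe_subgroup_smul, Subgroup.mem_pointwise_smul_iff_inv_smul_mem] at hy
    rw [hgdef, mem_centralizer_conj_iff]
    have := hQle hy
    simpa [MulAut.smul_def, MulAut.conj_apply] using this
  have hcard : Nat.card ((S : Subgroup G).subgroupOf (Subgroup.centralizer ({g} : Set G))) =
      p ^ (Nat.card (Subgroup.centralizer ({g} : Set G))).factorization p := by
    rw [Nat.card_congr (Subgroup.subgroupOfEquivOfLe hSle).toEquiv, Sylow.card_eq_multiplicity]
    congr 1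
    have hnd' := hnd g hg
    rw [← Subgroup.card_mul_index (Subgroup.centralizer ({g} : Set G)),
      Nat.factorization_mul Nat.card_pos.ne' (Subgroup.index_ne_zero_of_finite),
      Finsupp.add_apply, Nat.factorization_eq_zero_of_not_dvd hnd', add_zero]
  refine ⟨g, hg, Sylow.ofCard _ hcard, ?_⟩
  change (S : Subgroup G) = ((S : Subgroup G).subgroupOf _).map _
  rw [Subgroup.map_subgroupOf_eq_of_le hSle]

variable {F : Type*} [Field F] [Fintype F] {M : Ideal Cfsg.AlgInt}

/-- some irreducible character takes the value `-χ(1)` at `-1`. -/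
theorem exists_minus (h2 : (2 : F) ≠ 0) :
    ∃ χ : Cfsg.IrrCharacter (SpecialLinearGroup (Fin 2) F),
      (χ : SpecialLinearGroup (Fin 2) F → ℂ) (-1) =
        -(χ : SpecialLinearGroup (Fin 2) F → ℂ) 1 := by
  classical
  by_contra hcon
  push Not at hcon
  have hall : ∀ χ : Cfsg.IrrCharacter (SpecialLinearGroup (Fin 2) F),
      (χ : SpecialLinearGroup (Fin 2) F → ℂ) (-1) = (χ : SpecialLinearGroup (Fin 2) F → ℂ) 1 :=
    fun χ => (sign_cases χ).resolve_right (hcon χ)
  have : Finite (Cfsg.IrrCharacter (SpecialLinearGroup (Fin 2) F)) := irr_finite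
  have : Fintype (Cfsg.IrrCharacter (SpecialLinearGroup (Fin 2) F)) := Fintype.ofFinite _
  have hcol := column_orthogonality_aux (G := SpecialLinearGroup (Fin 2) F) (-1) 1
  rw [if_neg (by rw [isConj_one_left]; exact SL2C.neg_one_ne_one h2)] at hcol
  have hsq := sum_sq_degrees (G := SpecialLinearGroup (Fin 2) F)
  have e : ∑ χ : Cfsg.IrrCharacter (SpecialLinearGroup (Fin 2) F),
      (χ : SpecialLinearGroup (Fin 2) F → ℂ) (-1) *
        conj ((χ : SpecialLinearGroup (Fin 2) F → ℂ) 1) =
      ∑ χ : Cfsg.IrrCharacter (SpecialLinearGroup (Fin 2) F),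
        (χ : SpecialLinearGroup (Fin 2) F → ℂ) 1 ^ 2 := by
    apply Finset.sum_congr rfl
    intro χ _
    obtain ⟨n, hn⟩ := IsCharacter.apply_one (IsIrrCharacter.isCharacter χ.2)
    rw [hall χ, hn, Complex.conj_natCast, sq]
  rw [e, hsq] at hcol
  have hne : (Nat.card (SpecialLinearGroup (Fin 2) F) : ℂ) ≠ 0 := by
    exact_mod_cast Nat.card_pos.ne'
  exact hne hcol

end Cfsg.Agent.Helper8.SL2Blk
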