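import Mathlib
import Cfsg.Agent.Helper8.SLPermD

set_option autoImplicit false
set_option linter.unusedSectionVars false
set_option linter.unusedVariables false

/-!
API for the permutation character of `SL_n(F)` (`n = m + 3`) on the non-zero vectors: the
constituents `cfam o` are irreducible and pairwise distinct, their degrees, and the
characterisation of the irreducible characters meeting the permutation character.
-/

namespace Cfsg.Agent.Helper8.SLPerm

open scoped Matrix
open Matrix Cfsg.Agent.Helper8.SLTrans Cfsg.Agent.Helper6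
open scoped ComplexConjugate

variable {F : Type*} [Field F] [Fintype F] [DecidableEq F] {m : ℕ}

theorem isCharacter_cfam (o : Option (MulChar F ℂ)) :
    Cfsg.IsCharacter (SpecialLinearGroup (Fin (m + 3)) F) (cfam (m := m) o) := by
  rcases o with _ | α
  · exact isCharacter_one
  · exact isCharacter_psi α

theorem cfam_ne_zero (o : Option (MulChar F ℂ)) : cfam (m := m) o ≠ 0 := by
  rcases o with _ | α
  · intro h
    have := congrFun h 1
    simp [cfam] at this
  · exact psi_ne_zero α

/-- every constituent is irreducible. -/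
theorem isIrr_cfam [Fintype (MulChar F ℂ)] (o : Option (MulChar F ℂ)) :
    Cfsg.IsIrrCharacter (SpecialLinearGroup (Fin (m + 3)) F) (cfam (m := m) o) :=
  (CharDecomp.irr_of_sum (cfam (F := F) (m := m)) isCharacter_cfam cfam_ne_zero
    classInner_sum_cfam).1 o

/-- the constituents are pairwise distinct. -/
theorem cfam_injective [Fintype (MulChar F ℂ)] :
    Function.Injective (cfam (F := F) (m := m)) :=
  (CharDecomp.irr_of_sum (cfam (F := F) (m := m)) isCharacter_cfam cfam_ne_zero
    classInner_sum_cfam).2

/-- the permutation character on the non-zero vectors. -/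
noncomputable def piVec (g : SpecialLinearGroup (Fin (m + 3)) F) : ℂ := ((fixSet g).card : ℂ)

theorem piVec_eq_sum [Fintype (MulChar F ℂ)] :
    (piVec : SpecialLinearGroup (Fin (m + 3)) F → ℂ) = ∑ o : Option (MulChar F ℂ), cfam (m := m) o := by
  funext g
  rw [sum_cfam]
  rfl

/-- **an irreducible character meeting the permutation character is a constituent.** -/
theorem irr_of_inner_ne_zero [Fintype (MulChar F ℂ)]
    {χ : SpecialLinearGroup (Fin (m + 3)) F → ℂ}
    (hχ : Cfsg.IsIrrCharacter (SpecialLinearGroup (Fin (m + 3)) F) χ)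
    (h : Cfsg.classInner χ (piVec (m := m)) ≠ 0) : ∃ o : Option (MulChar F ℂ), χ = cfam o := by
  by_contra hcon
  push Not at hcon
  apply h
  rw [piVec_eq_sum, classInner_sum_right]
  apply Finset.sum_eq_zero
  intro o _
  exact classInner_irr_ne hχ (isIrr_cfam o) (hcon o)

/-- the order of the group. -/
theorem card_SL :
    Fintype.card (SpecialLinearGroup (Fin (m + 3)) F) = (Fintype.card F ^ (m + 3) - 1) * N F m := by
  classical
  let S : Finset (Fin (m + 3) → F) := Finset.univ.filter (fun v => v ≠ 0)
  have hS : S.card = Fintype.card F ^ (m + 3) - 1 := by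
    have h1 : S = Finset.univ.erase (0 : Fin (m + 3) → F) := by
      ext v
      simp [S]
    rw [h1, Finset.card_erase_of_mem (Finset.mem_univ _), Finset.card_univ, Fintype.card_fun,
      Fintype.card_fin]
  rw [← hS, ← card_preimage S (fun v hv => (Finset.mem_filter.mp hv).2), ← Finset.card_univ]
  congr 1
  ext x
  simp only [Finset.mem_univ, Finset.mem_filter, true_and, S, true_iff]
  exact mulVec_ne_zero x e0_ne_zero

theorem geom_dvd : (Fintype.card F - 1) ∣ (Fintype.card F ^ (m + 3) - 1) := by
  have := Nat.sub_dvd_pow_sub_pow (Fintype.card F) 1 (m + 3)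
  rwa [one_pow] at this

/-- the degree of `R α` is the number of points of the projective space. -/
theorem R_one_val (α : MulChar F ℂ) :
    R (m := m) α 1 = (((Fintype.card F ^ (m + 3) - 1) / (Fintype.card F - 1) : ℕ) : ℂ) := by
  rw [R_one, card_P, card_SL]
  obtain ⟨k, hk⟩ := geom_dvd (F := F) (m := m)
  have hq : 0 < Fintype.card F - 1 := by
    have : 1 < Fintype.card F := Fintype.one_lt_card
    omega
  rw [hk, Nat.mul_div_cancel_left k hq]
  have hN : ((N F m : ℕ) : ℂ) ≠ 0 := by exact_mod_cast (N_pos (F := F) (m := m)).ne'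
  have hq' : (((Fintype.card F - 1 : ℕ)) : ℂ) ≠ 0 := by exact_mod_cast hq.ne'
  push_cast
  field_simp

/-- the degrees of the constituents. -/
theorem psi_one_val (α : MulChar F ℂ) :
    psi (m := m) α 1 = (((Fintype.card F ^ (m + 3) - 1) / (Fintype.card F - 1) : ℕ) : ℂ) -
      (if α = 1 then (1 : ℂ) else 0) := by
  rw [psi_apply, R_one_val]

/-- the degree of a constituent is `1`, `N_n - 1` or `N_n`. -/
theorem cfam_one_val (o : Option (MulChar F ℂ)) :
    cfam (m := m) o 1 = 1 ∨
    cfam (m := m) o 1 = (((Fintype.card F ^ (m + 3) - 1) / (Fintype.card F - 1) : ℕ) : ℂ) - 1 ∨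
    cfam (m := m) o 1 = (((Fintype.card F ^ (m + 3) - 1) / (Fintype.card F - 1) : ℕ) : ℂ) := by
  rcases o with _ | α
  · left
    rfl
  · right
    change psi α 1 = _ ∨ psi α 1 = _
    rw [psi_one_val]
    by_cases h : α = 1
    · left
      rw [if_pos h]
    · right
      rw [if_neg h, sub_zero]

end Cfsg.Agent.Helper8.SLPerm
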