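import Mathlib
import Cfsg.Agent.Helper8.SLRootC

set_option autoImplicit false

/-! The transvections of `SL_{n+3}(F)`, `F` finite of characteristic 2, form a class of root
involutions: products of pairs (helper8). -/

namespace Cfsg.Agent.Helper8.SLRoot

open Matrix Cfsg Cfsg.Agent.Helper8.SLTrans Cfsg.Agent.Helper8.OddOrderSemi
open scoped commutatorElement

variable {F : Type*} [Field F] {n : ℕ}

theorem orderOf_coe (g : SpecialLinearGroup (Fin (n + 3)) F) :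
    orderOf (g : Matrix (Fin (n + 3)) (Fin (n + 3)) F) = orderOf g := by
  apply orderOf_eq_orderOf_iff.mpr
  intro k
  rw [← Matrix.SpecialLinearGroup.coe_pow, ← Matrix.SpecialLinearGroup.coe_one]
  exact ⟨fun h => Subtype.ext h, fun h => congrArg Subtype.val h⟩

theorem orderOf_conj' {G : Type*} [Group G] (g h : G) : orderOf (g * h * g⁻¹) = orderOf h := by
  rw [← MulAut.conj_apply]
  exact (MulAut.conj g).orderOf_eq h

variable [Fintype F] [CharP F 2]

instance finite_SL : Finite (SpecialLinearGroup (Fin (n + 3)) F) :=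
  inferInstanceAs (Finite {A : Matrix (Fin (n + 3)) (Fin (n + 3)) F // A.det = 1})

omit [Fintype F] in
theorem mat_add_self (M : Matrix (Fin (n + 3)) (Fin (n + 3)) F) : M + M = 0 := by
  ext i j
  rw [Matrix.add_apply, CharTwo.add_self_eq_zero, Matrix.zero_apply]

/-- a product of two transvections with `φ y ≠ 0 ≠ ψ x` has odd order. -/
theorem odd_orderOf_mul {x φ y ψ : Fin (n + 3) → F} (hx : φ ⬝ᵥ x = 0) (hy : ψ ⬝ᵥ y = 0)
    (h1 : φ ⬝ᵥ y ≠ 0) (h2 : ψ ⬝ᵥ x ≠ 0) : Odd (orderOf (TV x φ hx * TV y ψ hy)) := by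
  rw [← orderOf_coe]
  have hN : ((TV x φ hx * TV y ψ hy : SpecialLinearGroup (Fin (n + 3)) F) :
      Matrix (Fin (n + 3)) (Fin (n + 3)) F) = 1 + Rm x φ y ψ := by
    rw [Matrix.SpecialLinearGroup.coe_mul, TV_coe, TV_coe, tv_mul_tv]
  have hfin : IsOfFinOrder ((TV x φ hx * TV y ψ hy : SpecialLinearGroup (Fin (n + 3)) F) :
      Matrix (Fin (n + 3)) (Fin (n + 3)) F) := by
    rw [← orderOf_pos_iff, orderOf_coe]
    exact orderOf_pos _
  refine odd_orderOf_one_add _ _ hN (cubic2 ((φ ⬝ᵥ y) * (ψ ⬝ᵥ x)))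
    (cubic2_squarefree (mul_ne_zero h1 h2)) ?_ hfin
  rw [aeval_cubic2]
  exact Rm_cubic hx hy

omit [CharP F 2] in
theorem eq_one_of_card_two (hF : Fintype.card F = 2) {t : F} (ht : t ≠ 0) : t = 1 := by
  have := FiniteField.pow_card_sub_one_eq_one t ht
  rwa [hF, show 2 - 1 = 1 from rfl, pow_one] at this

/-- over the field with two elements such a product has order dividing 3. -/
theorem mul_pow_three {x φ y ψ : Fin (n + 3) → F} (hF : Fintype.card F = 2) (hx : φ ⬝ᵥ x = 0)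
    (hy : ψ ⬝ᵥ y = 0) (h1 : φ ⬝ᵥ y ≠ 0) (h2 : ψ ⬝ᵥ x ≠ 0) :
    (TV x φ hx * TV y ψ hy) ^ 3 = 1 := by
  apply Subtype.ext
  rw [Matrix.SpecialLinearGroup.coe_pow, Matrix.SpecialLinearGroup.coe_mul, TV_coe, TV_coe,
    tv_mul_tv, Matrix.SpecialLinearGroup.coe_one]
  have hR := Rm_cubic hx hy
  rw [eq_one_of_card_two hF (mul_ne_zero h1 h2), one_smul, one_smul] at hR
  obtain ⟨R, hRdef⟩ : ∃ R, R = Rm x φ y ψ := ⟨_, rfl⟩
  rw [← hRdef] at hR ⊢
  have hR3 : R * (R * R) = R * R + R := by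
    rw [mul_sub, mul_sub, mul_one, sub_sub, sub_eq_zero] at hR
    exact hR
  have e1 : (1 + R) ^ 3 = 1 + (R + R + R) + (R * R + R * R + R * R) + R * (R * R) := by
    noncomm_ring
  rw [e1, hR3]
  have e2 : 1 + (R + R + R) + (R * R + R * R + R * R) + (R * R + R)
      = 1 + ((R + R) + (R + R)) + ((R * R + R * R) + (R * R + R * R)) := by abel
  rw [e2, mat_add_self R, mat_add_self (R * R), add_zero, add_zero, add_zero]

omit [Fintype F] in
theorem orderOf_four_of_comm {x φ y ψ : Fin (n + 3) → F} (hx : φ ⬝ᵥ x = 0) (hy : ψ ⬝ᵥ y = 0)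
    (hx0 : x ≠ 0) (hψ0 : ψ ≠ 0) (h1 : φ ⬝ᵥ y ≠ 0) (h2 : ψ ⬝ᵥ x = 0) :
    orderOf (TV x φ hx * TV y ψ hy) = 4 ∧ (TV x φ hx * TV y ψ hy) ^ 2 ∈ DD F n := by
  have hsq := sq_eq_commutator hx hy
  rw [TV_commutator hx hy h2] at hsq
  have hmem : (TV x φ hx * TV y ψ hy) ^ 2 ∈ DD F n := by
    rw [hsq]
    exact TV_mem_DD _ (smul_ne_zero h1 hx0) hψ0
  refine ⟨?_, hmem⟩
  have h4 : (4 : ℕ) = 2 ^ (1 + 1) := by norm_num
  rw [h4]
  apply orderOf_eq_prime_pow
  · rw [pow_one, hsq]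
    exact TV_ne_one _ (smul_ne_zero h1 hx0) hψ0
  · rw [pow_succ, pow_mul, pow_one, hsq, pow_two, TV_sq]

theorem DD_pair : ∀ a ∈ DD F n, ∀ b ∈ DD F n,
    a * b = b * a ∨ Odd (orderOf (a * b)) ∨ (orderOf (a * b) = 4 ∧ (a * b) ^ 2 ∈ DD F n) := by
  intro a ha b hb
  obtain ⟨x, φ, hx, hx0, hφ0, rfl⟩ := (mem_DD_iff a).mp ha
  obtain ⟨y, ψ, hy, hy0, hψ0, rfl⟩ := (mem_DD_iff b).mp hb
  by_cases h1 : φ ⬝ᵥ y = 0
  · by_cases h2 : ψ ⬝ᵥ x = 0
    · exact Or.inl (TV_comm hx hy h1 h2)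
    · right; right
      obtain ⟨e1, e2⟩ := orderOf_four_of_comm hy hx hy0 hφ0 h2 h1
      have hconj : TV x φ hx * TV y ψ hy
          = TV x φ hx * (TV y ψ hy * TV x φ hx) * (TV x φ hx)⁻¹ := by group
      constructor
      · rw [hconj, orderOf_conj']
        exact e1
      · rw [hconj, conj_pow]
        exact DD_conj_mem _ e2 _
  · by_cases h2 : ψ ⬝ᵥ x = 0
    · exact Or.inr (Or.inr (orderOf_four_of_comm hx hy hx0 hψ0 h1 h2))
    · exact Or.inr (Or.inl (odd_orderOf_mul hx hy h1 h2))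

theorem DD_isRootInvolutionSet : IsRootInvolutionSet (DD F n) where
  orderOf_eq := by
    intro d hd
    obtain ⟨x, φ, hx, hx0, hφ0, rfl⟩ := (mem_DD_iff d).mp hd
    exact orderOf_TV hx hx0 hφ0
  generates := DD_generates
  conj_mem := DD_conj_mem
  pair := DD_pair

theorem DD_threeFour (hF : Fintype.card F = 2) : IsThreeFourPlusTranspositionSet (DD F n) := by
  refine ⟨DD_isRootInvolutionSet, ?_⟩
  intro a ha b hb hodd
  obtain ⟨x, φ, hx, hx0, hφ0, rfl⟩ := (mem_DD_iff a).mp ha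
  obtain ⟨y, ψ, hy, hy0, hψ0, rfl⟩ := (mem_DD_iff b).mp hb
  have hfour : ¬ Odd 4 := by decide
  by_cases h1 : φ ⬝ᵥ y = 0
  · by_cases h2 : ψ ⬝ᵥ x = 0
    · left
      have hsq : (TV x φ hx * TV y ψ hy) ^ 2 = 1 := by
        rw [pow_two, mul_assoc, ← mul_assoc (TV y ψ hy), ← TV_comm hx hy h1 h2, mul_assoc,
          TV_sq, mul_one, TV_sq]
      have hdvd := orderOf_dvd_of_pow_eq_one hsq
      rcases (Nat.dvd_prime Nat.prime_two).mp hdvd with h | h
      · exact h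
      · rw [h] at hodd
        exact absurd hodd (by decide)
    · exfalso
      obtain ⟨e1, -⟩ := orderOf_four_of_comm hy hx hy0 hφ0 h2 h1
      have hconj : TV x φ hx * TV y ψ hy
          = TV x φ hx * (TV y ψ hy * TV x φ hx) * (TV x φ hx)⁻¹ := by group
      rw [hconj, orderOf_conj', e1] at hodd
      exact hfour hodd
  · by_cases h2 : ψ ⬝ᵥ x = 0
    · exfalso
      obtain ⟨e1, -⟩ := orderOf_four_of_comm hx hy hx0 hψ0 h1 h2
      rw [e1] at hodd
      exact hfour hodd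
    · have hdvd := orderOf_dvd_of_pow_eq_one (mul_pow_three hF hx hy h1 h2)
      exact (Nat.dvd_prime Nat.prime_three).mp hdvd

/-- **The transvections of `SL_{n+3}(F)` in characteristic 2 form a class of root involutions.** -/
theorem main_rootInv (F : Type*) [Field F] [Fintype F] [CharP F 2] (n : ℕ) :
    IsRootInvolutionClass (DD F n) ∧
      (Fintype.card F = 2 → IsThreeFourPlusTranspositionSet (DD F n)) :=
  ⟨⟨DD_isRootInvolutionSet, DD_nonempty, DD_conj⟩, DD_threeFour⟩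

end Cfsg.Agent.Helper8.SLRoot
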