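import Cfsg.Agent.Helper8.SemiSClasses
set_option autoImplicit false

namespace Cfsg.Agent.Helper8.SemiS

open Polynomial Module Matrix

variable {F : Type*} [Field F] [Fintype F]

/-- On a model with at least one factor there are `F[X]`-compatible automorphisms of every
nonzero determinant. -/
theorem exists_commuting_det {d : ℕ} (P : Fin (d + 1) → F[X])
    (hP : ∀ i, (P i).Monic ∧ Irreducible (P i)) (c : F) :
    haveI : ∀ i, Fact (P i).Monic := fun i => ⟨(hP i).1⟩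
    ∃ y : (∀ i, F[X] ⧸ (F[X] ∙ P i)) →ₗ[F] (∀ i, F[X] ⧸ (F[X] ∙ P i)),
      (∀ m, y ((X : F[X]) • m) = (X : F[X]) • y m) ∧ LinearMap.det y = c := by
  haveI : ∀ i, Fact (P i).Monic := fun i => ⟨(hP i).1⟩
  haveI : Fact (Irreducible (P 0)) := ⟨(hP 0).2⟩
  haveI : Module.Finite F (AdjoinRoot (P 0)) := (hP 0).1.finite_adjoinRoot
  haveI : Finite (AdjoinRoot (P 0)) := Module.finite_of_finite F
  obtain ⟨α, hα⟩ := FiniteField.norm_surjective F (AdjoinRoot (P 0)) c
  let e := Fin.consLinearEquiv F (fun i : Fin (d + 1) => F[X] ⧸ (F[X] ∙ P i))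
  let y₀ : ((F[X] ⧸ (F[X] ∙ P 0)) × (∀ i : Fin d, F[X] ⧸ (F[X] ∙ P i.succ))) →ₗ[F]
      ((F[X] ⧸ (F[X] ∙ P 0)) × (∀ i : Fin d, F[X] ⧸ (F[X] ∙ P i.succ))) :=
    (LinearMap.mulLeft F α : AdjoinRoot (P 0) →ₗ[F] AdjoinRoot (P 0)).prodMap LinearMap.id
  refine ⟨e.conj y₀, ?_, ?_⟩
  · intro m
    obtain ⟨⟨a, b⟩, rfl⟩ := e.surjective m
    have hX : ∀ (a : F[X] ⧸ (F[X] ∙ P 0)) (b : ∀ i : Fin d, F[X] ⧸ (F[X] ∙ P i.succ)),
        (X : F[X]) • e (a, b) = e ((X : F[X]) • a, (X : F[X]) • b) := by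
      intro a b
      funext i
      refine Fin.cases ?_ (fun j => ?_) i
      · simp [e, Fin.consLinearEquiv]
      · simp [e, Fin.consLinearEquiv]
    rw [hX, LinearEquiv.conj_apply]
    simp only [LinearMap.coe_comp, LinearEquiv.coe_coe, Function.comp_apply,
      LinearEquiv.symm_apply_apply]
    rw [hX]
    congr 1
    apply Prod.ext
    · obtain ⟨h, rfl⟩ := Submodule.Quotient.mk_surjective _ a
      change α * (AdjoinRoot.mk (P 0) (X * h)) =
        AdjoinRoot.mk (P 0) X * (α * AdjoinRoot.mk (P 0) h)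
      rw [map_mul]
      ring
    · rfl
  · rw [LinearEquiv.conj_apply, LinearMap.comp_assoc, LinearMap.det_conj]
    change LinearMap.det ((LinearMap.mulLeft F α : AdjoinRoot (P 0) →ₗ[F] AdjoinRoot (P 0)).prodMap
      (LinearMap.id : (∀ i : Fin d, F[X] ⧸ (F[X] ∙ P i.succ)) →ₗ[F] _)) = c
    rw [LinearMap.det_prodMap, LinearMap.det_id, mul_one]
    exact hα

theorem aeval_toLin' {n : ℕ} (A : Matrix (Fin n) (Fin n) F) (g : F[X]) (hA : aeval A g = 0) :
    aeval (Matrix.toLin' A) g = 0 := by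
  have := Polynomial.aeval_algHom_apply (Matrix.toLinAlgEquiv' (R := F) (n := Fin n)).toAlgHom A g
  change aeval (Matrix.toLin' A) g = Matrix.toLin' (aeval A g) at this
  rw [this, hA, map_zero]

theorem exists_centralizer_det {n : ℕ} (hn : 1 ≤ n) (A : Matrix (Fin n) (Fin n) F) (g : F[X])
    (hg : Squarefree g) (hA : aeval A g = 0) (c : F) (hc : c ≠ 0) :
    ∃ y : GL (Fin n) F, (y : Matrix (Fin n) (Fin n) F) * A = A * (y : Matrix (Fin n) (Fin n) F) ∧
      (y : Matrix (Fin n) (Fin n) F).det = c := by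
  obtain ⟨d, P, hP, ⟨Ψ⟩⟩ := exists_model (Matrix.toLin' A) g hg (aeval_toLin' A g hA)
  haveI : ∀ i, Fact (P i).Monic := fun i => ⟨(hP i).1⟩
  let m := modelEquiv (Matrix.toLin' A) P Ψ
  have hd : d ≠ 0 := by
    rintro rfl
    have h1 : finrank F (∀ i : Fin 0, F[X] ⧸ (F[X] ∙ P i)) = 0 := by
      rw [Module.finrank_pi_fintype]
      simp
    have h2 := LinearEquiv.finrank_eq m
    rw [Module.finrank_fin_fun, h1] at h2
    omega
  obtain ⟨d', rfl⟩ : ∃ d', d = d' + 1 := ⟨d - 1, by omega⟩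
  obtain ⟨yM, hyM1, hyM2⟩ := exists_commuting_det P hP c
  let yV : (Fin n → F) →ₗ[F] (Fin n → F) := (m.symm : _ →ₗ[F] _) ∘ₗ yM ∘ₗ (m : _ →ₗ[F] _)
  have hdet : LinearMap.det yV = c := by
    have := LinearMap.det_conj yM m.symm
    rw [LinearEquiv.symm_symm] at this
    rw [← hyM2, ← this]
  have hcomm : ∀ v, yV (Matrix.toLin' A v) = Matrix.toLin' A (yV v) := by
    intro v
    change m.symm (yM (m (Matrix.toLin' A v))) = Matrix.toLin' A (m.symm (yM (m v)))
    rw [LinearEquiv.symm_apply_eq]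
    change yM (modelEquiv _ P Ψ (Matrix.toLin' A v)) = modelEquiv _ P Ψ (Matrix.toLin' A _)
    rw [modelEquiv_apply, modelEquiv_apply, hyM1]
    congr 1
    exact (LinearEquiv.apply_symm_apply m _).symm
  let Y : Matrix (Fin n) (Fin n) F := LinearMap.toMatrix' yV
  have hYdet : Y.det = c := by rw [LinearMap.det_toMatrix', hdet]
  refine ⟨Matrix.GeneralLinearGroup.mkOfDetNeZero Y (by rw [hYdet]; exact hc), ?_, hYdet⟩
  change Y * A = A * Y
  have e1 : A = LinearMap.toMatrix' (Matrix.toLin' A) := (LinearMap.toMatrix'_toLin' A).symm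
  rw [e1, ← LinearMap.toMatrix'_comp, ← LinearMap.toMatrix'_comp]
  congr 1
  apply LinearMap.ext
  intro v
  exact hcomm v

end Cfsg.Agent.Helper8.SemiS
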