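import Cfsg.Agent.Helper8.SLUa
import Cfsg.Agent.Helper8.SemiSDet
import Cfsg.Agent.Helper8.PGLrSplit

set_option autoImplicit false
set_option linter.unusedSectionVars false

/-!
Conjugacy into the similarity group of a unitary form: a necessary condition on the characteristic
polynomial, and its sufficiency for semisimple matrices.
-/

namespace Cfsg.Agent.Helper8.SLU

open Polynomial Matrix Cfsg Cfsg.Geo Cfsg.Agent.Helper8.GUOrder Cfsg.Agent.Helper8.AutSU
  Cfsg.Agent.Helper8.PSUSing Cfsg.Agent.Helper8.SUSemi Cfsg.Agent.Helper8.RegSU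
  Cfsg.Agent.Helper8.SemiS Cfsg.Agent.Helper8.PGLr

variable {K : Type*} [Field K] [Fintype K] {q : ℕ} [hF : Fact (Fintype.card K = q ^ 2)] {n : ℕ}

theorem sim_unitary (hn : 1 ≤ n) (Y : Matrix (Fin n) (Fin n) K) (c : K) (hc0 : c ≠ 0)
    (h : st (q := q) Y * Y = c • 1) :
    ∃ e : K, e ≠ 0 ∧ st (q := q) (e • Y) * (e • Y) = 1 := by
  have hcq : c ^ q = c := by
    have h1 := congrArg (st (q := q)) h
    rw [st_mul, st_st, st_smul_one, h] at h1
    have := congrFun (congrFun h1 ⟨0, hn⟩) ⟨0, hn⟩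
    simpa using this.symm
  obtain ⟨l, hl⟩ := exists_norm hF.out hc0 hcq
  have hl0 : l ≠ 0 := by
    rintro rfl
    apply hc0
    rw [← hl, zero_mul]
  refine ⟨l⁻¹, inv_ne_zero hl0, ?_⟩
  rw [st_smul, Matrix.smul_mul, Matrix.mul_smul, smul_smul, h, smul_smul, ← hl]
  have : l⁻¹ ^ q * l⁻¹ * (l * l ^ q) = 1 := by
    have hlq : l ^ q ≠ 0 := pow_ne_zero _ hl0
    rw [inv_pow]
    field_simp
  rw [this, one_smul]

theorem unitary_smul (U : Matrix (Fin n) (Fin n) K) (hU : st (q := q) U * U = 1) (e : K) :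
    st (q := q) (e • U) * (e • U) = (e * e ^ q) • 1 := by
  rw [st_smul, Matrix.smul_mul, Matrix.mul_smul, smul_smul, hU, mul_comm]

/-- **necessary condition**: a matrix conjugate into the similarity group has, after scaling, a
self-conjugate-reciprocal characteristic polynomial. -/
theorem nec (hn : 1 ≤ n) {f : (Fin n → K) → (Fin n → K) → K} (hf : IsUnitaryFormPow q f)
    (x g : GL (Fin n) K) (h : g⁻¹ * x * g ∈ similarityGroup f) :
    ∃ μ : K, μ ≠ 0 ∧ ustar (q := q) ((μ • (x : Matrix (Fin n) (Fin n) K)).charpoly)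
      = (μ • (x : Matrix (Fin n) (Fin n) K)).charpoly := by
  obtain ⟨P, Pi, h1, h2, hmodel⟩ := exists_model hf
  obtain ⟨c, hc0, hc⟩ := (hmodel _).mp h
  obtain ⟨e, he0, he⟩ := sim_unitary hn _ c hc0 hc
  refine ⟨e, he0, ?_⟩
  set Y : Matrix (Fin n) (Fin n) K :=
    P * ((g⁻¹ * x * g : GL (Fin n) K) : Matrix (Fin n) (Fin n) K) * Pi with hY
  let G : GL (Fin n) K := ⟨e • Y, st (q := q) (e • Y), mul_eq_one_comm.mp he, he⟩
  have hG := ustar_charpoly_of_unitary (q := q) G he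
  have hGv : (G : Matrix (Fin n) (Fin n) K) = e • Y := rfl
  rw [hGv] at hG
  have hgi1 : ((g⁻¹ : GL (Fin n) K) : Matrix (Fin n) (Fin n) K) * (g : Matrix (Fin n) (Fin n) K) = 1 := by
    rw [← Units.val_mul, inv_mul_cancel, Units.val_one]
  have hgi2 : (g : Matrix (Fin n) (Fin n) K) * ((g⁻¹ : GL (Fin n) K) : Matrix (Fin n) (Fin n) K) = 1 := by
    rw [← Units.val_mul, mul_inv_cancel, Units.val_one]
  have hMM : (g : Matrix (Fin n) (Fin n) K) * Pi * (P * ((g⁻¹ : GL (Fin n) K) : Matrix (Fin n) (Fin n) K)) = 1 := by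
    calc (g : Matrix (Fin n) (Fin n) K) * Pi * (P * ((g⁻¹ : GL (Fin n) K) : Matrix (Fin n) (Fin n) K))
        = (g : Matrix (Fin n) (Fin n) K) * (Pi * P) * ((g⁻¹ : GL (Fin n) K) : Matrix (Fin n) (Fin n) K) := by
          simp only [Matrix.mul_assoc]
      _ = 1 := by rw [h2, Matrix.mul_one, hgi2]
  have hconj : e • Y = P * ((g⁻¹ : GL (Fin n) K) : Matrix (Fin n) (Fin n) K) *
      (e • (x : Matrix (Fin n) (Fin n) K)) * ((g : Matrix (Fin n) (Fin n) K) * Pi) := by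
    rw [hY, Units.val_mul, Units.val_mul]
    simp only [Matrix.mul_assoc, Matrix.mul_smul, Matrix.smul_mul]
  have hcp : (e • Y).charpoly = (e • (x : Matrix (Fin n) (Fin n) K)).charpoly := by
    rw [hconj, Matrix.charpoly_mul_comm, ← Matrix.mul_assoc, hMM, Matrix.one_mul]
  rw [hcp] at hG
  exact hG

/-- **sufficiency for semisimple matrices** (conjugacy in the general linear group). -/
theorem suf_gl (p : ℕ) [Fact p.Prime] [CharP K p] (hn : 1 ≤ n)
    {f : (Fin n → K) → (Fin n → K) → K} (hf : IsUnitaryFormPow q f)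
    (x : GL (Fin n) K) (gs : K[X]) (hsq : Squarefree gs)
    (hx : aeval (x : Matrix (Fin n) (Fin n) K) gs = 0) (μ : K) (hμ : μ ≠ 0)
    (hs : ustar (q := q) ((μ • (x : Matrix (Fin n) (Fin n) K)).charpoly)
      = (μ • (x : Matrix (Fin n) (Fin n) K)).charpoly) :
    ∃ h : GL (Fin n) K, h⁻¹ * x * h ∈ similarityGroup f := by
  have hp : p.Prime := Fact.out
  obtain ⟨P, Pi, h1, h2, hmodel⟩ := exists_model hf
  have hdetx : (x : Matrix (Fin n) (Fin n) K).det ≠ 0 := by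
    have := (Matrix.isUnit_iff_isUnit_det _).mp x.isUnit
    exact this.ne_zero
  have h0 : ((μ • (x : Matrix (Fin n) (Fin n) K)).charpoly).coeff 0 ≠ 0 := by
    intro h
    have hd := Matrix.det_eq_sign_charpoly_coeff (μ • (x : Matrix (Fin n) (Fin n) K))
    rw [h, mul_zero, Matrix.det_smul] at hd
    exact (mul_ne_zero (pow_ne_zero _ hμ) hdetx) hd
  obtain ⟨U, hU, hUc, hUo⟩ := exists_unitary_realization (q := q) p n
    ((μ • (x : Matrix (Fin n) (Fin n) K)).charpoly) (Matrix.charpoly_monic _)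
    (by rw [Matrix.charpoly_natDegree_eq_dim, Fintype.card_fin]) h0 hs
  set m := orderOf U with hm
  have hm0 : ((m : ℕ) : K) ≠ 0 := by
    intro h
    have hd := (CharP.cast_eq_zero_iff K p m).mp h
    have : p ∣ Nat.gcd m p := Nat.dvd_gcd hd dvd_rfl
    rw [Nat.Coprime] at hUo
    rw [hUo] at this
    exact hp.one_lt.ne' (Nat.dvd_one.mp this)
  have hUm : (U : Matrix (Fin n) (Fin n) K) ^ m = 1 := by
    have := pow_orderOf_eq_one U
    rw [← Units.val_pow_eq_pow_val, this, Units.val_one]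
  have hB : aeval (μ⁻¹ • (U : Matrix (Fin n) (Fin n) K)) (X ^ m - C (μ⁻¹ ^ m) : K[X]) = 0 := by
    rw [aeval_X_pow_sub_C, _root_.smul_pow, hUm, sub_self]
  have hcp : (x : Matrix (Fin n) (Fin n) K).charpoly
      = (μ⁻¹ • (U : Matrix (Fin n) (Fin n) K)).charpoly := by
    rw [charpoly_smul μ⁻¹ (inv_ne_zero hμ), hUc]
    have : (x : Matrix (Fin n) (Fin n) K) = μ⁻¹ • (μ • (x : Matrix (Fin n) (Fin n) K)) := by
      rw [smul_smul, inv_mul_cancel₀ hμ, one_smul]
    conv_lhs => rw [this]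
    rw [charpoly_smul μ⁻¹ (inv_ne_zero hμ)]
  obtain ⟨y, hy⟩ := exists_conj_of_charpoly_eq (x : Matrix (Fin n) (Fin n) K)
    (μ⁻¹ • (U : Matrix (Fin n) (Fin n) K)) gs (X ^ m - C (μ⁻¹ ^ m))
    hsq (squarefree_X_pow_sub_C m hm0 _ (pow_ne_zero _ (inv_ne_zero hμ))) hx hB hcp
  let PG : GL (Fin n) K := ⟨P, Pi, h1, h2⟩
  refine ⟨y⁻¹ * PG, ?_⟩
  rw [hmodel]
  refine ⟨μ⁻¹ * μ⁻¹ ^ q, mul_ne_zero (inv_ne_zero hμ) (pow_ne_zero _ (inv_ne_zero hμ)), ?_⟩
  have hval : P * (((y⁻¹ * PG)⁻¹ * x * (y⁻¹ * PG) : GL (Fin n) K) : Matrix (Fin n) (Fin n) K) * Pi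
      = μ⁻¹ • (U : Matrix (Fin n) (Fin n) K) := by
    have e1 : ((y⁻¹ * PG)⁻¹ * x * (y⁻¹ * PG) : GL (Fin n) K) = PG⁻¹ * (y * x * y⁻¹) * PG := by
      group
    rw [e1, Units.val_mul, Units.val_mul, Units.val_mul, Units.val_mul, hy]
    show P * (Pi * (μ⁻¹ • (U : Matrix (Fin n) (Fin n) K)) * P) * Pi = _
    calc P * (Pi * (μ⁻¹ • (U : Matrix (Fin n) (Fin n) K)) * P) * Pi
        = (P * Pi) * (μ⁻¹ • (U : Matrix (Fin n) (Fin n) K)) * (P * Pi) := by
          simp only [Matrix.mul_assoc]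
      _ = _ := by rw [h1, Matrix.one_mul, Matrix.mul_one]
  rw [hval]
  exact unitary_smul _ hU _

/-- adjusting a conjugating element to determinant one, when the centralizer has all
determinants. -/
theorem sl_adjust (S : Subgroup (GL (Fin n) K)) (x h : GL (Fin n) K) (hh : h⁻¹ * x * h ∈ S)
    (hc : ∀ c : K, c ≠ 0 → ∃ t : GL (Fin n) K,
      (t : Matrix (Fin n) (Fin n) K) * (x : Matrix (Fin n) (Fin n) K)
        = (x : Matrix (Fin n) (Fin n) K) * (t : Matrix (Fin n) (Fin n) K) ∧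
      (t : Matrix (Fin n) (Fin n) K).det = c) :
    ∃ g ∈ Cfsg.Geo.specialLinear (Fin n) K, g⁻¹ * x * g ∈ S := by
  have hdeth : (h : Matrix (Fin n) (Fin n) K).det ≠ 0 := by
    have := (Matrix.isUnit_iff_isUnit_det _).mp h.isUnit
    exact this.ne_zero
  obtain ⟨t, ht, htd⟩ := hc ((h : Matrix (Fin n) (Fin n) K).det)⁻¹ (inv_ne_zero hdeth)
  have htx : t * x = x * t := by
    apply Units.ext
    rw [Units.val_mul, Units.val_mul]
    exact ht
  refine ⟨t * h, ?_, ?_⟩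
  · unfold Cfsg.Geo.specialLinear
    rw [MonoidHom.mem_ker]
    apply Units.ext
    rw [Matrix.GeneralLinearGroup.val_det_apply, Units.val_mul, Matrix.det_mul, htd, Units.val_one,
      inv_mul_cancel₀ hdeth]
  · have : (t * h)⁻¹ * x * (t * h) = h⁻¹ * x * h := by
      have e1 : t⁻¹ * x * t = x := by
        rw [mul_assoc, ← htx, ← mul_assoc, inv_mul_cancel, one_mul]
      calc (t * h)⁻¹ * x * (t * h) = h⁻¹ * (t⁻¹ * x * t) * h := by group
        _ = h⁻¹ * x * h := by rw [e1]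
    rw [this]
    exact hh

/-- **sufficiency for semisimple matrices** (conjugacy in the special linear group). -/
theorem suf (p : ℕ) [Fact p.Prime] [CharP K p] (hn : 1 ≤ n)
    {f : (Fin n → K) → (Fin n → K) → K} (hf : IsUnitaryFormPow q f)
    (x : GL (Fin n) K) (gs : K[X]) (hsq : Squarefree gs)
    (hx : aeval (x : Matrix (Fin n) (Fin n) K) gs = 0) (μ : K) (hμ : μ ≠ 0)
    (hs : ustar (q := q) ((μ • (x : Matrix (Fin n) (Fin n) K)).charpoly)
      = (μ • (x : Matrix (Fin n) (Fin n) K)).charpoly) :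
    ∃ g ∈ Cfsg.Geo.specialLinear (Fin n) K, g⁻¹ * x * g ∈ similarityGroup f := by
  obtain ⟨h, hh⟩ := suf_gl p hn hf x gs hsq hx μ hμ hs
  exact sl_adjust _ x h hh (fun c hc => exists_centralizer_det hn _ gs hsq hx c hc)

end Cfsg.Agent.Helper8.SLU
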