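import Cfsg.Agent.Helper8.SLUb
import Cfsg.Agent.Helper8.PGUrSplit

set_option autoImplicit false
set_option linter.unusedSectionVars false

/-!
Products of linear factors and the conjugate reciprocal; characteristic polynomials that split.
-/

namespace Cfsg.Agent.Helper8.SLU

open Polynomial Matrix Cfsg Cfsg.Geo Cfsg.Agent.Helper8.GUOrder Cfsg.Agent.Helper8.AutSU
  Cfsg.Agent.Helper8.PSUSing Cfsg.Agent.Helper8.SUSemi Cfsg.Agent.Helper8.RegSU
  Cfsg.Agent.Helper8.SemiS Cfsg.Agent.Helper8.PGLr

variable {K : Type*} [Field K] [Fintype K] {q : ℕ} [hF : Fact (Fintype.card K = q ^ 2)] {n : ℕ}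

theorem ustar_one : ustar (q := q) (1 : K[X]) = 1 := by
  unfold ustar
  have h1 : (1 : K[X]) = C (1 : K) := (map_one C).symm
  rw [Polynomial.coeff_one_zero, one_pow, inv_one, map_one, one_mul]
  conv_lhs => rw [h1, sig_C, one_pow, map_one]

theorem ustar_X_pow_sub_C' (j : ℕ) (hj : 0 < j) (c : K) (hc0 : c ≠ 0) :
    ustar (q := q) (X ^ j - C c : K[X]) = X ^ j - C (c ^ q)⁻¹ := by
  have h0 : (X ^ j - C c : K[X]).coeff 0 = -c := by
    rw [coeff_sub, coeff_X_pow, coeff_C_zero, if_neg hj.ne, zero_sub]
  have hP0 : (X ^ j - C c : K[X]).coeff 0 ≠ 0 := by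
    rw [h0]
    exact neg_ne_zero.mpr hc0
  have hm := ustar_monic (q := q) hP0
  have e : ustar (q := q) (X ^ j - C c : K[X]) =
      C (((-c) ^ q)⁻¹ * -(c ^ q)) * (X ^ j - C (c ^ q)⁻¹) := by
    unfold ustar
    rw [h0, sig_X_pow_sub_C j c hc0, ← mul_assoc, ← C_mul]
  have hk : ((-c) ^ q)⁻¹ * -(c ^ q) = 1 := by
    have h1 := hm
    rw [e, Monic, leadingCoeff_mul, leadingCoeff_C, (monic_X_pow_sub_C _ hj.ne').leadingCoeff,
      mul_one] at h1
    exact h1
  rw [e, hk, map_one, one_mul]

theorem ustar_X_sub_C {w : K} (hw : w ≠ 0) :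
    ustar (q := q) (X - C w : K[X]) = X - C (w ^ q)⁻¹ := by
  have := ustar_X_pow_sub_C' (q := q) 1 one_pos w hw
  rwa [pow_one] at this

/-- the product of the linear factors with the given roots -/
noncomputable def plin (s : Multiset K) : K[X] := (s.map (fun w => X - C w)).prod

theorem plin_zero : plin (0 : Multiset K) = 1 := by
  unfold plin
  rw [Multiset.map_zero, Multiset.prod_zero]

theorem plin_cons (a : K) (s : Multiset K) : plin (a ::ₘ s) = (X - C a) * plin s := by
  unfold plin
  rw [Multiset.map_cons, Multiset.prod_cons]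

theorem plin_monic (s : Multiset K) : (plin s).Monic := by
  unfold plin
  apply Polynomial.monic_multiset_prod_of_monic
  intro w _
  exact monic_X_sub_C w

theorem plin_natDegree (s : Multiset K) : (plin s).natDegree = Multiset.card s := by
  unfold plin
  rw [Polynomial.natDegree_multiset_prod_of_monic]
  · rw [Multiset.map_map]
    simp
  · intro f hf
    rw [Multiset.mem_map] at hf
    obtain ⟨w, _, rfl⟩ := hf
    exact monic_X_sub_C w

theorem roots_plin (s : Multiset K) : (plin s).roots = s :=
  Polynomial.roots_multiset_prod_X_sub_C s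

theorem plin_injective {s t : Multiset K} (h : plin s = plin t) : s = t := by
  rw [← roots_plin s, h, roots_plin]

theorem plin_splits (s : Multiset K) : (plin s).Splits := by
  unfold plin
  apply Splits.multisetProd
  intro f hf
  rw [Multiset.mem_map] at hf
  obtain ⟨w, _, rfl⟩ := hf
  exact Splits.X_sub_C w

theorem ustar_plin (s : Multiset K) (h0 : ∀ w ∈ s, w ≠ 0) :
    ustar (q := q) (plin s) = plin (s.map (fun w => (w ^ q)⁻¹)) := by
  induction s using Multiset.induction_on with
  | empty => rw [Multiset.map_zero, plin_zero, ustar_one]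
  | cons a s ih =>
    rw [plin_cons, ustar_mul, Multiset.map_cons, plin_cons,
      ih (fun w hw => h0 w (Multiset.mem_cons_of_mem hw)),
      ustar_X_sub_C (h0 a (Multiset.mem_cons_self a s))]

theorem ustar_plin_eq_iff (s : Multiset K) (h0 : ∀ w ∈ s, w ≠ 0) :
    ustar (q := q) (plin s) = plin s ↔ s.map (fun w => (w ^ q)⁻¹) = s := by
  rw [ustar_plin s h0]
  constructor
  · exact plin_injective
  · intro h; rw [h]

theorem plin_comp (μ : K) (hμ : μ ≠ 0) (s : Multiset K) :
    (plin s).comp (C μ⁻¹ * X) = C (μ⁻¹ ^ Multiset.card s) * plin (s.map (fun w => μ * w)) := by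
  induction s using Multiset.induction_on with
  | empty => simp [plin_zero]
  | cons a s ih =>
    rw [plin_cons, Polynomial.mul_comp, ih, Multiset.map_cons, plin_cons, Multiset.card_cons,
      pow_succ, C_mul]
    have : (X - C a : K[X]).comp (C μ⁻¹ * X) = C μ⁻¹ * (X - C (μ * a)) := by
      rw [Polynomial.sub_comp, Polynomial.X_comp, Polynomial.C_comp, mul_sub, ← C_mul, ← mul_assoc,
        inv_mul_cancel₀ hμ, one_mul]
    rw [this]
    ring

theorem charpoly_smul_plin (μ : K) (hμ : μ ≠ 0) (A : Matrix (Fin n) (Fin n) K) (s : Multiset K)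
    (hA : A.charpoly = plin s) : (μ • A).charpoly = plin (s.map (fun w => μ * w)) := by
  have hcard : Multiset.card s = n := by
    rw [← plin_natDegree, ← hA, Matrix.charpoly_natDegree_eq_dim, Fintype.card_fin]
  rw [charpoly_smul μ hμ, hA, plin_comp μ hμ, hcard, ← mul_assoc, ← C_mul, ← mul_pow,
    mul_inv_cancel₀ hμ, one_pow, map_one, one_mul]

theorem charpoly_diagonal_plin (d : Fin n → K) :
    (Matrix.diagonal d).charpoly = plin ((Finset.univ : Finset (Fin n)).val.map d) := by
  rw [Matrix.charpoly_diagonal]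
  unfold plin
  rw [Multiset.map_map]
  rfl

theorem det_of_plin (A : Matrix (Fin n) (Fin n) K) (s : Multiset K) (hA : A.charpoly = plin s) :
    A.det = s.prod := by
  rw [Matrix.det_eq_prod_roots_charpoly_of_splits (by rw [hA]; exact plin_splits s), hA, roots_plin]

/-- a semisimple matrix killed by a split polynomial has a split characteristic polynomial. -/
theorem split_charpoly (A : Matrix (Fin n) (Fin n) K) (gs : K[X]) (hsq : Squarefree gs)
    (hA : aeval A gs = 0) (hsp : gs.Splits) :
    ∃ W : Multiset K, (∀ w ∈ W, gs.IsRoot w) ∧ A.charpoly = plin W := by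
  obtain ⟨d, P, hP, hdvd, hcp⟩ := exists_family_of_matrix A gs hsq hA
  have hgs0 : gs ≠ 0 := hsq.ne_zero
  have hlin : ∀ i, ∃ w : K, P i = X - C w := by
    intro i
    have h1 : (P i).natDegree ≤ 1 :=
      Splits.natDegree_le_one_of_irreducible (Splits.of_dvd hsp hgs0 (hdvd i)) (hP i).2
    have h2 : (P i).natDegree ≠ 0 := by
      intro h
      have := (hP i).1.natDegree_eq_zero.mp h
      exact (hP i).2.not_isUnit (this ▸ isUnit_one)
    have h3 : (P i).natDegree = 1 := by omega
    have h4 := Polynomial.eq_X_add_C_of_natDegree_le_one h1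
    rw [show (P i).coeff 1 = 1 by
      have := (hP i).1
      rw [Monic, leadingCoeff, h3] at this
      exact this, map_one, one_mul] at h4
    exact ⟨-(P i).coeff 0, by rw [C_neg, sub_neg_eq_add]; exact h4⟩
  choose w hw using hlin
  refine ⟨(Finset.univ : Finset (Fin d)).val.map w, ?_, ?_⟩
  · intro v hv
    rw [Multiset.mem_map] at hv
    obtain ⟨i, _, rfl⟩ := hv
    have := hdvd i
    rw [hw i] at this
    exact Polynomial.dvd_iff_isRoot.mp this
  · rw [hcp]
    unfold plin
    rw [Multiset.map_map]
    show ∏ i, P i = _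
    rw [Finset.prod_eq_multiset_prod]
    congr 1
    apply Multiset.map_congr rfl
    intro i _
    exact hw i

end Cfsg.Agent.Helper8.SLU
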