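import Cfsg.Agent.Helper8.SLUa
import Cfsg.Agent.Helper8.SUCenter
import Cfsg.Agent.Helper7.LinearCard

set_option autoImplicit false
set_option linter.unusedSectionVars false

/-!
The index of the unitary-type subgroup in the special linear group: a prime different from the
characteristic dividing it divides some `q ^ j + (-1) ^ j` with `2 ≤ j ≤ n`.
-/

namespace Cfsg.Agent.Helper8.SLU

open Polynomial Matrix Cfsg Cfsg.Geo Cfsg.Agent.Helper8.GUOrder Cfsg.Agent.Helper8.AutSU
  Cfsg.Agent.Helper8.PSUSing Cfsg.Agent.Helper8.SUCenter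

variable {K : Type*} [Field K] [Fintype K] {q : ℕ} [hF : Fact (Fintype.card K = q ^ 2)] {n : ℕ}

theorem prod_gl' (Q d : ℕ) :
    ∏ i : Fin d, (Q ^ d - Q ^ (i : ℕ)) =
      (∏ i ∈ Finset.range d, Q ^ i) * ∏ i ∈ Finset.range d, (Q ^ (i + 1) - 1) := by
  rw [Fin.prod_univ_eq_prod_range (fun i => Q ^ d - Q ^ i) d,
    ← Finset.prod_range_reflect (fun j => Q ^ (j + 1) - 1) d, ← Finset.prod_mul_distrib]
  apply Finset.prod_congr rfl
  intro i hi
  rw [Finset.mem_range] at hi
  have e : d - 1 - i + 1 = d - i := by omega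
  rw [e, Nat.mul_sub, mul_one, ← pow_add, Nat.add_sub_cancel' hi.le]

/-- the twisted factors -/
def tT (q i : ℕ) : ℕ := if Even i then q ^ (i + 1) + 1 else q ^ (i + 1) - 1

/-- the complementary twisted factors -/
def tT' (q i : ℕ) : ℕ := if Even i then q ^ (i + 1) - 1 else q ^ (i + 1) + 1

theorem tT_mul_tT' (q i : ℕ) (hq : 1 ≤ q) : tT q i * tT' q i = (q ^ 2) ^ (i + 1) - 1 := by
  have h1 : 1 ≤ q ^ (i + 1) := Nat.one_le_pow _ _ hq
  have h2 : (q ^ 2) ^ (i + 1) = q ^ (i + 1) * q ^ (i + 1) := by rw [← pow_mul, mul_comm, pow_mul, sq]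
  rw [h2]
  unfold tT tT'
  generalize q ^ (i + 1) = a at h1
  obtain ⟨b, rfl⟩ : ∃ b, a = b + 1 := ⟨a - 1, by omega⟩
  have e1 : (b + 1) * (b + 1) = (b + 1 + 1) * b + 1 := by ring
  have e2 : (b + 1) * (b + 1) = b * (b + 1 + 1) + 1 := by ring
  split_ifs
  · rw [Nat.add_sub_cancel, e1, Nat.add_sub_cancel]
  · rw [Nat.add_sub_cancel, e2, Nat.add_sub_cancel]

theorem card_GL_eq (hq : 1 ≤ q) :
    Nat.card (GL (Fin n) K) = (q ^ (n * (n - 1) / 2)) ^ 2 *
      ((∏ i ∈ Finset.range n, tT q i) * ∏ i ∈ Finset.range n, tT' q i) := by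
  rw [Matrix.card_GL_field, hF.out, prod_gl']
  congr 1
  · rw [Finset.prod_pow_eq_pow_sum, Finset.sum_range_id, ← pow_mul, ← pow_mul]
    congr 1
    have := Nat.even_mul_pred_self n
    obtain ⟨k, hk⟩ := this
    rw [hk]
    omega
  · rw [← Finset.prod_mul_distrib]
    apply Finset.prod_congr rfl
    intro i _
    rw [tT_mul_tT' q i hq]

theorem tT_pos (hq : 2 ≤ q) (i : ℕ) : 0 < tT q i := by
  have h1 : 2 ≤ q ^ (i + 1) := by
    calc 2 ≤ q := hq
      _ = q ^ 1 := (pow_one q).symm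
      _ ≤ q ^ (i + 1) := Nat.pow_le_pow_right (by omega) (by omega)
  unfold tT
  split_ifs <;> omega

/-- a conjugate of the special unitary group inside the similarity group. -/
theorem exists_su_subgroup {f : (Fin n → K) → (Fin n → K) → K} (hf : IsUnitaryFormPow q f) :
    ∃ C : Subgroup (GL (Fin n) K), C ≤ similarityGroup f ∧
      C ≤ Cfsg.Geo.specialLinear (Fin n) K ∧ Nat.card C = Nat.card (SU n K q) := by
  obtain ⟨P, Pi, h1, h2, hmodel⟩ := exists_model hf
  let PG : GL (Fin n) K := ⟨P, Pi, h1, h2⟩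
  let ψ : SU n K q →* GL (Fin n) K :=
    (MulAut.conj PG⁻¹).toMonoidHom.comp
      ((Matrix.SpecialLinearGroup.toGL : Matrix.SpecialLinearGroup (Fin n) K →* GL (Fin n) K).comp
        (SU n K q).subtype)
  have hψ : ∀ s : SU n K q, ψ s = PG⁻¹ * Matrix.SpecialLinearGroup.toGL s.1 * PG := by
    intro s
    show MulAut.conj PG⁻¹ (Matrix.SpecialLinearGroup.toGL s.1) = _
    rw [MulAut.conj_apply, inv_inv]
  have hinj : Function.Injective ψ := by
    intro a b hab
    rw [hψ, hψ] at hab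
    have := mul_left_cancel (mul_right_cancel hab)
    exact Subtype.ext (Matrix.SpecialLinearGroup.toGL_injective this)
  refine ⟨ψ.range, ?_, ?_, ?_⟩
  · rintro _ ⟨s, rfl⟩
    rw [hmodel]
    refine ⟨1, one_ne_zero, ?_⟩
    have hval : P * ((ψ s : GL (Fin n) K) : Matrix (Fin n) (Fin n) K) * Pi
        = (s.1 : Matrix (Fin n) (Fin n) K) := by
      rw [hψ, Units.val_mul, Units.val_mul]
      show P * (Pi * (s.1 : Matrix (Fin n) (Fin n) K) * P) * Pi = _
      calc P * (Pi * (s.1 : Matrix (Fin n) (Fin n) K) * P) * Pi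
          = (P * Pi) * (s.1 : Matrix (Fin n) (Fin n) K) * (P * Pi) := by
            simp only [Matrix.mul_assoc]
        _ = _ := by rw [h1, Matrix.one_mul, Matrix.mul_one]
    rw [hval, one_smul]
    exact (unitary_iff_st _).mp ((mem_SU_iff hF.out s.1).mp s.2)
  · rintro _ ⟨s, rfl⟩
    unfold Cfsg.Geo.specialLinear
    rw [MonoidHom.mem_ker, hψ, map_mul, map_mul, map_inv, mul_comm, ← mul_assoc, mul_inv_cancel,
      one_mul]
    apply Units.ext
    rw [Matrix.GeneralLinearGroup.val_det_apply, Units.val_one]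
    exact s.1.2
  · exact (Nat.card_congr (MonoidHom.ofInjective hinj).toEquiv).symm

/-- **the index**: a prime different from the characteristic that divides the index of the
unitary-type subgroup divides one of the complementary twisted factors. -/
theorem exists_tT'_of_index (p : ℕ) [Fact p.Prime] [CharP K p] (hn : 1 ≤ n)
    {f : (Fin n → K) → (Fin n → K) → K} (hf : IsUnitaryFormPow q f) (r : ℕ) (hr : r.Prime)
    (hrp : r ≠ p)
    (hΩ : r ∣ (similarityGroup f).relIndex (Cfsg.Geo.specialLinear (Fin n) K)) :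
    ∃ i, 1 ≤ i ∧ i < n ∧ r ∣ tT' q i := by
  have hp : p.Prime := Fact.out
  have hq := two_le_q hF.out (K := K)
  obtain ⟨C, hC1, hC2, hC3⟩ := exists_su_subgroup hf
  have hd1 : r ∣ C.relIndex (Cfsg.Geo.specialLinear (Fin n) K) :=
    dvd_trans hΩ (Subgroup.relIndex_dvd_of_le_left _ hC1)
  have hmul : C.relIndex (Cfsg.Geo.specialLinear (Fin n) K) * Nat.card C
      = Nat.card (Cfsg.Geo.specialLinear (Fin n) K) := by
    have := Subgroup.relIndex_mul_relIndex ⊥ C (Cfsg.Geo.specialLinear (Fin n) K) bot_le hC2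
    rw [Subgroup.relIndex_bot_left, Subgroup.relIndex_bot_left] at this
    rw [mul_comm]
    exact this
  obtain ⟨m, hm⟩ := hd1
  rw [hm, hC3] at hmul
  have : Nonempty (Fin n) := ⟨⟨0, hn⟩⟩
  have hSL : (Fintype.card K - 1) * Nat.card (Cfsg.Geo.specialLinear (Fin n) K)
      = Nat.card (GL (Fin n) K) := by
    have := Cfsg.Agent.Helper7.card_units_mul_card_SL (n := Fin n) (F := K)
    rw [Cfsg.Agent.Helper7.card_SL_eq_card_ker_det] at this
    exact this
  have hSU := card_SU hF.out hn (K := K)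
  rw [card_GU hF.out] at hSU
  rw [card_GL_eq (q := q) (by omega), ← hmul, hF.out] at hSL
  -- the arithmetic
  obtain ⟨k, rfl⟩ : ∃ k, n = k + 1 := ⟨n - 1, by omega⟩
  have hT'0 : tT' q 0 = q - 1 := by
    unfold tT'
    rw [if_pos (by decide), zero_add, pow_one]
  rw [Finset.prod_range_succ' (fun i => tT' q i), hT'0] at hSL
  have hTT : ∏ i ∈ Finset.range (k + 1), tT q i
      = ∏ i ∈ Finset.range (k + 1), (if Even i then q ^ (i + 1) + 1 else q ^ (i + 1) - 1) := rfl
  rw [← hTT] at hSU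
  set e := q ^ ((k + 1) * (k + 1 - 1) / 2) with he
  set A := ∏ i ∈ Finset.range (k + 1), tT q i with hA
  set B := ∏ i ∈ Finset.range k, tT' q (i + 1) with hB
  have hApos : 0 < A := Finset.prod_pos fun i _ => tT_pos hq i
  have hepos : 0 < e := Nat.pos_of_ne_zero (pow_ne_zero _ (by omega))
  have hQ : q ^ 2 - 1 = (q - 1) * (q + 1) := by
    obtain ⟨b, rfl⟩ : ∃ b, q = b + 1 := ⟨q - 1, by omega⟩
    rw [Nat.add_sub_cancel]
    have : (b + 1) ^ 2 = b * (b + 1 + 1) + 1 := by ring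
    rw [this, Nat.add_sub_cancel]
  rw [hQ] at hSL
  have key : r * m * ((q - 1) * (q + 1) * (e * A)) = e * B * ((q - 1) * (q + 1) * (e * A)) := by
    calc r * m * ((q - 1) * (q + 1) * (e * A))
        = (q - 1) * (q + 1) * (r * m * ((q + 1) * Nat.card (SU (k + 1) K q)))
            * 1 := by rw [hSU]; ring
      _ = (q + 1) * ((q - 1) * (q + 1) * (r * m * Nat.card (SU (k + 1) K q))) := by ring
      _ = (q + 1) * (e ^ 2 * (A * (B * (q - 1)))) := by rw [hSL]
      _ = e * B * ((q - 1) * (q + 1) * (e * A)) := by ring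
  have hpos : 0 < (q - 1) * (q + 1) * (e * A) := by
    apply Nat.mul_pos (Nat.mul_pos (by omega) (by omega)) (Nat.mul_pos hepos hApos)
  have key2 : r * m = e * B := Nat.eq_of_mul_eq_mul_right hpos key
  have hrq : ¬ r ∣ q := by
    intro h
    have h1 : r ∣ q ^ 2 := dvd_pow h (by norm_num)
    rw [← hF.out] at h1
    obtain ⟨j, hj⟩ := FiniteField.card K p
    rw [hj.2] at h1
    exact hrp ((Nat.prime_dvd_prime_iff_eq hr hp).mp (hr.dvd_of_dvd_pow h1))
  have h2 : r ∣ e * B := Dvd.intro _ key2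
  rcases (Nat.Prime.dvd_mul hr).mp h2 with h3 | h3
  · exact absurd (hr.dvd_of_dvd_pow h3) hrq
  · rw [hB, Prime.dvd_finsetProd_iff hr.prime] at h3
    obtain ⟨i, hi, hri⟩ := h3
    rw [Finset.mem_range] at hi
    exact ⟨i + 1, by omega, by omega, hri⟩

end Cfsg.Agent.Helper8.SLU
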