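import Cfsg.Agent.Helper8.SLUc
import Cfsg.Agent.Helper8.SemiSFam

set_option autoImplicit false
set_option linter.unusedSectionVars false

/-!
Derangements of odd prime order `r` when `r` does not divide `q ^ 2 - 1`: one irreducible block.
-/

namespace Cfsg.Agent.Helper8.SLU

open Polynomial Matrix Cfsg Cfsg.Geo Cfsg.Agent.Helper8.GUOrder Cfsg.Agent.Helper8.AutSU
  Cfsg.Agent.Helper8.PSUSing Cfsg.Agent.Helper8.SUSemi Cfsg.Agent.Helper8.RegSU
  Cfsg.Agent.Helper8.SemiS Cfsg.Agent.Helper8.PGLr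

variable {K : Type*} [Field K] [Fintype K] {q : ℕ} [hF : Fact (Fintype.card K = q ^ 2)] {n : ℕ}

theorem exists_q_eq_pow (p : ℕ) [Fact p.Prime] [CharP K p] : ∃ j : ℕ, q = p ^ j := by
  have hp : p.Prime := Fact.out
  obtain ⟨m, _, hm⟩ := FiniteField.card K p
  rw [hF.out] at hm
  have h1 : q ∣ p ^ (m : ℕ) := by
    rw [← hm]
    exact Dvd.intro_left (q ^ 1) (by ring)
  obtain ⟨j, _, hj⟩ := (Nat.dvd_prime_pow hp).mp h1
  exact ⟨j, hj⟩

/-- **root transfer**: the conjugate reciprocal has the roots `(λ ^ q)⁻¹`, in any extension. -/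
theorem aeval_ustar_root (p : ℕ) [Fact p.Prime] [CharP K p] {L : Type*} [Field L] [Algebra K L]
    (P : K[X]) (l : L) (hl : l ≠ 0) (h : aeval l P = 0) :
    aeval ((l ^ q)⁻¹) (ustar (q := q) P) = 0 := by
  obtain ⟨j, hj⟩ := exists_q_eq_pow (K := K) (q := q) p
  have : CharP L p := charP_of_injective_algebraMap (algebraMap K L).injective p
  unfold ustar sig
  rw [map_mul, aeval_C]
  have hlq : l ^ q ≠ 0 := pow_ne_zero _ hl
  have key : eval₂ (algebraMap K L) ((l ^ q)⁻¹) (P.map (frobq K q)).reverse = 0 := by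
    let _ : Invertible (l ^ q) := invertibleOfNonzero hlq
    have h1 := Polynomial.eval₂_reverse_eq_zero_iff (algebraMap K L) (l ^ q) (P.map (frobq K q))
    rw [invOf_eq_inv] at h1
    rw [h1, Polynomial.eval₂_map]
    have hcomp : (algebraMap K L).comp (frobq K q)
        = (iterateFrobenius L p j).comp (algebraMap K L) := by
      ext x
      simp only [RingHom.comp_apply, frobq_apply, iterateFrobenius_def, map_pow, hj]
    rw [hcomp]
    have h2 := Polynomial.hom_eval₂ P (algebraMap K L) (iterateFrobenius L p j) l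
    have h2' : (iterateFrobenius L p j) l = l ^ q := by rw [iterateFrobenius_def, hj]
    rw [h2'] at h2
    rw [← h2]
    have h3 : eval₂ (algebraMap K L) l P = 0 := by
      rw [← Polynomial.aeval_def]; exact h
    rw [h3, map_zero]
  rw [Polynomial.aeval_def, key, mul_zero]

theorem pow_card_sub_one_algebraMap {L : Type*} [Field L] [Algebra K L] (c : K) (hc : c ≠ 0) :
    (algebraMap K L c) ^ (q ^ 2 - 1) = 1 := by
  rw [← map_pow, ← hF.out, FiniteField.pow_card_sub_one_eq_one c hc, map_one]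

/-- the arithmetic contradiction: `-q` has even order modulo `r`. -/
theorem zmod_contra (r : ℕ) (hr : r.Prime) (hr2 : r ≠ 2) (j i : ℕ)
    (hj : (-(q : ZMod r)) ^ j = -1) (hi : r ∣ (q ^ 2) ^ i + q) : False := by
  have : Fact r.Prime := ⟨hr⟩
  have h1 : (((q ^ 2) ^ i + q : ℕ) : ZMod r) = 0 := (ZMod.natCast_eq_zero_iff _ _).mpr hi
  push_cast at h1
  have h2 : (-(q : ZMod r)) ^ (2 * i) = -(q : ZMod r) := by
    rw [pow_mul, neg_sq]
    exact eq_neg_of_add_eq_zero_left h1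
  have h3 : ((-(q : ZMod r)) ^ j) ^ (2 * i) = (-(q : ZMod r)) ^ j := by
    rw [← pow_mul, mul_comm, pow_mul, h2]
  rw [hj, pow_mul, neg_one_sq, one_pow] at h3
  have h4 : (2 : ZMod r) = 0 := by
    have : (1 : ZMod r) + 1 = 0 := by
      nth_rewrite 1 [h3]
      ring
    rw [← this]; ring
  have h5 : ((2 : ℕ) : ZMod r) = 0 := by exact_mod_cast h4
  rw [ZMod.natCast_eq_zero_iff] at h5
  exact hr2 ((Nat.prime_dvd_prime_iff_eq hr Nat.prime_two).mp h5)

theorem block_contra {L : Type*} [Field L] [Algebra K L] [Normal K L]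
    (hgal : ∀ φ : L ≃ₐ[K] L, ∃ i : ℕ, ∀ x : L, φ x = x ^ ((q ^ 2) ^ i))
    (r : ℕ) (hr : r.Prime) (hr2 : r ≠ 2)
    (hrq : ¬ r ∣ q) (hrQ : ¬ r ∣ q ^ 2 - 1) (j : ℕ)
    (hj : (-(q : ZMod r)) ^ j = -1)
    (ν : L) (hν0 : ν ≠ 0) (hord : orderOf ν = r) (μ : K) (hμ : μ ≠ 0) (m : ℕ) (κ : L)
    (hκ : κ = (algebraMap K L μ)⁻¹ * (((algebraMap K L μ) * ν) ^ q)⁻¹)
    (hroot : aeval κ (minpoly K ν * (X - C 1) ^ m) = 0) :
    False := by
  have ha0 : algebraMap K L μ ≠ 0 := (_root_.map_ne_zero _).mpr hμ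
  have hc' : ((algebraMap K L (μ * μ ^ q)⁻¹)) = (algebraMap K L μ * algebraMap K L μ ^ q)⁻¹ := by
    rw [map_inv₀, map_mul, map_pow]
  have hκ' : κ * ν ^ q = algebraMap K L (μ * μ ^ q)⁻¹ := by
    rw [hc', hκ, mul_pow]
    have : algebraMap K L μ ^ q ≠ 0 := pow_ne_zero _ ha0
    have : ν ^ q ≠ 0 := pow_ne_zero _ hν0
    field_simp
  have hμμ : (μ * μ ^ q)⁻¹ ≠ 0 := inv_ne_zero (mul_ne_zero hμ (pow_ne_zero _ hμ))
  have hone : (κ * ν ^ q) ^ (q ^ 2 - 1) = 1 := by
    rw [hκ']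
    exact pow_card_sub_one_algebraMap _ hμμ
  have halg : IsAlgebraic K ν := Algebra.IsAlgebraic.isAlgebraic ν
  rw [map_mul, mul_eq_zero] at hroot
  rcases hroot with h | h
  · obtain ⟨φ, hφ⟩ := minpoly.exists_algEquiv_of_root' halg h
    obtain ⟨i, hi⟩ := hgal φ
    rw [hi] at hφ
    rw [← hφ, ← pow_add, ← pow_mul] at hone
    have h1 : r ∣ ((q ^ 2) ^ i + q) * (q ^ 2 - 1) := by
      rw [← hord]
      exact orderOf_dvd_of_pow_eq_one hone
    rcases (Nat.Prime.dvd_mul hr).mp h1 with h2 | h2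
    · exact zmod_contra r hr hr2 j i hj h2
    · exact hrQ h2
  · rw [map_pow, map_sub, aeval_X, aeval_C, map_one] at h
    have h1 : κ - 1 = 0 := pow_eq_zero_iff (M₀ := L) (n := m) (by
      rintro rfl
      rw [pow_zero] at h
      exact one_ne_zero h) |>.mp h
    have h2 : κ = 1 := sub_eq_zero.mp h1
    rw [h2, one_mul, ← pow_mul] at hone
    have h3 : r ∣ q * (q ^ 2 - 1) := by
      rw [← hord]
      exact orderOf_dvd_of_pow_eq_one hone
    rcases (Nat.Prime.dvd_mul hr).mp h3 with h4 | h4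
    · exact hrq h4
    · exact hrQ h4

/-- an extension of degree `j` with cyclic Galois group generated by the Frobenius map. -/
theorem exists_ext (p : ℕ) [Fact p.Prime] [CharP K p] (j : ℕ) (hj : 1 ≤ j) :
    ∃ (L : Type) (_ : Field L) (_ : Algebra K L) (_ : Finite L), Normal K L ∧
      Module.finrank K L = j ∧ Nat.card L = (q ^ 2) ^ j ∧
      ∀ φ : L ≃ₐ[K] L, ∃ i : ℕ, ∀ x : L, φ x = x ^ ((q ^ 2) ^ i) := by
  have : NeZero j := ⟨by omega⟩
  refine ⟨FiniteField.Extension K p j, inferInstance, inferInstance, inferInstance,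
    inferInstance, FiniteField.finrank_extension K p j, ?_, ?_⟩
  · rw [FiniteField.natCard_extension, Nat.card_eq_fintype_card, hF.out]
  · intro φ
    obtain ⟨i, _, hi⟩ := FiniteField.Extension.exists_frob_pow_eq K p j φ
    refine ⟨i, fun x => ?_⟩
    rw [← hi, FiniteField.Extension.frob_iterate_apply, Nat.card_eq_fintype_card, hF.out]

theorem dvd_pow_sub_one_of_neg_pow (r : ℕ) [Fact r.Prime] (j : ℕ)
    (hj : (-(q : ZMod r)) ^ j = -1) (hq : 1 ≤ q) : r ∣ (q ^ 2) ^ j - 1 := by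
  have h1 : (((q ^ 2) ^ j : ℕ) : ZMod r) = ((1 : ℕ) : ZMod r) := by
    push_cast
    rw [← neg_sq, ← pow_mul, mul_comm, pow_mul, hj, neg_one_sq]
  have h2 := (ZMod.natCast_eq_natCast_iff _ _ _).mp h1
  exact (Nat.modEq_iff_dvd' (Nat.one_le_pow _ _ (Nat.one_le_pow _ _ hq))).mp h2.symm

/-- **derangements with one irreducible block.** -/
theorem derangement_block (p : ℕ) [Fact p.Prime] [CharP K p] (hn : 1 ≤ n)
    {f : (Fin n → K) → (Fin n → K) → K} (hf : IsUnitaryFormPow q f)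
    (r : ℕ) (hr : r.Prime) (hr2 : r ≠ 2) (hrp : r ≠ p) (hrQ : ¬ r ∣ q ^ 2 - 1)
    (j : ℕ) (hj1 : 1 ≤ j) (hjn : j ≤ n) (hj : (-(q : ZMod r)) ^ j = -1) :
    ∃ x : GL (Fin n) K, x ∈ Cfsg.Geo.specialLinear (Fin n) K ∧
      (x : Matrix (Fin n) (Fin n) K) ^ r = 1 ∧
      (∀ z : K, (x : Matrix (Fin n) (Fin n) K) ≠ z • 1) ∧
      ∀ g : GL (Fin n) K, g⁻¹ * x * g ∉ similarityGroup f := by
  have hp : p.Prime := Fact.out
  have : Fact r.Prime := ⟨hr⟩
  have hq := two_le_q hF.out (K := K)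
  have hrq : ¬ r ∣ q := by
    intro h
    have h1 : r ∣ q ^ 2 := dvd_pow h (by norm_num)
    rw [← hF.out] at h1
    obtain ⟨e, he⟩ := FiniteField.card K p
    rw [he.2] at h1
    exact hrp ((Nat.prime_dvd_prime_iff_eq hr hp).mp (hr.dvd_of_dvd_pow h1))
  obtain ⟨L, _, _, _, hnorm, hfin, hcard, hgal⟩ := exists_ext (K := K) (q := q) p j hj1
  -- an element of order `r`
  have hdvd : r ∣ Nat.card Lˣ := by
    rw [Nat.card_units, hcard]
    exact dvd_pow_sub_one_of_neg_pow r j hj (by omega)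
  obtain ⟨ν, hν⟩ := exists_prime_orderOf_dvd_card' r hdvd
  have hord : orderOf (ν : L) = r := by rw [orderOf_units, hν]
  have hν0 : (ν : L) ≠ 0 := ν.ne_zero
  have hνr : (ν : L) ^ r = 1 := by rw [← hord]; exact pow_orderOf_eq_one _
  have hν1 : (ν : L) ≠ 1 := by
    intro h
    rw [h, orderOf_one] at hord
    exact hr.one_lt.ne hord
  have hint : IsIntegral K (ν : L) := Algebra.IsIntegral.isIntegral _
  set M := minpoly K (ν : L) with hM
  have hMirr : Irreducible M := minpoly.irreducible hint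
  have hMmon : M.Monic := minpoly.monic hint
  have hMdeg : M.natDegree ≤ j := by
    rw [← hfin]
    exact minpoly.natDegree_le _
  have hMdvd : M ∣ (X ^ r - C 1 : K[X]) := by
    apply minpoly.dvd
    rw [map_sub, map_pow, aeval_X, aeval_C, map_one, hνr, sub_self]
  have hM1 : ¬ (X - C 1 : K[X]) ∣ M := by
    intro h
    have h1 := (irreducible_X_sub_C (1 : K)).dvd_symm hMirr h
    have h2 : aeval (ν : L) (X - C 1 : K[X]) = 0 := by
      obtain ⟨R, hR⟩ := h1
      rw [hR, map_mul, minpoly.aeval, zero_mul]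
    rw [map_sub, aeval_X, aeval_C, map_one, sub_eq_zero] at h2
    exact hν1 h2
  -- the matrix
  set d := M.natDegree with hd
  let P : Fin ((n - d) + 1) → K[X] := Fin.cons M (fun _ => X - C 1)
  have hP : ∀ i, (P i).Monic := by
    intro i
    refine Fin.cases ?_ (fun i => ?_) i
    · exact hMmon
    · exact monic_X_sub_C 1
  have hPsum : ∑ i, (P i).natDegree = n := by
    rw [Fin.sum_univ_succ]
    simp only [P, Fin.cons_zero, Fin.cons_succ, natDegree_X_sub_C, Finset.sum_const,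
      Finset.card_univ, Fintype.card_fin, smul_eq_mul, mul_one]
    omega
  have hPdvd : ∀ i, P i ∣ (X ^ r - C 1 : K[X]) := by
    intro i
    refine Fin.cases ?_ (fun i => ?_) i
    · exact hMdvd
    · show (X - C 1 : K[X]) ∣ X ^ r - C 1
      rw [Polynomial.dvd_iff_isRoot]
      simp
  obtain ⟨A, hAc, hAr⟩ := exists_matrix_of_family P hP n hPsum _ hPdvd
  have hAc' : A.charpoly = M * (X - C 1) ^ (n - d) := by
    rw [hAc, Fin.prod_univ_succ]
    simp only [P, Fin.cons_zero, Fin.cons_succ, Finset.prod_const, Finset.card_univ,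
      Fintype.card_fin]
  rw [aeval_X_pow_sub_C, one_smul, sub_eq_zero] at hAr
  have hr1 : 1 ≤ r := hr.one_lt.le
  have hAA : A * A ^ (r - 1) = 1 := by
    rw [← pow_succ', Nat.sub_add_cancel hr1, hAr]
  let x : GL (Fin n) K := ⟨A, A ^ (r - 1), hAA, mul_eq_one_comm.mp hAA⟩
  have hdet : A.det = 1 := by
    have h1 : A.det ^ r = 1 := by rw [← Matrix.det_pow, hAr, Matrix.det_one]
    have h0 : A.det ≠ 0 := by
      intro h
      rw [h, zero_pow hr.ne_zero] at h1
      exact zero_ne_one h1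
    have h2 : A.det ^ (q ^ 2 - 1) = 1 := by
      rw [← hF.out]
      exact FiniteField.pow_card_sub_one_eq_one _ h0
    have h3 := pow_gcd_eq_one.mpr ⟨h1, h2⟩
    have h4 : Nat.gcd r (q ^ 2 - 1) = 1 := (Nat.Prime.coprime_iff_not_dvd hr).mpr hrQ
    rw [h4, pow_one] at h3
    exact h3
  refine ⟨x, ?_, hAr, ?_, ?_⟩
  · unfold Cfsg.Geo.specialLinear
    rw [MonoidHom.mem_ker]
    apply Units.ext
    rw [Matrix.GeneralLinearGroup.val_det_apply, Units.val_one]
    exact hdet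
  · intro z hz
    change A = z • 1 at hz
    have h1 : z ^ r = 1 := by
      have := hAr
      rw [hz, _root_.smul_pow, one_pow] at this
      have h2 := congrFun (congrFun this ⟨0, hn⟩) ⟨0, hn⟩
      simpa using h2
    have h0 : z ≠ 0 := by
      intro h
      rw [h, zero_pow hr.ne_zero] at h1
      exact zero_ne_one h1
    have h2 : z ^ (q ^ 2 - 1) = 1 := by
      rw [← hF.out]
      exact FiniteField.pow_card_sub_one_eq_one _ h0
    have h3 := pow_gcd_eq_one.mpr ⟨h1, h2⟩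
    have h4 : Nat.gcd r (q ^ 2 - 1) = 1 := (Nat.Prime.coprime_iff_not_dvd hr).mpr hrQ
    rw [h4, pow_one] at h3
    rw [h3, one_smul] at hz
    have h5 : A.charpoly = (X - C 1) ^ n := by
      rw [hz, Matrix.charpoly_one, Fintype.card_fin, map_one]
    have h6 : M ∣ (X - C 1 : K[X]) ^ n := by
      rw [← h5, hAc']
      exact Dvd.intro _ rfl
    have h7 := hMirr.prime.dvd_of_dvd_pow h6
    exact hM1 ((hMirr.dvd_symm (irreducible_X_sub_C (1 : K))) h7)
  · intro g hg
    obtain ⟨μ, hμ, hs⟩ := nec hn hf x g hg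
    change ustar (q := q) ((μ • A).charpoly) = (μ • A).charpoly at hs
    have ha0 : algebraMap K L μ ≠ 0 := (_root_.map_ne_zero _).mpr hμ
    have hl0 : algebraMap K L μ * (ν : L) ≠ 0 := mul_ne_zero ha0 hν0
    have hroot1 : aeval (algebraMap K L μ * (ν : L)) ((μ • A).charpoly) = 0 := by
      rw [charpoly_smul μ hμ, map_mul, aeval_C, aeval_comp, map_mul, aeval_C, aeval_X, map_inv₀,
        inv_mul_cancel_left₀ ha0, hAc', map_mul, minpoly.aeval, zero_mul, mul_zero]
    have hroot2 := aeval_ustar_root (q := q) p _ _ hl0 hroot1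
    rw [hs, charpoly_smul μ hμ, map_mul, aeval_C, aeval_comp, map_mul, aeval_C, aeval_X, map_inv₀,
      hAc'] at hroot2
    have hroot3 := (mul_eq_zero.mp hroot2).resolve_left
      ((_root_.map_ne_zero _).mpr (pow_ne_zero _ hμ))
    exact block_contra hgal r hr hr2 hrq hrQ j hj (ν : L) hν0 hord μ hμ (n - d) _ rfl hroot3

end Cfsg.Agent.Helper8.SLU
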