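import Cfsg.Agent.Helper8.SLUc
import Cfsg.Agent.Helper8.PGLrBasic

set_option autoImplicit false
set_option linter.unusedSectionVars false

/-!
Diagonal derangements with entries in the fixed field of `x ↦ x ^ q`.
-/

namespace Cfsg.Agent.Helper8.SLU

open Polynomial Matrix Cfsg Cfsg.Geo Cfsg.Agent.Helper8.GUOrder Cfsg.Agent.Helper8.AutSU
  Cfsg.Agent.Helper8.PSUSing Cfsg.Agent.Helper8.SUSemi Cfsg.Agent.Helper8.RegSU
  Cfsg.Agent.Helper8.SemiS Cfsg.Agent.Helper8.PGLr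

variable {K : Type*} [Field K] [Fintype K] {q : ℕ} [hF : Fact (Fintype.card K = q ^ 2)] {n : ℕ}

/-- **necessary condition for diagonal matrices over the fixed field**: the multiset of entries
is symmetric under `w ↦ c / w`. -/
theorem nec_diag (hn : 1 ≤ n) {f : (Fin n → K) → (Fin n → K) → K} (hf : IsUnitaryFormPow q f)
    (d : Fin n → K) (hd0 : ∀ i, d i ≠ 0) (hdq : ∀ i, d i ^ q = d i)
    (x g : GL (Fin n) K) (hx : (x : Matrix (Fin n) (Fin n) K) = Matrix.diagonal d)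
    (hg : g⁻¹ * x * g ∈ similarityGroup f) :
    ∃ c : K, c ≠ 0 ∧ ((Finset.univ : Finset (Fin n)).val.map d).map (fun w => c * w⁻¹)
      = (Finset.univ : Finset (Fin n)).val.map d := by
  obtain ⟨μ, hμ, hs⟩ := nec hn hf x g hg
  obtain ⟨S, hS⟩ : ∃ S, S = (Finset.univ : Finset (Fin n)).val.map d := ⟨_, rfl⟩
  rw [← hS]
  have hS0 : ∀ w ∈ S, w ≠ 0 := by
    intro w hw
    rw [hS, Multiset.mem_map] at hw
    obtain ⟨i, _, rfl⟩ := hw
    exact hd0 i
  have hSq : ∀ w ∈ S, w ^ q = w := by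
    intro w hw
    rw [hS, Multiset.mem_map] at hw
    obtain ⟨i, _, rfl⟩ := hw
    exact hdq i
  have hcp : (μ • (x : Matrix (Fin n) (Fin n) K)).charpoly = plin (S.map (fun w => μ * w)) := by
    apply charpoly_smul_plin μ hμ
    rw [hx, charpoly_diagonal_plin, hS]
  rw [hcp, ustar_plin_eq_iff] at hs
  · have hμq : μ ^ q ≠ 0 := pow_ne_zero _ hμ
    refine ⟨μ⁻¹ * (μ ^ q)⁻¹, mul_ne_zero (inv_ne_zero hμ) (inv_ne_zero hμq), ?_⟩
    have h1 := congrArg (Multiset.map (fun w => μ⁻¹ * w)) hs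
    rw [Multiset.map_map, Multiset.map_map, Multiset.map_map] at h1
    have h2 : Multiset.map ((fun w => μ⁻¹ * w) ∘ fun w => μ * w) S = S := by
      conv_rhs => rw [← Multiset.map_id S]
      apply Multiset.map_congr rfl
      intro w _
      simp only [Function.comp_apply, id]
      rw [← mul_assoc, inv_mul_cancel₀ hμ, one_mul]
    rw [h2] at h1
    refine Eq.trans (Multiset.map_congr rfl ?_) h1
    intro w hw
    simp only [Function.comp_apply]
    rw [mul_pow, hSq w hw, _root_.mul_inv, mul_assoc]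
  · intro w hw
    rw [Multiset.mem_map] at hw
    obtain ⟨v, hv, rfl⟩ := hw
    exact mul_ne_zero hμ (hS0 v hv)

/-- a diagonal matrix whose multiset of entries has no symmetry `w ↦ c / w` is a derangement. -/
theorem derangement_of_diag (hn : 1 ≤ n) {f : (Fin n → K) → (Fin n → K) → K}
    (hf : IsUnitaryFormPow q f) (d : Fin n → K) (hd0 : ∀ i, d i ≠ 0) (hdq : ∀ i, d i ^ q = d i)
    (hdet : ∏ i, d i = 1) (z : K) (r : ℕ) (hz : ∀ i, d i ^ r = z) (i j : Fin n) (hij : d i ≠ d j)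
    (hno : ∀ c : K, c ≠ 0 → ((Finset.univ : Finset (Fin n)).val.map d).map (fun w => c * w⁻¹)
      ≠ (Finset.univ : Finset (Fin n)).val.map d) :
    ∃ x : GL (Fin n) K, x ∈ Cfsg.Geo.specialLinear (Fin n) K ∧
      (x : Matrix (Fin n) (Fin n) K) ^ r = z • 1 ∧
      (∀ z : K, (x : Matrix (Fin n) (Fin n) K) ≠ z • 1) ∧
      ∀ g : GL (Fin n) K, g⁻¹ * x * g ∉ similarityGroup f := by
  have h1 : Matrix.diagonal d * Matrix.diagonal (fun i => (d i)⁻¹) = 1 := by
    rw [Matrix.diagonal_mul_diagonal, ← Matrix.diagonal_one]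
    congr 1
    funext i
    exact mul_inv_cancel₀ (hd0 i)
  let x : GL (Fin n) K := ⟨Matrix.diagonal d, Matrix.diagonal (fun i => (d i)⁻¹), h1,
    mul_eq_one_comm.mp h1⟩
  have hxv : (x : Matrix (Fin n) (Fin n) K) = Matrix.diagonal d := rfl
  refine ⟨x, ?_, ?_, ?_, ?_⟩
  · unfold Cfsg.Geo.specialLinear
    rw [MonoidHom.mem_ker]
    apply Units.ext
    rw [Matrix.GeneralLinearGroup.val_det_apply, Units.val_one, hxv, Matrix.det_diagonal, hdet]
  · rw [hxv, Matrix.diagonal_pow]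
    ext a b
    by_cases hab : a = b
    · subst hab
      simp [hz a]
    · simp [Matrix.diagonal_apply_ne _ hab, Matrix.one_apply_ne hab]
  · intro z' hz'
    rw [hxv] at hz'
    have e1 := congrFun (congrFun hz' i) i
    have e2 := congrFun (congrFun hz' j) j
    simp only [Matrix.diagonal_apply_eq, Matrix.smul_apply, Matrix.one_apply_eq, smul_eq_mul,
      mul_one] at e1 e2
    exact hij (e1.trans e2.symm)
  · intro g hg
    obtain ⟨c, hc, hc'⟩ := nec_diag hn hf d hd0 hdq x g hxv hg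
    exact hno c hc hc'

theorem pow_q_eq_self_of_primitiveRoot {ζ : K} {e : ℕ} (hζ : IsPrimitiveRoot ζ e) (he : e ∣ q - 1) :
    ζ ^ q = ζ := by
  have hq := two_le_q hF.out (K := K)
  obtain ⟨t, ht⟩ := he
  have h1 : ζ ^ (q - 1) = 1 := by rw [ht, pow_mul, hζ.pow_eq_one, one_pow]
  have h2 : q = (q - 1) + 1 := by omega
  rw [h2, pow_succ, h1, one_mul]

theorem dvd_card_sub_one_of_dvd {e : ℕ} (he : e ∣ q - 1) : e ∣ Fintype.card K - 1 := by
  have hq := two_le_q hF.out (K := K)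
  rw [hF.out]
  have hQ : q ^ 2 - 1 = (q - 1) * (q + 1) := by
    obtain ⟨b, rfl⟩ : ∃ b, q = b + 1 := ⟨q - 1, by omega⟩
    rw [Nat.add_sub_cancel]
    have : (b + 1) ^ 2 = b * (b + 1 + 1) + 1 := by ring
    rw [this, Nat.add_sub_cancel]
  rw [hQ]
  exact Dvd.dvd.mul_right he _

theorem count_map_inv_smul (c : K) (hc : c ≠ 0) (S : Multiset K)
    [DecidableEq K] (h : S.map (fun w => c * w⁻¹) = S) (a : K) :
    S.count (c * a⁻¹) = S.count a := by
  have hinj : Function.Injective (fun w : K => c * w⁻¹) := by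
    intro u v huv
    exact inv_injective (mul_left_cancel₀ hc huv)
  have := Multiset.count_map_eq_count' (fun w : K => c * w⁻¹) S hinj a
  rw [h] at this
  exact this

/-- **derangement `diag(ω, ω, ω⁻², 1, …, 1)`** in dimension at least `7`. -/
theorem derangement_diag3 {m : ℕ} (hm : 4 ≤ m)
    {f : (Fin (m + 3) → K) → (Fin (m + 3) → K) → K} (hf : IsUnitaryFormPow q f)
    (r : ℕ) (hr : r.Prime) (hr2 : r ≠ 2) (hrq : r ∣ q - 1) :
    ∃ x : GL (Fin (m + 3)) K, x ∈ Cfsg.Geo.specialLinear (Fin (m + 3)) K ∧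
      (x : Matrix (Fin (m + 3)) (Fin (m + 3)) K) ^ r = (1 : K) • 1 ∧
      (∀ z : K, (x : Matrix (Fin (m + 3)) (Fin (m + 3)) K) ≠ z • 1) ∧
      ∀ g : GL (Fin (m + 3)) K, g⁻¹ * x * g ∉ similarityGroup f := by
  classical
  obtain ⟨ω, hω⟩ := exists_primitiveRoot (F := K) r (dvd_card_sub_one_of_dvd hrq)
  have hωq : ω ^ q = ω := pow_q_eq_self_of_primitiveRoot hω hrq
  have hω0 : ω ≠ 0 := hω.ne_zero hr.ne_zero
  have hω1 : ω ≠ 1 := hω.ne_one hr.one_lt
  have hω2 : ω ^ 2 ≠ 1 := by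
    intro h
    have := (hω.pow_eq_one_iff_dvd 2).mp h
    exact hr2 ((Nat.prime_dvd_prime_iff_eq hr Nat.prime_two).mp this)
  have hωr : ω ^ r = 1 := hω.pow_eq_one
  let d : Fin (m + 3) → K := Fin.cons ω (Fin.cons ω (Fin.cons (ω ^ 2)⁻¹ (fun _ => 1)))
  have hdall : ∀ (Q : K → Prop), Q ω → Q (ω ^ 2)⁻¹ → Q 1 → ∀ i, Q (d i) := by
    intro Q h1 h2 h3 i
    refine Fin.cases ?_ (fun i => ?_) i
    · exact h1
    · refine Fin.cases ?_ (fun i => ?_) i
      · exact h1
      · refine Fin.cases ?_ (fun i => ?_) i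
        · exact h2
        · exact h3
  have hS : (Finset.univ : Finset (Fin (m + 3))).val.map d
      = ω ::ₘ ω ::ₘ (ω ^ 2)⁻¹ ::ₘ Multiset.replicate m 1 := by
    rw [Fin.univ_val_map]
    simp only [d, List.ofFn_cons, List.ofFn_const, ← Multiset.cons_coe, Multiset.coe_replicate]
  refine derangement_of_diag (by omega) hf d ?_ ?_ ?_ 1 r ?_ 0
    (Fin.succ (Fin.succ (Fin.succ (⟨0, by omega⟩ : Fin m)))) ?_ ?_
  · exact hdall (· ≠ 0) hω0 (inv_ne_zero (pow_ne_zero _ hω0)) one_ne_zero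
  · refine hdall (fun w => w ^ q = w) hωq ?_ (one_pow _)
    rw [inv_pow, ← pow_mul, mul_comm, pow_mul, hωq]
  · rw [Fin.prod_univ_succ, Fin.prod_univ_succ, Fin.prod_univ_succ]
    simp only [d, Fin.cons_zero, Fin.cons_succ, Finset.prod_const_one, mul_one]
    field_simp
  · refine hdall (fun w => w ^ r = 1) hωr ?_ (one_pow _)
    rw [inv_pow, ← pow_mul, mul_comm, pow_mul, hωr, one_pow, inv_one]
  · simp only [d, Fin.cons_zero, Fin.cons_succ]
    exact hω1
  · intro c hc hcS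
    rw [hS] at hcS
    set S := ω ::ₘ ω ::ₘ (ω ^ 2)⁻¹ ::ₘ Multiset.replicate m (1 : K) with hSdef
    have hS0 : ∀ w ∈ S, w ≠ 0 := by
      intro w hw
      simp only [hSdef, Multiset.mem_cons, Multiset.mem_replicate] at hw
      rcases hw with rfl | rfl | rfl | ⟨_, rfl⟩
      · exact hω0
      · exact hω0
      · exact inv_ne_zero (pow_ne_zero _ hω0)
      · exact one_ne_zero
    have hc1 : c = 1 := by
      by_contra hne
      have h1 := count_map_inv_smul c hc S hcS 1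
      rw [inv_one, mul_one] at h1
      have h2 : 4 ≤ S.count 1 := by
        simp only [hSdef, Multiset.count_cons, Multiset.count_replicate_self]
        omega
      have h3 : S.count c ≤ 3 := by
        simp only [hSdef, Multiset.count_cons, Multiset.count_replicate, if_neg (Ne.symm hne)]
        split_ifs <;> omega
      omega
    have hmem : c * ω⁻¹ ∈ S := by
      have : c * ω⁻¹ ∈ S.map (fun w => c * w⁻¹) :=
        Multiset.mem_map_of_mem (fun w => c * w⁻¹) (Multiset.mem_cons_self ω _)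
      rwa [hcS] at this
    rw [hc1, one_mul] at hmem
    simp only [hSdef, Multiset.mem_cons, Multiset.mem_replicate] at hmem
    rcases hmem with h | h | h | ⟨_, h⟩
    · apply hω2
      rw [sq]
      nth_rewrite 1 [← h]
      exact inv_mul_cancel₀ hω0
    · apply hω2
      rw [sq]
      nth_rewrite 1 [← h]
      exact inv_mul_cancel₀ hω0
    · apply hω1
      have h' := inv_injective h
      have : ω * ω = ω * 1 := by rw [mul_one, ← sq]; exact h'.symm
      exact mul_left_cancel₀ hω0 this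
    · apply hω1
      rw [← inv_inv ω, h, inv_one]

/-- **derangement `diag(θ^(-m), θ, …, θ)`**, `θ` of order `r ^ (b + 1)` where `r ^ (b + 1)` does
not divide the dimension `m + 1`. -/
theorem derangement_diag2 {m : ℕ} (hm : 2 ≤ m)
    {f : (Fin (m + 1) → K) → (Fin (m + 1) → K) → K} (hf : IsUnitaryFormPow q f)
    (r : ℕ) (hr : r.Prime) (hr2 : r ≠ 2) (b : ℕ) (hb : r ^ b ∣ m + 1) (hb' : ¬ r ^ (b + 1) ∣ m + 1)
    (hrq : r ^ (b + 1) ∣ q - 1) :
    ∃ (x : GL (Fin (m + 1)) K) (z : K), x ∈ Cfsg.Geo.specialLinear (Fin (m + 1)) K ∧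
      (x : Matrix (Fin (m + 1)) (Fin (m + 1)) K) ^ r = z • 1 ∧
      (∀ z : K, (x : Matrix (Fin (m + 1)) (Fin (m + 1)) K) ≠ z • 1) ∧
      ∀ g : GL (Fin (m + 1)) K, g⁻¹ * x * g ∉ similarityGroup f := by
  classical
  obtain ⟨θ, hθ⟩ := exists_primitiveRoot (F := K) (r ^ (b + 1)) (dvd_card_sub_one_of_dvd hrq)
  have hθq : θ ^ q = θ := pow_q_eq_self_of_primitiveRoot hθ hrq
  have hpos : 0 < r ^ (b + 1) := pow_pos hr.pos _
  have hθ0 : θ ≠ 0 := hθ.ne_zero hpos.ne'
  have hθn : θ ^ (m + 1) ≠ 1 := by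
    intro h
    exact hb' ((hθ.pow_eq_one_iff_dvd _).mp h)
  have hθnr : θ ^ ((m + 1) * r) = 1 := by
    rw [hθ.pow_eq_one_iff_dvd, pow_succ]
    exact Nat.mul_dvd_mul_right hb r
  have hθm0 : θ ^ m ≠ 0 := pow_ne_zero _ hθ0
  have hne : (θ ^ m)⁻¹ ≠ θ := by
    intro h
    apply hθn
    calc θ ^ (m + 1) = θ ^ m * θ := pow_succ _ _
      _ = θ ^ m * (θ ^ m)⁻¹ := by rw [h]
      _ = 1 := mul_inv_cancel₀ hθm0
  let d : Fin (m + 1) → K := Fin.cons (θ ^ m)⁻¹ (fun _ => θ)
  have hdall : ∀ (Q : K → Prop), Q (θ ^ m)⁻¹ → Q θ → ∀ i, Q (d i) := by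
    intro Q h1 h2 i
    refine Fin.cases ?_ (fun i => ?_) i
    · exact h1
    · exact h2
  have hS : (Finset.univ : Finset (Fin (m + 1))).val.map d
      = (θ ^ m)⁻¹ ::ₘ Multiset.replicate m θ := by
    rw [Fin.univ_val_map]
    simp only [d, List.ofFn_cons, List.ofFn_const, ← Multiset.cons_coe, Multiset.coe_replicate]
  suffices key : ∃ x : GL (Fin (m + 1)) K, x ∈ Cfsg.Geo.specialLinear (Fin (m + 1)) K ∧
      (x : Matrix (Fin (m + 1)) (Fin (m + 1)) K) ^ r = (θ ^ r) • 1 ∧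
      (∀ z : K, (x : Matrix (Fin (m + 1)) (Fin (m + 1)) K) ≠ z • 1) ∧
      ∀ g : GL (Fin (m + 1)) K, g⁻¹ * x * g ∉ similarityGroup f by
    obtain ⟨x, hx1, hx2, hx3, hx4⟩ := key
    exact ⟨x, θ ^ r, hx1, hx2, hx3, hx4⟩
  refine derangement_of_diag (by omega) hf d ?_ ?_ ?_ (θ ^ r) r ?_ 0
    (Fin.succ (⟨0, by omega⟩ : Fin m)) ?_ ?_
  · exact hdall (· ≠ 0) (inv_ne_zero hθm0) hθ0
  · refine hdall (fun w => w ^ q = w) ?_ hθq
    rw [inv_pow, ← pow_mul, mul_comm, pow_mul, hθq]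
  · rw [Fin.prod_univ_succ]
    simp only [d, Fin.cons_zero, Fin.cons_succ, Finset.prod_const, Finset.card_univ,
      Fintype.card_fin]
    exact inv_mul_cancel₀ hθm0
  · refine hdall (fun w => w ^ r = θ ^ r) ?_ rfl
    rw [inv_pow, inv_eq_iff_eq_inv, ← pow_mul]
    apply eq_inv_of_mul_eq_one_left
    rw [← pow_add, ← hθnr]
    congr 1
    ring
  · simp only [d, Fin.cons_zero, Fin.cons_succ]
    exact hne
  · intro c hc hcS
    rw [hS] at hcS
    set S := (θ ^ m)⁻¹ ::ₘ Multiset.replicate m θ with hSdef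
    -- `c = θ ^ 2`
    have h1 := count_map_inv_smul c hc S hcS θ
    have h2 : 2 ≤ S.count θ := by
      simp only [hSdef, Multiset.count_cons, Multiset.count_replicate_self]
      omega
    have hcθ : c * θ⁻¹ = θ := by
      by_contra hne'
      have h3 : S.count (c * θ⁻¹) ≤ 1 := by
        simp only [hSdef, Multiset.count_cons, Multiset.count_replicate, if_neg (Ne.symm hne')]
        split_ifs <;> omega
      omega
    have hmem : c * ((θ ^ m)⁻¹)⁻¹ ∈ S := by
      have : c * ((θ ^ m)⁻¹)⁻¹ ∈ S.map (fun w => c * w⁻¹) :=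
        Multiset.mem_map_of_mem (fun w => c * w⁻¹) (Multiset.mem_cons_self _ _)
      rwa [hcS] at this
    simp only [hSdef, Multiset.mem_cons, Multiset.mem_replicate] at hmem
    rcases hmem with h | ⟨_, h⟩
    · -- `c = θ'^2` and `c = θ^2`
      apply hθn
      have hc2 : c = θ * θ := by
        calc c = c * θ⁻¹ * θ := by rw [mul_assoc, inv_mul_cancel₀ hθ0, mul_one]
          _ = θ * θ := by rw [hcθ]
      rw [inv_inv, hc2] at h
      have h4 : θ ^ (2 * (m + 1)) = 1 := by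
        have : θ ^ (2 * (m + 1)) = (θ * θ * θ ^ m) * θ ^ m := by ring
        rw [this, h, inv_mul_cancel₀ hθm0]
      have h5 := (hθ.pow_eq_one_iff_dvd _).mp h4
      have hcop : Nat.Coprime (r ^ (b + 1)) 2 := by
        apply Nat.Coprime.pow_left
        rw [Nat.coprime_primes hr Nat.prime_two]
        exact hr2
      exact (hθ.pow_eq_one_iff_dvd _).mpr (hcop.dvd_of_dvd_mul_left h5)
    · apply hne
      have : c * ((θ ^ m)⁻¹)⁻¹ = c * θ⁻¹ := by rw [h, hcθ]
      exact inv_injective (mul_left_cancel₀ hc this)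

end Cfsg.Agent.Helper8.SLU
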