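import Mathlib

set_option autoImplicit false

/-!
Multisets of `r`-th roots of unity of size `r` and product `1`, for `r = 3` and `r = 5`: such a
multiset, if not constant, is symmetric under `w ↦ s / w` for some `r`-th root of unity `s`.
-/

namespace Cfsg.Agent.Helper8.SLU

set_option maxRecDepth 100000 in
theorem comb5 : ∀ m0 m1 m2 m3 m4 : Fin 5,
    m0.val + m1.val + m2.val + m3.val + m4.val = 5 →
    (0 * m0.val + 1 * m1.val + 2 * m2.val + 3 * m3.val + 4 * m4.val) % 5 = 0 →
    ∃ t : Fin 5, ∀ k : Fin 5, ![m0, m1, m2, m3, m4] (t - k) = ![m0, m1, m2, m3, m4] k := by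
  decide

theorem comb3 : ∀ m0 m1 m2 : Fin 3,
    m0.val + m1.val + m2.val = 3 → (0 * m0.val + 1 * m1.val + 2 * m2.val) % 3 = 0 →
    ∃ t : Fin 3, ∀ k : Fin 3, ![m0, m1, m2] (t - k) = ![m0, m1, m2] k := by
  decide

/-- the combinatorial statement for count functions. -/
theorem comb (r : ℕ) (hr : r = 3 ∨ r = 5) (m : ℕ → ℕ) (hsum : ∑ k ∈ Finset.range r, m k = r)
    (hw : r ∣ ∑ k ∈ Finset.range r, k * m k) (hne : ∀ k < r, m k ≠ r) :
    ∃ t < r, ∀ k < r, m ((t + r - k) % r) = m k := by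
  rcases hr with rfl | rfl
  · simp only [Finset.sum_range_succ, Finset.sum_range_zero, zero_add] at hsum hw
    have h0 := hne 0 (by omega)
    have h1 := hne 1 (by omega)
    have h2 := hne 2 (by omega)
    obtain ⟨t, h⟩ := comb3 ⟨m 0, by omega⟩ ⟨m 1, by omega⟩ ⟨m 2, by omega⟩ (by simpa using hsum)
      (Nat.mod_eq_zero_of_dvd (by convert hw using 1))
    have hget : ∀ j : Fin 3, ((![(⟨m 0, by omega⟩ : Fin 3), ⟨m 1, by omega⟩, ⟨m 2, by omega⟩] j
        : Fin 3) : ℕ) = m j.val := by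
      intro j
      fin_cases j <;> rfl
    refine ⟨t.val, t.isLt, fun k hk => ?_⟩
    have h' := congrArg Fin.val (h ⟨k, hk⟩)
    rw [hget, hget, Fin.val_sub] at h'
    simp only at h'
    rw [← h']
    congr 1
    have := t.isLt
    omega
  · simp only [Finset.sum_range_succ, Finset.sum_range_zero, zero_add] at hsum hw
    have h0 := hne 0 (by omega)
    have h1 := hne 1 (by omega)
    have h2 := hne 2 (by omega)
    have h3 := hne 3 (by omega)
    have h4 := hne 4 (by omega)
    obtain ⟨t, h⟩ := comb5 ⟨m 0, by omega⟩ ⟨m 1, by omega⟩ ⟨m 2, by omega⟩ ⟨m 3, by omega⟩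
      ⟨m 4, by omega⟩ (by simpa using hsum) (Nat.mod_eq_zero_of_dvd (by convert hw using 1))
    have hget : ∀ j : Fin 5, ((![(⟨m 0, by omega⟩ : Fin 5), ⟨m 1, by omega⟩, ⟨m 2, by omega⟩,
        ⟨m 3, by omega⟩, ⟨m 4, by omega⟩] j : Fin 5) : ℕ) = m j.val := by
      intro j
      fin_cases j <;> rfl
    refine ⟨t.val, t.isLt, fun k hk => ?_⟩
    have h' := congrArg Fin.val (h ⟨k, hk⟩)
    rw [hget, hget, Fin.val_sub] at h'
    simp only at h'
    rw [← h']
    congr 1
    have := t.isLt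
    omega

/-- **symmetry of small multisets of roots of unity.** -/
theorem exists_symm_of_roots {F : Type*} [Field F] (r : ℕ) (hr : r = 3 ∨ r = 5) (ω : F)
    (hω : IsPrimitiveRoot ω r) (W : Multiset F) (hW : ∀ w ∈ W, w ^ r = 1)
    (hcard : Multiset.card W = r) (hprod : W.prod = 1)
    (hnc : ∀ w₀ : F, W ≠ Multiset.replicate r w₀) :
    ∃ s : F, s ^ r = 1 ∧ W.map (fun w => s * w⁻¹) = W := by
  classical
  have hr0 : 0 < r := by rcases hr with rfl | rfl <;> norm_num
  have : NeZero r := ⟨hr0.ne'⟩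
  have hωr : ω ^ r = 1 := hω.pow_eq_one
  have hω0 : ω ≠ 0 := hω.ne_zero hr0.ne'
  have hinj : Set.InjOn (fun k : ℕ => ω ^ k) (Finset.range r : Set ℕ) := by
    intro i hi j hj hij
    rw [Finset.coe_range, Set.mem_Iio] at hi hj
    exact hω.pow_inj hi hj hij
  set T := (Finset.range r).image (fun k : ℕ => ω ^ k) with hT
  have hsub : W.toFinset ⊆ T := by
    intro a ha
    rw [Multiset.mem_toFinset] at ha
    obtain ⟨k, hk, rfl⟩ := hω.eq_pow_of_pow_eq_one (hW a ha)
    rw [hT, Finset.mem_image]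
    exact ⟨k, Finset.mem_range.mpr hk, rfl⟩
  have hsum : ∑ k ∈ Finset.range r, W.count (ω ^ k) = r := by
    calc ∑ k ∈ Finset.range r, W.count (ω ^ k) = ∑ a ∈ T, W.count a :=
          (Finset.sum_image (f := fun a => W.count a) hinj).symm
      _ = ∑ a ∈ W.toFinset, W.count a := by
          symm
          apply Finset.sum_subset hsub
          intro a _ ha
          rw [Multiset.mem_toFinset] at ha
          exact Multiset.count_eq_zero.mpr ha
      _ = Multiset.card W := Multiset.toFinset_sum_count_eq W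
      _ = r := hcard
  have hprod' : W.prod = ω ^ (∑ k ∈ Finset.range r, k * W.count (ω ^ k)) := by
    calc W.prod = ∏ a ∈ W.toFinset, a ^ W.count a := Finset.prod_multiset_count W
      _ = ∏ a ∈ T, a ^ W.count a := by
          apply Finset.prod_subset hsub
          intro a _ ha
          rw [Multiset.mem_toFinset] at ha
          rw [Multiset.count_eq_zero.mpr ha, pow_zero]
      _ = ∏ k ∈ Finset.range r, (ω ^ k) ^ W.count (ω ^ k) :=
          Finset.prod_image (f := fun a => a ^ W.count a) hinj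
      _ = ∏ k ∈ Finset.range r, ω ^ (k * W.count (ω ^ k)) := by
          apply Finset.prod_congr rfl
          intro k _
          rw [← pow_mul]
      _ = ω ^ (∑ k ∈ Finset.range r, k * W.count (ω ^ k)) := Finset.prod_pow_eq_pow_sum _ _ _
  have hw : r ∣ ∑ k ∈ Finset.range r, k * W.count (ω ^ k) := by
    rw [← hω.pow_eq_one_iff_dvd, ← hprod', hprod]
  have hne : ∀ k < r, W.count (ω ^ k) ≠ r := by
    intro k _ h
    rw [← hcard, Multiset.count_eq_card] at h
    apply hnc (ω ^ k)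
    rw [← hcard, Multiset.eq_replicate_card]
    intro b hb
    exact (h b hb).symm
  obtain ⟨t, ht, hsym⟩ := comb r hr (fun k => W.count (ω ^ k)) hsum hw hne
  have hs0 : ω ^ t ≠ 0 := pow_ne_zero _ hω0
  have hsr : (ω ^ t) ^ r = 1 := by rw [← pow_mul, mul_comm, pow_mul, hωr, one_pow]
  refine ⟨ω ^ t, hsr, ?_⟩
  have hφinj : Function.Injective (fun w : F => ω ^ t * w⁻¹) := by
    intro u v huv
    exact inv_injective (mul_left_cancel₀ hs0 huv)
  have hφφ : ∀ a : F, ω ^ t * (ω ^ t * a⁻¹)⁻¹ = a := by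
    intro a
    rw [mul_inv, inv_inv, ← mul_assoc, mul_inv_cancel₀ hs0, one_mul]
  rw [Multiset.ext]
  intro a
  have h1 := Multiset.count_map_eq_count' (fun w : F => ω ^ t * w⁻¹) W hφinj (ω ^ t * a⁻¹)
  simp only [hφφ] at h1
  rw [h1]
  by_cases ha : a ^ r = 1
  · obtain ⟨k, hk, rfl⟩ := hω.eq_pow_of_pow_eq_one ha
    have h2 : ω ^ t * (ω ^ k)⁻¹ = ω ^ ((t + r - k) % r) := by
      rw [← pow_eq_pow_mod _ hωr]
      have h3 : ω ^ (t + r - k) * ω ^ k = ω ^ t := by
        rw [← pow_add, Nat.sub_add_cancel (by omega), pow_add, hωr, mul_one]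
      rw [← h3, mul_assoc, mul_inv_cancel₀ (pow_ne_zero _ hω0), mul_one]
    rw [h2]
    exact hsym k hk
  · have h2 : a ∉ W := fun h => ha (hW a h)
    have h3 : ω ^ t * a⁻¹ ∉ W := by
      intro h
      have h4 := hW _ h
      rw [mul_pow, hsr, one_mul, inv_pow] at h4
      exact ha (inv_eq_one.mp h4)
    rw [Multiset.count_eq_zero.mpr h2, Multiset.count_eq_zero.mpr h3]

end Cfsg.Agent.Helper8.SLU
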