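import Cfsg.Agent.Helper8.SLUf
import Cfsg.Agent.Helper8.SLUg
import Cfsg.Agent.Helper8.PGLrSplitCount
import Cfsg.Agent.Helper8.PGLrNonsplit

set_option autoImplicit false
set_option linter.unusedSectionVars false

/-!
Dimension `n = r ∈ {3, 5}` with `(q - 1)_r = r`: every element of order `r` modulo scalars is
conjugate into the similarity group.
-/

namespace Cfsg.Agent.Helper8.SLU

open Polynomial Matrix Cfsg Cfsg.Geo Cfsg.Agent.Helper8.GUOrder Cfsg.Agent.Helper8.AutSU
  Cfsg.Agent.Helper8.PSUSing Cfsg.Agent.Helper8.SUSemi Cfsg.Agent.Helper8.RegSU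
  Cfsg.Agent.Helper8.SemiS Cfsg.Agent.Helper8.PGLr

variable {K : Type*} [Field K] [Fintype K] {q : ℕ} [hF : Fact (Fintype.card K = q ^ 2)] {n : ℕ}

theorem plin_replicate (k : ℕ) (w : K) : plin (Multiset.replicate k w) = (X - C w) ^ k := by
  unfold plin
  rw [Multiset.map_replicate, Multiset.prod_replicate]

/-- a semisimple matrix whose characteristic polynomial is a power of a linear factor is scalar. -/
theorem scalar_of_charpoly_pow (A : Matrix (Fin n) (Fin n) K) (gs : K[X]) (hsq : Squarefree gs)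
    (hA : aeval A gs = 0) (w : K) (hcp : A.charpoly = (X - C w) ^ n) (hn : n ≠ 0) :
    A = w • 1 := by
  have h1 : minpoly K A ∣ gs := minpoly.dvd K A hA
  have h2 : Squarefree (minpoly K A) := hsq.squarefree_of_dvd h1
  have h3 : minpoly K A ∣ (X - C w) ^ n := by
    rw [← hcp]
    exact Matrix.minpoly_dvd_charpoly A
  have h4 : minpoly K A ∣ X - C w := (h2.dvd_pow_iff_dvd hn).mp h3
  obtain ⟨R, hR⟩ := h4
  have h5 : aeval A (X - C w : K[X]) = 0 := by
    rw [hR, map_mul, minpoly.aeval, zero_mul]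
  rw [map_sub, aeval_X, aeval_C, sub_eq_zero, Algebra.algebraMap_eq_smul_one] at h5
  exact h5

theorem pow_q_eq_self_of_pow_eq_one {s : K} {e : ℕ} (hs : s ^ e = 1) (he : e ∣ q - 1) :
    s ^ q = s := by
  have hq := two_le_q hF.out (K := K)
  obtain ⟨t, ht⟩ := he
  have h1 : s ^ (q - 1) = 1 := by rw [ht, pow_mul, hs, one_pow]
  have h2 : q = (q - 1) + 1 := by omega
  rw [h2, pow_succ, h1, one_mul]

/-- a matrix with split semisimple characteristic polynomial whose roots are symmetric under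
`w ↦ s / w`, `s` in the fixed field, is conjugate into the similarity group. -/
theorem fix_of_symm (p : ℕ) [Fact p.Prime] [CharP K p] (hn : 1 ≤ n)
    {f : (Fin n → K) → (Fin n → K) → K} (hf : IsUnitaryFormPow q f)
    (x : GL (Fin n) K) (gs : K[X]) (hsq : Squarefree gs)
    (hx : aeval (x : Matrix (Fin n) (Fin n) K) gs = 0) (W : Multiset K)
    (hcp : (x : Matrix (Fin n) (Fin n) K).charpoly = plin W) (hW0 : ∀ w ∈ W, w ≠ 0)
    (hWq : ∀ w ∈ W, w ^ q = w) (s : K) (hs0 : s ≠ 0) (hsq' : s ^ q = s)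
    (hsym : W.map (fun w => s * w⁻¹) = W) :
    ∃ g ∈ Cfsg.Geo.specialLinear (Fin n) K, g⁻¹ * x * g ∈ similarityGroup f := by
  obtain ⟨μ, hμ⟩ := exists_norm hF.out (inv_ne_zero hs0) (by rw [inv_pow, hsq'])
  have hμ0 : μ ≠ 0 := by
    rintro rfl
    rw [zero_mul] at hμ
    exact inv_ne_zero hs0 hμ.symm
  have hμs : μ * s = (μ ^ q)⁻¹ := by
    apply eq_inv_of_mul_eq_one_left
    calc μ * s * μ ^ q = (μ * μ ^ q) * s := by ring
      _ = s⁻¹ * s := by rw [hμ]
      _ = 1 := inv_mul_cancel₀ hs0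
  have hcpμ := charpoly_smul_plin μ hμ0 (x : Matrix (Fin n) (Fin n) K) W hcp
  refine suf p hn hf x gs hsq hx μ hμ0 ?_
  rw [hcpμ, ustar_plin_eq_iff]
  · rw [Multiset.map_map]
    conv_rhs => rw [← hsym]
    rw [Multiset.map_map]
    apply Multiset.map_congr rfl
    intro w hw
    simp only [Function.comp_apply]
    rw [mul_pow, hWq w hw, _root_.mul_inv, ← hμs]
    ring
  · intro w hw
    rw [Multiset.mem_map] at hw
    obtain ⟨v, hv, rfl⟩ := hw
    exact mul_ne_zero hμ0 (hW0 v hv)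

theorem qsq_sub_one' (hq : 2 ≤ q) : q ^ 2 - 1 = (q - 1) * (q + 1) := by
  obtain ⟨b, rfl⟩ : ∃ b, q = b + 1 := ⟨q - 1, by omega⟩
  rw [Nat.add_sub_cancel]
  have : (b + 1) ^ 2 = b * (b + 1 + 1) + 1 := by ring
  rw [this, Nat.add_sub_cancel]

/-- **dimension `n = r ∈ {3, 5}` with `(q - 1)_r = r`.** -/
theorem fix_small (p : ℕ) [Fact p.Prime] [CharP K p]
    {f : (Fin n → K) → (Fin n → K) → K} (hf : IsUnitaryFormPow q f)
    (hn35 : n = 3 ∨ n = 5) (ha : padicValNat n (q - 1) = 1)
    (x : GL (Fin n) K) (hx : x ∈ Cfsg.Geo.specialLinear (Fin n) K) (z : K)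
    (hxz : (x : Matrix (Fin n) (Fin n) K) ^ n = z • 1)
    (hns : ∀ z : K, (x : Matrix (Fin n) (Fin n) K) ≠ z • 1) :
    ∃ g ∈ Cfsg.Geo.specialLinear (Fin n) K, g⁻¹ * x * g ∈ similarityGroup f := by
  have hq := two_le_q hF.out (K := K)
  have hprime : n.Prime := by rcases hn35 with rfl | rfl <;> norm_num
  have : Fact n.Prime := ⟨hprime⟩
  have hn2 : n ≠ 2 := by rcases hn35 with rfl | rfl <;> norm_num
  have hn1 : 1 ≤ n := hprime.one_lt.le
  have hodd : Odd n := hprime.odd_of_ne_two hn2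
  have hdvd : n ∣ q - 1 := dvd_of_one_le_padicValNat (by omega)
  have hndvd2 : ¬ n ^ 2 ∣ q - 1 := by
    rw [padicValNat_dvd_iff_le (by omega), ha]
    omega
  have hnq1 : ¬ n ∣ q + 1 := by
    intro h
    have h2 : n ∣ (q + 1) - (q - 1) := Nat.dvd_sub h hdvd
    have e : (q + 1) - (q - 1) = 2 := by omega
    rw [e] at h2
    exact hn2 ((Nat.prime_dvd_prime_iff_eq hprime Nat.prime_two).mp h2)
  have hn2Q : ¬ n ^ 2 ∣ q ^ 2 - 1 := by
    rw [qsq_sub_one' hq]
    intro h
    have hcop : Nat.Coprime (n ^ 2) (q + 1) :=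
      Nat.Coprime.pow_left _ ((Nat.Prime.coprime_iff_not_dvd hprime).mpr hnq1)
    exact hndvd2 (hcop.dvd_of_dvd_mul_right h)
  have hcardQ : n ∣ Fintype.card K - 1 := dvd_card_sub_one_of_dvd hdvd
  have hr0 : ((n : ℕ) : K) ≠ 0 := natCast_ne_zero_of_dvd n hprime hcardQ
  obtain ⟨ω, hω⟩ := exists_primitiveRoot (F := K) n hcardQ
  have hdet : (x : Matrix (Fin n) (Fin n) K).det = 1 := by
    unfold Cfsg.Geo.specialLinear at hx
    rw [MonoidHom.mem_ker] at hx
    have := congrArg Units.val hx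
    rwa [Matrix.GeneralLinearGroup.val_det_apply, Units.val_one] at this
  have hz : z ^ n = 1 := by
    have := congrArg Matrix.det hxz
    rw [Matrix.det_pow, hdet, one_pow, Matrix.det_smul, Matrix.det_one, mul_one,
      Fintype.card_fin] at this
    exact this.symm
  have hz0 : z ≠ 0 := by
    rintro rfl
    rw [zero_pow hprime.ne_zero] at hz
    exact zero_ne_one hz
  have hz1 : z = 1 := by
    by_contra hne
    have hnon : ¬ ∃ μ : Kˣ, μ ^ n = Units.mk0 z hz0 := by
      rintro ⟨μ, hμ⟩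
      have h1 : μ ^ (n ^ 2) = 1 := by
        rw [sq, pow_mul, hμ]
        apply Units.ext
        rw [Units.val_pow_eq_pow_val, Units.val_mk0, hz, Units.val_one]
      have h2 : μ ^ (q ^ 2 - 1) = 1 := by
        apply Units.ext
        rw [Units.val_pow_eq_pow_val, Units.val_one, ← hF.out]
        exact FiniteField.pow_card_sub_one_eq_one _ μ.ne_zero
      have h3 : μ ^ Nat.gcd (n ^ 2) (q ^ 2 - 1) = 1 := pow_gcd_eq_one.mpr ⟨h1, h2⟩
      obtain ⟨j, hj, hgj⟩ := (Nat.dvd_prime_pow hprime).mp (Nat.gcd_dvd_left (n ^ 2) (q ^ 2 - 1))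
      have hj1 : j ≤ 1 := by
        by_contra hcon
        have : j = 2 := by omega
        rw [this] at hgj
        apply hn2Q
        rw [← hgj]
        exact Nat.gcd_dvd_right _ _
      have h4 : μ ^ n = 1 := by
        rw [hgj] at h3
        interval_cases j
        · rw [pow_zero, pow_one] at h3
          rw [h3, one_pow]
        · rwa [pow_one] at h3
      rw [h4] at hμ
      apply hne
      have := congrArg Units.val hμ
      rw [Units.val_one, Units.val_mk0] at this
      exact this.symm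
    have hxs : x ^ n = GeneralLinearGroup.scalar (Fin n) (Units.mk0 z hz0) :=
      (pow_eq_scalar_iff x n _).mpr hxz
    obtain ⟨_, hcp⟩ := charpoly_nonsplit n hprime hr0 x _ hxs hnon
    rw [Nat.div_self hprime.pos, pow_one, Units.val_mk0] at hcp
    have hd := Matrix.det_eq_sign_charpoly_coeff (x : Matrix (Fin n) (Fin n) K)
    rw [hcp, hdet, Fintype.card_fin, coeff_sub, coeff_X_pow, coeff_C_zero,
      if_neg hprime.ne_zero.symm, zero_sub, hodd.neg_one_pow] at hd
    apply hne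
    rw [hd]
    ring
  rw [hz1, one_smul] at hxz
  have hsq : Squarefree (X ^ n - C (1 : K) : K[X]) :=
    squarefree_X_pow_sub_C n hr0 1 one_ne_zero
  have haev : aeval (x : Matrix (Fin n) (Fin n) K) (X ^ n - C (1 : K) : K[X]) = 0 := by
    rw [aeval_X_pow_sub_C, hxz, one_smul, sub_self]
  have hsp : (X ^ n - C (1 : K) : K[X]).Splits :=
    X_pow_sub_C_splits_of_isPrimitiveRoot hω (one_pow n)
  obtain ⟨W, hWroot, hcp⟩ := split_charpoly (x : Matrix (Fin n) (Fin n) K) _ hsq haev hsp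
  have hWr : ∀ w ∈ W, w ^ n = 1 := by
    intro w hw
    have := hWroot w hw
    rw [IsRoot, eval_sub, eval_pow, eval_X, eval_C, sub_eq_zero] at this
    exact this
  have hWcard : Multiset.card W = n := by
    rw [← plin_natDegree, ← hcp, Matrix.charpoly_natDegree_eq_dim, Fintype.card_fin]
  have hWprod : W.prod = 1 := (det_of_plin _ W hcp).symm.trans hdet
  have hWnc : ∀ w₀ : K, W ≠ Multiset.replicate n w₀ := by
    intro w₀ hW
    rw [hW, plin_replicate] at hcp
    exact hns w₀ (scalar_of_charpoly_pow _ _ hsq haev w₀ hcp hprime.ne_zero)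
  obtain ⟨s, hsr, hsym⟩ := exists_symm_of_roots n hn35 ω hω W hWr hWcard hWprod hWnc
  have hs0 : s ≠ 0 := by
    rintro rfl
    rw [zero_pow hprime.ne_zero] at hsr
    exact zero_ne_one hsr
  refine fix_of_symm p hn1 hf x _ hsq haev W hcp ?_ ?_ s hs0
    (pow_q_eq_self_of_pow_eq_one hsr hdvd) hsym
  · intro w hw h0
    have := hWr w hw
    rw [h0, zero_pow hprime.ne_zero] at this
    exact zero_ne_one this
  · intro w hw
    exact pow_q_eq_self_of_pow_eq_one (hWr w hw) hdvd

end Cfsg.Agent.Helper8.SLU
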