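import Cfsg.Agent.Helper8.SLUh

set_option autoImplicit false
set_option linter.unusedSectionVars false

/-!
Involutions modulo scalars in odd characteristic.
-/

namespace Cfsg.Agent.Helper8.SLU

open Polynomial Matrix Cfsg Cfsg.Geo Cfsg.Agent.Helper8.GUOrder Cfsg.Agent.Helper8.AutSU
  Cfsg.Agent.Helper8.PSUSing Cfsg.Agent.Helper8.SUSemi Cfsg.Agent.Helper8.RegSU
  Cfsg.Agent.Helper8.SemiS Cfsg.Agent.Helper8.PGLr

variable {K : Type*} [Field K] [Fintype K] {q : ℕ} [hF : Fact (Fintype.card K = q ^ 2)] {n : ℕ}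

theorem ringChar_ne_two (p : ℕ) [Fact p.Prime] [CharP K p] (hp2 : p ≠ 2) : ringChar K ≠ 2 := by
  rw [ringChar.eq K p]
  exact hp2

theorem odd_q (p : ℕ) [Fact p.Prime] [CharP K p] (hp2 : p ≠ 2) : Odd q := by
  have h := FiniteField.odd_card_of_char_ne_two (ringChar_ne_two (K := K) p hp2)
  rw [hF.out] at h
  have : Odd (q ^ 2) := Nat.odd_iff.mpr h
  exact Nat.Odd.of_mul_right (by rwa [sq] at this)

theorem card_div_two (p : ℕ) [Fact p.Prime] [CharP K p] (hp2 : p ≠ 2) :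
    Fintype.card K / 2 = (q - 1) / 2 * (q + 1) := by
  obtain ⟨k, hk⟩ := odd_q (K := K) (q := q) p hp2
  rw [hF.out, hk]
  have e1 : (2 * k + 1) ^ 2 = 2 * (k * (2 * k + 1 + 1)) + 1 := by ring
  have e2 : (2 * k + 1 - 1) / 2 = k := by omega
  rw [e1, e2]
  omega

theorem neg_one_isSquare (hK : Fintype.card K = q ^ 2) (p : ℕ) [Fact p.Prime] [CharP K p]
    (hp2 : p ≠ 2) : IsSquare (-1 : K) := by
  rw [FiniteField.isSquare_iff (ringChar_ne_two p hp2) (neg_ne_zero.mpr one_ne_zero),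
    card_div_two (q := q) p hp2]
  obtain ⟨k, hk⟩ := odd_q (K := K) (q := q) p hp2
  apply Even.neg_one_pow
  rw [hk]
  apply Even.mul_left
  exact ⟨k + 1, by ring⟩

theorem not_isSquare_neg (hK : Fintype.card K = q ^ 2) (p : ℕ) [Fact p.Prime] [CharP K p]
    (hp2 : p ≠ 2) {z : K} (hz : ¬ IsSquare z) : ¬ IsSquare (-z) := by
  intro h
  apply hz
  have := (neg_one_isSquare (K := K) hK p hp2).mul h
  rwa [neg_one_mul, neg_neg] at this

/-- a non-square `t` with `t ^ m = 1` forces the full `2`-part of `q ^ 2 - 1` to divide `m`. -/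
theorem two_pow_dvd_of_not_isSquare (p : ℕ) [Fact p.Prime] [CharP K p] (hp2 : p ≠ 2) {t : K}
    (ht0 : t ≠ 0) (ht : ¬ IsSquare t) (m : ℕ) (hm : t ^ m = 1) :
    2 ^ padicValNat 2 (q ^ 2 - 1) ∣ m := by
  have hq := two_le_q hF.out (K := K)
  have hN : t ^ (q ^ 2 - 1) = 1 := by
    rw [← hF.out]
    exact FiniteField.pow_card_sub_one_eq_one t ht0
  have ho1 : orderOf t ∣ q ^ 2 - 1 := orderOf_dvd_of_pow_eq_one hN
  have ho2 : orderOf t ∣ m := orderOf_dvd_of_pow_eq_one hm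
  obtain ⟨c, hc⟩ := ho1
  have hhalf : Fintype.card K / 2 = (q ^ 2 - 1) / 2 := by
    rw [hF.out]
    have := odd_q (K := K) (q := q) p hp2
    obtain ⟨k, hk⟩ := this
    rw [hk]
    have e1 : (2 * k + 1) ^ 2 = 2 * (2 * k * k + 2 * k) + 1 := by ring
    rw [e1]
    omega
  have hcodd : Odd c := by
    by_contra hce
    rw [Nat.not_odd_iff_even] at hce
    obtain ⟨c', hc'⟩ := hce
    apply ht
    rw [FiniteField.isSquare_iff (ringChar_ne_two p hp2) ht0, hhalf, hc, hc']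
    have : orderOf t * (c' + c') / 2 = orderOf t * c' := by
      rw [← two_mul, ← mul_assoc, mul_comm _ 2, mul_assoc, Nat.mul_div_cancel_left _ (by norm_num)]
    rw [this, pow_mul, pow_orderOf_eq_one, one_pow]
  have h2N : 2 ^ padicValNat 2 (q ^ 2 - 1) ∣ orderOf t * c := by
    rw [← hc]
    exact pow_padicValNat_dvd
  have hcop : Nat.Coprime (2 ^ padicValNat 2 (q ^ 2 - 1)) c :=
    Nat.Coprime.pow_left _ (Nat.coprime_two_left.mpr hcodd)
  exact dvd_trans (hcop.dvd_of_dvd_mul_right h2N) ho2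

/-- a primitive `2 ^ e`-th root of unity, `2 ^ e` the full `2`-part of `q ^ 2 - 1`, is not a
square. -/
theorem not_isSquare_primitiveRoot (p : ℕ) [Fact p.Prime] [CharP K p] (hp2 : p ≠ 2) {ζ : K}
    (hζ : IsPrimitiveRoot ζ (2 ^ padicValNat 2 (q ^ 2 - 1))) : ¬ IsSquare ζ := by
  have hq := two_le_q hF.out (K := K)
  have hQpos : q ^ 2 - 1 ≠ 0 := by
    have : 4 ≤ q ^ 2 := by nlinarith
    omega
  have he1 : 1 ≤ padicValNat 2 (q ^ 2 - 1) := by
    rw [← padicValNat_dvd_iff_le hQpos, pow_one]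
    have := odd_q (K := K) (q := q) p hp2
    obtain ⟨k, hk⟩ := this
    rw [hk]
    have e1 : (2 * k + 1) ^ 2 = 2 * (2 * k * k + 2 * k) + 1 := by ring
    rw [e1, Nat.add_sub_cancel]
    exact Dvd.intro _ rfl
  rintro ⟨y, hy⟩
  set e := padicValNat 2 (q ^ 2 - 1) with he
  have hζ0 : ζ ≠ 0 := hζ.ne_zero (pow_ne_zero _ (by norm_num))
  have hy0 : y ≠ 0 := by
    rintro rfl
    rw [mul_zero] at hy
    exact hζ0 hy
  have h1 : y ^ (2 ^ (e + 1)) = 1 := by
    rw [pow_succ, mul_comm, pow_mul, sq, ← hy, hζ.pow_eq_one]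
  have h2 : y ^ (q ^ 2 - 1) = 1 := by
    rw [← hF.out]
    exact FiniteField.pow_card_sub_one_eq_one y hy0
  have h3 : y ^ Nat.gcd (2 ^ (e + 1)) (q ^ 2 - 1) = 1 := pow_gcd_eq_one.mpr ⟨h1, h2⟩
  obtain ⟨j, hj, hgj⟩ := (Nat.dvd_prime_pow Nat.prime_two).mp
    (Nat.gcd_dvd_left (2 ^ (e + 1)) (q ^ 2 - 1))
  have hje : j ≤ e := by
    rw [he, ← padicValNat_dvd_iff_le hQpos, ← hgj]
    exact Nat.gcd_dvd_right _ _
  rw [hgj] at h3
  have h4 : y ^ (2 ^ e) = 1 := by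
    obtain ⟨d, hd⟩ : ∃ d, e = j + d := ⟨e - j, by omega⟩
    rw [hd, pow_add, pow_mul, h3, one_pow]
  have h5 : ζ ^ (2 ^ (e - 1)) = 1 := by
    rw [hy, ← sq, ← pow_mul, ← pow_succ', Nat.sub_add_cancel he1, h4]
  have h6 := (hζ.pow_eq_one_iff_dvd _).mp h5
  have h7 : 2 ^ e ≤ 2 ^ (e - 1) := Nat.le_of_dvd (pow_pos (by norm_num) _) h6
  have h8 : 2 ^ (e - 1) < 2 ^ e := Nat.pow_lt_pow_right (by norm_num) (by omega)
  omega

theorem two_ne_zero' (p : ℕ) [Fact p.Prime] [CharP K p] (hp2 : p ≠ 2) : ((2 : ℕ) : K) ≠ 0 := by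
  have := Ring.two_ne_zero (ringChar_ne_two (K := K) p hp2)
  exact_mod_cast this

/-- the characteristic polynomial of a matrix whose square is a non-square scalar. -/
theorem charpoly_sq (p : ℕ) [Fact p.Prime] [CharP K p] (hp2 : p ≠ 2) (x : GL (Fin n) K) (z : K)
    (hz0 : z ≠ 0) (hxz : (x : Matrix (Fin n) (Fin n) K) ^ 2 = z • 1) (hz : ¬ IsSquare z) :
    2 ∣ n ∧ (x : Matrix (Fin n) (Fin n) K).charpoly = (X ^ 2 - C z) ^ (n / 2) := by
  have hl : ¬ ∃ μ : Kˣ, μ ^ 2 = Units.mk0 z hz0 := by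
    rintro ⟨μ, hμ⟩
    apply hz
    refine ⟨(μ : K), ?_⟩
    have := congrArg Units.val hμ
    rw [Units.val_pow_eq_pow_val, Units.val_mk0, sq] at this
    exact this.symm
  have := charpoly_nonsplit 2 Nat.prime_two (two_ne_zero' p hp2) x (Units.mk0 z hz0)
    ((pow_eq_scalar_iff x 2 _).mpr hxz) hl
  rwa [Units.val_mk0] at this

theorem coeff_zero_sq_pow (z : K) (k : ℕ) :
    ((X ^ 2 - C z : K[X]) ^ k).coeff 0 = (-z) ^ k := by
  rw [Polynomial.coeff_zero_eq_eval_zero, eval_pow, eval_sub, eval_pow, eval_X, eval_C,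
    zero_pow (by norm_num), zero_sub]

theorem det_of_charpoly_sq (A : Matrix (Fin n) (Fin n) K) (z : K) (h2 : 2 ∣ n)
    (hcp : A.charpoly = (X ^ 2 - C z) ^ (n / 2)) : A.det = (-z) ^ (n / 2) := by
  rw [Matrix.det_eq_sign_charpoly_coeff, hcp, coeff_zero_sq_pow, Fintype.card_fin,
    Even.neg_one_pow (even_iff_two_dvd.mpr h2), one_mul]

theorem det_eq_one_of_mem {x : GL (Fin n) K} (hx : x ∈ Cfsg.Geo.specialLinear (Fin n) K) :
    (x : Matrix (Fin n) (Fin n) K).det = 1 := by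
  unfold Cfsg.Geo.specialLinear at hx
  rw [MonoidHom.mem_ker] at hx
  have := congrArg Units.val hx
  rwa [Matrix.GeneralLinearGroup.val_det_apply, Units.val_one] at this

/-- **involutions modulo scalars, odd characteristic, `(n)_2 ≤ (q ^ 2 - 1)_2`.** -/
theorem fix_two_odd (p : ℕ) [Fact p.Prime] [CharP K p] (hp2 : p ≠ 2) (hn : 1 ≤ n)
    {f : (Fin n → K) → (Fin n → K) → K} (hf : IsUnitaryFormPow q f)
    (hv : padicValNat 2 n ≤ padicValNat 2 (q ^ 2 - 1))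
    (x : GL (Fin n) K) (hx : x ∈ Cfsg.Geo.specialLinear (Fin n) K) (z : K)
    (hxz : (x : Matrix (Fin n) (Fin n) K) ^ 2 = z • 1) :
    ∃ g ∈ Cfsg.Geo.specialLinear (Fin n) K, g⁻¹ * x * g ∈ similarityGroup f := by
  have hdet := det_eq_one_of_mem hx
  have hz0 : z ≠ 0 := by
    rintro rfl
    have := congrArg Matrix.det hxz
    have hne : Nonempty (Fin n) := ⟨⟨0, hn⟩⟩
    rw [Matrix.det_pow, hdet, one_pow, zero_smul, Matrix.det_zero] at this
    exact one_ne_zero this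
  have h20 := two_ne_zero' (K := K) p hp2
  by_cases hsqz : IsSquare z
  · obtain ⟨w₀, hw₀⟩ := hsqz
    have hw0 : w₀ ≠ 0 := by
      rintro rfl
      rw [mul_zero] at hw₀
      exact hz0 hw₀
    have hsq : Squarefree (X ^ 2 - C z : K[X]) := squarefree_X_pow_sub_C 2 h20 z hz0
    have haev : aeval (x : Matrix (Fin n) (Fin n) K) (X ^ 2 - C z : K[X]) = 0 := by
      rw [aeval_X_pow_sub_C, hxz, sub_self]
    have hsp : (X ^ 2 - C z : K[X]).Splits :=
      X_pow_sub_C_splits_of_isPrimitiveRoot (IsPrimitiveRoot.neg_one p hp2)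
        (by rw [sq, hw₀] : w₀ ^ 2 = z)
    obtain ⟨W, hWroot, hcp⟩ := split_charpoly (x : Matrix (Fin n) (Fin n) K) _ hsq haev hsp
    have hWr : ∀ w ∈ W, w ^ 2 = z := by
      intro w hw
      have := hWroot w hw
      rw [IsRoot, eval_sub, eval_pow, eval_X, eval_C, sub_eq_zero] at this
      exact this
    have hμ0 : w₀⁻¹ ≠ 0 := inv_ne_zero hw0
    have hcpμ := charpoly_smul_plin w₀⁻¹ hμ0 (x : Matrix (Fin n) (Fin n) K) W hcp
    refine suf p hn hf x _ hsq haev w₀⁻¹ hμ0 ?_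
    rw [hcpμ, ustar_plin_eq_iff]
    · rw [Multiset.map_map]
      apply Multiset.map_congr rfl
      intro w hw
      simp only [Function.comp_apply]
      have hv2 : (w₀⁻¹ * w) * (w₀⁻¹ * w) = 1 := by
        have : (w₀⁻¹ * w) * (w₀⁻¹ * w) = w₀⁻¹ * w₀⁻¹ * w ^ 2 := by ring
        rw [this, hWr w hw, hw₀]
        field_simp
      obtain ⟨k, hk⟩ := odd_q (K := K) (q := q) p hp2
      have hvq : (w₀⁻¹ * w) ^ q = w₀⁻¹ * w := by
        rw [hk, pow_succ, pow_mul, sq, hv2, one_pow, one_mul]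
      rw [hvq]
      exact inv_eq_of_mul_eq_one_right hv2
    · intro v hv'
      rw [Multiset.mem_map] at hv'
      obtain ⟨w, hw, rfl⟩ := hv'
      apply mul_ne_zero hμ0
      intro h0
      have := hWr w hw
      rw [h0, zero_pow (by norm_num)] at this
      exact hz0 this.symm
  · exfalso
    obtain ⟨h2n, hcp⟩ := charpoly_sq p hp2 x z hz0 hxz hsqz
    have hd := det_of_charpoly_sq _ z h2n hcp
    rw [hdet] at hd
    have h1 := two_pow_dvd_of_not_isSquare (q := q) p hp2 (neg_ne_zero.mpr hz0)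
      (not_isSquare_neg hF.out p hp2 hsqz) (n / 2) hd.symm
    have h2 : 2 ^ (padicValNat 2 (q ^ 2 - 1) + 1) ∣ n := by
      obtain ⟨c, hc⟩ := h2n
      rw [hc, Nat.mul_div_cancel_left _ (by norm_num)] at h1
      rw [hc, pow_succ, mul_comm]
      exact Nat.mul_dvd_mul_left 2 h1
    rw [padicValNat_dvd_iff_le (by omega)] at h2
    omega

theorem ustar_pow (P : K[X]) (k : ℕ) : ustar (q := q) (P ^ k) = ustar (q := q) P ^ k := by
  induction k with
  | zero => rw [pow_zero, pow_zero, ustar_one]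
  | succ k ih => rw [pow_succ, pow_succ, ustar_mul, ih]

/-- **derangements of order two modulo scalars, odd characteristic, `(n)_2 > (q ^ 2 - 1)_2`.** -/
theorem derangement_two_odd (p : ℕ) [Fact p.Prime] [CharP K p] (hp2 : p ≠ 2) (hn : 1 ≤ n)
    {f : (Fin n → K) → (Fin n → K) → K} (hf : IsUnitaryFormPow q f)
    (hv : padicValNat 2 (q ^ 2 - 1) < padicValNat 2 n) :
    ∃ (x : GL (Fin n) K) (z : K), x ∈ Cfsg.Geo.specialLinear (Fin n) K ∧
      (x : Matrix (Fin n) (Fin n) K) ^ 2 = z • 1 ∧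
      (∀ z : K, (x : Matrix (Fin n) (Fin n) K) ≠ z • 1) ∧
      ∀ g : GL (Fin n) K, g⁻¹ * x * g ∉ similarityGroup f := by
  have hq := two_le_q hF.out (K := K)
  have h20 := two_ne_zero' (K := K) p hp2
  set e := padicValNat 2 (q ^ 2 - 1) with he
  have hdvd : 2 ^ (e + 1) ∣ n := by
    rw [padicValNat_dvd_iff_le (by omega)]
    omega
  obtain ⟨c, hc⟩ := hdvd
  obtain ⟨k, hk⟩ : ∃ k, k = 2 ^ e * c := ⟨_, rfl⟩
  have hnk : n = 2 * k := by rw [hc, hk, pow_succ]; ring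
  have hk1 : 1 ≤ k := by omega
  have hnk2 : n / 2 = k := by rw [hnk, Nat.mul_div_cancel_left _ (by norm_num)]
  have h2n : 2 ∣ n := ⟨k, hnk⟩
  obtain ⟨ζ, hζ⟩ := exists_primitiveRoot (F := K) (2 ^ e) (by
    rw [hF.out, he]
    exact pow_padicValNat_dvd)
  have hζ0 : ζ ≠ 0 := hζ.ne_zero (pow_ne_zero _ (by norm_num))
  have hζns : ¬ IsSquare ζ := not_isSquare_primitiveRoot p hp2 hζ
  have hzns : ¬ IsSquare (-ζ) := not_isSquare_neg hF.out p hp2 hζns
  have hz0 : -ζ ≠ 0 := neg_ne_zero.mpr hζ0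
  have hζk : ζ ^ k = 1 := by rw [hk, pow_mul, hζ.pow_eq_one, one_pow]
  -- the matrix
  let P : Fin k → K[X] := fun _ => X ^ 2 - C (-ζ)
  have hP : ∀ i, (P i).Monic := fun _ => monic_X_pow_sub_C _ (by norm_num)
  have hPsum : ∑ i, (P i).natDegree = n := by
    simp only [P, natDegree_X_pow_sub_C, Finset.sum_const, Finset.card_univ, Fintype.card_fin,
      smul_eq_mul]
    omega
  obtain ⟨A, hAc, hAr⟩ := exists_matrix_of_family P hP n hPsum (X ^ 2 - C (-ζ))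
    (fun _ => dvd_rfl)
  have hAc' : A.charpoly = (X ^ 2 - C (-ζ)) ^ (n / 2) := by
    rw [hAc, hnk2]
    simp only [P, Finset.prod_const, Finset.card_univ, Fintype.card_fin]
  rw [aeval_X_pow_sub_C, sub_eq_zero] at hAr
  have hAA : A * ((-ζ)⁻¹ • A) = 1 := by
    rw [Matrix.mul_smul, ← sq, hAr, smul_smul, inv_mul_cancel₀ hz0, one_smul]
  let x : GL (Fin n) K := ⟨A, (-ζ)⁻¹ • A, hAA, mul_eq_one_comm.mp hAA⟩
  have hdet : A.det = 1 := by
    rw [det_of_charpoly_sq A _ h2n hAc', neg_neg, hnk2, hζk]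
  refine ⟨x, -ζ, ?_, hAr, ?_, ?_⟩
  · unfold Cfsg.Geo.specialLinear
    rw [MonoidHom.mem_ker]
    apply Units.ext
    rw [Matrix.GeneralLinearGroup.val_det_apply, Units.val_one]
    exact hdet
  · intro c' hc'
    change A = c' • 1 at hc'
    apply hzns
    refine ⟨c', ?_⟩
    have := hAr
    rw [hc', _root_.smul_pow, one_pow] at this
    have h2 := congrFun (congrFun this ⟨0, hn⟩) ⟨0, hn⟩
    simp only [Matrix.smul_apply, Matrix.one_apply_eq, smul_eq_mul, mul_one] at h2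
    rw [← h2, sq]
  · intro g hg
    obtain ⟨μ, hμ, hs⟩ := nec hn hf x g hg
    change ustar (q := q) ((μ • A).charpoly) = (μ • A).charpoly at hs
    have hw0 : μ ^ 2 * -ζ ≠ 0 := mul_ne_zero (pow_ne_zero _ hμ) hz0
    have hwns : ¬ IsSquare (μ ^ 2 * -ζ) := by
      rintro ⟨u, hu⟩
      apply hzns
      refine ⟨u * μ⁻¹, ?_⟩
      have : -ζ = (μ ^ 2)⁻¹ * (μ ^ 2 * -ζ) := by
        rw [← mul_assoc, inv_mul_cancel₀ (pow_ne_zero _ hμ), one_mul]
      rw [this, hu]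
      field_simp
    have hyy : (μ • A) * ((μ⁻¹ * (-ζ)⁻¹) • A) = 1 := by
      rw [Matrix.smul_mul, Matrix.mul_smul, ← sq, hAr, smul_smul, smul_smul]
      have : μ * (μ⁻¹ * (-ζ)⁻¹) * -ζ = 1 := by field_simp
      rw [this, one_smul]
    let y : GL (Fin n) K := ⟨μ • A, (μ⁻¹ * (-ζ)⁻¹) • A, hyy, mul_eq_one_comm.mp hyy⟩
    have hy2 : (y : Matrix (Fin n) (Fin n) K) ^ 2 = (μ ^ 2 * -ζ) • 1 := by
      show (μ • A) ^ 2 = _
      rw [_root_.smul_pow, hAr, smul_smul]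
    obtain ⟨_, hcpy⟩ := charpoly_sq p hp2 y _ hw0 hy2 hwns
    change (μ • A).charpoly = _ at hcpy
    rw [hcpy, ustar_pow, ustar_X_pow_sub_C' 2 (by norm_num) _ hw0, hnk2] at hs
    have hirr : Irreducible (X ^ 2 - C (μ ^ 2 * -ζ) : K[X]) := by
      apply X_pow_sub_C_irreducible_of_prime Nat.prime_two
      intro b hb
      exact hwns ⟨b, by rw [← hb, sq]⟩
    have hdvd : (X ^ 2 - C (μ ^ 2 * -ζ) : K[X]) ∣ (X ^ 2 - C ((μ ^ 2 * -ζ) ^ q)⁻¹) ^ k := by
      rw [hs]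
      exact dvd_pow_self _ (by omega)
    have hdvd' := hirr.prime.dvd_of_dvd_pow hdvd
    have heq := Polynomial.eq_of_monic_of_dvd_of_natDegree_le
      (monic_X_pow_sub_C _ (by norm_num)) (monic_X_pow_sub_C _ (by norm_num)) hdvd'
      (by rw [natDegree_X_pow_sub_C, natDegree_X_pow_sub_C])
    have hcoef := congrArg (fun P : K[X] => P.coeff 0) heq
    simp only [coeff_sub, coeff_X_pow, coeff_C_zero] at hcoef
    rw [if_neg (by norm_num), zero_sub, zero_sub, neg_inj] at hcoef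
    -- `w' ^ (q + 1) = 1`, so `w'` is a square
    apply hwns
    rw [FiniteField.isSquare_iff (ringChar_ne_two p hp2) hw0, card_div_two (q := q) p hp2,
      pow_mul']
    have hwq : (μ ^ 2 * -ζ) ^ q ≠ 0 := pow_ne_zero _ hw0
    have h1 : (μ ^ 2 * -ζ) ^ (q + 1) = 1 := by
      rw [pow_succ]
      nth_rewrite 2 [← hcoef]
      exact mul_inv_cancel₀ hwq
    rw [h1, one_pow]

end Cfsg.Agent.Helper8.SLU
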