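import Cfsg.Agent.Helper8.SLUb
import Cfsg.Agent.Helper8.GUUnipB

set_option autoImplicit false
set_option linter.unusedSectionVars false

/-!
Involutions modulo scalars in characteristic two.
-/

namespace Cfsg.Agent.Helper8.SLU

open Polynomial Matrix Cfsg Cfsg.Geo Cfsg.Agent.Helper8.GUOrder Cfsg.Agent.Helper8.AutSU
  Cfsg.Agent.Helper8.PSUSing Cfsg.Agent.Helper8.SUSemi Cfsg.Agent.Helper8.RegSU

section general

variable {F : Type*} [Field F] {n : ℕ}

/-- the centralizer of a non-zero square-zero matrix contains matrices of every square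
determinant. -/
theorem exists_centralizer_det_sq_zero (N : Matrix (Fin n) (Fin n) F) (hN : N * N = 0)
    (hN0 : N ≠ 0) (a : F) :
    ∃ T : Matrix (Fin n) (Fin n) F, T * N = N * T ∧ T.det = a ^ 2 := by
  obtain ⟨i, j, hij⟩ : ∃ i j, N i j ≠ 0 := by
    by_contra hcon
    push Not at hcon
    apply hN0
    ext i j
    exact hcon i j
  set s := (a - 1) / N i j with hs
  let u : Fin n → F := Pi.single j s
  let φ : Fin n → F := Pi.single i 1
  let A : Matrix (Fin n) (Fin n) F := Matrix.vecMulVec u φ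
  let X : Matrix (Fin n) (Fin 2) F := Matrix.of fun k b => ![u k, (N *ᵥ u) k] b
  let Y : Matrix (Fin 2) (Fin n) F := Matrix.of fun b l => ![(φ ᵥ* N) l, φ l] b
  have hXY : A * N + N * A = X * Y := by
    ext k l
    simp only [Matrix.add_apply, Matrix.mul_apply, Fin.sum_univ_two, X, Y, A, Matrix.of_apply,
      Matrix.cons_val_zero, Matrix.cons_val_one, Matrix.vecMulVec_apply, Matrix.mulVec,
      Matrix.vecMul, dotProduct]
    rw [Finset.mul_sum, Finset.sum_mul]
    congr 1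
    · apply Finset.sum_congr rfl
      intro m _
      ring
    · apply Finset.sum_congr rfl
      intro m _
      ring
  have hYX : (1 + Y * X).det = (1 + φ ⬝ᵥ (N *ᵥ u)) ^ 2 := by
    have h01 : (Y * X) 0 1 = 0 := by
      simp only [Matrix.mul_apply, X, Y, Matrix.of_apply, Matrix.cons_val_zero,
        Matrix.cons_val_one]
      have : (φ ᵥ* N) ⬝ᵥ (N *ᵥ u) = 0 := by
        rw [Matrix.dotProduct_mulVec, Matrix.vecMul_vecMul, hN, Matrix.vecMul_zero,
          zero_dotProduct]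
      exact this
    have h00 : (Y * X) 0 0 = φ ⬝ᵥ (N *ᵥ u) := by
      simp only [Matrix.mul_apply, X, Y, Matrix.of_apply, Matrix.cons_val_zero]
      have : (φ ᵥ* N) ⬝ᵥ u = φ ⬝ᵥ (N *ᵥ u) := (Matrix.dotProduct_mulVec φ N u).symm
      exact this
    have h11 : (Y * X) 1 1 = φ ⬝ᵥ (N *ᵥ u) := by
      simp only [Matrix.mul_apply, X, Y, Matrix.of_apply, Matrix.cons_val_one]
      rfl
    rw [Matrix.det_fin_two, Matrix.add_apply, Matrix.add_apply, Matrix.add_apply,
      Matrix.add_apply, h01, h00, h11]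
    simp only [Matrix.one_apply_eq, Matrix.one_apply_ne (show (0 : Fin 2) ≠ 1 by decide),
      Matrix.one_apply_ne (show (1 : Fin 2) ≠ 0 by decide)]
    ring
  have hval : φ ⬝ᵥ (N *ᵥ u) = a - 1 := by
    simp only [φ, u, single_dotProduct, one_mul, Matrix.mulVec_single,
      Pi.smul_apply, Matrix.col_apply]
    rw [hs, MulOpposite.smul_eq_mul_unop, MulOpposite.unop_op]
    field_simp
  refine ⟨1 + A * N + N * A, ?_, ?_⟩
  · rw [Matrix.add_mul, Matrix.add_mul, Matrix.mul_add, Matrix.mul_add, Matrix.one_mul,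
      Matrix.mul_one, Matrix.mul_assoc A N N, hN, Matrix.mul_zero, ← Matrix.mul_assoc N N A, hN,
      Matrix.zero_mul, Matrix.mul_assoc]
    abel
  · rw [add_assoc, hXY, Matrix.det_one_add_mul_comm, hYX, hval]
    ring

end general

variable {K : Type*} [Field K] [Fintype K] {q : ℕ} [hF : Fact (Fintype.card K = q ^ 2)] {n : ℕ}

/-- **involutions modulo scalars in characteristic two** are always conjugate into the
similarity group. -/
theorem fix_two_even [CharP K 2] (hn : 1 ≤ n)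
    {f : (Fin n → K) → (Fin n → K) → K} (hf : IsUnitaryFormPow q f)
    (x : GL (Fin n) K) (z : K) (hxz : (x : Matrix (Fin n) (Fin n) K) ^ 2 = z • 1)
    (hns : ∀ z : K, (x : Matrix (Fin n) (Fin n) K) ≠ z • 1) :
    ∃ g ∈ Cfsg.Geo.specialLinear (Fin n) K, g⁻¹ * x * g ∈ similarityGroup f := by
  have h2 : (2 : K) = 0 := CharTwo.two_eq_zero
  have hsqall : ∀ a : K, IsSquare a := FiniteField.isSquare_of_char_two (ringChar.eq K 2)
  have hdetx : (x : Matrix (Fin n) (Fin n) K).det ≠ 0 := by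
    have := (Matrix.isUnit_iff_isUnit_det _).mp x.isUnit
    exact this.ne_zero
  have hz0 : z ≠ 0 := by
    rintro rfl
    have := congrArg Matrix.det hxz
    have hne : Nonempty (Fin n) := ⟨⟨0, hn⟩⟩
    rw [Matrix.det_pow, zero_smul, Matrix.det_zero] at this
    exact hdetx (pow_eq_zero_iff (by norm_num) |>.mp this)
  obtain ⟨μ, hμ⟩ := hsqall z
  have hμ0 : μ ≠ 0 := by
    rintro rfl
    rw [mul_zero] at hμ
    exact hz0 hμ
  obtain ⟨xm, hxm⟩ : ∃ xm, xm = (x : Matrix (Fin n) (Fin n) K) := ⟨_, rfl⟩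
  rw [← hxm] at hxz hns hdetx
  set N : Matrix (Fin n) (Fin n) K := μ⁻¹ • xm - 1 with hNdef
  have hBB : (μ⁻¹ • xm) * (μ⁻¹ • xm) = 1 := by
    rw [Matrix.smul_mul, Matrix.mul_smul, smul_smul, ← sq xm, hxz, smul_smul, hμ]
    have : μ⁻¹ * μ⁻¹ * (μ * μ) = 1 := by field_simp
    rw [this, one_smul]
  have hNN : N * N = 0 := by
    have e1 : N * N = (μ⁻¹ • xm) * (μ⁻¹ • xm) - μ⁻¹ • xm - μ⁻¹ • xm + 1 := by
      rw [hNdef]
      generalize μ⁻¹ • xm = B
      noncomm_ring
    have e2 : (1 : Matrix (Fin n) (Fin n) K) - μ⁻¹ • xm - μ⁻¹ • xm + 1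
        = (2 : K) • ((1 : Matrix (Fin n) (Fin n) K) - μ⁻¹ • xm) := by
      rw [two_smul]
      abel
    rw [e1, hBB, e2, h2, zero_smul]
  have hN0 : N ≠ 0 := by
    intro h
    rw [hNdef, sub_eq_zero] at h
    apply hns μ
    have := congrArg (fun M => μ • M) h
    simp only [smul_smul, mul_inv_cancel₀ hμ0, one_smul] at this
    exact this
  -- conjugacy into the unitary group
  have hxi : xm * ((x⁻¹ : GL (Fin n) K) : Matrix (Fin n) (Fin n) K) = 1 := by
    rw [hxm, ← Units.val_mul, mul_inv_cancel, Units.val_one]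
  have hyy : (μ⁻¹ • xm) * (μ • ((x⁻¹ : GL (Fin n) K) : Matrix (Fin n) (Fin n) K)) = 1 := by
    rw [Matrix.smul_mul, Matrix.mul_smul, smul_smul, hxi, inv_mul_cancel₀ hμ0, one_smul]
  let y : GL (Fin n) K := ⟨μ⁻¹ • xm, μ • ((x⁻¹ : GL (Fin n) K) : Matrix (Fin n) (Fin n) K), hyy,
    mul_eq_one_comm.mp hyy⟩
  have hnil : IsNilpotent ((y : Matrix (Fin n) (Fin n) K) - 1) := ⟨2, by rw [sq]; exact hNN⟩
  obtain ⟨g', hg'⟩ := Cfsg.Agent.Helper8.GUUnip.exists_GU_conj (q := q) y hnil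
  rw [isConj_iff] at hg'
  obtain ⟨c, hc⟩ := hg'
  have hU : st (q := q) ((g' : GL (Fin n) K) : Matrix (Fin n) (Fin n) K) *
      ((g' : GL (Fin n) K) : Matrix (Fin n) (Fin n) K) = 1 :=
    (unitary_iff_st _).mp ((mem_GU_iff hF.out g'.1).mp g'.2)
  obtain ⟨P, Pi, h1, h2', hmodel⟩ := exists_model hf
  let PG : GL (Fin n) K := ⟨P, Pi, h1, h2'⟩
  have hcx : ((c * x * c⁻¹ : GL (Fin n) K) : Matrix (Fin n) (Fin n) K)
      = μ • ((g' : GL (Fin n) K) : Matrix (Fin n) (Fin n) K) := by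
    rw [← hc, Units.val_mul, Units.val_mul, Units.val_mul, Units.val_mul]
    show (c : Matrix (Fin n) (Fin n) K) * (x : Matrix (Fin n) (Fin n) K) * _ =
      μ • ((c : Matrix (Fin n) (Fin n) K) * (μ⁻¹ • xm) * _)
    rw [Matrix.mul_smul, Matrix.smul_mul, smul_smul, mul_inv_cancel₀ hμ0, one_smul, hxm]
  have hmem : (c⁻¹ * PG)⁻¹ * x * (c⁻¹ * PG) ∈ similarityGroup f := by
    rw [hmodel]
    refine ⟨μ * μ ^ q, mul_ne_zero hμ0 (pow_ne_zero _ hμ0), ?_⟩
    have hval : P * (((c⁻¹ * PG)⁻¹ * x * (c⁻¹ * PG) : GL (Fin n) K) : Matrix (Fin n) (Fin n) K) * Pi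
        = μ • ((g' : GL (Fin n) K) : Matrix (Fin n) (Fin n) K) := by
      have e1 : ((c⁻¹ * PG)⁻¹ * x * (c⁻¹ * PG) : GL (Fin n) K) = PG⁻¹ * (c * x * c⁻¹) * PG := by
        group
      rw [e1, Units.val_mul, Units.val_mul, hcx]
      show P * (Pi * (μ • ((g' : GL (Fin n) K) : Matrix (Fin n) (Fin n) K)) * P) * Pi = _
      calc P * (Pi * (μ • ((g' : GL (Fin n) K) : Matrix (Fin n) (Fin n) K)) * P) * Pi
          = (P * Pi) * (μ • ((g' : GL (Fin n) K) : Matrix (Fin n) (Fin n) K)) * (P * Pi) := by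
            simp only [Matrix.mul_assoc]
        _ = _ := by rw [h1, Matrix.one_mul, Matrix.mul_one]
    rw [hval]
    exact unitary_smul _ hU _
  -- adjusting the determinant
  refine sl_adjust _ x _ hmem ?_
  intro d hd
  obtain ⟨a, ha⟩ := hsqall d
  obtain ⟨T, hTN, hTdet⟩ := exists_centralizer_det_sq_zero N hNN hN0 a
  have hTd : T.det = d := by rw [hTdet, sq, ha]
  have hTx : T * xm = xm * T := by
    have hxN : xm = μ • (N + 1) := by
      rw [hNdef, sub_add_cancel, smul_smul, mul_inv_cancel₀ hμ0, one_smul]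
    rw [hxN, Matrix.mul_smul, Matrix.smul_mul, Matrix.mul_add, Matrix.add_mul, hTN, Matrix.mul_one,
      Matrix.one_mul]
  have hTdet0 : T.det ≠ 0 := by rw [hTd]; exact hd
  have hTT : T * T⁻¹ = 1 := Matrix.mul_nonsing_inv T (isUnit_iff_ne_zero.mpr hTdet0)
  refine ⟨⟨T, T⁻¹, hTT, mul_eq_one_comm.mp hTT⟩, ?_, hTd⟩
  rw [← hxm]
  exact hTx

end Cfsg.Agent.Helper8.SLU
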