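import Mathlib
import Cfsg.Agent.Helper8.SU3ICount
set_option autoImplicit false

/-! Involutions of `SU_3(q)`, `q` odd: the commuting involution graph. -/

namespace Cfsg.Agent.Helper8.SU3I

open Matrix Cfsg Cfsg.Agent.Helper7.Herm Cfsg.Agent.Helper8.GUOrder Cfsg.Agent.Helper8.SUCenter

/-- the shape of the commuting involution graph around `t` -/
def GraphStmt {G : Type*} [Group G] (t : G) (n1 n2 n3 : ℕ) : Prop :=
    Nat.card {x : G // x ≠ 1 ∧ x * x = 1 ∧ x ≠ t ∧ Commute t x} = n1 ∧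
    Nat.card {x : G // x ≠ 1 ∧ x * x = 1 ∧ ¬ Commute t x ∧
        ∃ y : G, y ≠ 1 ∧ y * y = 1 ∧ Commute t y ∧ Commute y x} = n2 ∧
    Nat.card {x : G // x ≠ 1 ∧ x * x = 1 ∧ ¬ Commute t x ∧
        ∀ y : G, y ≠ 1 → y * y = 1 → ¬ (Commute t y ∧ Commute y x)} = n3 ∧
    ∀ x : G, x ≠ 1 → x * x = 1 →
      ∃ y z : G, y ≠ 1 ∧ y * y = 1 ∧ z ≠ 1 ∧ z * z = 1 ∧
        Commute t y ∧ Commute y z ∧ Commute z x

section transport

variable {G : Type*} [Group G] (φ : G ≃* G)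

theorem commute_map_iff (a b : G) : Commute (φ a) (φ b) ↔ Commute a b := by
  constructor
  · intro h
    have := h.map φ.symm
    simpa using this
  · exact fun h => h.map φ

theorem ne_one_map_iff (a : G) : φ a ≠ 1 ↔ a ≠ 1 := by simp

theorem mul_self_map_iff (a : G) : φ a * φ a = 1 ↔ a * a = 1 := by
  rw [← map_mul φ a a, map_eq_one_iff φ φ.injective]

theorem ne_map_iff (a b : G) : φ a ≠ φ b ↔ a ≠ b := by simp

theorem graphStmt_map (t : G) (n1 n2 n3 : ℕ) (h : GraphStmt t n1 n2 n3) :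
    GraphStmt (φ t) n1 n2 n3 := by
  obtain ⟨h1, h2, h3, h4⟩ := h
  refine ⟨?_, ?_, ?_, ?_⟩
  · rw [← h1]
    symm
    apply Nat.card_congr
    refine Equiv.subtypeEquiv φ.toEquiv (fun x => ?_)
    show _ ↔ φ x ≠ 1 ∧ φ x * φ x = 1 ∧ φ x ≠ φ t ∧ Commute (φ t) (φ x)
    rw [ne_one_map_iff, mul_self_map_iff, ne_map_iff, commute_map_iff]
  · rw [← h2]
    symm
    apply Nat.card_congr
    refine Equiv.subtypeEquiv φ.toEquiv (fun x => ?_)
    show _ ↔ φ x ≠ 1 ∧ φ x * φ x = 1 ∧ ¬ Commute (φ t) (φ x) ∧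
      ∃ y : G, y ≠ 1 ∧ y * y = 1 ∧ Commute (φ t) y ∧ Commute y (φ x)
    have e : (∃ y : G, y ≠ 1 ∧ y * y = 1 ∧ Commute (φ t) y ∧ Commute y (φ x)) ↔
        (∃ y : G, y ≠ 1 ∧ y * y = 1 ∧ Commute t y ∧ Commute y x) :=
      (φ.surjective.exists (p := fun y => y ≠ 1 ∧ y * y = 1 ∧ Commute (φ t) y ∧
        Commute y (φ x))).trans (exists_congr fun y => by
          rw [ne_one_map_iff, mul_self_map_iff, commute_map_iff, commute_map_iff])
    rw [ne_one_map_iff, mul_self_map_iff, commute_map_iff, e]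
  · rw [← h3]
    symm
    apply Nat.card_congr
    refine Equiv.subtypeEquiv φ.toEquiv (fun x => ?_)
    show _ ↔ φ x ≠ 1 ∧ φ x * φ x = 1 ∧ ¬ Commute (φ t) (φ x) ∧
      ∀ y : G, y ≠ 1 → y * y = 1 → ¬ (Commute (φ t) y ∧ Commute y (φ x))
    have e : (∀ y : G, y ≠ 1 → y * y = 1 → ¬ (Commute (φ t) y ∧ Commute y (φ x))) ↔
        (∀ y : G, y ≠ 1 → y * y = 1 → ¬ (Commute t y ∧ Commute y x)) :=
      (φ.surjective.forall (p := fun y => y ≠ 1 → y * y = 1 → ¬ (Commute (φ t) y ∧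
        Commute y (φ x)))).trans (forall_congr' fun y => by
          rw [ne_one_map_iff, mul_self_map_iff, commute_map_iff, commute_map_iff])
    rw [ne_one_map_iff, mul_self_map_iff, commute_map_iff, e]
  · intro x hx hx2
    obtain ⟨x', rfl⟩ := φ.surjective x
    rw [ne_one_map_iff] at hx
    rw [mul_self_map_iff] at hx2
    obtain ⟨y, z, hy, hy2, hz, hz2, c1, c2, c3⟩ := h4 x' hx hx2
    refine ⟨φ y, φ z, ?_, ?_, ?_, ?_, ?_, ?_, ?_⟩
    · rwa [ne_one_map_iff]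
    · rwa [mul_self_map_iff]
    · rwa [ne_one_map_iff]
    · rwa [mul_self_map_iff]
    · rwa [commute_map_iff]
    · rwa [commute_map_iff]
    · rwa [commute_map_iff]

end transport

variable {K : Type*} [Field K] [Fintype K] {q : ℕ}

theorem graphStmt_T0 (hK : Fintype.card K = q ^ 2) (h2 : (2 : K) ≠ 0) :
    GraphStmt (T0 hK) (q * (q - 1)) (q * (q - 2) * (q ^ 2 - 1)) ((q + 1) * (q ^ 2 - 1)) := by
  have hq := two_le_q hK
  have e3 := cU3 (K := K) (q := q)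
  rw [← card_X3 hK h2] at e3
  have e0 := cU0 hK
  rw [A2_neg_one hK] at e0
  have e2 := cU2 (K := K) (q := q)
  rw [← card_X2 hK h2] at e2
  have key := arith2 q _ _ _ _ _ hq e3 e0 e2 (card_X1_add hK h2) (A2_zero hK)
  exact ⟨key.1, key.2.1, key.2.2, reach_T0 hK h2⟩

theorem graphStmt_all (hK : Fintype.card K = q ^ 2) (h2 : (2 : K) ≠ 0) (t : SU (2 + 1) K q)
    (ht : t ≠ 1) (ht2 : t * t = 1) :
    GraphStmt t (q * (q - 1)) (q * (q - 2) * (q ^ 2 - 1)) ((q + 1) * (q ^ 2 - 1)) := by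
  obtain ⟨g, hg⟩ := exists_conj_T0 hK h2 t ht ht2
  have h := graphStmt_map (MulAut.conj g) (T0 hK) _ _ _ (graphStmt_T0 hK h2)
  rw [MulAut.conj_apply, hg] at h
  exact h

end Cfsg.Agent.Helper8.SU3I
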