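import Mathlib
import Cfsg.Agent.Helper8.SUEvenMain
import Cfsg.Agent.Helper8.SU3ICent
set_option autoImplicit false

/-! Involutions of `SU_n(q)`, `q` even: conjugacy in `SU`, in `SL`, and the rank of `a - 1`. -/

namespace Cfsg.Agent.Helper8.SUEven

open Matrix Cfsg Cfsg.Agent.Helper7.Herm Cfsg.Agent.Helper8.GUOrder Cfsg.Agent.Helper8.SUCenter
open Cfsg.Agent.Helper8.SU3I

variable {K : Type*} [Field K] [Fintype K] {q : ℕ} {n : ℕ}

theorem su_conj_of_rank [CharP K 2] (hK : Fintype.card K = q ^ 2) (a b : SU n K q)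
    (ha1 : a ≠ 1) (ha2 : a * a = 1) (hb2 : b * b = 1)
    (hr : (mat a - 1).rank = (mat b - 1).rank) : IsConj a b := by
  have hA2 : mat a * mat a = 1 := by rw [← mat_mul, ha2, mat_one]
  have hB2 : mat b * mat b = 1 := by rw [← mat_mul, hb2, mat_one]
  have hA : mat a ≠ 1 := by
    intro h
    apply ha1
    apply mat_injective
    rw [h, mat_one]
  obtain ⟨g, hg, e⟩ := conj_all hK n (mat a) (mat b) (mat_unitary hK a) hA2 (mat_unitary hK b) hB2 hr
  have hδ := det_norm_of_unitary hK hg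
  have hδ0 : g.det ≠ 0 := by
    intro h0
    rw [h0, zero_mul] at hδ
    exact zero_ne_one hδ
  have hδ' : g.det⁻¹ * (g.det⁻¹) ^ q = 1 := by
    rw [inv_pow, ← mul_inv, hδ, inv_one]
  obtain ⟨z, hz, hzA, hzd⟩ := exists_cent_det hK (mat a) (mat_unitary hK a) hA2 hA _ hδ'
  have hU : (g * z)ᵀ * (g * z).map (· ^ q) = 1 := unitary_mul hK hg hz
  have hdet : (g * z).det = 1 := by
    rw [Matrix.det_mul, hzd, mul_inv_cancel₀ hδ0]
  rw [isConj_iff]
  refine ⟨mkSU hK (g * z) hU hdet, ?_⟩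
  rw [mul_inv_eq_iff_eq_mul]
  apply mat_injective
  rw [mat_mul, mat_mul, mat_mkSU, Matrix.mul_assoc, hzA, ← Matrix.mul_assoc, e, Matrix.mul_assoc]

omit [Fintype K] in
theorem rank_eq_of_sl_conj (a b : Matrix.SpecialLinearGroup (Fin n) K) (h : IsConj a b) :
    ((a : Matrix (Fin n) (Fin n) K) - 1).rank = ((b : Matrix (Fin n) (Fin n) K) - 1).rank := by
  rw [isConj_iff] at h
  obtain ⟨c, hc⟩ := h
  have h1 : (b : Matrix (Fin n) (Fin n) K) =
      (c : Matrix (Fin n) (Fin n) K) * (a : Matrix (Fin n) (Fin n) K) *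
        ((c⁻¹ : Matrix.SpecialLinearGroup (Fin n) K) : Matrix (Fin n) (Fin n) K) := by
    rw [← hc]
    rfl
  have h2 : (c : Matrix (Fin n) (Fin n) K) *
      ((c⁻¹ : Matrix.SpecialLinearGroup (Fin n) K) : Matrix (Fin n) (Fin n) K) = 1 := by
    rw [← Matrix.SpecialLinearGroup.coe_mul, mul_inv_cancel]
    rfl
  have h3 : (b : Matrix (Fin n) (Fin n) K) - 1 =
      (c : Matrix (Fin n) (Fin n) K) * ((a : Matrix (Fin n) (Fin n) K) - 1) *
        ((c⁻¹ : Matrix.SpecialLinearGroup (Fin n) K) : Matrix (Fin n) (Fin n) K) := by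
    rw [Matrix.mul_sub, Matrix.sub_mul, Matrix.mul_one, h2, h1]
  rw [h3, Matrix.rank_mul_eq_left_of_isUnit_det _ _ (by rw [(c⁻¹).2]; exact isUnit_one),
    Matrix.rank_mul_eq_right_of_isUnit_det _ _ (by rw [c.2]; exact isUnit_one)]

end Cfsg.Agent.Helper8.SUEven
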