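import Mathlib
import Cfsg.Agent.Helper8.SURootD
import Cfsg.Agent.Helper8.RootSubB

set_option autoImplicit false

/-! Unitary transvection groups `T(p)` form a degenerate class of abstract root subgroups of the
group they generate (helper8). -/

namespace Cfsg.Agent.Helper8.SURoot

open Matrix Cfsg Cfsg.Agent.Helper7.Herm Cfsg.Agent.Helper8.GUOrder Cfsg.Agent.Helper7.R1
  Cfsg.Agent.Helper8.RootSub

variable {F : Type*} [Field F] [Fintype F] {q N : ℕ} [hF : Fact (Fintype.card F = q ^ 2)]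

theorem SSU_nonempty (n : ℕ) : (SSU (n + 2) F q).Nonempty := by
  obtain ⟨ζ, hζ⟩ := exists_norm hF.out (c := (-1 : F)) (neg_ne_zero.mpr one_ne_zero)
    (neg_one_pow_q hF.out)
  have hq : q ≠ 0 := by have := one_le_q hF.out; omega
  refine ⟨RG q (Fin.cons 1 (Fin.cons ζ 0) : Fin (n + 2) → F), _, ?_, ?_, rfl⟩
  · intro h
    have := congrFun h 0
    simp at this
  · rw [hermForm_cons, hermForm_cons, one_pow, one_mul, hζ]
    have : hermForm n F q (0 : Fin n → F) 0 = 0 := hermForm_zero_left _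
    rw [this]
    ring

theorem SSU_comm : ∀ A ∈ SSU N F q, IsMulCommutative A := by
  rintro _ ⟨p, hp0, hp, rfl⟩
  exact RG_comm hp0 hp

theorem SSU_ne_bot : ∀ A ∈ SSU N F q, A ≠ ⊥ := by
  rintro _ ⟨p, hp0, hp, rfl⟩
  exact RG_ne_bot hp0 hp

theorem SSU_deg : ∀ A ∈ SSU N F q, ∀ B ∈ SSU N F q,
    ¬ (⁅A, B⁆ ∈ SSU N F q ∧ ∀ c ∈ ⁅A, B⁆, ∀ x ∈ A ⊔ B, c * x = x * c) := by
  rintro _ ⟨p, hp0, hp, rfl⟩ _ ⟨p', hp0', hp', rfl⟩
  exact not_commutatorCase hp0 hp hp0' hp'

theorem SSU_kRoot {L : Type*} [Field L] [Fintype L] (hL : Fintype.card L = q) (ι : L →+* F) :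
    ∀ A ∈ SSU N F q, ∀ B ∈ SSU N F q, IsRankOnePair A B → IsPSL2PairOver L A B := by
  rintro _ ⟨p, hp0, hp, rfl⟩ _ ⟨p', hp0', hp', rfl⟩ h
  exact isPSL2PairOver_of_form hL ι hp hp' (form_ne_of_isRankOnePair hp0 hp hp0' hp' h)

/-- a field with `q` elements in `Type`, embedded in `F`. -/
theorem exists_subfield : ∃ (L : Type) (_ : Field L) (_ : Fintype L),
    Fintype.card L = q ∧ Nonempty (L →+* F) := by
  obtain ⟨p, k, hp, hc, hk⟩ := exists_char_pow hF.out
  haveI : Fact p.Prime := ⟨hp⟩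
  haveI := hc
  have hq2 := two_le_q hF.out
  have hk0 : k ≠ 0 := by
    rintro rfl
    rw [pow_zero] at hk
    omega
  letI : Algebra (ZMod p) F := ZMod.algebra F p
  have hfr : Module.finrank (ZMod p) F = 2 * k := by
    have h1 := FiniteField.pow_finrank_eq_card p F
    rw [hF.out, hk, ← pow_mul] at h1
    have := Nat.pow_right_injective hp.two_le h1
    rw [this]; ring
  have hdvd : Module.finrank (ZMod p) (GaloisField p k) ∣ Module.finrank (ZMod p) F := by
    rw [GaloisField.finrank p hk0, hfr]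
    exact Dvd.intro_left 2 rfl
  obtain ⟨f⟩ := FiniteField.nonempty_algHom_of_finrank_dvd hdvd
  letI : Fintype (GaloisField p k) := Fintype.ofFinite _
  refine ⟨GaloisField p k, inferInstance, inferInstance, ?_, ⟨f.toRingHom⟩⟩
  rw [Fintype.card_eq_nat_card, GaloisField.card p k hk0, hk]

/-- **The unitary transvection groups form a degenerate class of abstract `k`-root subgroups of
the group they generate, with connected graph of rank one pairs.** -/
theorem main (n : ℕ) :
    IsRootSubgroupClass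
        ((fun A : Subgroup (SU (n + 2) F q) => A.subgroupOf (⨆ B ∈ SSU (n + 2) F q, B)) ''
          SSU (n + 2) F q) ∧
      IsDegenerateRootSet
        ((fun A : Subgroup (SU (n + 2) F q) => A.subgroupOf (⨆ B ∈ SSU (n + 2) F q, B)) ''
          SSU (n + 2) F q) ∧
      (∃ (L : Type) (_ : Field L) (_ : Fintype L), Fintype.card L = q ∧
        IsKRootSubgroupSet L
          ((fun A : Subgroup (SU (n + 2) F q) => A.subgroupOf (⨆ B ∈ SSU (n + 2) F q, B)) ''
            SSU (n + 2) F q)) ∧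
      IsConnectedFamily
        (FAdj ((fun A : Subgroup (SU (n + 2) F q) => A.subgroupOf (⨆ B ∈ SSU (n + 2) F q, B)) ''
          SSU (n + 2) F q))
        ((fun A : Subgroup (SU (n + 2) F q) => A.subgroupOf (⨆ B ∈ SSU (n + 2) F q, B)) ''
          SSU (n + 2) F q) := by
  have hset := isRootSubgroupSet_inside (SSU (n + 2) F q) SSU_comm SSU_ne_bot SSU_conj_mem SSU_pair
  have hconn := isConnected_inside (SSU (n + 2) F q) SSU_connected
  have hne : ((fun A : Subgroup (SU (n + 2) F q) => A.subgroupOf (⨆ B ∈ SSU (n + 2) F q, B)) ''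
      SSU (n + 2) F q).Nonempty := (SSU_nonempty n).image _
  refine ⟨⟨hset, isConjClass_of_connected hne hconn⟩,
    isDegenerate_inside (SSU (n + 2) F q) SSU_deg, ?_, hconn⟩
  obtain ⟨L, hLf, hLt, hL, ⟨ι⟩⟩ := exists_subfield (F := F) (q := q)
  exact ⟨L, hLf, hLt, hL, hset, kRoot_inside (SSU (n + 2) F q) (SSU_kRoot hL ι)⟩

end Cfsg.Agent.Helper8.SURoot
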