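import Cfsg.Agent.Helper8.SUSemiB
set_option autoImplicit false
set_option linter.unusedSectionVars false

/-!
Block diagonal matrices with two blocks, reindexed to `Fin n`.
-/

namespace Cfsg.Agent.Helper8.SUSemi

open Polynomial Matrix Cfsg Cfsg.Agent.Helper8.GUOrder Cfsg.Agent.Helper8.SUCenter
  Cfsg.Agent.Helper8.AutSU Cfsg.Agent.Helper8.PU3 Cfsg.Agent.Helper8.PSUSing
  Cfsg.Agent.Helper8.RegSU Cfsg.Agent.Helper8.Wall Cfsg.Agent.Helper8.ConjGU
  Cfsg.Agent.Helper8.SemiS

variable {K : Type*} [Field K] [Fintype K] {q : ℕ} [hF : Fact (Fintype.card K = q ^ 2)]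
variable {k₁ k₂ n : ℕ} (e : Fin k₁ ⊕ Fin k₂ ≃ Fin n)

/-- block diagonal matrices with two blocks -/
noncomputable def bd (a : Matrix (Fin k₁) (Fin k₁) K) (b : Matrix (Fin k₂) (Fin k₂) K) :
    Matrix (Fin n) (Fin n) K :=
  Matrix.reindex e e (Matrix.fromBlocks a 0 0 b)

omit [Fintype K] hF in
theorem bd_mul (a a' : Matrix (Fin k₁) (Fin k₁) K) (b b' : Matrix (Fin k₂) (Fin k₂) K) :
    bd e a b * bd e a' b' = bd e (a * a') (b * b') := by
  unfold bd
  rw [Matrix.reindex_apply, Matrix.reindex_apply, Matrix.submatrix_mul_equiv,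
    Matrix.fromBlocks_multiply, Matrix.reindex_apply]
  simp

omit [Fintype K] hF in
theorem bd_one : bd e (1 : Matrix (Fin k₁) (Fin k₁) K) (1 : Matrix (Fin k₂) (Fin k₂) K) = 1 := by
  unfold bd
  rw [Matrix.fromBlocks_one, Matrix.reindex_apply, Matrix.submatrix_one_equiv]

omit [Fintype K] hF in
theorem bd_pow (a : Matrix (Fin k₁) (Fin k₁) K) (b : Matrix (Fin k₂) (Fin k₂) K) (j : ℕ) :
    bd e a b ^ j = bd e (a ^ j) (b ^ j) := by
  induction j with
  | zero => rw [pow_zero, pow_zero, pow_zero, bd_one]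
  | succ j ih => rw [pow_succ, pow_succ, pow_succ, ih, bd_mul]

theorem st_bd (a : Matrix (Fin k₁) (Fin k₁) K) (b : Matrix (Fin k₂) (Fin k₂) K) :
    st (q := q) (bd e a b) = bd e (st (q := q) a) (st (q := q) b) := by
  unfold bd st
  ext i j
  simp only [Matrix.transpose_apply, Matrix.map_apply, Matrix.reindex_apply,
    Matrix.submatrix_apply]
  rcases e.symm i with i' | i' <;> rcases e.symm j with j' | j' <;> simp

omit [Fintype K] hF in
theorem det_bd (a : Matrix (Fin k₁) (Fin k₁) K) (b : Matrix (Fin k₂) (Fin k₂) K) :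
    (bd e a b).det = a.det * b.det := by
  unfold bd
  rw [Matrix.det_reindex_self, Matrix.det_fromBlocks_zero₂₁]

omit [Fintype K] hF in
theorem charpoly_bd (a : Matrix (Fin k₁) (Fin k₁) K) (b : Matrix (Fin k₂) (Fin k₂) K) :
    (bd e a b).charpoly = a.charpoly * b.charpoly := by
  unfold bd
  rw [Matrix.charpoly_reindex, Matrix.charpoly_fromBlocks_zero₁₂]

/-- Hilbert 90 for the field with `q ^ 2` elements -/
theorem exists_div_frob {z : K} (hz : z * z ^ q = 1) : ∃ l : K, l ≠ 0 ∧ l = l ^ q * z := by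
  obtain ⟨k, hk⟩ := exists_not_fixed (K := K) hF.out
  have hκ : IsUnit (k - frobq K q k) := by
    rw [isUnit_iff_ne_zero, frobq_apply]
    exact fun h => hk (sub_eq_zero.mp h).symm
  obtain ⟨w, hw⟩ := exists_isUnit_add_mul (frobq K q) (fun r => frobq_frobq r) z
    (by rw [frobq_apply]; exact hz) k hκ
  refine ⟨w + frobq K q w * z, hw.ne_zero, ?_⟩
  have e : (w + frobq K q w * z) ^ q = frobq K q w + w * z ^ q := by
    rw [← frobq_apply (F := K) (q := q) (w + frobq K q w * z), map_add, map_mul, frobq_frobq,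
      frobq_apply z]
  rw [e, add_mul, mul_assoc]
  have : z ^ q * z = 1 := by rw [mul_comm]; exact hz
  rw [this, mul_one, add_comm]

end Cfsg.Agent.Helper8.SUSemi
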