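import Cfsg.Agent.Helper8.SemiSSLClasses
import Cfsg.Agent.Helper8.SemiSFam
set_option autoImplicit false

/-!
The commutant of a matrix with squarefree characteristic polynomial is commutative.
-/

namespace Cfsg.Agent.Helper8.SUSemi

open Polynomial Module Matrix Cfsg.Agent.Helper8.SemiS

variable {F : Type*} [Field F]

/-- an `F`-linear map commuting with `X •` commutes with the action of every polynomial -/
theorem map_poly_smul {M : Type*} [AddCommGroup M] [Module F[X] M] [Module F M]
    [IsScalarTower F F[X] M] (y : M →ₗ[F] M)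
    (hy : ∀ m, y ((X : F[X]) • m) = (X : F[X]) • y m) (Q : F[X]) (m : M) :
    y (Q • m) = Q • y m := by
  have hC : ∀ (c : F) (u : M), (C c : F[X]) • u = c • u := by
    intro c u
    have := IsScalarTower.algebraMap_smul F[X] c u
    rwa [← Polynomial.C_eq_algebraMap] at this
  have hpow : ∀ (k : ℕ) (u : M), y ((X : F[X]) ^ k • u) = (X : F[X]) ^ k • y u := by
    intro k
    induction k with
    | zero => intro u; rw [pow_zero, one_smul, one_smul]
    | succ k ih => intro u; rw [pow_succ, mul_smul, ih, hy, mul_smul]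
  induction Q using Polynomial.induction_on' with
  | add p q hp hq => rw [add_smul, map_add, hp, hq, add_smul]
  | monomial k c =>
    rw [← C_mul_X_pow_eq_monomial, mul_smul, mul_smul, hC, hC, map_smul, hpow]

/-- `F`-linear maps commuting with `X •` on a cyclic `F[X]`-module commute -/
theorem comm_of_cyclic {M : Type*} [AddCommGroup M] [Module F[X] M] [Module F M]
    [IsScalarTower F F[X] M] (v : M) (hcyc : ∀ u : M, ∃ Q : F[X], u = Q • v)
    (S' T' : M →ₗ[F] M) (hS : ∀ m, S' ((X : F[X]) • m) = (X : F[X]) • S' m)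
    (hT : ∀ m, T' ((X : F[X]) • m) = (X : F[X]) • T' m) (u : M) :
    S' (T' u) = T' (S' u) := by
  obtain ⟨R, rfl⟩ := hcyc u
  obtain ⟨QS, hQS⟩ := hcyc (S' v)
  obtain ⟨QT, hQT⟩ := hcyc (T' v)
  rw [map_poly_smul T' hT, map_poly_smul S' hS, map_poly_smul S' hS, map_poly_smul T' hT, hQS, hQT,
    map_poly_smul S' hS, map_poly_smul T' hT, hQS, hQT, smul_comm QT QS]

theorem commute_of_squarefree_charpoly {n : ℕ} (A S T : Matrix (Fin n) (Fin n) F)
    (hA : Squarefree A.charpoly) (hS : Commute S A) (hT : Commute T A) : Commute S T := by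
  classical
  set φ : Module.End F (Fin n → F) := Matrix.toLin' A with hφ
  have k1 : aeval φ A.charpoly = 0 := by
    have := Polynomial.aeval_algHom_apply (Matrix.toLinAlgEquiv' (R := F) (n := Fin n)).toAlgHom A
      A.charpoly
    change aeval (Matrix.toLin' A) A.charpoly = Matrix.toLin' (aeval A A.charpoly) at this
    rw [hφ, this, Matrix.aeval_self_charpoly, map_zero]
  obtain ⟨d, P, hP, _, ⟨Ψ⟩⟩ := exists_model' φ A.charpoly hA k1
  have : ∀ i, Fact (P i).Monic := fun i => ⟨(hP i).1⟩
  have hprod : A.charpoly = ∏ i, P i := by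
    rw [← Matrix.charpoly_toLin']
    exact charpoly_eq_prod φ P Ψ
  -- the factors are pairwise coprime
  have hcopP : ∀ i j, i ≠ j → IsCoprime (P i) (P j) := by
    intro i j hij
    rw [Irreducible.coprime_iff_not_dvd (hP i).2]
    intro hdvd
    have hass : Associated (P i) (P j) := (hP i).2.associated_of_dvd (hP j).2 hdvd
    have heq : P i = P j := Polynomial.eq_of_monic_of_associated (hP i).1 (hP j).1 hass
    have h1 : P i * P j ∣ ∏ k, P k := by
      rw [← Finset.prod_pair hij]
      exact Finset.prod_dvd_prod_of_subset _ _ _ (Finset.subset_univ _)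
    rw [← heq, ← hprod] at h1
    exact (hP i).2.not_isUnit (hA _ h1)
  have hcop : Pairwise (Function.onFun IsCoprime fun i : Fin d => Ideal.span {P i}) := by
    intro i j hij
    exact (Ideal.isCoprime_span_singleton_iff _ _).mpr (hcopP i j hij)
  -- the cyclic vector
  let M := ∀ i : Fin d, F[X] ⧸ (F[X] ∙ P i)
  let v : M := fun i => Submodule.Quotient.mk 1
  have hcyc : ∀ u : M, ∃ Q : F[X], u = Q • v := by
    intro u
    choose x hx using fun i => Submodule.Quotient.mk_surjective _ (u i)
    obtain ⟨Q, hQ⟩ := Ideal.exists_forall_sub_mem_ideal hcop x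
    refine ⟨Q, ?_⟩
    funext i
    rw [Pi.smul_apply]
    change u i = Q • Submodule.Quotient.mk 1
    rw [← Submodule.Quotient.mk_smul, smul_eq_mul, mul_one, ← hx i, eq_comm,
      Submodule.Quotient.eq]
    exact hQ i
  let m := modelEquiv φ P Ψ
  have hXm : ∀ u : M, (X : F[X]) • u = m (φ (m.symm u)) := by
    intro u
    rw [modelEquiv_apply, LinearEquiv.apply_symm_apply]
  have key : ∀ B : Matrix (Fin n) (Fin n) F, Commute B A →
      ∀ u : M, (m.conj (Matrix.toLin' B)) ((X : F[X]) • u)
        = (X : F[X]) • (m.conj (Matrix.toLin' B)) u := by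
    intro B hB u
    rw [hXm u, hXm, LinearEquiv.conj_apply]
    simp only [LinearMap.coe_comp, LinearEquiv.coe_coe, Function.comp_apply,
      LinearEquiv.symm_apply_apply]
    congr 1
    rw [hφ, ← Matrix.toLin'_mul_apply, ← Matrix.toLin'_mul_apply, hB.eq]
  have hST : ∀ u : M, (m.conj (Matrix.toLin' S)) ((m.conj (Matrix.toLin' T)) u)
      = (m.conj (Matrix.toLin' T)) ((m.conj (Matrix.toLin' S)) u) :=
    comm_of_cyclic (M := ∀ i : Fin d, F[X] ⧸ (F[X] ∙ P i)) v hcyc (m.conj (Matrix.toLin' S))
      (m.conj (Matrix.toLin' T)) (key S hS) (key T hT)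
  rw [Commute, SemiconjBy]
  apply Matrix.toLin'.injective
  rw [Matrix.toLin'_mul, Matrix.toLin'_mul]
  apply LinearMap.ext
  intro w
  have h3 := hST (m w)
  rw [LinearEquiv.conj_apply, LinearEquiv.conj_apply] at h3
  simp only [LinearMap.coe_comp, LinearEquiv.coe_coe, Function.comp_apply,
    LinearEquiv.symm_apply_apply] at h3
  exact m.injective h3

end Cfsg.Agent.Helper8.SUSemi
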