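import Cfsg.Agent.Helper8.SUSemiC
import Cfsg.Agent.Helper8.SUSemiD
set_option autoImplicit false
set_option linter.unusedSectionVars false

/-!
The determinant is surjective from the centraliser of a semisimple element of `GU_n(q)` onto the
norm-one group.
-/

namespace Cfsg.Agent.Helper8.SUSemi

open Polynomial Matrix Cfsg Cfsg.Agent.Helper8.GUOrder Cfsg.Agent.Helper8.SUCenter
  Cfsg.Agent.Helper8.AutSU Cfsg.Agent.Helper8.PU3 Cfsg.Agent.Helper8.PSUSing
  Cfsg.Agent.Helper8.RegSU Cfsg.Agent.Helper8.Wall Cfsg.Agent.Helper8.ConjGU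
  Cfsg.Agent.Helper8.SemiS

variable {K : Type*} [Field K] [Fintype K] {q : ℕ} [hF : Fact (Fintype.card K = q ^ 2)]

omit hF in
theorem squarefree_of_coprime (p : ℕ) [Fact p.Prime] [CharP K p] (N : ℕ) (hN : N.Coprime p) :
    Squarefree (X ^ N - 1 : K[X]) := by
  have hp : p.Prime := Fact.out
  have hm : ((N : ℕ) : K) ≠ 0 := by
    intro h0
    have h1 := (CharP.cast_eq_zero_iff K p N).mp h0
    have h2 : p ∣ Nat.gcd N p := Nat.dvd_gcd h1 dvd_rfl
    rw [hN] at h2
    exact hp.one_lt.ne' (Nat.dvd_one.mp h2)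
  have := Polynomial.separable_X_pow_sub_C (1 : K) hm one_ne_zero
  rw [map_one] at this
  exact this.squarefree

/-- a unitary element commuting with a squarefree-charpoly unitary block, of given norm-one
determinant -/
theorem exists_block_det {k : ℕ} (hk : 1 ≤ k) (U : Matrix (Fin k) (Fin k) K)
    (hU : st (q := q) U * U = 1) (hsq : Squarefree U.charpoly) (z : K) (hz : z * z ^ q = 1) :
    ∃ y : Matrix (Fin k) (Fin k) K, st (q := q) y * y = 1 ∧ y * U = U * y ∧ y.det = z := by
  have hU' : U * st (q := q) U = 1 := mul_eq_one_comm.mp hU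
  obtain ⟨l, hl0, hl⟩ := exists_div_frob (q := q) hz
  obtain ⟨T, hT1, hT2⟩ := exists_centralizer_det hk U U.charpoly hsq
    (Matrix.aeval_self_charpoly U) l hl0
  set Tm : Matrix (Fin k) (Fin k) K := (T : Matrix (Fin k) (Fin k) K) with hTm
  set Ti : Matrix (Fin k) (Fin k) K := ((T⁻¹ : GL (Fin k) K) : Matrix (Fin k) (Fin k) K) with hTi
  have hT3 : Tm * Ti = 1 := by
    rw [hTm, hTi, ← Units.val_mul, mul_inv_cancel, Units.val_one]
  have hT4 : Ti * Tm = 1 := mul_eq_one_comm.mp hT3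
  have hs3 : st (q := q) Ti * st (q := q) Tm = 1 := by rw [← st_mul, hT3, st_one]
  have hs4 : st (q := q) Tm * st (q := q) Ti = 1 := by rw [← st_mul, hT4, st_one]
  have hTU : Commute Tm U := hT1
  -- `st Tm` commutes with `U`
  have hsTU : Commute (st (q := q) Tm) U := by
    have h1 : Commute (st (q := q) Tm) (st (q := q) U) := st_commute hTU
    exact commute_inv_of_commute hU hU' h1
  have hnorm : Commute Tm (st (q := q) Tm) :=
    commute_of_squarefree_charpoly U Tm (st (q := q) Tm) hsq hTU hsTU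
  have hsTiU : Commute (st (q := q) Ti) U := by
    have := commute_inv_of_commute hs4 hs3 hsTU.symm
    exact this.symm
  refine ⟨Tm * st (q := q) Ti, ?_, ?_, ?_⟩
  · rw [st_mul, st_st]
    calc Ti * st (q := q) Tm * (Tm * st (q := q) Ti)
        = Ti * (st (q := q) Tm * Tm) * st (q := q) Ti := by simp only [Matrix.mul_assoc]
      _ = Ti * (Tm * st (q := q) Tm) * st (q := q) Ti := by rw [hnorm.eq]
      _ = (Ti * Tm) * (st (q := q) Tm * st (q := q) Ti) := by simp only [Matrix.mul_assoc]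
      _ = 1 := by rw [hT4, hs4, Matrix.one_mul]
  · calc Tm * st (q := q) Ti * U = Tm * (st (q := q) Ti * U) := by rw [Matrix.mul_assoc]
      _ = Tm * (U * st (q := q) Ti) := by rw [hsTiU.eq]
      _ = (Tm * U) * st (q := q) Ti := by rw [Matrix.mul_assoc]
      _ = U * (Tm * st (q := q) Ti) := by rw [hTU.eq, Matrix.mul_assoc]
  · rw [Matrix.det_mul, det_st, hT2]
    have hdi : Ti.det = l⁻¹ := by
      have := congrArg Matrix.det hT3
      rw [Matrix.det_mul, hT2, Matrix.det_one] at this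
      exact eq_inv_of_mul_eq_one_right this
    rw [hdi, inv_pow]
    have hlq : l ^ q ≠ 0 := pow_ne_zero q hl0
    field_simp
    exact hl

/-- the determinant maps the centraliser of a semisimple unitary matrix onto the norm-one group -/
theorem exists_unitary_centralizer_det (p : ℕ) [Fact p.Prime] [CharP K p] {n : ℕ} (hn : 1 ≤ n)
    (G : GL (Fin n) K)
    (hG : st (q := q) (G : Matrix (Fin n) (Fin n) K) * (G : Matrix (Fin n) (Fin n) K) = 1)
    (hord : (orderOf G).Coprime p) (z : K) (hz : z * z ^ q = 1) :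
    ∃ y : Matrix (Fin n) (Fin n) K, st (q := q) y * y = 1 ∧
      y * (G : Matrix (Fin n) (Fin n) K) = (G : Matrix (Fin n) (Fin n) K) * y ∧ y.det = z := by
  set Gm : Matrix (Fin n) (Fin n) K := (G : Matrix (Fin n) (Fin n) K) with hGm
  set f := Gm.charpoly with hf
  have hfm : f.Monic := Matrix.charpoly_monic _
  have hfd : f.natDegree = n := by
    rw [hf, Matrix.charpoly_natDegree_eq_dim, Fintype.card_fin]
  have hf0 : f.coeff 0 ≠ 0 := by
    intro h0
    have h3 := Matrix.det_eq_sign_charpoly_coeff Gm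
    rw [← hf, h0, mul_zero] at h3
    have h4 := (Matrix.isUnit_iff_isUnit_det Gm).mp ⟨G, rfl⟩
    exact h4.ne_zero h3
  have hfs : ustar (q := q) f = f := ustar_charpoly_of_unitary G hG
  obtain ⟨f₁, f₂, hff, hf₁m, hf₂m, hsq, hd1, hs1, hs2⟩ :=
    exists_split hfm hf0 hfs (by omega)
  have hc0 : f₁.coeff 0 * f₂.coeff 0 ≠ 0 := by
    rw [← Polynomial.mul_coeff_zero, ← hff]
    exact hf0
  have h10 : f₁.coeff 0 ≠ 0 := left_ne_zero_of_mul hc0
  have h20 : f₂.coeff 0 ≠ 0 := right_ne_zero_of_mul hc0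
  have hk : f₁.natDegree + f₂.natDegree = n := by
    rw [← hfd, hff, hf₁m.natDegree_mul hf₂m]
  obtain ⟨U₁, hU₁, hU₁c, hU₁o⟩ :=
    exists_unitary_realization (q := q) p f₁.natDegree f₁ hf₁m rfl h10 hs1
  obtain ⟨U₂, hU₂, hU₂c, hU₂o⟩ :=
    exists_unitary_realization (q := q) p f₂.natDegree f₂ hf₂m rfl h20 hs2
  let e : Fin f₁.natDegree ⊕ Fin f₂.natDegree ≃ Fin n := finSumFinEquiv.trans (finCongr hk)
  set G' : Matrix (Fin n) (Fin n) K :=
    bd e (U₁ : Matrix (Fin f₁.natDegree) (Fin f₁.natDegree) K)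
      (U₂ : Matrix (Fin f₂.natDegree) (Fin f₂.natDegree) K) with hG'def
  have hG' : st (q := q) G' * G' = 1 := by
    rw [hG'def, st_bd, bd_mul, hU₁, hU₂, bd_one]
  have hG'c : G'.charpoly = f := by
    rw [hG'def, charpoly_bd, hU₁c, hU₂c, hff]
  -- squarefree annihilators
  have hsqG := squarefree_of_coprime (K := K) p (orderOf G) hord
  have hkG : aeval Gm (X ^ orderOf G - 1 : K[X]) = 0 := by
    rw [map_sub, map_pow, aeval_X, map_one, hGm, ← Units.val_pow_eq_pow_val, pow_orderOf_eq_one,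
      Units.val_one, sub_self]
  have hsqG' := squarefree_of_coprime (K := K) p (orderOf U₁ * orderOf U₂)
    (Nat.Coprime.mul_left hU₁o hU₂o)
  have hkG' : aeval G' (X ^ (orderOf U₁ * orderOf U₂) - 1 : K[X]) = 0 := by
    rw [map_sub, map_pow, aeval_X, map_one, hG'def, bd_pow]
    have e1 : (U₁ : Matrix (Fin f₁.natDegree) (Fin f₁.natDegree) K) ^ (orderOf U₁ * orderOf U₂)
        = 1 := by
      rw [← Units.val_pow_eq_pow_val, pow_mul, pow_orderOf_eq_one, one_pow, Units.val_one]
    have e2 : (U₂ : Matrix (Fin f₂.natDegree) (Fin f₂.natDegree) K) ^ (orderOf U₁ * orderOf U₂)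
        = 1 := by
      rw [← Units.val_pow_eq_pow_val, mul_comm, pow_mul, pow_orderOf_eq_one, one_pow,
        Units.val_one]
    rw [e1, e2, bd_one, sub_self]
  obtain ⟨x, hx⟩ := exists_conj_of_charpoly_eq Gm G' _ _ hsqG hsqG' hkG hkG' hG'c.symm
  have hx1 : (x : Matrix (Fin n) (Fin n) K) * ((x⁻¹ : GL (Fin n) K) : Matrix (Fin n) (Fin n) K)
      = 1 := by
    rw [← Units.val_mul, mul_inv_cancel, Units.val_one]
  have hx2 : ((x⁻¹ : GL (Fin n) K) : Matrix (Fin n) (Fin n) K) * (x : Matrix (Fin n) (Fin n) K)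
      = 1 := mul_eq_one_comm.mp hx1
  have hxG : (x : Matrix (Fin n) (Fin n) K) * Gm = G' * (x : Matrix (Fin n) (Fin n) K) := by
    rw [← hx, Matrix.mul_assoc, hx2, Matrix.mul_one]
  obtain ⟨Y, hY, hYc⟩ := exists_unitary_conj_of_conj (q := q) Gm G' _ _ hG hG' hx1 hxG
  have hY' : Y * st (q := q) Y = 1 := mul_eq_one_comm.mp hY
  -- the first block
  have hsqU₁ : Squarefree (U₁ : Matrix (Fin f₁.natDegree) (Fin f₁.natDegree) K).charpoly := by
    rw [hU₁c]; exact hsq
  obtain ⟨y₁, hy₁u, hy₁c, hy₁d⟩ := exists_block_det (q := q) hd1 _ hU₁ hsqU₁ z hz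
  set y' : Matrix (Fin n) (Fin n) K :=
    bd e y₁ (1 : Matrix (Fin f₂.natDegree) (Fin f₂.natDegree) K) with hy'def
  have hy'u : st (q := q) y' * y' = 1 := by
    rw [hy'def, st_bd, bd_mul, hy₁u, st_one, Matrix.one_mul, bd_one]
  have hy'c : y' * G' = G' * y' := by
    rw [hy'def, hG'def, bd_mul, bd_mul, hy₁c, Matrix.one_mul, Matrix.mul_one]
  have hy'd : y'.det = z := by
    rw [hy'def, det_bd, hy₁d, Matrix.det_one, mul_one]
  have hGY : Gm * st (q := q) Y = st (q := q) Y * G' := by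
    calc Gm * st (q := q) Y = (st (q := q) Y * Y) * (Gm * st (q := q) Y) := by
          rw [hY, Matrix.one_mul]
      _ = st (q := q) Y * (Y * Gm) * st (q := q) Y := by simp only [Matrix.mul_assoc]
      _ = st (q := q) Y * (G' * Y) * st (q := q) Y := by rw [hYc]
      _ = st (q := q) Y * G' * (Y * st (q := q) Y) := by simp only [Matrix.mul_assoc]
      _ = st (q := q) Y * G' := by rw [hY', Matrix.mul_one]
  refine ⟨st (q := q) Y * y' * Y, ?_, ?_, ?_⟩
  · rw [st_mul, st_mul, st_st]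
    calc st (q := q) Y * (st (q := q) y' * Y) * (st (q := q) Y * y' * Y)
        = st (q := q) Y * st (q := q) y' * (Y * st (q := q) Y) * y' * Y := by
          simp only [Matrix.mul_assoc]
      _ = st (q := q) Y * (st (q := q) y' * y') * Y := by
          rw [hY', Matrix.mul_one]; simp only [Matrix.mul_assoc]
      _ = 1 := by rw [hy'u, Matrix.mul_one, hY]
  · calc st (q := q) Y * y' * Y * Gm = st (q := q) Y * y' * (Y * Gm) := by
          rw [Matrix.mul_assoc]
      _ = st (q := q) Y * (y' * G') * Y := by rw [hYc]; simp only [Matrix.mul_assoc]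
      _ = (st (q := q) Y * G') * y' * Y := by rw [hy'c]; simp only [Matrix.mul_assoc]
      _ = Gm * (st (q := q) Y * y' * Y) := by rw [← hGY]; simp only [Matrix.mul_assoc]
  · rw [Matrix.det_mul, Matrix.det_mul, hy'd]
    have := congrArg Matrix.det hY
    rw [Matrix.det_mul, Matrix.det_one] at this
    rw [mul_comm _ z, mul_assoc, this, mul_one]

end Cfsg.Agent.Helper8.SUSemi
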