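import Cfsg.Agent.Helper8.SUSemiE
set_option autoImplicit false
set_option linter.unusedSectionVars false

/-!
Counting fixed points of semilinear involutions, and Hermitian-palindromic polynomials.
-/

namespace Cfsg.Agent.Helper8.SUSemi

open Polynomial Matrix Cfsg Cfsg.Agent.Helper8.GUOrder Cfsg.Agent.Helper8.SUCenter
  Cfsg.Agent.Helper8.AutSU Cfsg.Agent.Helper8.PU3 Cfsg.Agent.Helper8.PSUSing
  Cfsg.Agent.Helper8.RegSU

variable {K : Type*} [Field K] [Fintype K] {q : ℕ} [hF : Fact (Fintype.card K = q ^ 2)]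

/-- Galois descent, counting version: a `q`-semilinear involution of `K ^ I` has `q ^ |I|` fixed
points -/
theorem card_fix_semilinear {I : Type*} [Fintype I] (θ : (I → K) → (I → K))
    (hadd : ∀ a b, θ (a + b) = θ a + θ b) (hsm : ∀ (c : K) a, θ (c • a) = c ^ q • θ a)
    (hinv : ∀ a, θ (θ a) = a) :
    Nat.card {w : I → K // θ w = w} = q ^ Fintype.card I := by
  classical
  have hzero : θ 0 = 0 := by
    have h := hadd 0 0
    rw [add_zero] at h
    exact left_eq_add.mp h
  have hneg : ∀ a, θ (-a) = -θ a := by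
    intro a
    have h := hadd a (-a)
    rw [add_neg_cancel, hzero] at h
    exact eq_neg_of_add_eq_zero_right h.symm
  have hsub : ∀ a b, θ (a - b) = θ a - θ b := by
    intro a b
    rw [sub_eq_add_neg, hadd, hneg, sub_eq_add_neg]
  obtain ⟨k, hk⟩ := exists_not_fixed (K := K) hF.out
  have hk' : k - k ^ q ≠ 0 := fun h => hk (sub_eq_zero.mp h).symm
  have hkq : (k ^ q) ^ q = k := by rw [← pow_mul, ← sq]; exact pow_qsq k
  let Fix := {w : I → K // θ w = w}
  have hbij : Function.Bijective (fun uv : Fix × Fix => uv.1.1 + k • uv.2.1) := by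
    constructor
    · rintro ⟨⟨u, hu⟩, ⟨v, hv⟩⟩ ⟨⟨u', hu'⟩, ⟨v', hv'⟩⟩ h
      change u + k • v = u' + k • v' at h
      have h2 := congrArg θ h
      rw [hadd, hadd, hsm, hsm, hu, hv, hu', hv'] at h2
      have h3 : (k - k ^ q) • (v - v') = 0 := by
        have e : (k - k ^ q) • (v - v') = (u + k • v) - (u + k ^ q • v)
            - ((u' + k • v') - (u' + k ^ q • v')) := by
          rw [sub_smul, smul_sub, smul_sub]; abel
        rw [e, h, h2, sub_self]
      have h4 : v = v' := by
        rcases smul_eq_zero.mp h3 with h5 | h5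
        · exact absurd h5 hk'
        · exact sub_eq_zero.mp h5
      subst h4
      have h6 : u = u' := add_right_cancel h
      subst h6
      rfl
    · intro w
      set v₀ : I → K := (k - k ^ q)⁻¹ • (w - θ w) with hv₀
      have hv : θ v₀ = v₀ := by
        rw [hv₀, hsm, hsub, hinv, inv_pow]
        have e1 : (k - k ^ q) ^ q = k ^ q - k := by
          rw [← frobq_apply (F := K) (q := q) (k - k ^ q), map_sub, frobq_apply, frobq_apply, hkq]
        rw [e1]
        have e2 : k ^ q - k = -(k - k ^ q) := by ring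
        have e3 : θ w - w = -(w - θ w) := by abel
        rw [e2, e3, inv_neg, neg_smul, smul_neg, neg_neg]
      have hrel : (k - k ^ q) • v₀ = w - θ w := by
        rw [hv₀, smul_smul, mul_inv_cancel₀ hk', one_smul]
      have hu : θ (w - k • v₀) = w - k • v₀ := by
        rw [hsub, hsm, hv]
        have : w - θ w = k • v₀ - k ^ q • v₀ := by rw [← hrel, sub_smul]
        have e : θ w - k ^ q • v₀ = w - k • v₀ - ((w - θ w) - (k • v₀ - k ^ q • v₀)) := by abel
        rw [e, this, sub_self, sub_zero]
      refine ⟨(⟨w - k • v₀, hu⟩, ⟨v₀, hv⟩), ?_⟩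
      change w - k • v₀ + k • v₀ = w
      abel
  have hcard := Nat.card_congr (Equiv.ofBijective _ hbij)
  rw [Nat.card_prod, Nat.card_eq_fintype_card (α := I → K), Fintype.card_fun, hF.out,
    ← pow_mul, mul_comm 2, pow_mul, ← sq] at hcard
  exact Nat.pow_left_injective (n := 2) (by norm_num) hcard

end Cfsg.Agent.Helper8.SUSemi
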