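import Cfsg.Agent.Helper8.SUSemiF
set_option autoImplicit false
set_option linter.unusedSectionVars false

/-!
Counting Hermitian-palindromic polynomials.
-/

namespace Cfsg.Agent.Helper8.SUSemi

open Polynomial Matrix Cfsg Cfsg.Agent.Helper8.GUOrder Cfsg.Agent.Helper8.SUCenter
  Cfsg.Agent.Helper8.AutSU Cfsg.Agent.Helper8.PU3 Cfsg.Agent.Helper8.PSUSing
  Cfsg.Agent.Helper8.RegSU

variable {K : Type*} [Field K] [Fintype K] {q : ℕ} [hF : Fact (Fintype.card K = q ^ 2)]

/-- Hermitian-palindromic polynomials of degree `n` with constant coefficient `(-1) ^ n` -/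
abbrev HPal (K : Type*) [Field K] (q n : ℕ) : Type _ :=
  {f : K[X] // f.Monic ∧ f.natDegree = n ∧
    ∀ k ≤ n, f.coeff k = (-1) ^ n * (f.coeff (n - k)) ^ q}

theorem neg_one_pow_q (n : ℕ) : ((-1 : K) ^ n) ^ q = (-1) ^ n := by
  rw [← frobq_apply (F := K) (q := q) ((-1 : K) ^ n), map_pow, map_neg, map_one]

theorem neg_one_pow_mul_self (n : ℕ) : ((-1 : K) ^ n) * ((-1 : K) ^ n) = 1 := by
  rw [← pow_add, ← two_mul, pow_mul, neg_one_sq, one_pow]

/-- the coefficients of the polynomial with given middle coefficients -/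
def hc (N : ℕ) (w : Fin N → K) (k : ℕ) : K :=
  if k = 0 then (-1) ^ (N + 1) else if k = N + 1 then 1
    else if h : k - 1 < N then w ⟨k - 1, h⟩ else 0

/-- the polynomial with given middle coefficients -/
noncomputable def hpoly (N : ℕ) (w : Fin N → K) : K[X] :=
  ∑ k ∈ Finset.range (N + 2), monomial k (hc N w k)

omit [Fintype K] hF in
theorem hc_big (N : ℕ) (w : Fin N → K) (k : ℕ) (hk : N + 1 < k) : hc N w k = 0 := by
  unfold hc
  rw [if_neg (by omega), if_neg (by omega), dif_neg (by omega)]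

omit [Fintype K] hF in
theorem coeff_hpoly (N : ℕ) (w : Fin N → K) (k : ℕ) : (hpoly N w).coeff k = hc N w k := by
  unfold hpoly
  rw [finsetSum_coeff]
  simp only [coeff_monomial]
  by_cases hk : k ≤ N + 1
  · rw [Finset.sum_eq_single k]
    · rw [if_pos rfl]
    · intro b _ hb
      rw [if_neg hb]
    · intro h
      exact absurd (Finset.mem_range.mpr (by omega)) h
  · rw [hc_big N w k (by omega)]
    apply Finset.sum_eq_zero
    intro b hb
    rw [if_neg]
    have := Finset.mem_range.mp hb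
    omega

omit [Fintype K] hF in
theorem natDegree_hpoly (N : ℕ) (w : Fin N → K) : (hpoly N w).natDegree = N + 1 := by
  apply le_antisymm
  · rw [natDegree_le_iff_coeff_eq_zero]
    intro M hM
    rw [coeff_hpoly, hc_big N w M hM]
  · apply le_natDegree_of_ne_zero
    rw [coeff_hpoly]
    unfold hc
    rw [if_neg (by omega), if_pos rfl]
    exact one_ne_zero

omit [Fintype K] hF in
theorem monic_hpoly (N : ℕ) (w : Fin N → K) : (hpoly N w).Monic := by
  unfold Monic leadingCoeff
  rw [natDegree_hpoly, coeff_hpoly]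
  unfold hc
  rw [if_neg (by omega), if_pos rfl]

omit [Fintype K] hF in
theorem hc_mid (N : ℕ) (w : Fin N → K) (i : Fin N) : hc N w (i + 1) = w i := by
  unfold hc
  have hi := i.2
  rw [if_neg (by omega), if_neg (by omega), dif_pos (by omega)]
  rfl

theorem card_hpal (n : ℕ) (hn : 1 ≤ n) : Nat.card (HPal K q n) = q ^ (n - 1) := by
  classical
  obtain ⟨N, rfl⟩ : ∃ N, n = N + 1 := ⟨n - 1, by omega⟩
  rw [Nat.add_sub_cancel]
  set ε : K := (-1) ^ (N + 1) with hε
  have hεq : ε ^ q = ε := neg_one_pow_q (N + 1)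
  have hεε : ε * ε = 1 := neg_one_pow_mul_self (N + 1)
  let θ : (Fin N → K) → (Fin N → K) := fun w i => ε * (w (Fin.rev i)) ^ q
  have hadd : ∀ a b, θ (a + b) = θ a + θ b := by
    intro a b
    funext i
    change ε * (a (Fin.rev i) + b (Fin.rev i)) ^ q
      = ε * (a (Fin.rev i)) ^ q + ε * (b (Fin.rev i)) ^ q
    rw [← frobq_apply (F := K) (q := q) (a (Fin.rev i) + b (Fin.rev i)), map_add, frobq_apply,
      frobq_apply, mul_add]
  have hsm : ∀ (c : K) a, θ (c • a) = c ^ q • θ a := by
    intro c a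
    funext i
    change ε * (c * a (Fin.rev i)) ^ q = c ^ q * (ε * (a (Fin.rev i)) ^ q)
    rw [mul_pow]
    ring
  have hinv : ∀ a, θ (θ a) = a := by
    intro a
    funext i
    change ε * (ε * (a (Fin.rev (Fin.rev i))) ^ q) ^ q = a i
    rw [Fin.rev_rev, mul_pow, hεq, ← pow_mul, ← sq, pow_qsq, ← mul_assoc, hεε, one_mul]
  rw [← Fintype.card_fin N, ← card_fix_semilinear (q := q) θ hadd hsm hinv, Fintype.card_fin]
  apply Nat.card_congr
  refine Equiv.ofBijective
    (fun f => (⟨fun i => f.1.coeff (i + 1), ?_⟩ : {w : Fin N → K // θ w = w})) ⟨?_, ?_⟩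
  · -- fixed
    obtain ⟨f, hfm, hfd, hfc⟩ := f
    funext i
    change ε * (f.coeff ((Fin.rev i : Fin N) + 1)) ^ q = f.coeff (i + 1)
    have hi := i.2
    have h1 := hfc (i + 1) (by omega)
    rw [h1]
    congr 3
    rw [Fin.val_rev]
    omega
  · -- injective
    rintro ⟨f₁, hm₁, hd₁, hc₁⟩ ⟨f₂, hm₂, hd₂, hc₂⟩ h
    apply Subtype.ext
    change f₁ = f₂
    have h' : ∀ i : Fin N, f₁.coeff (i + 1) = f₂.coeff (i + 1) :=
      fun i => congrFun (congrArg Subtype.val h) i
    have t1 : f₁.coeff (N + 1) = 1 := by rw [← hd₁]; exact hm₁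
    have t2 : f₂.coeff (N + 1) = 1 := by rw [← hd₂]; exact hm₂
    ext k
    rcases Nat.eq_zero_or_pos k with rfl | hk0
    · have e1 := hc₁ 0 (by omega)
      have e2 := hc₂ 0 (by omega)
      rw [Nat.sub_zero, t1] at e1
      rw [Nat.sub_zero, t2] at e2
      rw [e1, e2]
    · by_cases hk : k ≤ N
      · have := h' ⟨k - 1, by omega⟩
        simp only at this
        rwa [Nat.sub_add_cancel hk0] at this
      · by_cases hk2 : k = N + 1
        · rw [hk2, t1, t2]
        · rw [coeff_eq_zero_of_natDegree_lt (by omega), coeff_eq_zero_of_natDegree_lt (by omega)]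
  · -- surjective
    rintro ⟨w, hw⟩
    have hw' : ∀ i : Fin N, ε * (w (Fin.rev i)) ^ q = w i := fun i => congrFun hw i
    refine ⟨⟨hpoly N w, monic_hpoly N w, natDegree_hpoly N w, ?_⟩, ?_⟩
    · intro k hk
      rw [coeff_hpoly, coeff_hpoly]
      rcases Nat.eq_zero_or_pos k with rfl | hk0
      · rw [Nat.sub_zero]
        unfold hc
        rw [if_pos rfl, if_neg (by omega), if_pos rfl, one_pow, mul_one]
      · by_cases hk2 : k = N + 1
        · rw [hk2, Nat.sub_self]
          unfold hc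
          rw [if_neg (by omega), if_pos rfl, if_pos rfl, ← hε, hεq, hεε]
        · have hkN : k ≤ N := by omega
          have e1 : k = ((⟨k - 1, by omega⟩ : Fin N) : ℕ) + 1 := by
            simp only; omega
          have e2 : N + 1 - k = ((Fin.rev (⟨k - 1, by omega⟩ : Fin N) : Fin N) : ℕ) + 1 := by
            rw [Fin.val_rev]; simp only; omega
          rw [e2, hc_mid]
          conv_lhs => rw [e1, hc_mid]
          exact (hw' _).symm
    · apply Subtype.ext
      funext i
      change (hpoly N w).coeff (i + 1) = w i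
      rw [coeff_hpoly, hc_mid]

end Cfsg.Agent.Helper8.SUSemi
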