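import Mathlib

set_option autoImplicit false

/-!
Second maximal subgroups: if the primitive action of `G` on the cosets of a maximal subgroup `M`
of index `n` has image containing the alternating group, then `G` contains elements inducing any
prescribed 3-cycle on `G ⧸ M`.
-/

namespace Cfsg.Agent.Helper8.SecMax

open MulAction

variable {G : Type*} [Group G] [Finite G]

theorem nontrivial_quotient (M : Subgroup G) (hM : IsCoatom M) : Nontrivial (G ⧸ M) := by
  rw [← Finite.one_lt_card_iff_nontrivial, ← Subgroup.index_eq_card]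
  have h1 : M.index ≠ 1 := by
    intro h
    exact hM.1 (Subgroup.index_eq_one.mp h)
  have h0 : M.index ≠ 0 := Subgroup.index_ne_zero_of_finite
  omega

theorem isPreprimitive_quotient (M : Subgroup G) (hM : IsCoatom M) :
    IsPreprimitive G (G ⧸ M) := by
  have := nontrivial_quotient M hM
  rw [← isCoatom_stabilizer_iff_preprimitive G ((1 : G) : G ⧸ M), stabilizer_quotient]
  exact hM

/-- `G` contains elements acting as any given 3-cycle on `G ⧸ M`. -/
theorem exists_three_cycle (n : ℕ)
    (hA : ∀ P : Subgroup (Equiv.Perm (Fin n)), MulAction.IsPreprimitive P (Fin n) →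
      alternatingGroup (Fin n) ≤ P)
    (M : Subgroup G) (hM : IsCoatom M) (hn : M.index = n) (a b c : G ⧸ M)
    (hab : a ≠ b) (hac : a ≠ c) (hbc : b ≠ c) :
    ∃ g : G, g • a = c ∧ g • c = b ∧ g • b = a ∧
      ∀ x : G ⧸ M, x ≠ a → x ≠ b → x ≠ c → g • x = x := by
  classical
  have hcard : Nat.card (G ⧸ M) = n := by rw [← hn, Subgroup.index_eq_card]
  let e : (G ⧸ M) ≃ Fin n := Finite.equivFinOfCardEq hcard
  have hprim : IsPreprimitive G (G ⧸ M) := isPreprimitive_quotient M hM
  let φ : G →* Equiv.Perm (G ⧸ M) := MulAction.toPermHom G (G ⧸ M)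
  let ψ : Equiv.Perm (G ⧸ M) ≃* Equiv.Perm (Fin n) := e.permCongrHom
  let P : Subgroup (Equiv.Perm (Fin n)) := (φ.range).map ψ.toMonoidHom
  let ρ : G → P := fun g => ⟨ψ (φ g), Subgroup.mem_map_of_mem _ ⟨g, rfl⟩⟩
  let f : (G ⧸ M) →ₑ[ρ] Fin n :=
    { toFun := e
      map_smul' := fun g x => by
        show e (g • x) = (ψ (φ g)) (e x)
        simp [ψ, φ, Equiv.permCongrHom] }
  have hP : IsPreprimitive P (Fin n) :=
    MulAction.IsPreprimitive.of_surjective (f := f) e.surjective
  have hAP := hA P hP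
  have h3 : (Equiv.swap (e a) (e b) * Equiv.swap (e a) (e c)).IsThreeCycle :=
    Equiv.Perm.isThreeCycle_swap_mul_swap_same (e.injective.ne hab) (e.injective.ne hac)
      (e.injective.ne hbc)
  have hmem : Equiv.swap (e a) (e b) * Equiv.swap (e a) (e c) ∈ P :=
    hAP h3.mem_alternatingGroup
  obtain ⟨p, ⟨g, rfl⟩, hg⟩ := hmem
  have key : ∀ x : G ⧸ M, e (g • x) = (Equiv.swap (e a) (e b) * Equiv.swap (e a) (e c)) (e x) := by
    intro x
    rw [← hg]
    simp [ψ, φ, Equiv.permCongrHom]
  refine ⟨g, ?_, ?_, ?_, ?_⟩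
  · apply e.injective
    rw [key]
    simp [Equiv.swap_apply_of_ne_of_ne (e.injective.ne hac).symm (e.injective.ne hbc).symm]
  · apply e.injective
    rw [key]
    simp
  · apply e.injective
    rw [key]
    simp [Equiv.swap_apply_of_ne_of_ne (e.injective.ne hab).symm (e.injective.ne hbc)]
  · intro x hxa hxb hxc
    apply e.injective
    rw [key]
    simp [Equiv.swap_apply_of_ne_of_ne (e.injective.ne hxa) (e.injective.ne hxc),
      Equiv.swap_apply_of_ne_of_ne (e.injective.ne hxa) (e.injective.ne hxb)]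

end Cfsg.Agent.Helper8.SecMax
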