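import Mathlib
import Cfsg.Agent.Helper8.SecMaxA

set_option autoImplicit false

/-!
Second maximal subgroups below a maximal subgroup `M` whose coset action contains all 3-cycles.
-/

namespace Cfsg.Agent.Helper8.SecMax

open MulAction
open scoped Pointwise

variable {G : Type*} [Group G] [Finite G]

/-- The coset action of `G` on `G ⧸ M` contains all 3-cycles. -/
def Has3 (M : Subgroup G) : Prop :=
  ∀ a b c : G ⧸ M, a ≠ b → a ≠ c → b ≠ c →
    ∃ g : G, g • a = c ∧ g • c = b ∧ g • b = a ∧ ∀ x : G ⧸ M, x ≠ a → x ≠ b → x ≠ c → g • x = x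

omit [Finite G] in
theorem smul_base_eq_iff (M : Subgroup G) (g : G) :
    g • ((1 : G) : G ⧸ M) = ((1 : G) : G ⧸ M) ↔ g ∈ M := by
  rw [← MulAction.mem_stabilizer_iff, stabilizer_quotient]

omit [Finite G] in
theorem smul_base_eq_smul_iff (M : Subgroup G) (g h : G) :
    g • ((1 : G) : G ⧸ M) = h • ((1 : G) : G ⧸ M) ↔ h⁻¹ * g ∈ M := by
  rw [← smul_base_eq_iff M (h⁻¹ * g), mul_smul, inv_smul_eq_iff]

omit [Finite G] in
theorem exists_smul_base (M : Subgroup G) (x : G ⧸ M) : ∃ g : G, g • ((1 : G) : G ⧸ M) = x := by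
  induction x using QuotientGroup.induction_on with
  | H g => exact ⟨g, by rw [MulAction.Quotient.smul_mk, smul_eq_mul, mul_one]⟩

omit [Finite G] in
theorem inf_eq_of_ne {M H K : Subgroup G} (hM : IsCoatom M) (hHM : H ≤ M)
    (hmax : IsCoatom (H.subgroupOf M)) (hK : IsCoatom K) (hHK : H ≤ K) (hKM : K ≠ M) :
    K ⊓ M = H := by
  have h1 : H ≤ K ⊓ M := le_inf hHK hHM
  by_contra hne
  have h2 : H.subgroupOf M < (K ⊓ M).subgroupOf M := by
    refine lt_of_le_of_ne (Subgroup.subgroupOf_mono M h1) ?_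
    intro h
    apply hne
    apply le_antisymm _ h1
    intro x hx
    have hxM : x ∈ M := hx.2
    have : (⟨x, hxM⟩ : M) ∈ (K ⊓ M).subgroupOf M := by
      rw [Subgroup.mem_subgroupOf]; exact hx
    rw [← h, Subgroup.mem_subgroupOf] at this
    exact this
  have h3 := hmax.2 _ h2
  have h4 : M ≤ K := by
    rw [Subgroup.subgroupOf_eq_top] at h3
    exact le_trans h3 inf_le_left
  rcases eq_or_lt_of_le h4 with h5 | h5
  · exact hKM h5.symm
  · exact hM.1 (by
      have := hM.2 K h5
      exact absurd this hK.1)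

end Cfsg.Agent.Helper8.SecMax
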