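import Mathlib
import Cfsg.Agent.Helper8.SecMaxB

set_option autoImplicit false

/-!
Second maximal subgroups: the intransitive case.
-/

namespace Cfsg.Agent.Helper8.SecMax

open MulAction
open scoped Pointwise

variable {G : Type*} [Group G] [Finite G]

omit [Finite G] in
/-- Intransitive case: `K` maximal, not transitive on `G ⧸ M`, `K ⊓ M = H`; then every subgroup
strictly between `H` and `K` is `K`. -/
theorem le_of_intransitive {M H K : Subgroup G} (h3 : Has3 M) (hK : IsCoatom K)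
    (hKMH : K ⊓ M = H) (x0 : G ⧸ M) (hx0 : ∀ k ∈ K, k • ((1 : G) : G ⧸ M) ≠ x0)
    (L : Subgroup G) (hHL : H ≤ L) (hLK : L ≤ K) (l0 : G) (hl0 : l0 ∈ L) (hl0H : l0 ∉ H) :
    K ≤ L := by
  classical
  set ω : G ⧸ M := ((1 : G) : G ⧸ M) with hω
  have hH : ∀ g : G, g ∈ K → g • ω = ω → g ∈ H := by
    intro g hgK hg
    rw [← hKMH]
    exact ⟨hgK, (smul_base_eq_iff M g).mp hg⟩
  let Δ : Set (G ⧸ M) := {x | ∃ k ∈ K, k • ω = x}
  have hωΔ : ω ∈ Δ := ⟨1, K.one_mem, one_smul _ _⟩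
  -- K is the full set stabilizer of Δ
  have hKS : K ≤ stabilizer G Δ := by
    intro k' hk'
    rw [mem_stabilizer_set]
    intro x
    constructor
    · rintro ⟨k, hk, hkx⟩
      refine ⟨k'⁻¹ * k, K.mul_mem (K.inv_mem hk') hk, ?_⟩
      rw [mul_smul, hkx, inv_smul_smul]
    · rintro ⟨k, hk, rfl⟩
      exact ⟨k' * k, K.mul_mem hk' hk, mul_smul _ _ _⟩
  have hSne : stabilizer G Δ ≠ ⊤ := by
    intro h
    obtain ⟨g, hg⟩ := exists_smul_base M x0
    have hgS : g ∈ stabilizer G Δ := by rw [h]; trivial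
    rw [mem_stabilizer_set] at hgS
    obtain ⟨k, hk, hkx⟩ := (hgS ω).mpr hωΔ
    exact hx0 k hk (by rw [hkx, hg])
  have hKeq : K = stabilizer G Δ := by
    rcases eq_or_lt_of_le hKS with h | h
    · exact h
    · exact absurd (hK.2 _ h) hSne
  have hl0K : l0 ∈ K := hLK hl0
  set δ : G ⧸ M := l0 • ω with hδ
  have hδω : δ ≠ ω := fun h => hl0H (hH l0 hl0K h)
  have hδΔ : δ ∈ Δ := ⟨l0, hl0K, rfl⟩
  intro k hk
  set ε : G ⧸ M := k • ω with hε
  have hεΔ : ε ∈ Δ := ⟨k, hk, rfl⟩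
  by_cases h1 : ε = ω
  · exact hHL (hH k hk h1)
  by_cases h2 : ε = δ
  · have : l0⁻¹ * k ∈ H := by
      apply hH _ (K.mul_mem (K.inv_mem hl0K) hk)
      rw [mul_smul, ← hε, h2, hδ, inv_smul_smul]
    have := L.mul_mem hl0 (hHL this)
    rwa [mul_inv_cancel_left] at this
  -- three distinct points ω, δ, ε
  obtain ⟨s, hs1, hs2, hs3, hs4⟩ := h3 ω ε δ (Ne.symm h1) (Ne.symm hδω) h2
  -- s ω = δ, s δ = ε, s ε = ω
  have hsS : s ∈ stabilizer G Δ := by
    rw [mem_stabilizer_set]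
    intro x
    by_cases hxa : x = ω
    · rw [hxa, hs1]; exact ⟨fun _ => hωΔ, fun _ => hδΔ⟩
    by_cases hxb : x = ε
    · rw [hxb, hs3]; exact ⟨fun _ => hεΔ, fun _ => hωΔ⟩
    by_cases hxc : x = δ
    · rw [hxc, hs2]; exact ⟨fun _ => hδΔ, fun _ => hεΔ⟩
    · rw [hs4 x hxa hxb hxc]
  have hsK : s ∈ K := by rw [hKeq]; exact hsS
  have hsL : s ∈ L := by
    have : l0⁻¹ * s ∈ H := by
      apply hH _ (K.mul_mem (K.inv_mem hl0K) hsK)
      rw [mul_smul, hs1, hδ, inv_smul_smul]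
    have := L.mul_mem hl0 (hHL this)
    rwa [mul_inv_cancel_left] at this
  have : (s * s)⁻¹ * k ∈ H := by
    apply hH _ (K.mul_mem (K.inv_mem (K.mul_mem hsK hsK)) hk)
    rw [mul_smul, ← hε, inv_smul_eq_iff, mul_smul, hs1, hs2]
  have := L.mul_mem (L.mul_mem hsL hsL) (hHL this)
  rwa [mul_inv_cancel_left] at this

end Cfsg.Agent.Helper8.SecMax
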