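import Mathlib
import Cfsg.Agent.Helper8.SecMaxB

set_option autoImplicit false

/-!
Second maximal subgroups: the transitive case.
-/

namespace Cfsg.Agent.Helper8.SecMax

open MulAction
open scoped Pointwise

variable {G : Type*} [Group G] [Finite G]

omit [Finite G] in
theorem relIndex_eq_of_transitive {M H K : Subgroup G} (hKMH : K ⊓ M = H)
    (hT : ∀ x : G ⧸ M, ∃ k ∈ K, k • ((1 : G) : G ⧸ M) = x) :
    H.relIndex K = M.index := by
  have : IsPretransitive K (G ⧸ M) := by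
    refine ⟨fun x y => ?_⟩
    obtain ⟨k, hk, rfl⟩ := hT x
    obtain ⟨k', hk', rfl⟩ := hT y
    refine ⟨⟨k' * k⁻¹, K.mul_mem hk' (K.inv_mem hk)⟩, ?_⟩
    show (k' * k⁻¹) • (k • ((1 : G) : G ⧸ M)) = k' • ((1 : G) : G ⧸ M)
    simp only [mul_smul, inv_smul_smul]
  have hst : stabilizer K (((1 : G) : G ⧸ M)) = H.subgroupOf K := by
    ext k
    rw [mem_stabilizer_iff, Subgroup.mem_subgroupOf, ← hKMH]
    have : k • ((1 : G) : G ⧸ M) = (k : G) • ((1 : G) : G ⧸ M) := rfl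
    rw [this, smul_base_eq_iff]
    exact ⟨fun h => ⟨k.2, h⟩, fun h => h.2⟩
  have := MulAction.index_stabilizer_of_transitive K (((1 : G) : G ⧸ M))
  rw [hst] at this
  rw [Subgroup.relIndex, this, Subgroup.index_eq_card]

omit [Finite G] in
theorem exists_third_coset {L K : Subgroup G} (hidx : L.relIndex K ≠ 2)
    (k1 : G) (hk1 : k1 ∈ K) (hk1L : k1 ∉ L) :
    ∃ k2 ∈ K, k2 ∉ L ∧ k1⁻¹ * k2 ∉ L := by
  have h2 : (L.subgroupOf K).index ≠ 2 := hidx
  rw [Ne, Subgroup.index_eq_two_iff] at h2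
  push Not at h2
  obtain ⟨b, hb⟩ := h2 ⟨k1, hk1⟩
  have hb' : (b * ⟨k1, hk1⟩ ∈ L.subgroupOf K) ↔ (b ∈ L.subgroupOf K) := by
    by_cases h1 : b * ⟨k1, hk1⟩ ∈ L.subgroupOf K <;> by_cases h2 : b ∈ L.subgroupOf K
    · exact ⟨fun _ => h2, fun _ => h1⟩
    · exact absurd (Or.inl ⟨h1, h2⟩) hb
    · exact absurd (Or.inr ⟨h2, h1⟩) hb
    · exact ⟨fun h => absurd h h1, fun h => absurd h h2⟩
  simp only [Subgroup.mem_subgroupOf, Subgroup.coe_mul] at hb'
  have hbL : (b : G) ∉ L := by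
    intro h
    have := hb'.mpr h
    have := L.mul_mem (L.inv_mem h) this
    rw [inv_mul_cancel_left] at this
    exact hk1L this
  refine ⟨(b : G)⁻¹, K.inv_mem b.2, fun h => hbL (by simpa using L.inv_mem h), ?_⟩
  intro h
  have := L.inv_mem h
  rw [mul_inv_rev, inv_inv, inv_inv] at this
  exact hbL (hb'.mp this)

end Cfsg.Agent.Helper8.SecMax
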