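import Mathlib
import Cfsg.Agent.Helper8.SecMaxD

set_option autoImplicit false

/-!
Second maximal subgroups: the transitive case, contradiction from three blocks.
-/

namespace Cfsg.Agent.Helper8.SecMax

open MulAction
open scoped Pointwise

variable {G : Type*} [Group G] [Finite G]

omit [Finite G] in
/-- Three-block configuration contradicts maximality of `H` in `M`. -/
theorem false_of_three_cosets {M H K : Subgroup G} (h3 : Has3 M) (hHM : H ≤ M)
    (hmax : IsCoatom (H.subgroupOf M)) (hKMH : K ⊓ M = H)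
    (L : Subgroup G) (hHL : H ≤ L) (hLK : L ≤ K) (l0 : G) (hl0 : l0 ∈ L) (hl0H : l0 ∉ H)
    (k1 k2 : G) (hk1 : k1 ∈ K) (hk2 : k2 ∈ K) (hk1L : k1 ∉ L) (hk2L : k2 ∉ L)
    (hk12 : k1⁻¹ * k2 ∉ L) : False := by
  classical
  set ω : G ⧸ M := ((1 : G) : G ⧸ M) with hω
  have hH : ∀ g : G, g ∈ K → g • ω = ω → g ∈ H := by
    intro g hgK hg
    rw [← hKMH]
    exact ⟨hgK, (smul_base_eq_iff M g).mp hg⟩
  have hH' : ∀ g h : G, g ∈ K → h ∈ K → g • ω = h • ω → h⁻¹ * g ∈ H := by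
    intro g h hg hh hgh
    apply hH _ (K.mul_mem (K.inv_mem hh) hg)
    rw [mul_smul, hgh, inv_smul_smul]
  let B : Set (G ⧸ M) := {x | ∃ l ∈ L, l • ω = x}
  have hωB : ω ∈ B := ⟨1, L.one_mem, one_smul _ _⟩
  have hl0K : l0 ∈ K := hLK hl0
  set β : G ⧸ M := l0 • ω with hβ
  have hβB : β ∈ B := ⟨l0, hl0, rfl⟩
  have hβω : β ≠ ω := fun h => hl0H (hH l0 hl0K h)
  set y1 : G ⧸ M := k1 • ω with hy1
  set y1' : G ⧸ M := (k1 * l0) • ω with hy1'
  set y2 : G ⧸ M := k2 • ω with hy2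
  -- a point k • ω with k ∈ K lies in B iff k ∈ L
  have hBL : ∀ k : G, k ∈ K → k • ω ∈ B → k ∈ L := by
    rintro k hk ⟨l, hl, hlk⟩
    have := hH' k l hk (hLK hl) hlk.symm
    have := L.mul_mem hl (hHL this)
    rwa [mul_inv_cancel_left] at this
  have hy1B : y1 ∉ B := fun h => hk1L (hBL k1 hk1 h)
  have hy1'B : y1' ∉ B := by
    intro h
    have := hBL (k1 * l0) (K.mul_mem hk1 hl0K) h
    have := L.mul_mem this (L.inv_mem hl0)
    rw [mul_inv_cancel_right] at this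
    exact hk1L this
  have hy2B : y2 ∉ B := fun h => hk2L (hBL k2 hk2 h)
  have h11' : y1 ≠ y1' := by
    intro h
    have := hH' _ _ (K.mul_mem hk1 hl0K) hk1 h.symm
    rw [inv_mul_cancel_left] at this
    exact hl0H this
  have h12 : y1 ≠ y2 := by
    intro h
    exact hk12 (hHL (hH' _ _ hk2 hk1 h.symm))
  have h1'2 : y1' ≠ y2 := by
    intro h
    have := hHL (hH' _ _ hk2 (K.mul_mem hk1 hl0K) h.symm)
    rw [mul_inv_rev, mul_assoc] at this
    have := L.mul_mem hl0 this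
    rw [mul_inv_cancel_left] at this
    exact hk12 this
  -- the subgroup X = M ⊓ Stab(B)
  let X : Subgroup G := M ⊓ stabilizer G B
  have hHX : H ≤ X := by
    intro h hh
    refine ⟨hHM hh, ?_⟩
    show h ∈ stabilizer G B
    rw [mem_stabilizer_set]
    intro x
    constructor
    · rintro ⟨l, hl, hlx⟩
      refine ⟨h⁻¹ * l, L.mul_mem (L.inv_mem (hHL hh)) hl, ?_⟩
      rw [mul_smul, hlx, inv_smul_smul]
    · rintro ⟨l, hl, rfl⟩
      exact ⟨h * l, L.mul_mem (hHL hh) hl, mul_smul _ _ _⟩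
  -- the 3-cycle c : y1 → y1' → y2 → y1
  obtain ⟨c, hc1, hc2, hc3, hc4⟩ := h3 y1 y2 y1' h12 h11' (Ne.symm h1'2)
  have hcω : c • ω = ω :=
    hc4 ω (fun h => hy1B (h ▸ hωB)) (fun h => hy2B (h ▸ hωB)) (fun h => hy1'B (h ▸ hωB))
  have hcX : c ∈ X := by
    refine ⟨(smul_base_eq_iff M c).mp hcω, ?_⟩
    show c ∈ stabilizer G B
    rw [mem_stabilizer_set]
    intro x
    by_cases hxa : x = y1
    · rw [hxa, hc1]; exact ⟨fun h => absurd h hy1'B, fun h => absurd h hy1B⟩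
    by_cases hxb : x = y2
    · rw [hxb, hc3]; exact ⟨fun h => absurd h hy1B, fun h => absurd h hy2B⟩
    by_cases hxc : x = y1'
    · rw [hxc, hc2]; exact ⟨fun h => absurd h hy2B, fun h => absurd h hy1'B⟩
    · rw [hc4 x hxa hxb hxc]
  have hcK : c ∉ K := by
    intro hcK
    -- c k1 ω = y1' = k1 l0 ω
    have e1 : (c * k1) • ω = (k1 * l0) • ω := by rw [mul_smul, ← hy1, hc1]
    have m1 := hHL (hH' _ _ (K.mul_mem hcK hk1) (K.mul_mem hk1 hl0K) e1)
    -- (k1 l0)⁻¹ c k1 ∈ L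
    have e2 : (c * k1 * l0) • ω = k2 • ω := by
      rw [mul_assoc, mul_smul, ← hy1', hc2]
    have m2 := hHL (hH' _ _ hk2 (K.mul_mem (K.mul_mem hcK hk1) hl0K) e2.symm)
    -- (c k1 l0)⁻¹ k2 ∈ L
    -- k1⁻¹ k2 = (k1⁻¹ c⁻¹ ... ) hmm: k1⁻¹ k2 = [ (k1 l0)⁻¹ c k1 ]⁻¹ ... compute
    have : k1⁻¹ * k2 = l0 * ((k1 * l0)⁻¹ * (c * k1)) * l0 * ((c * k1 * l0)⁻¹ * k2) := by
      group
    rw [this] at hk12
    exact hk12 (L.mul_mem (L.mul_mem (L.mul_mem hl0 m1) hl0) m2)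
  have hlt : H.subgroupOf M < X.subgroupOf M := by
    refine lt_of_le_of_ne (Subgroup.subgroupOf_mono M hHX) ?_
    intro h
    have hcM : c ∈ M := hcX.1
    have : (⟨c, hcM⟩ : M) ∈ X.subgroupOf M := by
      rw [Subgroup.mem_subgroupOf]; exact hcX
    rw [← h, Subgroup.mem_subgroupOf] at this
    have : c ∈ K ⊓ M := by rw [hKMH]; exact this
    exact hcK this.1
  have htop := hmax.2 _ hlt
  rw [Subgroup.subgroupOf_eq_top] at htop
  -- the 3-cycle m : β → y1 → y2 → β lies in M but moves β out of B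
  obtain ⟨m, hm1, hm2, hm3, hm4⟩ := h3 β y2 y1 (fun h => hy2B (h ▸ hβB))
    (fun h => hy1B (h ▸ hβB)) (Ne.symm h12)
  have hmω : m • ω = ω := hm4 ω (Ne.symm hβω) (fun h => hy2B (h ▸ hωB)) (fun h => hy1B (h ▸ hωB))
  have hmM : m ∈ M := (smul_base_eq_iff M m).mp hmω
  have hmX := htop hmM
  have : m ∈ stabilizer G B := hmX.2
  rw [mem_stabilizer_set] at this
  have := (this β).mpr hβB
  rw [hm1] at this
  exact hy1B this

end Cfsg.Agent.Helper8.SecMax
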