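import Mathlib
import Cfsg.Agent.Helper8.SecMaxC
import Cfsg.Agent.Helper8.SecMaxE

set_option autoImplicit false

/-!
Second maximal subgroups: assembling the cases.
-/

namespace Cfsg.Agent.Helper8.SecMax

open MulAction
open scoped Pointwise

variable {G : Type*} [Group G] [Finite G]

omit [Finite G] in
/-- If the coset action on `G ⧸ M` contains all 3-cycles and `M` has odd index, then a maximal
subgroup `H` of the maximal subgroup `M` is maximal in every maximal subgroup of `G` containing it. -/
theorem coatom_of_has3 {M H K : Subgroup G} (h3 : Has3 M) (hodd : Odd M.index)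
    (hM : IsCoatom M) (hHM : H ≤ M) (hmax : IsCoatom (H.subgroupOf M)) (hK : IsCoatom K)
    (hHK : H ≤ K) : IsCoatom (H.subgroupOf K) := by
  classical
  by_cases hKM : K = M
  · subst hKM; exact hmax
  have hKMH : K ⊓ M = H := inf_eq_of_ne hM hHM hmax hK hHK hKM
  refine ⟨?_, ?_⟩
  · intro h
    rw [Subgroup.subgroupOf_eq_top] at h
    have hKleM : K ≤ M := le_trans h hHM
    rcases eq_or_lt_of_le hKleM with h5 | h5
    · exact hKM h5
    · exact hM.1 (hK.2 M h5)
  · intro L' hL'
    set L : Subgroup G := L'.map K.subtype with hLdef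
    have hLK : L ≤ K := Subgroup.map_subtype_le L'
    have hHL : H ≤ L := by
      intro h hh
      have : (⟨h, hHK hh⟩ : K) ∈ H.subgroupOf K := by
        rw [Subgroup.mem_subgroupOf]; exact hh
      exact ⟨⟨h, hHK hh⟩, hL'.le this, rfl⟩
    obtain ⟨l0', hl0', hl0H'⟩ := SetLike.exists_of_lt hL'
    have hl0 : (l0' : G) ∈ L := ⟨l0', hl0', rfl⟩
    have hl0H : (l0' : G) ∉ H := fun h => hl0H' (Subgroup.mem_subgroupOf.mpr h)
    suffices hsuff : K ≤ L by
      rw [eq_top_iff]
      intro k _
      obtain ⟨k', hk', e⟩ := hsuff k.2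
      have : k' = k := Subtype.ext e
      rwa [this] at hk'
    by_cases hT : ∀ x : G ⧸ M, ∃ k ∈ K, k • ((1 : G) : G ⧸ M) = x
    · by_contra hnot
      obtain ⟨k1, hk1, hk1L⟩ := SetLike.not_le_iff_exists.mp hnot
      have hidx : L.relIndex K ≠ 2 := by
        intro h2
        have hmul := Subgroup.relIndex_mul_relIndex H L K hHL hLK
        rw [relIndex_eq_of_transitive hKMH hT, h2] at hmul
        rw [← hmul] at hodd
        exact (Nat.not_even_iff_odd.mpr hodd) (even_two.mul_left _)
      obtain ⟨k2, hk2, hk2L, hk12⟩ := exists_third_coset hidx k1 hk1 hk1L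
      exact false_of_three_cosets h3 hHM hmax hKMH L hHL hLK _ hl0 hl0H k1 k2 hk1 hk2 hk1L hk2L hk12
    · push Not at hT
      obtain ⟨x0, hx0⟩ := hT
      exact le_of_intransitive h3 hK hKMH x0 hx0 L hHL hLK _ hl0 hl0H

/-- The version with the hypothesis that every primitive group of degree `n` contains `A_n`. -/
theorem coatom_of_giant (n : ℕ) (hodd : Odd n)
    (hA : ∀ P : Subgroup (Equiv.Perm (Fin n)), MulAction.IsPreprimitive P (Fin n) →
      alternatingGroup (Fin n) ≤ P)
    (M : Subgroup G) (hM : IsCoatom M) (hn : M.index = n) (H : Subgroup G) (hHM : H ≤ M)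
    (hmax : IsCoatom (H.subgroupOf M)) (K : Subgroup G) (hK : IsCoatom K) (hHK : H ≤ K) :
    IsCoatom (H.subgroupOf K) := by
  have h3 : Has3 M := fun a b c hab hac hbc => exists_three_cycle n hA M hM hn a b c hab hac hbc
  exact coatom_of_has3 h3 (hn ▸ hodd) hM hHM hmax hK hHK

end Cfsg.Agent.Helper8.SecMax
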