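import Mathlib

namespace Cfsg.Agent.Helper8.SelfAdjoint

open Polynomial

variable {F : Type*} [Field F]

/-- top-coefficient functional of the reduction mod `f`. -/
noncomputable def lam (f : F[X]) : F[X] →ₗ[F] F where
  toFun p := (p % f).coeff (f.natDegree - 1)
  map_add' p q := by simp [Polynomial.add_mod]
  map_smul' c p := by
    simp only [RingHom.id_apply]
    rw [Polynomial.mod_def, Polynomial.smul_modByMonic, Polynomial.coeff_smul, ← Polynomial.mod_def]

theorem lam_apply (f p : F[X]) : lam f p = (p % f).coeff (f.natDegree - 1) := rfl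

theorem lam_congr (f : F[X]) {p q : F[X]} (h : f ∣ p - q) : lam f p = lam f q := by
  rw [lam_apply, lam_apply]
  have : p % f = q % f := by
    have h2 : (p - q) % f = 0 := (EuclideanDomain.mod_eq_zero).mpr h
    have h3 : p = (p - q) + q := by ring
    rw [h3, Polynomial.add_mod, h2, zero_add]
  rw [this]

theorem lam_mul_self (f g : F[X]) : lam f (f * g) = 0 := by
  have := lam_congr f (p := f * g) (q := 0) (by simp)
  rw [this]; simp

theorem dvd_of_lam (f : F[X]) (hf : f ≠ 0) (p : F[X]) (h : ∀ q, lam f (p * q) = 0) : f ∣ p := by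
  by_contra hnd
  have hr0 : p % f ≠ 0 := fun h0 => hnd ((EuclideanDomain.mod_eq_zero).mp h0)
  have hdeg : (p % f).degree < f.degree := Polynomial.degree_mod_lt p hf
  have hnat : (p % f).natDegree < f.natDegree := Polynomial.natDegree_lt_natDegree hr0 hdeg
  have hpr : f ∣ p - p % f := by
    refine ⟨p / f, ?_⟩
    have := EuclideanDomain.div_add_mod p f
    linear_combination -this
  obtain ⟨j, hj⟩ : ∃ j, f.natDegree - 1 = (p % f).natDegree + j :=
    ⟨f.natDegree - 1 - (p % f).natDegree, by omega⟩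
  have h1 := h (X ^ j)
  rw [lam_congr f (p := p * X ^ j) (q := (p % f) * X ^ j)
    (by rw [← sub_mul]; exact Dvd.dvd.mul_right hpr _)] at h1
  rw [lam_apply] at h1
  have hdeg2 : ((p % f) * X ^ j).degree < f.degree := by
    rw [Polynomial.degree_mul, Polynomial.degree_X_pow, Polynomial.degree_eq_natDegree hr0,
      Polynomial.degree_eq_natDegree hf]
    have : (p % f).natDegree + j < f.natDegree := by omega
    exact_mod_cast this
  rw [(Polynomial.mod_eq_self_iff hf).mpr hdeg2, hj, Polynomial.coeff_mul_X_pow] at h1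
  exact hr0 (Polynomial.leadingCoeff_eq_zero.mp h1)

/-- the quotient `F[X]/(f)` in the form produced by the structure theorem. -/
abbrev Q (f : F[X]) : Type _ := F[X] ⧸ Submodule.span F[X] {f}

theorem lam_ker (f : F[X]) :
    (Submodule.span F[X] {f}).restrictScalars F ≤ LinearMap.ker (lam f) := by
  intro p hp
  rw [Submodule.restrictScalars_mem, Submodule.mem_span_singleton] at hp
  obtain ⟨g, rfl⟩ := hp
  rw [LinearMap.mem_ker, smul_eq_mul, mul_comm]
  exact lam_mul_self f g

/-- the descended functional. -/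
noncomputable def L (f : F[X]) : Q f →ₗ[F] F :=
  (Submodule.liftQ ((Submodule.span F[X] {f}).restrictScalars F) (lam f) (lam_ker f)).comp
    (Submodule.Quotient.restrictScalarsEquiv F (Submodule.span F[X] {f})).symm.toLinearMap

theorem L_mk (f p : F[X]) : L f (Submodule.Quotient.mk p) = lam f p := by
  rw [L, LinearMap.comp_apply, LinearEquiv.coe_coe,
    Submodule.Quotient.restrictScalarsEquiv_symm_mk, Submodule.liftQ_apply]

/-- the bilinear form on the quotient. -/
noncomputable def BQ (f : F[X]) : Q f →ₗ[F] Q f →ₗ[F] F :=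
  (LinearMap.mul F (Q f)).compr₂ (L f)

theorem BQ_mk (f p q : F[X]) :
    BQ f (Submodule.Quotient.mk p) (Submodule.Quotient.mk q) = lam f (p * q) := by
  rw [BQ, LinearMap.compr₂_apply, LinearMap.mul_apply']
  rw [← L_mk]
  rfl

theorem BQ_X (f : F[X]) (a b : Q f) : BQ f ((X : F[X]) • a) b = BQ f a ((X : F[X]) • b) := by
  induction a using Submodule.Quotient.induction_on with | _ p => ?_
  induction b using Submodule.Quotient.induction_on with | _ q => ?_
  rw [← Submodule.Quotient.mk_smul, ← Submodule.Quotient.mk_smul, BQ_mk, BQ_mk]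
  congr 1
  simp only [smul_eq_mul]; ring

theorem BQ_nondeg (f : F[X]) (hf : f ≠ 0) (a : Q f) (h : ∀ b, BQ f a b = 0) : a = 0 := by
  induction a using Submodule.Quotient.induction_on with | _ p => ?_
  rw [Submodule.Quotient.mk_eq_zero, Submodule.mem_span_singleton]
  have := dvd_of_lam f hf p (fun q => by rw [← BQ_mk]; exact h _)
  obtain ⟨g, hg⟩ := this
  exact ⟨g, by rw [hg, smul_eq_mul, mul_comm]⟩

open DirectSum in
/-- the bilinear form on the direct sum. -/
noncomputable def BD {ι : Type*} [Fintype ι] (g : ι → F[X]) :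
    (⨁ i, Q (g i)) →ₗ[F] (⨁ i, Q (g i)) →ₗ[F] F :=
  ∑ i, (BQ (g i)).compl₁₂ (DirectSum.component F ι (fun i => Q (g i)) i)
    (DirectSum.component F ι (fun i => Q (g i)) i)

open DirectSum in
theorem BD_apply {ι : Type*} [Fintype ι] (g : ι → F[X]) (a b : ⨁ i, Q (g i)) :
    BD g a b = ∑ i, BQ (g i) (a i) (b i) := by
  simp only [BD, LinearMap.sum_apply, LinearMap.compl₁₂_apply, DirectSum.component]
  rfl

open DirectSum in
theorem BD_X {ι : Type*} [Fintype ι] (g : ι → F[X]) (a b : ⨁ i, Q (g i)) :
    BD g ((X : F[X]) • a) b = BD g a ((X : F[X]) • b) := by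
  rw [BD_apply, BD_apply]
  refine Finset.sum_congr rfl fun i _ => ?_
  rw [DirectSum.smul_apply, DirectSum.smul_apply, BQ_X]

open DirectSum in
theorem BD_nondeg {ι : Type*} [Fintype ι] (g : ι → F[X]) (hg : ∀ i, g i ≠ 0)
    (a : ⨁ i, Q (g i)) (h : ∀ b, BD g a b = 0) : a = 0 := by
  classical
  refine DFinsupp.ext fun i => ?_
  rw [DirectSum.zero_apply]
  refine BQ_nondeg (g i) (hg i) (a i) fun c => ?_
  have h1 := h (DirectSum.of (fun i => Q (g i)) i c)
  rw [BD_apply, Finset.sum_eq_single i] at h1
  · rwa [DirectSum.of_eq_same] at h1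
  · intro j _ hj
    rw [DirectSum.of_eq_of_ne _ _ _ hj, map_zero]
  · intro hi; exact absurd (Finset.mem_univ i) hi

open DirectSum in
/-- every endomorphism of a finite-dimensional space is self-adjoint for some left-nondegenerate
bilinear form. -/
theorem exists_form {V : Type*} [AddCommGroup V] [Module F V] [FiniteDimensional F V]
    (φ : V →ₗ[F] V) :
    ∃ B : V →ₗ[F] V →ₗ[F] F, (∀ v w, B (φ v) w = B v (φ w)) ∧
      (∀ v, (∀ w, B v w = 0) → v = 0) := by
  classical
  have hT : Module.IsTorsion F[X] (Module.AEval' φ) :=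
    Module.AEval.isTorsion_of_finiteDimensional F V φ
  obtain ⟨ι, _, p, hp, e, ⟨E⟩⟩ := Module.equiv_directSum_of_isTorsion hT
  have hg : ∀ i, p i ^ e i ≠ 0 := fun i => pow_ne_zero _ (hp i).ne_zero
  let E' : Module.AEval' φ ≃ₗ[F] ⨁ i, Q (p i ^ e i) := E.restrictScalars F
  let o : V ≃ₗ[F] Module.AEval' φ := Module.AEval'.of φ
  have hE' : ∀ x, E' x = E x := fun x => rfl
  refine ⟨(BD (fun i => p i ^ e i)).compl₁₂ (E'.toLinearMap ∘ₗ o.toLinearMap)
    (E'.toLinearMap ∘ₗ o.toLinearMap), ?_, ?_⟩
  · intro v w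
    simp only [LinearMap.compl₁₂_apply, LinearMap.comp_apply, LinearEquiv.coe_coe, hE']
    have h1 : ∀ u : V, E (o (φ u)) = (X : F[X]) • E (o u) := by
      intro u
      rw [← map_smul]
      congr 1
      exact (Module.AEval'.X_smul_of φ u).symm
    rw [h1, h1]
    exact BD_X _ _ _
  · intro v hv
    have h2 : E' (o v) = 0 := by
      refine BD_nondeg _ hg _ fun b => ?_
      have := hv (o.symm (E'.symm b))
      simpa only [LinearMap.compl₁₂_apply, LinearMap.comp_apply, LinearEquiv.coe_coe,
        LinearEquiv.apply_symm_apply] using this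
    have h3 : o v = 0 := by simpa using h2
    simpa using h3

/-- there is an invertible `S` with `S * A = Aᵀ * S`. -/
theorem exists_unit_transpose {n : Type*} [Fintype n] [DecidableEq n] (A : Matrix n n F) :
    ∃ S : Matrix n n F, IsUnit S ∧ S * A = A.transpose * S := by
  obtain ⟨B, hadj, hnd⟩ := exists_form (Matrix.toLin' A)
  have hB : Matrix.toLinearMap₂' F (LinearMap.toMatrix₂' F B) = B :=
    Matrix.toLinearMap₂'_toMatrix' B
  have h1 : LinearMap.IsAdjointPair B B (Matrix.toLin' A) (Matrix.toLin' A) :=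
    fun x y => hadj x y
  rw [← hB, isAdjointPair_toLinearMap₂'] at h1
  have hdet : (LinearMap.toMatrix₂' F B).det ≠ 0 := by
    rw [← LinearMap.separatingLeft_toLinearMap₂'_iff_det_ne_zero, hB]
    intro v hv; exact hnd v hv
  refine ⟨LinearMap.toMatrix₂' F B, ?_, ?_⟩
  · rw [Matrix.isUnit_iff_isUnit_det]; exact isUnit_iff_ne_zero.mpr hdet
  · exact h1.symm

/-- **Every square matrix over a field is similar to its transpose.** -/
theorem isConj_transpose {n : Type*} [Fintype n] [DecidableEq n] (A : Matrix n n F) :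
    IsConj A A.transpose := by
  obtain ⟨S, hS, h⟩ := exists_unit_transpose A
  exact ⟨hS.unit, h⟩

end Cfsg.Agent.Helper8.SelfAdjoint
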