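import Cfsg.Agent.Helper8.SemiSReal
set_option autoImplicit false

namespace Cfsg.Agent.Helper8.SemiS

open Polynomial Module Matrix

variable {F : Type*} [Field F] [Fintype F]

theorem semisimple_of_coprime (p : ℕ) [Fact p.Prime] [CharP F p] {n : ℕ} (g : GL (Fin n) F)
    (hg : (orderOf g).Coprime p) :
    ∃ h : F[X], Squarefree h ∧ aeval (g : Matrix (Fin n) (Fin n) F) h = 0 := by
  have hp : p.Prime := Fact.out
  refine ⟨X ^ orderOf g - 1, ?_, ?_⟩
  · have hm : ((orderOf g : ℕ) : F) ≠ 0 := by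
      intro h0
      have h1 := (CharP.cast_eq_zero_iff F p (orderOf g)).mp h0
      have h2 : p ∣ Nat.gcd (orderOf g) p := Nat.dvd_gcd h1 dvd_rfl
      rw [hg] at h2
      exact hp.one_lt.ne' (Nat.dvd_one.mp h2)
    have := Polynomial.separable_X_pow_sub_C (1 : F) hm one_ne_zero
    rw [map_one] at this
    exact this.squarefree
  · rw [map_sub, map_pow, aeval_X, map_one, ← Units.val_pow_eq_pow_val, pow_orderOf_eq_one,
      Units.val_one, sub_self]

/-- monic polynomials of degree `n` with nonzero constant coefficient -/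
abbrev Poly (F : Type*) [Field F] (n : ℕ) : Type _ :=
  {f : F[X] // f.Monic ∧ f.natDegree = n ∧ f.coeff 0 ≠ 0}

theorem card_poly (n : ℕ) (hn : 1 ≤ n) :
    Nat.card (Poly F n) = (Fintype.card F - 1) * Fintype.card F ^ (n - 1) := by
  classical
  obtain ⟨m, rfl⟩ : ∃ m, n = m + 1 := ⟨n - 1, by omega⟩
  let E : {f : F[X] // f.Monic ∧ f.natDegree = m + 1} ≃ (Fin (m + 1) → F) :=
    (monicEquivDegreeLT (m + 1)).trans (degreeLTEquiv F (m + 1)).toEquiv
  have hE : ∀ f : {f : F[X] // f.Monic ∧ f.natDegree = m + 1}, E f 0 = f.1.coeff 0 := by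
    rintro ⟨f, hf1, hf2⟩
    change (f.eraseLead).coeff 0 = f.coeff 0
    rw [Polynomial.eraseLead_coeff_of_ne]
    rw [hf2]
    omega
  have e1 : Poly F (m + 1) ≃ {v : Fin (m + 1) → F // v 0 ≠ 0} :=
    { toFun := fun f => ⟨E ⟨f.1, f.2.1, f.2.2.1⟩, by rw [hE]; exact f.2.2.2⟩
      invFun := fun v => ⟨(E.symm v.1).1, (E.symm v.1).2.1, (E.symm v.1).2.2, by
        have := hE (E.symm v.1)
        rw [Equiv.apply_symm_apply] at this
        rw [← this]
        exact v.2⟩
      left_inv := by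
        rintro ⟨f, hf1, hf2, hf3⟩
        apply Subtype.ext
        simp only
        have : E.symm (E ⟨f, hf1, hf2⟩) = ⟨f, hf1, hf2⟩ := Equiv.symm_apply_apply _ _
        rw [this]
      right_inv := by
        rintro ⟨v, hv⟩
        apply Subtype.ext
        simp only
        exact Equiv.apply_symm_apply E v }
  rw [Nat.card_congr e1, Nat.card_eq_fintype_card]
  have e2 : {v : Fin (m + 1) → F // v 0 ≠ 0} ≃ {x : F // x ≠ 0} × (Fin m → F) :=
    { toFun := fun v => (⟨v.1 0, v.2⟩, Fin.tail v.1)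
      invFun := fun w => ⟨Fin.cons w.1.1 w.2, by simpa using w.1.2⟩
      left_inv := by
        rintro ⟨v, hv⟩
        apply Subtype.ext
        simp
      right_inv := by
        rintro ⟨⟨x, hx⟩, w⟩
        simp }
  have h3 : Fintype.card {x : F // x ≠ 0} = Fintype.card F - 1 := by
    rw [Fintype.card_subtype_compl, Fintype.card_subtype_eq]
  rw [Fintype.card_congr e2, Fintype.card_prod, Fintype.card_fun, Fintype.card_fin, h3,
    Nat.add_sub_cancel]

theorem card_pprime_classes {q : ℕ} (hq : Fintype.card F = q) (p : ℕ) [Fact p.Prime] [CharP F p]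
    (n : ℕ) (hn : 1 ≤ n) :
    Nat.card {c : ConjClasses (GL (Fin n) F) //
      ∃ g : GL (Fin n) F, ConjClasses.mk g = c ∧ (orderOf g).Coprime p} =
      (q - 1) * q ^ (n - 1) := by
  classical
  rw [← hq, ← card_poly n hn]
  apply Nat.card_congr
  let rep : {c : ConjClasses (GL (Fin n) F) //
      ∃ g : GL (Fin n) F, ConjClasses.mk g = c ∧ (orderOf g).Coprime p} → GL (Fin n) F :=
    fun c => Classical.choose c.2
  have hrep1 : ∀ c, ConjClasses.mk (rep c) = c.1 := fun c => (Classical.choose_spec c.2).1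
  have hrep2 : ∀ c, (orderOf (rep c)).Coprime p := fun c => (Classical.choose_spec c.2).2
  have hpoly : ∀ g : GL (Fin n) F, (g : Matrix (Fin n) (Fin n) F).charpoly.Monic ∧
      (g : Matrix (Fin n) (Fin n) F).charpoly.natDegree = n ∧
      (g : Matrix (Fin n) (Fin n) F).charpoly.coeff 0 ≠ 0 := by
    intro g
    refine ⟨Matrix.charpoly_monic _, ?_, ?_⟩
    · rw [Matrix.charpoly_natDegree_eq_dim, Fintype.card_fin]
    · intro h0
      have h3 := Matrix.det_eq_sign_charpoly_coeff (g : Matrix (Fin n) (Fin n) F)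
      rw [h0, mul_zero] at h3
      have h4 := (Matrix.isUnit_iff_isUnit_det (g : Matrix (Fin n) (Fin n) F)).mp ⟨g, rfl⟩
      exact h4.ne_zero h3
  refine Equiv.ofBijective
    (fun c => (⟨((rep c : GL (Fin n) F) : Matrix (Fin n) (Fin n) F).charpoly, hpoly _⟩ :
      Poly F n)) ⟨?_, ?_⟩
  · intro c c' h
    have h1 : ((rep c : GL (Fin n) F) : Matrix (Fin n) (Fin n) F).charpoly =
        ((rep c' : GL (Fin n) F) : Matrix (Fin n) (Fin n) F).charpoly := congrArg Subtype.val h
    obtain ⟨k, hk1, hk2⟩ := semisimple_of_coprime p (rep c) (hrep2 c)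
    obtain ⟨k', hk1', hk2'⟩ := semisimple_of_coprime p (rep c') (hrep2 c')
    obtain ⟨x, hx⟩ := exists_conj_of_charpoly_eq _ _ k k' hk1 hk1' hk2 hk2' h1
    apply Subtype.ext
    rw [← hrep1 c, ← hrep1 c', ConjClasses.mk_eq_mk_iff_isConj, isConj_iff]
    refine ⟨x, ?_⟩
    apply Units.ext
    simp only [Units.val_mul]
    exact hx
  · rintro ⟨f, hf1, hf2, hf3⟩
    obtain ⟨g₀, hg1, hg2⟩ := exists_realization p n f hf1 hf2 hf3
    let c : {c : ConjClasses (GL (Fin n) F) //
      ∃ g : GL (Fin n) F, ConjClasses.mk g = c ∧ (orderOf g).Coprime p} :=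
      ⟨ConjClasses.mk g₀, g₀, rfl, hg2⟩
    refine ⟨c, ?_⟩
    apply Subtype.ext
    change ((rep c : GL (Fin n) F) : Matrix (Fin n) (Fin n) F).charpoly = f
    have h3 : IsConj g₀ (rep c) := ConjClasses.mk_eq_mk_iff_isConj.mp (hrep1 c).symm
    rw [isConj_iff] at h3
    obtain ⟨x, hx⟩ := h3
    rw [← hx, ← hg1]
    simp only [Units.val_mul]
    rw [Matrix.coe_units_inv, Matrix.charpoly_units_conj]

end Cfsg.Agent.Helper8.SemiS
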