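import Mathlib
set_option autoImplicit false

namespace Cfsg.Agent.Helper8.SemiS

open Polynomial Module DirectSum

/-- Two finite families with the same multiset of values are related by a bijection of indices. -/
theorem natCard_fiber_eq_count {α κ : Type*} [Fintype κ] [DecidableEq α] (g : κ → α) (a : α) :
    Nat.card {i // g i = a} = (Finset.univ.val.map g).count a := by
  classical
  rw [Nat.card_eq_fintype_card, Fintype.card_subtype, Multiset.count_map, Finset.card_def,
    Finset.filter_val]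
  congr 1
  apply Multiset.filter_congr
  intro i _
  exact eq_comm

theorem family_matching {α ι ι' : Type*} [Fintype ι] [Fintype ι'] (f : ι → α) (f' : ι' → α)
    (h : Finset.univ.val.map f = Finset.univ.val.map f') :
    ∃ σ : ι ≃ ι', ∀ i, f' (σ i) = f i := by
  classical
  have hcard : ∀ a : α, Fintype.card {i // f i = a} = Fintype.card {i // f' i = a} := by
    intro a
    rw [← Nat.card_eq_fintype_card, ← Nat.card_eq_fintype_card, natCard_fiber_eq_count,
      natCard_fiber_eq_count, h]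
  let ε : ∀ a : α, {i // f i = a} ≃ {i // f' i = a} := fun a => Fintype.equivOfCardEq (hcard a)
  let σ : ι ≃ ι' :=
    (Equiv.sigmaFiberEquiv f).symm.trans ((Equiv.sigmaCongrRight ε).trans (Equiv.sigmaFiberEquiv f'))
  refine ⟨σ, ?_⟩
  intro i
  change f' ((ε (f i) ⟨i, rfl⟩).1) = f i
  exact (ε (f i) ⟨i, rfl⟩).2

variable {R : Type*} [CommRing R]

/-- drop trivial factors from a product of modules -/
def piDrop {ι : Type*} (M : ι → Type*) [∀ i, AddCommGroup (M i)] [∀ i, Module R (M i)]
    (s : ι → Prop) [DecidablePred s] (h : ∀ i, ¬ s i → Subsingleton (M i)) :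
    (∀ i, M i) ≃ₗ[R] (∀ i : {i // s i}, M i.1) where
  toFun f := fun i => f i.1
  invFun f := fun i => if hi : s i then f ⟨i, hi⟩ else 0
  map_add' _ _ := rfl
  map_smul' _ _ := rfl
  left_inv f := by
    funext i
    by_cases hi : s i
    · simp [hi]
    · have := h i hi
      exact Subsingleton.elim _ _
  right_inv f := by
    funext i
    simp [i.2]

variable {F : Type*} [Field F] {V : Type*} [AddCommGroup V] [Module F V] [FiniteDimensional F V]

/-- Decomposition of a semisimple endomorphism: the `F[X]`-module is a finite product of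
quotients by monic irreducible polynomials. -/
theorem exists_model (φ : Module.End F V) (g : F[X]) (hg : Squarefree g) (hφ : aeval φ g = 0) :
    ∃ (d : ℕ) (P : Fin d → F[X]), (∀ i, (P i).Monic ∧ Irreducible (P i)) ∧
      Nonempty (AEval' φ ≃ₗ[F[X]] (∀ i : Fin d, F[X] ⧸ (F[X] ∙ P i))) := by
  classical
  have hg0 : g ≠ 0 := hg.ne_zero
  have hkill : ∀ m : AEval' φ, g • m = 0 := by
    intro m
    obtain ⟨v, rfl⟩ := (AEval'.of φ).surjective m
    change g • (AEval'.of φ) v = 0
    rw [← AEval.of_aeval_smul, hφ]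
    simp
  have hN : Module.IsTorsion F[X] (AEval' φ) := by
    intro m
    exact ⟨⟨g, mem_nonZeroDivisors_of_ne_zero hg0⟩, hkill m⟩
  obtain ⟨ι, _, p, hp, e, ⟨Ψ⟩⟩ := Module.equiv_directSum_of_isTorsion hN
  -- each prime power divides g
  have hdvd : ∀ i, p i ^ e i ∣ g := by
    intro i
    have h1 : g • Ψ.symm (DirectSum.of (fun i => F[X] ⧸ (F[X] ∙ p i ^ e i)) i
        (Submodule.Quotient.mk 1)) = 0 := hkill _
    rw [← map_smul, LinearEquiv.map_eq_zero_iff, ← DirectSum.of_smul,
      ← Submodule.Quotient.mk_smul, smul_eq_mul, mul_one] at h1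
    have h2 := DirectSum.of_injective (β := fun i => F[X] ⧸ (F[X] ∙ p i ^ e i)) i
      (h1.trans (map_zero _).symm)
    rw [Submodule.Quotient.mk_eq_zero, Submodule.mem_span_singleton] at h2
    obtain ⟨c, hc⟩ := h2
    exact ⟨c, by rw [← hc, smul_eq_mul, mul_comm]⟩
  have he : ∀ i, e i ≤ 1 := by
    intro i
    by_contra hlt
    rw [not_le] at hlt
    have h1 : p i * p i ∣ g := by
      refine dvd_trans ?_ (hdvd i)
      rw [← pow_two]
      exact pow_dvd_pow _ hlt
    exact (hp i).not_isUnit (hg (p i) h1)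
  let Ψ₂ := DirectSum.linearEquivFunOnFintype F[X] ι (fun i => F[X] ⧸ (F[X] ∙ p i ^ e i))
  have hsub : ∀ i, ¬ (e i = 1) → Subsingleton (F[X] ⧸ (F[X] ∙ p i ^ e i)) := by
    intro i hi
    have h0 : e i = 0 := by have := he i; omega
    rw [h0, pow_zero, Submodule.Quotient.subsingleton_iff]
    rw [eq_top_iff]
    intro x _
    rw [Submodule.mem_span_singleton]
    exact ⟨x, by simp⟩
  let Ψ₃ := piDrop (R := F[X]) (fun i => F[X] ⧸ (F[X] ∙ p i ^ e i)) (fun i => e i = 1) hsub
  let ι₁ := {i // e i = 1}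
  let ee : ι₁ ≃ Fin (Fintype.card ι₁) := Fintype.equivFin ι₁
  let Ψ₄ := LinearEquiv.piCongrLeft' F[X] (fun i : ι₁ => F[X] ⧸ (F[X] ∙ p i.1 ^ e i.1)) ee
  let P : Fin (Fintype.card ι₁) → F[X] := fun j => normalize (p (ee.symm j).1)
  have hPeq : ∀ j, (F[X] ∙ p (ee.symm j).1 ^ e (ee.symm j).1) = (F[X] ∙ P j) := by
    intro j
    rw [(ee.symm j).2, pow_one]
    exact Ideal.span_singleton_eq_span_singleton.mpr (normalize_associated _).symm
  let Ψ₅ := LinearEquiv.piCongrRight (fun j : Fin (Fintype.card ι₁) =>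
    Submodule.quotEquivOfEq _ _ (hPeq j))
  refine ⟨Fintype.card ι₁, P, ?_, ⟨Ψ.trans (Ψ₂.trans (Ψ₃.trans (Ψ₄.trans Ψ₅)))⟩⟩
  intro j
  have hirr : Irreducible (P j) := (normalize_associated _).symm.irreducible (hp _)
  exact ⟨Polynomial.monic_normalize (hp _).ne_zero, hirr⟩

end Cfsg.Agent.Helper8.SemiS
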