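import Cfsg.Agent.Helper8.SemiSCharpoly
set_option autoImplicit false

namespace Cfsg.Agent.Helper8.SemiS

open Polynomial Module

variable {F : Type*} [Field F]

/-- families of monic irreducible polynomials with the same product have the same multiset -/
theorem multiset_eq_of_prod_eq {d d' : ℕ} (P : Fin d → F[X]) (P' : Fin d' → F[X])
    (hP : ∀ i, (P i).Monic ∧ Irreducible (P i)) (hP' : ∀ i, (P' i).Monic ∧ Irreducible (P' i))
    (h : ∏ i, P i = ∏ i, P' i) : Finset.univ.val.map P = Finset.univ.val.map P' := by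
  classical
  have key : ∀ (e : ℕ) (Q : Fin e → F[X]), (∀ i, (Q i).Monic ∧ Irreducible (Q i)) →
      UniqueFactorizationMonoid.normalizedFactors (∏ i, Q i) = Finset.univ.val.map Q := by
    intro e Q hQ
    have h1 : ∏ i, Q i = (Finset.univ.val.map Q).prod := rfl
    rw [h1, UniqueFactorizationMonoid.normalizedFactors_prod_eq]
    · rw [Multiset.map_map]
      apply Multiset.map_congr rfl
      intro i _
      exact (hQ i).1.normalize_eq_self
    · intro a ha
      rw [Multiset.mem_map] at ha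
      obtain ⟨i, _, rfl⟩ := ha
      exact (hQ i).2
  rw [← key d P hP, ← key d' P' hP', h]

/-- the model modules for families with the same multiset are isomorphic -/
theorem exists_model_equiv {d d' : ℕ} (P : Fin d → F[X]) (P' : Fin d' → F[X])
    (h : Finset.univ.val.map P = Finset.univ.val.map P') :
    Nonempty ((∀ i, F[X] ⧸ (F[X] ∙ P i)) ≃ₗ[F[X]] (∀ i, F[X] ⧸ (F[X] ∙ P' i))) := by
  obtain ⟨σ, hσ⟩ := family_matching P P' h
  have : P = fun i => P' (σ i) := funext fun i => (hσ i).symm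
  subst this
  exact ⟨LinearEquiv.piCongrLeft F[X] (fun j => F[X] ⧸ (F[X] ∙ P' j)) σ⟩

variable {V : Type*} [AddCommGroup V] [Module F V] [FiniteDimensional F V]

/-- from an `F[X]`-isomorphism with a model, an intertwining `F`-linear equivalence -/
noncomputable def modelEquiv (φ : Module.End F V) {d : ℕ} (P : Fin d → F[X])
    (Ψ : AEval' φ ≃ₗ[F[X]] (∀ i : Fin d, F[X] ⧸ (F[X] ∙ P i))) :
    V ≃ₗ[F] (∀ i : Fin d, F[X] ⧸ (F[X] ∙ P i)) :=
  (AEval'.of φ).trans (Ψ.restrictScalars F)

theorem modelEquiv_apply (φ : Module.End F V) {d : ℕ} (P : Fin d → F[X])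
    (Ψ : AEval' φ ≃ₗ[F[X]] (∀ i : Fin d, F[X] ⧸ (F[X] ∙ P i))) (v : V) :
    modelEquiv φ P Ψ (φ v) = (X : F[X]) • modelEquiv φ P Ψ v := by
  unfold modelEquiv
  simp only [LinearEquiv.trans_apply, LinearEquiv.restrictScalars_apply]
  rw [← AEval'.X_smul_of, map_smul]

theorem charpoly_eq_prod (φ : Module.End F V) {d : ℕ} (P : Fin d → F[X])
    [hP : ∀ i, Fact (P i).Monic]
    (Ψ : AEval' φ ≃ₗ[F[X]] (∀ i : Fin d, F[X] ⧸ (F[X] ∙ P i))) :
    φ.charpoly = ∏ i, P i := by
  rw [← charpoly_mulX_pi P, ← LinearEquiv.charpoly_conj (modelEquiv φ P Ψ) φ]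
  congr 1
  apply LinearMap.ext
  intro y
  rw [LinearEquiv.conj_apply]
  simp only [LinearMap.coe_comp, LinearEquiv.coe_coe, Function.comp_apply]
  rw [modelEquiv_apply, LinearEquiv.apply_symm_apply]
  rfl

end Cfsg.Agent.Helper8.SemiS
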