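import Mathlib
import Cfsg.Agent.Helper8.ProjPts

set_option autoImplicit false

/-! No sharply 2-transitive set of collineations of a projective space of dimension `≥ 2`. -/

namespace Cfsg.Agent.Helper8.Sharp2

open Projectivization Module Cfsg.Agent.Helper8.ProjPts

variable {F : Type*} [Field F] {n : ℕ}

theorem exists_hyperplane (a : Projectivization F (Fin n → F)) :
    ∃ W : Submodule F (Fin n → F), finrank F W + 1 = n ∧ a ∉ pts W := by
  have hv : a.rep ≠ 0 := a.rep_nonzero
  obtain ⟨i, hi⟩ := Function.ne_iff.mp hv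
  refine ⟨LinearMap.ker (LinearMap.proj i : (Fin n → F) →ₗ[F] F), ?_, ?_⟩
  · have h1 := LinearMap.finrank_range_add_finrank_ker
      (LinearMap.proj i : (Fin n → F) →ₗ[F] F)
    rw [LinearMap.range_eq_top.mpr (LinearMap.proj_surjective i), finrank_top, Module.finrank_self,
      Module.finrank_fin_fun] at h1
    omega
  · intro h
    rw [mem_pts_iff, LinearMap.mem_ker] at h
    exact hi h

theorem inter_ne_bot (hn : 3 ≤ n) (W U : Submodule F (Fin n → F)) (hW : finrank F W + 1 = n)
    (hU : finrank F U + 1 = n) : W ⊓ U ≠ ⊥ := by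
  intro h
  have h1 := Submodule.finrank_sup_add_finrank_inf_eq W U
  rw [h, finrank_bot] at h1
  have h2 : finrank F ↥(W ⊔ U) ≤ n := by
    have := Submodule.finrank_le (W ⊔ U)
    rwa [Module.finrank_fin_fun] at this
  omega

theorem finrank_comap [Finite F] {σ : F →+* F} (f : (Fin n → F) →ₛₗ[σ] (Fin n → F))
    (hf : Function.Injective f) (W : Submodule F (Fin n → F)) :
    finrank F ↥(W.comap f) = finrank F W := by
  have hsurj : Function.Surjective f := Finite.injective_iff_surjective.mp hf
  have hcard : Nat.card ↥(W.comap f) = Nat.card W := by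
    apply Nat.card_congr
    refine Equiv.ofBijective (fun v : ↥(W.comap f) => (⟨f v.1, v.2⟩ : W)) ⟨?_, ?_⟩
    · intro v w hvw
      apply Subtype.ext
      exact hf (congrArg Subtype.val hvw)
    · rintro ⟨w, hw⟩
      obtain ⟨v, rfl⟩ := hsurj w
      exact ⟨⟨v, hw⟩, rfl⟩
  rw [Module.natCard_eq_pow_finrank (K := F) (V := ↥(W.comap f)),
    Module.natCard_eq_pow_finrank (K := F) (V := W)] at hcard
  exact Nat.pow_right_injective (Finite.one_lt_card : 2 ≤ Nat.card F) hcard

/-- The main counting argument. -/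
theorem no_sharp [Finite F] (hn : 3 ≤ n) (S : Set (Equiv.Perm (Projectivization F (Fin n → F))))
    (hS : ∀ s ∈ S, ∃ (σ : F ≃+* F) (f : (Fin n → F) →ₛₗ[(σ : F →+* F)] (Fin n → F))
      (hf : Function.Injective f), ∀ x, s x = Projectivization.map f hf x) :
    ¬ (∀ a b c d : Projectivization F (Fin n → F), a ≠ b → c ≠ d →
        ∃! s, s ∈ S ∧ s a = c ∧ s b = d) := by
  classical
  intro h
  haveI : Fintype (Projectivization F (Fin n → F)) := Fintype.ofFinite _
  have hq : 2 ≤ Nat.card F := Finite.one_lt_card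
  haveI : Fact (1 < Nat.card F) := ⟨hq⟩
  -- a point
  have hv0 : (Pi.single (⟨0, by omega⟩ : Fin n) (1 : F) : Fin n → F) ≠ 0 := by
    intro h0
    have := congrFun h0 ⟨0, by omega⟩
    simp at this
  let a : Projectivization F (Fin n → F) := Projectivization.mk F _ hv0
  obtain ⟨W, hW, haW⟩ := exists_hyperplane a
  have hWne : W ≠ ⊥ := by
    intro h0
    rw [h0, finrank_bot] at hW
    omega
  set A : Finset (Projectivization F (Fin n → F)) := Finset.univ.filter (fun x => x ∈ pts W)
    with hA
  have hAcard : A.card = Nat.card (pts W) := by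
    rw [Nat.card_eq_fintype_card, hA]
    exact (Fintype.card_of_subtype _ (fun x => by simp)).symm
  have hAmod : ((A.card : ℕ) : ZMod (Nat.card F)) = 1 := by
    rw [hAcard]
    exact card_pts_mod W hWne
  have haA : a ∉ A := by
    rw [hA, Finset.mem_filter]
    exact fun hh => haW hh.2
  have hne_of_mem : ∀ x ∈ A, a ≠ x := by
    intro x hx hax
    rw [← hax] at hx
    exact haA hx
  set SA : Finset (Equiv.Perm (Projectivization F (Fin n → F))) :=
    Finset.univ.filter (fun s => s ∈ S ∧ s a = a) with hSA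
  -- key1
  have key1 : ∀ c ∈ A, ∀ b ∈ A, (SA.filter (fun s => s c = b)).card = 1 := by
    intro c hc b hb
    obtain ⟨s, ⟨hs1, hs2, hs3⟩, huniq⟩ := h a c a b (hne_of_mem c hc) (hne_of_mem b hb)
    rw [Finset.card_eq_one]
    refine ⟨s, ?_⟩
    ext t
    rw [Finset.mem_filter, hSA, Finset.mem_filter, Finset.mem_singleton]
    constructor
    · rintro ⟨⟨_, ht1, ht2⟩, ht3⟩
      exact huniq t ⟨ht1, ht2, ht3⟩
    · rintro rfl
      exact ⟨⟨Finset.mem_univ _, hs1, hs2⟩, hs3⟩
  -- key2
  have key2 : ∀ s ∈ SA, (((A.filter (fun c => s c ∈ A)).card : ℕ) : ZMod (Nat.card F)) = 1 := by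
    intro s hs
    rw [hSA, Finset.mem_filter] at hs
    obtain ⟨σ, f, hf, hsf⟩ := hS s hs.2.1
    have hU : finrank F ↥(W.comap f) + 1 = n := by rw [finrank_comap f hf W]; exact hW
    have hne := inter_ne_bot hn W (W.comap f) hW hU
    have hcard : (A.filter (fun c => s c ∈ A)).card = Nat.card (pts (W ⊓ W.comap f)) := by
      rw [Nat.card_eq_fintype_card]
      symm
      apply Fintype.card_of_subtype
      intro x
      rw [Finset.mem_filter, hA, Finset.mem_filter, Finset.mem_filter]
      simp only [Finset.mem_univ, true_and]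
      induction x using Projectivization.ind with
      | h v hv =>
        rw [hsf, map_mk, mem_pts_mk, mem_pts_mk, mem_pts_mk, Submodule.mem_inf,
          Submodule.mem_comap]
    rw [hcard]
    exact card_pts_mod _ hne
  -- key3
  have hAne : A.Nonempty := by
    rw [Finset.nonempty_iff_ne_empty]
    intro h0
    rw [h0, Finset.card_empty, Nat.cast_zero] at hAmod
    exact zero_ne_one hAmod
  obtain ⟨b₀, hb₀⟩ := hAne
  have hΩ : ((Fintype.card (Projectivization F (Fin n → F)) : ℕ) : ZMod (Nat.card F)) = 1 := by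
    apply cast_eq_one_of_mul (Nat.card F) _ n hq (by omega)
    rw [← Nat.card_eq_fintype_card, ← Projectivization.card F (Fin n → F), Nat.card_fun,
      Nat.card_eq_fintype_card (α := Fin n), Fintype.card_fin]
  have key3 : SA.card = Fintype.card (Projectivization F (Fin n → F)) - 1 := by
    have hmaps : ∀ s ∈ SA, s b₀ ∈ (Finset.univ.erase a) := by
      intro s hs
      rw [hSA, Finset.mem_filter] at hs
      rw [Finset.mem_erase]
      refine ⟨?_, Finset.mem_univ _⟩
      intro hh
      have : s b₀ = s a := by rw [hh, hs.2.2]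
      exact hne_of_mem b₀ hb₀ (s.injective this).symm
    rw [Finset.card_eq_sum_card_fiberwise hmaps]
    have : ∀ c ∈ Finset.univ.erase a, (SA.filter (fun s => s b₀ = c)).card = 1 := by
      intro c hc
      rw [Finset.mem_erase] at hc
      obtain ⟨s, ⟨hs1, hs2, hs3⟩, huniq⟩ := h a b₀ a c (hne_of_mem b₀ hb₀) (Ne.symm hc.1)
      rw [Finset.card_eq_one]
      refine ⟨s, ?_⟩
      ext t
      rw [Finset.mem_filter, hSA, Finset.mem_filter, Finset.mem_singleton]
      constructor
      · rintro ⟨⟨_, ht1, ht2⟩, ht3⟩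
        exact huniq t ⟨ht1, ht2, ht3⟩
      · rintro rfl
        exact ⟨⟨Finset.mem_univ _, hs1, hs2⟩, hs3⟩
    rw [Finset.sum_congr rfl this, Finset.sum_const, smul_eq_mul, mul_one,
      Finset.card_erase_of_mem (Finset.mem_univ a), Finset.card_univ]
  -- double counting
  have hdc : ∑ s ∈ SA, (A.filter (fun c => s c ∈ A)).card = A.card * A.card := by
    have h1 : ∀ s ∈ SA, (A.filter (fun c => s c ∈ A)).card
        = ∑ c ∈ A, if s c ∈ A then 1 else 0 := by
      intro s _
      rw [Finset.card_filter]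
    rw [Finset.sum_congr rfl h1, Finset.sum_comm]
    have h2 : ∀ c ∈ A, (∑ s ∈ SA, if s c ∈ A then 1 else 0) = A.card := by
      intro c hc
      rw [← Finset.card_filter]
      have hmaps : ∀ s ∈ SA.filter (fun s => s c ∈ A), s c ∈ A := by
        intro s hs
        exact (Finset.mem_filter.mp hs).2
      rw [Finset.card_eq_sum_card_fiberwise hmaps]
      have h3 : ∀ b ∈ A, ((SA.filter (fun s => s c ∈ A)).filter (fun s => s c = b)).card = 1 := by
        intro b hb
        rw [← key1 c hc b hb]
        congr 1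
        ext t
        simp only [Finset.mem_filter]
        constructor
        · rintro ⟨⟨ht1, _⟩, ht3⟩
          exact ⟨ht1, ht3⟩
        · rintro ⟨ht1, ht3⟩
          exact ⟨⟨ht1, by rw [ht3]; exact hb⟩, ht3⟩
      rw [Finset.sum_congr rfl h3, Finset.sum_const, smul_eq_mul, mul_one]
    rw [Finset.sum_congr rfl h2, Finset.sum_const, smul_eq_mul]
  -- conclusion
  have hfin := congrArg (fun m : ℕ => (m : ZMod (Nat.card F))) hdc
  simp only [Nat.cast_sum, Nat.cast_mul] at hfin
  have hpos : 1 ≤ Fintype.card (Projectivization F (Fin n → F)) := Fintype.card_pos_iff.mpr ⟨a⟩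
  rw [Finset.sum_congr rfl key2, Finset.sum_const, nsmul_eq_mul, mul_one, hAmod, mul_one, key3,
    Nat.cast_sub hpos, hΩ, Nat.cast_one, sub_self] at hfin
  exact zero_ne_one hfin

end Cfsg.Agent.Helper8.Sharp2
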