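import Mathlib
import Cfsg.Prelude.Def_RootSubgroups
import Cfsg.Prelude.Def_Classical
import Cfsg.Agent.Helper8.StdForms

set_option autoImplicit false

/-!
Siegel transvections of the hyperbolic quadratic space `F^{2n}`: the polar form, elements of the
isometry group built from linear maps, and the one-parameter groups `c ↦ σ_c(p, r)`.
-/

namespace Cfsg.Agent.Helper8.Siegel

open Matrix Cfsg Cfsg.Agent.Helper8.StdForms

variable {F : Type*} [Field F] {n : ℕ}

/-- the polar form of `quadFormPlus` as a bilinear form -/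
noncomputable def pB (n : ℕ) (F : Type*) [Field F] : LinearMap.BilinForm F (Fin n ⊕ Fin n → F) :=
  QuadraticMap.polarBilin (plusForm F n)

theorem pB_apply (u v : Fin n ⊕ Fin n → F) :
    pB n F u v = quadFormPlus n F (u + v) - quadFormPlus n F u - quadFormPlus n F v := by
  unfold pB
  rw [QuadraticMap.polarBilin_apply_apply, QuadraticMap.polar, plusForm_apply, plusForm_apply,
    plusForm_apply]

theorem pB_comm (u v : Fin n ⊕ Fin n → F) : pB n F u v = pB n F v u := by
  unfold pB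
  rw [QuadraticMap.polarBilin_apply_apply, QuadraticMap.polarBilin_apply_apply,
    QuadraticMap.polar_comm]

theorem pB_self (u : Fin n ⊕ Fin n → F) : pB n F u u = 2 * quadFormPlus n F u := by
  unfold pB
  rw [QuadraticMap.polarBilin_apply_apply, QuadraticMap.polar_self, plusForm_apply]
  simp

theorem pB_nondeg : (pB n F).Nondegenerate := plusForm_nondeg F n

theorem pB_isRefl : (pB n F).IsRefl := by
  intro u v h
  rw [pB_comm, h]

theorem Q_add (u v : Fin n ⊕ Fin n → F) :
    quadFormPlus n F (u + v) = quadFormPlus n F u + quadFormPlus n F v + pB n F u v := by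
  rw [pB_apply]; ring

theorem Q_smul (c : F) (u : Fin n ⊕ Fin n → F) :
    quadFormPlus n F (c • u) = c * c * quadFormPlus n F u := by
  rw [← plusForm_apply, ← plusForm_apply, QuadraticMap.map_smul, smul_eq_mul]

theorem Q_zero : quadFormPlus n F (0 : Fin n ⊕ Fin n → F) = 0 := by
  rw [← plusForm_apply, map_zero]

theorem Q_neg (u : Fin n ⊕ Fin n → F) : quadFormPlus n F (-u) = quadFormPlus n F u := by
  rw [← plusForm_apply, ← plusForm_apply, QuadraticMap.map_neg]

theorem Q_sub (u v : Fin n ⊕ Fin n → F) :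
    quadFormPlus n F (u - v) = quadFormPlus n F u + quadFormPlus n F v - pB n F u v := by
  rw [sub_eq_add_neg, Q_add, Q_neg, map_neg]; ring

/-- nondegeneracy in elementary form -/
theorem pB_eq_zero_imp {u : Fin n ⊕ Fin n → F} (h : ∀ v, pB n F u v = 0) : u = 0 :=
  (pB_nondeg (n := n) (F := F)).1 u h

/-! ### elements of the isometry group -/

/-- the ambient group: the isometry group of `quadFormPlus` -/
abbrev GO (n : ℕ) (F : Type*) [Field F] : Type _ := ↥(isometryGroup F (quadFormPlus n F))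

/-- the matrix of an element -/
abbrev mt (g : GO n F) : Matrix (Fin n ⊕ Fin n) (Fin n ⊕ Fin n) F :=
  ((g : Matrix.GeneralLinearGroup (Fin n ⊕ Fin n) F) : Matrix (Fin n ⊕ Fin n) (Fin n ⊕ Fin n) F)

theorem mt_mul (g h : GO n F) : mt (g * h) = mt g * mt h := rfl

theorem mt_one : mt (1 : GO n F) = 1 := rfl

theorem mt_mul_mulVec (g h : GO n F) (v : Fin n ⊕ Fin n → F) :
    mt (g * h) *ᵥ v = mt g *ᵥ (mt h *ᵥ v) := by
  rw [mt_mul, mulVec_mulVec]

theorem mt_one_mulVec (v : Fin n ⊕ Fin n → F) : mt (1 : GO n F) *ᵥ v = v := by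
  rw [mt_one, one_mulVec]

theorem ext_mulVec {g h : GO n F} (H : ∀ v : Fin n ⊕ Fin n → F, mt g *ᵥ v = mt h *ᵥ v) : g = h :=
  Subtype.ext (Units.ext (Matrix.ext_iff_mulVec.mpr H))

theorem Q_mt (g : GO n F) (v : Fin n ⊕ Fin n → F) :
    quadFormPlus n F (mt g *ᵥ v) = quadFormPlus n F v := g.2 v v

theorem pB_mt (g : GO n F) (u v : Fin n ⊕ Fin n → F) :
    pB n F (mt g *ᵥ u) (mt g *ᵥ v) = pB n F u v := by
  rw [pB_apply, pB_apply, ← mulVec_add, Q_mt, Q_mt, Q_mt]

theorem mt_inv_mulVec (g : GO n F) (v : Fin n ⊕ Fin n → F) : mt g *ᵥ (mt g⁻¹ *ᵥ v) = v := by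
  rw [← mt_mul_mulVec, mul_inv_cancel, mt_one_mulVec]

theorem mt_inv_mulVec' (g : GO n F) (v : Fin n ⊕ Fin n → F) : mt g⁻¹ *ᵥ (mt g *ᵥ v) = v := by
  rw [← mt_mul_mulVec, inv_mul_cancel, mt_one_mulVec]

theorem mt_injective (g : GO n F) {u v : Fin n ⊕ Fin n → F} (h : mt g *ᵥ u = mt g *ᵥ v) :
    u = v := by
  rw [← mt_inv_mulVec' g u, h, mt_inv_mulVec']

/-- an element of the isometry group from a pair of mutually inverse linear maps preserving `Q` -/
noncomputable def mkG (L L' : (Fin n ⊕ Fin n → F) →ₗ[F] (Fin n ⊕ Fin n → F))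
    (h1 : L ∘ₗ L' = LinearMap.id) (h2 : L' ∘ₗ L = LinearMap.id)
    (hQ : ∀ v, quadFormPlus n F (L v) = quadFormPlus n F v) : GO n F :=
  ⟨⟨LinearMap.toMatrix' L, LinearMap.toMatrix' L', by
      rw [← LinearMap.toMatrix'_comp, h1, LinearMap.toMatrix'_id], by
      rw [← LinearMap.toMatrix'_comp, h2, LinearMap.toMatrix'_id]⟩, by
    intro u v
    show quadFormPlus n F (LinearMap.toMatrix' L *ᵥ u) = quadFormPlus n F u
    rw [← Matrix.toLin'_apply, Matrix.toLin'_toMatrix', hQ]⟩

theorem mkG_mulVec (L L' : (Fin n ⊕ Fin n → F) →ₗ[F] (Fin n ⊕ Fin n → F))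
    (h1 : L ∘ₗ L' = LinearMap.id) (h2 : L' ∘ₗ L = LinearMap.id)
    (hQ : ∀ v, quadFormPlus n F (L v) = quadFormPlus n F v) (v : Fin n ⊕ Fin n → F) :
    mt (mkG L L' h1 h2 hQ) *ᵥ v = L v := by
  show LinearMap.toMatrix' L *ᵥ v = L v
  rw [← Matrix.toLin'_apply, Matrix.toLin'_toMatrix']

/-! ### Siegel transvections -/

/-- `p, r` span a totally singular subspace -/
def IsTS (p r : Fin n ⊕ Fin n → F) : Prop :=
  quadFormPlus n F p = 0 ∧ quadFormPlus n F r = 0 ∧ pB n F p r = 0

theorem IsTS.self_left {p r : Fin n ⊕ Fin n → F} (h : IsTS p r) : pB n F p p = 0 := by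
  rw [pB_self, h.1, mul_zero]

theorem IsTS.self_right {p r : Fin n ⊕ Fin n → F} (h : IsTS p r) : pB n F r r = 0 := by
  rw [pB_self, h.2.1, mul_zero]

theorem IsTS.symm {p r : Fin n ⊕ Fin n → F} (h : IsTS p r) : IsTS r p :=
  ⟨h.2.1, h.1, by rw [pB_comm]; exact h.2.2⟩

/-- the linear map `v ↦ v + c (f(v, r) p - f(v, p) r)` -/
noncomputable def SgL (p r : Fin n ⊕ Fin n → F) (c : F) :
    (Fin n ⊕ Fin n → F) →ₗ[F] (Fin n ⊕ Fin n → F) :=
  LinearMap.id + c • ((pB n F r).smulRight p - (pB n F p).smulRight r)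

theorem SgL_apply (p r : Fin n ⊕ Fin n → F) (c : F) (v : Fin n ⊕ Fin n → F) :
    SgL p r c v = v + c • (pB n F v r • p - pB n F v p • r) := by
  unfold SgL
  simp only [LinearMap.add_apply, LinearMap.id_apply, LinearMap.smul_apply, LinearMap.sub_apply,
    LinearMap.smulRight_apply]
  rw [pB_comm r v, pB_comm p v]

theorem SgL_comp {p r : Fin n ⊕ Fin n → F} (h : IsTS p r) (c d : F) :
    SgL p r c ∘ₗ SgL p r d = SgL p r (c + d) := by
  refine LinearMap.ext fun v => ?_
  rw [LinearMap.comp_apply, SgL_apply, SgL_apply, SgL_apply]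
  have h1 : pB n F (v + d • (pB n F v r • p - pB n F v p • r)) r = pB n F v r := by
    simp only [map_add, map_sub, map_smul, LinearMap.add_apply, LinearMap.sub_apply,
      LinearMap.smul_apply, h.2.2, h.self_right, smul_zero, sub_zero, add_zero]
  have h2 : pB n F (v + d • (pB n F v r • p - pB n F v p • r)) p = pB n F v p := by
    simp only [map_add, map_sub, map_smul, LinearMap.add_apply, LinearMap.sub_apply,
      LinearMap.smul_apply, h.self_left, pB_comm r p, h.2.2, smul_zero, sub_zero, add_zero]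
  rw [h1, h2]
  module

theorem SgL_zero (p r : Fin n ⊕ Fin n → F) : SgL p r 0 = LinearMap.id := by
  refine LinearMap.ext fun v => ?_
  rw [SgL_apply, zero_smul, add_zero, LinearMap.id_apply]

theorem Q_SgL {p r : Fin n ⊕ Fin n → F} (h : IsTS p r) (c : F) (v : Fin n ⊕ Fin n → F) :
    quadFormPlus n F (SgL p r c v) = quadFormPlus n F v := by
  rw [SgL_apply, Q_add, Q_smul, Q_sub, Q_smul, Q_smul, h.1, h.2.1]
  simp only [map_smul, map_sub, LinearMap.smul_apply, h.2.2, smul_eq_mul]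
  ring

/-- the Siegel transvection as an element of the isometry group (the identity when `p, r` do not
span a totally singular subspace) -/
noncomputable def SgG (p r : Fin n ⊕ Fin n → F) (c : F) : GO n F :=
  haveI := Classical.propDecidable (IsTS p r)
  if h : IsTS p r then
    mkG (SgL p r c) (SgL p r (-c)) (by rw [SgL_comp h, add_neg_cancel, SgL_zero])
      (by rw [SgL_comp h, neg_add_cancel, SgL_zero]) (Q_SgL h c)
  else 1

theorem SgG_mulVec {p r : Fin n ⊕ Fin n → F} (h : IsTS p r) (c : F) (v : Fin n ⊕ Fin n → F) :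
    mt (SgG p r c) *ᵥ v = v + c • (pB n F v r • p - pB n F v p • r) := by
  unfold SgG
  rw [dif_pos h, mkG_mulVec, SgL_apply]

theorem SgG_mul {p r : Fin n ⊕ Fin n → F} (h : IsTS p r) (c d : F) :
    SgG p r c * SgG p r d = SgG p r (c + d) := by
  apply ext_mulVec
  intro v
  rw [mt_mul_mulVec, SgG_mulVec h, SgG_mulVec h, SgG_mulVec h, ← SgL_apply, ← SgL_apply,
    ← SgL_apply, ← LinearMap.comp_apply, SgL_comp h]

theorem SgG_zero (p r : Fin n ⊕ Fin n → F) : SgG p r (0 : F) = 1 := by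
  by_cases h : IsTS p r
  · apply ext_mulVec
    intro v
    rw [SgG_mulVec h, zero_smul, add_zero, mt_one_mulVec]
  · unfold SgG
    rw [dif_neg h]

theorem SgG_inv {p r : Fin n ⊕ Fin n → F} (h : IsTS p r) (c : F) :
    (SgG p r c)⁻¹ = SgG p r (-c) := by
  rw [inv_eq_iff_mul_eq_one, SgG_mul h, add_neg_cancel, SgG_zero]

theorem SgG_comm {p r : Fin n ⊕ Fin n → F} (h : IsTS p r) (c d : F) :
    SgG p r c * SgG p r d = SgG p r d * SgG p r c := by
  rw [SgG_mul h, SgG_mul h, add_comm]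

end Cfsg.Agent.Helper8.Siegel
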