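import Mathlib
import Cfsg.Agent.Helper8.SiegelA

set_option autoImplicit false

/-!
Siegel transvection groups of totally singular lines: `RG ℓ`, the pointwise stabiliser of `ℓ^⊥`
in the isometry group, is exactly the one-parameter group of Siegel transvections.
-/

namespace Cfsg.Agent.Helper8.Siegel

open Matrix Cfsg Module

variable {F : Type*} [Field F] {n : ℕ}

/-- the orthogonal of a subspace -/
noncomputable def perp (ℓ : Submodule F (Fin n ⊕ Fin n → F)) : Submodule F (Fin n ⊕ Fin n → F) :=
  (pB n F).orthogonal ℓ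

theorem mem_perp {ℓ : Submodule F (Fin n ⊕ Fin n → F)} {v : Fin n ⊕ Fin n → F} :
    v ∈ perp ℓ ↔ ∀ u ∈ ℓ, pB n F u v = 0 := by
  unfold perp
  rw [LinearMap.BilinForm.mem_orthogonal_iff]

theorem perp_perp (ℓ : Submodule F (Fin n ⊕ Fin n → F)) : perp (perp ℓ) = ℓ :=
  LinearMap.BilinForm.orthogonal_orthogonal pB_nondeg pB_isRefl ℓ

theorem mem_perp_pair {p r v : Fin n ⊕ Fin n → F} :
    v ∈ perp (Submodule.span F {p, r}) ↔ pB n F v p = 0 ∧ pB n F v r = 0 := by
  rw [mem_perp]
  constructor
  · intro h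
    constructor
    · rw [pB_comm]; exact h p (Submodule.subset_span (Set.mem_insert _ _))
    · rw [pB_comm]
      exact h r (Submodule.subset_span (Set.mem_insert_of_mem _ (Set.mem_singleton _)))
  · rintro ⟨h1, h2⟩ u hu
    rw [Submodule.mem_span_pair] at hu
    obtain ⟨a, b, rfl⟩ := hu
    rw [map_add, map_smul, map_smul, LinearMap.add_apply, LinearMap.smul_apply,
      LinearMap.smul_apply, pB_comm p v, pB_comm r v, h1, h2, smul_zero, smul_zero, add_zero]

/-- dual vectors of a linearly independent family -/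
theorem exists_dual_family {k : ℕ} (v : Fin k → (Fin n ⊕ Fin n → F)) (hv : LinearIndependent F v) :
    ∃ u : Fin k → (Fin n ⊕ Fin n → F), ∀ i j, pB n F (v i) (u j) = if i = j then 1 else 0 := by
  obtain ⟨φ, hφ⟩ : ∃ φ : (Fin n ⊕ Fin n → F) →ₗ[F] (Fin k → F), ∀ x i, φ x i = pB n F (v i) x :=
    ⟨LinearMap.pi (fun i => pB n F (v i)), fun x i => rfl⟩
  have hker : LinearMap.ker φ = (pB n F).orthogonal (Submodule.span F (Set.range v)) := by
    ext x
    rw [LinearMap.mem_ker, LinearMap.BilinForm.mem_orthogonal_iff]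
    constructor
    · intro h w hw
      show pB n F w x = 0
      induction hw using Submodule.span_induction with
      | mem y hy =>
        obtain ⟨i, rfl⟩ := hy
        rw [← hφ, h]; rfl
      | zero => rw [map_zero, LinearMap.zero_apply]
      | add y z _ _ hy hz => rw [map_add, LinearMap.add_apply, hy, hz, add_zero]
      | smul a y _ hy => rw [map_smul, LinearMap.smul_apply, hy, smul_zero]
    · intro h
      funext i
      rw [hφ]
      exact h (v i) (Submodule.subset_span ⟨i, rfl⟩)
  have hsurj : LinearMap.range φ = ⊤ := by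
    apply Submodule.eq_top_of_finrank_eq
    have h1 := LinearMap.finrank_range_add_finrank_ker φ
    have h2 := LinearMap.BilinForm.finrank_orthogonal (pB_nondeg (F := F) (n := n))
      (Submodule.span F (Set.range v))
    rw [finrank_span_eq_card hv, Fintype.card_fin] at h2
    have h3 : finrank F (Submodule.span F (Set.range v)) ≤ finrank F (Fin n ⊕ Fin n → F) :=
      Submodule.finrank_le _
    rw [finrank_span_eq_card hv, Fintype.card_fin] at h3
    rw [hker, h2] at h1
    rw [Module.finrank_fintype_fun_eq_card, Fintype.card_fin]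
    omega
  have hex : ∀ j : Fin k, ∃ x, φ x = Pi.single j 1 := by
    intro j
    have : (Pi.single j 1 : Fin k → F) ∈ LinearMap.range φ := by rw [hsurj]; trivial
    exact this
  choose u hu using hex
  refine ⟨u, fun i j => ?_⟩
  rw [← hφ, hu, Pi.single_apply]

/-- a basis of a totally singular line -/
def IsLB (p r : Fin n ⊕ Fin n → F) : Prop := LinearIndependent F ![p, r] ∧ IsTS p r

/-- totally singular lines -/
def IsLine (ℓ : Submodule F (Fin n ⊕ Fin n → F)) : Prop :=
  ∃ p r, IsLB p r ∧ ℓ = Submodule.span F {p, r}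

theorem IsLB.exists_dual {p r : Fin n ⊕ Fin n → F} (h : IsLB p r) :
    ∃ p' r' : Fin n ⊕ Fin n → F, pB n F p p' = 1 ∧ pB n F r p' = 0 ∧ pB n F p r' = 0 ∧
      pB n F r r' = 1 := by
  obtain ⟨u, hu⟩ := exists_dual_family ![p, r] h.1
  refine ⟨u 0, u 1, ?_, ?_, ?_, ?_⟩
  · simpa using hu 0 0
  · simpa using hu 1 0
  · simpa using hu 0 1
  · simpa using hu 1 1

theorem IsLB.ne_zero_left {p r : Fin n ⊕ Fin n → F} (h : IsLB p r) : p ≠ 0 := by
  have := h.1.ne_zero 0
  simpa using this

theorem IsLB.ne_zero_right {p r : Fin n ⊕ Fin n → F} (h : IsLB p r) : r ≠ 0 := by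
  have := h.1.ne_zero 1
  simpa using this

theorem IsLB.eq_zero_of_comb {p r : Fin n ⊕ Fin n → F} (h : IsLB p r) {a b : F}
    (hab : a • p + b • r = 0) : a = 0 ∧ b = 0 :=
  (LinearIndependent.pair_iff.1 h.1) a b hab

theorem IsLB.Q_of_mem {p r : Fin n ⊕ Fin n → F} (h : IsLB p r) {u : Fin n ⊕ Fin n → F}
    (hu : u ∈ Submodule.span F {p, r}) : quadFormPlus n F u = 0 := by
  rw [Submodule.mem_span_pair] at hu
  obtain ⟨a, b, rfl⟩ := hu
  rw [Q_add, Q_smul, Q_smul, h.2.1, h.2.2.1, map_smul, map_smul, LinearMap.smul_apply, h.2.2.2]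
  simp

theorem IsLB.pB_of_mem {p r : Fin n ⊕ Fin n → F} (h : IsLB p r) {u w : Fin n ⊕ Fin n → F}
    (hu : u ∈ Submodule.span F {p, r}) (hw : w ∈ Submodule.span F {p, r}) : pB n F u w = 0 := by
  rw [pB_apply, h.Q_of_mem hu, h.Q_of_mem hw, h.Q_of_mem (Submodule.add_mem _ hu hw)]
  ring

theorem IsLB.le_perp {p r : Fin n ⊕ Fin n → F} (h : IsLB p r) :
    Submodule.span F {p, r} ≤ perp (Submodule.span F {p, r}) := by
  intro v hv
  rw [mem_perp]
  intro u hu
  exact h.pB_of_mem hu hv

theorem mem_span_left (p r : Fin n ⊕ Fin n → F) : p ∈ Submodule.span F {p, r} :=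
  Submodule.subset_span (Set.mem_insert _ _)

theorem mem_span_right (p r : Fin n ⊕ Fin n → F) : r ∈ Submodule.span F {p, r} :=
  Submodule.subset_span (Set.mem_insert_of_mem _ (Set.mem_singleton _))

/-- any independent pair of the line is again a basis -/
theorem IsLB.of_mem {p r : Fin n ⊕ Fin n → F} (h : IsLB p r) {p₂ r₂ : Fin n ⊕ Fin n → F}
    (hp₂ : p₂ ∈ Submodule.span F {p, r}) (hr₂ : r₂ ∈ Submodule.span F {p, r})
    (hli : LinearIndependent F ![p₂, r₂]) :
    IsLB p₂ r₂ ∧ Submodule.span F {p₂, r₂} = Submodule.span F {p, r} := by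
  refine ⟨⟨hli, h.Q_of_mem hp₂, h.Q_of_mem hr₂, h.pB_of_mem hp₂ hr₂⟩, ?_⟩
  have hle : Submodule.span F {p₂, r₂} ≤ Submodule.span F {p, r} := by
    rw [Submodule.span_le]
    intro w hw
    rcases hw with rfl | hw
    · exact hp₂
    · rw [Set.mem_singleton_iff] at hw; rw [hw]; exact hr₂
  apply Submodule.eq_of_le_of_finrank_eq hle
  have e1 : ({p₂, r₂} : Set (Fin n ⊕ Fin n → F)) = Set.range ![p₂, r₂] := by
    ext w; simp [eq_comm, or_comm]
  have e2 : ({p, r} : Set (Fin n ⊕ Fin n → F)) = Set.range ![p, r] := by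
    ext w; simp [eq_comm, or_comm]
  rw [e1, e2, finrank_span_eq_card hli, finrank_span_eq_card h.1]

/-- the Siegel transvection group of a subspace: the pointwise stabiliser of its orthogonal -/
def RG (ℓ : Submodule F (Fin n ⊕ Fin n → F)) : Subgroup (GO n F) where
  carrier := {g | ∀ v ∈ perp ℓ, mt g *ᵥ v = v}
  mul_mem' := by
    intro a b ha hb v hv
    rw [mt_mul_mulVec, hb v hv, ha v hv]
  one_mem' := fun v _ => mt_one_mulVec v
  inv_mem' := by
    intro a ha v hv
    conv_lhs => rw [← ha v hv]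
    exact mt_inv_mulVec' a v

theorem mem_RG {ℓ : Submodule F (Fin n ⊕ Fin n → F)} {g : GO n F} :
    g ∈ RG ℓ ↔ ∀ v ∈ perp ℓ, mt g *ᵥ v = v := Iff.rfl

theorem IsLB.SgG_mem {p r : Fin n ⊕ Fin n → F} (h : IsLB p r) (c : F) :
    SgG p r c ∈ RG (Submodule.span F {p, r}) := by
  intro v hv
  rw [mem_perp_pair] at hv
  rw [SgG_mulVec h.2, hv.1, hv.2, zero_smul, zero_smul, sub_zero, smul_zero, add_zero]

/-- **the pointwise stabiliser of `ℓ^⊥` consists of Siegel transvections** -/
theorem IsLB.mem_RG_iff {p r : Fin n ⊕ Fin n → F} (h : IsLB p r) (g : GO n F) :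
    g ∈ RG (Submodule.span F {p, r}) ↔ ∃ c : F, g = SgG p r c := by
  constructor
  · intro hg
    obtain ⟨p', r', h1, h2, h3, h4⟩ := h.exists_dual
    -- decomposition of an arbitrary vector
    have hdec : ∀ v, v - pB n F v p • p' - pB n F v r • r' ∈ perp (Submodule.span F {p, r}) := by
      intro v
      rw [mem_perp_pair]
      constructor
      · simp only [map_sub, map_smul, LinearMap.sub_apply, LinearMap.smul_apply, pB_comm p' p,
          pB_comm r' p, h1, h3, smul_eq_mul, mul_one, mul_zero, sub_self]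
      · simp only [map_sub, map_smul, LinearMap.sub_apply, LinearMap.smul_apply, pB_comm p' r,
          pB_comm r' r, h2, h4, smul_eq_mul, mul_one, mul_zero, sub_zero, sub_self]
    set a := mt g *ᵥ p' - p' with ha
    set b := mt g *ᵥ r' - r' with hb
    have hgv : ∀ v, mt g *ᵥ v = v + pB n F v p • a + pB n F v r • b := by
      intro v
      have h5 := hg _ (hdec v)
      rw [mulVec_sub, mulVec_sub, mulVec_smul, mulVec_smul] at h5
      rw [ha, hb]
      have h6 : mt g *ᵥ v = v - pB n F v p • p' - pB n F v r • r' +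
          pB n F v p • mt g *ᵥ p' + pB n F v r • mt g *ᵥ r' := by
        rw [← h5]; abel
      rw [h6]; module
    -- `a` and `b` lie in the line
    have hmem : ∀ y, (∀ w ∈ perp (Submodule.span F {p, r}), pB n F y w = 0) →
        y ∈ Submodule.span F {p, r} := by
      intro y hy
      have : y ∈ perp (perp (Submodule.span F {p, r})) := by
        rw [mem_perp]
        intro w hw
        rw [pB_comm]; exact hy w hw
      rwa [perp_perp] at this
    have hab : ∀ y, (∀ w ∈ perp (Submodule.span F {p, r}),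
        pB n F (mt g *ᵥ y - y) w = 0) := by
      intro y w hw
      rw [map_sub, LinearMap.sub_apply]
      conv_lhs => rw [← hg w hw]
      rw [pB_mt, hg w hw, sub_self]
    have haℓ := hmem a (hab p')
    have hbℓ := hmem b (hab r')
    rw [Submodule.mem_span_pair] at haℓ hbℓ
    obtain ⟨a₁, a₂, ha'⟩ := haℓ
    obtain ⟨b₁, b₂, hb'⟩ := hbℓ
    -- the quadratic form is preserved
    have hQ : ∀ v, pB n F v p * (a₁ * pB n F v p + a₂ * pB n F v r) +
        pB n F v r * (b₁ * pB n F v p + b₂ * pB n F v r) = 0 := by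
      intro v
      have h5 := Q_mt g v
      rw [hgv v, add_assoc, Q_add] at h5
      have h6 : quadFormPlus n F (pB n F v p • a + pB n F v r • b) = 0 := by
        apply h.Q_of_mem
        rw [← ha', ← hb']
        apply Submodule.add_mem _ (Submodule.smul_mem _ _ _) (Submodule.smul_mem _ _ _)
        · exact Submodule.add_mem _ (Submodule.smul_mem _ _ (mem_span_left p r))
            (Submodule.smul_mem _ _ (mem_span_right p r))
        · exact Submodule.add_mem _ (Submodule.smul_mem _ _ (mem_span_left p r))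
            (Submodule.smul_mem _ _ (mem_span_right p r))
      rw [h6, add_zero] at h5
      have h7 : pB n F v (pB n F v p • a + pB n F v r • b) = 0 := by
        linear_combination h5
      rw [← ha', ← hb'] at h7
      simp only [map_add, map_smul, smul_eq_mul] at h7
      rw [← h7]
    have e1 := hQ p'
    have e2 := hQ r'
    have e3 := hQ (p' + r')
    simp only [map_add, LinearMap.add_apply, pB_comm p' p, pB_comm r' p, pB_comm p' r,
      pB_comm r' r, h1, h2, h3, h4] at e1 e2 e3
    have ha₁ : a₁ = 0 := by linear_combination e1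
    have hb₂ : b₂ = 0 := by linear_combination e2
    have hab' : a₂ + b₁ = 0 := by
      rw [ha₁, hb₂] at e3
      linear_combination e3
    refine ⟨b₁, ?_⟩
    apply ext_mulVec
    intro v
    rw [hgv v, SgG_mulVec h.2, ← ha', ← hb', ha₁, hb₂]
    have : a₂ = -b₁ := by linear_combination hab'
    rw [this]
    module
  · rintro ⟨c, rfl⟩
    exact h.SgG_mem c

end Cfsg.Agent.Helper8.Siegel
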