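import Mathlib
import Cfsg.Agent.Helper8.SiegelB
import Cfsg.Agent.Helper7.RankOne

set_option autoImplicit false

/-!
Siegel transvection groups: commutativity, nontriviality, fixed spaces, injectivity of
`ℓ ↦ RG ℓ` and conjugation.
-/

namespace Cfsg.Agent.Helper8.Siegel

open Matrix Cfsg Module Cfsg.Agent.Helper7.R1

variable {F : Type*} [Field F] {n : ℕ}

theorem IsLB.SgG_eq_one_iff {p r : Fin n ⊕ Fin n → F} (h : IsLB p r) (c : F) :
    SgG p r c = 1 ↔ c = 0 := by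
  constructor
  · intro hc
    obtain ⟨p', r', h1, h2, h3, h4⟩ := h.exists_dual
    have h5 := SgG_mulVec h.2 c r'
    rw [hc, mt_one_mulVec, pB_comm r' r, pB_comm r' p, h4, h3, one_smul, zero_smul, sub_zero] at h5
    have h6 : c • p = 0 := by
      have := h5.symm
      rwa [add_eq_left] at this
    rcases smul_eq_zero.1 h6 with h7 | h7
    · exact h7
    · exact absurd h7 h.ne_zero_left
  · rintro rfl
    exact SgG_zero p r

theorem IsLB.SgG_injective {p r : Fin n ⊕ Fin n → F} (h : IsLB p r) {c d : F}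
    (hcd : SgG p r c = SgG p r d) : c = d := by
  have h1 : SgG p r (c - d) = 1 := by
    rw [sub_eq_add_neg, ← SgG_mul h.2, ← SgG_inv h.2, hcd, mul_inv_cancel]
  exact sub_eq_zero.1 ((h.SgG_eq_one_iff _).1 h1)

theorem IsLine.comm {ℓ : Submodule F (Fin n ⊕ Fin n → F)} (hℓ : IsLine ℓ) :
    IsMulCommutative ↥(RG ℓ) := by
  obtain ⟨p, r, h, rfl⟩ := hℓ
  constructor; constructor
  rintro ⟨a, ha⟩ ⟨b, hb⟩
  apply Subtype.ext
  obtain ⟨c, rfl⟩ := (h.mem_RG_iff a).1 ha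
  obtain ⟨d, rfl⟩ := (h.mem_RG_iff b).1 hb
  exact SgG_comm h.2 c d

theorem IsLine.ne_bot {ℓ : Submodule F (Fin n ⊕ Fin n → F)} (hℓ : IsLine ℓ) : RG ℓ ≠ ⊥ := by
  obtain ⟨p, r, h, rfl⟩ := hℓ
  intro hbot
  have h1 : SgG p r (1 : F) ∈ RG (Submodule.span F {p, r}) := h.SgG_mem 1
  rw [hbot, Subgroup.mem_bot, h.SgG_eq_one_iff] at h1
  exact one_ne_zero h1

/-- the common fixed space of `RG ℓ` is `ℓ^⊥` -/
theorem IsLine.fixed_iff {ℓ : Submodule F (Fin n ⊕ Fin n → F)} (hℓ : IsLine ℓ)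
    (v : Fin n ⊕ Fin n → F) : (∀ g ∈ RG ℓ, mt g *ᵥ v = v) ↔ v ∈ perp ℓ := by
  obtain ⟨p, r, h, rfl⟩ := hℓ
  constructor
  · intro hv
    have h1 := hv _ (h.SgG_mem 1)
    rw [SgG_mulVec h.2, one_smul, add_eq_left, sub_eq_add_neg, ← neg_smul] at h1
    have h2 := h.eq_zero_of_comb h1
    rw [mem_perp_pair]
    exact ⟨neg_eq_zero.1 h2.2, h2.1⟩
  · intro hv g hg
    exact hg v hv

theorem RG_injective {ℓ₁ ℓ₂ : Submodule F (Fin n ⊕ Fin n → F)} (h₁ : IsLine ℓ₁) (h₂ : IsLine ℓ₂)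
    (h : RG ℓ₁ = RG ℓ₂) : ℓ₁ = ℓ₂ := by
  have h3 : perp ℓ₁ = perp ℓ₂ := by
    ext v
    rw [← h₁.fixed_iff, ← h₂.fixed_iff, h]
  rw [← perp_perp ℓ₁, h3, perp_perp]

/-! ### the action on subspaces and conjugation -/

/-- the image of a subspace under an isometry -/
noncomputable def gmap (g : GO n F) (ℓ : Submodule F (Fin n ⊕ Fin n → F)) :
    Submodule F (Fin n ⊕ Fin n → F) := ℓ.map (Matrix.toLin' (mt g))

theorem mem_gmap {g : GO n F} {ℓ : Submodule F (Fin n ⊕ Fin n → F)} {w : Fin n ⊕ Fin n → F} :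
    w ∈ gmap g ℓ ↔ ∃ v ∈ ℓ, mt g *ᵥ v = w := by
  unfold gmap
  rw [Submodule.mem_map]
  simp only [Matrix.toLin'_apply]

theorem mem_gmap_iff {g : GO n F} {ℓ : Submodule F (Fin n ⊕ Fin n → F)} {w : Fin n ⊕ Fin n → F} :
    w ∈ gmap g ℓ ↔ mt g⁻¹ *ᵥ w ∈ ℓ := by
  rw [mem_gmap]
  constructor
  · rintro ⟨v, hv, rfl⟩
    rwa [mt_inv_mulVec']
  · intro h
    exact ⟨_, h, mt_inv_mulVec g w⟩

theorem perp_gmap (g : GO n F) (ℓ : Submodule F (Fin n ⊕ Fin n → F)) :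
    perp (gmap g ℓ) = gmap g (perp ℓ) := by
  ext w
  rw [mem_gmap_iff, mem_perp, mem_perp]
  constructor
  · intro h u hu
    have h1 := h (mt g *ᵥ u) (mem_gmap.2 ⟨u, hu, rfl⟩)
    rw [← pB_mt g, mt_inv_mulVec]
    exact h1
  · intro h u hu
    rw [mem_gmap_iff] at hu
    have h1 := h _ hu
    rw [← pB_mt g, mt_inv_mulVec, mt_inv_mulVec] at h1
    exact h1

theorem conjBy_RG (ℓ : Submodule F (Fin n ⊕ Fin n → F)) (g : GO n F) :
    conjBy (RG ℓ) g = RG (gmap g ℓ) := by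
  ext x
  rw [mem_conjBy, mem_RG, mem_RG, perp_gmap]
  constructor
  · intro h w hw
    rw [mem_gmap] at hw
    obtain ⟨v, hv, rfl⟩ := hw
    have h1 := h v hv
    rw [mt_mul_mulVec, mt_mul_mulVec] at h1
    have h2 := congrArg (fun y => mt g *ᵥ y) h1
    simp only [mt_inv_mulVec] at h2
    exact h2
  · intro h v hv
    rw [mt_mul_mulVec, mt_mul_mulVec, h _ (mem_gmap.2 ⟨v, hv, rfl⟩), mt_inv_mulVec']

theorem gmap_span_pair (g : GO n F) (p r : Fin n ⊕ Fin n → F) :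
    gmap g (Submodule.span F {p, r}) = Submodule.span F {mt g *ᵥ p, mt g *ᵥ r} := by
  unfold gmap
  rw [Submodule.map_span, Set.image_pair, Matrix.toLin'_apply, Matrix.toLin'_apply]

theorem IsLB.gmap {p r : Fin n ⊕ Fin n → F} (h : IsLB p r) (g : GO n F) :
    IsLB (mt g *ᵥ p) (mt g *ᵥ r) := by
  refine ⟨?_, by rw [Q_mt]; exact h.2.1, by rw [Q_mt]; exact h.2.2.1, by
    rw [pB_mt]; exact h.2.2.2⟩
  rw [LinearIndependent.pair_iff]
  intro a b hab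
  apply h.eq_zero_of_comb
  apply mt_injective g
  rw [mulVec_add, mulVec_smul, mulVec_smul, hab, mulVec_zero]

theorem IsLine.gmap {ℓ : Submodule F (Fin n ⊕ Fin n → F)} (hℓ : IsLine ℓ) (g : GO n F) :
    IsLine (gmap g ℓ) := by
  obtain ⟨p, r, h, rfl⟩ := hℓ
  exact ⟨_, _, h.gmap g, gmap_span_pair g p r⟩

/-- the set of Siegel transvection groups -/
def SS (n : ℕ) (F : Type*) [Field F] : Set (Subgroup (GO n F)) :=
  {A | ∃ ℓ, IsLine ℓ ∧ A = RG ℓ}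

theorem SS_conj_mem : ∀ A ∈ SS n F, ∀ g : GO n F, conjBy A g ∈ SS n F := by
  rintro _ ⟨ℓ, hℓ, rfl⟩ g
  exact ⟨gmap g ℓ, hℓ.gmap g, conjBy_RG ℓ g⟩

theorem SS_comm : ∀ A ∈ SS n F, IsMulCommutative A := by
  rintro _ ⟨ℓ, hℓ, rfl⟩
  exact hℓ.comm

theorem SS_ne_bot : ∀ A ∈ SS n F, A ≠ ⊥ := by
  rintro _ ⟨ℓ, hℓ, rfl⟩
  exact hℓ.ne_bot

end Cfsg.Agent.Helper8.Siegel
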