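import Mathlib
import Cfsg.Agent.Helper8.SiegelC

set_option autoImplicit false

/-!
Pairs of Siegel transvection groups: the commuting cases and the commutator case.
-/

namespace Cfsg.Agent.Helper8.Siegel

open Matrix Cfsg Module Cfsg.Agent.Helper7.R1

variable {F : Type*} [Field F] {n : ℕ}

theorem pB_SgG_mulVec {p r : Fin n ⊕ Fin n → F} (h : IsTS p r) (c : F)
    (v w : Fin n ⊕ Fin n → F) :
    pB n F (mt (SgG p r c) *ᵥ v) w =
      pB n F v w + c * (pB n F v r * pB n F p w - pB n F v p * pB n F r w) := by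
  rw [SgG_mulVec h]
  simp only [map_add, map_sub, map_smul, LinearMap.add_apply, LinearMap.sub_apply,
    LinearMap.smul_apply, smul_eq_mul]

/-- rank zero: the two lines are orthogonal -/
theorem commute_of_orth {p r p' r' : Fin n ⊕ Fin n → F} (h : IsTS p r) (h' : IsTS p' r')
    (h1 : pB n F p p' = 0) (h2 : pB n F p r' = 0) (h3 : pB n F r p' = 0) (h4 : pB n F r r' = 0)
    (c d : F) : SgG p r c * SgG p' r' d = SgG p' r' d * SgG p r c := by
  apply ext_mulVec
  intro v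
  rw [mt_mul_mulVec, mt_mul_mulVec, SgG_mulVec h c (mt (SgG p' r' d) *ᵥ v),
    SgG_mulVec h' d (mt (SgG p r c) *ᵥ v), pB_SgG_mulVec h', pB_SgG_mulVec h', pB_SgG_mulVec h,
    pB_SgG_mulVec h, SgG_mulVec h', SgG_mulVec h, pB_comm p' r, pB_comm r' r, pB_comm p' p,
    pB_comm r' p, h1, h2, h3, h4]
  module

/-- the two lines share a vector -/
theorem commute_of_common {u r r' : Fin n ⊕ Fin n → F} (h : IsTS u r) (h' : IsTS u r')
    (c d : F) : SgG u r c * SgG u r' d = SgG u r' d * SgG u r c := by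
  apply ext_mulVec
  intro v
  rw [mt_mul_mulVec, mt_mul_mulVec, SgG_mulVec h c (mt (SgG u r' d) *ᵥ v),
    SgG_mulVec h' d (mt (SgG u r c) *ᵥ v), pB_SgG_mulVec h', pB_SgG_mulVec h', pB_SgG_mulVec h,
    pB_SgG_mulVec h, SgG_mulVec h', SgG_mulVec h, h.self_left, pB_comm r' u, h'.2.2, pB_comm r u,
    h.2.2, pB_comm r' r]
  module

theorem commutator_eq_bot_of_forall {A B : Subgroup (GO n F)}
    (h : ∀ a ∈ A, ∀ b ∈ B, a * b = b * a) : ⁅A, B⁆ = ⊥ := by
  rw [Subgroup.commutator_eq_bot_iff_le_centralizer]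
  intro a ha b hb
  exact (h a ha b hb).symm

theorem commutator_eq_bot_of_orth {p r p' r' : Fin n ⊕ Fin n → F} (h : IsLB p r) (h' : IsLB p' r')
    (h1 : pB n F p p' = 0) (h2 : pB n F p r' = 0) (h3 : pB n F r p' = 0) (h4 : pB n F r r' = 0) :
    ⁅RG (Submodule.span F {p, r}), RG (Submodule.span F {p', r'})⁆ = ⊥ := by
  apply commutator_eq_bot_of_forall
  intro a ha b hb
  obtain ⟨c, rfl⟩ := (h.mem_RG_iff a).1 ha
  obtain ⟨d, rfl⟩ := (h'.mem_RG_iff b).1 hb
  exact commute_of_orth h.2 h'.2 h1 h2 h3 h4 c d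

theorem commutator_eq_bot_of_common {u r r' : Fin n ⊕ Fin n → F} (h : IsLB u r) (h' : IsLB u r') :
    ⁅RG (Submodule.span F {u, r}), RG (Submodule.span F {u, r'})⁆ = ⊥ := by
  apply commutator_eq_bot_of_forall
  intro a ha b hb
  obtain ⟨c, rfl⟩ := (h.mem_RG_iff a).1 ha
  obtain ⟨d, rfl⟩ := (h'.mem_RG_iff b).1 hb
  exact commute_of_common h.2 h'.2 c d

/-! ### the commutator case -/

/-- the basic commutator relation -/
theorem SgG_mul_SgG {p r p' r' : Fin n ⊕ Fin n → F} (h : IsTS p r) (h' : IsTS p' r')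
    (h1 : pB n F p p' = 0) (h2 : pB n F p r' = 0) (h3 : pB n F r p' = 0) (h4 : pB n F r r' = 1)
    (c d : F) :
    SgG p r c * SgG p' r' d = SgG p' p (c * d) * (SgG p' r' d * SgG p r c) := by
  have hL : IsTS p' p := ⟨h'.1, h.1, by rw [pB_comm]; exact h1⟩
  have h1' : pB n F p' p = 0 := by rw [pB_comm]; exact h1
  have h2' : pB n F r' p = 0 := by rw [pB_comm]; exact h2
  have h3' : pB n F p' r = 0 := by rw [pB_comm]; exact h3
  have h4' : pB n F r' r = 1 := by rw [pB_comm]; exact h4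
  have h5 : pB n F p r = 0 := h.2.2
  have h5' : pB n F r p = 0 := by rw [pB_comm]; exact h5
  have h6 : pB n F p' r' = 0 := h'.2.2
  have h6' : pB n F r' p' = 0 := by rw [pB_comm]; exact h6
  have h7 := h.self_left
  have h8 := h.self_right
  have h9 := h'.self_left
  have h10 := h'.self_right
  apply ext_mulVec
  intro v
  rw [mt_mul_mulVec, mt_mul_mulVec, mt_mul_mulVec, SgG_mulVec h c (mt (SgG p' r' d) *ᵥ v),
    SgG_mulVec hL (c * d), pB_SgG_mulVec h', pB_SgG_mulVec h', pB_SgG_mulVec h',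
    pB_SgG_mulVec h', pB_SgG_mulVec h, pB_SgG_mulVec h,
    SgG_mulVec h' d (mt (SgG p r c) *ᵥ v), pB_SgG_mulVec h, pB_SgG_mulVec h,
    SgG_mulVec h', SgG_mulVec h]
  simp only [h1, h2, h3, h4, h1', h2', h3', h4', h5, h5', h6, h6', h7, h8, h9, h10]
  module

theorem commutatorElement_SgG {p r p' r' : Fin n ⊕ Fin n → F} (h : IsTS p r) (h' : IsTS p' r')
    (h1 : pB n F p p' = 0) (h2 : pB n F p r' = 0) (h3 : pB n F r p' = 0) (h4 : pB n F r r' = 1)
    (c d : F) :
    SgG p r c * SgG p' r' d * (SgG p r c)⁻¹ * (SgG p' r' d)⁻¹ = SgG p' p (c * d) := by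
  rw [SgG_mul_SgG h h' h1 h2 h3 h4]
  group

/-- the data of the commutator case -/
theorem commutatorCase_of_skew {p r p' r' : Fin n ⊕ Fin n → F} (h : IsLB p r) (h' : IsLB p' r')
    (h1 : pB n F p p' = 0) (h2 : pB n F p r' = 0) (h3 : pB n F r p' = 0) (h4 : pB n F r r' = 1)
    (hli : LinearIndependent F ![p', p]) :
    RootCommutatorCase (SS n F) (RG (Submodule.span F {p, r})) (RG (Submodule.span F {p', r'})) := by
  have hL : IsLB p' p := ⟨hli, h'.2.1, h.2.1, by rw [pB_comm]; exact h1⟩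
  have hcomm : ⁅RG (Submodule.span F {p, r}), RG (Submodule.span F {p', r'})⁆ =
      RG (Submodule.span F {p', p}) := by
    apply le_antisymm
    · rw [Subgroup.commutator_le]
      intro a ha b hb
      obtain ⟨c, rfl⟩ := (h.mem_RG_iff a).1 ha
      obtain ⟨d, rfl⟩ := (h'.mem_RG_iff b).1 hb
      rw [commutatorElement_def, commutatorElement_SgG h.2 h'.2 h1 h2 h3 h4]
      exact hL.SgG_mem _
    · intro z hz
      obtain ⟨e, rfl⟩ := (hL.mem_RG_iff z).1 hz
      have := Subgroup.commutator_mem_commutator (h.SgG_mem 1) (h'.SgG_mem e)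
      rw [commutatorElement_def, commutatorElement_SgG h.2 h'.2 h1 h2 h3 h4, one_mul] at this
      exact this
  refine ⟨?_, ?_, ?_, ?_⟩
  · rw [hcomm]
    exact ⟨_, ⟨p', p, hL, rfl⟩, rfl⟩
  · rw [hcomm]
    intro z hz x hx
    have hle : RG (Submodule.span F {p, r}) ⊔ RG (Submodule.span F {p', r'}) ≤
        Subgroup.centralizer {z} := by
      obtain ⟨e, rfl⟩ := (hL.mem_RG_iff z).1 hz
      apply sup_le
      · intro a ha
        obtain ⟨c, rfl⟩ := (h.mem_RG_iff a).1 ha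
        rw [Subgroup.mem_centralizer_singleton_iff]
        exact (commute_of_orth hL.2 h.2 (by rw [pB_comm]; exact h1) (by rw [pB_comm]; exact h3)
          h.2.self_left h.2.2.2 e c).symm
      · intro b hb
        obtain ⟨d, rfl⟩ := (h'.mem_RG_iff b).1 hb
        rw [Subgroup.mem_centralizer_singleton_iff]
        exact (commute_of_orth hL.2 h'.2 h'.2.self_left h'.2.2.2 h1 h2 e d).symm
    have := hle hx
    rw [Subgroup.mem_centralizer_singleton_iff] at this
    exact this.symm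
  · intro a ha ha1
    rw [hcomm]
    obtain ⟨c, rfl⟩ := (h.mem_RG_iff a).1 ha
    have hc : c ≠ 0 := fun h0 => ha1 ((h.SgG_eq_one_iff c).2 h0)
    have himg : (fun b : GO n F => SgG p r c * b * (SgG p r c)⁻¹ * b⁻¹) ''
        (RG (Submodule.span F {p', r'}) : Set (GO n F)) =
        (RG (Submodule.span F {p', p}) : Set (GO n F)) := by
      ext z
      constructor
      · rintro ⟨b, hb, rfl⟩
        obtain ⟨d, rfl⟩ := (h'.mem_RG_iff b).1 hb
        show SgG p r c * SgG p' r' d * (SgG p r c)⁻¹ * (SgG p' r' d)⁻¹ ∈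
          RG (Submodule.span F {p', p})
        rw [commutatorElement_SgG h.2 h'.2 h1 h2 h3 h4]
        exact hL.SgG_mem _
      · intro hz
        obtain ⟨e, rfl⟩ := (hL.mem_RG_iff z).1 hz
        refine ⟨SgG p' r' (c⁻¹ * e), h'.SgG_mem _, ?_⟩
        show SgG p r c * SgG p' r' (c⁻¹ * e) * (SgG p r c)⁻¹ * (SgG p' r' (c⁻¹ * e))⁻¹ = _
        rw [commutatorElement_SgG h.2 h'.2 h1 h2 h3 h4, ← mul_assoc, mul_inv_cancel₀ hc, one_mul]
    rw [himg, Subgroup.closure_eq]
  · intro b hb hb1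
    rw [hcomm]
    obtain ⟨d, rfl⟩ := (h'.mem_RG_iff b).1 hb
    have hd : d ≠ 0 := fun h0 => hb1 ((h'.SgG_eq_one_iff d).2 h0)
    have himg : (fun a : GO n F => a * SgG p' r' d * a⁻¹ * (SgG p' r' d)⁻¹) ''
        (RG (Submodule.span F {p, r}) : Set (GO n F)) =
        (RG (Submodule.span F {p', p}) : Set (GO n F)) := by
      ext z
      constructor
      · rintro ⟨a, ha, rfl⟩
        obtain ⟨c, rfl⟩ := (h.mem_RG_iff a).1 ha
        show SgG p r c * SgG p' r' d * (SgG p r c)⁻¹ * (SgG p' r' d)⁻¹ ∈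
          RG (Submodule.span F {p', p})
        rw [commutatorElement_SgG h.2 h'.2 h1 h2 h3 h4]
        exact hL.SgG_mem _
      · intro hz
        obtain ⟨e, rfl⟩ := (hL.mem_RG_iff z).1 hz
        refine ⟨SgG p r (e * d⁻¹), h.SgG_mem _, ?_⟩
        show SgG p r (e * d⁻¹) * SgG p' r' d * (SgG p r (e * d⁻¹))⁻¹ * (SgG p' r' d)⁻¹ = _
        rw [commutatorElement_SgG h.2 h'.2 h1 h2 h3 h4, mul_assoc, inv_mul_cancel₀ hd, mul_one]
    rw [himg, Subgroup.closure_eq]

end Cfsg.Agent.Helper8.Siegel
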