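import Mathlib
import Cfsg.Agent.Helper8.SiegelD
import Cfsg.Agent.S5016
import Cfsg.Agent.Lead.RootImage

set_option autoImplicit false

/-!
Opposite totally singular lines: the Siegel transvection groups of two lines in duality generate an
image of `SL₂(F)` and form a rank one pair.
-/

namespace Cfsg.Agent.Helper8.Siegel

open Matrix Cfsg Module Cfsg.Agent.Helper7.R1

variable {F : Type*} [Field F] {n : ℕ}

/-- bases of two opposite lines in duality -/
structure IsOppBasis (p r p' r' : Fin n ⊕ Fin n → F) : Prop where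
  ts : IsTS p r
  ts' : IsTS p' r'
  pp : pB n F p p' = 1
  rr : pB n F r r' = 1
  pr : pB n F p r' = 0
  rp : pB n F r p' = 0

namespace IsOppBasis

variable {p r p' r' : Fin n ⊕ Fin n → F} (h : IsOppBasis p r p' r')
include h

theorem pp_ : pB n F p' p = 1 := by rw [pB_comm]; exact h.pp
theorem rr_ : pB n F r' r = 1 := by rw [pB_comm]; exact h.rr
theorem pr_ : pB n F r' p = 0 := by rw [pB_comm]; exact h.pr
theorem rp_ : pB n F p' r = 0 := by rw [pB_comm]; exact h.rp
theorem p_r : pB n F p r = 0 := h.ts.2.2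
theorem r_p : pB n F r p = 0 := by rw [pB_comm]; exact h.ts.2.2
theorem p'_r' : pB n F p' r' = 0 := h.ts'.2.2
theorem r'_p' : pB n F r' p' = 0 := by rw [pB_comm]; exact h.ts'.2.2
theorem p_p : pB n F p p = 0 := h.ts.self_left
theorem r_r : pB n F r r = 0 := h.ts.self_right
theorem p'_p' : pB n F p' p' = 0 := h.ts'.self_left
theorem r'_r' : pB n F r' r' = 0 := h.ts'.self_right

theorem symm : IsOppBasis p' r' p r :=
  ⟨h.ts', h.ts, h.pp_, h.rr_, h.rp_, h.pr_⟩

end IsOppBasis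

/-- the action of a `2 × 2` matrix on the four-space spanned by two opposite lines -/
noncomputable def PhiL (p r p' r' : Fin n ⊕ Fin n → F) (M : Matrix (Fin 2) (Fin 2) F) :
    (Fin n ⊕ Fin n → F) →ₗ[F] (Fin n ⊕ Fin n → F) :=
  LinearMap.id + ((M 0 0 - 1) • pB n F p' + M 0 1 • pB n F r).smulRight p
    + (M 1 0 • pB n F p' + (M 1 1 - 1) • pB n F r).smulRight r'
    + ((M 0 0 - 1) • pB n F r' - M 0 1 • pB n F p).smulRight r
    + ((-M 1 0) • pB n F r' + (M 1 1 - 1) • pB n F p).smulRight p'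

theorem PhiL_apply (p r p' r' : Fin n ⊕ Fin n → F) (M : Matrix (Fin 2) (Fin 2) F)
    (v : Fin n ⊕ Fin n → F) :
    PhiL p r p' r' M v = v + ((M 0 0 - 1) * pB n F v p' + M 0 1 * pB n F v r) • p
      + (M 1 0 * pB n F v p' + (M 1 1 - 1) * pB n F v r) • r'
      + ((M 0 0 - 1) * pB n F v r' - M 0 1 * pB n F v p) • r
      + ((-M 1 0) * pB n F v r' + (M 1 1 - 1) * pB n F v p) • p' := by
  unfold PhiL
  simp only [LinearMap.add_apply, LinearMap.id_apply, LinearMap.smul_apply, LinearMap.sub_apply,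
    LinearMap.smulRight_apply, smul_eq_mul]
  rw [pB_comm p' v, pB_comm r v, pB_comm r' v, pB_comm p v]

section coords

variable {p r p' r' : Fin n ⊕ Fin n → F} (h : IsOppBasis p r p' r')
include h

theorem pB_PhiL_p' (M : Matrix (Fin 2) (Fin 2) F) (v : Fin n ⊕ Fin n → F) :
    pB n F (PhiL p r p' r' M v) p' = M 0 0 * pB n F v p' + M 0 1 * pB n F v r := by
  rw [PhiL_apply]
  simp only [map_add, map_smul, LinearMap.add_apply, LinearMap.smul_apply, smul_eq_mul, h.pp,
    h.r'_p', h.rp, h.p'_p']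
  ring

theorem pB_PhiL_r (M : Matrix (Fin 2) (Fin 2) F) (v : Fin n ⊕ Fin n → F) :
    pB n F (PhiL p r p' r' M v) r = M 1 0 * pB n F v p' + M 1 1 * pB n F v r := by
  rw [PhiL_apply]
  simp only [map_add, map_smul, LinearMap.add_apply, LinearMap.smul_apply, smul_eq_mul, h.p_r,
    h.rr_, h.r_r, h.rp_]
  ring

theorem pB_PhiL_r' (M : Matrix (Fin 2) (Fin 2) F) (v : Fin n ⊕ Fin n → F) :
    pB n F (PhiL p r p' r' M v) r' = M 0 0 * pB n F v r' - M 0 1 * pB n F v p := by
  rw [PhiL_apply]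
  simp only [map_add, map_smul, LinearMap.add_apply, LinearMap.smul_apply, smul_eq_mul, h.pr,
    h.r'_r', h.rr, h.p'_r']
  ring

theorem pB_PhiL_p (M : Matrix (Fin 2) (Fin 2) F) (v : Fin n ⊕ Fin n → F) :
    pB n F (PhiL p r p' r' M v) p = -M 1 0 * pB n F v r' + M 1 1 * pB n F v p := by
  rw [PhiL_apply]
  simp only [map_add, map_smul, LinearMap.add_apply, LinearMap.smul_apply, smul_eq_mul, h.p_p,
    h.pr_, h.r_p, h.pp_]
  ring

theorem PhiL_mul (M N : Matrix (Fin 2) (Fin 2) F) :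
    PhiL p r p' r' (M * N) = PhiL p r p' r' M ∘ₗ PhiL p r p' r' N := by
  refine LinearMap.ext fun v => ?_
  rw [LinearMap.comp_apply, PhiL_apply p r p' r' M (PhiL p r p' r' N v), pB_PhiL_p' h, pB_PhiL_r h,
    pB_PhiL_r' h, pB_PhiL_p h, PhiL_apply, PhiL_apply]
  simp only [Matrix.mul_apply, Fin.sum_univ_two]
  module

omit h in
theorem PhiL_one : PhiL p r p' r' (1 : Matrix (Fin 2) (Fin 2) F) = LinearMap.id := by
  refine LinearMap.ext fun v => ?_
  rw [PhiL_apply]
  simp

theorem Q_PhiL (M : Matrix (Fin 2) (Fin 2) F) (hM : M.det = 1) (v : Fin n ⊕ Fin n → F) :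
    quadFormPlus n F (PhiL p r p' r' M v) = quadFormPlus n F v := by
  rw [Matrix.det_fin_two] at hM
  rw [PhiL_apply, Q_add, Q_add, Q_add, Q_add, Q_smul, Q_smul, Q_smul, Q_smul, h.ts.1, h.ts.2.1,
    h.ts'.1, h.ts'.2.1]
  simp only [map_add, map_smul, LinearMap.add_apply, LinearMap.smul_apply, smul_eq_mul, h.pp,
    h.r'_p', h.rp, h.p_r, h.rr_, h.pr]
  linear_combination (pB n F v p' * pB n F v p + pB n F v r' * pB n F v r) * hM

end coords

/-- the homomorphism `SL₂(F) → O⁺(2n, F)` attached to two opposite lines in duality -/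
noncomputable def Phi {p r p' r' : Fin n ⊕ Fin n → F} (h : IsOppBasis p r p' r') :
    Matrix.SpecialLinearGroup (Fin 2) F →* GO n F where
  toFun M := mkG (PhiL p r p' r' (M : Matrix (Fin 2) (Fin 2) F))
    (PhiL p r p' r' ((M⁻¹ : Matrix.SpecialLinearGroup (Fin 2) F) : Matrix (Fin 2) (Fin 2) F))
    (by rw [← PhiL_mul h, ← Matrix.SpecialLinearGroup.coe_mul, mul_inv_cancel,
      Matrix.SpecialLinearGroup.coe_one, PhiL_one])
    (by rw [← PhiL_mul h, ← Matrix.SpecialLinearGroup.coe_mul, inv_mul_cancel,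
      Matrix.SpecialLinearGroup.coe_one, PhiL_one])
    (Q_PhiL h _ M.det_coe)
  map_one' := by
    apply ext_mulVec
    intro v
    rw [mkG_mulVec, Matrix.SpecialLinearGroup.coe_one, PhiL_one, LinearMap.id_apply,
      mt_one_mulVec]
  map_mul' M N := by
    apply ext_mulVec
    intro v
    rw [mt_mul_mulVec, mkG_mulVec, mkG_mulVec, mkG_mulVec, Matrix.SpecialLinearGroup.coe_mul,
      PhiL_mul h, LinearMap.comp_apply]

theorem Phi_mulVec {p r p' r' : Fin n ⊕ Fin n → F} (h : IsOppBasis p r p' r')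
    (M : Matrix.SpecialLinearGroup (Fin 2) F) (v : Fin n ⊕ Fin n → F) :
    mt (Phi h M) *ᵥ v = PhiL p r p' r' (M : Matrix (Fin 2) (Fin 2) F) v := by
  exact mkG_mulVec (PhiL p r p' r' (M : Matrix (Fin 2) (Fin 2) F))
    (PhiL p r p' r' ((M⁻¹ : Matrix.SpecialLinearGroup (Fin 2) F) : Matrix (Fin 2) (Fin 2) F))
    (by rw [← PhiL_mul h, ← Matrix.SpecialLinearGroup.coe_mul, mul_inv_cancel,
      Matrix.SpecialLinearGroup.coe_one, PhiL_one])
    (by rw [← PhiL_mul h, ← Matrix.SpecialLinearGroup.coe_mul, inv_mul_cancel,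
      Matrix.SpecialLinearGroup.coe_one, PhiL_one])
    (Q_PhiL h _ M.det_coe) v

theorem Phi_up {p r p' r' : Fin n ⊕ Fin n → F} (h : IsOppBasis p r p' r') (s : F) :
    Phi h (Cfsg.Agent.S5016.up s) = SgG p r s := by
  apply ext_mulVec
  intro v
  rw [Phi_mulVec, PhiL_apply, SgG_mulVec h.ts, Cfsg.Agent.S5016.up_coe]
  simp only [Matrix.of_apply, Matrix.cons_val', Matrix.cons_val_zero, Matrix.cons_val_one,
    Matrix.empty_val', Matrix.cons_val_fin_one]
  module

theorem Phi_lo {p r p' r' : Fin n ⊕ Fin n → F} (h : IsOppBasis p r p' r') (t : F) :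
    Phi h (Cfsg.Agent.S5016.lo t) = SgG p' r' (-t) := by
  apply ext_mulVec
  intro v
  rw [Phi_mulVec, PhiL_apply, SgG_mulVec h.ts', Cfsg.Agent.S5016.lo_coe]
  simp only [Matrix.of_apply, Matrix.cons_val', Matrix.cons_val_zero, Matrix.cons_val_one,
    Matrix.empty_val', Matrix.cons_val_fin_one]
  module

theorem Phi_injective {p r p' r' : Fin n ⊕ Fin n → F} (h : IsOppBasis p r p' r') :
    Function.Injective (Phi h) := by
  rw [injective_iff_map_eq_one]
  intro M hM
  have e1 := Phi_mulVec h M p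
  have e2 := Phi_mulVec h M r'
  rw [hM, mt_one_mulVec, PhiL_apply] at e1 e2
  have c1 := congrArg (fun w => pB n F w p') e1
  have c2 := congrArg (fun w => pB n F w r) e1
  have c3 := congrArg (fun w => pB n F w p') e2
  have c4 := congrArg (fun w => pB n F w r) e2
  simp only [map_add, map_smul, LinearMap.add_apply, LinearMap.smul_apply, smul_eq_mul, h.pp,
    h.r'_p', h.rp, h.p'_p', h.p_r, h.rr_, h.r_r, h.rp_, h.pr, h.r'_r', h.p_p,
    h.pr_] at c1 c2 c3 c4
  apply Subtype.ext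
  rw [Matrix.SpecialLinearGroup.coe_one]
  ext i j
  fin_cases i <;> fin_cases j
  · show (M : Matrix (Fin 2) (Fin 2) F) 0 0 = 1
    linear_combination (-1 : F) * c1
  · show (M : Matrix (Fin 2) (Fin 2) F) 0 1 = 0
    linear_combination (-1 : F) * c3
  · show (M : Matrix (Fin 2) (Fin 2) F) 1 0 = 0
    linear_combination (-1 : F) * c2
  · show (M : Matrix (Fin 2) (Fin 2) F) 1 1 = 1
    linear_combination (-1 : F) * c4

theorem IsOppBasis.isLB {p r p' r' : Fin n ⊕ Fin n → F} (h : IsOppBasis p r p' r') : IsLB p r := by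
  refine ⟨?_, h.ts⟩
  rw [LinearIndependent.pair_iff]
  intro a b hab
  have e1 := congrArg (fun w => pB n F w p') hab
  have e2 := congrArg (fun w => pB n F w r') hab
  simp only [map_add, map_smul, LinearMap.add_apply, LinearMap.smul_apply, smul_eq_mul, h.pp, h.rp,
    h.pr, h.rr, map_zero, LinearMap.zero_apply, mul_one, mul_zero, add_zero, zero_add] at e1 e2
  exact ⟨e1, e2⟩

theorem IsOppBasis.isLB' {p r p' r' : Fin n ⊕ Fin n → F} (h : IsOppBasis p r p' r') :
    IsLB p' r' := h.symm.isLB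

theorem map_upper {p r p' r' : Fin n ⊕ Fin n → F} (h : IsOppBasis p r p' r') :
    (Cfsg.Agent.S5016.fixer (![1, 0] : Fin 2 → F)).map (Phi h) = RG (Submodule.span F {p, r}) := by
  ext g
  constructor
  · rintro ⟨M, hM, rfl⟩
    rw [Cfsg.Agent.S5016.eq_up hM, Phi_up]
    exact h.isLB.SgG_mem _
  · intro hg
    obtain ⟨c, rfl⟩ := (h.isLB.mem_RG_iff g).1 hg
    exact ⟨Cfsg.Agent.S5016.up c, Cfsg.Agent.S5016.up_mem c, Phi_up h c⟩

theorem map_lower {p r p' r' : Fin n ⊕ Fin n → F} (h : IsOppBasis p r p' r') :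
    (Cfsg.Agent.S5016.fixer (![0, 1] : Fin 2 → F)).map (Phi h) =
      RG (Submodule.span F {p', r'}) := by
  ext g
  constructor
  · rintro ⟨M, hM, rfl⟩
    rw [Cfsg.Agent.S5016.eq_lo hM, Phi_lo]
    exact h.isLB'.SgG_mem _
  · intro hg
    obtain ⟨c, rfl⟩ := (h.isLB'.mem_RG_iff g).1 hg
    refine ⟨Cfsg.Agent.S5016.lo (-c), Cfsg.Agent.S5016.lo_mem (-c), ?_⟩
    rw [Phi_lo, neg_neg]

theorem isPSL2PairOver_of_opp {p r p' r' : Fin n ⊕ Fin n → F} (h : IsOppBasis p r p' r') :
    IsPSL2PairOver F (RG (Submodule.span F {p, r})) (RG (Submodule.span F {p', r'})) := by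
  refine ⟨Phi h, ?_, ?_, ?_, ?_⟩
  · rw [MonoidHom.range_eq_map, ← Cfsg.Agent.S5016.sup_eq_top, Subgroup.map_sup, map_upper,
      map_lower, sup_comm]
  · rw [(MonoidHom.ker_eq_bot_iff (Phi h)).mpr (Phi_injective h)]
    exact bot_le
  · rw [Cfsg.Agent.S5016.upper_eq, map_upper]
  · rw [Cfsg.Agent.S5016.lower_eq, map_lower]

theorem IsOppBasis.not_mem {p r p' r' : Fin n ⊕ Fin n → F} (h : IsOppBasis p r p' r') :
    p ∉ Submodule.span F {p', r'} := by
  intro hp
  have h1 := h.isLB'.pB_of_mem hp (mem_span_left p' r')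
  rw [h.pp] at h1
  exact one_ne_zero h1

theorem RG_ne_of_opp {p r p' r' : Fin n ⊕ Fin n → F} (h : IsOppBasis p r p' r') :
    RG (Submodule.span F {p', r'}) ≠ RG (Submodule.span F {p, r}) := by
  intro he
  have h1 := RG_injective ⟨p', r', h.isLB', rfl⟩ ⟨p, r, h.isLB, rfl⟩ he
  apply h.not_mem
  rw [h1]
  exact mem_span_left p r

theorem isRankOnePair_of_opp {p r p' r' : Fin n ⊕ Fin n → F} (h : IsOppBasis p r p' r') :
    IsRankOnePair (RG (Submodule.span F {p, r})) (RG (Submodule.span F {p', r'})) := by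
  have h1 := Cfsg.Agent.Lead.RootImage.pair_map (Phi h)
    (Cfsg.Agent.S5016.isMulCommutative_lower (k := F))
    (Cfsg.Agent.S5016.isMulCommutative_upper (k := F)) Cfsg.Agent.S5016.pair
    (by rw [map_lower, map_upper]; exact RG_ne_of_opp h)
  rw [map_lower, map_upper] at h1
  exact RankOnePair_symm h1

end Cfsg.Agent.Helper8.Siegel
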