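import Mathlib
import Cfsg.Agent.Helper8.SiegelE
import Cfsg.Agent.Helper7.RootSubgroupBasic

set_option autoImplicit false

/-!
The three cases for two totally singular lines of the hyperbolic quadratic space: the Siegel
transvection groups commute, form a rank one pair which is an image of `SL₂(F)`, or satisfy the
commutator case.
-/

namespace Cfsg.Agent.Helper8.Siegel

open Matrix Cfsg Module Cfsg.Agent.Helper7.R1

variable {F : Type*} [Field F] {n : ℕ}

theorem not_rankOne_of_comm {G : Type*} [Group G] {A B : Subgroup G} (hc : ⁅A, B⁆ = ⊥)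
    (hA : A ≠ ⊥) : ¬ IsRankOnePair A B := by
  intro h
  obtain ⟨⟨a, ha⟩, ha1⟩ := (Subgroup.ne_bot_iff_exists_ne_one).1 hA
  have ha1' : a ≠ 1 := fun e => ha1 (Subtype.ext e)
  obtain ⟨b, hb, hb1, e⟩ := h.cond_left a ha ha1'
  have e1 : conjBy A b⁻¹ = A := Cfsg.Agent.Helper7.Root.conjBy_of_comm' (fun x hx => by
    have : Commute x b := Cfsg.Agent.Helper7.Root.comm_of_commutator_eq_bot hc hx hb
    exact this.inv_right.symm.eq)
  have e2 : conjBy B a⁻¹ = B := Cfsg.Agent.Helper7.Root.conjBy_of_comm' (fun x hx => by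
    have : Commute a x := Cfsg.Agent.Helper7.Root.comm_of_commutator_eq_bot hc ha hx
    exact this.inv_left.eq)
  rw [e1, e2] at e
  exact h.ne e

theorem IsLB.swap {p r : Fin n ⊕ Fin n → F} (h : IsLB p r) : IsLB r p := by
  refine ⟨?_, h.2.symm⟩
  rw [LinearIndependent.pair_iff]
  intro a b hab
  have := h.eq_zero_of_comb (a := b) (b := a) (by rw [add_comm]; exact hab)
  exact ⟨this.2, this.1⟩

theorem span_pair_swap (p r : Fin n ⊕ Fin n → F) :
    Submodule.span F {p, r} = Submodule.span F {r, p} := by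
  rw [Set.pair_comm]

theorem IsLB.extend {p r : Fin n ⊕ Fin n → F} (h : IsLB p r) {u : Fin n ⊕ Fin n → F}
    (hu : u ∈ Submodule.span F {p, r}) (hu0 : u ≠ 0) :
    ∃ w, IsLB u w ∧ Submodule.span F {u, w} = Submodule.span F {p, r} := by
  obtain ⟨x, y, hxy⟩ := Submodule.mem_span_pair.1 hu
  by_cases hy : y = 0
  · have hx : x ≠ 0 := by
      rintro rfl
      apply hu0
      rw [← hxy, hy, zero_smul, zero_smul, add_zero]
    refine ⟨r, ?_⟩
    apply h.of_mem hu (mem_span_right p r)
    rw [LinearIndependent.pair_iff]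
    intro a b hab
    have := h.eq_zero_of_comb (a := a * x) (b := b) (by
      rw [← hab, ← hxy, hy]; module)
    exact ⟨(mul_eq_zero.1 this.1).resolve_right hx, this.2⟩
  · refine ⟨p, ?_⟩
    apply h.of_mem hu (mem_span_left p r)
    rw [LinearIndependent.pair_iff]
    intro a b hab
    have := h.eq_zero_of_comb (a := a * x + b) (b := a * y) (by
      rw [← hab, ← hxy]; module)
    have ha : a = 0 := (mul_eq_zero.1 this.2).resolve_right hy
    refine ⟨ha, ?_⟩
    have h1 := this.1
    rw [ha, zero_mul, zero_add] at h1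
    exact h1

theorem exists_kernel_vec {p r : Fin n ⊕ Fin n → F} (h : IsLB p r) (p' r' : Fin n ⊕ Fin n → F)
    (hdet : pB n F p p' * pB n F r r' - pB n F p r' * pB n F r p' = 0) :
    ∃ u ∈ Submodule.span F {p, r}, u ≠ 0 ∧ pB n F u p' = 0 ∧ pB n F u r' = 0 := by
  have key : ∀ x y : F, (x ≠ 0 ∨ y ≠ 0) → x * pB n F p p' + y * pB n F r p' = 0 →
      x * pB n F p r' + y * pB n F r r' = 0 →
      ∃ u ∈ Submodule.span F {p, r}, u ≠ 0 ∧ pB n F u p' = 0 ∧ pB n F u r' = 0 := by
    intro x y hxy e1 e2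
    refine ⟨x • p + y • r, Submodule.mem_span_pair.2 ⟨x, y, rfl⟩, ?_, ?_, ?_⟩
    · intro e
      have := h.eq_zero_of_comb e
      rcases hxy with hx | hy
      · exact hx this.1
      · exact hy this.2
    · rw [map_add, map_smul, map_smul, LinearMap.add_apply, LinearMap.smul_apply,
        LinearMap.smul_apply, smul_eq_mul, smul_eq_mul]
      exact e1
    · rw [map_add, map_smul, map_smul, LinearMap.add_apply, LinearMap.smul_apply,
        LinearMap.smul_apply, smul_eq_mul, smul_eq_mul]
      exact e2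
  by_cases h22 : pB n F r r' = 0 ∧ pB n F p r' = 0
  · by_cases h21 : pB n F r p' = 0 ∧ pB n F p p' = 0
    · exact key 1 0 (Or.inl one_ne_zero) (by rw [h21.2, h21.1]; ring) (by rw [h22.1, h22.2]; ring)
    · refine key (pB n F r p') (-pB n F p p') ?_ (by ring) (by rw [h22.1, h22.2]; ring)
      by_contra hcon
      push Not at hcon
      exact h21 ⟨hcon.1, neg_eq_zero.1 hcon.2⟩
  · refine key (pB n F r r') (-pB n F p r') ?_ (by linear_combination hdet) (by ring)
    by_contra hcon
    push Not at hcon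
    exact h22 ⟨hcon.1, neg_eq_zero.1 hcon.2⟩

theorem exists_opp_of_det_ne {p r p' r' : Fin n ⊕ Fin n → F} (h : IsLB p r) (h' : IsLB p' r')
    (hdet : pB n F p p' * pB n F r r' - pB n F p r' * pB n F r p' ≠ 0) :
    ∃ p'' r'', IsOppBasis p r p'' r'' ∧
      Submodule.span F {p'', r''} = Submodule.span F {p', r'} := by
  obtain ⟨d, hd⟩ : ∃ d : F, d = pB n F p p' * pB n F r r' - pB n F p r' * pB n F r p' := ⟨_, rfl⟩
  have hd0 : d ≠ 0 := by rw [hd]; exact hdet
  have hp'' : d⁻¹ • (pB n F r r' • p' - pB n F r p' • r') ∈ Submodule.span F {p', r'} :=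
    Submodule.smul_mem _ _ (Submodule.sub_mem _
      (Submodule.smul_mem _ _ (mem_span_left p' r')) (Submodule.smul_mem _ _ (mem_span_right p' r')))
  have hr'' : d⁻¹ • (pB n F p p' • r' - pB n F p r' • p') ∈ Submodule.span F {p', r'} :=
    Submodule.smul_mem _ _ (Submodule.sub_mem _
      (Submodule.smul_mem _ _ (mem_span_right p' r')) (Submodule.smul_mem _ _ (mem_span_left p' r')))
  have hopp : IsOppBasis p r (d⁻¹ • (pB n F r r' • p' - pB n F r p' • r'))
      (d⁻¹ • (pB n F p p' • r' - pB n F p r' • p')) := by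
    refine ⟨h.2, ⟨h'.Q_of_mem hp'', h'.Q_of_mem hr'', h'.pB_of_mem hp'' hr''⟩, ?_, ?_, ?_, ?_⟩
    · rw [map_smul, map_sub, map_smul, map_smul, smul_eq_mul, smul_eq_mul, smul_eq_mul]
      rw [inv_mul_eq_one₀ hd0, hd]; ring
    · rw [map_smul, map_sub, map_smul, map_smul, smul_eq_mul, smul_eq_mul, smul_eq_mul]
      rw [inv_mul_eq_one₀ hd0, hd]
    · rw [map_smul, map_sub, map_smul, map_smul, smul_eq_mul, smul_eq_mul, smul_eq_mul]
      rw [mul_eq_zero]; right; ring
    · rw [map_smul, map_sub, map_smul, map_smul, smul_eq_mul, smul_eq_mul, smul_eq_mul]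
      rw [mul_eq_zero]; right; ring
  exact ⟨_, _, hopp, (h'.of_mem hp'' hr'' hopp.isLB'.1).2⟩

/-- the three cases for a pair of totally singular lines -/
theorem pair_cases {p r p' r' : Fin n ⊕ Fin n → F} (h : IsLB p r) (h' : IsLB p' r') :
    (∃ p'' r'', IsOppBasis p r p'' r'' ∧
      Submodule.span F {p'', r''} = Submodule.span F {p', r'}) ∨
    ⁅RG (Submodule.span F {p, r}), RG (Submodule.span F {p', r'})⁆ = ⊥ ∨
    RootCommutatorCase (SS n F) (RG (Submodule.span F {p, r}))
      (RG (Submodule.span F {p', r'})) := by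
  by_cases hdet : pB n F p p' * pB n F r r' - pB n F p r' * pB n F r p' = 0
  · right
    obtain ⟨u, hu, hu0, hu1, hu2⟩ := exists_kernel_vec h p' r' hdet
    obtain ⟨u', hu', hu0', hu1', hu2'⟩ := exists_kernel_vec h' p r (by
      rw [pB_comm p' p, pB_comm r' r, pB_comm p' r, pB_comm r' p]
      linear_combination hdet)
    obtain ⟨w, hw, hsp⟩ := h.extend hu hu0
    obtain ⟨w', hw', hsp'⟩ := h'.extend hu' hu0'
    rw [← hsp, ← hsp']
    have huℓ' : ∀ x ∈ Submodule.span F {p', r'}, pB n F u x = 0 := by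
      intro x hx
      obtain ⟨a, b, rfl⟩ := Submodule.mem_span_pair.1 hx
      rw [map_add, map_smul, map_smul, hu1, hu2, smul_zero, smul_zero, add_zero]
    have hu'ℓ : ∀ x ∈ Submodule.span F {p, r}, pB n F x u' = 0 := by
      intro x hx
      obtain ⟨a, b, rfl⟩ := Submodule.mem_span_pair.1 hx
      rw [map_add, map_smul, map_smul, LinearMap.add_apply, LinearMap.smul_apply,
        LinearMap.smul_apply, pB_comm p u', pB_comm r u', hu1', hu2', smul_zero, smul_zero,
        add_zero]
    have e1 : pB n F u u' = 0 := huℓ' u' hu'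
    have e2 : pB n F u w' = 0 := huℓ' w' (by rw [← hsp']; exact mem_span_right u' w')
    have e3 : pB n F w u' = 0 := hu'ℓ w (by rw [← hsp]; exact mem_span_right u w)
    by_cases hμ : pB n F w w' = 0
    · left
      exact commutator_eq_bot_of_orth hw hw' e1 e2 e3 hμ
    · -- rescale `w'`
      have hw'' : IsLB u' ((pB n F w w')⁻¹ • w') ∧
          Submodule.span F {u', (pB n F w w')⁻¹ • w'} = Submodule.span F {u', w'} := by
        apply hw'.of_mem (mem_span_left u' w')
          (Submodule.smul_mem _ _ (mem_span_right u' w'))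
        rw [LinearIndependent.pair_iff]
        intro a b hab
        have := hw'.eq_zero_of_comb (a := a) (b := b * (pB n F w w')⁻¹) (by
          rw [← hab]; module)
        exact ⟨this.1, (mul_eq_zero.1 this.2).resolve_right (inv_ne_zero hμ)⟩
      rw [← hw''.2]
      have e2' : pB n F u ((pB n F w w')⁻¹ • w') = 0 := by
        rw [map_smul, e2, smul_zero]
      have e4' : pB n F w ((pB n F w w')⁻¹ • w') = 1 := by
        rw [map_smul, smul_eq_mul, inv_mul_cancel₀ hμ]
      by_cases hli : LinearIndependent F ![u', u]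
      · right
        exact commutatorCase_of_skew hw hw''.1 e1 e2' e3 e4' hli
      · left
        -- `u'` is a multiple of `u`
        rw [LinearIndependent.pair_iff] at hli
        push Not at hli
        obtain ⟨a, b, hab, hne⟩ := hli
        have ha : a ≠ 0 := by
          intro ha
          rw [ha, zero_smul, zero_add] at hab
          rcases smul_eq_zero.1 hab with hb | hb
          · exact hne ha hb
          · exact hu0 hb
        have hu'u : u' = (-(a⁻¹ * b)) • u := by
          have : a • u' = -(b • u) := eq_neg_of_add_eq_zero_left hab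
          calc u' = a⁻¹ • (a • u') := by rw [smul_smul, inv_mul_cancel₀ ha, one_smul]
            _ = (-(a⁻¹ * b)) • u := by rw [this]; module
        have hc : -(a⁻¹ * b) ≠ 0 := by
          intro hc
          rw [hc, zero_smul] at hu'u
          exact hu0' hu'u
        have hw3 : IsLB u ((pB n F w w')⁻¹ • w') ∧
            Submodule.span F {u, (pB n F w w')⁻¹ • w'} =
              Submodule.span F {u', (pB n F w w')⁻¹ • w'} := by
          apply hw''.1.of_mem
          · have : u = (-(a⁻¹ * b))⁻¹ • u' := by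
              rw [hu'u, smul_smul, inv_mul_cancel₀ hc, one_smul]
            rw [this]
            exact Submodule.smul_mem _ _ (mem_span_left _ _)
          · exact mem_span_right _ _
          · rw [LinearIndependent.pair_iff]
            intro x y hxy
            have := hw''.1.eq_zero_of_comb (a := x * (-(a⁻¹ * b))⁻¹) (b := y) (by
              rw [← hxy]
              have : u = (-(a⁻¹ * b))⁻¹ • u' := by
                rw [hu'u, smul_smul, inv_mul_cancel₀ hc, one_smul]
              conv_rhs => rw [this]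
              module)
            exact ⟨(mul_eq_zero.1 this.1).resolve_right (inv_ne_zero hc), this.2⟩
        rw [← hw3.2]
        exact commutator_eq_bot_of_common hw hw3.1
  · left
    exact exists_opp_of_det_ne h h' hdet

/-- a rank one pair of Siegel transvection groups comes from two lines with nondegenerate
pairing -/
theorem det_ne_of_rankOne {p r p' r' : Fin n ⊕ Fin n → F} (h : IsLB p r) (h' : IsLB p' r')
    (hp : IsRankOnePair (RG (Submodule.span F {p, r})) (RG (Submodule.span F {p', r'}))) :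
    pB n F p p' * pB n F r r' - pB n F p r' * pB n F r p' ≠ 0 := by
  intro hdet
  obtain ⟨u, hu, hu0, hu1, hu2⟩ := exists_kernel_vec h p' r' hdet
  have hℓ : IsLine (Submodule.span F {p, r}) := ⟨p, r, h, rfl⟩
  have hℓ' : IsLine (Submodule.span F {p', r'}) := ⟨p', r', h', rfl⟩
  obtain ⟨⟨a, ha⟩, ha1⟩ := (Subgroup.ne_bot_iff_exists_ne_one).1 hℓ.ne_bot
  have ha1' : a ≠ 1 := fun e => ha1 (Subtype.ext e)
  obtain ⟨b, hb, hb1, e⟩ := hp.cond_left a ha ha1'
  rw [conjBy_RG, conjBy_RG] at e
  have e' := RG_injective (hℓ.gmap b⁻¹) (hℓ'.gmap a⁻¹) e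
  have hu' : u ∈ perp (Submodule.span F {p', r'}) := mem_perp_pair.2 ⟨hu1, hu2⟩
  have hbu : mt b⁻¹ *ᵥ u = u := (RG (Submodule.span F {p', r'})).inv_mem hb u hu'
  have hau : mt a *ᵥ u = u := ha u (h.le_perp hu)
  have h1 : u ∈ gmap b⁻¹ (Submodule.span F {p, r}) := mem_gmap.2 ⟨u, hu, hbu⟩
  rw [e', mem_gmap_iff, inv_inv, hau] at h1
  obtain ⟨w, hw, hsp⟩ := h.extend hu hu0
  obtain ⟨w', hw', hsp'⟩ := h'.extend h1 hu0
  have hc := commutator_eq_bot_of_common hw hw'
  rw [hsp, hsp'] at hc
  exact not_rankOne_of_comm hc hℓ.ne_bot hp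

theorem SS_pair : ∀ A ∈ SS n F, ∀ B ∈ SS n F,
    ⁅A, B⁆ = ⊥ ∨ IsRankOnePair A B ∨ RootCommutatorCase (SS n F) A B := by
  rintro _ ⟨ℓ, ⟨p, r, h, rfl⟩, rfl⟩ _ ⟨ℓ', ⟨p', r', h', rfl⟩, rfl⟩
  rcases pair_cases h h' with ⟨p'', r'', hopp, hsp⟩ | hc | hc
  · right; left
    rw [← hsp]
    exact isRankOnePair_of_opp hopp
  · left; exact hc
  · right; right; exact hc

theorem SS_psl : ∀ A ∈ SS n F, ∀ B ∈ SS n F, IsRankOnePair A B → IsPSL2PairOver F A B := by
  rintro _ ⟨ℓ, ⟨p, r, h, rfl⟩, rfl⟩ _ ⟨ℓ', ⟨p', r', h', rfl⟩, rfl⟩ hp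
  obtain ⟨p'', r'', hopp, hsp⟩ := exists_opp_of_det_ne h h' (det_ne_of_rankOne h h' hp)
  rw [← hsp]
  exact isPSL2PairOver_of_opp hopp

end Cfsg.Agent.Helper8.Siegel
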