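import Mathlib
import Cfsg.Agent.Helper8.SiegelF

set_option autoImplicit false

/-!
Connectivity of the graph of opposite totally singular lines of the hyperbolic quadratic space of
Witt index at least three.
-/

namespace Cfsg.Agent.Helper8.Siegel

open Matrix Cfsg Module Cfsg.Agent.Helper8.StdForms

variable {F : Type*} [Field F] {n : ℕ}

/-- the index of a coordinate -/
def idx : Fin n ⊕ Fin n → Fin n := Sum.elim id id

@[simp] theorem idx_swap (c : Fin n ⊕ Fin n) : idx c.swap = idx c := by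
  cases c <;> rfl

theorem eq_or_eq_swap_of_idx {c d : Fin n ⊕ Fin n} (h : idx d = idx c) : d = c ∨ d = c.swap := by
  cases c <;> cases d <;> simp only [idx, Sum.elim_inl, Sum.elim_inr, id] at h <;> subst h <;> simp

theorem ne_of_idx_ne {c d : Fin n ⊕ Fin n} (h : idx d ≠ idx c) : d ≠ c := fun e => h (by rw [e])

theorem ne_swap_of_idx_ne {c d : Fin n ⊕ Fin n} (h : idx d ≠ idx c) : d ≠ c.swap :=
  fun e => h (by rw [e, idx_swap])

theorem swap_ne_self (c : Fin n ⊕ Fin n) : c.swap ≠ c := by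
  cases c <;> simp

/-- coordinate vectors -/
def bv (c : Fin n ⊕ Fin n) : Fin n ⊕ Fin n → F := Pi.single c 1

theorem bv_self (c : Fin n ⊕ Fin n) : (bv c : Fin n ⊕ Fin n → F) c = 1 := Pi.single_eq_same _ _

theorem bv_ne {c d : Fin n ⊕ Fin n} (h : d ≠ c) : (bv c : Fin n ⊕ Fin n → F) d = 0 :=
  Pi.single_eq_of_ne h _

theorem bv_idx_ne {c d : Fin n ⊕ Fin n} (h : idx d ≠ idx c) : (bv c : Fin n ⊕ Fin n → F) d = 0 :=
  bv_ne (ne_of_idx_ne h)

theorem bv_swap (c : Fin n ⊕ Fin n) : (bv c : Fin n ⊕ Fin n → F) c.swap = 0 :=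
  bv_ne (swap_ne_self c)

theorem bv_swap' (c : Fin n ⊕ Fin n) : (bv c.swap : Fin n ⊕ Fin n → F) c = 0 :=
  bv_ne (swap_ne_self c).symm

theorem pB_bv_right (u : Fin n ⊕ Fin n → F) (c : Fin n ⊕ Fin n) :
    pB n F u (bv c) = u c.swap := by
  unfold pB
  rw [QuadraticMap.polarBilin_apply_apply, polar_plusForm]
  cases c with
  | inl j => simp [bv, Pi.single_apply]
  | inr j => simp [bv, Pi.single_apply]

theorem pB_bv_left (c : Fin n ⊕ Fin n) (u : Fin n ⊕ Fin n → F) :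
    pB n F (bv c) u = u c.swap := by
  rw [pB_comm, pB_bv_right]

theorem Q_bv (c : Fin n ⊕ Fin n) : quadFormPlus n F (bv c) = 0 := by
  unfold quadFormPlus
  apply Finset.sum_eq_zero
  intro i _
  cases c with
  | inl j => simp [bv]
  | inr j => simp [bv]

/-- a totally singular line has a nonzero minor at two columns of different index -/
theorem exists_minor {p r : Fin n ⊕ Fin n → F} (h : IsLB p r) :
    ∃ c c' : Fin n ⊕ Fin n, idx c' ≠ idx c ∧ p c * r c' - p c' * r c ≠ 0 := by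
  by_contra hcon
  push Not at hcon
  obtain ⟨c₀, hc₀⟩ : ∃ c₀, p c₀ ≠ 0 := by
    by_contra h0
    push Not at h0
    exact h.ne_zero_left (funext h0)
  have hr : r - (r c₀ / p c₀) • p =
      (r c₀.swap - (r c₀ / p c₀) * p c₀.swap) • (bv c₀.swap : Fin n ⊕ Fin n → F) := by
    funext d
    simp only [Pi.sub_apply, Pi.smul_apply, smul_eq_mul]
    by_cases hd : idx d = idx c₀
    · rcases eq_or_eq_swap_of_idx hd with e | e
      · rw [e, bv_swap', mul_zero]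
        field_simp
        ring
      · rw [e, bv_self, mul_one]
    · rw [bv_idx_ne (by rw [idx_swap]; exact hd), mul_zero]
      have := hcon c₀ d hd
      field_simp
      linear_combination this
  have h1 : pB n F p (r - (r c₀ / p c₀) • p) = 0 := by
    rw [map_sub, map_smul, h.2.2.2, h.2.self_left, smul_zero, sub_zero]
  rw [hr, map_smul, pB_bv_right, Sum.swap_swap, smul_eq_mul] at h1
  have hμ : r c₀.swap - (r c₀ / p c₀) * p c₀.swap = 0 := (mul_eq_zero.1 h1).resolve_right hc₀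
  rw [hμ, zero_smul] at hr
  have := h.eq_zero_of_comb (a := -(r c₀ / p c₀)) (b := 1) (by rw [← hr]; module)
  exact one_ne_zero this.2

/-- two lines are opposite -/
def Opp (ℓ ℓ' : Submodule F (Fin n ⊕ Fin n → F)) : Prop :=
  ∃ p r p' r', IsOppBasis p r p' r' ∧ ℓ = Submodule.span F {p, r} ∧
    ℓ' = Submodule.span F {p', r'}

theorem Opp.symm {ℓ ℓ' : Submodule F (Fin n ⊕ Fin n → F)} (h : Opp ℓ ℓ') : Opp ℓ' ℓ := by
  obtain ⟨p, r, p', r', h, e, e'⟩ := h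
  exact ⟨p', r', p, r, h.symm, e', e⟩

theorem opp_of_det_ne {p r p' r' : Fin n ⊕ Fin n → F} (h : IsLB p r) (h' : IsLB p' r')
    (hdet : pB n F p p' * pB n F r r' - pB n F p r' * pB n F r p' ≠ 0) :
    Opp (Submodule.span F {p, r}) (Submodule.span F {p', r'}) := by
  obtain ⟨p'', r'', hopp, hsp⟩ := exists_opp_of_det_ne h h' hdet
  exact ⟨p, r, p'', r'', hopp, rfl, hsp.symm⟩

theorem Opp.fAdj {ℓ ℓ' : Submodule F (Fin n ⊕ Fin n → F)} (h : Opp ℓ ℓ') :
    FAdj (SS n F) (RG ℓ) (RG ℓ') := by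
  obtain ⟨p, r, p', r', h, rfl, rfl⟩ := h
  exact ⟨⟨_, ⟨p, r, h.isLB, rfl⟩, rfl⟩, ⟨_, ⟨p', r', h.isLB', rfl⟩, rfl⟩, isRankOnePair_of_opp h⟩

/-- connectedness by chains of opposite lines -/
abbrev Conn (ℓ ℓ' : Submodule F (Fin n ⊕ Fin n → F)) : Prop := Relation.ReflTransGen Opp ℓ ℓ'

theorem Conn.symm {ℓ ℓ' : Submodule F (Fin n ⊕ Fin n → F)} (h : Conn ℓ ℓ') : Conn ℓ' ℓ := by
  induction h with
  | refl => exact Relation.ReflTransGen.refl
  | tail _ hbc ih => exact Relation.ReflTransGen.head hbc.symm ih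

/-- coordinate lines -/
def cl (c d : Fin n ⊕ Fin n) : Submodule F (Fin n ⊕ Fin n → F) :=
  Submodule.span F {bv c, bv d}

theorem cl_comm (c d : Fin n ⊕ Fin n) : (cl c d : Submodule F (Fin n ⊕ Fin n → F)) = cl d c :=
  span_pair_swap _ _

theorem isLB_bv {c d : Fin n ⊕ Fin n} (h : idx d ≠ idx c) :
    IsLB (bv c : Fin n ⊕ Fin n → F) (bv d) := by
  refine ⟨?_, Q_bv c, Q_bv d, ?_⟩
  · rw [LinearIndependent.pair_iff]
    intro a b hab
    have e1 := congrFun hab c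
    have e2 := congrFun hab d
    simp only [Pi.add_apply, Pi.smul_apply, smul_eq_mul, Pi.zero_apply, bv_self, bv_idx_ne h,
      bv_idx_ne h.symm, mul_one, mul_zero, add_zero, zero_add] at e1 e2
    exact ⟨e1, e2⟩
  · rw [pB_bv_right]
    exact bv_idx_ne (by rw [idx_swap]; exact h)

theorem exists_coord_opp {p r : Fin n ⊕ Fin n → F} (h : IsLB p r) :
    ∃ c d : Fin n ⊕ Fin n, idx d ≠ idx c ∧ Opp (Submodule.span F {p, r}) (cl c d) := by
  obtain ⟨c, c', hcc', hm⟩ := exists_minor h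
  refine ⟨c.swap, c'.swap, by simpa using hcc', ?_⟩
  apply opp_of_det_ne h (isLB_bv (by simpa using hcc'))
  rw [pB_bv_right, pB_bv_right, pB_bv_right, pB_bv_right, Sum.swap_swap, Sum.swap_swap]
  exact hm

theorem opp_M1 {c₁ c₂ c₃ : Fin n ⊕ Fin n} (h12 : idx c₂ ≠ idx c₁) (h13 : idx c₃ ≠ idx c₁)
    (h23 : idx c₃ ≠ idx c₂) :
    IsOppBasis (bv c₁ : Fin n ⊕ Fin n → F) (bv c₂) (bv c₁.swap) (bv c₂.swap + bv c₃.swap) := by
  refine ⟨⟨Q_bv _, Q_bv _, ?_⟩, ⟨Q_bv _, ?_, ?_⟩, ?_, ?_, ?_, ?_⟩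
  all_goals simp [Q_add, Q_bv, pB_bv_right, pB_bv_left, bv_self, bv_idx_ne, h12, h23,
    h12.symm, h13.symm, h23.symm]

theorem opp_M2 {c₁ c₂ c₃ : Fin n ⊕ Fin n} (h12 : idx c₂ ≠ idx c₁) (h13 : idx c₃ ≠ idx c₁)
    (h23 : idx c₃ ≠ idx c₂) :
    IsOppBasis (bv c₁ : Fin n ⊕ Fin n → F) (bv c₂) (bv c₁.swap)
      (bv c₂ + bv c₂.swap + (bv c₃.swap - bv c₃)) := by
  refine ⟨⟨Q_bv _, Q_bv _, ?_⟩, ⟨Q_bv _, ?_, ?_⟩, ?_, ?_, ?_, ?_⟩
  all_goals simp [Q_add, Q_sub, Q_bv, pB_bv_right, pB_bv_left, bv_self, bv_swap,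
    bv_idx_ne, h12, h12.symm, h13.symm, h23.symm]

theorem conn_M1 {c₁ c₂ c₃ : Fin n ⊕ Fin n} (h12 : idx c₂ ≠ idx c₁) (h13 : idx c₃ ≠ idx c₁)
    (h23 : idx c₃ ≠ idx c₂) :
    Conn (cl c₁ c₂ : Submodule F (Fin n ⊕ Fin n → F)) (cl c₁ c₃) := by
  have o1 : Opp (cl c₁ c₂ : Submodule F (Fin n ⊕ Fin n → F))
      (Submodule.span F {bv c₁.swap, bv c₂.swap + bv c₃.swap}) :=
    ⟨_, _, _, _, opp_M1 h12 h13 h23, rfl, rfl⟩
  have o2 : Opp (cl c₁ c₃ : Submodule F (Fin n ⊕ Fin n → F))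
      (Submodule.span F {bv c₁.swap, bv c₂.swap + bv c₃.swap}) :=
    ⟨_, _, _, _, opp_M1 h13 h12 h23.symm, rfl, by rw [add_comm]⟩
  exact (Relation.ReflTransGen.single o1).trans (Relation.ReflTransGen.single o2.symm)

theorem conn_M2 {c₁ c₂ c₃ : Fin n ⊕ Fin n} (h12 : idx c₂ ≠ idx c₁) (h13 : idx c₃ ≠ idx c₁)
    (h23 : idx c₃ ≠ idx c₂) :
    Conn (cl c₁ c₂ : Submodule F (Fin n ⊕ Fin n → F)) (cl c₁ c₂.swap) := by
  have o1 : Opp (cl c₁ c₂ : Submodule F (Fin n ⊕ Fin n → F))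
      (Submodule.span F {bv c₁.swap, bv c₂ + bv c₂.swap + (bv c₃.swap - bv c₃)}) :=
    ⟨_, _, _, _, opp_M2 h12 h13 h23, rfl, rfl⟩
  have o2 : Opp (cl c₁ c₂.swap : Submodule F (Fin n ⊕ Fin n → F))
      (Submodule.span F {bv c₁.swap, bv c₂ + bv c₂.swap + (bv c₃.swap - bv c₃)}) :=
    ⟨_, _, _, _, opp_M2 (c₂ := c₂.swap) (by rw [idx_swap]; exact h12) h13
      (by rw [idx_swap]; exact h23), rfl, by
        rw [Sum.swap_swap, add_comm (bv c₂.swap : Fin n ⊕ Fin n → F) (bv c₂)]⟩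
  exact (Relation.ReflTransGen.single o1).trans (Relation.ReflTransGen.single o2.symm)

theorem exists_third (hn : 3 ≤ n) (i j : Fin n) : ∃ k : Fin n, k ≠ i ∧ k ≠ j := by
  by_contra hcon
  push Not at hcon
  have h1 : Fintype.card (Fin n) ≤ 2 := by
    calc Fintype.card (Fin n) = (Finset.univ : Finset (Fin n)).card := Finset.card_univ.symm
      _ ≤ ({i, j} : Finset (Fin n)).card := Finset.card_le_card (fun k _ => by
          by_cases hk : k = i
          · simp [hk]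
          · simp [hcon k hk])
      _ ≤ 2 := Finset.card_le_two
  rw [Fintype.card_fin] at h1
  omega

theorem conn_hub (hn : 3 ≤ n) {c d d' : Fin n ⊕ Fin n} (hd : idx d ≠ idx c)
    (hd' : idx d' ≠ idx c) :
    Conn (cl c d : Submodule F (Fin n ⊕ Fin n → F)) (cl c d') := by
  by_cases h : idx d' = idx d
  · rcases eq_or_eq_swap_of_idx h with e | e
    · rw [e]
    · rw [e]
      obtain ⟨k, hk1, hk2⟩ := exists_third hn (idx c) (idx d)
      have hk : idx (Sum.inl k : Fin n ⊕ Fin n) = k := rfl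
      exact conn_M2 hd (c₃ := Sum.inl k) (by rw [hk]; exact hk1) (by rw [hk]; exact hk2)
  · exact conn_M1 hd hd' h

theorem conn_cl (hn : 3 ≤ n) {c₁ c₂ d d' : Fin n ⊕ Fin n} (h12 : idx c₂ ≠ idx c₁)
    (hdd' : idx d' ≠ idx d) :
    Conn (cl c₁ c₂ : Submodule F (Fin n ⊕ Fin n → F)) (cl d d') := by
  by_cases h : idx d = idx c₁
  · have hd2 : idx d ≠ idx c₂ := by rw [h]; exact h12.symm
    have s1 : Conn (cl c₂ c₁ : Submodule F (Fin n ⊕ Fin n → F)) (cl c₂ d) :=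
      conn_hub hn h12.symm hd2
    have s2 : Conn (cl d c₂ : Submodule F (Fin n ⊕ Fin n → F)) (cl d d') :=
      conn_hub hn hd2.symm hdd'
    rw [cl_comm c₁ c₂]
    rw [cl_comm c₂ d] at s1
    exact s1.trans s2
  · have s1 : Conn (cl c₁ c₂ : Submodule F (Fin n ⊕ Fin n → F)) (cl c₁ d) := conn_hub hn h12 h
    have s2 : Conn (cl d c₁ : Submodule F (Fin n ⊕ Fin n → F)) (cl d d') :=
      conn_hub hn (Ne.symm h) hdd'
    rw [cl_comm c₁ d] at s1
    exact s1.trans s2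

theorem conn_lines (hn : 3 ≤ n) {ℓ ℓ' : Submodule F (Fin n ⊕ Fin n → F)} (hℓ : IsLine ℓ)
    (hℓ' : IsLine ℓ') : Conn ℓ ℓ' := by
  obtain ⟨p, r, h, rfl⟩ := hℓ
  obtain ⟨p', r', h', rfl⟩ := hℓ'
  obtain ⟨c, d, hcd, o⟩ := exists_coord_opp h
  obtain ⟨c', d', hcd', o'⟩ := exists_coord_opp h'
  exact ((Relation.ReflTransGen.single o).trans (conn_cl hn hcd hcd')).trans
    (Relation.ReflTransGen.single o'.symm)

theorem Conn.lift {ℓ ℓ' : Submodule F (Fin n ⊕ Fin n → F)} (h : Conn ℓ ℓ') :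
    Relation.ReflTransGen (FAdj (SS n F)) (RG ℓ) (RG ℓ') := by
  induction h with
  | refl => exact Relation.ReflTransGen.refl
  | tail _ hbc ih => exact Relation.ReflTransGen.tail ih hbc.fAdj

theorem SS_connected (hn : 3 ≤ n) : IsConnectedFamily (FAdj (SS n F)) (SS n F) := by
  rintro _ ⟨ℓ, hℓ, rfl⟩ _ ⟨ℓ', hℓ', rfl⟩
  exact (conn_lines hn hℓ hℓ').lift

end Cfsg.Agent.Helper8.Siegel
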