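import Mathlib
import Cfsg.Agent.Helper8.SiegelG
import Cfsg.Agent.Helper8.RootSubC

set_option autoImplicit false

/-!
The Siegel transvection groups of the hyperbolic quadratic space of Witt index at least three form
a set of `F`-root subgroups of the group they generate, with connected graph of rank one pairs.
-/

namespace Cfsg.Agent.Helper8.Siegel

open Matrix Cfsg Module

variable {F : Type*} [Field F] {n : ℕ}

theorem SS_main (hn : 3 ≤ n) :
    IsKRootSubgroupSet F
      ((fun A : Subgroup (GO n F) => A.subgroupOf (⨆ B ∈ SS n F, B)) '' SS n F) ∧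
    IsConnectedFamily (FAdj (SS n F)) (SS n F) :=
  ⟨⟨Cfsg.Agent.Helper8.RootSub.isRootSubgroupSet_inside3 (SS n F) SS_comm SS_ne_bot SS_conj_mem
      SS_pair, Cfsg.Agent.Helper8.RootSub.kRoot_inside (SS n F) SS_psl⟩, SS_connected hn⟩

/-- the set of the statement is the set of Siegel transvection groups -/
theorem SS_eq :
    {A : Subgroup ↥(Cfsg.isometryGroup F (Cfsg.quadFormPlus n F)) | ∃ p r : Fin n ⊕ Fin n → F, LinearIndependent F ![p, r] ∧
          Cfsg.quadFormPlus n F p = 0 ∧ Cfsg.quadFormPlus n F r = 0 ∧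
          Cfsg.quadFormPlus n F (p + r) = 0 ∧
          A = Subgroup.closure {σ : ↥(Cfsg.isometryGroup F (Cfsg.quadFormPlus n F)) | ∀ v : Fin n ⊕ Fin n → F,
            Cfsg.quadFormPlus n F (v + p) - Cfsg.quadFormPlus n F v - Cfsg.quadFormPlus n F p = 0 →
            Cfsg.quadFormPlus n F (v + r) - Cfsg.quadFormPlus n F v - Cfsg.quadFormPlus n F r = 0 →
              ((σ : Matrix.GeneralLinearGroup (Fin n ⊕ Fin n) F) : Matrix (Fin n ⊕ Fin n) (Fin n ⊕ Fin n) F) *ᵥ v = v}} =
      SS n F := by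
  have key : ∀ p r : Fin n ⊕ Fin n → F,
      Subgroup.closure {σ : ↥(Cfsg.isometryGroup F (Cfsg.quadFormPlus n F)) | ∀ v : Fin n ⊕ Fin n → F,
            Cfsg.quadFormPlus n F (v + p) - Cfsg.quadFormPlus n F v - Cfsg.quadFormPlus n F p = 0 →
            Cfsg.quadFormPlus n F (v + r) - Cfsg.quadFormPlus n F v - Cfsg.quadFormPlus n F r = 0 →
              ((σ : Matrix.GeneralLinearGroup (Fin n ⊕ Fin n) F) : Matrix (Fin n ⊕ Fin n) (Fin n ⊕ Fin n) F) *ᵥ v = v} =
        RG (Submodule.span F {p, r}) := by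
    intro p r
    have : {σ : ↥(Cfsg.isometryGroup F (Cfsg.quadFormPlus n F)) | ∀ v : Fin n ⊕ Fin n → F,
            Cfsg.quadFormPlus n F (v + p) - Cfsg.quadFormPlus n F v - Cfsg.quadFormPlus n F p = 0 →
            Cfsg.quadFormPlus n F (v + r) - Cfsg.quadFormPlus n F v - Cfsg.quadFormPlus n F r = 0 →
              ((σ : Matrix.GeneralLinearGroup (Fin n ⊕ Fin n) F) : Matrix (Fin n ⊕ Fin n) (Fin n ⊕ Fin n) F) *ᵥ v = v} =
        ((RG (Submodule.span F {p, r}) : Subgroup (GO n F)) : Set (GO n F)) := by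
      ext σ
      rw [Set.mem_ofPred_eq, SetLike.mem_coe, mem_RG]
      constructor
      · intro h v hv
        rw [mem_perp_pair, pB_apply, pB_apply] at hv
        exact h v hv.1 hv.2
      · intro h v h1 h2
        apply h v
        rw [mem_perp_pair, pB_apply, pB_apply]
        exact ⟨h1, h2⟩
    rw [this, Subgroup.closure_eq]
  ext A
  constructor
  · rintro ⟨p, r, hli, hp, hr, hpr, rfl⟩
    rw [key]
    refine ⟨_, ⟨p, r, ⟨hli, hp, hr, ?_⟩, rfl⟩, rfl⟩
    rw [Q_add, hp, hr, zero_add, zero_add] at hpr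
    exact hpr
  · rintro ⟨ℓ, ⟨p, r, h, rfl⟩, rfl⟩
    refine ⟨p, r, h.1, h.2.1, h.2.2.1, ?_, (key p r).symm⟩
    rw [Q_add, h.2.1, h.2.2.1, h.2.2.2, add_zero, add_zero]

end Cfsg.Agent.Helper8.Siegel
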