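import Mathlib
import Cfsg.Prelude.Def_Amalgam
import Cfsg.Agent.Lead.LLemA
import Cfsg.Agent.Lead.GoldC
import Cfsg.Agent.Helper5.CriticalPair

/-!
# Sims' theorem in local form (S2772): one vertex group

A finite subgroup `P` of an ambient group with `C_P(O₂(P)) ≤ O₂(P)`, `|P : O₂(P)| = 2q` for an odd prime `q`,
whose `Z_P = ⟨Ω₁ Z(S) : S ∈ Syl₂(P)⟩` is not central in `P`.  Then `Z_P ≤ Ω₁ Z(O₂(P))` and `C_P(Z_P) = O₂(P)`.
-/

set_option autoImplicit false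

namespace Cfsg.Agent.Helper8.Sims

open Cfsg Cfsg.Agent.Lead.LLem

variable {X : Type*} [Group X]

/-- the package of hypotheses on one vertex group -/
structure DQ (q : ℕ) (P : Subgroup X) : Prop where
  fin : Finite P
  charp : P ⊓ Subgroup.centralizer (Cfsg.pCoreOf 2 P : Set X) ≤ Cfsg.pCoreOf 2 P
  card : Nat.card P = 2 * q * Nat.card (Cfsg.pCoreOf 2 P)
  nonc : ¬ P ≤ Subgroup.centralizer (Cfsg.sylowCenterClosure 2 P : Set X)

/-- generators of `Z_P` -/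
theorem scc_le_iff (P K : Subgroup X) :
    Cfsg.sylowCenterClosure 2 P ≤ K ↔ ∀ S : Sylow 2 P, ∀ x : X,
      x ∈ (S : Subgroup P).map P.subtype →
      (∀ s ∈ (S : Subgroup P).map P.subtype, s * x = x * s) → x ^ 2 = 1 → x ∈ K := by
  unfold Cfsg.sylowCenterClosure Cfsg.omegaOne
  rw [iSup_le_iff]
  constructor
  · intro h S x hx hc h2
    apply h S
    apply Subgroup.subset_closure
    refine ⟨Subgroup.mem_inf.2 ⟨hx, ?_⟩, h2⟩
    rw [Subgroup.mem_centralizer_iff]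
    intro s hs
    exact hc s hs
  · intro h S
    rw [Subgroup.closure_le]
    rintro x ⟨hx, h2⟩
    obtain ⟨hx1, hx2⟩ := Subgroup.mem_inf.1 hx
    rw [Subgroup.mem_centralizer_iff] at hx2
    exact h S x hx1 (fun s hs => hx2 s hs) h2

theorem gen_mem_scc (P : Subgroup X) (S : Sylow 2 P) {x : X}
    (hx : x ∈ (S : Subgroup P).map P.subtype)
    (hc : ∀ s ∈ (S : Subgroup P).map P.subtype, s * x = x * s) (h2 : x ^ 2 = 1) :
    x ∈ Cfsg.sylowCenterClosure 2 P :=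
  (scc_le_iff P _).1 le_rfl S x hx hc h2

theorem pCoreOf_le_sylow (P : Subgroup X) (S : Sylow 2 P) :
    Cfsg.pCoreOf 2 P ≤ (S : Subgroup P).map P.subtype :=
  Subgroup.map_mono (Cfsg.Agent.Helper5.pCore_le_sylow S)

theorem sylow_map_le (P : Subgroup X) (S : Sylow 2 P) : (S : Subgroup P).map P.subtype ≤ P :=
  Subgroup.map_subtype_le _

/-- `P` normalizes `O₂(P)` -/
theorem conj_mem_pCoreOf {P : Subgroup X} {g x : X} (hg : g ∈ P) (hx : x ∈ Cfsg.pCoreOf 2 P) :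
    g * x * g⁻¹ ∈ Cfsg.pCoreOf 2 P := by
  have h := cj_pCoreOf (p := 2) (L := P) hg
  have : g * x * g⁻¹ ∈ cj g (Cfsg.pCoreOf 2 P) := by
    rw [mem_cj]
    have : g⁻¹ * (g * x * g⁻¹) * g = x := by group
    rw [this]
    exact hx
  rwa [h] at this

theorem pCoreOf_le_normalizer (P : Subgroup X) :
    P ≤ Subgroup.normalizer (Cfsg.pCoreOf 2 P : Set X) := by
  intro g hg
  rw [Subgroup.mem_normalizer_iff]
  intro x
  constructor
  · intro hx
    exact conj_mem_pCoreOf hg hx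
  · intro hx
    have := conj_mem_pCoreOf (P.inv_mem hg) hx
    have h2 : g⁻¹ * (g * x * g⁻¹) * g⁻¹⁻¹ = x := by group
    rwa [h2] at this

/-- the order of a Sylow `2`-subgroup -/
theorem card_sylow_of_card {q : ℕ} {P : Subgroup X} [Finite P] (hq : q.Prime) (hq2 : q ≠ 2)
    (hcard : Nat.card P = 2 * q * Nat.card (Cfsg.pCoreOf 2 P)) (S : Sylow 2 P) :
    Nat.card S = 2 * Nat.card (Cfsg.pCoreOf 2 P) := by
  have : Finite (Cfsg.pCoreOf 2 P) :=
    Finite.of_injective (Subgroup.inclusion (pCoreOf_le P)) (Subgroup.inclusion_injective _)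
  obtain ⟨n, hn⟩ := (isPGroup_pCoreOf (p := 2) P).exists_card_eq
  rw [Sylow.card_eq_multiplicity, hcard, hn]
  have hq0 : q ≠ 0 := hq.ne_zero
  rw [Nat.factorization_mul (by positivity) (by positivity),
    Nat.factorization_mul (by norm_num) hq0, Nat.factorization_pow]
  simp only [Finsupp.coe_add, Finsupp.coe_smul, Pi.add_apply, Pi.smul_apply, smul_eq_mul]
  have h2q : ¬ 2 ∣ q := by
    intro hd
    exact hq2 ((Nat.prime_dvd_prime_iff_eq Nat.prime_two hq).1 hd).symm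
  rw [Nat.Prime.factorization_self Nat.prime_two, Nat.factorization_eq_zero_of_not_dvd h2q]
  ring

namespace DQ

variable {q : ℕ} {P : Subgroup X}

theorem finQ (h : DQ q P) : Finite (Cfsg.pCoreOf 2 P) :=
  have := h.fin
  Finite.of_injective (Subgroup.inclusion (pCoreOf_le P)) (Subgroup.inclusion_injective _)

/-- the order of a Sylow `2`-subgroup -/
theorem card_sylow (h : DQ q P) (hq : q.Prime) (hq2 : q ≠ 2) (S : Sylow 2 P) :
    Nat.card S = 2 * Nat.card (Cfsg.pCoreOf 2 P) :=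
  have := h.fin
  card_sylow_of_card hq hq2 h.card S

theorem card_sylow_map (h : DQ q P) (hq : q.Prime) (hq2 : q ≠ 2) (S : Sylow 2 P) :
    Nat.card ((S : Subgroup P).map P.subtype) = 2 * Nat.card (Cfsg.pCoreOf 2 P) := by
  rw [Subgroup.card_map_of_injective P.subtype_injective]
  exact h.card_sylow hq hq2 S

/-- `Z_P ≤ Ω₁ Z(O₂(P))` -/
theorem scc_le_zOf (h : DQ q P) :
    Cfsg.sylowCenterClosure 2 P ≤ Cfsg.Agent.Lead.Gold.zOf (Cfsg.pCoreOf 2 P) := by
  rw [scc_le_iff]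
  intro S x hx hc h2
  have hQS := pCoreOf_le_sylow P S
  have hxP : x ∈ P := sylow_map_le P S hx
  have hxQ : x ∈ Cfsg.pCoreOf 2 P := by
    apply h.charp
    refine Subgroup.mem_inf.2 ⟨hxP, ?_⟩
    rw [Subgroup.mem_centralizer_iff]
    intro y hy
    exact hc y (hQS hy)
  rw [Cfsg.Agent.Lead.Gold.mem_zOf]
  refine ⟨hxQ, fun y hy => (hc y (hQS hy)).symm, ?_⟩
  rw [← pow_two]
  exact h2

theorem scc_le_Q (h : DQ q P) : Cfsg.sylowCenterClosure 2 P ≤ Cfsg.pCoreOf 2 P :=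
  h.scc_le_zOf.trans (Cfsg.Agent.Lead.Gold.zOf_le _)

theorem scc_sq (h : DQ q P) {z : X} (hz : z ∈ Cfsg.sylowCenterClosure 2 P) : z * z = 1 :=
  (Cfsg.Agent.Lead.Gold.mem_zOf.1 (h.scc_le_zOf hz)).2.2

theorem scc_comm_Q (h : DQ q P) {z y : X} (hz : z ∈ Cfsg.sylowCenterClosure 2 P)
    (hy : y ∈ Cfsg.pCoreOf 2 P) : z * y = y * z :=
  (Cfsg.Agent.Lead.Gold.mem_zOf.1 (h.scc_le_zOf hz)).2.1 y hy

theorem scc_comm (h : DQ q P) {z w : X} (hz : z ∈ Cfsg.sylowCenterClosure 2 P)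
    (hw : w ∈ Cfsg.sylowCenterClosure 2 P) : z * w = w * z :=
  h.scc_comm_Q hz (h.scc_le_Q hw)

theorem scc_inv (h : DQ q P) {z : X} (hz : z ∈ Cfsg.sylowCenterClosure 2 P) : z⁻¹ = z :=
  inv_eq_of_mul_eq_one_left (h.scc_sq hz)

/-- `P` normalizes `Z_P` -/
theorem conj_mem_scc (P : Subgroup X) {g z : X} (hg : g ∈ P)
    (hz : z ∈ Cfsg.sylowCenterClosure 2 P) : g * z * g⁻¹ ∈ Cfsg.sylowCenterClosure 2 P := by
  have h1 := Cfsg.Agent.Helper5.le_normalizer_sylowCenterClosure 2 P hg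
  rw [Subgroup.mem_normalizer_iff] at h1
  exact (h1 z).1 hz

end DQ

end Cfsg.Agent.Helper8.Sims
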