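import Mathlib
import Cfsg.Agent.Helper8.SimsA

/-!
# Sims' theorem in local form (S2772): one vertex group, continued

`C_P(Z_P) = O₂(P)`; a `2`-subgroup of `P` meets `O₂(P)` in a subgroup of index at most two; an involution of `P`
outside `O₂(P)` has a conjugate which is different modulo `O₂(P)`.
-/

set_option autoImplicit false

namespace Cfsg.Agent.Helper8.Sims

open Cfsg Cfsg.Agent.Lead.LLem

variable {X : Type*} [Group X]

namespace DQ

variable {q : ℕ} {P : Subgroup X}

/-- a subgroup of `P` which is not a `2`-group generates `P` together with any Sylow `2`-subgroup -/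
theorem le_sup_sylow (h : DQ q P) (hq : q.Prime) (hq2 : q ≠ 2) {C : Subgroup X} (hCP : C ≤ P)
    (hC : ¬ IsPGroup 2 C) (S : Sylow 2 P) : P ≤ C ⊔ (S : Subgroup P).map P.subtype := by
  have hfin := h.fin
  have := h.finQ
  obtain ⟨n, hn⟩ := (isPGroup_pCoreOf (p := 2) P).exists_card_eq
  have hcardS := h.card_sylow_map hq hq2 S
  have hcardP := h.card
  rw [hn] at hcardS hcardP
  set M : Subgroup X := C ⊔ (S : Subgroup P).map P.subtype with hM
  have hMP : M ≤ P := sup_le hCP (sylow_map_le P S)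
  have h1 : Nat.card C ∣ Nat.card M := Subgroup.card_dvd_of_le le_sup_left
  have h2 : Nat.card ((S : Subgroup P).map P.subtype) ∣ Nat.card M :=
    Subgroup.card_dvd_of_le le_sup_right
  have h3 : Nat.card C ∣ Nat.card P := Subgroup.card_dvd_of_le hCP
  have hqC : q ∣ Nat.card C := by
    by_contra hnd
    have hcop : Nat.Coprime (Nat.card C) q := (Nat.Coprime.symm ((Nat.Prime.coprime_iff_not_dvd hq).2 hnd))
    rw [hcardP] at h3
    have h4 : Nat.card C ∣ 2 * 2 ^ n := by
      have : 2 * q * 2 ^ n = (2 * 2 ^ n) * q := by ring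
      rw [this] at h3
      exact hcop.dvd_of_dvd_mul_right h3
    have h5 : Nat.card C ∣ 2 ^ (n + 1) := by
      rw [pow_succ, mul_comm]; exact h4
    obtain ⟨k, -, hk⟩ := (Nat.dvd_prime_pow Nat.prime_two).1 h5
    exact hC (IsPGroup.of_card hk)
  have h2q : Nat.Coprime (2 * 2 ^ n) q := by
    have : Nat.Coprime 2 q := by
      rw [Nat.coprime_primes Nat.prime_two hq]
      exact fun h => hq2 h.symm
    have h' : Nat.Coprime (2 ^ (n + 1)) q := Nat.Coprime.pow_left _ this
    rwa [pow_succ, mul_comm] at h'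
  have h6 : (2 * 2 ^ n) * q ∣ Nat.card M := by
    apply h2q.mul_dvd_of_dvd_of_dvd
    · rw [← hcardS]; exact h2
    · exact hqC.trans h1
  have h7 : Nat.card P ≤ Nat.card M := by
    rw [hcardP]
    have hMfin : Finite M := Finite.of_injective (Subgroup.inclusion hMP) (Subgroup.inclusion_injective _)
    have hpos : 0 < Nat.card M := Nat.card_pos
    have : 2 * q * 2 ^ n = (2 * 2 ^ n) * q := by ring
    rw [this]
    exact Nat.le_of_dvd hpos h6
  exact (Subgroup.eq_of_le_of_card_ge hMP h7).ge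

/-- `C_P(Z_P) ≤ O₂(P)` -/
theorem cent_scc (h : DQ q P) (hq : q.Prime) (hq2 : q ≠ 2) {g : X} (hg : g ∈ P)
    (hc : ∀ z ∈ Cfsg.sylowCenterClosure 2 P, g * z = z * g) : g ∈ Cfsg.pCoreOf 2 P := by
  by_contra hgQ
  set C : Subgroup X := P ⊓ Subgroup.centralizer (Cfsg.sylowCenterClosure 2 P : Set X) with hCdef
  have hCP : C ≤ P := inf_le_left
  have hgC : g ∈ C := by
    refine Subgroup.mem_inf.2 ⟨hg, ?_⟩
    rw [Subgroup.mem_centralizer_iff]
    intro z hz
    exact (hc z hz).symm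
  have hmemC : ∀ {c : X}, c ∈ C ↔ c ∈ P ∧ ∀ z ∈ Cfsg.sylowCenterClosure 2 P, z * c = c * z := by
    intro c
    rw [hCdef, Subgroup.mem_inf, Subgroup.mem_centralizer_iff]
    constructor <;> rintro ⟨a, b⟩ <;> exact ⟨a, fun z hz => b z hz⟩
  have hnorm : P ≤ Subgroup.normalizer (C : Set X) := by
    apply le_normalizer_of_cj_le
    intro y hy x hx
    rw [mem_cj] at hx
    obtain ⟨hx1, hx2⟩ := hmemC.1 hx
    refine hmemC.2 ⟨?_, ?_⟩
    · have : x = y * (y⁻¹ * x * y) * y⁻¹ := by group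
      rw [this]
      exact P.mul_mem (P.mul_mem hy hx1) (P.inv_mem hy)
    · intro z hz
      have hz' : y⁻¹ * z * y⁻¹⁻¹ ∈ Cfsg.sylowCenterClosure 2 P := conj_mem_scc P (P.inv_mem hy) hz
      have h3 := hx2 _ hz'
      have e1 : z * x = y * ((y⁻¹ * z * y⁻¹⁻¹) * (y⁻¹ * x * y)) * y⁻¹ := by group
      have e2 : x * z = y * ((y⁻¹ * x * y) * (y⁻¹ * z * y⁻¹⁻¹)) * y⁻¹ := by group
      rw [e1, e2, h3]
  have hC2 : ¬ IsPGroup 2 C := by
    intro hC2
    exact hgQ (le_pCoreOf hCP hC2 hnorm hgC)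
  apply h.nonc
  rw [Subgroup.le_centralizer_iff, scc_le_iff]
  intro S x hx hxc hx2
  have hxZ : x ∈ Cfsg.sylowCenterClosure 2 P := gen_mem_scc P S hx hxc hx2
  have hle := h.le_sup_sylow hq hq2 hCP hC2 S
  have hsup : C ⊔ (S : Subgroup P).map P.subtype ≤ Subgroup.centralizer ({x} : Set X) := by
    apply sup_le
    · intro c hcC
      rw [Subgroup.mem_centralizer_singleton_iff]
      exact ((hmemC.1 hcC).2 x hxZ).symm
    · intro s hs
      rw [Subgroup.mem_centralizer_singleton_iff]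
      exact hxc s hs
  rw [Subgroup.mem_centralizer_iff]
  intro p hp
  have := hsup (hle hp)
  rw [Subgroup.mem_centralizer_singleton_iff] at this
  exact this

/-- two elements of a `2`-subgroup of `P` outside `O₂(P)` agree modulo `O₂(P)` -/
theorem two_sub (h : DQ q P) (hq : q.Prime) (hq2 : q ≠ 2) {A : Subgroup X} (hAP : A ≤ P)
    (hA : IsPGroup 2 A) {a b : X} (ha : a ∈ A) (hb : b ∈ A) (haQ : a ∉ Cfsg.pCoreOf 2 P) :
    b ∈ Cfsg.pCoreOf 2 P ∨ a⁻¹ * b ∈ Cfsg.pCoreOf 2 P := by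
  have hfin := h.fin
  have hA' : IsPGroup 2 (A.subgroupOf P) := hA.comap_of_injective P.subtype P.subtype_injective
  obtain ⟨S, hS⟩ := hA'.exists_le_sylow
  have hAS : A ≤ (S : Subgroup P).map P.subtype := by
    intro x hx
    exact ⟨⟨x, hAP hx⟩, hS (Subgroup.mem_subgroupOf.2 hx), rfl⟩
  have hfinS : Finite ((S : Subgroup P).map P.subtype) :=
    Finite.of_injective (Subgroup.inclusion (sylow_map_le P S)) (Subgroup.inclusion_injective _)
  exact Cfsg.Agent.Lead.Gold.coset_of_card (pCoreOf_le_sylow P S) (h.card_sylow_map hq hq2 S)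
    (hAS ha) haQ (hAS hb)

/-- an involution of `P` outside `O₂(P)` is not central modulo `O₂(P)` -/
theorem exists_conj (_h : DQ q P) {t : X} (ht : t ∈ P) (htQ : t ∉ Cfsg.pCoreOf 2 P) (ht2 : t * t = 1) :
    ∃ d ∈ P, d * t * d⁻¹ * t⁻¹ ∉ Cfsg.pCoreOf 2 P := by
  by_contra hcon
  push Not at hcon
  set M : Subgroup X := Cfsg.pCoreOf 2 P ⊔ Subgroup.zpowers t with hM
  have htM : t ∈ M := (le_sup_right : Subgroup.zpowers t ≤ M) (Subgroup.mem_zpowers t)
  have hMP : M ≤ P := sup_le (pCoreOf_le P) (Subgroup.zpowers_le.2 ht)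
  have ht1 : t ≠ 1 := fun h1 => htQ (h1 ▸ Subgroup.one_mem _)
  have hord : orderOf t = 2 := by
    apply orderOf_eq_prime
    · rw [pow_two]; exact ht2
    · exact ht1
  have hzp : IsPGroup 2 (Subgroup.zpowers t) := by
    apply IsPGroup.of_card (n := 1)
    rw [Nat.card_zpowers, hord, pow_one]
  have hM2 : IsPGroup 2 M :=
    IsPGroup.to_sup_of_normal_left' (isPGroup_pCoreOf P) hzp
      (Subgroup.zpowers_le.2 (pCoreOf_le_normalizer P ht))
  have hnorm : P ≤ Subgroup.normalizer (M : Set X) := by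
    apply le_normalizer_of_cj_le
    intro y hy
    rw [hM, cj, Subgroup.map_sup]
    apply sup_le
    · have := cj_pCoreOf (p := 2) (L := P) hy
      rw [cj] at this
      rw [this]
      exact le_sup_left
    · rw [MonoidHom.map_zpowers, Subgroup.zpowers_le]
      have e : (MulAut.conj y).toMonoidHom t = (y * t * y⁻¹ * t⁻¹) * t := by
        simp [MulAut.conj_apply]
      rw [e]
      exact M.mul_mem ((le_sup_left : Cfsg.pCoreOf 2 P ≤ M) (hcon y hy)) htM
  exact htQ (le_pCoreOf hMP hM2 hnorm htM)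

end DQ

end Cfsg.Agent.Helper8.Sims
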