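import Mathlib
import Cfsg.Agent.Helper8.SimsB

/-!
# Sims' theorem in local form (S2772): the quotient of order `2q`

In a group of order `2q` (`q` an odd prime), two distinct involutions whose product has order dividing `12`
force `q = 3`.
-/

set_option autoImplicit false

namespace Cfsg.Agent.Helper8.Sims

open Cfsg Cfsg.Agent.Lead.LLem

theorem mem_zpowers_of_orderOf_two {Y : Type*} [Group Y] {a b : Y} (ha : orderOf a = 2)
    (hb : b ∈ Subgroup.zpowers a) : b = 1 ∨ b = a := by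
  obtain ⟨k, rfl⟩ := Subgroup.mem_zpowers_iff.1 hb
  rw [← zpow_mod_orderOf, ha]
  rcases Int.emod_two_eq_zero_or_one k with h | h
  · left; rw [show k % ((2 : ℕ) : ℤ) = 0 from h, zpow_zero]
  · right; rw [show k % ((2 : ℕ) : ℤ) = 1 from h, zpow_one]

/-- a group of order `2q` has no two distinct commuting involutions -/
theorem not_commute_of_card {Y : Type*} [Group Y] [Finite Y] {q : ℕ} (hq : q.Prime) (hq2 : q ≠ 2)
    (hcard : Nat.card Y = 2 * q) {a b : Y} (ha2 : a * a = 1) (hb2 : b * b = 1) (ha : a ≠ 1)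
    (hb : b ≠ 1) (hab : a ≠ b) : a * b ≠ b * a := by
  intro hcomm
  have horda : orderOf a = 2 := orderOf_eq_prime (by rw [pow_two]; exact ha2) ha
  have hordb : orderOf b = 2 := orderOf_eq_prime (by rw [pow_two]; exact hb2) hb
  have hza : IsPGroup 2 (Subgroup.zpowers a) := by
    apply IsPGroup.of_card (n := 1)
    rw [Nat.card_zpowers, horda, pow_one]
  have hzb : IsPGroup 2 (Subgroup.zpowers b) := by
    apply IsPGroup.of_card (n := 1)
    rw [Nat.card_zpowers, hordb, pow_one]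
  have hnorm : Subgroup.zpowers b ≤ Subgroup.normalizer (Subgroup.zpowers a : Set Y) := by
    refine le_trans ?_ (Subgroup.centralizer_le_normalizer (Subgroup.zpowers a : Set Y))
    rw [Subgroup.zpowers_le, Subgroup.mem_centralizer_iff]
    intro h hh
    obtain ⟨k, rfl⟩ := Subgroup.mem_zpowers_iff.1 hh
    have hc : Commute a b := hcomm
    exact (hc.zpow_left k).eq
  have hM : IsPGroup 2 (Subgroup.zpowers a ⊔ Subgroup.zpowers b : Subgroup Y) :=
    IsPGroup.to_sup_of_normal_left' hza hzb hnorm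
  obtain ⟨S, hS⟩ := hM.exists_le_sylow
  have hcardS : Nat.card S = 2 := by
    rw [Sylow.card_eq_multiplicity, hcard, Nat.factorization_mul (by norm_num) hq.ne_zero]
    simp only [Finsupp.coe_add, Pi.add_apply]
    have h2q : ¬ 2 ∣ q := by
      intro hd
      exact hq2 ((Nat.prime_dvd_prime_iff_eq Nat.prime_two hq).1 hd).symm
    rw [Nat.Prime.factorization_self Nat.prime_two, Nat.factorization_eq_zero_of_not_dvd h2q]
    norm_num
  have hle : Subgroup.zpowers a ≤ (S : Subgroup Y) := le_sup_left.trans hS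
  have heq : Subgroup.zpowers a = (S : Subgroup Y) := by
    apply Subgroup.eq_of_le_of_card_ge hle
    rw [hcardS, Nat.card_zpowers, horda]
  have hbS : b ∈ Subgroup.zpowers a := by
    rw [heq]
    exact hS ((le_sup_right : Subgroup.zpowers b ≤ _) (Subgroup.mem_zpowers b))
  rcases mem_zpowers_of_orderOf_two horda hbS with h | h
  · exact hb h
  · exact hab h.symm

/-- the key arithmetic step -/
theorem q_eq_three_of_card {Y : Type*} [Group Y] [Finite Y] {q : ℕ} (hq : q.Prime) (hq2 : q ≠ 2)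
    (hcard : Nat.card Y = 2 * q) {a b : Y} (ha2 : a * a = 1) (hb2 : b * b = 1) (ha : a ≠ 1)
    (hb : b ≠ 1) (hab : a ≠ b) (hk : (a * b) ^ 12 = 1) : q = 3 := by
  by_contra hq3
  have hnc := not_commute_of_card hq hq2 hcard ha2 hb2 ha hb hab
  have h1 : orderOf (a * b) ∣ 12 := orderOf_dvd_of_pow_eq_one hk
  have h2 : orderOf (a * b) ∣ 2 * q := hcard ▸ orderOf_dvd_natCard (a * b)
  have hc2 : Nat.Coprime 2 q := by
    rw [Nat.coprime_primes Nat.prime_two hq]
    exact fun h => hq2 h.symm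
  have hc3 : Nat.Coprime 3 q := by
    rw [Nat.coprime_primes Nat.prime_three hq]
    exact fun h => hq3 h.symm
  have hc12 : Nat.Coprime 12 q := by
    have : (12 : ℕ) = 2 * 2 * 3 := by norm_num
    rw [this]
    exact Nat.Coprime.mul_left (Nat.Coprime.mul_left hc2 hc2) hc3
  have hco : Nat.Coprime (orderOf (a * b)) q := Nat.Coprime.coprime_dvd_left h1 hc12
  have h3 : orderOf (a * b) ∣ 2 := hco.dvd_of_dvd_mul_right h2
  have h4 : (a * b) ^ 2 = 1 := orderOf_dvd_iff_pow_eq_one.1 h3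
  apply hnc
  have ha' : a⁻¹ = a := inv_eq_of_mul_eq_one_left ha2
  have hb' : b⁻¹ = b := inv_eq_of_mul_eq_one_left hb2
  have h5 : a * b = (a * b)⁻¹ := by
    rw [eq_inv_iff_mul_eq_one, ← pow_two]
    exact h4
  rw [h5, mul_inv_rev, ha', hb']

namespace DQ

variable {X : Type*} [Group X] {q : ℕ} {P : Subgroup X}

/-- the order of `P / O₂(P)` -/
theorem card_quot (h : DQ q P) : Nat.card (↥P ⧸ Cfsg.pCore 2 ↥P) = 2 * q := by
  have := h.fin
  have h1 := Subgroup.card_eq_card_quotient_mul_card_subgroup (Cfsg.pCore 2 ↥P)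
  rw [h.card, Cfsg.Agent.Lead.Gold.card_pCoreOf] at h1
  have hpos : 0 < Nat.card (Cfsg.pCore 2 ↥P) := Nat.card_pos
  exact (Nat.eq_of_mul_eq_mul_right hpos h1).symm

/-- two involutions of `P`, distinct modulo `O₂(P)`, whose product has order dividing `12` modulo `O₂(P)` -/
theorem q_eq_three (h : DQ q P) (hq : q.Prime) (hq2 : q ≠ 2) {a b : X} (ha : a ∈ P) (hb : b ∈ P)
    (ha2 : a * a = 1) (hb2 : b * b = 1) (haQ : a ∉ Cfsg.pCoreOf 2 P) (hbQ : b ∉ Cfsg.pCoreOf 2 P)
    (hab : a⁻¹ * b ∉ Cfsg.pCoreOf 2 P) (hk : (a * b) ^ 12 ∈ Cfsg.pCoreOf 2 P) : q = 3 := by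
  have hfin := h.fin
  set a' : ↥P ⧸ Cfsg.pCore 2 ↥P := QuotientGroup.mk (⟨a, ha⟩ : P) with ha'
  set b' : ↥P ⧸ Cfsg.pCore 2 ↥P := QuotientGroup.mk (⟨b, hb⟩ : P) with hb'
  have e1 : a' * a' = 1 := by
    rw [ha', ← QuotientGroup.mk_mul]
    have : (⟨a, ha⟩ : P) * ⟨a, ha⟩ = 1 := Subtype.ext ha2
    rw [this, QuotientGroup.mk_one]
  have e2 : b' * b' = 1 := by
    rw [hb', ← QuotientGroup.mk_mul]
    have : (⟨b, hb⟩ : P) * ⟨b, hb⟩ = 1 := Subtype.ext hb2
    rw [this, QuotientGroup.mk_one]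
  have e3 : a' ≠ 1 := by
    rw [ha', Ne, QuotientGroup.eq_one_iff]
    intro hc
    exact haQ (Cfsg.Agent.Lead.Gold.coe_mem_pCoreOf.2 hc)
  have e4 : b' ≠ 1 := by
    rw [hb', Ne, QuotientGroup.eq_one_iff]
    intro hc
    exact hbQ (Cfsg.Agent.Lead.Gold.coe_mem_pCoreOf.2 hc)
  have e5 : a' ≠ b' := by
    rw [ha', hb', Ne, QuotientGroup.eq]
    intro hc
    exact hab (Cfsg.Agent.Lead.Gold.coe_mem_pCoreOf.2 hc)
  have e6 : (a' * b') ^ 12 = 1 := by
    rw [ha', hb', ← QuotientGroup.mk_mul, ← QuotientGroup.mk_pow, QuotientGroup.eq_one_iff]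
    exact Cfsg.Agent.Lead.Gold.coe_mem_pCoreOf.1 hk
  exact q_eq_three_of_card hq hq2 h.card_quot e1 e2 e3 e4 e5 e6

end DQ

end Cfsg.Agent.Helper8.Sims
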