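import Mathlib

/-!
# Sims' theorem in local form (S2772): two transvections on an elementary abelian `2`-group

`V` an abelian subgroup of exponent two, `α`, `β` automorphisms with `α v ∈ {v, v z₁}`, `β v ∈ {v, v z₂}` on `V`.
Then `(α β)^12` is the identity on `V`.
-/

set_option autoImplicit false

namespace Cfsg.Agent.Helper8.Sims

variable {X : Type*} [Group X]

/-- `t` acts on `V` as a transvection with centre `z` -/
structure Tv (V : Subgroup X) (α : MulAut X) (z : X) : Prop where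
  hz : z ∈ V
  fix : α z = z
  act : ∀ v ∈ V, α v = v ∨ α v = v * z

theorem pow_fix {f : MulAut X} {x : X} (h : f x = x) (k : ℕ) : (f ^ k) x = x := by
  induction k with
  | zero => simp
  | succ k ih => rw [pow_succ, MulAut.mul_apply, h, ih]

theorem pow6_of_pow1 {f : MulAut X} {x : X} (h : f x = x) : (f ^ 6) x = x := pow_fix h 6

theorem pow6_of_pow2 {f : MulAut X} {x : X} (h : f (f x) = x) : (f ^ 6) x = x := by
  have h2 : (f ^ 2) x = x := by rw [pow_two, MulAut.mul_apply, h]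
  have : f ^ 6 = (f ^ 2) ^ 3 := by rw [← pow_mul]
  rw [this]
  exact pow_fix h2 3

theorem pow6_of_pow3 {f : MulAut X} {x : X} (h : f (f (f x)) = x) : (f ^ 6) x = x := by
  have h3 : (f ^ 3) x = x := by
    rw [pow_succ, pow_two, MulAut.mul_apply, MulAut.mul_apply, h]
  have : f ^ 6 = (f ^ 3) ^ 2 := by rw [← pow_mul]
  rw [this]
  exact pow_fix h3 2

section

variable {V : Subgroup X} (hcomm : ∀ v ∈ V, ∀ w ∈ V, v * w = w * v) (hexp : ∀ v ∈ V, v * v = 1)

include hcomm hexp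

theorem v_mul_cancel {x y : X} (hx : x ∈ V) (hy : y ∈ V) : x * (y * x) = y := by
  rw [hcomm y hy x hx, ← mul_assoc, hexp x hx, one_mul]

omit hcomm in
theorem v_mul_cancel' {x y : X} (hx : x ∈ V) (_hy : y ∈ V) : y * x * x = y := by
  rw [mul_assoc, hexp x hx, mul_one]

/-- two transvections: the twelfth power of the product is trivial on `V` -/
theorem Tv.pow_twelve {α β : MulAut X} {z₁ z₂ : X} (h₁ : Tv V α z₁) (h₂ : Tv V β z₂) :
    ∀ v ∈ V, ((α * β) ^ 12) v = v := by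
  have hz₁ := h₁.hz
  have hz₂ := h₂.hz
  set N : Subgroup X := Subgroup.closure {z₁, z₂} with hN
  have hz₁N : z₁ ∈ N := Subgroup.subset_closure (by simp)
  have hz₂N : z₂ ∈ N := Subgroup.subset_closure (by simp)
  have hNV : N ≤ V := by
    rw [hN, Subgroup.closure_le]
    intro x hx
    rcases hx with rfl | rfl
    · exact hz₁
    · exact hz₂
  -- invariance of `N`
  have hinv : ∀ γ : MulAut X, γ z₁ ∈ N → γ z₂ ∈ N → ∀ n ∈ N, γ n ∈ N := by
    intro γ g1 g2 n hn
    have : N ≤ N.comap γ.toMonoidHom := by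
      rw [hN, Subgroup.closure_le]
      intro x hx
      rcases hx with rfl | rfl
      · exact g1
      · exact g2
    exact this hn
  have hαz₂ : α z₂ = z₂ ∨ α z₂ = z₂ * z₁ := h₁.act z₂ hz₂
  have hβz₁ : β z₁ = z₁ ∨ β z₁ = z₁ * z₂ := h₂.act z₁ hz₁
  have hαN : ∀ n ∈ N, α n ∈ N := by
    apply hinv α
    · rw [h₁.fix]; exact hz₁N
    · rcases hαz₂ with h | h <;> rw [h]
      · exact hz₂N
      · exact N.mul_mem hz₂N hz₁N
  have hβN : ∀ n ∈ N, β n ∈ N := by
    apply hinv β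
    · rcases hβz₁ with h | h <;> rw [h]
      · exact hz₁N
      · exact N.mul_mem hz₁N hz₂N
    · rw [h₂.fix]; exact hz₂N
  set f : MulAut X := α * β with hf
  have hfN : ∀ n ∈ N, f n ∈ N := by
    intro n hn
    rw [hf, MulAut.mul_apply]
    exact hαN _ (hβN n hn)
  have hfkN : ∀ k : ℕ, ∀ n ∈ N, (f ^ k) n ∈ N := by
    intro k
    induction k with
    | zero => intro n hn; simpa using hn
    | succ k ih =>
      intro n hn
      rw [pow_succ, MulAut.mul_apply]
      exact ih _ (hfN n hn)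
  -- `f v ∈ v N`
  have hfv : ∀ v ∈ V, ∃ n ∈ N, f v = v * n := by
    intro v hv
    rw [hf, MulAut.mul_apply]
    rcases h₂.act v hv with h | h <;> rw [h]
    · rcases h₁.act v hv with h' | h'
      · exact ⟨1, N.one_mem, by rw [h', mul_one]⟩
      · exact ⟨z₁, hz₁N, h'⟩
    · rw [map_mul]
      rcases h₁.act v hv with h' | h' <;> rw [h']
      · exact ⟨α z₂, hαN _ hz₂N, rfl⟩
      · exact ⟨z₁ * α z₂, N.mul_mem hz₁N (hαN _ hz₂N), by rw [mul_assoc]⟩
  have hfkv : ∀ k : ℕ, ∀ v ∈ V, ∃ n ∈ N, (f ^ k) v = v * n := by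
    intro k
    induction k with
    | zero => intro v _; exact ⟨1, N.one_mem, by simp⟩
    | succ k ih =>
      intro v hv
      obtain ⟨n, hn, h1⟩ := hfv v hv
      obtain ⟨m, hm, h2⟩ := ih v hv
      refine ⟨m * (f ^ k) n, N.mul_mem hm (hfkN k n hn), ?_⟩
      rw [pow_succ, MulAut.mul_apply, h1, map_mul, h2, mul_assoc]
  -- `f ^ 6` is trivial on `N`
  have hf6gen : (f ^ 6) z₁ = z₁ ∧ (f ^ 6) z₂ = z₂ := by
    have hfz₂ : f z₂ = α z₂ := by rw [hf, MulAut.mul_apply, h₂.fix]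
    rcases hαz₂ with ha | ha <;> rcases hβz₁ with hb | hb
    · have e1 : f z₁ = z₁ := by rw [hf, MulAut.mul_apply, hb, h₁.fix]
      have e2 : f z₂ = z₂ := by rw [hfz₂, ha]
      exact ⟨pow6_of_pow1 e1, pow6_of_pow1 e2⟩
    · have e1 : f z₁ = z₁ * z₂ := by rw [hf, MulAut.mul_apply, hb, map_mul, h₁.fix, ha]
      have e2 : f z₂ = z₂ := by rw [hfz₂, ha]
      refine ⟨pow6_of_pow2 ?_, pow6_of_pow1 e2⟩
      rw [e1, map_mul, e1, e2]
      exact v_mul_cancel' hexp hz₂ hz₁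
    · have e1 : f z₁ = z₁ := by rw [hf, MulAut.mul_apply, hb, h₁.fix]
      have e2 : f z₂ = z₂ * z₁ := by rw [hfz₂, ha]
      refine ⟨pow6_of_pow1 e1, pow6_of_pow2 ?_⟩
      rw [e2, map_mul, e2, e1]
      exact v_mul_cancel' hexp hz₁ hz₂
    · have e1 : f z₁ = z₂ := by
        rw [hf, MulAut.mul_apply, hb, map_mul, h₁.fix, ha]
        exact v_mul_cancel hcomm hexp hz₁ hz₂
      have e2 : f z₂ = z₂ * z₁ := by rw [hfz₂, ha]
      have e3 : f (z₂ * z₁) = z₁ := by
        rw [map_mul, e2, e1, mul_assoc]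
        rw [hcomm z₁ hz₁ z₂ hz₂, ← mul_assoc, hexp z₂ hz₂, one_mul]
      refine ⟨pow6_of_pow3 ?_, pow6_of_pow3 ?_⟩
      · rw [e1, e2, e3]
      · rw [e2, e3, e1]
  have hf6 : ∀ n ∈ N, (f ^ 6) n = n := by
    intro n hn
    have : N ≤ (MonoidHom.eqLocus ((f ^ 6 : MulAut X).toMonoidHom) (MonoidHom.id X)) := by
      rw [hN, Subgroup.closure_le]
      intro x hx
      rcases hx with rfl | rfl
      · exact hf6gen.1
      · exact hf6gen.2
    exact this hn
  intro v hv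
  obtain ⟨n, hn, h1⟩ := hfkv 6 v hv
  have : (f ^ 12) v = (f ^ 6) ((f ^ 6) v) := by
    have : f ^ 12 = f ^ 6 * f ^ 6 := by rw [← pow_add]
    rw [this, MulAut.mul_apply]
  rw [this, h1, map_mul, h1, hf6 n hn, mul_assoc, hexp n (hNV hn), mul_one]

/-- an involution whose centralizer in `V` has index at most two is a transvection -/
theorem Tv.of_index {t : X} (ht2 : t * t = 1) (hnorm : ∀ v ∈ V, t * v * t⁻¹ ∈ V)
    (hidx : ∀ v ∈ V, ∀ w ∈ V, t * v ≠ v * t → t * w ≠ w * t → t * (v⁻¹ * w) = (v⁻¹ * w) * t) :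
    ∃ z, Tv V (MulAut.conj t) z := by
  have hti : t⁻¹ = t := inv_eq_of_mul_eq_one_left ht2
  by_cases hall : ∀ v ∈ V, t * v = v * t
  · refine ⟨1, V.one_mem, by simp, fun v hv => Or.inl ?_⟩
    rw [MulAut.conj_apply, hall v hv, mul_assoc, mul_inv_cancel, mul_one]
  · push Not at hall
    obtain ⟨v₀, hv₀, hne⟩ := hall
    have hu : t * v₀ * t⁻¹ ∈ V := hnorm v₀ hv₀
    set u := t * v₀ * t⁻¹ with hudef
    have hv₀i : v₀⁻¹ = v₀ := inv_eq_of_mul_eq_one_left (hexp v₀ hv₀)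
    have htu : t * u * t⁻¹ = v₀ := by
      rw [hudef, hti]
      calc t * (t * v₀ * t) * t = (t * t) * v₀ * (t * t) := by group
        _ = v₀ := by rw [ht2, one_mul, mul_one]
    refine ⟨v₀ * u, V.mul_mem hv₀ hu, ?_, ?_⟩
    · rw [MulAut.conj_apply]
      calc t * (v₀ * u) * t⁻¹ = (t * v₀ * t⁻¹) * (t * u * t⁻¹) := by group
        _ = u * v₀ := by rw [htu]
        _ = v₀ * u := hcomm u hu v₀ hv₀
    · intro v hv
      by_cases hc : t * v = v * t
      · left
        rw [MulAut.conj_apply, hc, mul_assoc, mul_inv_cancel, mul_one]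
      · right
        have h1 := hidx v₀ hv₀ v hv hne hc
        have hcV : v₀⁻¹ * v ∈ V := V.mul_mem (V.inv_mem hv₀) hv
        have h2 : t * (v₀⁻¹ * v) * t⁻¹ = v₀⁻¹ * v := by
          rw [h1, mul_assoc, mul_inv_cancel, mul_one]
        rw [MulAut.conj_apply]
        calc t * v * t⁻¹ = (t * v₀ * t⁻¹) * (t * (v₀⁻¹ * v) * t⁻¹) := by group
          _ = u * (v₀⁻¹ * v) := by rw [h2]
          _ = u * (v₀ * v) := by rw [hv₀i]
          _ = (v₀ * v) * u := hcomm u hu _ (V.mul_mem hv₀ hv)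
          _ = (v * v₀) * u := by rw [hcomm v₀ hv₀ v hv]
          _ = v * (v₀ * u) := mul_assoc _ _ _

end

/-- conjugating a transvection by an automorphism preserving `V` -/
theorem Tv.conj {V : Subgroup X} {α : MulAut X} {z : X} (h : Tv V α z) (γ : MulAut X)
    (hγ : ∀ v ∈ V, γ v ∈ V) (hγ' : ∀ v ∈ V, γ⁻¹ v ∈ V) : Tv V (γ * α * γ⁻¹) (γ z) := by
  refine ⟨hγ z h.hz, ?_, ?_⟩
  · rw [MulAut.mul_apply, MulAut.mul_apply, MulAut.inv_apply_self, h.fix]
  · intro v hv
    rw [MulAut.mul_apply, MulAut.mul_apply]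
    rcases h.act (γ⁻¹ v) (hγ' v hv) with h1 | h1 <;> rw [h1]
    · left; rw [MulAut.apply_inv_self]
    · right; rw [map_mul, MulAut.apply_inv_self]

end Cfsg.Agent.Helper8.Sims
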