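import Mathlib
import Cfsg.Agent.Helper8.SimsC
import Cfsg.Agent.Helper8.SimsD
import Cfsg.Agent.Helper5.VIter3
import Cfsg.Agent.S2742
import Cfsg.Agent.S2746
import Cfsg.Agent.S2747

/-!
# Sims' theorem in local form (S2772): the amalgam argument forcing `q = 3`

`P₁, P₂` an amalgam pair of characteristic two whose vertex groups satisfy `DQ q`.  A critical pair `(α, α')`
gives an involution `t ∈ Z_α` acting on `Z_α'` as a transvection; two conjugates of `t` in `G_α'` then show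
that the order of their product modulo `O₂(G_α')` divides `12`, whence `q = 3`.
-/

set_option autoImplicit false

namespace Cfsg.Agent.Helper8.Sims

open Cfsg Cfsg.Agent.Lead.LLem

variable {X : Type*} [Group X]

theorem DQ.conj {q : ℕ} {P : Subgroup X} (h : DQ q P) (x : X) :
    DQ q (P.map (MulAut.conj x).toMonoidHom) := by
  have := h.fin
  have hinj : Function.Injective (MulAut.conj x).toMonoidHom := (MulAut.conj x).injective
  have hQ : Cfsg.pCoreOf 2 (P.map (MulAut.conj x).toMonoidHom) =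
      (Cfsg.pCoreOf 2 P).map (MulAut.conj x).toMonoidHom := pCoreOf_map _ hinj P
  have hZ : Cfsg.sylowCenterClosure 2 (P.map (MulAut.conj x).toMonoidHom) =
      (Cfsg.sylowCenterClosure 2 P).map (MulAut.conj x).toMonoidHom :=
    (Cfsg.Agent.Helper5.sylowCenterClosure_map_conj P x).symm
  refine ⟨Cfsg.Agent.Helper5.finite_map_conj P x, ?_, ?_, ?_⟩
  · rw [hQ, ← Cfsg.Agent.Helper1.centralizer_map_equiv (MulAut.conj x) (Cfsg.pCoreOf 2 P),
      ← Subgroup.map_inf _ _ _ hinj]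
    exact Subgroup.map_mono h.charp
  · rw [hQ, Subgroup.card_map_of_injective hinj, Subgroup.card_map_of_injective hinj]
    exact h.card
  · rw [hZ, ← Cfsg.Agent.Helper1.centralizer_map_equiv (MulAut.conj x)]
    intro hle
    exact h.nonc ((Subgroup.map_le_map_iff_of_injective hinj).1 hle)

variable {P₁ P₂ : Subgroup X}

theorem DQ.stab {q : ℕ} (D₁ : DQ q P₁) (D₂ : DQ q P₂) (δ : Cfsg.CosetVertex P₁ P₂) :
    DQ q (MulAction.stabilizer X δ) := by
  rcases Cfsg.Agent.Helper5.vertex_cases P₁ P₂ δ with ⟨x, rfl⟩ | ⟨x, rfl⟩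
  · rw [Cfsg.Agent.Helper5.stabilizer_inl]
    exact D₁.conj x
  · rw [Cfsg.Agent.Helper5.stabilizer_inr]
    exact D₂.conj x

/-- a critical pair exists -/
theorem exists_critical (h : Cfsg.IsCharPAmalgamPair 2 P₁ P₂) :
    ∃ α α' : Cfsg.CosetVertex P₁ P₂, Cfsg.IsCriticalPair 2 α α' := by
  have hne : {n : ℕ | ∃ δ μ : Cfsg.CosetVertex P₁ P₂, (Cfsg.cosetGraph P₁ P₂).dist δ μ = n ∧
      ¬ Cfsg.vertexZ 2 δ ≤ Cfsg.neighbourKernel μ}.Nonempty := by
    by_contra hemp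
    rw [Set.not_nonempty_iff_eq_empty] at hemp
    have hall : ∀ δ μ : Cfsg.CosetVertex P₁ P₂, Cfsg.vertexZ 2 δ ≤ Cfsg.neighbourKernel μ := by
      intro δ μ
      by_contra hc
      have : (Cfsg.cosetGraph P₁ P₂).dist δ μ ∈ (∅ : Set ℕ) := by
        rw [← hemp]
        exact ⟨δ, μ, rfl, hc⟩
      exact this
    let δ : Cfsg.CosetVertex P₁ P₂ := Sum.inl ((1 : X) : X ⧸ P₁)
    apply Cfsg.Agent.Helper5.vertexZ_ne_bot P₁ P₂ h δ
    rw [eq_bot_iff]
    intro z hz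
    rw [Subgroup.mem_bot]
    apply Cfsg.Agent.S2742.result P₁ P₂ (fun N hN hn => h.1.2.2.2 N hN hn)
    rw [map_one]
    ext μ
    have h1 : z ∈ MulAction.stabilizer X μ := (inf_le_left : Cfsg.neighbourKernel μ ≤ _) (hall δ μ hz)
    simpa using h1
  obtain ⟨δ, μ, hd, hnot⟩ := Nat.sInf_mem hne
  exact ⟨δ, μ, hnot, hd⟩

/-- the valency is three -/
theorem q_eq_three_of_amalgam {q : ℕ} (h : Cfsg.IsCharPAmalgamPair 2 P₁ P₂) (D₁ : DQ q P₁)
    (D₂ : DQ q P₂) (hq : q.Prime) (hq2 : q ≠ 2) : q = 3 := by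
  obtain ⟨α, α', hcrit⟩ := exists_critical h
  obtain ⟨h1, h2, -⟩ := Cfsg.Agent.S2747.result P₁ P₂ h α α' hcrit
  have hnot : ¬ Cfsg.vertexZ 2 α ≤ Cfsg.vertexQ 2 α' := fun hle =>
    hcrit.1 (hle.trans (Cfsg.Agent.S2746.result P₁ P₂ h α'))
  have DP : DQ q (MulAction.stabilizer X α') := DQ.stab D₁ D₂ α'
  have DP' : DQ q (MulAction.stabilizer X α) := DQ.stab D₁ D₂ α
  obtain ⟨t, htA, htQ⟩ := SetLike.not_le_iff_exists.1 hnot
  have htP : t ∈ MulAction.stabilizer X α' := h2 htA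
  have ht2 : t * t = 1 := DP'.scc_sq htA
  obtain ⟨d, hdP, hd⟩ := DP.exists_conj htP htQ ht2
  have hVcomm : ∀ v ∈ Cfsg.sylowCenterClosure 2 (MulAction.stabilizer X α'),
      ∀ w ∈ Cfsg.sylowCenterClosure 2 (MulAction.stabilizer X α'), v * w = w * v :=
    fun v hv w hw => DP.scc_comm hv hw
  have hVexp : ∀ v ∈ Cfsg.sylowCenterClosure 2 (MulAction.stabilizer X α'), v * v = 1 :=
    fun v hv => DP.scc_sq hv
  have hV2 : IsPGroup 2 (Cfsg.sylowCenterClosure 2 (MulAction.stabilizer X α')) :=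
    (isPGroup_pCoreOf (MulAction.stabilizer X α')).to_le DP.scc_le_Q
  obtain ⟨z, hTv⟩ := Tv.of_index hVcomm hVexp ht2
    (fun v hv => DQ.conj_mem_scc (MulAction.stabilizer X α') htP hv) (by
    intro v hv w hw hv' hw'
    have hvQ : v ∉ Cfsg.pCoreOf 2 (MulAction.stabilizer X α) :=
      fun hc => hv' (DP'.scc_comm_Q htA hc)
    have hwQ : w ∉ Cfsg.pCoreOf 2 (MulAction.stabilizer X α) :=
      fun hc => hw' (DP'.scc_comm_Q htA hc)
    rcases DP'.two_sub hq hq2 h1 hV2 hv hw hvQ with hc | hc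
    · exact absurd hc hwQ
    · exact DP'.scc_comm_Q htA hc)
  have hdi : d⁻¹ ∈ MulAction.stabilizer X α' := Subgroup.inv_mem _ hdP
  have hTv' := hTv.conj (MulAut.conj d)
    (fun v hv => by
      rw [MulAut.conj_apply]
      exact DQ.conj_mem_scc (MulAction.stabilizer X α') hdP hv)
    (fun v hv => by
      rw [← map_inv, MulAut.conj_apply]
      exact DQ.conj_mem_scc (MulAction.stabilizer X α') hdi hv)
  have h12 := Tv.pow_twelve hVcomm hVexp hTv hTv'
  have e : (MulAut.conj t * (MulAut.conj d * MulAut.conj t * (MulAut.conj d)⁻¹)) ^ 12 =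
      MulAut.conj ((t * (d * t * d⁻¹)) ^ 12) := by
    rw [map_pow, map_mul, map_mul, map_mul, map_inv]
  rw [e] at h12
  have hbP : d * t * d⁻¹ ∈ MulAction.stabilizer X α' :=
    Subgroup.mul_mem _ (Subgroup.mul_mem _ hdP htP) hdi
  have hρP : (t * (d * t * d⁻¹)) ^ 12 ∈ MulAction.stabilizer X α' :=
    Subgroup.pow_mem _ (Subgroup.mul_mem _ htP hbP) 12
  have hk : (t * (d * t * d⁻¹)) ^ 12 ∈ Cfsg.pCoreOf 2 (MulAction.stabilizer X α') := by
    apply DP.cent_scc hq hq2 hρP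
    intro v hv
    have := h12 v hv
    rw [MulAut.conj_apply] at this
    calc (t * (d * t * d⁻¹)) ^ 12 * v
        = ((t * (d * t * d⁻¹)) ^ 12 * v * ((t * (d * t * d⁻¹)) ^ 12)⁻¹) * (t * (d * t * d⁻¹)) ^ 12 := by
          group
      _ = v * (t * (d * t * d⁻¹)) ^ 12 := by rw [this]
  have hb2 : (d * t * d⁻¹) * (d * t * d⁻¹) = 1 := by
    calc (d * t * d⁻¹) * (d * t * d⁻¹) = d * (t * t) * d⁻¹ := by group
      _ = 1 := by rw [ht2]; group
  have hbQ : d * t * d⁻¹ ∉ Cfsg.pCoreOf 2 (MulAction.stabilizer X α') := by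
    intro hc
    apply htQ
    have := conj_mem_pCoreOf hdi hc
    have e2 : d⁻¹ * (d * t * d⁻¹) * d⁻¹⁻¹ = t := by group
    rwa [e2] at this
  have hab : t⁻¹ * (d * t * d⁻¹) ∉ Cfsg.pCoreOf 2 (MulAction.stabilizer X α') := by
    intro hc
    apply hd
    have := conj_mem_pCoreOf htP hc
    have e2 : t * (t⁻¹ * (d * t * d⁻¹)) * t⁻¹ = d * t * d⁻¹ * t⁻¹ := by group
    rwa [e2] at this
  exact DP.q_eq_three hq hq2 htP hbP ht2 hb2 htQ hbQ hab hk

end Cfsg.Agent.Helper8.Sims
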