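import Mathlib
import Cfsg.Agent.Helper8.SimsE
import Cfsg.Agent.Helper5.CharP

/-!
# Sims' theorem in local form (S2772): set-up lemmas

`D₃ ≅ S₃`, the order of a group with dihedral quotient over `O₂`, the ambient form of `C_G(O₂(G)) ≤ O₂(G)`,
maximal subgroups of simple groups are self-normalizing.
-/

set_option autoImplicit false

namespace Cfsg.Agent.Helper8.Sims

open Cfsg Cfsg.Agent.Lead.LLem DihedralGroup

/-- the action of `D₃` on three points -/
def d3fun : DihedralGroup 3 → Equiv.Perm (Fin 3)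
  | r i => (Equiv.subRight (i : Fin 3) : Equiv.Perm (Fin 3))
  | sr i => (Equiv.subLeft (i : Fin 3) : Equiv.Perm (Fin 3))

theorem d3fun_mul : ∀ a b : DihedralGroup 3, d3fun (a * b) = d3fun a * d3fun b := by decide

theorem d3fun_inj : Function.Injective d3fun := by
  intro a b
  revert a b
  decide

/-- `D₃ ≅ S₃` -/
noncomputable def d3equiv : DihedralGroup 3 ≃* Equiv.Perm (Fin 3) :=
  MulEquiv.ofBijective (MonoidHom.mk' d3fun d3fun_mul)
    ((Fintype.bijective_iff_injective_and_card _).2 ⟨d3fun_inj, by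
      rw [DihedralGroup.card, Fintype.card_perm, Fintype.card_fin]; rfl⟩)

variable {H : Type*} [Group H]

/-- the ambient form of characteristic two -/
theorem charp_of_hasCharP (G : Subgroup H)
    (hchar : Subgroup.centralizer (Cfsg.pCore 2 ↥G : Set ↥G) ≤ Cfsg.pCore 2 ↥G) :
    G ⊓ Subgroup.centralizer (Cfsg.pCoreOf 2 G : Set H) ≤ Cfsg.pCoreOf 2 G := by
  intro c hc
  obtain ⟨hcG, hcC⟩ := Subgroup.mem_inf.1 hc
  rw [Cfsg.Agent.Lead.Gold.mem_pCoreOf]
  refine ⟨hcG, hchar ?_⟩
  rw [Subgroup.mem_centralizer_iff]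
  intro y hy
  apply Subtype.ext
  have := (Subgroup.mem_centralizer_iff.1 hcC) (y : H) (Cfsg.Agent.Lead.Gold.coe_mem_pCoreOf.2 hy)
  simpa using this

theorem card_of_dihedral (G : Subgroup H) {q : ℕ}
    (hD : Nonempty (↥G ⧸ Cfsg.pCore 2 ↥G ≃* DihedralGroup q)) :
    Nat.card G = 2 * q * Nat.card (Cfsg.pCoreOf 2 G) := by
  obtain ⟨e⟩ := hD
  rw [Subgroup.card_eq_card_quotient_mul_card_subgroup (Cfsg.pCore 2 ↥G), Nat.card_congr e.toEquiv,
    DihedralGroup.nat_card, Cfsg.Agent.Lead.Gold.card_pCoreOf]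

theorem q_ne_two (G : Subgroup H) [Finite G] {q : ℕ}
    (hD : Nonempty (↥G ⧸ Cfsg.pCore 2 ↥G ≃* DihedralGroup q)) : q ≠ 2 := by
  rintro rfl
  have hcard := card_of_dihedral G hD
  have hfinQ : Finite (Cfsg.pCoreOf 2 G) :=
    Finite.of_injective (Subgroup.inclusion (pCoreOf_le G)) (Subgroup.inclusion_injective _)
  obtain ⟨n, hn⟩ := (isPGroup_pCoreOf (p := 2) G).exists_card_eq
  have hG2 : IsPGroup 2 G := IsPGroup.of_card (n := n + 2) (by rw [hcard, hn]; ring)
  have htop : Cfsg.pCore 2 ↥G = ⊤ := by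
    rw [eq_top_iff]
    exact Cfsg.Agent.Helper5.le_pCore (N := ⊤) inferInstance (hG2.to_subgroup ⊤)
  have h1 : Nat.card (Cfsg.pCoreOf 2 G) = Nat.card G := by
    rw [Cfsg.Agent.Lead.Gold.card_pCoreOf, htop, Subgroup.card_top]
  rw [h1] at hcard
  have hpos : 0 < Nat.card G := Nat.card_pos
  omega

/-- a maximal subgroup with at least two elements of a simple group is self-normalizing -/
theorem mem_of_conj_eq [IsSimpleGroup H] {G : Subgroup H} (hG : IsCoatom G) (h2 : G ≠ ⊥) {x : H}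
    (hx : cj x G = G) : x ∈ G := by
  by_contra hxG
  have hxn : x ∈ Subgroup.normalizer (G : Set H) := mem_normalizer_of_cj_eq hx
  have hlt : G < G ⊔ Subgroup.zpowers x := by
    refine lt_of_le_of_ne le_sup_left ?_
    intro heq
    apply hxG
    rw [heq]
    exact (le_sup_right : Subgroup.zpowers x ≤ _) (Subgroup.mem_zpowers x)
  have htop : G ⊔ Subgroup.zpowers x = ⊤ := hG.2 _ hlt
  have hle : G ⊔ Subgroup.zpowers x ≤ Subgroup.normalizer (G : Set H) :=
    sup_le Subgroup.le_normalizer (Subgroup.zpowers_le.2 hxn)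
  rw [htop, top_le_iff] at hle
  have hnorm : G.Normal := Subgroup.normalizer_eq_top_iff.1 hle
  rcases hnorm.eq_bot_or_eq_top with h | h
  · exact h2 h
  · exact hG.1 h

end Cfsg.Agent.Helper8.Sims
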