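import Mathlib
import Cfsg.Agent.Helper8.SimsF
import Cfsg.Agent.Helper5.PGroupCenter

/-!
# Sims' theorem in local form (S2772) from the `S₃`-amalgam theorem (S2858)

`H` simple, `G` maximal with `C_G(O₂(G)) ≤ O₂(G)`, `N_H(S) ≰ G` for `S ∈ Syl₂(G)`, `G / O₂(G)` dihedral of order
`2q`.  With `g ∈ N_H(S) \ G` the pair `P₁ = G`, `P₂ = G^g` is an amalgam with `P₁ ∩ P₂ = S`; the valency `q` is
three, and the amalgam theorem applies.
-/

set_option autoImplicit false

namespace Cfsg.Agent.Helper8.Sims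

open Cfsg Cfsg.Agent.Lead.LLem

variable {H : Type*} [Group H]

theorem subgroupOf_map_subtype' (K : Subgroup H) (A : Subgroup K) :
    (A.map K.subtype).subgroupOf K = A := by
  ext x
  rw [Subgroup.mem_subgroupOf, Subgroup.mem_map]
  constructor
  · rintro ⟨y, hy, hyx⟩
    have : y = x := Subtype.ext hyx
    rwa [← this]
  · intro hx
    exact ⟨x, hx, rfl⟩

/-- `Ω₁ Z(T) ≠ 1` for a nontrivial finite `2`-group `T` -/
theorem omegaCenter_ne_bot {T : Subgroup H} [Finite T] (hT : IsPGroup 2 T) (hne : T ≠ ⊥) :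
    Cfsg.omegaOne 2 (T ⊓ Subgroup.centralizer (T : Set H)) ≠ ⊥ := by
  have hfin : Finite ↥(T ⊓ Subgroup.centralizer (T : Set H)) :=
    Finite.of_injective (Subgroup.inclusion (inf_le_left : T ⊓ Subgroup.centralizer (T : Set H) ≤ T))
      (Subgroup.inclusion_injective _)
  apply Cfsg.Agent.Helper5.omegaOne_ne_bot _ (hT.to_le inf_le_left)
  have : Nontrivial T := (Subgroup.nontrivial_iff_ne_bot T).mpr hne
  obtain ⟨z, _, hz1, hzc⟩ := Cfsg.Agent.Helper5.exists_ne_one_mem_center_of_normal hT (⊤ : Subgroup T)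
    (by simp)
  intro hb
  have hmem : (z : H) ∈ T ⊓ Subgroup.centralizer (T : Set H) := by
    refine Subgroup.mem_inf.mpr ⟨z.2, ?_⟩
    rw [Subgroup.mem_centralizer_iff]
    intro t ht
    have := hzc ⟨t, ht⟩
    exact congrArg Subtype.val this
  rw [hb, Subgroup.mem_bot] at hmem
  exact hz1 (Subtype.ext hmem)

end Cfsg.Agent.Helper8.Sims
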