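import Mathlib
import Cfsg.Agent.Helper8.SimsG

/-!
# Sims' theorem in local form (S2772) from the `S₃`-amalgam theorem (S2858): assembly
-/

set_option autoImplicit false

namespace Cfsg.Agent.Helper8.Sims

open Cfsg Cfsg.Agent.Lead.LLem

universe u

/-- the statement of the `S₃`-amalgam theorem (S2858) in the universe `u` -/
def GoldStmt : Prop :=
  ∀ {G : Type u} [Group G] (P₁ P₂ : Subgroup G) [Finite ↥P₁] [Finite ↥P₂] (_hgen : P₁ ⊔ P₂ = ⊤)
    (T : Subgroup G) (_hT : T = P₁ ⊓ P₂)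
    (_h₁ : ∀ P ∈ ({P₁, P₂} : Set (Subgroup G)),
      P ⊓ Subgroup.centralizer (Cfsg.pCoreOf 2 P : Set G) ≤ Cfsg.pCoreOf 2 P)
    (_h₂ : ∀ P ∈ ({P₁, P₂} : Set (Subgroup G)), ∃ S : Sylow 2 ↥P, (S : Subgroup ↥P) = T.subgroupOf P)
    (_h₃ : ∀ N : Subgroup G, N.Normal → N ≤ T → N = ⊥)
    (_h₄ : ∀ P ∈ ({P₁, P₂} : Set (Subgroup G)),
      Nonempty (↥P ⧸ Cfsg.pCore 2 ↥P ≃* Equiv.Perm (Fin 3)))
    (_h₅ : ∀ P ∈ ({P₁, P₂} : Set (Subgroup G)), ¬ P ≤ Subgroup.centralizer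
      (Cfsg.omegaOne 2 (T ⊓ Subgroup.centralizer (T : Set G)) : Set G)),
    (Nonempty (↥P₁ ≃* Equiv.Perm (Fin 4)) ∧ Nonempty (↥P₂ ≃* Equiv.Perm (Fin 4))) ∨
      (Nonempty (↥P₁ ≃* Multiplicative (ZMod 2) × Equiv.Perm (Fin 4)) ∧
        Nonempty (↥P₂ ≃* Multiplicative (ZMod 2) × Equiv.Perm (Fin 4)))

variable {H : Type u} [Group H]

/-- the data extracted from the hypotheses of S2772 -/
structure Setup (G : Subgroup H) (T : Subgroup H) (g : H) (q : ℕ) : Prop where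
  hq : q.Prime
  hq2 : q ≠ 2
  DG : DQ q G
  hTG : T ≤ G
  hT2 : IsPGroup 2 T
  hcardT : Nat.card T = 2 * Nat.card (Cfsg.pCoreOf 2 G)
  hcj : cj g T = T
  hgG : g ∉ G
  hgen : G ⊔ cj g G = ⊤
  hne : cj g G ≠ G
  h₅ : ¬ G ≤ Subgroup.centralizer (Cfsg.omegaOne 2 (T ⊓ Subgroup.centralizer (T : Set H)) : Set H)

theorem setup_of_hyp [Finite H] [IsSimpleGroup H] (G : Subgroup H) (hG : IsCoatom G)
    (hchar : Subgroup.centralizer (Cfsg.pCore 2 ↥G : Set ↥G) ≤ Cfsg.pCore 2 ↥G) (S : Sylow 2 ↥G)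
    (hN : ¬ Subgroup.normalizer (((S : Subgroup ↥G).map G.subtype : Subgroup H) : Set H) ≤ G) (q : ℕ)
    (hq : q.Prime) (hD : Nonempty (↥G ⧸ Cfsg.pCore 2 ↥G ≃* DihedralGroup q)) :
    ∃ g : H, Setup G ((S : Subgroup ↥G).map G.subtype) g q := by
  have hq2 : q ≠ 2 := q_ne_two G hD
  have hcardG := card_of_dihedral G hD
  have hcharp := charp_of_hasCharP G hchar
  set T : Subgroup H := (S : Subgroup ↥G).map G.subtype with hTdef
  have hTG : T ≤ G := Subgroup.map_subtype_le _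
  have hT2 : IsPGroup 2 T := S.isPGroup'.map _
  obtain ⟨g, hgN, hgG⟩ := SetLike.not_le_iff_exists.1 hN
  have hcjT : cj g T = T := cj_eq_of_mem_normalizer hgN
  have hcpos : 0 < Nat.card (Cfsg.pCoreOf 2 G) := Nat.card_pos
  have hGne : G ≠ ⊥ := by
    intro hbot
    have h1 : Nat.card G = 1 := by rw [hbot]; exact Subgroup.card_bot
    rw [hcardG] at h1
    have h2 : 2 ∣ 1 := ⟨q * Nat.card (Cfsg.pCoreOf 2 G), by rw [← h1]; ring⟩
    omega
  have hP₂ne : cj g G ≠ G := fun h => hgG (mem_of_conj_eq hG hGne h)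
  have hcardP₂ : Nat.card (cj g G) = Nat.card G := card_cj g G
  have hP₂G : ¬ cj g G ≤ G := fun hle => hP₂ne (Subgroup.eq_of_le_of_card_ge hle hcardP₂.ge)
  have hgen : G ⊔ cj g G = ⊤ := by
    apply hG.2
    refine lt_of_le_of_ne le_sup_left ?_
    intro heq
    apply hP₂G
    calc cj g G ≤ G ⊔ cj g G := le_sup_right
      _ = G := heq.symm
  have hcardS : Nat.card S = 2 * Nat.card (Cfsg.pCoreOf 2 G) := card_sylow_of_card hq hq2 hcardG S
  have hcardT : Nat.card T = 2 * Nat.card (Cfsg.pCoreOf 2 G) := by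
    rw [hTdef, Subgroup.card_map_of_injective G.subtype_injective]
    exact hcardS
  have hTne : T ≠ ⊥ := by
    intro hb
    rw [hb, Subgroup.card_bot] at hcardT
    omega
  have hZne := omegaCenter_ne_bot hT2 hTne
  have hZT : Cfsg.omegaOne 2 (T ⊓ Subgroup.centralizer (T : Set H)) ≤ T :=
    (Cfsg.Agent.Helper5.omegaOne_le' 2 _).trans inf_le_left
  have hcjZ : cj g (Cfsg.omegaOne 2 (T ⊓ Subgroup.centralizer (T : Set H))) =
      Cfsg.omegaOne 2 (T ⊓ Subgroup.centralizer (T : Set H)) := by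
    rw [cj, Cfsg.Agent.Helper5.omegaCenter_map_conj 2 T g]
    have : T.map (MulAut.conj g).toMonoidHom = T := hcjT
    rw [this]
  have h₅ : ¬ G ≤ Subgroup.centralizer
      (Cfsg.omegaOne 2 (T ⊓ Subgroup.centralizer (T : Set H)) : Set H) := by
    intro hle
    have hgn := mem_normalizer_of_cj_eq hcjZ
    have hlt : G < G ⊔ Subgroup.zpowers g := by
      refine lt_of_le_of_ne le_sup_left ?_
      intro heq
      apply hgG
      have : g ∈ G ⊔ Subgroup.zpowers g :=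
        (le_sup_right : Subgroup.zpowers g ≤ _) (Subgroup.mem_zpowers g)
      rwa [← heq] at this
    have htop := hG.2 _ hlt
    have hle2 : G ⊔ Subgroup.zpowers g ≤ Subgroup.normalizer
        (Cfsg.omegaOne 2 (T ⊓ Subgroup.centralizer (T : Set H)) : Set H) :=
      sup_le (hle.trans (Subgroup.centralizer_le_normalizer _)) (Subgroup.zpowers_le.2 hgn)
    rw [htop, top_le_iff] at hle2
    have hnorm : (Cfsg.omegaOne 2 (T ⊓ Subgroup.centralizer (T : Set H))).Normal :=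
      Subgroup.normalizer_eq_top_iff.1 hle2
    rcases hnorm.eq_bot_or_eq_top with h | h
    · exact hZne h
    · apply hG.1
      rw [eq_top_iff, ← h]
      exact hZT.trans hTG
  have hsub : Cfsg.omegaOne 2 (T ⊓ Subgroup.centralizer (T : Set H)) ≤ Cfsg.sylowCenterClosure 2 G := by
    unfold Cfsg.sylowCenterClosure
    exact le_iSup (fun S : Sylow 2 G => Cfsg.omegaOne 2 (((S : Subgroup G).map G.subtype) ⊓
      Subgroup.centralizer (((S : Subgroup G).map G.subtype : Subgroup H) : Set H))) S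
  have DG : DQ q G :=
    ⟨inferInstance, hcharp, hcardG, fun hle => h₅ (hle.trans (Subgroup.centralizer_le hsub))⟩
  exact ⟨g, hq, hq2, DG, hTG, hT2, hcardT, hcjT, hgG, hgen, hP₂ne, h₅⟩

end Cfsg.Agent.Helper8.Sims
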