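import Mathlib
import Cfsg.Agent.Helper8.SimsH

/-!
# Sims' theorem in local form (S2772) from the `S₃`-amalgam theorem (S2858): the amalgam `G, G^g`
-/

set_option autoImplicit false

namespace Cfsg.Agent.Helper8.Sims

open Cfsg Cfsg.Agent.Lead.LLem

universe u

variable {H : Type u} [Group H]

namespace Setup

variable {G T : Subgroup H} {g : H} {q : ℕ}

theorem card_cj_pCoreOf (_st : Setup G T g q) :
    Nat.card (Cfsg.pCoreOf 2 (cj g G)) = Nat.card (Cfsg.pCoreOf 2 G) := by
  have hinj : Function.Injective (MulAut.conj g).toMonoidHom := (MulAut.conj g).injective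
  rw [cj, pCoreOf_map _ hinj G, Subgroup.card_map_of_injective hinj]

theorem le_cj (st : Setup G T g q) : T ≤ cj g G := by
  rw [← st.hcj]
  exact cj_mono st.hTG

theorem not_le_cj [Finite H] (st : Setup G T g q) : ¬ G ≤ cj g G := fun hle =>
  st.hne (Subgroup.eq_of_le_of_card_ge hle (card_cj g G).le).symm

/-- `G ∩ G^g = T` -/
theorem eq_inf [Finite H] (st : Setup G T g q) : T = G ⊓ cj g G := by
  have hTR : T ≤ G ⊓ cj g G := le_inf st.hTG st.le_cj
  have hRG : G ⊓ cj g G ≤ G := inf_le_left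
  obtain ⟨m, hm⟩ := Subgroup.card_dvd_of_le hTR
  have h2 : Nat.card ↥(G ⊓ cj g G) ∣ Nat.card G := Subgroup.card_dvd_of_le hRG
  have hTpos : 0 < Nat.card T := Nat.card_pos
  have hGT : Nat.card G = Nat.card T * q := by
    rw [st.DG.card, st.hcardT]; ring
  rw [hm, hGT] at h2
  have hmq : m ∣ q := Nat.dvd_of_mul_dvd_mul_left hTpos h2
  rcases (Nat.dvd_prime st.hq).1 hmq with h1 | h1
  · rw [h1, mul_one] at hm
    exact Subgroup.eq_of_le_of_card_ge hTR hm.le
  · exfalso
    rw [h1, ← hGT] at hm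
    have : G ⊓ cj g G = G := Subgroup.eq_of_le_of_card_ge hRG hm.ge
    apply st.not_le_cj
    calc G = G ⊓ cj g G := this.symm
      _ ≤ cj g G := inf_le_right

/-- `G, G^g` is an amalgam pair of characteristic two -/
theorem pair [Finite H] [IsSimpleGroup H] (st : Setup G T g q) (hG : IsCoatom G)
    (hchar : Subgroup.centralizer (Cfsg.pCore 2 ↥G : Set ↥G) ≤ Cfsg.pCore 2 ↥G) :
    Cfsg.IsCharPAmalgamPair 2 G (cj g G) := by
  have DP₂ : DQ q (cj g G) := st.DG.conj g
  have hinj : Function.Injective (MulAut.conj g).toMonoidHom := (MulAut.conj g).injective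
  have h2G : 2 ∣ Nat.card G := ⟨q * Nat.card (Cfsg.pCoreOf 2 G), by rw [st.DG.card]; ring⟩
  refine ⟨⟨st.hgen, hG.1, ?_, ?_⟩, inferInstance, inferInstance, h2G, ?_, ?_, hchar, ?_⟩
  · intro h
    exact hG.1 (cj_eq_top_iff.1 h)
  · intro N hN hn
    rcases hn.eq_bot_or_eq_top with h | h
    · exact h
    · exfalso
      apply hG.1
      rw [eq_top_iff, ← h]
      exact hN.trans inf_le_left
  · rw [card_cj]
    exact h2G
  · intro S' S₁ S₂
    have e1 : Nat.card S₁ = 2 * Nat.card (Cfsg.pCoreOf 2 G) := st.DG.card_sylow st.hq st.hq2 S₁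
    have e2 : Nat.card S₂ = 2 * Nat.card (Cfsg.pCoreOf 2 G) := by
      rw [DP₂.card_sylow st.hq st.hq2 S₂, st.card_cj_pCoreOf]
    have e3 : Nat.card S' = 2 * Nat.card (Cfsg.pCoreOf 2 G) := by
      rw [Sylow.card_eq_multiplicity]
      have hc : Nat.card ↥(G ⊓ cj g G) = Nat.card T := by rw [← st.eq_inf]
      rw [hc, st.hcardT]
      have := st.DG.finQ
      obtain ⟨n, hn⟩ := (isPGroup_pCoreOf (p := 2) G).exists_card_eq
      rw [hn]
      have h3 : 2 * 2 ^ n = 2 ^ (n + 1) := by ring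
      rw [h3, Nat.prime_two.factorization_pow]
      simp
    exact ⟨e3.trans e1.symm, e3.trans e2.symm⟩
  · exact Cfsg.Agent.Helper5.HasCharP.of_equiv (G.equivMapOfInjective _ hinj) hchar

theorem q_eq_three [Finite H] [IsSimpleGroup H] (st : Setup G T g q) (hG : IsCoatom G)
    (hchar : Subgroup.centralizer (Cfsg.pCore 2 ↥G : Set ↥G) ≤ Cfsg.pCore 2 ↥G) : q = 3 :=
  q_eq_three_of_amalgam (st.pair hG hchar) st.DG (st.DG.conj g) st.hq st.hq2

end Setup

end Cfsg.Agent.Helper8.Sims
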