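import Mathlib
import Cfsg.Agent.Helper8.SimsI

/-!
# Sims' theorem in local form (S2772) from the `S₃`-amalgam theorem (S2858): final assembly
-/

set_option autoImplicit false

namespace Cfsg.Agent.Helper8.Sims

open Cfsg Cfsg.Agent.Lead.LLem

universe u

/-- **Sims' theorem in local form**, assuming the `S₃`-amalgam theorem in the same universe. -/
theorem sims_local_of_gold (hgold : GoldStmt.{u}) {H : Type u} [Group H] [Finite H] [IsSimpleGroup H]
    (G : Subgroup H) (hG : IsCoatom G)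
    (hchar : Subgroup.centralizer (Cfsg.pCore 2 ↥G : Set ↥G) ≤ Cfsg.pCore 2 ↥G) (S : Sylow 2 ↥G)
    (hN : ¬ Subgroup.normalizer (((S : Subgroup ↥G).map G.subtype : Subgroup H) : Set H) ≤ G) (q : ℕ)
    (hq : q.Prime) (hD : Nonempty (↥G ⧸ Cfsg.pCore 2 ↥G ≃* DihedralGroup q)) :
    Nonempty (↥G ≃* Equiv.Perm (Fin 4)) ∨
      Nonempty (↥G ≃* Equiv.Perm (Fin 4) × Multiplicative (ZMod 2)) := by
  obtain ⟨g, st⟩ := setup_of_hyp G hG hchar S hN q hq hD
  have hq3 := st.q_eq_three hG hchar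
  subst hq3
  have DP₂ : DQ 3 (cj g G) := st.DG.conj g
  have hinj : Function.Injective (MulAut.conj g).toMonoidHom := (MulAut.conj g).injective
  have hmem : ∀ P ∈ ({G, cj g G} : Set (Subgroup H)), P = G ∨ P = cj g G := by
    intro P hP
    simpa using hP
  have h₁ : ∀ P ∈ ({G, cj g G} : Set (Subgroup H)),
      P ⊓ Subgroup.centralizer (Cfsg.pCoreOf 2 P : Set H) ≤ Cfsg.pCoreOf 2 P := by
    intro P hP
    rcases hmem P hP with rfl | rfl
    · exact st.DG.charp
    · exact DP₂.charp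
  have h₂ : ∀ P ∈ ({G, cj g G} : Set (Subgroup H)), ∃ S' : Sylow 2 ↥P,
      (S' : Subgroup ↥P) = ((S : Subgroup ↥G).map G.subtype).subgroupOf P := by
    intro P hP
    rcases hmem P hP with rfl | rfl
    · exact ⟨S, (subgroupOf_map_subtype' P S).symm⟩
    · have hc : Nat.card ((S : Subgroup ↥G).map G.subtype) =
          2 ^ (Nat.card (cj g G)).factorization 2 := by
        let S₀ : Sylow 2 (cj g G) := default
        rw [← S₀.card_eq_multiplicity, DP₂.card_sylow st.hq st.hq2 S₀, st.card_cj_pCoreOf, st.hcardT]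
      obtain ⟨S₂, hS₂⟩ := Cfsg.Agent.Helper5.exists_sylow_map_eq (cj g G) _ st.le_cj hc
      refine ⟨S₂, ?_⟩
      rw [← hS₂]
      exact (subgroupOf_map_subtype' _ _).symm
  have h₃ : ∀ N : Subgroup H, N.Normal → N ≤ (S : Subgroup ↥G).map G.subtype → N = ⊥ := by
    intro N hn hNT
    rcases hn.eq_bot_or_eq_top with h | h
    · exact h
    · exfalso
      apply hG.1
      rw [eq_top_iff, ← h]
      exact hNT.trans st.hTG
  have h₄ : ∀ P ∈ ({G, cj g G} : Set (Subgroup H)),
      Nonempty (↥P ⧸ Cfsg.pCore 2 ↥P ≃* Equiv.Perm (Fin 3)) := by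
    obtain ⟨e⟩ := hD
    intro P hP
    rcases hmem P hP with rfl | rfl
    · exact ⟨e.trans d3equiv⟩
    · let f : ↥G ≃* ↥(cj g G) := G.equivMapOfInjective _ hinj
      have hf : (Cfsg.pCore 2 ↥G).map (f : ↥G →* ↥(cj g G)) = Cfsg.pCore 2 ↥(cj g G) :=
        Cfsg.Agent.Helper5.map_pCore_equiv 2 f
      exact ⟨(QuotientGroup.congr (Cfsg.pCore 2 ↥G) (Cfsg.pCore 2 ↥(cj g G)) f hf).symm.trans
        (e.trans d3equiv)⟩
  have h₅ : ∀ P ∈ ({G, cj g G} : Set (Subgroup H)), ¬ P ≤ Subgroup.centralizer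
      (Cfsg.omegaOne 2 ((S : Subgroup ↥G).map G.subtype ⊓
        Subgroup.centralizer (((S : Subgroup ↥G).map G.subtype : Subgroup H) : Set H)) : Set H) := by
    intro P hP
    rcases hmem P hP with rfl | rfl
    · exact st.h₅
    · intro hle
      apply st.h₅
      have hcjZ : cj g (Cfsg.omegaOne 2 ((S : Subgroup ↥G).map G.subtype ⊓
          Subgroup.centralizer (((S : Subgroup ↥G).map G.subtype : Subgroup H) : Set H))) =
          Cfsg.omegaOne 2 ((S : Subgroup ↥G).map G.subtype ⊓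
            Subgroup.centralizer (((S : Subgroup ↥G).map G.subtype : Subgroup H) : Set H)) := by
        rw [cj, Cfsg.Agent.Helper5.omegaCenter_map_conj 2 _ g]
        have : ((S : Subgroup ↥G).map G.subtype).map (MulAut.conj g).toMonoidHom =
            (S : Subgroup ↥G).map G.subtype := st.hcj
        rw [this]
      rw [← hcjZ, cj, ← Cfsg.Agent.Helper1.centralizer_map_equiv (MulAut.conj g)] at hle
      exact (Subgroup.map_le_map_iff_of_injective hinj).1 hle
  have key := hgold G (cj g G) st.hgen _ st.eq_inf h₁ h₂ h₃ h₄ h₅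
  rcases key with ⟨⟨e⟩, -⟩ | ⟨⟨e⟩, -⟩
  · exact Or.inl ⟨e⟩
  · exact Or.inr ⟨e.trans MulEquiv.prodComm⟩

end Cfsg.Agent.Helper8.Sims
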