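import Mathlib
import Cfsg.Agent.Helper8.DkMin
import Cfsg.Agent.Helper8.DkMaxI

set_option autoImplicit false

/-!
Solubilizers in `PSL₂(2^p)`, `p` prime: two elements generate a solvable subgroup exactly when they
normalise a common member of the partition.
-/

namespace Cfsg.Agent.Helper8.Sol2

open Matrix Cfsg.Agent.Helper7.SL2 Cfsg.Agent.Helper8.SL2C Subgroup Cfsg.Agent.Helper8.Dk
open scoped Matrix commutatorElement

/-- a non-trivial solvable group has a non-trivial element all of whose conjugates commute with it -/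
theorem exists_abelian_normal {K : Type*} [Group K] [hK : Group.IsSolvable K] [Nontrivial K] :
    ∃ a : K, a ≠ 1 ∧ ∀ k : K, Commute (k * a * k⁻¹) a := by
  classical
  obtain ⟨n, hn⟩ := hK.solvable
  have hex : ∃ n, derivedSeries K n = ⊥ := ⟨n, hn⟩
  set n₀ := Nat.find hex with hn₀
  have h1 : derivedSeries K n₀ = ⊥ := Nat.find_spec hex
  have h0 : n₀ ≠ 0 := by
    intro h0
    rw [h0, derivedSeries_zero] at h1
    exact top_ne_bot h1
  obtain ⟨m, hm⟩ : ∃ m, n₀ = m + 1 := ⟨n₀ - 1, by omega⟩
  have h2 : derivedSeries K m ≠ ⊥ := Nat.find_min hex (by omega)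
  rw [hm, derivedSeries_succ] at h1
  obtain ⟨⟨a, ha⟩, ha1⟩ := (Subgroup.ne_bot_iff_exists_ne_one).mp h2
  refine ⟨a, fun h => ha1 (Subtype.ext h), fun k => ?_⟩
  have hn : (derivedSeries K m).Normal := inferInstance
  have hk : k * a * k⁻¹ ∈ derivedSeries K m := hn.conj_mem a ha k
  have hc : ⁅k * a * k⁻¹, a⁆ ∈ ⁅derivedSeries K m, derivedSeries K m⁆ :=
    Subgroup.commutator_mem_commutator hk ha
  rw [h1, Subgroup.mem_bot] at hc
  exact (commutatorElement_eq_one_iff_commute).mp hc

variable {F : Type*} [Field F]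

/-- in characteristic two, the centraliser of a non-trivial element of a member is the member -/
theorem GM_cent (h2 : (2 : F) = 0) (M : Subgroup (ProjectiveSpecialLinearGroup (Fin 2) F))
    (hM : M ∈ GM F) (m : ProjectiveSpecialLinearGroup (Fin 2) F) (hm : m ∈ M) (hm1 : m ≠ 1)
    (g : ProjectiveSpecialLinearGroup (Fin 2) F) (hg : g * m = m * g) : g ∈ M := by
  obtain ⟨A, hA, rfl⟩ := hM
  obtain ⟨y, rfl⟩ := pmk_surjective m
  obtain ⟨h, rfl⟩ := pmk_surjective g
  have hyA := mem_of_pmk_mem hA hm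
  have hyZ := not_center_of_pmk_ne_one hm1
  have hC : h ∈ Cstar y := by
    rw [mem_Cstar, ← pmk_eq_iff]
    exact hg
  rw [Cstar_eq_of_char_two h2 y, centralizer_of_mem_LM hA hyA hyZ] at hC
  exact Subgroup.mem_map_of_mem (ph F) hC

/-- if a conjugate of a non-trivial element of a member stays in the member, the conjugating element
normalises the member -/
theorem mem_normalizer_of_conj_mem (M : Subgroup (ProjectiveSpecialLinearGroup (Fin 2) F))
    (hM : M ∈ GM F) (c : ProjectiveSpecialLinearGroup (Fin 2) F) (hc : c ∈ M) (hc1 : c ≠ 1)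
    (g : ProjectiveSpecialLinearGroup (Fin 2) F) (hg : g * c * g⁻¹ ∈ M) :
    g ∈ normalizer (M : Set (ProjectiveSpecialLinearGroup (Fin 2) F)) := by
  rw [← cj_eq_self_iff]
  have h1 : g * c * g⁻¹ ∈ cj g M := conj_mem_cj hc
  have h2 : g * c * g⁻¹ ≠ 1 := by
    intro h
    apply hc1
    have : c = g⁻¹ * (g * c * g⁻¹) * g := by group
    rw [this, h]; group
  exact GM_ti _ (GM_conj M hM g) M hM _ h2 h1 hg

variable [Fintype F]

/-- a non-trivial solvable subgroup normalises a member -/
theorem exists_le_normalizer (h2 : (2 : F) = 0)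
    (K : Subgroup (ProjectiveSpecialLinearGroup (Fin 2) F)) (hK : Group.IsSolvable K)
    (hK1 : K ≠ ⊥) :
    ∃ M ∈ GM F, K ≤ normalizer (M : Set (ProjectiveSpecialLinearGroup (Fin 2) F)) := by
  have : Nontrivial K := (Subgroup.nontrivial_iff_ne_bot K).mpr hK1
  obtain ⟨⟨a, haK⟩, ha1, hcomm⟩ := exists_abelian_normal (K := K)
  have ha1' : a ≠ 1 := fun h => ha1 (Subtype.ext h)
  obtain ⟨M, hM, haM⟩ := GM_cover a ha1'
  refine ⟨M, hM, fun k hk => ?_⟩
  apply mem_normalizer_of_conj_mem M hM a haM ha1'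
  have h3 := hcomm ⟨k, hk⟩
  have h4 : (k * a * k⁻¹) * a = a * (k * a * k⁻¹) := by
    have := congrArg Subtype.val h3.eq
    simpa using this
  exact GM_cent h2 M hM a haM ha1' _ h4

/-- the criterion -/
theorem solvable_iff (h2 : (2 : F) = 0) (x y : ProjectiveSpecialLinearGroup (Fin 2) F)
    (hx : x ≠ 1) :
    Group.IsSolvable (closure ({x, y} : Set (ProjectiveSpecialLinearGroup (Fin 2) F))) ↔
      ∃ M ∈ GM F, x ∈ normalizer (M : Set (ProjectiveSpecialLinearGroup (Fin 2) F)) ∧
        y ∈ normalizer (M : Set (ProjectiveSpecialLinearGroup (Fin 2) F)) := by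
  constructor
  · intro h
    have h1 : closure ({x, y} : Set (ProjectiveSpecialLinearGroup (Fin 2) F)) ≠ ⊥ := by
      intro hb
      have : x ∈ closure ({x, y} : Set (ProjectiveSpecialLinearGroup (Fin 2) F)) :=
        subset_closure (Set.mem_insert _ _)
      rw [hb, Subgroup.mem_bot] at this
      exact hx this
    obtain ⟨M, hM, hle⟩ := exists_le_normalizer h2 _ h h1
    exact ⟨M, hM, hle (subset_closure (Set.mem_insert _ _)),
      hle (subset_closure (Set.mem_insert_of_mem _ rfl))⟩
  · rintro ⟨M, hM, hxM, hyM⟩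
    apply isSolvable_of_le_normalizer hM
    rw [closure_le]
    rintro z (rfl | rfl)
    · exact hxM
    · exact hyM

end Cfsg.Agent.Helper8.Sol2
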