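import Mathlib
import Cfsg.Agent.Helper8.SolA

set_option autoImplicit false

/-!
Solubilizers in `PSL₂(2^p)`: orders of the members and their normalisers; elements of order
dividing `q + 1`.
-/

namespace Cfsg.Agent.Helper8.Sol2

open Matrix Cfsg.Agent.Helper7.SL2 Cfsg.Agent.Helper8.SL2C Subgroup Cfsg.Agent.Helper8.Dk
open scoped Matrix

variable {F : Type*} [Field F] [Fintype F]

theorem two_eq_zero {n : ℕ} (hn : 1 ≤ n) (hF : Fintype.card F = 2 ^ n) : (2 : F) = 0 := by
  have h1 : ((Fintype.card F : ℕ) : F) = 0 := Nat.cast_card_eq_zero F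
  rw [hF] at h1
  push_cast at h1
  exact pow_eq_zero_iff (by omega) |>.mp h1

section

variable {n : ℕ} (hn : 1 ≤ n) (hF : Fintype.card F = 2 ^ n)
include hn hF

theorem card_of_GU {M : Subgroup (ProjectiveSpecialLinearGroup (Fin 2) F)} (hM : M ∈ GU F) :
    Nat.card M = 2 ^ n := by
  rw [card_GU hM, hF]

theorem card_norm_GU {M : Subgroup (ProjectiveSpecialLinearGroup (Fin 2) F)} (hM : M ∈ GU F) :
    Nat.card (normalizer (M : Set (ProjectiveSpecialLinearGroup (Fin 2) F))) =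
      2 ^ n * (2 ^ n - 1) := by
  have := card_normalizer_GU hM
  rwa [card_center_of_two_eq (two_eq_zero hn hF), one_mul, hF] at this

theorem card_of_GT {M : Subgroup (ProjectiveSpecialLinearGroup (Fin 2) F)} (hM : M ∈ GT F) :
    Nat.card M = 2 ^ n + 1 ∨ Nat.card M = 2 ^ n - 1 := by
  have := card_mul_mem_GT hM
  rwa [card_center_of_two_eq (two_eq_zero hn hF), one_mul, hF] at this

end

/-! ### arithmetic -/

theorem cop1 {n : ℕ} (hn : 1 ≤ n) : Nat.Coprime (2 ^ n + 1) (2 ^ n * (2 ^ n - 1)) := by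
  have h1 : 2 ≤ 2 ^ n := by
    calc 2 = 2 ^ 1 := (pow_one 2).symm
      _ ≤ 2 ^ n := Nat.pow_le_pow_right (by norm_num) hn
  have hodd : ¬ 2 ∣ 2 ^ n + 1 := by
    have : 2 ∣ 2 ^ n := dvd_pow_self 2 (by omega)
    omega
  apply Nat.Coprime.mul_right
  · rw [Nat.coprime_comm]
    simp
  · apply Nat.Coprime.symm
    have h3 : 2 ^ n + 1 = (2 ^ n - 1) + 2 := by omega
    rw [h3, Nat.coprime_self_add_right, Nat.coprime_comm,
      Nat.Prime.coprime_iff_not_dvd Nat.prime_two]
    intro h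
    apply hodd
    omega

theorem cop2 {n : ℕ} (hn : 1 ≤ n) : Nat.Coprime (2 ^ n + 1) (2 ^ n - 1) :=
  Nat.Coprime.coprime_dvd_right (Dvd.intro_left _ rfl) (cop1 hn)

theorem cop3 {n : ℕ} (hn : 1 ≤ n) : Nat.Coprime (2 ^ n + 1) (2 ^ n) :=
  Nat.Coprime.coprime_dvd_right (Dvd.intro _ rfl) (cop1 hn)

theorem cop4 {n : ℕ} (hn : 1 ≤ n) : Nat.Coprime (2 ^ n - 1) (2 ^ n) := by
  have h1 : 2 ≤ 2 ^ n := by
    calc 2 = 2 ^ 1 := (pow_one 2).symm
      _ ≤ 2 ^ n := Nat.pow_le_pow_right (by norm_num) hn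
  have h2 : 2 ^ n = (2 ^ n - 1) + 1 := by omega
  rw [h2]
  simp

theorem eq_one_of_dvd_dvd {G : Type*} [Group G] {x : G} {a b : ℕ} (hab : Nat.Coprime a b)
    (ha : orderOf x ∣ a) (hb : orderOf x ∣ b) : x = 1 := by
  rw [← orderOf_eq_one_iff]
  exact Nat.eq_one_of_dvd_coprimes hab ha hb

theorem odd_pred {n : ℕ} (hn : 1 ≤ n) : ¬ 2 ∣ 2 ^ n - 1 := by
  have h1 : 2 ≤ 2 ^ n := by
    calc 2 = 2 ^ 1 := (pow_one 2).symm
      _ ≤ 2 ^ n := Nat.pow_le_pow_right (by norm_num) hn
  have : 2 ∣ 2 ^ n := dvd_pow_self 2 (by omega)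
  omega

theorem odd_succ {n : ℕ} (hn : 1 ≤ n) : ¬ 2 ∣ 2 ^ n + 1 := by
  have : 2 ∣ 2 ^ n := dvd_pow_self 2 (by omega)
  omega

/-! ### counting -/

theorem card_sol_eq {G : Type*} [Group G] (x : G) (S : Set G)
    (h : ∀ y, Group.IsSolvable (closure ({x, y} : Set G)) ↔ y ∈ S) :
    Nat.card {y : G // Group.IsSolvable (closure ({x, y} : Set G))} = Nat.card S :=
  Nat.card_congr (Equiv.subtypeEquivRight h)

section

variable {n : ℕ} (hn : 1 ≤ n) (hF : Fintype.card F = 2 ^ n)
include hn hF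

/-- an element of odd order normalising a toral member lies in it -/
theorem mem_of_odd_of_mem_normalizer {M : Subgroup (ProjectiveSpecialLinearGroup (Fin 2) F)}
    (hM : M ∈ GT F) {x : ProjectiveSpecialLinearGroup (Fin 2) F}
    (hx : x ∈ normalizer (M : Set (ProjectiveSpecialLinearGroup (Fin 2) F)))
    (hodd : ¬ 2 ∣ orderOf x) : x ∈ M := by
  by_contra hxM
  have h1 := (GT_tor_norm M hM x hx x hx hxM hxM).2
  have h2 : orderOf x ∣ 2 := orderOf_dvd_of_pow_eq_one (by rw [pow_two]; exact h1)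
  rcases (Nat.dvd_prime Nat.prime_two).mp h2 with h | h
  · rw [orderOf_eq_one_iff] at h
    exact hxM (h ▸ M.one_mem)
  · exact hodd (by rw [h])

/-- elements of order dividing `q + 1` -/
theorem case_plus (x : ProjectiveSpecialLinearGroup (Fin 2) F) (hx : x ≠ 1)
    (hord : orderOf x ∣ 2 ^ n + 1) :
    Nat.card {y : ProjectiveSpecialLinearGroup (Fin 2) F //
      Group.IsSolvable (closure ({x, y} : Set (ProjectiveSpecialLinearGroup (Fin 2) F)))} =
      2 * (2 ^ n + 1) := by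
  have h2 := two_eq_zero hn hF
  obtain ⟨M, hM, hxM⟩ := GM_cover x hx
  have hoddx : ¬ 2 ∣ orderOf x := fun h => odd_succ hn (dvd_trans h hord)
  have hMT : M ∈ GT F := by
    rcases mem_GM_iff.mp hM with h | h
    · exfalso
      apply hx
      have h3 : orderOf x ∣ 2 ^ n := by
        rw [← card_of_GU hn hF h]
        exact Subgroup.orderOf_dvd_natCard M hxM
      exact eq_one_of_dvd_dvd (cop3 hn) hord h3
    · exact h
  have hcard : Nat.card M = 2 ^ n + 1 := by
    rcases card_of_GT hn hF hMT with h | h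
    · exact h
    · exfalso
      apply hx
      have h3 : orderOf x ∣ 2 ^ n - 1 := by
        rw [← h]
        exact Subgroup.orderOf_dvd_natCard M hxM
      exact eq_one_of_dvd_dvd (cop2 hn) hord h3
  rw [card_sol_eq x (normalizer (M : Set (ProjectiveSpecialLinearGroup (Fin 2) F)) : Set _)]
  · have := card_normalizer_GT hMT
    rw [hcard] at this
    exact this
  · intro y
    rw [solvable_iff h2 x y hx]
    constructor
    · rintro ⟨M', hM', hxM', hyM'⟩
      have : M' = M := by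
        rcases mem_GM_iff.mp hM' with h | h
        · exfalso
          apply hx
          have h3 : orderOf x ∣ 2 ^ n * (2 ^ n - 1) := by
            rw [← card_norm_GU hn hF h]
            exact Subgroup.orderOf_dvd_natCard _ hxM'
          exact eq_one_of_dvd_dvd (cop1 hn) hord h3
        · exact GM_ti M' hM' M hM x hx (mem_of_odd_of_mem_normalizer hn hF h hxM' hoddx) hxM
      rw [← this]
      exact hyM'
    · intro hy
      exact ⟨M, hM, le_normalizer hxM, hy⟩

end

end Cfsg.Agent.Helper8.Sol2
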