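import Mathlib
import Cfsg.Agent.Helper8.SolB

set_option autoImplicit false

/-!
Solubilizers in `PSL₂(2^p)`: coordinates in characteristic two; the number of solutions of `y² = 1`.
-/

namespace Cfsg.Agent.Helper8.Sol2

open Matrix Cfsg.Agent.Helper7.SL2 Cfsg.Agent.Helper8.SL2C Subgroup Cfsg.Agent.Helper8.Dk
open scoped Matrix

variable {F : Type*} [Field F]

theorem neg_eq' (h2 : (2 : F) = 0) (a : F) : -a = a := by
  have : a + a = 0 := by
    have : a + a = 2 * a := by ring
    rw [this, h2, zero_mul]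
  exact neg_eq_of_add_eq_zero_left this

theorem sub_eq_add' (h2 : (2 : F) = 0) (a b : F) : a - b = a + b := by
  rw [sub_eq_add_neg, neg_eq' h2]

/-- in characteristic two, `Y * Y = 1` exactly when the diagonal entries agree -/
theorem mul_self_eq_one_iff (h2 : (2 : F) = 0) (Y : SpecialLinearGroup (Fin 2) F) :
    Y * Y = 1 ↔ (Y : Matrix (Fin 2) (Fin 2) F) 0 0 = (Y : Matrix (Fin 2) (Fin 2) F) 1 1 := by
  have hd := det_eq Y
  constructor
  · intro h
    have h00 := congrArg (fun Z : SpecialLinearGroup (Fin 2) F =>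
      (Z : Matrix (Fin 2) (Fin 2) F) 0 0) h
    have h11 := congrArg (fun Z : SpecialLinearGroup (Fin 2) F =>
      (Z : Matrix (Fin 2) (Fin 2) F) 1 1) h
    simp only [coe_mul_apply, one_00, one_11] at h00 h11
    have h3 : ((Y : Matrix (Fin 2) (Fin 2) F) 0 0 - (Y : Matrix (Fin 2) (Fin 2) F) 1 1) ^ 2 = 0 := by
      linear_combination h00 + h11 - 2 * hd +
        (-2 * (Y : Matrix (Fin 2) (Fin 2) F) 0 1 * (Y : Matrix (Fin 2) (Fin 2) F) 1 0) * h2
    exact sub_eq_zero.mp (pow_eq_zero_iff (two_ne_zero) |>.mp h3)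
  · intro h
    apply ext'
    · rw [coe_mul_apply, one_00]
      linear_combination hd + (Y : Matrix (Fin 2) (Fin 2) F) 0 0 * h +
        ((Y : Matrix (Fin 2) (Fin 2) F) 0 1 * (Y : Matrix (Fin 2) (Fin 2) F) 1 0) * h2
    · rw [coe_mul_apply, one_01]
      linear_combination (-(Y : Matrix (Fin 2) (Fin 2) F) 0 1) * h +
        ((Y : Matrix (Fin 2) (Fin 2) F) 0 0 * (Y : Matrix (Fin 2) (Fin 2) F) 0 1) * h2
    · rw [coe_mul_apply, one_10]
      linear_combination ((Y : Matrix (Fin 2) (Fin 2) F) 1 0) * h +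
        ((Y : Matrix (Fin 2) (Fin 2) F) 1 0 * (Y : Matrix (Fin 2) (Fin 2) F) 1 1) * h2
    · rw [coe_mul_apply, one_11]
      linear_combination hd - (Y : Matrix (Fin 2) (Fin 2) F) 1 1 * h +
        ((Y : Matrix (Fin 2) (Fin 2) F) 0 1 * (Y : Matrix (Fin 2) (Fin 2) F) 1 0) * h2

theorem pmk_injective (h2 : (2 : F) = 0) : Function.Injective (pmk (F := F)) := by
  intro a b h
  rcases pmk_eq_iff.mp h with h | h
  · exact h
  · rw [h, neg_eq_self_of_char_two h2]

/-- `SL₂ ≃* PSL₂` in characteristic two -/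
noncomputable def slEquiv (h2 : (2 : F) = 0) :
    SpecialLinearGroup (Fin 2) F ≃* ProjectiveSpecialLinearGroup (Fin 2) F :=
  MulEquiv.ofBijective (ph F) ⟨pmk_injective h2, ph_surjective⟩

theorem slEquiv_apply (h2 : (2 : F) = 0) (Y : SpecialLinearGroup (Fin 2) F) :
    slEquiv h2 Y = pmk Y := rfl

theorem sq_injective (h2 : (2 : F) = 0) : Function.Injective (fun a : F => a * a) := by
  intro a b h
  simp only at h
  have h3 : (a - b) ^ 2 = 0 := by
    have e : (a - b) ^ 2 = a * a + b * b - 2 * (a * b) := by ring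
    rw [e, h2, zero_mul, sub_zero, h]
    have : b * b + b * b = 2 * (b * b) := by ring
    rw [this, h2, zero_mul]
  exact sub_eq_zero.mp (pow_eq_zero_iff (two_ne_zero) |>.mp h3)

variable [Fintype F]

theorem exists_sqrt (h2 : (2 : F) = 0) (c : F) : ∃ s : F, s * s = c :=
  (Finite.surjective_of_injective (sq_injective h2)) c

/-- the number of matrices with equal diagonal entries -/
theorem card_diag_eq (h2 : (2 : F) = 0) :
    Nat.card {Y : SpecialLinearGroup (Fin 2) F //
      (Y : Matrix (Fin 2) (Fin 2) F) 0 0 = (Y : Matrix (Fin 2) (Fin 2) F) 1 1} =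
      Fintype.card F ^ 2 := by
  classical
  have hs : ∀ bc : F × F, ∃ s : F, s * s = 1 + bc.1 * bc.2 := fun bc => exists_sqrt h2 _
  choose s hs using hs
  have hdet : ∀ bc : F × F, s bc * s bc - bc.1 * bc.2 = 1 := fun bc => by
    rw [hs bc]; ring
  let e : {Y : SpecialLinearGroup (Fin 2) F //
      (Y : Matrix (Fin 2) (Fin 2) F) 0 0 = (Y : Matrix (Fin 2) (Fin 2) F) 1 1} ≃ F × F :=
    { toFun := fun Y => ((Y.1 : Matrix (Fin 2) (Fin 2) F) 0 1, (Y.1 : Matrix (Fin 2) (Fin 2) F) 1 0)
      invFun := fun bc => ⟨mk' (s bc) bc.1 bc.2 (s bc) (hdet bc), rfl⟩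
      left_inv := by
        rintro ⟨Y, hY⟩
        apply Subtype.ext
        have hd := det_eq Y
        have h1 : s ((Y : Matrix (Fin 2) (Fin 2) F) 0 1, (Y : Matrix (Fin 2) (Fin 2) F) 1 0) =
            (Y : Matrix (Fin 2) (Fin 2) F) 0 0 := by
          apply sq_injective h2
          simp only
          rw [hs]
          simp only
          linear_combination (-1 : F) * hd - (Y : Matrix (Fin 2) (Fin 2) F) 0 0 * hY
        apply ext'
        · rw [mk'_00, h1]
        · rw [mk'_01]
        · rw [mk'_10]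
        · rw [mk'_11, h1, hY]
      right_inv := by
        rintro ⟨b, c⟩
        rfl }
  rw [Nat.card_congr e, Nat.card_prod, Nat.card_eq_fintype_card, pow_two]

/-- the number of solutions of `y * y = 1` in `PSL₂` -/
theorem card_mul_self_eq_one (h2 : (2 : F) = 0) :
    Nat.card {y : ProjectiveSpecialLinearGroup (Fin 2) F // y * y = 1} = Fintype.card F ^ 2 := by
  rw [← card_diag_eq h2]
  refine Nat.card_congr ((slEquiv h2).toEquiv.symm.subtypeEquiv fun y => ?_)
  obtain ⟨Y, rfl⟩ := pmk_surjective y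
  have h1 : (slEquiv h2).toEquiv.symm (pmk Y) = Y := by
    rw [← slEquiv_apply h2]
    exact (slEquiv h2).symm_apply_apply Y
  rw [h1, ← mul_self_eq_one_iff h2, pmk_mul]
  constructor
  · intro h
    apply pmk_injective h2
    rw [h]; rfl
  · intro h
    rw [h]; rfl

/-- the unipotent members have exponent two -/
theorem GU_mul_self (h2 : (2 : F) = 0) {M : Subgroup (ProjectiveSpecialLinearGroup (Fin 2) F)}
    (hM : M ∈ GU F) {y : ProjectiveSpecialLinearGroup (Fin 2) F} (hy : y ∈ M) : y * y = 1 := by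
  obtain ⟨A, ⟨c, rfl⟩, rfl⟩ := hM
  obtain ⟨Y, hY, rfl⟩ := hy
  have hY : Y ∈ cj c (ZU F) := hY
  rw [mem_cj] at hY
  have h1 : (c⁻¹ * Y * c) * (c⁻¹ * Y * c) = 1 := by
    rcases eq_up_or_of_mem_ZU hY with ⟨β, h⟩ | ⟨β, h⟩
    · rw [h, up_mul_up]
      have : β + β = 0 := by
        have : β + β = 2 * β := by ring
        rw [this, h2, zero_mul]
      rw [this, up_zero]
    · rw [h, neg_eq_self_of_char_two h2, up_mul_up]
      have : β + β = 0 := by
        have : β + β = 2 * β := by ring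
        rw [this, h2, zero_mul]
      rw [this, up_zero]
  have h3 : Y * Y = 1 := by
    have e : Y * Y = c * ((c⁻¹ * Y * c) * (c⁻¹ * Y * c)) * c⁻¹ := by group
    rw [e, h1]; group
  change ph F Y * ph F Y = 1
  rw [← map_mul, h3, map_one]

end Cfsg.Agent.Helper8.Sol2
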