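import Mathlib
import Cfsg.Agent.Helper8.SolC

set_option autoImplicit false

/-!
Solubilizers in `PSL₂(2^p)`: the involutions.
-/

namespace Cfsg.Agent.Helper8.Sol2

open Matrix Cfsg.Agent.Helper7.SL2 Cfsg.Agent.Helper8.SL2C Subgroup Cfsg.Agent.Helper8.Dk
open scoped Matrix

variable {F : Type*} [Field F] [Fintype F]

/-- two elements of order at most two normalise a common member -/
theorem two_invol (x z : ProjectiveSpecialLinearGroup (Fin 2) F) (hx : x * x = 1) (hz : z * z = 1)
    (hx1 : x ≠ 1) :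
    ∃ M ∈ GM F, x ∈ normalizer (M : Set (ProjectiveSpecialLinearGroup (Fin 2) F)) ∧
      z ∈ normalizer (M : Set (ProjectiveSpecialLinearGroup (Fin 2) F)) := by
  have hxi : x⁻¹ = x := inv_eq_of_mul_eq_one_left hx
  have hzi : z⁻¹ = z := inv_eq_of_mul_eq_one_left hz
  by_cases hc : x * z = 1
  · obtain ⟨M, hM, hxM⟩ := GM_cover x hx1
    have hzx : z = x := by
      have : z = x⁻¹ := (inv_eq_of_mul_eq_one_right hc).symm
      rw [this, hxi]
    exact ⟨M, hM, le_normalizer hxM, hzx ▸ le_normalizer hxM⟩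
  · obtain ⟨M, hM, hcM⟩ := GM_cover (x * z) hc
    have hinv : (x * z)⁻¹ ∈ M := M.inv_mem hcM
    refine ⟨M, hM, ?_, ?_⟩
    · apply mem_normalizer_of_conj_mem M hM (x * z) hcM hc
      have : x * (x * z) * x⁻¹ = (x * z)⁻¹ := by
        rw [_root_.mul_inv_rev, hxi, hzi, ← mul_assoc, hx, one_mul]
      rw [this]; exact hinv
    · apply mem_normalizer_of_conj_mem M hM (x * z) hcM hc
      have : z * (x * z) * z⁻¹ = (x * z)⁻¹ := by
        rw [_root_.mul_inv_rev, hxi, hzi, mul_assoc, mul_assoc, hz, mul_one]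
      rw [this]; exact hinv

section

variable {n : ℕ} (hn : 1 ≤ n) (hF : Fintype.card F = 2 ^ n)
include hn hF

/-- an element with `y * y = 1` normalising a unipotent member lies in it -/
theorem mem_of_sq_of_mem_normalizer {M : Subgroup (ProjectiveSpecialLinearGroup (Fin 2) F)}
    (hM : M ∈ GU F) {y : ProjectiveSpecialLinearGroup (Fin 2) F}
    (hy : y ∈ normalizer (M : Set (ProjectiveSpecialLinearGroup (Fin 2) F)))
    (hyy : y * y = 1) : y ∈ M := by
  have h1 := card_mul_relIndex (Subgroup.le_normalizer (H := M))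
  rw [card_of_GU hn hF hM, card_norm_GU hn hF hM] at h1
  have h2 : M.relIndex (normalizer (M : Set (ProjectiveSpecialLinearGroup (Fin 2) F))) =
      2 ^ n - 1 := Nat.eq_of_mul_eq_mul_left (by positivity) h1
  have h3 := Subgroup.pow_index_mem
    (M.subgroupOf (normalizer (M : Set (ProjectiveSpecialLinearGroup (Fin 2) F)))) ⟨y, hy⟩
  rw [mem_subgroupOf] at h3
  change y ^ (M.relIndex (normalizer (M : Set (ProjectiveSpecialLinearGroup (Fin 2) F)))) ∈ M at h3
  rw [h2] at h3
  have h4 : 2 ≤ 2 ^ n := by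
    calc 2 = 2 ^ 1 := (pow_one 2).symm
      _ ≤ 2 ^ n := Nat.pow_le_pow_right (by norm_num) hn
  obtain ⟨k, hk⟩ : ∃ k, 2 ^ n - 1 = 2 * k + 1 := by
    have : 2 ∣ 2 ^ n := dvd_pow_self 2 (by omega)
    obtain ⟨j, hj⟩ := this
    exact ⟨j - 1, by omega⟩
  rw [hk, pow_succ, pow_mul, pow_two, hyy, one_pow, one_mul] at h3
  exact h3

/-- the criterion for an involution -/
theorem invol_iff (x : ProjectiveSpecialLinearGroup (Fin 2) F) (hx : orderOf x = 2)
    {S : Subgroup (ProjectiveSpecialLinearGroup (Fin 2) F)} (hS : S ∈ GM F) (hxS : x ∈ S)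
    (y : ProjectiveSpecialLinearGroup (Fin 2) F) :
    Group.IsSolvable (closure ({x, y} : Set (ProjectiveSpecialLinearGroup (Fin 2) F))) ↔
      y ∈ normalizer (S : Set (ProjectiveSpecialLinearGroup (Fin 2) F)) ∨ y * y = 1 ∨
        (x * y) * (x * y) = 1 := by
  have h2 := two_eq_zero hn hF
  have hx1 : x ≠ 1 := by
    intro h
    rw [h, orderOf_one] at hx
    omega
  have hxx : x * x = 1 := by
    have := pow_orderOf_eq_one x
    rw [hx, pow_two] at this
    exact this
  rw [solvable_iff h2 x y hx1]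
  constructor
  · rintro ⟨M, hM, hxM, hyM⟩
    rcases mem_GM_iff.mp hM with hU | hT
    · left
      have h1 := mem_of_sq_of_mem_normalizer hn hF hU hxM hxx
      rw [← GM_ti M hM S hS x hx1 h1 hxS]
      exact hyM
    · right
      have hxnM : x ∉ M := by
        intro h
        have h3 : orderOf x ∣ Nat.card M := Subgroup.orderOf_dvd_natCard M h
        rw [hx] at h3
        rcases card_of_GT hn hF hT with h4 | h4
        · rw [h4] at h3; exact odd_succ hn h3
        · rw [h4] at h3; exact odd_pred hn h3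
      by_cases hyM' : y ∈ M
      · right
        have h5 : x * y ∉ M := by
          intro h
          apply hxnM
          have := M.mul_mem h (M.inv_mem hyM')
          rwa [mul_inv_cancel_right] at this
        have h6 : x * y ∈ normalizer (M : Set (ProjectiveSpecialLinearGroup (Fin 2) F)) :=
          Subgroup.mul_mem _ hxM hyM
        exact (GT_tor_norm M hT _ h6 _ h6 h5 h5).2
      · left
        exact (GT_tor_norm M hT _ hyM _ hyM hyM' hyM').2
  · rintro (h | h | h)
    · exact ⟨S, hS, le_normalizer hxS, h⟩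
    · exact two_invol x y hxx h hx1
    · obtain ⟨M, hM, h3, h4⟩ := two_invol x (x * y) hxx h hx1
      refine ⟨M, hM, h3, ?_⟩
      have := Subgroup.mul_mem _ (Subgroup.inv_mem _ h3) h4
      rwa [inv_mul_cancel_left] at this

end

end Cfsg.Agent.Helper8.Sol2
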