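import Mathlib
import Cfsg.Agent.Helper8.SolD

set_option autoImplicit false

/-!
Solubilizers in `PSL₂(2^p)`: counting for the involutions.
-/

namespace Cfsg.Agent.Helper8.Sol2

open Matrix Cfsg.Agent.Helper7.SL2 Cfsg.Agent.Helper8.SL2C Subgroup Cfsg.Agent.Helper8.Dk
open scoped Matrix

variable {F : Type*} [Field F] [Fintype F]

section

variable {n : ℕ} (hn : 1 ≤ n) (hF : Fintype.card F = 2 ^ n)
include hn hF

theorem case_invol (x : ProjectiveSpecialLinearGroup (Fin 2) F) (hx : orderOf x = 2) :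
    Nat.card {y : ProjectiveSpecialLinearGroup (Fin 2) F //
      Group.IsSolvable (closure ({x, y} : Set (ProjectiveSpecialLinearGroup (Fin 2) F)))} =
      3 * 2 ^ n * (2 ^ n - 1) := by
  have h2 := two_eq_zero hn hF
  have hx1 : x ≠ 1 := by
    intro h
    rw [h, orderOf_one] at hx
    omega
  have hxx : x * x = 1 := by
    have := pow_orderOf_eq_one x
    rw [hx, pow_two] at this
    exact this
  have hxi : x⁻¹ = x := inv_eq_of_mul_eq_one_left hxx
  obtain ⟨S, hS, hxS⟩ := GM_cover x hx1
  have hSU : S ∈ GU F := by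
    rcases mem_GM_iff.mp hS with h | h
    · exact h
    · exfalso
      have h3 : orderOf x ∣ Nat.card S := Subgroup.orderOf_dvd_natCard S hxS
      rw [hx] at h3
      rcases card_of_GT hn hF h with h4 | h4
      · rw [h4] at h3; exact odd_succ hn h3
      · rw [h4] at h3; exact odd_pred hn h3
  set N : Set (ProjectiveSpecialLinearGroup (Fin 2) F) :=
    SetLike.coe (normalizer (S : Set (ProjectiveSpecialLinearGroup (Fin 2) F))) with hN
  set I : Set (ProjectiveSpecialLinearGroup (Fin 2) F) := {y | y * y = 1} with hI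
  set D : Set (ProjectiveSpecialLinearGroup (Fin 2) F) :=
    I \ (S : Set (ProjectiveSpecialLinearGroup (Fin 2) F)) with hD
  have hSN : (S : Set (ProjectiveSpecialLinearGroup (Fin 2) F)) ⊆ N := fun y hy => le_normalizer hy
  have hSI : (S : Set (ProjectiveSpecialLinearGroup (Fin 2) F)) ⊆ I := fun y hy =>
    GU_mul_self h2 hSU hy
  have hNI : ∀ y, y ∈ N → y * y = 1 → y ∈ S := fun y hy hyy =>
    mem_of_sq_of_mem_normalizer hn hF hSU hy hyy
  rw [card_sol_eq x (N ∪ D ∪ (fun z => x⁻¹ * z) '' D)]
  · -- counting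
    have hcN : N.ncard = 2 ^ n * (2 ^ n - 1) := by
      rw [← card_norm_GU hn hF hSU, ← Nat.card_coe_set_eq]
      rfl
    have hcI : I.ncard = (2 ^ n) ^ 2 := by
      rw [← hF, ← card_mul_self_eq_one h2, ← Nat.card_coe_set_eq]
      rfl
    have hcS : (S : Set (ProjectiveSpecialLinearGroup (Fin 2) F)).ncard = 2 ^ n := by
      rw [← card_of_GU hn hF hSU, ← Nat.card_coe_set_eq]
      rfl
    have hcD : D.ncard = (2 ^ n) ^ 2 - 2 ^ n := by
      rw [hD, Set.ncard_sdiff' hSI (Set.toFinite _), hcI, hcS]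
    have hcD' : ((fun z => x⁻¹ * z) '' D).ncard = (2 ^ n) ^ 2 - 2 ^ n := by
      rw [Set.ncard_image_of_injective _ (mul_right_injective x⁻¹), hcD]
    have hd1 : Disjoint N D := by
      rw [Set.disjoint_left]
      rintro y hyN ⟨hyI, hyS⟩
      exact hyS (hNI y hyN hyI)
    have hd2 : Disjoint (N ∪ D) ((fun z => x⁻¹ * z) '' D) := by
      rw [Set.disjoint_left]
      rintro y hy ⟨z, ⟨hzI, hzS⟩, rfl⟩
      rcases hy with hy | ⟨hyI, hyS⟩
      · apply hzS
        apply hNI z _ hzI
        have : z = x * (x⁻¹ * z) := by group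
        rw [this]
        exact Subgroup.mul_mem _ (le_normalizer hxS) hy
      · apply hyS
        rw [hxi] at hyI ⊢
        -- `x z` and `z` are involutions, so `x` and `z` commute
        have hzz : z * z = 1 := hzI
        have hzi : z⁻¹ = z := inv_eq_of_mul_eq_one_left hzz
        have hcomm : z * x = x * z := by
          have h5 : (x * z)⁻¹ = x * z := inv_eq_of_mul_eq_one_left hyI
          rw [_root_.mul_inv_rev, hxi, hzi] at h5
          exact h5
        have hzS' : z ∈ S := GU_cent S hSU x hxS hx1 z hcomm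
        exact absurd hzS' hzS
    rw [Nat.card_coe_set_eq, Set.ncard_union_eq hd2 (Set.toFinite _) (Set.toFinite _),
      Set.ncard_union_eq hd1 (Set.toFinite _) (Set.toFinite _), hcN, hcD, hcD']
    have h4 : 2 ≤ 2 ^ n := by
      calc 2 = 2 ^ 1 := (pow_one 2).symm
        _ ≤ 2 ^ n := Nat.pow_le_pow_right (by norm_num) hn
    obtain ⟨q, hq⟩ : ∃ q, q = 2 ^ n := ⟨_, rfl⟩
    rw [← hq] at h4 ⊢
    have h5 : q ^ 2 - q = q * (q - 1) := by
      rw [Nat.mul_sub, mul_one, pow_two]
    rw [h5]
    ring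
  · intro y
    rw [invol_iff hn hF x hx hS hxS y]
    constructor
    · rintro (h | h | h)
      · exact Or.inl (Or.inl h)
      · by_cases hyS : y ∈ S
        · exact Or.inl (Or.inl (hSN hyS))
        · exact Or.inl (Or.inr ⟨h, hyS⟩)
      · by_cases hzS : x * y ∈ S
        · left; left
          have : y = x⁻¹ * (x * y) := by group
          rw [this]
          exact hSN (S.mul_mem (S.inv_mem hxS) hzS)
        · right
          exact ⟨x * y, ⟨h, hzS⟩, by group⟩
    · rintro ((h | ⟨h, -⟩) | ⟨z, ⟨hz, -⟩, rfl⟩)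
      · exact Or.inl h
      · exact Or.inr (Or.inl h)
      · right; right
        have : x * (x⁻¹ * z) = z := by group
        rw [this]
        exact hz

end

end Cfsg.Agent.Helper8.Sol2
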