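import Mathlib
import Cfsg.Agent.Helper8.SolE

set_option autoImplicit false

/-!
Solubilizers in `PSL₂(2^p)`: the criterion for a diagonal element.
-/

namespace Cfsg.Agent.Helper8.Sol2

open Matrix Cfsg.Agent.Helper7.SL2 Cfsg.Agent.Helper8.SL2C Subgroup Cfsg.Agent.Helper8.Dk
open scoped Matrix

variable {F : Type*} [Field F]

/-- the lower-left entry of a conjugate -/
theorem conj_10 (c Y : SpecialLinearGroup (Fin 2) F) :
    ((c⁻¹ * Y * c : SpecialLinearGroup (Fin 2) F) : Matrix (Fin 2) (Fin 2) F) 1 0 =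
      (Y : Matrix (Fin 2) (Fin 2) F) 1 0 * (c : Matrix (Fin 2) (Fin 2) F) 0 0 ^ 2 +
      ((Y : Matrix (Fin 2) (Fin 2) F) 1 1 - (Y : Matrix (Fin 2) (Fin 2) F) 0 0) *
        (c : Matrix (Fin 2) (Fin 2) F) 0 0 * (c : Matrix (Fin 2) (Fin 2) F) 1 0 -
      (Y : Matrix (Fin 2) (Fin 2) F) 0 1 * (c : Matrix (Fin 2) (Fin 2) F) 1 0 ^ 2 := by
  obtain ⟨i00, i01, i10, i11⟩ := coe_inv_apply c
  simp only [coe_mul_apply, i10, i11]
  ring

theorem mem_cj_B_iff (c Y : SpecialLinearGroup (Fin 2) F) :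
    Y ∈ cj c (B F) ↔
      (Y : Matrix (Fin 2) (Fin 2) F) 1 0 * (c : Matrix (Fin 2) (Fin 2) F) 0 0 ^ 2 +
      ((Y : Matrix (Fin 2) (Fin 2) F) 1 1 - (Y : Matrix (Fin 2) (Fin 2) F) 0 0) *
        (c : Matrix (Fin 2) (Fin 2) F) 0 0 * (c : Matrix (Fin 2) (Fin 2) F) 1 0 -
      (Y : Matrix (Fin 2) (Fin 2) F) 0 1 * (c : Matrix (Fin 2) (Fin 2) F) 1 0 ^ 2 = 0 := by
  rw [mem_cj, mem_B, conj_10]

theorem wey_00 : (wey F : Matrix (Fin 2) (Fin 2) F) 0 0 = 0 := rfl
theorem wey_10 : (wey F : Matrix (Fin 2) (Fin 2) F) 1 0 = -1 := rfl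

theorem mem_cj_wey_B_iff (Y : SpecialLinearGroup (Fin 2) F) :
    Y ∈ cj (wey F) (B F) ↔ (Y : Matrix (Fin 2) (Fin 2) F) 0 1 = 0 := by
  rw [mem_cj_B_iff, wey_00, wey_10]
  constructor
  · intro h
    linear_combination -h
  · intro h
    rw [h]; ring

theorem ZU_mem_LU : ZU F ∈ LU F := ⟨1, (cj_one _).symm⟩

theorem normalizer_cj_ZU (c : SpecialLinearGroup (Fin 2) F) :
    normalizer ((cj c (ZU F) : Subgroup (SpecialLinearGroup (Fin 2) F)) :
      Set (SpecialLinearGroup (Fin 2) F)) = cj c (B F) := by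
  rw [normalizer_cj, normalizer_ZU]

theorem tor_inv_sub_ne {l : Fˣ} (hl : (l : F) ^ 2 ≠ 1) : ((l⁻¹ : Fˣ) : F) - (l : F) ≠ 0 := by
  intro h
  apply hl
  have h1 : ((l⁻¹ : Fˣ) : F) * (l : F) = 1 := by
    rw [← Units.val_mul, inv_mul_cancel, Units.val_one]
  have h2 : ((l⁻¹ : Fˣ) : F) = (l : F) := sub_eq_zero.mp h
  rw [h2] at h1
  rw [pow_two]; exact h1

theorem pmk_tor_ne_one {l : Fˣ} (hl : (l : F) ^ 2 ≠ 1) : pmk (tor l) ≠ 1 := by
  intro h
  apply hl
  rcases pmk_eq_one_iff.mp h with h | h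
  · have := congrArg (fun Z : SpecialLinearGroup (Fin 2) F =>
      (Z : Matrix (Fin 2) (Fin 2) F) 0 0) h
    simp only [tor_00, one_00] at this
    rw [this]; ring
  · have := congrArg (fun Z : SpecialLinearGroup (Fin 2) F =>
      (Z : Matrix (Fin 2) (Fin 2) F) 0 0) h
    rw [tor_00, Cfsg.Agent.Helper8.SL2C.neg_apply, one_00] at this
    rw [this]; ring

theorem tor_not_center {l : Fˣ} (hl : (l : F) ^ 2 ≠ 1) :
    tor l ∉ center (SpecialLinearGroup (Fin 2) F) :=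
  not_center_of_pmk_ne_one (pmk_tor_ne_one hl)

/-- the member containing a diagonal element is the diagonal subgroup -/
theorem eq_D_of_tor_mem {l : Fˣ} (hl : (l : F) ^ 2 ≠ 1)
    {A : Subgroup (SpecialLinearGroup (Fin 2) F)} (hA : A ∈ LM F) (h : tor l ∈ A) : A = D F := by
  rw [← centralizer_of_mem_LM hA h (tor_not_center hl),
    centralizer_diag (tor_mem_D l) (by rw [tor_00]; exact hl)]

variable [Fintype F]

theorem D_mem_LM {l : Fˣ} (hl : (l : F) ^ 2 ≠ 1) : D F ∈ LM F := by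
  obtain ⟨M, ⟨A, hA, rfl⟩, hxM⟩ := GM_cover (pmk (tor l)) (pmk_tor_ne_one hl)
  have h1 : tor l ∈ A := mem_of_pmk_mem hA hxM
  rw [← eq_D_of_tor_mem hl hA h1]
  exact hA

section

variable {n : ℕ} (hn : 1 ≤ n) (hF : Fintype.card F = 2 ^ n)
include hn hF

theorem orderOf_pmk_tor (l : Fˣ) : orderOf (pmk (tor l)) ∣ 2 ^ n - 1 := by
  classical
  apply orderOf_dvd_of_pow_eq_one
  have h1 : l ^ (2 ^ n - 1) = 1 := by
    rw [← hF, ← Fintype.card_units]
    exact pow_card_eq_one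
  have h2 : (tor l) ^ (2 ^ n - 1) = 1 := by
    have : tor l = torusHom F l := rfl
    rw [this, ← map_pow, h1, map_one]
  change (ph F (tor l)) ^ (2 ^ n - 1) = 1
  rw [← map_pow, h2, map_one]

/-- the criterion for a diagonal element -/
theorem tor_iff {l : Fˣ} (hl : (l : F) ^ 2 ≠ 1) (Y : SpecialLinearGroup (Fin 2) F) :
    Group.IsSolvable (closure ({pmk (tor l), pmk Y} :
      Set (ProjectiveSpecialLinearGroup (Fin 2) F))) ↔
      Y ∈ B F ∨ Y ∈ cj (wey F) (B F) ∨ Y ∈ Mon F := by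
  have h2 := two_eq_zero hn hF
  have hx1 := pmk_tor_ne_one hl
  have hex : ∃ d ∈ D F, (d : Matrix (Fin 2) (Fin 2) F) 0 0 ^ 2 ≠ 1 :=
    ⟨tor l, tor_mem_D l, by rw [tor_00]; exact hl⟩
  rw [solvable_iff h2 _ _ hx1]
  constructor
  · rintro ⟨M, hM, hxM, hyM⟩
    obtain ⟨A, hA, rfl⟩ := hM
    have hc := center_le_of_mem_LM hA
    rcases hA with hU | hT
    · obtain ⟨c, rfl⟩ := hU
      rw [pmk_mem_normalizer_iff hc, normalizer_cj_ZU] at hxM hyM
      rw [mem_cj_B_iff, tor_00, tor_01, tor_10, tor_11] at hxM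
      have h3 : (c : Matrix (Fin 2) (Fin 2) F) 0 0 * (c : Matrix (Fin 2) (Fin 2) F) 1 0 = 0 := by
        have h4 : (((l⁻¹ : Fˣ) : F) - (l : F)) *
            ((c : Matrix (Fin 2) (Fin 2) F) 0 0 * (c : Matrix (Fin 2) (Fin 2) F) 1 0) = 0 := by
          linear_combination hxM
        exact (mul_eq_zero.mp h4).resolve_left (tor_inv_sub_ne hl)
      rcases mul_eq_zero.mp h3 with h0 | h0
      · right; left
        rw [mem_cj_B_iff, h0] at hyM
        have hd := det_eq c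
        rw [h0, zero_mul, zero_sub] at hd
        have hc10 : (c : Matrix (Fin 2) (Fin 2) F) 1 0 ≠ 0 := by
          intro h; rw [h, mul_zero, neg_zero] at hd; exact zero_ne_one hd
        rw [mem_cj_wey_B_iff]
        have h5 : (Y : Matrix (Fin 2) (Fin 2) F) 0 1 * (c : Matrix (Fin 2) (Fin 2) F) 1 0 ^ 2 = 0 := by
          linear_combination -hyM
        exact (mul_eq_zero.mp h5).resolve_right (pow_ne_zero 2 hc10)
      · left
        have hcB : c ∈ B F := h0
        rw [mem_cj] at hyM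
        have := (B F).mul_mem ((B F).mul_mem hcB hyM) ((B F).inv_mem hcB)
        have e : c * (c⁻¹ * Y * c) * c⁻¹ = Y := by group
        rwa [e] at this
    · right; right
      have hMT : A.map (ph F) ∈ GT F := ⟨A, hT, rfl⟩
      have hodd : ¬ 2 ∣ orderOf (pmk (tor l)) := fun h =>
        odd_pred hn (dvd_trans h (orderOf_pmk_tor hn hF l))
      have h3 := mem_of_odd_of_mem_normalizer hn hF hMT hxM hodd
      rw [pmk_mem_map_iff hc] at h3
      have hAD := eq_D_of_tor_mem hl (Or.inr hT) h3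
      rw [pmk_mem_normalizer_iff hc, hAD, normalizer_D hex] at hyM
      exact hyM
  · rintro (h | h | h)
    · refine ⟨(ZU F).map (ph F), ⟨ZU F, Or.inl ZU_mem_LU, rfl⟩, ?_, ?_⟩
      · rw [pmk_mem_normalizer_iff center_le_ZU, normalizer_ZU]
        exact tor_10 l
      · rw [pmk_mem_normalizer_iff center_le_ZU, normalizer_ZU]
        exact h
    · have hA : cj (wey F) (ZU F) ∈ LM F := Or.inl ⟨wey F, rfl⟩
      refine ⟨(cj (wey F) (ZU F)).map (ph F), ⟨_, hA, rfl⟩, ?_, ?_⟩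
      · rw [pmk_mem_normalizer_iff (center_le_of_mem_LM hA), normalizer_cj_ZU, mem_cj_wey_B_iff]
        exact tor_01 l
      · rw [pmk_mem_normalizer_iff (center_le_of_mem_LM hA), normalizer_cj_ZU]
        exact h
    · have hA := D_mem_LM hl
      refine ⟨(D F).map (ph F), ⟨_, hA, rfl⟩, ?_, ?_⟩
      · rw [pmk_mem_normalizer_iff (center_le_of_mem_LM hA), normalizer_D hex]
        exact D_le_Mon (tor_mem_D l)
      · rw [pmk_mem_normalizer_iff (center_le_of_mem_LM hA), normalizer_D hex]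
        exact h

end

end Cfsg.Agent.Helper8.Sol2
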