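import Mathlib
import Cfsg.Agent.Helper8.SolF

set_option autoImplicit false

/-!
Solubilizers in `PSL₂(2^p)`: elements of order dividing `q - 1`, and the assembly.
-/

namespace Cfsg.Agent.Helper8.Sol2

open Matrix Cfsg.Agent.Helper7.SL2 Cfsg.Agent.Helper8.SL2C Subgroup Cfsg.Agent.Helper8.Dk
open scoped Matrix

/-! ### conjugation invariance -/

theorem solvable_map_iff {G : Type*} [Group G] (φ : G ≃* G) (H : Subgroup G) :
    Group.IsSolvable (H.map (φ : G →* G)) ↔ Group.IsSolvable H := by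
  constructor
  · intro h
    have := h
    exact Group.isSolvable_of_isSolvable_injective (f := (φ.subgroupMap H).toMonoidHom)
      (φ.subgroupMap H).injective
  · intro h
    have := h
    exact Group.isSolvable_of_isSolvable_injective (f := (φ.subgroupMap H).symm.toMonoidHom)
      (φ.subgroupMap H).symm.injective

theorem card_sol_conj {G : Type*} [Group G] (g x : G) :
    Nat.card {y : G // Group.IsSolvable (closure ({g * x * g⁻¹, y} : Set G))} =
      Nat.card {y : G // Group.IsSolvable (closure ({x, y} : Set G))} := by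
  refine Nat.card_congr ((MulAut.conj g⁻¹).toEquiv.subtypeEquiv fun y => ?_)
  have h1 : closure ({x, (MulAut.conj g⁻¹).toEquiv y} : Set G) =
      (closure ({g * x * g⁻¹, y} : Set G)).map ((MulAut.conj g⁻¹ : G ≃* G) : G →* G) := by
    rw [MonoidHom.map_closure, Set.image_pair]
    congr 2
    simp
    group
  rw [h1, solvable_map_iff]

variable {F : Type*} [Field F] [Fintype F]

/-! ### the count in `SL₂` -/

theorem card_union_tor :
    ((B F : Set (SpecialLinearGroup (Fin 2) F)) ∪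
      (cj (wey F) (B F) : Subgroup (SpecialLinearGroup (Fin 2) F)) ∪
      (Mon F : Set (SpecialLinearGroup (Fin 2) F))).ncard =
      2 * Fintype.card F * (Fintype.card F - 1) := by
  set Bs : Set (SpecialLinearGroup (Fin 2) F) := SetLike.coe (B F) with hBs
  set Ls : Set (SpecialLinearGroup (Fin 2) F) := SetLike.coe (cj (wey F) (B F)) with hLs
  set Ms : Set (SpecialLinearGroup (Fin 2) F) := SetLike.coe (Mon F) with hMs
  set Ds : Set (SpecialLinearGroup (Fin 2) F) := SetLike.coe (D F) with hDs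
  have hcB : Bs.ncard = Fintype.card F * (Fintype.card F - 1) := by
    rw [← card_B_SL2, ← Nat.card_coe_set_eq]; rfl
  have hcL : Ls.ncard = Fintype.card F * (Fintype.card F - 1) := by
    rw [← card_B_SL2, ← card_cj (wey F) (B F), ← Nat.card_coe_set_eq]; rfl
  have hcM : Ms.ncard = 2 * (Fintype.card F - 1) := by
    rw [← card_Mon, ← Nat.card_coe_set_eq]; rfl
  have hcD : Ds.ncard = Fintype.card F - 1 := by
    rw [← card_D, ← Nat.card_coe_set_eq]; rfl
  have hDL : Ds ⊆ Ls := by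
    intro Y hY
    have hY' : Y ∈ D F := hY
    change Y ∈ cj (wey F) (B F)
    rw [mem_cj_wey_B_iff]
    exact (mem_D.mp hY').1
  have hDM : Ds ⊆ Ms := fun Y hY => D_le_Mon hY
  have hBL : ∀ Y, Y ∈ Bs → Y ∈ Ls → Y ∈ Ds := by
    intro Y hB hL
    have hL' : Y ∈ cj (wey F) (B F) := hL
    rw [mem_cj_wey_B_iff] at hL'
    exact mem_D.mpr ⟨hL', hB⟩
  have hBM : ∀ Y, Y ∈ Bs → Y ∈ Ms → Y ∈ Ds := by
    intro Y hB hM
    have hB' : (Y : Matrix (Fin 2) (Fin 2) F) 1 0 = 0 := hB
    rcases mem_Mon.mp hM with h | ⟨h00, h11⟩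
    · exact mem_D.mpr h
    · exfalso
      have hd := det_eq Y
      rw [h00, hB', zero_mul, mul_zero, sub_zero] at hd
      exact zero_ne_one hd
  have hLM : ∀ Y, Y ∈ Ls → Y ∈ Ms → Y ∈ Ds := by
    intro Y hL hM
    have hL' : Y ∈ cj (wey F) (B F) := hL
    rw [mem_cj_wey_B_iff] at hL'
    rcases mem_Mon.mp hM with h | ⟨h00, h11⟩
    · exact mem_D.mpr h
    · exfalso
      have hd := det_eq Y
      rw [h00, hL', zero_mul, zero_mul, sub_zero] at hd
      exact zero_ne_one hd
  have hU : Bs ∪ Ls ∪ Ms = Bs ∪ (Ls \ Ds) ∪ (Ms \ Ds) := by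
    ext Y
    simp only [Set.mem_union, Set.mem_sdiff]
    constructor
    · rintro ((h | h) | h)
      · exact Or.inl (Or.inl h)
      · by_cases hD : Y ∈ Ds
        · exact Or.inl (Or.inl (mem_D.mp hD).2)
        · exact Or.inl (Or.inr ⟨h, hD⟩)
      · by_cases hD : Y ∈ Ds
        · exact Or.inl (Or.inl (mem_D.mp hD).2)
        · exact Or.inr ⟨h, hD⟩
    · rintro ((h | ⟨h, -⟩) | ⟨h, -⟩)
      · exact Or.inl (Or.inl h)
      · exact Or.inl (Or.inr h)
      · exact Or.inr h
  have hd1 : Disjoint Bs (Ls \ Ds) := by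
    rw [Set.disjoint_left]
    rintro Y hB ⟨hL, hD⟩
    exact hD (hBL Y hB hL)
  have hd2 : Disjoint (Bs ∪ (Ls \ Ds)) (Ms \ Ds) := by
    rw [Set.disjoint_left]
    rintro Y (hB | ⟨hL, -⟩) ⟨hM, hD⟩
    · exact hD (hBM Y hB hM)
    · exact hD (hLM Y hL hM)
  rw [hU, Set.ncard_union_eq hd2 (Set.toFinite _) (Set.toFinite _),
    Set.ncard_union_eq hd1 (Set.toFinite _) (Set.toFinite _),
    Set.ncard_sdiff' hDL (Set.toFinite _), Set.ncard_sdiff' hDM (Set.toFinite _), hcB, hcL, hcM, hcD]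
  have h2 : 2 ≤ Fintype.card F := Fintype.one_lt_card
  obtain ⟨q, hq⟩ : ∃ q, q = Fintype.card F := ⟨_, rfl⟩
  rw [← hq] at h2 ⊢
  obtain ⟨r, rfl⟩ : ∃ r, q = r + 2 := ⟨q - 2, by omega⟩
  have e1 : r + 2 - 1 = r + 1 := by omega
  rw [e1]
  have e2 : (r + 2) * (r + 1) - (r + 1) = (r + 1) * (r + 1) := by
    have : (r + 2) * (r + 1) = (r + 1) * (r + 1) + (r + 1) := by ring
    rw [this, Nat.add_sub_cancel]
  have e3 : 2 * (r + 1) - (r + 1) = r + 1 := by omega
  rw [e2, e3]
  ring

section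

variable {n : ℕ} (hn : 1 ≤ n) (hF : Fintype.card F = 2 ^ n)
include hn hF

theorem case_tor {l : Fˣ} (hl : (l : F) ^ 2 ≠ 1) :
    Nat.card {y : ProjectiveSpecialLinearGroup (Fin 2) F //
      Group.IsSolvable (closure ({pmk (tor l), y} :
        Set (ProjectiveSpecialLinearGroup (Fin 2) F)))} = 2 * 2 ^ n * (2 ^ n - 1) := by
  have h2 := two_eq_zero hn hF
  rw [card_sol_eq (pmk (tor l)) (pmk '' ((B F : Set (SpecialLinearGroup (Fin 2) F)) ∪
      (cj (wey F) (B F) : Subgroup (SpecialLinearGroup (Fin 2) F)) ∪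
      (Mon F : Set (SpecialLinearGroup (Fin 2) F))))]
  · rw [Nat.card_coe_set_eq, Set.ncard_image_of_injective _ (pmk_injective h2), card_union_tor, hF]
  · intro y
    obtain ⟨Y, rfl⟩ := pmk_surjective y
    rw [tor_iff hn hF hl Y, (pmk_injective h2).mem_set_image]
    simp only [Set.mem_union, SetLike.mem_coe, or_assoc]

end

end Cfsg.Agent.Helper8.Sol2
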