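import Mathlib
import Cfsg.Agent.Helper8.SolG

set_option autoImplicit false

/-!
Solubilizers in `PSL₂(2^p)`: elements of order dividing `q - 1` are diagonalisable; the assembly.
-/

namespace Cfsg.Agent.Helper8.Sol2

open Matrix Cfsg.Agent.Helper7.SL2 Cfsg.Agent.Helper8.SL2C Subgroup Cfsg.Agent.Helper8.Dk
open scoped Matrix

variable {F : Type*} [Field F] [Fintype F]

section

variable {n : ℕ} (hn : 1 ≤ n) (hF : Fintype.card F = 2 ^ n)
include hn hF

theorem exists_conj_tor (x : ProjectiveSpecialLinearGroup (Fin 2) F) (hx1 : x ≠ 1)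
    (hord : orderOf x ∣ 2 ^ n - 1) :
    ∃ (g : ProjectiveSpecialLinearGroup (Fin 2) F) (l : Fˣ), (l : F) ^ 2 ≠ 1 ∧
      x = g * pmk (tor l) * g⁻¹ := by
  have h2 := two_eq_zero hn hF
  have h4 : (4 : F) = 0 := by
    have : (4 : F) = 2 * 2 := by norm_num
    rw [this, h2, zero_mul]
  obtain ⟨X, rfl⟩ := pmk_surjective x
  have hoddx : ¬ 2 ∣ orderOf (pmk X) := fun h => odd_pred hn (dvd_trans h hord)
  -- the trace is not zero
  have ht0 : tr X ≠ 0 := by
    intro h0
    have h3 : (X : Matrix (Fin 2) (Fin 2) F) 0 0 = (X : Matrix (Fin 2) (Fin 2) F) 1 1 := by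
      unfold tr at h0
      have : (X : Matrix (Fin 2) (Fin 2) F) 0 0 = -(X : Matrix (Fin 2) (Fin 2) F) 1 1 :=
        eq_neg_of_add_eq_zero_left h0
      rw [this, neg_eq' h2]
    have h5 : X * X = 1 := (mul_self_eq_one_iff h2 X).mpr h3
    have h6 : pmk X * pmk X = 1 := by rw [pmk_mul, h5]; rfl
    have h7 : orderOf (pmk X) ∣ 2 := orderOf_dvd_of_pow_eq_one (by rw [pow_two]; exact h6)
    rcases (Nat.dvd_prime Nat.prime_two).mp h7 with h | h
    · exact hx1 (orderOf_eq_one_iff.mp h)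
    · exact hoddx (by rw [h])
  have htsq : tr X ^ 2 ≠ 4 := by
    rw [h4]
    exact pow_ne_zero 2 ht0
  have hconj := isConj_comp_of_tr_sq_ne (g := X) htsq
  -- the trace is not elliptic
  have hne : ¬ Ellt (tr X) := by
    intro hE
    have h3 := card_centralizer_eq_of_isConj hconj
    rw [centralizer_comp, card_Tc hE, hF] at h3
    have h5 : orderOf X ∣ 2 ^ n + 1 := by
      rw [← h3]
      exact Subgroup.orderOf_dvd_natCard _ (Subgroup.mem_centralizer_singleton_iff.mpr rfl)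
    have h6 : orderOf (pmk X) ∣ orderOf X := orderOf_map_dvd (ph F) X
    exact hx1 (eq_one_of_dvd_dvd (cop2 hn) (dvd_trans h6 h5) hord)
  unfold Ellt at hne
  push Not at hne
  obtain ⟨l, hl⟩ := hne
  have hl0 : l ≠ 0 := by
    rintro rfl
    simp at hl
  have hinv : l⁻¹ = tr X - l := by
    field_simp
    linear_combination hl
  have htr : tr (tor (Units.mk0 l hl0)) = tr X := by
    rw [tr_tor, Units.val_inv_eq_inv_val, Units.val_mk0, hinv]
    ring
  have hlsq : ((Units.mk0 l hl0 : Fˣ) : F) ^ 2 ≠ 1 := by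
    rw [Units.val_mk0]
    intro h1
    apply ht0
    have h5 : tr X * l = 0 := by linear_combination -hl + h1 + h2
    exact (mul_eq_zero.mp h5).resolve_right hl0
  have hc := isConj_comp_of_tr_sq_ne (g := tor (Units.mk0 l hl0)) (by rw [htr]; exact htsq)
  rw [htr] at hc
  obtain ⟨c, hc'⟩ := isConj_iff.mp (hc.trans hconj.symm)
  refine ⟨pmk c, Units.mk0 l hl0, hlsq, ?_⟩
  rw [← hc']
  rfl

theorem case_minus (x : ProjectiveSpecialLinearGroup (Fin 2) F) (hx1 : x ≠ 1)
    (hord : orderOf x ∣ 2 ^ n - 1) :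
    Nat.card {y : ProjectiveSpecialLinearGroup (Fin 2) F //
      Group.IsSolvable (closure ({x, y} : Set (ProjectiveSpecialLinearGroup (Fin 2) F)))} =
      2 * 2 ^ n * (2 ^ n - 1) := by
  obtain ⟨g, l, hl, rfl⟩ := exists_conj_tor hn hF x hx1 hord
  rw [card_sol_conj, case_tor hn hF hl]

end

theorem main (p : ℕ) (hp : p.Prime) (hF : Fintype.card F = 2 ^ p)
    (x : Matrix.ProjectiveSpecialLinearGroup (Fin 2) F) :
    (orderOf x = 2 → Nat.card {y : Matrix.ProjectiveSpecialLinearGroup (Fin 2) F //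
      Group.IsSolvable ↥(Subgroup.closure ({x, y} :
        Set (Matrix.ProjectiveSpecialLinearGroup (Fin 2) F)))} = 3 * 2 ^ p * (2 ^ p - 1)) ∧
    (x ≠ 1 → orderOf x ∣ 2 ^ p - 1 → Nat.card {y : Matrix.ProjectiveSpecialLinearGroup (Fin 2) F //
      Group.IsSolvable ↥(Subgroup.closure ({x, y} :
        Set (Matrix.ProjectiveSpecialLinearGroup (Fin 2) F)))} = 2 * 2 ^ p * (2 ^ p - 1)) ∧
    (x ≠ 1 → orderOf x ∣ 2 ^ p + 1 → Nat.card {y : Matrix.ProjectiveSpecialLinearGroup (Fin 2) F //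
      Group.IsSolvable ↥(Subgroup.closure ({x, y} :
        Set (Matrix.ProjectiveSpecialLinearGroup (Fin 2) F)))} = 2 * (2 ^ p + 1)) :=
  ⟨fun h => case_invol hp.one_lt.le hF x h, fun h1 h => case_minus hp.one_lt.le hF x h1 h,
    fun h1 h => case_plus hp.one_lt.le hF x h1 h⟩

end Cfsg.Agent.Helper8.Sol2
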