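import Mathlib
import Cfsg.Agent.Helper8.SolH

set_option autoImplicit false

/-!
Solubilizers in `PSL₂(3^p)`, `p` odd: arithmetic, and the orders of the members of the partition.
We write `q = 3^p = 24 j + 3`.
-/

namespace Cfsg.Agent.Helper8.Sol3

open Matrix Cfsg.Agent.Helper7.SL2 Cfsg.Agent.Helper8.SL2C Subgroup Cfsg.Agent.Helper8.Dk
open scoped Matrix

/-- `3^p = 24 j + 3` for odd `p` -/
theorem exists_j {p : ℕ} (hp : Odd p) : ∃ j : ℕ, 3 ^ p = 24 * j + 3 := by
  obtain ⟨m, rfl⟩ := hp
  have h1 : ∀ m : ℕ, ∃ i : ℕ, 9 ^ m = 8 * i + 1 := by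
    intro m
    induction m with
    | zero => exact ⟨0, by norm_num⟩
    | succ n ih =>
      obtain ⟨i, hi⟩ := ih
      exact ⟨9 * i + 1, by rw [pow_succ, hi]; ring⟩
  obtain ⟨i, hi⟩ := h1 m
  refine ⟨i, ?_⟩
  rw [pow_succ, pow_mul]
  norm_num
  rw [hi]; ring

variable {F : Type*} [Field F] [Fintype F]

theorem three_eq_zero {p : ℕ} (hp : 1 ≤ p) (hF : Fintype.card F = 3 ^ p) : (3 : F) = 0 := by
  have h1 : ((Fintype.card F : ℕ) : F) = 0 := Nat.cast_card_eq_zero F
  rw [hF] at h1
  push_cast at h1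
  exact pow_eq_zero_iff (by omega) |>.mp h1

omit [Fintype F] in
theorem two_ne_zero3 (h3 : (3 : F) = 0) : (2 : F) ≠ 0 := by
  intro h2
  have : (1 : F) = 0 := by linear_combination h3 - h2
  exact one_ne_zero this

section

variable {j : ℕ} (h3 : (3 : F) = 0) (hF : Fintype.card F = 24 * j + 3)
include h3 hF

theorem card_of_GU {M : Subgroup (ProjectiveSpecialLinearGroup (Fin 2) F)} (hM : M ∈ GU F) :
    Nat.card M = 24 * j + 3 := by
  rw [card_GU hM, hF]

theorem card_norm_GU {M : Subgroup (ProjectiveSpecialLinearGroup (Fin 2) F)} (hM : M ∈ GU F) :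
    Nat.card (normalizer (M : Set (ProjectiveSpecialLinearGroup (Fin 2) F))) =
      (24 * j + 3) * (12 * j + 1) := by
  have := card_normalizer_GU hM
  rw [card_center_of_two_ne (two_ne_zero3 h3), hF] at this
  have e : 24 * j + 3 - 1 = 2 * (12 * j + 1) := by omega
  rw [e] at this
  have h2 : 2 * Nat.card (normalizer (M : Set (ProjectiveSpecialLinearGroup (Fin 2) F))) =
      2 * ((24 * j + 3) * (12 * j + 1)) := by rw [this]; ring
  exact Nat.eq_of_mul_eq_mul_left (by norm_num) h2

theorem card_of_GT {M : Subgroup (ProjectiveSpecialLinearGroup (Fin 2) F)} (hM : M ∈ GT F) :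
    Nat.card M = 12 * j + 2 ∨ Nat.card M = 12 * j + 1 := by
  have := card_mul_mem_GT hM
  rw [card_center_of_two_ne (two_ne_zero3 h3), hF] at this
  rcases this with h | h
  · left; omega
  · right; omega

theorem card_norm_GT {M : Subgroup (ProjectiveSpecialLinearGroup (Fin 2) F)} (hM : M ∈ GT F) :
    Nat.card (normalizer (M : Set (ProjectiveSpecialLinearGroup (Fin 2) F))) = 2 * Nat.card M :=
  card_normalizer_GT hM

/-- no element of order three in a toral member -/
theorem not_three_dvd_GT {M : Subgroup (ProjectiveSpecialLinearGroup (Fin 2) F)} (hM : M ∈ GT F) :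
    ¬ 3 ∣ Nat.card M := by
  rcases card_of_GT h3 hF hM with h | h <;> rw [h] <;> omega

/-- no element of order four in a toral member -/
theorem not_four_dvd_GT {M : Subgroup (ProjectiveSpecialLinearGroup (Fin 2) F)} (hM : M ∈ GT F) :
    ¬ 4 ∣ Nat.card M := by
  rcases card_of_GT h3 hF hM with h | h <;> rw [h] <;> omega

/-- the Borel subgroups have odd order -/
theorem not_two_dvd_norm_GU {M : Subgroup (ProjectiveSpecialLinearGroup (Fin 2) F)}
    (hM : M ∈ GU F) :
    ¬ 2 ∣ Nat.card (normalizer (M : Set (ProjectiveSpecialLinearGroup (Fin 2) F))) := by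
  rw [card_norm_GU h3 hF hM]
  intro h
  rcases (Nat.Prime.dvd_mul Nat.prime_two).mp h with h | h <;> omega

/-- an element with `y * y = 1` in a Borel subgroup is trivial -/
theorem eq_one_of_sq_of_mem_norm_GU {M : Subgroup (ProjectiveSpecialLinearGroup (Fin 2) F)}
    (hM : M ∈ GU F) {y : ProjectiveSpecialLinearGroup (Fin 2) F}
    (hy : y ∈ normalizer (M : Set (ProjectiveSpecialLinearGroup (Fin 2) F)))
    (hyy : y * y = 1) : y = 1 := by
  by_contra hne
  have h2 : orderOf y = 2 := by
    apply orderOf_eq_prime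
    · rw [pow_two]; exact hyy
    · exact hne
  have h3' : orderOf y ∣ Nat.card (normalizer (M : Set (ProjectiveSpecialLinearGroup (Fin 2) F))) :=
    Subgroup.orderOf_dvd_natCard _ hy
  rw [h2] at h3'
  exact not_two_dvd_norm_GU h3 hF hM h3'

end

end Cfsg.Agent.Helper8.Sol3
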