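import Mathlib
import Cfsg.Agent.Helper8.Sol3A

set_option autoImplicit false

/-!
Solubilizers in `PSL₂(3^p)`: centralisers in odd characteristic, dihedral structure of the
normalisers of the toral members.
-/

namespace Cfsg.Agent.Helper8.Sol3

open Matrix Cfsg.Agent.Helper7.SL2 Cfsg.Agent.Helper8.SL2C Subgroup Cfsg.Agent.Helper8.Dk
open scoped Matrix

/-- a cyclic group has at most one involution -/
theorem unique_invol_of_cyclic {H : Type*} [Group H] [Finite H] [IsCyclic H] {x y : H}
    (hx : x * x = 1) (hy : y * y = 1) (hx1 : x ≠ 1) (hy1 : y ≠ 1) : x = y := by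
  classical
  haveI := Fintype.ofFinite H
  by_contra hne
  have h := IsCyclic.card_pow_eq_one_le (α := H) (n := 2) (by norm_num)
  have hsub : ({1, x, y} : Finset H) ⊆ Finset.univ.filter (fun a => a ^ 2 = 1) := by
    intro a ha
    simp only [Finset.mem_insert, Finset.mem_singleton] at ha
    rw [Finset.mem_filter]
    refine ⟨Finset.mem_univ _, ?_⟩
    rcases ha with rfl | rfl | rfl
    · exact one_pow 2
    · rw [pow_two]; exact hx
    · rw [pow_two]; exact hy
  have hc : ({1, x, y} : Finset H).card = 3 := by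
    rw [Finset.card_insert_of_notMem, Finset.card_pair hne]
    simp only [Finset.mem_insert, Finset.mem_singleton, not_or]
    exact ⟨hx1.symm, hy1.symm⟩
  have := Finset.card_le_card hsub
  omega

variable {F : Type*} [Field F]

/-- a lift of an element with `m * m ≠ 1` has non-zero trace -/
theorem tr_ne_zero_of_sq_ne {y : SpecialLinearGroup (Fin 2) F} (h : pmk y * pmk y ≠ 1) :
    tr y ≠ 0 := by
  intro h0
  apply h
  rw [pmk_mul, sq_eq_neg_one_of_tr h0, pmk_eq_one_iff]
  right; rfl

/-- in odd characteristic, the centraliser of an element of a toral member which is not an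
involution is the member -/
theorem GT_cent (h2 : (2 : F) ≠ 0) (M : Subgroup (ProjectiveSpecialLinearGroup (Fin 2) F))
    (hM : M ∈ GT F) (m : ProjectiveSpecialLinearGroup (Fin 2) F) (hm : m ∈ M) (hmm : m * m ≠ 1)
    (g : ProjectiveSpecialLinearGroup (Fin 2) F) (hg : g * m = m * g) : g ∈ M := by
  obtain ⟨A, hA, rfl⟩ := hM
  obtain ⟨y, rfl⟩ := pmk_surjective m
  obtain ⟨h, rfl⟩ := pmk_surjective g
  have hm1 : pmk y ≠ 1 := by
    intro h1
    apply hmm
    rw [h1, one_mul]
  have hyA := mem_of_pmk_mem (Or.inr hA) hm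
  have hyZ := not_center_of_pmk_ne_one hm1
  have hC : h ∈ Cstar y := by
    rw [mem_Cstar, ← pmk_eq_iff]
    exact hg
  rw [Cstar_eq_of_tr_ne h2 (tr_ne_zero_of_sq_ne hmm), centralizer_of_mem_LT hA hyA hyZ] at hC
  exact Subgroup.mem_map_of_mem (ph F) hC

/-- the centraliser of a non-involution is its member -/
theorem GM_cent3 (h2 : (2 : F) ≠ 0) (M : Subgroup (ProjectiveSpecialLinearGroup (Fin 2) F))
    (hM : M ∈ GM F) (m : ProjectiveSpecialLinearGroup (Fin 2) F) (hm : m ∈ M) (hmm : m * m ≠ 1)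
    (g : ProjectiveSpecialLinearGroup (Fin 2) F) (hg : g * m = m * g) : g ∈ M := by
  rcases mem_GM_iff.mp hM with hU | hT
  · apply GU_cent M hU m hm _ g hg
    intro h1
    apply hmm
    rw [h1, one_mul]
  · exact GT_cent h2 M hT m hm hmm g hg

/-- the centraliser of an element of a member normalises the member -/
theorem cent_le_normalizer (M : Subgroup (ProjectiveSpecialLinearGroup (Fin 2) F))
    (hM : M ∈ GM F) (m : ProjectiveSpecialLinearGroup (Fin 2) F) (hm : m ∈ M) (hm1 : m ≠ 1)
    (g : ProjectiveSpecialLinearGroup (Fin 2) F) (hg : g * m = m * g) :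
    g ∈ normalizer (M : Set (ProjectiveSpecialLinearGroup (Fin 2) F)) := by
  apply Sol2.mem_normalizer_of_conj_mem M hM m hm hm1
  rw [hg, mul_inv_cancel_right]
  exact hm

/-! ### dihedral structure -/

theorem GT_sq_of_not_mem (M : Subgroup (ProjectiveSpecialLinearGroup (Fin 2) F)) (hM : M ∈ GT F)
    (w : ProjectiveSpecialLinearGroup (Fin 2) F)
    (hw : w ∈ normalizer (M : Set (ProjectiveSpecialLinearGroup (Fin 2) F))) (hwM : w ∉ M) :
    w * w = 1 :=
  (GT_tor_norm M hM w hw w hw hwM hwM).2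

theorem GT_mul_mem (M : Subgroup (ProjectiveSpecialLinearGroup (Fin 2) F)) (hM : M ∈ GT F)
    (w v : ProjectiveSpecialLinearGroup (Fin 2) F)
    (hw : w ∈ normalizer (M : Set (ProjectiveSpecialLinearGroup (Fin 2) F))) (hwM : w ∉ M)
    (hv : v ∈ normalizer (M : Set (ProjectiveSpecialLinearGroup (Fin 2) F))) (hvM : v ∉ M) :
    w * v ∈ M :=
  (GT_tor_norm M hM w hw v hv hwM hvM).1

/-- elements outside a toral member invert it -/
theorem GT_inv_of_not_mem (M : Subgroup (ProjectiveSpecialLinearGroup (Fin 2) F)) (hM : M ∈ GT F)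
    (w : ProjectiveSpecialLinearGroup (Fin 2) F)
    (hw : w ∈ normalizer (M : Set (ProjectiveSpecialLinearGroup (Fin 2) F))) (hwM : w ∉ M)
    (m : ProjectiveSpecialLinearGroup (Fin 2) F) (hm : m ∈ M) : w * m * w⁻¹ = m⁻¹ := by
  have hww := GT_sq_of_not_mem M hM w hw hwM
  have hwi : w⁻¹ = w := inv_eq_of_mul_eq_one_left hww
  have h1 : w * m ∉ M := by
    intro h
    apply hwM
    have := M.mul_mem h (M.inv_mem hm)
    rwa [mul_inv_cancel_right] at this
  have h2 : w * m ∈ normalizer (M : Set (ProjectiveSpecialLinearGroup (Fin 2) F)) :=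
    Subgroup.mul_mem _ hw (le_normalizer hm)
  have h3 := GT_sq_of_not_mem M hM (w * m) h2 h1
  rw [hwi]
  apply eq_inv_of_mul_eq_one_left
  rw [← h3]; group

variable [Finite F]

/-- a toral member has at most one involution -/
theorem GT_unique_invol (M : Subgroup (ProjectiveSpecialLinearGroup (Fin 2) F)) (hM : M ∈ GT F)
    {x y : ProjectiveSpecialLinearGroup (Fin 2) F} (hx : x ∈ M) (hy : y ∈ M)
    (hxx : x * x = 1) (hyy : y * y = 1) (hx1 : x ≠ 1) (hy1 : y ≠ 1) : x = y := by
  haveI := isCyclic_of_mem_GT hM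
  have h := unique_invol_of_cyclic (H := M) (x := ⟨x, hx⟩) (y := ⟨y, hy⟩)
    (Subtype.ext hxx) (Subtype.ext hyy) (fun h => hx1 (congrArg Subtype.val h))
    (fun h => hy1 (congrArg Subtype.val h))
  exact congrArg Subtype.val h

end Cfsg.Agent.Helper8.Sol3
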