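import Mathlib
import Cfsg.Agent.Helper8.Sol3B

set_option autoImplicit false

/-!
Solubilizers in `PSL₂(3^p)`: pairs of commuting involutions, and the four-groups they span.
-/

namespace Cfsg.Agent.Helper8.Sol3

open Matrix Cfsg.Agent.Helper7.SL2 Cfsg.Agent.Helper8.SL2C Subgroup Cfsg.Agent.Helper8.Dk
open scoped Matrix

section General

variable {G : Type*} [Group G]

/-- a pair of distinct commuting involutions -/
structure IsKP (a b : G) : Prop where
  a1 : a ≠ 1
  b1 : b ≠ 1
  ne : a ≠ b
  aa : a * a = 1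
  bb : b * b = 1
  comm : a * b = b * a

/-- the centraliser of the pair (which will be the four-group) -/
def KV (a b : G) : Subgroup G := Subgroup.centralizer {a, b}

theorem mem_KV {g a b : G} : g ∈ KV a b ↔ g * a = a * g ∧ g * b = b * g := by
  unfold KV
  rw [Subgroup.mem_centralizer_iff]
  constructor
  · intro h
    exact ⟨(h a (Set.mem_insert _ _)).symm, (h b (Set.mem_insert_of_mem _ rfl)).symm⟩
  · rintro ⟨h1, h2⟩ x (rfl | rfl)
    · exact h1.symm
    · exact h2.symm

theorem KV_comm (a b : G) : KV a b = KV b a := by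
  ext g
  rw [mem_KV, mem_KV, and_comm]

namespace IsKP

variable {a b : G} (h : IsKP a b)
include h

theorem symm : IsKP b a := ⟨h.b1, h.a1, h.ne.symm, h.bb, h.aa, h.comm.symm⟩

theorem a_inv : a⁻¹ = a := inv_eq_of_mul_eq_one_left h.aa

theorem b_inv : b⁻¹ = b := inv_eq_of_mul_eq_one_left h.bb

theorem ab_ne_one : a * b ≠ 1 := by
  intro h1
  apply h.ne
  have : a = b⁻¹ := eq_inv_of_mul_eq_one_left h1
  rw [this, h.b_inv]

theorem ab_ne_a : a * b ≠ a := by
  intro h1
  apply h.b1
  have : a * b = a * 1 := by rw [h1, mul_one]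
  exact mul_left_cancel this

theorem ab_ne_b : a * b ≠ b := by
  intro h1
  apply h.a1
  have : a * b = 1 * b := by rw [h1, one_mul]
  exact mul_right_cancel this

theorem ab_sq : (a * b) * (a * b) = 1 := by
  calc (a * b) * (a * b) = a * (b * a) * b := by group
    _ = a * (a * b) * b := by rw [h.comm]
    _ = (a * a) * (b * b) := by group
    _ = 1 := by rw [h.aa, h.bb, one_mul]

/-- the pair `(a b, a)` -/
theorem mul_left : IsKP (a * b) a :=
  ⟨h.ab_ne_one, h.a1, h.ab_ne_a, h.ab_sq, h.aa, by
    calc a * b * a = a * (b * a) := by group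
      _ = a * (a * b) := by rw [h.comm]⟩

theorem a_mem : a ∈ KV a b := mem_KV.mpr ⟨rfl, h.comm⟩

theorem b_mem : b ∈ KV a b := mem_KV.mpr ⟨h.comm.symm, rfl⟩

theorem ab_mem : a * b ∈ KV a b := (KV a b).mul_mem h.a_mem h.b_mem

theorem KV_mul_left : KV (a * b) a = KV a b := by
  ext g
  rw [mem_KV, mem_KV]
  constructor
  · rintro ⟨h1, h2⟩
    refine ⟨h2, ?_⟩
    have e1 : g * b = a * (g * (a * b)) := by
      calc g * b = (a * a) * (g * b) := by rw [h.aa, one_mul]
        _ = a * ((a * g) * b) := by group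
        _ = a * ((g * a) * b) := by rw [h2]
        _ = a * (g * (a * b)) := by group
    rw [e1, h1]
    calc a * (a * b * g) = (a * a) * (b * g) := by group
      _ = b * g := by rw [h.aa, one_mul]
  · rintro ⟨h1, h2⟩
    refine ⟨?_, h1⟩
    calc g * (a * b) = (g * a) * b := by group
      _ = (a * g) * b := by rw [h1]
      _ = a * (g * b) := by group
      _ = a * (b * g) := by rw [h2]
      _ = a * b * g := by group

end IsKP

end General

variable {F : Type*} [Field F] [Fintype F]

section

variable {j : ℕ} (h3 : (3 : F) = 0) (hF : Fintype.card F = 24 * j + 3)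
include h3 hF

/-- the member of an involution is toral -/
theorem GT_of_invol {M : Subgroup (ProjectiveSpecialLinearGroup (Fin 2) F)} (hM : M ∈ GM F)
    {a : ProjectiveSpecialLinearGroup (Fin 2) F} (ha : a ∈ M) (ha1 : a ≠ 1) (haa : a * a = 1) :
    M ∈ GT F := by
  rcases mem_GM_iff.mp hM with hU | hT
  · exact absurd (eq_one_of_sq_of_mem_norm_GU h3 hF hU (le_normalizer ha) haa) ha1
  · exact hT

/-- the second involution of a pair normalises the member of the first, and is outside it -/
theorem KP_norm {a b : ProjectiveSpecialLinearGroup (Fin 2) F} (h : IsKP a b)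
    {M : Subgroup (ProjectiveSpecialLinearGroup (Fin 2) F)} (hM : M ∈ GT F) (ha : a ∈ M) :
    b ∈ normalizer (M : Set (ProjectiveSpecialLinearGroup (Fin 2) F)) ∧ b ∉ M := by
  refine ⟨cent_le_normalizer M (GT_sub_GM hM) a ha h.a1 b h.comm.symm, ?_⟩
  intro hb
  exact h.ne (GT_unique_invol M hM ha hb h.aa h.bb h.a1 h.b1)

/-- the centraliser of a pair of commuting involutions is the four-group -/
theorem KV_eq {a b : ProjectiveSpecialLinearGroup (Fin 2) F} (h : IsKP a b)
    (g : ProjectiveSpecialLinearGroup (Fin 2) F) :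
    g ∈ KV a b ↔ g = 1 ∨ g = a ∨ g = b ∨ g = a * b := by
  constructor
  · intro hg
    obtain ⟨hga, hgb⟩ := mem_KV.mp hg
    obtain ⟨M, hM, haM⟩ := GM_cover a h.a1
    have hMT := GT_of_invol h3 hF hM haM h.a1 h.aa
    obtain ⟨hbN, hbM⟩ := KP_norm h3 hF h hMT haM
    have hgN := cent_le_normalizer M hM a haM h.a1 g hga
    -- an element of `M` commuting with `b` is `1` or `a`
    have key : ∀ m ∈ M, m * b = b * m → m = 1 ∨ m = a := by
      intro m hm hmb
      have h1 := GT_inv_of_not_mem M hMT b hbN hbM m hm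
      have h2 : b * m * b⁻¹ = m := by rw [← hmb, mul_inv_cancel_right]
      have h4 : m * m = 1 := by
        have : m = m⁻¹ := by rw [← h1, h2]
        calc m * m = m * m⁻¹ := by rw [← this]
          _ = 1 := mul_inv_cancel m
      by_cases hm1 : m = 1
      · exact Or.inl hm1
      · exact Or.inr (GT_unique_invol M hMT hm haM h4 h.aa hm1 h.a1)
    by_cases hgM : g ∈ M
    · rcases key g hgM hgb with h1 | h1
      · exact Or.inl h1
      · exact Or.inr (Or.inl h1)
    · have hm := GT_mul_mem M hMT g b hgN hgM hbN hbM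
      have hmb : (g * b) * b = b * (g * b) := by
        calc (g * b) * b = (b * g) * b := by rw [hgb]
          _ = b * (g * b) := mul_assoc _ _ _
      have hg' : g = (g * b) * b := by
        rw [mul_assoc, h.bb, mul_one]
      rcases key (g * b) hm hmb with h1 | h1
      · right; right; left
        rw [hg', h1, one_mul]
      · right; right; right
        rw [hg', h1]
  · rintro (rfl | rfl | rfl | rfl)
    · exact (KV a b).one_mem
    · exact h.a_mem
    · exact h.b_mem
    · exact h.ab_mem

/-- an element normalising the four-group and centralising `a` lies in the four-group -/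
theorem mem_KV_of_comm {a b : ProjectiveSpecialLinearGroup (Fin 2) F} (h : IsKP a b)
    {g : ProjectiveSpecialLinearGroup (Fin 2) F}
    (hg : g ∈ normalizer ((KV a b : Subgroup (ProjectiveSpecialLinearGroup (Fin 2) F)) :
      Set (ProjectiveSpecialLinearGroup (Fin 2) F)))
    (hga : g * a = a * g) : g ∈ KV a b := by
  obtain ⟨M, hM, haM⟩ := GM_cover a h.a1
  have hMT := GT_of_invol h3 hF hM haM h.a1 h.aa
  obtain ⟨hbN, hbM⟩ := KP_norm h3 hF h hMT haM
  have hgN := cent_le_normalizer M hM a haM h.a1 g hga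
  have hgb : g * b * g⁻¹ ∈ KV a b := (mem_normalizer_iff.mp hg b).mp h.b_mem
  -- no element of `M` squares to `a`
  have nosq : ∀ m ∈ M, m * m ≠ a := by
    intro m hm hmm
    have h4 : orderOf m = 4 := by
      have h5 : m ^ 2 ^ 2 = 1 := by
        have : m ^ 2 ^ 2 = (m * m) * (m * m) := by norm_num [pow_succ]; group
        rw [this, hmm, h.aa]
      have h6 : ¬ m ^ 2 ^ 1 = 1 := by
        rw [pow_one, pow_two, hmm]; exact h.a1
      have := orderOf_eq_prime_pow (p := 2) h6 h5
      simpa using this
    have h5 : orderOf m ∣ Nat.card M := Subgroup.orderOf_dvd_natCard M hm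
    rw [h4] at h5
    exact not_four_dvd_GT h3 hF hMT h5
  rcases (KV_eq h3 hF h _).mp hgb with h1 | h1 | h1 | h1
  · exfalso
    apply h.b1
    have : b = g⁻¹ * (g * b * g⁻¹) * g := by group
    rw [this, h1]; group
  · exfalso
    apply h.ne
    have e1 : b = g⁻¹ * (g * b * g⁻¹) * g := by group
    have e2 : g⁻¹ * a * g = a := by
      rw [mul_assoc, ← hga, inv_mul_cancel_left]
    rw [e1, h1, e2]
  · rw [mem_KV]
    refine ⟨hga, ?_⟩
    calc g * b = (g * b * g⁻¹) * g := by group
      _ = b * g := by rw [h1]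
  · exfalso
    by_cases hgM : g ∈ M
    · -- `g b g⁻¹ = g g b`
      have h5 := GT_inv_of_not_mem M hMT b hbN hbM g⁻¹ (M.inv_mem hgM)
      rw [inv_inv] at h5
      have h6 : g * b * g⁻¹ = (g * g) * b := by
        calc g * b * g⁻¹ = g * (b * g⁻¹ * b⁻¹) * b := by group
          _ = g * g * b := by rw [h5]
      rw [h6] at h1
      exact nosq g hgM (mul_right_cancel h1)
    · have hm := GT_mul_mem M hMT g b hgN hgM hbN hbM
      have h5 := GT_inv_of_not_mem M hMT b hbN hbM (g * b)⁻¹ (M.inv_mem hm)
      rw [inv_inv] at h5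
      have h6 : g * b * g⁻¹ = ((g * b) * (g * b)) * b := by
        have hginv : g⁻¹ = b * (g * b)⁻¹ := by group
        calc g * b * g⁻¹ = (g * b) * (b * (g * b)⁻¹) := by rw [← hginv]
          _ = (g * b) * ((b * (g * b)⁻¹ * b⁻¹) * b) := by group
          _ = (g * b) * ((g * b) * b) := by rw [h5]
          _ = (g * b) * (g * b) * b := by group
      rw [h6] at h1
      exact nosq (g * b) hm (mul_right_cancel h1)

end

end Cfsg.Agent.Helper8.Sol3
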