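import Mathlib
import Cfsg.Agent.Helper8.Sol3C

set_option autoImplicit false

/-!
Solubilizers in `PSL₂(3^p)`: the normaliser of a four-group.
-/

namespace Cfsg.Agent.Helper8.Sol3

open Matrix Cfsg.Agent.Helper7.SL2 Cfsg.Agent.Helper8.SL2C Subgroup Cfsg.Agent.Helper8.Dk
open scoped Matrix

section General

variable {G : Type*} [Group G]

/-- the normaliser of the four-group -/
abbrev NV (a b : G) : Subgroup G := normalizer ((KV a b : Subgroup G) : Set G)

theorem conj_mem_KV {a b g v : G} (hg : g ∈ NV a b) (hv : v ∈ KV a b) : g * v * g⁻¹ ∈ KV a b :=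
  (mem_normalizer_iff.mp hg v).mp hv

theorem KV_le_NV (a b : G) : KV a b ≤ NV a b := le_normalizer

theorem NV_comm (a b : G) : NV a b = NV b a := by
  unfold NV
  rw [KV_comm]

theorem conj_eq_self_iff {g v : G} : g * v * g⁻¹ = v ↔ g * v = v * g := by
  constructor
  · intro h
    calc g * v = (g * v * g⁻¹) * g := by group
      _ = v * g := by rw [h]
  · intro h
    rw [h, mul_inv_cancel_right]

end General

variable {F : Type*} [Field F] [Fintype F]

section

variable {j : ℕ} (h3 : (3 : F) = 0) (hF : Fintype.card F = 24 * j + 3)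
include h3 hF

theorem KV_sq {a b : ProjectiveSpecialLinearGroup (Fin 2) F} (h : IsKP a b)
    {v : ProjectiveSpecialLinearGroup (Fin 2) F} (hv : v ∈ KV a b) : v * v = 1 := by
  rcases (KV_eq h3 hF h v).mp hv with rfl | rfl | rfl | rfl
  · exact one_mul 1
  · exact h.aa
  · exact h.bb
  · exact h.ab_sq

theorem KV_abelian {a b : ProjectiveSpecialLinearGroup (Fin 2) F} (h : IsKP a b)
    {u v : ProjectiveSpecialLinearGroup (Fin 2) F} (hu : u ∈ KV a b) (hv : v ∈ KV a b) :
    u * v = v * u := by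
  obtain ⟨hva, hvb⟩ := mem_KV.mp hv
  rcases (KV_eq h3 hF h u).mp hu with rfl | rfl | rfl | rfl
  · rw [one_mul, mul_one]
  · exact hva.symm
  · exact hvb.symm
  · calc a * b * v = a * (b * v) := by group
      _ = a * (v * b) := by rw [hvb]
      _ = (a * v) * b := by group
      _ = (v * a) * b := by rw [hva]
      _ = v * (a * b) := by group

theorem mem_KV_of_comm_b {a b : ProjectiveSpecialLinearGroup (Fin 2) F} (h : IsKP a b)
    {g : ProjectiveSpecialLinearGroup (Fin 2) F} (hg : g ∈ NV a b) (hgb : g * b = b * g) :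
    g ∈ KV a b := by
  rw [KV_comm]
  rw [NV_comm] at hg
  exact mem_KV_of_comm h3 hF h.symm hg hgb

theorem mem_KV_of_comm_ab {a b : ProjectiveSpecialLinearGroup (Fin 2) F} (h : IsKP a b)
    {g : ProjectiveSpecialLinearGroup (Fin 2) F} (hg : g ∈ NV a b)
    (hgb : g * (a * b) = (a * b) * g) : g ∈ KV a b := by
  rw [← h.KV_mul_left]
  have hg' : g ∈ NV (a * b) a := by
    unfold NV
    rw [h.KV_mul_left]
    exact hg
  exact mem_KV_of_comm h3 hF h.mul_left hg' hgb

/-- an element of the normaliser outside the four-group permutes the involutions cyclically -/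
theorem NV_type {a b : ProjectiveSpecialLinearGroup (Fin 2) F} (h : IsKP a b)
    {g : ProjectiveSpecialLinearGroup (Fin 2) F} (hg : g ∈ NV a b) (hgV : g ∉ KV a b) :
    (g * a * g⁻¹ = b ∧ g * b * g⁻¹ = a * b ∧ g * (a * b) * g⁻¹ = a) ∨
      (g * a * g⁻¹ = a * b ∧ g * b * g⁻¹ = a ∧ g * (a * b) * g⁻¹ = b) := by
  have hca := (KV_eq h3 hF h _).mp (conj_mem_KV hg h.a_mem)
  have hcb := (KV_eq h3 hF h _).mp (conj_mem_KV hg h.b_mem)
  have hcab : g * (a * b) * g⁻¹ = (g * a * g⁻¹) * (g * b * g⁻¹) := by group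
  have na : g * a * g⁻¹ ≠ a := fun e =>
    hgV (mem_KV_of_comm h3 hF h hg (conj_eq_self_iff.mp e))
  have nb : g * b * g⁻¹ ≠ b := fun e =>
    hgV (mem_KV_of_comm_b h3 hF h hg (conj_eq_self_iff.mp e))
  have nab : g * (a * b) * g⁻¹ ≠ a * b := fun e =>
    hgV (mem_KV_of_comm_ab h3 hF h hg (conj_eq_self_iff.mp e))
  have na1 : g * a * g⁻¹ ≠ 1 := by
    intro e
    apply h.a1
    have : a = g⁻¹ * (g * a * g⁻¹) * g := by group
    rw [this, e]; group
  have nb1 : g * b * g⁻¹ ≠ 1 := by
    intro e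
    apply h.b1
    have : b = g⁻¹ * (g * b * g⁻¹) * g := by group
    rw [this, e]; group
  have nab1 : g * (a * b) * g⁻¹ ≠ 1 := by
    intro e
    apply h.ab_ne_one
    have : a * b = g⁻¹ * (g * (a * b) * g⁻¹) * g := by group
    rw [this, e]; group
  have e1 : b * (a * b) = a := by
    calc b * (a * b) = (b * a) * b := by group
      _ = (a * b) * b := by rw [h.comm]
      _ = a * (b * b) := by group
      _ = a := by rw [h.bb, mul_one]
  have e2 : (a * b) * a = b := by
    calc (a * b) * a = a * (b * a) := by group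
      _ = a * (a * b) := by rw [h.comm]
      _ = (a * a) * b := by group
      _ = b := by rw [h.aa, one_mul]
  rcases hca with e | e | e | e
  · exact absurd e na1
  · exact absurd e na
  · -- `a ↦ b`
    left
    rcases hcb with e' | e' | e' | e'
    · exact absurd e' nb1
    · exfalso
      apply nab
      rw [hcab, e, e', h.comm]
    · exact absurd e' nb
    · refine ⟨e, e', ?_⟩
      rw [hcab, e, e', e1]
  · -- `a ↦ a b`
    right
    rcases hcb with e' | e' | e' | e'
    · exact absurd e' nb1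
    · refine ⟨e, e', ?_⟩
      rw [hcab, e, e', e2]
    · exact absurd e' nb
    · exfalso
      apply nab1
      rw [hcab, e, e', h.ab_sq]

/-- the cube of an element of the normaliser centralises `a` -/
theorem NV_cube_comm {a b : ProjectiveSpecialLinearGroup (Fin 2) F} (h : IsKP a b)
    {g : ProjectiveSpecialLinearGroup (Fin 2) F} (hg : g ∈ NV a b) (hgV : g ∉ KV a b) :
    (g * g * g) * a * (g * g * g)⁻¹ = a := by
  have e : (g * g * g) * a * (g * g * g)⁻¹ = g * (g * (g * a * g⁻¹) * g⁻¹) * g⁻¹ := by group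
  rw [e]
  rcases NV_type h3 hF h hg hgV with ⟨h1, h2, h3'⟩ | ⟨h1, h2, h3'⟩
  · rw [h1, h2, h3']
  · rw [h1, h3', h2]

/-- elements of the normaliser outside the four-group have order three -/
theorem NV_cube {a b : ProjectiveSpecialLinearGroup (Fin 2) F} (h : IsKP a b)
    {g : ProjectiveSpecialLinearGroup (Fin 2) F} (hg : g ∈ NV a b) (hgV : g ∉ KV a b) :
    g * g * g = 1 := by
  have h1 := NV_cube_comm h3 hF h hg hgV
  have h2 : g * g * g ∈ NV a b := Subgroup.mul_mem _ (Subgroup.mul_mem _ hg hg) hg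
  have h4 : g * g * g ∈ KV a b := mem_KV_of_comm h3 hF h h2 (conj_eq_self_iff.mp h1)
  have hcomm : g * (g * g * g) * g⁻¹ = g * g * g := by group
  rcases (KV_eq h3 hF h _).mp h4 with e | e | e | e
  · exact e
  · exfalso
    rw [e] at hcomm
    exact hgV (mem_KV_of_comm h3 hF h hg (conj_eq_self_iff.mp hcomm))
  · exfalso
    rw [e] at hcomm
    exact hgV (mem_KV_of_comm_b h3 hF h hg (conj_eq_self_iff.mp hcomm))
  · exfalso
    rw [e] at hcomm
    exact hgV (mem_KV_of_comm_ab h3 hF h hg (conj_eq_self_iff.mp hcomm))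

/-- an involution normalising the four-group lies in it -/
theorem mem_KV_of_sq {a b : ProjectiveSpecialLinearGroup (Fin 2) F} (h : IsKP a b)
    {g : ProjectiveSpecialLinearGroup (Fin 2) F} (hg : g ∈ NV a b) (hgg : g * g = 1) :
    g ∈ KV a b := by
  by_contra hgV
  have h1 := NV_cube h3 hF h hg hgV
  rw [hgg, one_mul] at h1
  rw [h1] at hgV
  exact hgV (KV a b).one_mem

/-- two elements of the normaliser outside the four-group differ, up to inversion, by an element
of the four-group -/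
theorem NV_pair {a b : ProjectiveSpecialLinearGroup (Fin 2) F} (h : IsKP a b)
    {g k : ProjectiveSpecialLinearGroup (Fin 2) F} (hg : g ∈ NV a b) (hgV : g ∉ KV a b)
    (hk : k ∈ NV a b) (hkV : k ∉ KV a b) : k⁻¹ * g ∈ KV a b ∨ k * g ∈ KV a b := by
  have hkg : k⁻¹ * g ∈ NV a b := Subgroup.mul_mem _ (Subgroup.inv_mem _ hk) hg
  have hkg' : k * g ∈ NV a b := Subgroup.mul_mem _ hk hg
  have e1 : (k⁻¹ * g) * a * (k⁻¹ * g)⁻¹ = k⁻¹ * (g * a * g⁻¹) * k := by group
  have e2 : (k * g) * a * (k * g)⁻¹ = k * (g * a * g⁻¹) * k⁻¹ := by group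
  have inv_of : ∀ u v : ProjectiveSpecialLinearGroup (Fin 2) F, k * u * k⁻¹ = v →
      k⁻¹ * v * k = u := by
    intro u v huv
    rw [← huv]; group
  rcases NV_type h3 hF h hg hgV with ⟨g1, g2, g3⟩ | ⟨g1, g2, g3⟩ <;>
  rcases NV_type h3 hF h hk hkV with ⟨k1, k2, k3⟩ | ⟨k1, k2, k3⟩
  · left
    apply mem_KV_of_comm h3 hF h hkg
    rw [← conj_eq_self_iff, e1, g1]
    exact inv_of a b k1
  · right
    apply mem_KV_of_comm h3 hF h hkg'
    rw [← conj_eq_self_iff, e2, g1, k2]
  · right
    apply mem_KV_of_comm h3 hF h hkg'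
    rw [← conj_eq_self_iff, e2, g1, k3]
  · left
    apply mem_KV_of_comm h3 hF h hkg
    rw [← conj_eq_self_iff, e1, g1]
    exact inv_of a (a * b) k1

/-- every element of the normaliser has order dividing six -/
theorem NV_pow_six {a b : ProjectiveSpecialLinearGroup (Fin 2) F} (h : IsKP a b)
    {g : ProjectiveSpecialLinearGroup (Fin 2) F} (hg : g ∈ NV a b) : g ^ 6 = 1 := by
  by_cases hgV : g ∈ KV a b
  · have := KV_sq h3 hF h hgV
    calc g ^ 6 = (g * g) ^ 3 := by rw [← pow_two, ← pow_mul]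
      _ = 1 := by rw [this, one_pow]
  · have := NV_cube h3 hF h hg hgV
    have e : g * g * g = g ^ 3 := by rw [pow_succ, pow_two]
    calc g ^ 6 = (g * g * g) ^ 2 := by rw [e, ← pow_mul]
      _ = 1 := by rw [this, one_pow]

/-- the normaliser of a four-group is solvable -/
theorem isSolvable_NV {a b : ProjectiveSpecialLinearGroup (Fin 2) F} (h : IsKP a b) :
    Group.IsSolvable (NV a b) := by
  apply Cfsg.Agent.Helper4.isSolvable_of_two_primes 2 3 Nat.prime_two Nat.prime_three (by norm_num)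
  intro l hl hdvd
  haveI : Fact l.Prime := ⟨hl⟩
  obtain ⟨⟨g, hg⟩, hgo⟩ := exists_prime_orderOf_dvd_card' (G := NV a b) l hdvd
  have h6 : (⟨g, hg⟩ : NV a b) ^ 6 = 1 := Subtype.ext (NV_pow_six h3 hF h hg)
  have h7 : l ∣ 6 := by
    rw [← hgo]
    exact orderOf_dvd_of_pow_eq_one h6
  have h8 : l ∣ 2 * 3 := h7
  rcases (Nat.Prime.dvd_mul hl).mp h8 with h9 | h9
  · left
    exact (Nat.prime_dvd_prime_iff_eq hl Nat.prime_two).mp h9
  · right
    exact (Nat.prime_dvd_prime_iff_eq hl Nat.prime_three).mp h9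

theorem isSolvable_of_le_NV {a b : ProjectiveSpecialLinearGroup (Fin 2) F} (h : IsKP a b)
    {H : Subgroup (ProjectiveSpecialLinearGroup (Fin 2) F)} (hH : H ≤ NV a b) :
    Group.IsSolvable H := by
  haveI := isSolvable_NV h3 hF h
  exact Group.isSolvable_of_isSolvable_injective (Subgroup.inclusion_injective hH)

end

end Cfsg.Agent.Helper8.Sol3
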