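import Mathlib
import Cfsg.Agent.Helper8.Sol3D

set_option autoImplicit false

/-!
Solubilizers in `PSL₂(3^p)`: two elements generate a solvable subgroup exactly when they normalise
a common member of the partition or a common four-group.
-/

namespace Cfsg.Agent.Helper8.Sol3

open Matrix Cfsg.Agent.Helper7.SL2 Cfsg.Agent.Helper8.SL2C Subgroup Cfsg.Agent.Helper8.Dk
open scoped Matrix

variable {F : Type*} [Field F] [Fintype F]

section

variable {j : ℕ} (h3 : (3 : F) = 0) (hF : Fintype.card F = 24 * j + 3)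
include h3 hF

/-- a non-trivial solvable subgroup normalises a member or a four-group -/
theorem exists_le3 (K : Subgroup (ProjectiveSpecialLinearGroup (Fin 2) F))
    (hK : Group.IsSolvable K) (hK1 : K ≠ ⊥) :
    (∃ M ∈ GM F, K ≤ normalizer (M : Set (ProjectiveSpecialLinearGroup (Fin 2) F))) ∨
      (∃ a b : ProjectiveSpecialLinearGroup (Fin 2) F, IsKP a b ∧ K ≤ NV a b) := by
  have h2 := two_ne_zero3 h3
  have : Nontrivial K := (Subgroup.nontrivial_iff_ne_bot K).mpr hK1
  obtain ⟨⟨a, haK⟩, ha1, hcomm⟩ := Sol2.exists_abelian_normal (K := K)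
  have ha1' : a ≠ 1 := fun h => ha1 (Subtype.ext h)
  have hc : ∀ k ∈ K, (k * a * k⁻¹) * a = a * (k * a * k⁻¹) := by
    intro k hk
    have h4 := hcomm ⟨k, hk⟩
    have := congrArg Subtype.val h4.eq
    simpa using this
  obtain ⟨M, hM, haM⟩ := GM_cover a ha1'
  by_cases haa : a * a = 1
  · by_cases hall : ∀ k ∈ K, k * a * k⁻¹ = a
    · left
      refine ⟨M, hM, fun k hk => ?_⟩
      apply Sol2.mem_normalizer_of_conj_mem M hM a haM ha1'
      rw [hall k hk]
      exact haM
    · right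
      push Not at hall
      obtain ⟨k₀, hk₀, hne⟩ := hall
      -- conjugates of `a` commute pairwise
      have hpair : ∀ k₁ ∈ K, ∀ k₂ ∈ K,
          (k₁ * a * k₁⁻¹) * (k₂ * a * k₂⁻¹) = (k₂ * a * k₂⁻¹) * (k₁ * a * k₁⁻¹) := by
        intro k₁ hk₁ k₂ hk₂
        have h4 := hc (k₁⁻¹ * k₂) (K.mul_mem (K.inv_mem hk₁) hk₂)
        have e1 : (k₁ * a * k₁⁻¹) * (k₂ * a * k₂⁻¹) =
            k₁ * (a * ((k₁⁻¹ * k₂) * a * (k₁⁻¹ * k₂)⁻¹)) * k₁⁻¹ := by group
        have e2 : (k₂ * a * k₂⁻¹) * (k₁ * a * k₁⁻¹) =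
            k₁ * (((k₁⁻¹ * k₂) * a * (k₁⁻¹ * k₂)⁻¹) * a) * k₁⁻¹ := by group
        rw [e1, e2, h4]
      have hKP : IsKP a (k₀ * a * k₀⁻¹) := by
        refine ⟨ha1', ?_, fun h => hne h.symm, haa, ?_, (hc k₀ hk₀).symm⟩
        · intro h
          apply ha1'
          have : a = k₀⁻¹ * (k₀ * a * k₀⁻¹) * k₀ := by group
          rw [this, h]; group
        · calc (k₀ * a * k₀⁻¹) * (k₀ * a * k₀⁻¹) = k₀ * (a * a) * k₀⁻¹ := by group
            _ = 1 := by rw [haa]; group
      refine ⟨a, k₀ * a * k₀⁻¹, hKP, ?_⟩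
      -- conjugates of `a` lie in the four-group
      have hconjV : ∀ k ∈ K, k * a * k⁻¹ ∈ KV a (k₀ * a * k₀⁻¹) := by
        intro k hk
        rw [mem_KV]
        exact ⟨hc k hk, hpair k hk k₀ hk₀⟩
      have hstab : ∀ k ∈ K, ∀ v ∈ KV a (k₀ * a * k₀⁻¹), k * v * k⁻¹ ∈ KV a (k₀ * a * k₀⁻¹) := by
        intro k hk v hv
        have hb : k * (k₀ * a * k₀⁻¹) * k⁻¹ ∈ KV a (k₀ * a * k₀⁻¹) := by
          have := hconjV (k * k₀) (K.mul_mem hk hk₀)
          have e : (k * k₀) * a * (k * k₀)⁻¹ = k * (k₀ * a * k₀⁻¹) * k⁻¹ := by group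
          rwa [e] at this
        rcases (KV_eq h3 hF hKP v).mp hv with rfl | rfl | rfl | rfl
        · rw [mul_one, mul_inv_cancel]
          exact Subgroup.one_mem _
        · exact hconjV k hk
        · exact hb
        · have e : k * (a * (k₀ * a * k₀⁻¹)) * k⁻¹ =
              (k * a * k⁻¹) * (k * (k₀ * a * k₀⁻¹) * k⁻¹) := by group
          rw [e]
          exact Subgroup.mul_mem _ (hconjV k hk) hb
      intro k hk
      rw [mem_normalizer_iff]
      intro v
      constructor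
      · exact hstab k hk v
      · intro hv
        have := hstab k⁻¹ (K.inv_mem hk) _ hv
        have e : k⁻¹ * (k * v * k⁻¹) * k⁻¹⁻¹ = v := by group
        rwa [e] at this
  · left
    refine ⟨M, hM, fun k hk => ?_⟩
    apply Sol2.mem_normalizer_of_conj_mem M hM a haM ha1'
    exact GM_cent3 h2 M hM a haM haa _ (hc k hk)

/-- the criterion -/
theorem solvable_iff3 (x y : ProjectiveSpecialLinearGroup (Fin 2) F) (hx : x ≠ 1) :
    Group.IsSolvable (closure ({x, y} : Set (ProjectiveSpecialLinearGroup (Fin 2) F))) ↔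
      (∃ M ∈ GM F, x ∈ normalizer (M : Set (ProjectiveSpecialLinearGroup (Fin 2) F)) ∧
        y ∈ normalizer (M : Set (ProjectiveSpecialLinearGroup (Fin 2) F))) ∨
      (∃ a b : ProjectiveSpecialLinearGroup (Fin 2) F, IsKP a b ∧ x ∈ NV a b ∧ y ∈ NV a b) := by
  have hxc : x ∈ closure ({x, y} : Set (ProjectiveSpecialLinearGroup (Fin 2) F)) :=
    subset_closure (Set.mem_insert _ _)
  have hyc : y ∈ closure ({x, y} : Set (ProjectiveSpecialLinearGroup (Fin 2) F)) :=
    subset_closure (Set.mem_insert_of_mem _ rfl)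
  constructor
  · intro h
    have h1 : closure ({x, y} : Set (ProjectiveSpecialLinearGroup (Fin 2) F)) ≠ ⊥ := by
      intro hb
      rw [hb, Subgroup.mem_bot] at hxc
      exact hx hxc
    rcases exists_le3 h3 hF _ h h1 with ⟨M, hM, hle⟩ | ⟨a, b, hKP, hle⟩
    · exact Or.inl ⟨M, hM, hle hxc, hle hyc⟩
    · exact Or.inr ⟨a, b, hKP, hle hxc, hle hyc⟩
  · rintro (⟨M, hM, hxM, hyM⟩ | ⟨a, b, hKP, hxN, hyN⟩)
    · apply isSolvable_of_le_normalizer hM
      rw [closure_le]
      rintro z (rfl | rfl)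
      · exact hxM
      · exact hyM
    · apply isSolvable_of_le_NV h3 hF hKP
      rw [closure_le]
      rintro z (rfl | rfl)
      · exact hxN
      · exact hyN

end

end Cfsg.Agent.Helper8.Sol3
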