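import Mathlib
import Cfsg.Agent.Helper8.Sol3E

set_option autoImplicit false

/-!
Solubilizers in `PSL₂(3^p)`: elements of the toral members, and the elements of order dividing
`q + 1`.
-/

namespace Cfsg.Agent.Helper8.Sol3

open Matrix Cfsg.Agent.Helper7.SL2 Cfsg.Agent.Helper8.SL2C Subgroup Cfsg.Agent.Helper8.Dk
open scoped Matrix

/-! ### arithmetic -/

theorem dvd_one_of_succ {d a b : ℕ} (h : a = b + 1) (ha : d ∣ a) (hb : d ∣ b) : d = 1 := by
  rw [h] at ha
  exact Nat.dvd_one.mp ((Nat.dvd_add_right hb).mp ha)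

theorem dvd_two_of_add_two {d a b : ℕ} (h : a = b + 2) (ha : d ∣ a) (hb : d ∣ b) : d ∣ 2 := by
  rw [h] at ha
  exact (Nat.dvd_add_right hb).mp ha

theorem arL1 {d j : ℕ} (h1 : d ∣ 24 * j + 4) (h2 : d ∣ 24 * j + 3) : d = 1 :=
  dvd_one_of_succ rfl h1 h2

theorem arL2 {d j : ℕ} (h1 : d ∣ 24 * j + 4) (h2 : d ∣ 12 * j + 1) : d = 1 := by
  have h3 : d ∣ 2 * (12 * j + 1) := Dvd.dvd.mul_left h2 2
  have h4 : d ∣ 2 := dvd_two_of_add_two (by ring) h1 h3
  rcases (Nat.dvd_prime Nat.prime_two).mp h4 with h | h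
  · exact h
  · rw [h] at h2; omega

theorem arL3 {d j : ℕ} (h1 : d ∣ 24 * j + 4) (h2 : d ∣ (24 * j + 3) * (12 * j + 1)) : d = 1 := by
  have hc : Nat.Coprime d (24 * j + 3) := by
    apply Nat.Coprime.symm
    apply Nat.coprime_of_dvd
    intro k hk hk1 hk2
    have := arL1 (hk2.trans h1) hk1
    rw [this] at hk
    exact Nat.not_prime_one hk
  exact arL2 h1 (hc.dvd_of_dvd_mul_left h2)

theorem arP1 {d j : ℕ} (h1 : d ∣ 24 * j + 2) (h2 : d ∣ 24 * j + 3) : d = 1 :=
  dvd_one_of_succ rfl h2 h1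

theorem arP2 {d j : ℕ} (h1 : d ∣ 24 * j + 2) (h2 : d ∣ 12 * j + 2) : d ∣ 2 := by
  have h3 : d ∣ 2 * (12 * j + 2) := Dvd.dvd.mul_left h2 2
  exact dvd_two_of_add_two (by ring) h3 h1

/-! ### orders -/

theorem sq_ne_one_of_order {G : Type*} [Group G] {x : G} (hx1 : x ≠ 1) (hx2 : orderOf x ≠ 2) :
    x * x ≠ 1 := by
  intro h
  have h2 : orderOf x ∣ 2 := orderOf_dvd_of_pow_eq_one (by rw [pow_two]; exact h)
  rcases (Nat.dvd_prime Nat.prime_two).mp h2 with h | h
  · exact hx1 (orderOf_eq_one_iff.mp h)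
  · exact hx2 h

theorem orderOf_eq_three {G : Type*} [Group G] {x : G} (hx1 : x ≠ 1) (hx3 : x * x * x = 1) :
    orderOf x = 3 := by
  apply orderOf_eq_prime
  · rw [pow_succ, pow_two]; exact hx3
  · exact hx1

variable {F : Type*} [Field F] [Fintype F]

section

variable {j : ℕ} (h3 : (3 : F) = 0) (hF : Fintype.card F = 24 * j + 3)
include h3 hF

/-- no element of order three in a toral member -/
theorem not_cube_GT {M : Subgroup (ProjectiveSpecialLinearGroup (Fin 2) F)} (hM : M ∈ GT F)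
    {x : ProjectiveSpecialLinearGroup (Fin 2) F} (hx : x ∈ M) (hx1 : x ≠ 1) :
    x * x * x ≠ 1 := by
  intro h
  have h4 : orderOf x ∣ Nat.card M := Subgroup.orderOf_dvd_natCard M hx
  rw [orderOf_eq_three hx1 h] at h4
  exact not_three_dvd_GT h3 hF hM h4

/-- the solubilizer of an element of a toral member which is not an involution -/
theorem tor_sol {M : Subgroup (ProjectiveSpecialLinearGroup (Fin 2) F)} (hM : M ∈ GT F)
    {x : ProjectiveSpecialLinearGroup (Fin 2) F} (hx : x ∈ M) (hxx : x * x ≠ 1)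
    (y : ProjectiveSpecialLinearGroup (Fin 2) F)
    (hs : Group.IsSolvable (closure ({x, y} : Set (ProjectiveSpecialLinearGroup (Fin 2) F)))) :
    y ∈ normalizer (M : Set (ProjectiveSpecialLinearGroup (Fin 2) F)) ∨
      ∃ U ∈ GU F, x ∈ normalizer (U : Set (ProjectiveSpecialLinearGroup (Fin 2) F)) ∧
        y ∈ normalizer (U : Set (ProjectiveSpecialLinearGroup (Fin 2) F)) := by
  have hx1 : x ≠ 1 := by
    intro h
    apply hxx
    rw [h, one_mul]
  rcases (solvable_iff3 h3 hF x y hx1).mp hs with ⟨M', hM', hxM', hyM'⟩ | ⟨a, b, hKP, hxN, hyN⟩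
  · rcases mem_GM_iff.mp hM' with hU | hT
    · exact Or.inr ⟨M', hU, hxM', hyM'⟩
    · left
      have hxM'' : x ∈ M' := by
        by_contra hcon
        exact hxx (GT_sq_of_not_mem M' hT x hxM' hcon)
      rw [GM_ti M (GT_sub_GM hM) M' hM' x hx1 hx hxM'']
      exact hyM'
  · exfalso
    by_cases hxV : x ∈ KV a b
    · exact hxx (KV_sq h3 hF hKP hxV)
    · exact not_cube_GT h3 hF hM hx hx1 (NV_cube h3 hF hKP hxN hxV)

/-- elements of order dividing `q + 1` -/
theorem case_minus3 (x : ProjectiveSpecialLinearGroup (Fin 2) F) (hx1 : x ≠ 1)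
    (hx2 : orderOf x ≠ 2) (hord : orderOf x ∣ 24 * j + 4) :
    Nat.card {y : ProjectiveSpecialLinearGroup (Fin 2) F //
      Group.IsSolvable (closure ({x, y} : Set (ProjectiveSpecialLinearGroup (Fin 2) F)))} =
      24 * j + 4 := by
  have hd1 : orderOf x ≠ 1 := fun h => hx1 (orderOf_eq_one_iff.mp h)
  have hxx := sq_ne_one_of_order hx1 hx2
  obtain ⟨M, hM, hxM⟩ := GM_cover x hx1
  have hdM : orderOf x ∣ Nat.card M := Subgroup.orderOf_dvd_natCard M hxM
  have hMT : M ∈ GT F := by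
    rcases mem_GM_iff.mp hM with h | h
    · exfalso
      rw [card_of_GU h3 hF h] at hdM
      exact hd1 (arL1 hord hdM)
    · exact h
  have hcard : Nat.card M = 12 * j + 2 := by
    rcases card_of_GT h3 hF hMT with h | h
    · exact h
    · exfalso
      rw [h] at hdM
      exact hd1 (arL2 hord hdM)
  rw [Sol2.card_sol_eq x (normalizer (M : Set (ProjectiveSpecialLinearGroup (Fin 2) F)) : Set _)]
  · have := card_normalizer_GT hMT
    rw [hcard] at this
    rw [show 24 * j + 4 = 2 * (12 * j + 2) by ring]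
    exact this
  · intro y
    constructor
    · intro hs
      rcases tor_sol h3 hF hMT hxM hxx y hs with h | ⟨U, hU, hxU, -⟩
      · exact h
      · exfalso
        have h4 : orderOf x ∣ Nat.card (normalizer (U : Set (ProjectiveSpecialLinearGroup (Fin 2) F))) :=
          Subgroup.orderOf_dvd_natCard _ hxU
        rw [card_norm_GU h3 hF hU] at h4
        exact hd1 (arL3 hord h4)
    · intro hy
      exact (solvable_iff3 h3 hF x y hx1).mpr (Or.inl ⟨M, hM, le_normalizer hxM, hy⟩)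

end

end Cfsg.Agent.Helper8.Sol3
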