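import Mathlib
import Cfsg.Agent.Helper8.Sol3F

set_option autoImplicit false

/-!
Solubilizers in `PSL₂(3^p)`: the elements of order dividing `q - 1`.
-/

namespace Cfsg.Agent.Helper8.Sol3

open Matrix Cfsg.Agent.Helper7.SL2 Cfsg.Agent.Helper8.SL2C Subgroup Cfsg.Agent.Helper8.Dk
open scoped Matrix

variable {F : Type*} [Field F]

/-- the image in `PSL₂` of a set closed under negation has half its size -/
theorem card_image_pmk [DecidableEq (SpecialLinearGroup (Fin 2) F)]
    [DecidableEq (ProjectiveSpecialLinearGroup (Fin 2) F)] (h2 : (2 : F) ≠ 0)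
    (A : Finset (SpecialLinearGroup (Fin 2) F)) (hneg : ∀ Y ∈ A, -Y ∈ A) :
    A.card = 2 * (A.image pmk).card := by
  rw [Finset.card_eq_sum_card_image pmk A]
  have hfib : ∀ y ∈ A.image pmk, (A.filter (fun Y => pmk Y = y)).card = 2 := by
    intro y hy
    obtain ⟨Y, hY, rfl⟩ := Finset.mem_image.mp hy
    have hfil : A.filter (fun X => pmk X = pmk Y) = {Y, -Y} := by
      ext X
      simp only [Finset.mem_filter, Finset.mem_insert, Finset.mem_singleton]
      constructor
      · rintro ⟨-, hX⟩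
        exact pmk_eq_iff.mp hX
      · rintro (rfl | rfl)
        · exact ⟨hY, rfl⟩
        · exact ⟨hneg _ hY, pmk_neg _⟩
    rw [hfil, Finset.card_pair (neg_ne_self h2 Y).symm]
  rw [Finset.sum_congr rfl hfib, Finset.sum_const, smul_eq_mul, mul_comm]

theorem ncard_image_pmk [Finite F] (h2 : (2 : F) ≠ 0) (S : Set (SpecialLinearGroup (Fin 2) F))
    (hneg : ∀ Y ∈ S, -Y ∈ S) : S.ncard = 2 * (pmk '' S).ncard := by
  classical
  haveI : Fintype (SpecialLinearGroup (Fin 2) F) := Fintype.ofFinite _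
  haveI : Fintype (ProjectiveSpecialLinearGroup (Fin 2) F) := Fintype.ofFinite _
  have h := card_image_pmk h2 S.toFinset (fun Y hY => by
    rw [Set.mem_toFinset] at hY ⊢
    exact hneg Y hY)
  rw [Set.ncard_eq_toFinset_card' S, Set.ncard_eq_toFinset_card' (pmk '' S), h]
  congr 2
  ext y
  simp

theorem neg_one_mem_of_center_le {A : Subgroup (SpecialLinearGroup (Fin 2) F)}
    (hA : center (SpecialLinearGroup (Fin 2) F) ≤ A) : (-1 : SpecialLinearGroup (Fin 2) F) ∈ A :=
  hA (mem_center_iff'.mpr (Or.inr rfl))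

theorem neg_mem_of_center_le {A : Subgroup (SpecialLinearGroup (Fin 2) F)}
    (hA : center (SpecialLinearGroup (Fin 2) F) ≤ A) {Y : SpecialLinearGroup (Fin 2) F}
    (hY : Y ∈ A) : -Y ∈ A := by
  have : -Y = (-1) * Y := by rw [Cfsg.Agent.Helper8.SL2C.neg_mul', one_mul]
  rw [this]
  exact A.mul_mem (neg_one_mem_of_center_le hA) hY

theorem center_le_B : center (SpecialLinearGroup (Fin 2) F) ≤ B F :=
  center_le_ZU.trans ZU_le_B

theorem center_le_Mon : center (SpecialLinearGroup (Fin 2) F) ≤ Mon F := by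
  intro g hg
  rcases mem_center_iff'.mp hg with rfl | rfl
  · exact (Mon F).one_mem
  · exact D_le_Mon neg_one_mem_D

variable [Fintype F]

section

variable {j : ℕ} (h3 : (3 : F) = 0) (hF : Fintype.card F = 24 * j + 3)
include h3 hF

/-- the criterion for a diagonal element -/
theorem tor_iff3 {l : Fˣ} (hl : (l : F) ^ 2 ≠ 1) (hMT : (D F).map (ph F) ∈ GT F)
    (hxx : pmk (tor l) * pmk (tor l) ≠ 1) (Y : SpecialLinearGroup (Fin 2) F) :
    Group.IsSolvable (closure ({pmk (tor l), pmk Y} :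
      Set (ProjectiveSpecialLinearGroup (Fin 2) F))) ↔
      Y ∈ B F ∨ Y ∈ cj (wey F) (B F) ∨ Y ∈ Mon F := by
  have hx1 := Sol2.pmk_tor_ne_one hl
  have hex : ∃ d ∈ D F, (d : Matrix (Fin 2) (Fin 2) F) 0 0 ^ 2 ≠ 1 :=
    ⟨tor l, tor_mem_D l, by rw [tor_00]; exact hl⟩
  have hDLM := Sol2.D_mem_LM hl
  have hcD := center_le_of_mem_LM hDLM
  have hxD : pmk (tor l) ∈ (D F).map (ph F) := Subgroup.mem_map_of_mem (ph F) (tor_mem_D l)
  constructor
  · intro hs
    rcases tor_sol h3 hF hMT hxD hxx (pmk Y) hs with hyM | ⟨U, hU, hxM, hyM⟩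
    · right; right
      rw [pmk_mem_normalizer_iff hcD, normalizer_D hex] at hyM
      exact hyM
    · obtain ⟨A, ⟨c, rfl⟩, rfl⟩ := hU
      have hc := center_le_cj c (center_le_ZU (F := F))
      rw [pmk_mem_normalizer_iff hc, Sol2.normalizer_cj_ZU] at hxM hyM
      rw [Sol2.mem_cj_B_iff, tor_00, tor_01, tor_10, tor_11] at hxM
      have h4 : (c : Matrix (Fin 2) (Fin 2) F) 0 0 * (c : Matrix (Fin 2) (Fin 2) F) 1 0 = 0 := by
        have h5 : (((l⁻¹ : Fˣ) : F) - (l : F)) *
            ((c : Matrix (Fin 2) (Fin 2) F) 0 0 * (c : Matrix (Fin 2) (Fin 2) F) 1 0) = 0 := by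
          linear_combination hxM
        exact (mul_eq_zero.mp h5).resolve_left (Sol2.tor_inv_sub_ne hl)
      rcases mul_eq_zero.mp h4 with h0 | h0
      · right; left
        rw [Sol2.mem_cj_B_iff, h0] at hyM
        have hd := det_eq c
        rw [h0, zero_mul, zero_sub] at hd
        have hc10 : (c : Matrix (Fin 2) (Fin 2) F) 1 0 ≠ 0 := by
          intro h; rw [h, mul_zero, neg_zero] at hd; exact zero_ne_one hd
        rw [Sol2.mem_cj_wey_B_iff]
        have h5 : (Y : Matrix (Fin 2) (Fin 2) F) 0 1 * (c : Matrix (Fin 2) (Fin 2) F) 1 0 ^ 2 = 0 := by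
          linear_combination -hyM
        exact (mul_eq_zero.mp h5).resolve_right (pow_ne_zero 2 hc10)
      · left
        have hcB : c ∈ B F := h0
        rw [mem_cj] at hyM
        have := (B F).mul_mem ((B F).mul_mem hcB hyM) ((B F).inv_mem hcB)
        have e : c * (c⁻¹ * Y * c) * c⁻¹ = Y := by group
        rwa [e] at this
  · intro h
    apply (solvable_iff3 h3 hF _ _ hx1).mpr
    left
    rcases h with h | h | h
    · refine ⟨(ZU F).map (ph F), ⟨ZU F, Or.inl Sol2.ZU_mem_LU, rfl⟩, ?_, ?_⟩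
      · rw [pmk_mem_normalizer_iff center_le_ZU, normalizer_ZU]
        exact tor_10 l
      · rw [pmk_mem_normalizer_iff center_le_ZU, normalizer_ZU]
        exact h
    · have hA : cj (wey F) (ZU F) ∈ LM F := Or.inl ⟨wey F, rfl⟩
      refine ⟨(cj (wey F) (ZU F)).map (ph F), ⟨_, hA, rfl⟩, ?_, ?_⟩
      · rw [pmk_mem_normalizer_iff (center_le_of_mem_LM hA), Sol2.normalizer_cj_ZU,
          Sol2.mem_cj_wey_B_iff]
        exact tor_01 l
      · rw [pmk_mem_normalizer_iff (center_le_of_mem_LM hA), Sol2.normalizer_cj_ZU]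
        exact h
    · refine ⟨(D F).map (ph F), ⟨_, hDLM, rfl⟩, ?_, ?_⟩
      · rw [pmk_mem_normalizer_iff hcD, normalizer_D hex]
        exact D_le_Mon (tor_mem_D l)
      · rw [pmk_mem_normalizer_iff hcD, normalizer_D hex]
        exact h

theorem case_tor3 {l : Fˣ} (hl : (l : F) ^ 2 ≠ 1) (hMT : (D F).map (ph F) ∈ GT F)
    (hxx : pmk (tor l) * pmk (tor l) ≠ 1) :
    Nat.card {y : ProjectiveSpecialLinearGroup (Fin 2) F //
      Group.IsSolvable (closure ({pmk (tor l), y} :
        Set (ProjectiveSpecialLinearGroup (Fin 2) F)))} = (24 * j + 3) * (24 * j + 2) := by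
  have h2 := two_ne_zero3 h3
  rw [Sol2.card_sol_eq (pmk (tor l)) (pmk '' ((B F : Set (SpecialLinearGroup (Fin 2) F)) ∪
      (cj (wey F) (B F) : Subgroup (SpecialLinearGroup (Fin 2) F)) ∪
      (Mon F : Set (SpecialLinearGroup (Fin 2) F))))]
  · rw [Nat.card_coe_set_eq]
    have hneg : ∀ Y ∈ ((B F : Set (SpecialLinearGroup (Fin 2) F)) ∪
        (cj (wey F) (B F) : Subgroup (SpecialLinearGroup (Fin 2) F)) ∪
        (Mon F : Set (SpecialLinearGroup (Fin 2) F))), -Y ∈
        ((B F : Set (SpecialLinearGroup (Fin 2) F)) ∪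
        (cj (wey F) (B F) : Subgroup (SpecialLinearGroup (Fin 2) F)) ∪
        (Mon F : Set (SpecialLinearGroup (Fin 2) F))) := by
      rintro Y ((hY | hY) | hY)
      · exact Or.inl (Or.inl (neg_mem_of_center_le center_le_B hY))
      · exact Or.inl (Or.inr (neg_mem_of_center_le (center_le_cj _ center_le_B) hY))
      · exact Or.inr (neg_mem_of_center_le center_le_Mon hY)
    have h4 := ncard_image_pmk h2 _ hneg
    rw [Sol2.card_union_tor, hF] at h4
    have e : 2 * (24 * j + 3) * (24 * j + 3 - 1) = 2 * ((24 * j + 3) * (24 * j + 2)) := by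
      have : 24 * j + 3 - 1 = 24 * j + 2 := by omega
      rw [this]; ring
    rw [e] at h4
    exact (Nat.eq_of_mul_eq_mul_left (by norm_num) h4).symm
  · intro y
    obtain ⟨Y, rfl⟩ := pmk_surjective y
    rw [tor_iff3 h3 hF hl hMT hxx Y]
    constructor
    · rintro (h | h | h)
      · exact ⟨Y, Or.inl (Or.inl h), rfl⟩
      · exact ⟨Y, Or.inl (Or.inr h), rfl⟩
      · exact ⟨Y, Or.inr h, rfl⟩
    · rintro ⟨Y', hY', hYY⟩
      have hcases : Y' ∈ B F ∨ Y' ∈ cj (wey F) (B F) ∨ Y' ∈ Mon F := by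
        rcases hY' with (h | h) | h
        · exact Or.inl h
        · exact Or.inr (Or.inl h)
        · exact Or.inr (Or.inr h)
      rcases pmk_eq_iff.mp hYY with rfl | rfl
      · exact hcases
      · rcases hcases with h | h | h
        · left
          have := neg_mem_of_center_le center_le_B h
          rwa [neg_neg] at this
        · right; left
          have := neg_mem_of_center_le (center_le_cj _ center_le_B) h
          rwa [neg_neg] at this
        · right; right
          have := neg_mem_of_center_le center_le_Mon h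
          rwa [neg_neg] at this

end

end Cfsg.Agent.Helper8.Sol3
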