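import Mathlib
import Cfsg.Agent.Helper8.Sol3G

set_option autoImplicit false

/-!
Solubilizers in `PSL₂(3^p)`: elements of order dividing `q - 1` are diagonalisable.
-/

namespace Cfsg.Agent.Helper8.Sol3

open Matrix Cfsg.Agent.Helper7.SL2 Cfsg.Agent.Helper8.SL2C Subgroup Cfsg.Agent.Helper8.Dk
open scoped Matrix

variable {F : Type*} [Field F] [Fintype F]

omit [Fintype F] in
/-- conjugates in `SL₂` give conjugates in `PSL₂` -/
theorem pmk_of_isConj {X Z : SpecialLinearGroup (Fin 2) F} (hc : IsConj X Z) :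
    ∃ g : ProjectiveSpecialLinearGroup (Fin 2) F, pmk X = g * pmk Z * g⁻¹ := by
  obtain ⟨c, hc⟩ := isConj_iff.mp hc
  refine ⟨pmk c⁻¹, ?_⟩
  rw [← hc]
  change pmk X = pmk (c⁻¹ * (c * X * c⁻¹) * c⁻¹⁻¹)
  congr 1
  group

omit [Fintype F] in
theorem pmk_up_cube (h3 : (3 : F) = 0) (β : F) : pmk (up β) ^ 3 = 1 := by
  rw [pmk_pow, up_pow]
  have : ((3 : ℕ) : F) * β = 0 := by
    push_cast
    rw [h3, zero_mul]
  rw [this, up_zero]
  rfl

section

variable {j : ℕ} (h3 : (3 : F) = 0) (hF : Fintype.card F = 24 * j + 3)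
include h3 hF

theorem exists_conj_tor3 (x : ProjectiveSpecialLinearGroup (Fin 2) F) (hx1 : x ≠ 1)
    (hx2 : orderOf x ≠ 2) (hord : orderOf x ∣ 24 * j + 2) :
    ∃ (g : ProjectiveSpecialLinearGroup (Fin 2) F) (l : Fˣ), (l : F) ^ 2 ≠ 1 ∧
      x = g * pmk (tor l) * g⁻¹ := by
  have hd1 : orderOf x ≠ 1 := fun h => hx1 (orderOf_eq_one_iff.mp h)
  obtain ⟨X, rfl⟩ := pmk_surjective x
  have hcube : ∀ β : F, ∀ g : ProjectiveSpecialLinearGroup (Fin 2) F,
      pmk X = g * pmk (up β) * g⁻¹ → False := by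
    intro β g hg
    have h4 : pmk X ^ 3 = 1 := by
      rw [hg, conj_pow, pmk_up_cube h3, mul_one, mul_inv_cancel]
    have h5 : orderOf (pmk X) ∣ 3 := orderOf_dvd_of_pow_eq_one h4
    rcases (Nat.dvd_prime Nat.prime_three).mp h5 with h | h
    · exact hd1 h
    · rw [h] at hord
      omega
  rcases classify X with hE | ⟨a, ha, hc⟩ | ⟨β, hc⟩ | ⟨β, hc⟩
  · exfalso
    have h4 := pow_card_add_one_of_ell hE
    rw [hF] at h4
    have h5 : pmk X ^ (24 * j + 3 + 1) = 1 := by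
      rw [pmk_pow, h4]; rfl
    have h6 : orderOf (pmk X) ∣ 24 * j + 3 + 1 := orderOf_dvd_of_pow_eq_one h5
    have h7 : orderOf (pmk X) ∣ 2 := dvd_two_of_add_two (by ring) h6 hord
    rcases (Nat.dvd_prime Nat.prime_two).mp h7 with h | h
    · exact hd1 h
    · exact hx2 h
  · obtain ⟨g, hg⟩ := pmk_of_isConj hc
    exact ⟨g, a, ha, hg⟩
  · exfalso
    obtain ⟨g, hg⟩ := pmk_of_isConj hc
    exact hcube β g hg
  · exfalso
    obtain ⟨g, hg⟩ := pmk_of_isConj hc
    rw [pmk_neg] at hg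
    exact hcube β g hg

/-- elements of order dividing `q - 1` -/
theorem case_plus3 (x : ProjectiveSpecialLinearGroup (Fin 2) F) (hx1 : x ≠ 1)
    (hx2 : orderOf x ≠ 2) (hord : orderOf x ∣ 24 * j + 2) :
    Nat.card {y : ProjectiveSpecialLinearGroup (Fin 2) F //
      Group.IsSolvable (closure ({x, y} : Set (ProjectiveSpecialLinearGroup (Fin 2) F)))} =
      (24 * j + 3) * (24 * j + 2) := by
  have hxx := sq_ne_one_of_order hx1 hx2
  obtain ⟨g, l, hl, rfl⟩ := exists_conj_tor3 h3 hF x hx1 hx2 hord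
  have ht1 := Sol2.pmk_tor_ne_one hl
  have htt : pmk (tor l) * pmk (tor l) ≠ 1 := by
    intro h
    apply hxx
    calc g * pmk (tor l) * g⁻¹ * (g * pmk (tor l) * g⁻¹) =
        g * (pmk (tor l) * pmk (tor l)) * g⁻¹ := by group
      _ = 1 := by rw [h]; group
  have hord' : orderOf (pmk (tor l)) ∣ 24 * j + 2 := by
    have : orderOf (g * pmk (tor l) * g⁻¹) = orderOf (pmk (tor l)) :=
      (MulAut.conj g).orderOf_eq (pmk (tor l))
    rwa [this] at hord
  have hMT : (D F).map (ph F) ∈ GT F := by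
    obtain ⟨M, hM, hxM⟩ := GM_cover (pmk (tor l)) ht1
    have hM' := hM
    obtain ⟨A, hA, rfl⟩ := hM
    have h4 : tor l ∈ A := mem_of_pmk_mem hA hxM
    rw [← Sol2.eq_D_of_tor_mem hl hA h4]
    rcases mem_GM_iff.mp hM' with hU | hT
    · exfalso
      have hdM : orderOf (pmk (tor l)) ∣ Nat.card (A.map (ph F)) :=
        Subgroup.orderOf_dvd_natCard _ hxM
      rw [card_of_GU h3 hF hU] at hdM
      exact ht1 (orderOf_eq_one_iff.mp (arP1 hord' hdM))
    · exact hT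
  rw [Sol2.card_sol_conj, case_tor3 h3 hF hl hMT htt]

end

end Cfsg.Agent.Helper8.Sol3
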