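import Mathlib
import Cfsg.Agent.Helper8.Sol3H

set_option autoImplicit false

/-!
Solubilizers in `PSL₂(3^p)`: the elements of order three, abstract part.
-/

namespace Cfsg.Agent.Helper8.Sol3

open Matrix Cfsg.Agent.Helper7.SL2 Cfsg.Agent.Helper8.SL2C Subgroup Cfsg.Agent.Helper8.Dk
open scoped Matrix

/-- the involutions commuting with their conjugate under `x` -/
def Yinv {G : Type*} [Group G] (x : G) : Set G :=
  {t | t * t = 1 ∧ t ≠ 1 ∧ t * (x * t * x⁻¹) = (x * t * x⁻¹) * t}

theorem eq_one_of_sq_of_cube {G : Type*} [Group G] {x : G} (h2 : x * x = 1) (h3 : x * x * x = 1) :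
    x = 1 := by
  rw [h2, one_mul] at h3
  exact h3

theorem inv_eq_sq_of_cube {G : Type*} [Group G] {x : G} (h3 : x * x * x = 1) : x⁻¹ = x * x := by
  apply inv_eq_of_mul_eq_one_left
  exact h3

variable {F : Type*} [Field F] [Fintype F]

section

variable {j : ℕ} (h3 : (3 : F) = 0) (hF : Fintype.card F = 24 * j + 3)
include h3 hF

theorem invol_not_mem_norm_GU {U : Subgroup (ProjectiveSpecialLinearGroup (Fin 2) F)}
    (hU : U ∈ GU F) {t : ProjectiveSpecialLinearGroup (Fin 2) F} (htt : t * t = 1) (ht1 : t ≠ 1) :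
    t ∉ normalizer (U : Set (ProjectiveSpecialLinearGroup (Fin 2) F)) :=
  fun h => ht1 (eq_one_of_sq_of_mem_norm_GU h3 hF hU h htt)

/-- an element of order three of a Borel subgroup lies in its unipotent radical -/
theorem cube_mem_GU {U : Subgroup (ProjectiveSpecialLinearGroup (Fin 2) F)} (hU : U ∈ GU F)
    {x : ProjectiveSpecialLinearGroup (Fin 2) F}
    (hx : x ∈ normalizer (U : Set (ProjectiveSpecialLinearGroup (Fin 2) F)))
    (hx3 : x * x * x = 1) : x ∈ U := by
  have h1 := card_mul_relIndex (Subgroup.le_normalizer (H := U))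
  rw [card_of_GU h3 hF hU, card_norm_GU h3 hF hU] at h1
  have h2 : U.relIndex (normalizer (U : Set (ProjectiveSpecialLinearGroup (Fin 2) F))) =
      12 * j + 1 := Nat.eq_of_mul_eq_mul_left (by positivity) h1
  have h4 := Subgroup.pow_index_mem
    (U.subgroupOf (normalizer (U : Set (ProjectiveSpecialLinearGroup (Fin 2) F)))) ⟨x, hx⟩
  rw [mem_subgroupOf] at h4
  change x ^ (U.relIndex (normalizer (U : Set (ProjectiveSpecialLinearGroup (Fin 2) F)))) ∈ U at h4
  rw [h2] at h4
  have e : x ^ (12 * j + 1) = x := by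
    have e3 : x ^ 3 = 1 := by rw [pow_succ, pow_two]; exact hx3
    rw [pow_succ, show 12 * j = 3 * (4 * j) by ring, pow_mul, e3, one_pow, one_mul]
  rwa [e] at h4

/-- an element of order three does not commute with an involution -/
theorem not_comm_invol_of_cube {x t : ProjectiveSpecialLinearGroup (Fin 2) F} (hx1 : x ≠ 1)
    (hx3 : x * x * x = 1) (ht1 : t ≠ 1) (htt : t * t = 1) : x * t ≠ t * x := by
  intro hc
  obtain ⟨M, hM, htM⟩ := GM_cover t ht1
  have hMT := GT_of_invol h3 hF hM htM ht1 htt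
  have hxN := cent_le_normalizer M hM t htM ht1 x hc
  by_cases hxM : x ∈ M
  · exact not_cube_GT h3 hF hMT hxM hx1 hx3
  · exact hx1 (eq_one_of_sq_of_cube (GT_sq_of_not_mem M hMT x hxN hxM) hx3)

/-- an involution commuting with its conjugate under an element of order three spans, with this
conjugate, a four-group normalised by the element -/
theorem KP_of_Yinv {x t : ProjectiveSpecialLinearGroup (Fin 2) F} (hx1 : x ≠ 1)
    (hx3 : x * x * x = 1) (ht : t ∈ Yinv x) :
    IsKP t (x * t * x⁻¹) ∧ x ∈ NV t (x * t * x⁻¹) := by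
  obtain ⟨htt, ht1, hcomm⟩ := ht
  have hxi := inv_eq_sq_of_cube hx3
  have hKP : IsKP t (x * t * x⁻¹) := by
    refine ⟨ht1, ?_, ?_, htt, ?_, hcomm⟩
    · intro h
      apply ht1
      have : t = x⁻¹ * (x * t * x⁻¹) * x := by group
      rw [this, h]; group
    · intro h
      apply not_comm_invol_of_cube h3 hF hx1 hx3 ht1 htt
      calc x * t = (x * t * x⁻¹) * x := by group
        _ = t * x := by rw [← h]
    · calc (x * t * x⁻¹) * (x * t * x⁻¹) = x * (t * t) * x⁻¹ := by group
        _ = 1 := by rw [htt]; group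
  refine ⟨hKP, ?_⟩
  -- the third involution
  have e3 : x * (x * (x * t * x⁻¹) * x⁻¹) * x⁻¹ = t := by
    calc x * (x * (x * t * x⁻¹) * x⁻¹) * x⁻¹ = (x * x * x) * t * (x * x * x)⁻¹ := by group
      _ = t := by rw [hx3]; group
  have hc1 : (x * t * x⁻¹) * (x * (x * t * x⁻¹) * x⁻¹) =
      (x * (x * t * x⁻¹) * x⁻¹) * (x * t * x⁻¹) := by
    calc (x * t * x⁻¹) * (x * (x * t * x⁻¹) * x⁻¹) = x * (t * (x * t * x⁻¹)) * x⁻¹ := by group
      _ = x * ((x * t * x⁻¹) * t) * x⁻¹ := by rw [hcomm]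
      _ = (x * (x * t * x⁻¹) * x⁻¹) * (x * t * x⁻¹) := by group
  have hc2 : (x * (x * t * x⁻¹) * x⁻¹) * t = t * (x * (x * t * x⁻¹) * x⁻¹) := by
    have h5 : x * ((x * t * x⁻¹) * (x * (x * t * x⁻¹) * x⁻¹)) * x⁻¹ =
        x * ((x * (x * t * x⁻¹) * x⁻¹) * (x * t * x⁻¹)) * x⁻¹ := by rw [hc1]
    have e5 : x * ((x * t * x⁻¹) * (x * (x * t * x⁻¹) * x⁻¹)) * x⁻¹ =
        (x * (x * t * x⁻¹) * x⁻¹) * (x * (x * (x * t * x⁻¹) * x⁻¹) * x⁻¹) := by group
    have e6 : x * ((x * (x * t * x⁻¹) * x⁻¹) * (x * t * x⁻¹)) * x⁻¹ =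
        (x * (x * (x * t * x⁻¹) * x⁻¹) * x⁻¹) * (x * (x * t * x⁻¹) * x⁻¹) := by group
    rw [e5, e6, e3] at h5
    exact h5
  have hthird : x * (x * t * x⁻¹) * x⁻¹ ∈ KV t (x * t * x⁻¹) := by
    rw [mem_KV]
    exact ⟨hc2, hc1.symm⟩
  have hstab : ∀ v ∈ KV t (x * t * x⁻¹), x * v * x⁻¹ ∈ KV t (x * t * x⁻¹) := by
    intro v hv
    rcases (KV_eq h3 hF hKP v).mp hv with rfl | rfl | rfl | rfl
    · rw [mul_one, mul_inv_cancel]
      exact Subgroup.one_mem _
    · exact hKP.b_mem
    · exact hthird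
    · have e : x * (t * (x * t * x⁻¹)) * x⁻¹ = (x * t * x⁻¹) * (x * (x * t * x⁻¹) * x⁻¹) := by
        group
      rw [e]
      exact Subgroup.mul_mem _ hKP.b_mem hthird
  rw [mem_normalizer_iff]
  intro v
  constructor
  · exact hstab v
  · intro hv
    have h5 := hstab _ (hstab _ hv)
    have e : x * (x * (x * v * x⁻¹) * x⁻¹) * x⁻¹ = v := by
      calc x * (x * (x * v * x⁻¹) * x⁻¹) * x⁻¹ = (x * x * x) * v * (x * x * x)⁻¹ := by group
        _ = v := by rw [hx3]; group
    rwa [e] at h5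

/-- the criterion for an element of order three -/
theorem three_iff {U : Subgroup (ProjectiveSpecialLinearGroup (Fin 2) F)} (hU : U ∈ GU F)
    {x : ProjectiveSpecialLinearGroup (Fin 2) F} (hxU : x ∈ U) (hx1 : x ≠ 1)
    (hx3 : x * x * x = 1) (y : ProjectiveSpecialLinearGroup (Fin 2) F) :
    Group.IsSolvable (closure ({x, y} : Set (ProjectiveSpecialLinearGroup (Fin 2) F))) ↔
      y ∈ normalizer (U : Set (ProjectiveSpecialLinearGroup (Fin 2) F)) ∨
        ∃ t ∈ Yinv x, y = t ∨ y = x * t ∨ y = x⁻¹ * t := by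
  have hxx : x * x ≠ 1 := fun h => hx1 (eq_one_of_sq_of_cube h hx3)
  constructor
  · intro hs
    rcases (solvable_iff3 h3 hF x y hx1).mp hs with ⟨M, hM, hxM, hyM⟩ | ⟨a, b, hKP, hxN, hyN⟩
    · left
      rcases mem_GM_iff.mp hM with hMU | hMT
      · have hxM' := cube_mem_GU h3 hF hMU hxM hx3
        rw [GM_ti U (GU_sub_GM hU) M hM x hx1 hxU hxM']
        exact hyM
      · exfalso
        by_cases hxM' : x ∈ M
        · exact not_cube_GT h3 hF hMT hxM' hx1 hx3
        · exact hxx (GT_sq_of_not_mem M hMT x hxM hxM')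
    · have hxV : x ∉ KV a b := fun h => hxx (KV_sq h3 hF hKP h)
      -- elements of the four-group give elements of `Yinv x`
      have hY : ∀ v ∈ KV a b, v ≠ 1 → v ∈ Yinv x := by
        intro v hv hv1
        exact ⟨KV_sq h3 hF hKP hv, hv1, KV_abelian h3 hF hKP hv (conj_mem_KV hxN hv)⟩
      by_cases hyV : y ∈ KV a b
      · by_cases hy1 : y = 1
        · left
          rw [hy1]
          exact Subgroup.one_mem _
        · right
          exact ⟨y, hY y hyV hy1, Or.inl rfl⟩
      · rcases NV_pair h3 hF hKP hyN hyV hxN hxV with hv | hv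
        · by_cases hv1 : x⁻¹ * y = 1
          · left
            have : y = x := by
              have : y = x * (x⁻¹ * y) := by group
              rw [this, hv1, mul_one]
            rw [this]
            exact le_normalizer hxU
          · right
            exact ⟨x⁻¹ * y, hY _ hv hv1, Or.inr (Or.inl (by group))⟩
        · by_cases hv1 : x * y = 1
          · left
            have : y = x⁻¹ := by
              have : y = x⁻¹ * (x * y) := by group
              rw [this, hv1, mul_one]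
            rw [this]
            exact le_normalizer (U.inv_mem hxU)
          · right
            exact ⟨x * y, hY _ hv hv1, Or.inr (Or.inr (by group))⟩
  · rintro (hy | ⟨t, ht, hyt⟩)
    · exact (solvable_iff3 h3 hF x y hx1).mpr
        (Or.inl ⟨U, GU_sub_GM hU, le_normalizer hxU, hy⟩)
    · obtain ⟨hKP, hxN⟩ := KP_of_Yinv h3 hF hx1 hx3 ht
      have htN : t ∈ NV t (x * t * x⁻¹) := KV_le_NV _ _ hKP.a_mem
      apply (solvable_iff3 h3 hF x y hx1).mpr
      right
      refine ⟨t, x * t * x⁻¹, hKP, hxN, ?_⟩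
      rcases hyt with rfl | rfl | rfl
      · exact htN
      · exact Subgroup.mul_mem _ hxN htN
      · exact Subgroup.mul_mem _ (Subgroup.inv_mem _ hxN) htN

end

end Cfsg.Agent.Helper8.Sol3
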