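import Mathlib
import Cfsg.Agent.Helper8.Sol3I

set_option autoImplicit false

/-!
Solubilizers in `PSL₂(3^p)`: the elements of order three, counting.
-/

namespace Cfsg.Agent.Helper8.Sol3

open Matrix Cfsg.Agent.Helper7.SL2 Cfsg.Agent.Helper8.SL2C Subgroup Cfsg.Agent.Helper8.Dk
open scoped Matrix

variable {F : Type*} [Field F] [Fintype F]

section

variable {j : ℕ} (h3 : (3 : F) = 0) (hF : Fintype.card F = 24 * j + 3)
include h3 hF

/-- the product of two involutions is not a non-trivial unipotent element -/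
theorem invol_mul_not_mem_GU {U : Subgroup (ProjectiveSpecialLinearGroup (Fin 2) F)}
    (hU : U ∈ GU F) {t t' : ProjectiveSpecialLinearGroup (Fin 2) F} (htt : t * t = 1)
    (ht't' : t' * t' = 1) (ht'1 : t' ≠ 1) (hu : t * t' ∈ U) (hu1 : t * t' ≠ 1) : False := by
  have hti : t⁻¹ = t := inv_eq_of_mul_eq_one_left htt
  have ht'i : t'⁻¹ = t' := inv_eq_of_mul_eq_one_left ht't'
  have h1 : t' * (t * t') * t'⁻¹ = (t * t')⁻¹ := by
    rw [_root_.mul_inv_rev, hti, ht'i]
    calc t' * (t * t') * t' = t' * t * (t' * t') := by group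
      _ = t' * t := by rw [ht't', mul_one]
  have h2 : t' ∈ normalizer (U : Set (ProjectiveSpecialLinearGroup (Fin 2) F)) := by
    apply Sol2.mem_normalizer_of_conj_mem U (GU_sub_GM hU) (t * t') hu hu1
    rw [h1]
    exact U.inv_mem hu
  exact invol_not_mem_norm_GU h3 hF hU ht't' ht'1 h2

/-- the solubilizer of an element of order three, in terms of `Yinv` -/
theorem card_sol_three {U : Subgroup (ProjectiveSpecialLinearGroup (Fin 2) F)} (hU : U ∈ GU F)
    {x : ProjectiveSpecialLinearGroup (Fin 2) F} (hxU : x ∈ U) (hx1 : x ≠ 1)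
    (hx3 : x * x * x = 1) :
    Nat.card {y : ProjectiveSpecialLinearGroup (Fin 2) F //
      Group.IsSolvable (closure ({x, y} : Set (ProjectiveSpecialLinearGroup (Fin 2) F)))} =
      (24 * j + 3) * (12 * j + 1) + 3 * (Yinv x).ncard := by
  have hxi := inv_eq_sq_of_cube hx3
  have hxi1 : x⁻¹ ≠ 1 := by
    intro h
    apply hx1
    rw [← inv_inv x, h, inv_one]
  set N : Set (ProjectiveSpecialLinearGroup (Fin 2) F) :=
    SetLike.coe (normalizer (U : Set (ProjectiveSpecialLinearGroup (Fin 2) F))) with hN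
  set Y : Set (ProjectiveSpecialLinearGroup (Fin 2) F) := Yinv x with hY
  set Y1 : Set (ProjectiveSpecialLinearGroup (Fin 2) F) := (fun z => x * z) '' Y with hY1
  set Y2 : Set (ProjectiveSpecialLinearGroup (Fin 2) F) := (fun z => x⁻¹ * z) '' Y with hY2
  have hxN : x ∈ N := le_normalizer hxU
  have hxN' : x⁻¹ ∈ N := Subgroup.inv_mem _ hxN
  have hYN : ∀ t ∈ Y, t ∉ N := fun t ht => invol_not_mem_norm_GU h3 hF hU ht.1 ht.2.1
  rw [Sol2.card_sol_eq x (N ∪ Y ∪ Y1 ∪ Y2)]
  · have hcN : N.ncard = (24 * j + 3) * (12 * j + 1) := by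
      rw [← card_norm_GU h3 hF hU, ← Nat.card_coe_set_eq]
      rfl
    have hcY1 : Y1.ncard = Y.ncard := Set.ncard_image_of_injective _ (mul_right_injective x)
    have hcY2 : Y2.ncard = Y.ncard := Set.ncard_image_of_injective _ (mul_right_injective x⁻¹)
    have hd1 : Disjoint N Y := by
      rw [Set.disjoint_left]
      intro t htN htY
      exact hYN t htY htN
    have hd2 : Disjoint (N ∪ Y) Y1 := by
      rw [Set.disjoint_left]
      rintro y hy ⟨t, htY, rfl⟩
      rcases hy with hy | hy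
      · apply hYN t htY
        have : t = x⁻¹ * (x * t) := by group
        rw [this]
        exact Subgroup.mul_mem _ hxN' hy
      · -- `x t = t'` with both involutions
        have h5 : (x * t) * t = x := by rw [mul_assoc, htY.1, mul_one]
        exact invol_mul_not_mem_GU h3 hF hU hy.1 htY.1 htY.2.1 (by rw [h5]; exact hxU)
          (by rw [h5]; exact hx1)
    have hd3 : Disjoint (N ∪ Y ∪ Y1) Y2 := by
      rw [Set.disjoint_left]
      rintro y hy ⟨t, htY, rfl⟩
      rcases hy with (hy | hy) | ⟨t', ht'Y, hy⟩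
      · apply hYN t htY
        have : t = x * (x⁻¹ * t) := by group
        rw [this]
        exact Subgroup.mul_mem _ hxN hy
      · have h5 : (x⁻¹ * t) * t = x⁻¹ := by rw [mul_assoc, htY.1, mul_one]
        exact invol_mul_not_mem_GU h3 hF hU hy.1 htY.1 htY.2.1
          (by rw [h5]; exact U.inv_mem hxU) (by rw [h5]; exact hxi1)
      · -- `x t' = x⁻¹ t`
        simp only at hy
        have h5 : t * t' = x * x := by
          have h6 : t = x * (x * t') := by
            rw [hy]; group
          rw [h6, mul_assoc, mul_assoc, ht'Y.1, mul_one]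
        exact invol_mul_not_mem_GU h3 hF hU htY.1 ht'Y.1 ht'Y.2.1
          (by rw [h5]; exact U.mul_mem hxU hxU) (by rw [h5, ← hxi]; exact hxi1)
    rw [Nat.card_coe_set_eq, Set.ncard_union_eq hd3 (Set.toFinite _) (Set.toFinite _),
      Set.ncard_union_eq hd2 (Set.toFinite _) (Set.toFinite _),
      Set.ncard_union_eq hd1 (Set.toFinite _) (Set.toFinite _), hcN, hcY1, hcY2]
    ring
  · intro y
    rw [three_iff h3 hF hU hxU hx1 hx3 y]
    constructor
    · rintro (h | ⟨t, ht, rfl | rfl | rfl⟩)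
      · exact Or.inl (Or.inl (Or.inl h))
      · exact Or.inl (Or.inl (Or.inr ht))
      · exact Or.inl (Or.inr ⟨t, ht, rfl⟩)
      · exact Or.inr ⟨t, ht, rfl⟩
    · rintro (((h | h) | ⟨t, ht, rfl⟩) | ⟨t, ht, rfl⟩)
      · exact Or.inl h
      · exact Or.inr ⟨y, h, Or.inl rfl⟩
      · exact Or.inr ⟨t, ht, Or.inr (Or.inl rfl)⟩
      · exact Or.inr ⟨t, ht, Or.inr (Or.inr rfl)⟩

end

end Cfsg.Agent.Helper8.Sol3
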