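import Mathlib
import Cfsg.Agent.Helper8.Sol3J

set_option autoImplicit false

/-!
Solubilizers in `PSL₂(3^p)`: the involutions attached to a unipotent element, explicitly.
-/

namespace Cfsg.Agent.Helper8.Sol3

open Matrix Cfsg.Agent.Helper7.SL2 Cfsg.Agent.Helper8.SL2C Subgroup Cfsg.Agent.Helper8.Dk
open scoped Matrix

variable {F : Type*} [Field F]

theorem tr_one' : tr (1 : SpecialLinearGroup (Fin 2) F) = 2 := by
  unfold tr
  rw [one_00, one_11]
  norm_num

/-- the involutions of `PSL₂` are the images of the matrices of trace zero -/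
theorem invol_iff_tr (h2 : (2 : F) ≠ 0) (T : SpecialLinearGroup (Fin 2) F) :
    (pmk T * pmk T = 1 ∧ pmk T ≠ 1) ↔ tr T = 0 := by
  constructor
  · rintro ⟨htt, ht1⟩
    rw [pmk_mul, pmk_eq_one_iff] at htt
    rcases htt with h | h
    · exfalso
      apply ht1
      rw [pmk_eq_one_iff]
      exact eq_one_or_neg_one_of_sq h2 h
    · have e00 := congrArg (fun g : SpecialLinearGroup (Fin 2) F =>
        (g : Matrix (Fin 2) (Fin 2) F) 0 0) h
      have e11 := congrArg (fun g : SpecialLinearGroup (Fin 2) F =>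
        (g : Matrix (Fin 2) (Fin 2) F) 1 1) h
      simp only [coe_mul_apply, Cfsg.Agent.Helper8.SL2C.neg_apply, one_00, one_11] at e00 e11
      have hd := det_eq T
      have hsq : tr T ^ 2 = 0 := by
        unfold tr
        linear_combination e00 + e11 + 2 * hd
      exact pow_eq_zero_iff (two_ne_zero) |>.mp hsq
  · intro ht
    constructor
    · rw [pmk_mul, sq_eq_neg_one_of_tr ht, pmk_eq_one_iff]
      right; rfl
    · intro h
      rw [pmk_eq_one_iff] at h
      rcases h with h | h
      · rw [h, tr_one'] at ht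
        exact h2 ht
      · rw [h, tr_neg, tr_one'] at ht
        apply h2
        linear_combination -ht

/-- the trace of the product of a matrix of trace zero with its conjugate under a unipotent -/
theorem tr_mul_conj_up (β₀ : F) (T : SpecialLinearGroup (Fin 2) F) (ht : tr T = 0) :
    tr (T * (up β₀ * T * (up β₀)⁻¹)) =
      -2 - β₀ ^ 2 * (T : Matrix (Fin 2) (Fin 2) F) 1 0 ^ 2 := by
  have hd := det_eq T
  unfold tr at ht ⊢
  have h11 : (T : Matrix (Fin 2) (Fin 2) F) 1 1 = -(T : Matrix (Fin 2) (Fin 2) F) 0 0 := by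
    linear_combination ht
  obtain ⟨i00, i01, i10, i11⟩ := coe_inv_apply (up β₀)
  simp only [coe_mul_apply, i00, i01, i10, i11, up_00, up_01, up_10, up_11]
  rw [h11] at hd ⊢
  linear_combination (-2 : F) * hd

theorem pmk_up_ne_one (h2 : (2 : F) ≠ 0) {β₀ : F} (hβ : β₀ ≠ 0) : pmk (up β₀) ≠ 1 := by
  intro h
  rcases pmk_eq_one_iff.mp h with h | h
  · have := congrArg (fun g : SpecialLinearGroup (Fin 2) F =>
      (g : Matrix (Fin 2) (Fin 2) F) 0 1) h
    simp only [up_01, one_01] at this
    exact hβ this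
  · have := congrArg (fun g : SpecialLinearGroup (Fin 2) F =>
      (g : Matrix (Fin 2) (Fin 2) F) 0 0) h
    simp only [up_00, Cfsg.Agent.Helper8.SL2C.neg_apply, one_00] at this
    apply h2
    linear_combination this

theorem pmk_up_cube' (h3 : (3 : F) = 0) (β₀ : F) :
    pmk (up β₀) * pmk (up β₀) * pmk (up β₀) = 1 := by
  have := pmk_up_cube h3 β₀
  rwa [pow_succ, pow_two] at this

variable [Fintype F]

section

variable {j : ℕ} (h3 : (3 : F) = 0) (hF : Fintype.card F = 24 * j + 3)
include h3 hF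

theorem Yinv_up_iff {β₀ : F} (hβ : β₀ ≠ 0) (T : SpecialLinearGroup (Fin 2) F) :
    pmk T ∈ Yinv (pmk (up β₀)) ↔
      tr T = 0 ∧ (β₀ * (T : Matrix (Fin 2) (Fin 2) F) 1 0) ^ 2 = 1 := by
  have h2 := two_ne_zero3 h3
  have hx1 := pmk_up_ne_one h2 hβ
  have hx3 := pmk_up_cube' h3 β₀
  have hlift : pmk T * (pmk (up β₀) * pmk T * (pmk (up β₀))⁻¹) =
      pmk (T * (up β₀ * T * (up β₀)⁻¹)) := rfl
  have hconjsq : pmk T * pmk T = 1 → (pmk (up β₀) * pmk T * (pmk (up β₀))⁻¹) *
      (pmk (up β₀) * pmk T * (pmk (up β₀))⁻¹) = 1 := by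
    intro htt
    calc (pmk (up β₀) * pmk T * (pmk (up β₀))⁻¹) * (pmk (up β₀) * pmk T * (pmk (up β₀))⁻¹)
        = pmk (up β₀) * (pmk T * pmk T) * (pmk (up β₀))⁻¹ := by group
      _ = 1 := by rw [htt]; group
  constructor
  · rintro ⟨htt, ht1, hcomm⟩
    have htr := (invol_iff_tr h2 T).mp ⟨htt, ht1⟩
    refine ⟨htr, ?_⟩
    have hsq : (pmk T * (pmk (up β₀) * pmk T * (pmk (up β₀))⁻¹)) *
        (pmk T * (pmk (up β₀) * pmk T * (pmk (up β₀))⁻¹)) = 1 := by
      calc (pmk T * (pmk (up β₀) * pmk T * (pmk (up β₀))⁻¹)) *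
          (pmk T * (pmk (up β₀) * pmk T * (pmk (up β₀))⁻¹))
          = pmk T * ((pmk (up β₀) * pmk T * (pmk (up β₀))⁻¹) * pmk T) *
            (pmk (up β₀) * pmk T * (pmk (up β₀))⁻¹) := by group
        _ = pmk T * (pmk T * (pmk (up β₀) * pmk T * (pmk (up β₀))⁻¹)) *
            (pmk (up β₀) * pmk T * (pmk (up β₀))⁻¹) := by rw [hcomm]
        _ = (pmk T * pmk T) * ((pmk (up β₀) * pmk T * (pmk (up β₀))⁻¹) *
            (pmk (up β₀) * pmk T * (pmk (up β₀))⁻¹)) := by group
        _ = 1 := by rw [htt, hconjsq htt, one_mul]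
    have hne : pmk T * (pmk (up β₀) * pmk T * (pmk (up β₀))⁻¹) ≠ 1 := by
      intro h
      apply not_comm_invol_of_cube h3 hF hx1 hx3 ht1 htt
      have hti : (pmk T)⁻¹ = pmk T := inv_eq_of_mul_eq_one_left htt
      have h5 : pmk (up β₀) * pmk T * (pmk (up β₀))⁻¹ = pmk T :=
        (inv_eq_of_mul_eq_one_right h).symm.trans hti
      calc pmk (up β₀) * pmk T = (pmk (up β₀) * pmk T * (pmk (up β₀))⁻¹) * pmk (up β₀) := by group
        _ = pmk T * pmk (up β₀) := by rw [h5]
    rw [hlift] at hsq hne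
    have h6 := (invol_iff_tr h2 _).mp ⟨hsq, hne⟩
    rw [tr_mul_conj_up β₀ T htr] at h6
    linear_combination -h6 - h3
  · rintro ⟨htr, hsq⟩
    obtain ⟨htt, ht1⟩ := (invol_iff_tr h2 T).mpr htr
    refine ⟨htt, ht1, ?_⟩
    have h6 : tr (T * (up β₀ * T * (up β₀)⁻¹)) = 0 := by
      rw [tr_mul_conj_up β₀ T htr]
      linear_combination -hsq - h3
    have h7 := ((invol_iff_tr h2 _).mpr h6).1
    rw [← hlift] at h7
    have h8 := hconjsq htt
    have hi : (pmk (up β₀) * pmk T * (pmk (up β₀))⁻¹)⁻¹ = pmk (up β₀) * pmk T * (pmk (up β₀))⁻¹ :=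
      inv_eq_of_mul_eq_one_left h8
    have hti : (pmk T)⁻¹ = pmk T := inv_eq_of_mul_eq_one_left htt
    have h9 := inv_eq_of_mul_eq_one_left h7
    rw [_root_.mul_inv_rev, hi, hti] at h9
    exact h9.symm

/-- the number of these involutions -/
theorem card_Yinv_up {β₀ : F} (hβ : β₀ ≠ 0) : (Yinv (pmk (up β₀))).ncard = 24 * j + 3 := by
  have h2 := two_ne_zero3 h3
  have hdet : ∀ α : F, α * (-α) - (-(α ^ 2 + 1) * β₀) * β₀⁻¹ = 1 := by
    intro α
    field_simp
    ring
  set f : F → ProjectiveSpecialLinearGroup (Fin 2) F :=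
    fun α => pmk (mk' α (-(α ^ 2 + 1) * β₀) β₀⁻¹ (-α) (hdet α)) with hf
  have hinj : Function.Injective f := by
    intro α α' h
    simp only [hf] at h
    rcases pmk_eq_iff.mp h with h | h
    · have := congrArg (fun g : SpecialLinearGroup (Fin 2) F =>
        (g : Matrix (Fin 2) (Fin 2) F) 0 0) h
      simpa only [mk'_00] using this
    · exfalso
      have := congrArg (fun g : SpecialLinearGroup (Fin 2) F =>
        (g : Matrix (Fin 2) (Fin 2) F) 1 0) h
      simp only [mk'_10, Cfsg.Agent.Helper8.SL2C.neg_apply] at this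
      have h5 : (2 : F) * β₀⁻¹ = 0 := by linear_combination this
      rcases mul_eq_zero.mp h5 with h6 | h6
      · exact h2 h6
      · exact hβ (inv_eq_zero.mp h6)
  have hrange : Yinv (pmk (up β₀)) = Set.range f := by
    ext t
    obtain ⟨T, rfl⟩ := pmk_surjective t
    rw [Yinv_up_iff h3 hF hβ T]
    constructor
    · rintro ⟨htr, hsq⟩
      -- normalise the sign
      have key : ∀ S : SpecialLinearGroup (Fin 2) F, tr S = 0 →
          β₀ * (S : Matrix (Fin 2) (Fin 2) F) 1 0 = 1 → pmk S ∈ Set.range f := by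
        intro S hS h10
        refine ⟨(S : Matrix (Fin 2) (Fin 2) F) 0 0, ?_⟩
        simp only [hf]
        congr 1
        have hd := det_eq S
        unfold tr at hS
        have h11 : (S : Matrix (Fin 2) (Fin 2) F) 1 1 = -(S : Matrix (Fin 2) (Fin 2) F) 0 0 := by
          linear_combination hS
        have hc : (S : Matrix (Fin 2) (Fin 2) F) 1 0 = β₀⁻¹ := by
          field_simp
          linear_combination h10
        apply ext'
        · rw [mk'_00]
        · rw [mk'_01]
          rw [h11, hc] at hd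
          have : (S : Matrix (Fin 2) (Fin 2) F) 0 1 * β₀⁻¹ * β₀ =
              (-((S : Matrix (Fin 2) (Fin 2) F) 0 0 ^ 2 + 1)) * β₀ := by
            linear_combination (-β₀) * hd
          rw [mul_assoc, inv_mul_cancel₀ hβ, mul_one] at this
          exact this.symm
        · rw [mk'_10, hc]
        · rw [mk'_11, h11]
      have h5 : (β₀ * (T : Matrix (Fin 2) (Fin 2) F) 1 0 - 1) *
          (β₀ * (T : Matrix (Fin 2) (Fin 2) F) 1 0 + 1) = 0 := by linear_combination hsq
      rcases mul_eq_zero.mp h5 with h6 | h6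
      · exact key T htr (by linear_combination h6)
      · rw [← pmk_neg]
        apply key (-T)
        · rw [tr_neg, htr, neg_zero]
        · rw [Cfsg.Agent.Helper8.SL2C.neg_apply]
          linear_combination -h6
    · rintro ⟨α, hα⟩
      simp only [hf] at hα
      rcases pmk_eq_iff.mp hα with h | h
      · rw [← h]
        constructor
        · unfold tr
          rw [mk'_00, mk'_11]; ring
        · rw [mk'_10, mul_inv_cancel₀ hβ, one_pow]
      · have hT : T = -(mk' α (-(α ^ 2 + 1) * β₀) β₀⁻¹ (-α) (hdet α)) := by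
          rw [h, neg_neg]
        rw [hT]
        constructor
        · rw [tr_neg]
          unfold tr
          rw [mk'_00, mk'_11]; ring
        · rw [Cfsg.Agent.Helper8.SL2C.neg_apply, mk'_10]
          have : β₀ * -β₀⁻¹ = -1 := by
            rw [mul_neg, mul_inv_cancel₀ hβ]
          rw [this]; ring
  rw [hrange, ← Set.image_univ, Set.ncard_image_of_injective _ hinj, Set.ncard_univ,
    Nat.card_eq_fintype_card, hF]

end

end Cfsg.Agent.Helper8.Sol3
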