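import Mathlib
import Cfsg.Agent.Helper8.Sol3K

set_option autoImplicit false

/-!
Solubilizers in `PSL₂(3^p)`: the elements of order three.
-/

namespace Cfsg.Agent.Helper8.Sol3

open Matrix Cfsg.Agent.Helper7.SL2 Cfsg.Agent.Helper8.SL2C Subgroup Cfsg.Agent.Helper8.Dk
open scoped Matrix

variable {F : Type*} [Field F] [Fintype F]

section

variable {j : ℕ} (h3 : (3 : F) = 0) (hF : Fintype.card F = 24 * j + 3)
include h3 hF

/-- an element with `x³ = 1` is unipotent -/
theorem exists_conj_up3 (x : ProjectiveSpecialLinearGroup (Fin 2) F) (hx1 : x ≠ 1)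
    (hx3 : x * x * x = 1) :
    ∃ (g : ProjectiveSpecialLinearGroup (Fin 2) F) (β : F), β ≠ 0 ∧
      x = g * pmk (up β) * g⁻¹ := by
  have hx : orderOf x = 3 := orderOf_eq_three hx1 hx3
  obtain ⟨X, rfl⟩ := pmk_surjective x
  have hup : ∀ β : F, ∀ g : ProjectiveSpecialLinearGroup (Fin 2) F,
      pmk X = g * pmk (up β) * g⁻¹ → ∃ (g : ProjectiveSpecialLinearGroup (Fin 2) F) (β : F),
        β ≠ 0 ∧ pmk X = g * pmk (up β) * g⁻¹ := by
    intro β g hg
    refine ⟨g, β, ?_, hg⟩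
    rintro rfl
    apply hx1
    rw [hg, up_zero]
    change g * 1 * g⁻¹ = 1
    group
  rcases classify X with hE | ⟨a, ha, hc⟩ | ⟨β, hc⟩ | ⟨β, hc⟩
  · exfalso
    have h4 := pow_card_add_one_of_ell hE
    rw [hF] at h4
    have h5 : pmk X ^ (24 * j + 3 + 1) = 1 := by
      rw [pmk_pow, h4]; rfl
    have h6 : orderOf (pmk X) ∣ 24 * j + 3 + 1 := orderOf_dvd_of_pow_eq_one h5
    rw [hx] at h6
    omega
  · exfalso
    obtain ⟨g, hg⟩ := pmk_of_isConj hc
    have h4 := pow_card_sub_one_tor a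
    rw [hF] at h4
    have h5 : pmk X ^ (24 * j + 3 - 1) = 1 := by
      rw [hg, conj_pow, pmk_pow, h4]
      change g * 1 * g⁻¹ = 1
      group
    have h6 : orderOf (pmk X) ∣ 24 * j + 3 - 1 := orderOf_dvd_of_pow_eq_one h5
    rw [hx] at h6
    omega
  · obtain ⟨g, hg⟩ := pmk_of_isConj hc
    exact hup β g hg
  · obtain ⟨g, hg⟩ := pmk_of_isConj hc
    rw [pmk_neg] at hg
    exact hup β g hg

/-- elements of order three -/
theorem case_three (x : ProjectiveSpecialLinearGroup (Fin 2) F) (hx : orderOf x = 3) :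
    2 * Nat.card {y : ProjectiveSpecialLinearGroup (Fin 2) F //
      Group.IsSolvable (closure ({x, y} : Set (ProjectiveSpecialLinearGroup (Fin 2) F)))} =
      (24 * j + 3) * (24 * j + 8) := by
  have h2 := two_ne_zero3 h3
  have hx1 : x ≠ 1 := by
    intro h
    rw [h, orderOf_one] at hx
    omega
  have hx3 : x * x * x = 1 := by
    have := pow_orderOf_eq_one x
    rwa [hx, pow_succ, pow_two] at this
  obtain ⟨g, β, hβ, rfl⟩ := exists_conj_up3 h3 hF x hx1 hx3
  have hU : pmk (up β) ∈ M0 F :=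
    Subgroup.mem_map_of_mem (ph F) ⟨up_10 β, by rw [up_00, up_11]⟩
  rw [Sol2.card_sol_conj, card_sol_three h3 hF M0_mem_GU hU (pmk_up_ne_one h2 hβ)
    (pmk_up_cube' h3 β), card_Yinv_up h3 hF hβ]
  ring

end

end Cfsg.Agent.Helper8.Sol3
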