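import Mathlib
import Cfsg.Agent.Helper8.Sol3L

set_option autoImplicit false

/-!
Solubilizers in `PSL₂(3^p)`: the involutions, criterion.
-/

namespace Cfsg.Agent.Helper8.Sol3

open Matrix Cfsg.Agent.Helper7.SL2 Cfsg.Agent.Helper8.SL2C Subgroup Cfsg.Agent.Helper8.Dk
open scoped Matrix

/-- the elements of order three moving `t` to an involution commuting with `t` -/
def Y3 {G : Type*} [Group G] (t : G) : Set G :=
  {y | y ≠ 1 ∧ y * y * y = 1 ∧ t * (y * t * y⁻¹) = (y * t * y⁻¹) * t}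

theorem mem_Y3_iff {G : Type*} [Group G] {t y : G} (htt : t * t = 1) (ht1 : t ≠ 1) :
    y ∈ Y3 t ↔ y ≠ 1 ∧ y * y * y = 1 ∧ t ∈ Yinv y := by
  constructor
  · rintro ⟨h1, h2, h3⟩
    exact ⟨h1, h2, htt, ht1, h3⟩
  · rintro ⟨h1, h2, -, -, h3⟩
    exact ⟨h1, h2, h3⟩

variable {F : Type*} [Field F] [Fintype F]

section

variable {j : ℕ} (h3 : (3 : F) = 0) (hF : Fintype.card F = 24 * j + 3)
include h3 hF

/-- the criterion for an involution -/
theorem invol_iff3 {t : ProjectiveSpecialLinearGroup (Fin 2) F} (ht1 : t ≠ 1) (htt : t * t = 1)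
    {M : Subgroup (ProjectiveSpecialLinearGroup (Fin 2) F)} (hM : M ∈ GT F) (htM : t ∈ M)
    (y : ProjectiveSpecialLinearGroup (Fin 2) F) :
    Group.IsSolvable (closure ({t, y} : Set (ProjectiveSpecialLinearGroup (Fin 2) F))) ↔
      y * y = 1 ∨ y ∈ M ∨ t * y * t⁻¹ = y⁻¹ ∨ y ∈ Y3 t := by
  constructor
  · intro hs
    rcases (solvable_iff3 h3 hF t y ht1).mp hs with ⟨M', hM', htM', hyM'⟩ | ⟨a, b, hKP, htN, hyN⟩
    · rcases mem_GM_iff.mp hM' with hU | hT
      · exact absurd htM' (invol_not_mem_norm_GU h3 hF hU htt ht1)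
      · by_cases hyM'' : y ∈ M'
        · by_cases htM'' : t ∈ M'
          · right; left
            rw [GM_ti M (GT_sub_GM hM) M' hM' t ht1 htM htM'']
            exact hyM''
          · right; right; left
            exact GT_inv_of_not_mem M' hT t htM' htM'' y hyM''
        · left
          exact GT_sq_of_not_mem M' hT y hyM' hyM''
    · have htV := mem_KV_of_sq h3 hF hKP htN htt
      by_cases hyV : y ∈ KV a b
      · left
        exact KV_sq h3 hF hKP hyV
      · right; right; right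
        refine ⟨?_, NV_cube h3 hF hKP hyN hyV, KV_abelian h3 hF hKP htV (conj_mem_KV hyN htV)⟩
        rintro rfl
        exact hyV (Subgroup.one_mem _)
  · have hinv : ∀ z : ProjectiveSpecialLinearGroup (Fin 2) F, z * z = 1 →
        Group.IsSolvable (closure ({t, z} : Set (ProjectiveSpecialLinearGroup (Fin 2) F))) := by
      intro z hzz
      obtain ⟨M', hM', h1, h2⟩ := Sol2.two_invol t z htt hzz ht1
      exact (solvable_iff3 h3 hF t z ht1).mpr (Or.inl ⟨M', hM', h1, h2⟩)
    rintro (hyy | hyM | hinvy | hY)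
    · exact hinv y hyy
    · exact (solvable_iff3 h3 hF t y ht1).mpr
        (Or.inl ⟨M, GT_sub_GM hM, le_normalizer htM, le_normalizer hyM⟩)
    · by_cases hy1 : y = 1
      · apply hinv y
        rw [hy1, one_mul]
      · obtain ⟨M', hM', hyM'⟩ := GM_cover y hy1
        apply (solvable_iff3 h3 hF t y ht1).mpr
        refine Or.inl ⟨M', hM', ?_, le_normalizer hyM'⟩
        apply Sol2.mem_normalizer_of_conj_mem M' hM' y hyM' hy1
        rw [hinvy]
        exact M'.inv_mem hyM'
    · obtain ⟨hy1, hy3, hYinv⟩ := (mem_Y3_iff htt ht1).mp hY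
      obtain ⟨hKP, hyN⟩ := KP_of_Yinv h3 hF hy1 hy3 hYinv
      exact (solvable_iff3 h3 hF t y ht1).mpr
        (Or.inr ⟨t, y * t * y⁻¹, hKP, KV_le_NV _ _ hKP.a_mem, hyN⟩)

end

end Cfsg.Agent.Helper8.Sol3
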