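import Mathlib
import Cfsg.Agent.Helper8.Sol3M

set_option autoImplicit false

/-!
Solubilizers in `PSL₂(3^p)`: the involutions, decomposition of the solubilizer.
-/

namespace Cfsg.Agent.Helper8.Sol3

open Matrix Cfsg.Agent.Helper7.SL2 Cfsg.Agent.Helper8.SL2C Subgroup Cfsg.Agent.Helper8.Dk
open scoped Matrix

variable {F : Type*} [Field F] [Fintype F]

section

variable {j : ℕ} (h3 : (3 : F) = 0) (hF : Fintype.card F = 24 * j + 3)
include h3 hF

/-- the member of an involution has order `(q + 1) / 2` -/
theorem card_member_invol {t : ProjectiveSpecialLinearGroup (Fin 2) F} (ht1 : t ≠ 1)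
    (htt : t * t = 1) {M : Subgroup (ProjectiveSpecialLinearGroup (Fin 2) F)} (hM : M ∈ GT F)
    (htM : t ∈ M) : Nat.card M = 12 * j + 2 := by
  rcases card_of_GT h3 hF hM with h | h
  · exact h
  · exfalso
    have h2 : orderOf t = 2 := by
      apply orderOf_eq_prime
      · rw [pow_two]; exact htt
      · exact ht1
    have h4 : orderOf t ∣ Nat.card M := Subgroup.orderOf_dvd_natCard M htM
    rw [h2, h] at h4
    omega

/-- the involutions centralising `t`, together with `1` -/
theorem ncard_invol_cent {t : ProjectiveSpecialLinearGroup (Fin 2) F} (ht1 : t ≠ 1)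
    (htt : t * t = 1) {M : Subgroup (ProjectiveSpecialLinearGroup (Fin 2) F)} (hM : M ∈ GT F)
    (htM : t ∈ M) :
    ({y : ProjectiveSpecialLinearGroup (Fin 2) F | y * y = 1} ∩ {s | s * t = t * s}).ncard =
      12 * j + 4 := by
  have hti : t⁻¹ = t := inv_eq_of_mul_eq_one_left htt
  set N : Set (ProjectiveSpecialLinearGroup (Fin 2) F) :=
    SetLike.coe (normalizer (M : Set (ProjectiveSpecialLinearGroup (Fin 2) F))) with hN
  set Ms : Set (ProjectiveSpecialLinearGroup (Fin 2) F) := SetLike.coe M with hMs
  have hMN : Ms ⊆ N := fun y hy => le_normalizer hy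
  have hcM : Ms.ncard = 12 * j + 2 := by
    rw [← card_member_invol h3 hF ht1 htt hM htM, ← Nat.card_coe_set_eq]
    rfl
  have hcN : N.ncard = 24 * j + 4 := by
    have := card_normalizer_GT hM
    rw [card_member_invol h3 hF ht1 htt hM htM] at this
    rw [show 24 * j + 4 = 2 * (12 * j + 2) by ring, ← this, ← Nat.card_coe_set_eq]
    rfl
  have hset : ({y : ProjectiveSpecialLinearGroup (Fin 2) F | y * y = 1} ∩ {s | s * t = t * s}) =
      {1, t} ∪ (N \ Ms) := by
    ext s
    simp only [Set.mem_inter_iff, Set.mem_setOf_eq, Set.mem_union, Set.mem_insert_iff,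
      Set.mem_singleton_iff, Set.mem_sdiff]
    constructor
    · rintro ⟨hss, hst⟩
      have hsN : s ∈ N := cent_le_normalizer M (GT_sub_GM hM) t htM ht1 s hst
      by_cases hsM : s ∈ M
      · left
        by_cases hs1 : s = 1
        · exact Or.inl hs1
        · exact Or.inr (GT_unique_invol M hM hsM htM hss htt hs1 ht1)
      · exact Or.inr ⟨hsN, hsM⟩
    · rintro ((rfl | rfl) | ⟨hsN, hsM⟩)
      · exact ⟨one_mul 1, by rw [one_mul, mul_one]⟩
      · exact ⟨htt, rfl⟩
      · refine ⟨GT_sq_of_not_mem M hM s hsN hsM, ?_⟩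
        have := GT_inv_of_not_mem M hM s hsN hsM t htM
        rw [hti] at this
        calc s * t = (s * t * s⁻¹) * s := by group
          _ = t * s := by rw [this]
  have hd : Disjoint ({1, t} : Set (ProjectiveSpecialLinearGroup (Fin 2) F)) (N \ Ms) := by
    rw [Set.disjoint_left]
    rintro s (rfl | rfl) ⟨-, hsM⟩
    · exact hsM M.one_mem
    · exact hsM htM
  rw [hset, Set.ncard_union_eq hd (Set.toFinite _) (Set.toFinite _), Set.ncard_pair ht1.symm,
    Set.ncard_sdiff' hMN (Set.toFinite _), hcN, hcM]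
  omega

/-- the solubilizer of an involution, in terms of the number of involutions and of `Y3` -/
theorem card_sol_invol {t : ProjectiveSpecialLinearGroup (Fin 2) F} (ht1 : t ≠ 1)
    (htt : t * t = 1) :
    Nat.card {y : ProjectiveSpecialLinearGroup (Fin 2) F //
      Group.IsSolvable (closure ({t, y} : Set (ProjectiveSpecialLinearGroup (Fin 2) F)))} +
        (12 * j + 4) =
      2 * ({y : ProjectiveSpecialLinearGroup (Fin 2) F | y * y = 1}).ncard + 12 * j +
        (Y3 t).ncard := by
  obtain ⟨M, hM', htM⟩ := GM_cover t ht1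
  have hM := GT_of_invol h3 hF hM' htM ht1 htt
  have hti : t⁻¹ = t := inv_eq_of_mul_eq_one_left htt
  set S1 : Set (ProjectiveSpecialLinearGroup (Fin 2) F) := {y | y * y = 1} with hS1
  set S2 : Set (ProjectiveSpecialLinearGroup (Fin 2) F) := {y | y ∈ M ∧ y * y ≠ 1} with hS2
  set S3 : Set (ProjectiveSpecialLinearGroup (Fin 2) F) :=
    {y | y * y ≠ 1 ∧ t * y * t⁻¹ = y⁻¹} with hS3
  set Ct : Set (ProjectiveSpecialLinearGroup (Fin 2) F) := {s | s * t = t * s} with hCt
  set Ms : Set (ProjectiveSpecialLinearGroup (Fin 2) F) := SetLike.coe M with hMs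
  have hcM : Ms.ncard = 12 * j + 2 := by
    rw [← card_member_invol h3 hF ht1 htt hM htM, ← Nat.card_coe_set_eq]
    rfl
  -- the second set
  have hS2' : S2 = Ms \ {1, t} := by
    ext y
    simp only [hS2, Set.mem_setOf_eq, Set.mem_sdiff, Set.mem_insert_iff, Set.mem_singleton_iff]
    constructor
    · rintro ⟨hyM, hyy⟩
      refine ⟨hyM, ?_⟩
      rintro (rfl | rfl)
      · exact hyy (one_mul 1)
      · exact hyy htt
    · rintro ⟨hyM, hy⟩
      refine ⟨hyM, fun hyy => hy ?_⟩
      by_cases hy1 : y = 1
      · exact Or.inl hy1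
      · exact Or.inr (GT_unique_invol M hM hyM htM hyy htt hy1 ht1)
  have hsub : ({1, t} : Set (ProjectiveSpecialLinearGroup (Fin 2) F)) ⊆ Ms := by
    rintro s (rfl | rfl)
    · exact M.one_mem
    · exact htM
  have hcS2 : S2.ncard = 12 * j := by
    rw [hS2', Set.ncard_sdiff' hsub (Set.toFinite _), hcM, Set.ncard_pair ht1.symm]
    omega
  -- the third set
  have hS3' : S3 = (fun s => t * s) '' (S1 \ Ct) := by
    ext y
    simp only [hS3, hS1, hCt, Set.mem_setOf_eq, Set.mem_image, Set.mem_sdiff]
    constructor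
    · rintro ⟨hyy, hinv⟩
      rw [hti] at hinv
      refine ⟨t * y, ⟨?_, ?_⟩, ?_⟩
      · calc t * y * (t * y) = (t * y * t) * y := by group
          _ = 1 := by rw [hinv, inv_mul_cancel]
      · intro hc
        apply hyy
        have h5 : t * y * t = y := by
          calc t * y * t = t * (t * y) := hc
            _ = (t * t) * y := by group
            _ = y := by rw [htt, one_mul]
        rw [hinv] at h5
        calc y * y = y⁻¹ * y := by rw [h5]
          _ = 1 := inv_mul_cancel y
      · calc t * (t * y) = (t * t) * y := by group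
          _ = y := by rw [htt, one_mul]
    · rintro ⟨s, ⟨hss, hsc⟩, rfl⟩
      have hsi : s⁻¹ = s := inv_eq_of_mul_eq_one_left hss
      constructor
      · intro h
        apply hsc
        have := inv_eq_of_mul_eq_one_left h
        rw [_root_.mul_inv_rev, hsi, hti] at this
        exact this
      · rw [_root_.mul_inv_rev, hsi, hti]
        calc t * (t * s) * t = (t * t) * s * t := by group
          _ = s * t := by rw [htt, one_mul]
  have hcS3 : S3.ncard + (12 * j + 4) = S1.ncard := by
    rw [hS3', Set.ncard_image_of_injective _ (mul_right_injective t),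
      ← ncard_invol_cent h3 hF ht1 htt hM htM, add_comm]
    exact Set.ncard_inter_add_ncard_sdiff_eq_ncard S1 Ct (Set.toFinite _)
  -- disjointness
  have hd1 : Disjoint S1 S2 := by
    rw [Set.disjoint_left]
    intro y hy1 hy2
    exact hy2.2 hy1
  have hd2 : Disjoint (S1 ∪ S2) S3 := by
    rw [Set.disjoint_left]
    rintro y (hy | hy) hy3
    · exact hy3.1 hy
    · apply hy.2
      have hc := GM_comm M (GT_sub_GM hM) t htM y hy.1
      have h5 : t * y * t⁻¹ = y := by rw [hc, mul_inv_cancel_right]
      rw [hy3.2] at h5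
      calc y * y = y⁻¹ * y := by rw [h5]
        _ = 1 := inv_mul_cancel y
  have hd3 : Disjoint (S1 ∪ S2 ∪ S3) (Y3 t) := by
    rw [Set.disjoint_left]
    rintro y ((hy | hy) | hy) ⟨hy1, hy3, -⟩
    · exact hy1 (eq_one_of_sq_of_cube hy hy3)
    · exact not_cube_GT h3 hF hM hy.1 hy1 hy3
    · obtain ⟨M', hM', hyM'⟩ := GM_cover y hy1
      have htN : t ∈ normalizer (M' : Set (ProjectiveSpecialLinearGroup (Fin 2) F)) := by
        apply Sol2.mem_normalizer_of_conj_mem M' hM' y hyM' hy1
        rw [hy.2]
        exact M'.inv_mem hyM'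
      rcases mem_GM_iff.mp hM' with hU | hT
      · exact invol_not_mem_norm_GU h3 hF hU htt ht1 htN
      · exact not_cube_GT h3 hF hT hyM' hy1 hy3
  rw [Sol2.card_sol_eq t (S1 ∪ S2 ∪ S3 ∪ Y3 t)]
  · rw [Nat.card_coe_set_eq, Set.ncard_union_eq hd3 (Set.toFinite _) (Set.toFinite _),
      Set.ncard_union_eq hd2 (Set.toFinite _) (Set.toFinite _),
      Set.ncard_union_eq hd1 (Set.toFinite _) (Set.toFinite _), hcS2, ← hcS3]
    ring
  · intro y
    rw [invol_iff3 h3 hF ht1 htt hM htM y]
    by_cases hyy : y * y = 1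
    · constructor
      · intro _
        exact Or.inl (Or.inl (Or.inl hyy))
      · intro _
        exact Or.inl hyy
    · constructor
      · rintro (h | h | h | h)
        · exact absurd h hyy
        · exact Or.inl (Or.inl (Or.inr ⟨h, hyy⟩))
        · exact Or.inl (Or.inr ⟨hyy, h⟩)
        · exact Or.inr h
      · rintro (((h | h) | h) | h)
        · exact absurd h hyy
        · exact Or.inr (Or.inl h.1)
        · exact Or.inr (Or.inr (Or.inl h.2))
        · exact Or.inr (Or.inr (Or.inr h))

end

end Cfsg.Agent.Helper8.Sol3
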