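import Mathlib
import Cfsg.Agent.Helper8.Sol3N

set_option autoImplicit false

/-!
Solubilizers in `PSL₂(3^p)`: the number of involutions.
-/

namespace Cfsg.Agent.Helper8.Sol3

open Matrix Cfsg.Agent.Helper7.SL2 Cfsg.Agent.Helper8.SL2C Subgroup Cfsg.Agent.Helper8.Dk
open scoped Matrix

variable {F : Type*} [Field F] [Fintype F]

section

variable {j : ℕ} (h3 : (3 : F) = 0) (hF : Fintype.card F = 24 * j + 3)
include h3 hF

omit h3 in
theorem not_isSquare_neg_one : ¬ IsSquare (-1 : F) := by
  rw [FiniteField.isSquare_neg_one_iff, hF]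
  intro h
  apply h
  omega

/-- the solutions of `y * y = 1`: the identity and one conjugacy class -/
theorem sq_eq_one_iff (y : ProjectiveSpecialLinearGroup (Fin 2) F) :
    y * y = 1 ↔ y = 1 ∨ IsConj (pmk (comp (0 : F))) y := by
  have h2 := two_ne_zero3 h3
  have h4 : (0 : F) ^ 2 ≠ 4 := by
    intro h
    have : (1 : F) = 0 := by linear_combination -h3 - h
    exact one_ne_zero this
  constructor
  · intro hyy
    by_cases hy1 : y = 1
    · exact Or.inl hy1
    · right
      obtain ⟨Y, rfl⟩ := pmk_surjective y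
      have htr := (invol_iff_tr h2 Y).mp ⟨hyy, hy1⟩
      have hc := isConj_comp_of_tr_sq_ne (g := Y) (by rw [htr]; exact h4)
      rw [htr] at hc
      exact (isConj_pmk hc).symm
  · rintro (rfl | hc)
    · exact one_mul 1
    · obtain ⟨c, rfl⟩ := isConj_iff.mp hc
      have h5 := ((invol_iff_tr h2 (comp (0 : F))).mpr (tr_comp 0)).1
      calc c * pmk (comp 0) * c⁻¹ * (c * pmk (comp 0) * c⁻¹) =
          c * (pmk (comp 0) * pmk (comp 0)) * c⁻¹ := by group
        _ = 1 := by rw [h5]; group

/-- the number of solutions of `y * y = 1` -/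
theorem ncard_invol :
    ({y : ProjectiveSpecialLinearGroup (Fin 2) F | y * y = 1}).ncard =
      (24 * j + 3) * (12 * j + 1) + 1 := by
  have h2 := two_ne_zero3 h3
  have hk : Fintype.card F = 2 * (12 * j + 1) + 1 := by rw [hF]; ring
  have hE : IsEll (comp (0 : F)) := by
    rw [isEll_iff_ellt, tr_comp, ellt_zero_iff]
    exact not_isSquare_neg_one hF
  have hcs := csize_ell_eq h2 hk hE (tr_comp 0)
  unfold csize at hcs
  rw [Cfsg.Agent.Helper4.index_centralizer_eq_card_conj] at hcs
  have ht1 : pmk (comp (0 : F)) ≠ 1 := ((invol_iff_tr h2 (comp (0 : F))).mpr (tr_comp 0)).2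
  have hset : {y : ProjectiveSpecialLinearGroup (Fin 2) F | y * y = 1} =
      insert 1 {y | IsConj (pmk (comp (0 : F))) y} := by
    ext y
    simp only [Set.mem_setOf_eq, Set.mem_insert_iff]
    exact sq_eq_one_iff h3 hF y
  have hnot : (1 : ProjectiveSpecialLinearGroup (Fin 2) F) ∉
      {y | IsConj (pmk (comp (0 : F))) y} := by
    intro h
    apply ht1
    obtain ⟨c, hc⟩ := isConj_iff.mp h
    have : pmk (comp (0 : F)) = c⁻¹ * (c * pmk (comp 0) * c⁻¹) * c := by group
    rw [this, hc]; group
  rw [hset, Set.ncard_insert_of_notMem hnot (Set.toFinite _), ← Nat.card_coe_set_eq]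
  have : Nat.card ↥{y | IsConj (pmk (comp (0 : F))) y} =
      Nat.card {y : ProjectiveSpecialLinearGroup (Fin 2) F // IsConj (pmk (comp (0 : F))) y} := rfl
  rw [this, hcs]
  ring

end

end Cfsg.Agent.Helper8.Sol3
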