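import Mathlib
import Cfsg.Agent.Helper8.Sol3O

set_option autoImplicit false

/-!
Solubilizers in `PSL₂(3^p)`: the number of solutions of `y³ = 1`.
-/

namespace Cfsg.Agent.Helper8.Sol3

open Matrix Cfsg.Agent.Helper7.SL2 Cfsg.Agent.Helper8.SL2C Subgroup Cfsg.Agent.Helper8.Dk
open scoped Matrix

variable {F : Type*} [Field F]

/-- the matrices of trace two are parametrised by `F × F` -/
noncomputable def trTwoEquiv [DecidableEq F] :
    {Y : SpecialLinearGroup (Fin 2) F // tr Y = 2} ≃ F × F where
  toFun Y := ((Y.1 : Matrix (Fin 2) (Fin 2) F) 1 0,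
    if (Y.1 : Matrix (Fin 2) (Fin 2) F) 1 0 = 0 then (Y.1 : Matrix (Fin 2) (Fin 2) F) 0 1
    else (Y.1 : Matrix (Fin 2) (Fin 2) F) 0 0)
  invFun p :=
    if h : p.1 = 0 then ⟨up p.2, tr_up p.2⟩
    else ⟨mk' p.2 ((p.2 * (2 - p.2) - 1) / p.1) p.1 (2 - p.2) (by field_simp; ring), by
      unfold tr
      rw [mk'_00, mk'_11]; ring⟩
  left_inv := by
    rintro ⟨Y, hY⟩
    have hd := det_eq Y
    unfold tr at hY
    have h11 : (Y : Matrix (Fin 2) (Fin 2) F) 1 1 = 2 - (Y : Matrix (Fin 2) (Fin 2) F) 0 0 := by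
      linear_combination hY
    by_cases h10 : (Y : Matrix (Fin 2) (Fin 2) F) 1 0 = 0
    · simp only [h10, if_true, dite_true]
      apply Subtype.ext
      simp only
      rw [h10, mul_zero, sub_zero, h11] at hd
      have h00 : (Y : Matrix (Fin 2) (Fin 2) F) 0 0 = 1 := by
        have : ((Y : Matrix (Fin 2) (Fin 2) F) 0 0 - 1) ^ 2 = 0 := by linear_combination -hd
        have := pow_eq_zero_iff (two_ne_zero) |>.mp this
        linear_combination this
      apply ext'
      · rw [up_00, h00]
      · rw [up_01]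
      · rw [up_10, h10]
      · rw [up_11, h11, h00]; ring
    · simp only [h10, if_false, dite_false]
      apply Subtype.ext
      simp only
      apply ext'
      · rw [mk'_00]
      · rw [mk'_01]
        rw [h11] at hd
        field_simp
        linear_combination hd
      · rw [mk'_10]
      · rw [mk'_11, h11]
  right_inv := by
    rintro ⟨c, s⟩
    by_cases hc : c = 0
    · simp only [hc, dite_true, up_10, up_01, if_true]
    · simp only [hc, dite_false, mk'_10, mk'_00, if_false]

theorem card_trTwo [Fintype F] :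
    Nat.card {Y : SpecialLinearGroup (Fin 2) F // tr Y = 2} = Fintype.card F ^ 2 := by
  classical
  rw [Nat.card_congr trTwoEquiv, Nat.card_prod, Nat.card_eq_fintype_card, pow_two]

variable [Fintype F]

section

variable {j : ℕ} (h3 : (3 : F) = 0) (hF : Fintype.card F = 24 * j + 3)
include h3 hF

/-- the solutions of `y³ = 1` are the images of the matrices of trace two -/
theorem cube_iff_tr (y : ProjectiveSpecialLinearGroup (Fin 2) F) :
    y * y * y = 1 ↔ ∃ Y : SpecialLinearGroup (Fin 2) F, tr Y = 2 ∧ pmk Y = y := by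
  constructor
  · intro hy3
    by_cases hy1 : y = 1
    · exact ⟨1, tr_one', by rw [hy1]; rfl⟩
    · obtain ⟨g, β, -, rfl⟩ := exists_conj_up3 h3 hF y hy1 hy3
      obtain ⟨c, rfl⟩ := pmk_surjective g
      exact ⟨c * up β * c⁻¹, by rw [tr_conj, tr_up], rfl⟩
  · rintro ⟨Y, hY, rfl⟩
    by_cases hY1 : Y = 1
    · rw [hY1]
      change (1 : ProjectiveSpecialLinearGroup (Fin 2) F) * 1 * 1 = 1
      rw [mul_one, mul_one]
    · obtain ⟨β, -, hc⟩ := isConj_up_of_tr hY hY1
      obtain ⟨g, hg⟩ := pmk_of_isConj hc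
      have h4 : pmk Y ^ 3 = 1 := by
        rw [hg, conj_pow, pmk_up_cube h3, mul_one, mul_inv_cancel]
      rwa [pow_succ, pow_two] at h4

/-- the number of solutions of `y³ = 1` -/
theorem ncard_cube :
    ({y : ProjectiveSpecialLinearGroup (Fin 2) F | y * y * y = 1}).ncard = (24 * j + 3) ^ 2 := by
  have hset : {y : ProjectiveSpecialLinearGroup (Fin 2) F | y * y * y = 1} =
      pmk '' {Y : SpecialLinearGroup (Fin 2) F | tr Y = 2} := by
    ext y
    simp only [Set.mem_setOf_eq, Set.mem_image]
    exact cube_iff_tr h3 hF y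
  have hinj : Set.InjOn pmk {Y : SpecialLinearGroup (Fin 2) F | tr Y = 2} := by
    intro Y hY Y' hY' h
    rcases pmk_eq_iff.mp h with h | h
    · exact h
    · exfalso
      have hY2 : tr Y = 2 := hY
      have hY'2 : tr Y' = 2 := hY'
      rw [h, tr_neg, hY'2] at hY2
      have : (1 : F) = 0 := by linear_combination -hY2 - h3
      exact one_ne_zero this
  rw [hset, hinj.ncard_image, ← Nat.card_coe_set_eq]
  have : Nat.card ↥{Y : SpecialLinearGroup (Fin 2) F | tr Y = 2} =
      Nat.card {Y : SpecialLinearGroup (Fin 2) F // tr Y = 2} := rfl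
  rw [this, card_trTwo, hF]

end

end Cfsg.Agent.Helper8.Sol3
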