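import Mathlib
import Cfsg.Agent.Helper8.Sol3P

set_option autoImplicit false

/-!
Solubilizers in `PSL₂(3^p)`: the elements of order three attached to an involution, by double
counting; the solubilizer of an involution.
-/

namespace Cfsg.Agent.Helper8.Sol3

open Matrix Cfsg.Agent.Helper7.SL2 Cfsg.Agent.Helper8.SL2C Subgroup Cfsg.Agent.Helper8.Dk
open scoped Matrix

/-- conjugation invariance of `Yinv` -/
theorem Yinv_conj {G : Type*} [Group G] (g u : G) :
    Yinv (g * u * g⁻¹) = (fun t => g * t * g⁻¹) '' Yinv u := by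
  ext t
  simp only [Yinv, Set.mem_setOf_eq, Set.mem_image]
  constructor
  · rintro ⟨htt, ht1, hc⟩
    refine ⟨g⁻¹ * t * g, ⟨?_, ?_, ?_⟩, by group⟩
    · calc g⁻¹ * t * g * (g⁻¹ * t * g) = g⁻¹ * (t * t) * g := by group
        _ = 1 := by rw [htt]; group
    · intro h
      apply ht1
      have : t = g * (g⁻¹ * t * g) * g⁻¹ := by group
      rw [this, h]; group
    · have e1 : g⁻¹ * t * g * (u * (g⁻¹ * t * g) * u⁻¹) =
          g⁻¹ * (t * (g * u * g⁻¹ * t * (g * u * g⁻¹)⁻¹)) * g := by group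
      have e2 : u * (g⁻¹ * t * g) * u⁻¹ * (g⁻¹ * t * g) =
          g⁻¹ * ((g * u * g⁻¹ * t * (g * u * g⁻¹)⁻¹) * t) * g := by group
      rw [e1, e2, hc]
  · rintro ⟨s, ⟨hss, hs1, hc⟩, rfl⟩
    refine ⟨?_, ?_, ?_⟩
    · calc g * s * g⁻¹ * (g * s * g⁻¹) = g * (s * s) * g⁻¹ := by group
        _ = 1 := by rw [hss]; group
    · intro h
      apply hs1
      have : s = g⁻¹ * (g * s * g⁻¹) * g := by group
      rw [this, h]; group
    · have e1 : g * s * g⁻¹ * (g * u * g⁻¹ * (g * s * g⁻¹) * (g * u * g⁻¹)⁻¹) =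
          g * (s * (u * s * u⁻¹)) * g⁻¹ := by group
      have e2 : g * u * g⁻¹ * (g * s * g⁻¹) * (g * u * g⁻¹)⁻¹ * (g * s * g⁻¹) =
          g * ((u * s * u⁻¹) * s) * g⁻¹ := by group
      rw [e1, e2, hc]

variable {F : Type*} [Field F] [Fintype F]

section

variable {j : ℕ} (h3 : (3 : F) = 0) (hF : Fintype.card F = 24 * j + 3)
include h3 hF

theorem ncard_Yinv_of_cube (y : ProjectiveSpecialLinearGroup (Fin 2) F) (hy1 : y ≠ 1)
    (hy3 : y * y * y = 1) : (Yinv y).ncard = 24 * j + 3 := by
  obtain ⟨g, β, hβ, rfl⟩ := exists_conj_up3 h3 hF y hy1 hy3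
  rw [Yinv_conj, Set.ncard_image_of_injective, card_Yinv_up h3 hF hβ]
  intro a b hab
  simp only at hab
  have : a = g⁻¹ * (g * a * g⁻¹) * g := by group
  rw [this, hab]; group

/-- at most `2 (q + 1)` elements of order three are attached to an involution -/
theorem ncard_Y3_le {t : ProjectiveSpecialLinearGroup (Fin 2) F} (ht1 : t ≠ 1)
    (htt : t * t = 1) : (Y3 t).ncard ≤ 48 * j + 8 := by
  classical
  haveI : Fintype (ProjectiveSpecialLinearGroup (Fin 2) F) := Fintype.ofFinite _
  obtain ⟨M, hM', htM⟩ := GM_cover t ht1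
  have hM := GT_of_invol h3 hF hM' htM ht1 htt
  set N : Set (ProjectiveSpecialLinearGroup (Fin 2) F) :=
    SetLike.coe (normalizer (M : Set (ProjectiveSpecialLinearGroup (Fin 2) F))) with hN
  set Ms : Set (ProjectiveSpecialLinearGroup (Fin 2) F) := SetLike.coe M with hMs
  have hMN : Ms ⊆ N := fun y hy => le_normalizer hy
  have hcM : Ms.ncard = 12 * j + 2 := by
    rw [← card_member_invol h3 hF ht1 htt hM htM, ← Nat.card_coe_set_eq]
    rfl
  have hcN : N.ncard = 24 * j + 4 := by
    have := card_normalizer_GT hM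
    rw [card_member_invol h3 hF ht1 htt hM htM] at this
    rw [show 24 * j + 4 = 2 * (12 * j + 2) by ring, ← this, ← Nat.card_coe_set_eq]
    rfl
  have hcW : (N \ Ms).ncard = 12 * j + 2 := by
    rw [Set.ncard_sdiff' hMN (Set.toFinite _), hcN, hcM]
    omega
  -- the structure attached to an element of `Y3 t`
  have hstruct : ∀ y ∈ Y3 t, IsKP t (y * t * y⁻¹) ∧ y ∈ NV t (y * t * y⁻¹) := by
    intro y hy
    obtain ⟨hy1, hy3, hYinv⟩ := (mem_Y3_iff htt ht1).mp hy
    exact KP_of_Yinv h3 hF hy1 hy3 hYinv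
  have hmaps : ∀ y ∈ (Y3 t).toFinset, y * t * y⁻¹ ∈ (N \ Ms).toFinset := by
    intro y hy
    rw [Set.mem_toFinset] at hy ⊢
    obtain ⟨hKP, -⟩ := hstruct y hy
    refine ⟨cent_le_normalizer M hM' t htM ht1 _ hKP.comm.symm, ?_⟩
    intro hs
    exact hKP.ne (GT_unique_invol M hM htM hs htt hKP.bb ht1 hKP.b1)
  have hfib : ∀ s ∈ (N \ Ms).toFinset,
      ((Y3 t).toFinset.filter (fun y => y * t * y⁻¹ = s)).card ≤ 4 := by
    intro s _
    by_cases hne : ((Y3 t).toFinset.filter (fun y => y * t * y⁻¹ = s)).Nonempty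
    · obtain ⟨y₀, hy₀⟩ := hne
      rw [Finset.mem_filter, Set.mem_toFinset] at hy₀
      obtain ⟨hy₀Y, hy₀s⟩ := hy₀
      obtain ⟨hKP, hy₀N⟩ := hstruct y₀ hy₀Y
      rw [hy₀s] at hKP hy₀N
      have hsub : (Y3 t).toFinset.filter (fun y => y * t * y⁻¹ = s) ⊆
          {y₀, y₀ * t, y₀ * s, y₀ * (t * s)} := by
        intro y hy
        rw [Finset.mem_filter, Set.mem_toFinset] at hy
        obtain ⟨hyY, hys⟩ := hy
        obtain ⟨-, hyN⟩ := hstruct y hyY
        rw [hys] at hyN
        have hgN : y₀⁻¹ * y ∈ NV t s := Subgroup.mul_mem _ (Subgroup.inv_mem _ hy₀N) hyN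
        have hgt : (y₀⁻¹ * y) * t = t * (y₀⁻¹ * y) := by
          rw [← conj_eq_self_iff]
          calc (y₀⁻¹ * y) * t * (y₀⁻¹ * y)⁻¹ = y₀⁻¹ * (y * t * y⁻¹) * y₀ := by group
            _ = y₀⁻¹ * (y₀ * t * y₀⁻¹) * y₀ := by rw [hys, hy₀s]
            _ = t := by group
        have hgV := mem_KV_of_comm h3 hF hKP hgN hgt
        have hy : y = y₀ * (y₀⁻¹ * y) := by group
        simp only [Finset.mem_insert, Finset.mem_singleton]
        rcases (KV_eq h3 hF hKP _).mp hgV with h | h | h | h
        · left; rw [hy, h, mul_one]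
        · right; left; rw [hy, h]
        · right; right; left; rw [hy, h]
        · right; right; right; rw [hy, h]
      exact (Finset.card_le_card hsub).trans Finset.card_le_four
    · rw [Finset.not_nonempty_iff_eq_empty] at hne
      rw [hne, Finset.card_empty]
      norm_num
  have h5 := Finset.card_le_mul_card_image_of_maps_to hmaps 4 hfib
  rw [Set.ncard_eq_toFinset_card' (Y3 t)]
  rw [Set.ncard_eq_toFinset_card' (N \ Ms)] at hcW
  rw [hcW] at h5
  omega

/-- exactly `2 (q + 1)` elements of order three are attached to an involution -/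
theorem ncard_Y3 {t : ProjectiveSpecialLinearGroup (Fin 2) F} (ht1 : t ≠ 1)
    (htt : t * t = 1) : (Y3 t).ncard = 48 * j + 8 := by
  classical
  haveI : Fintype (ProjectiveSpecialLinearGroup (Fin 2) F) := Fintype.ofFinite _
  set If : Finset (ProjectiveSpecialLinearGroup (Fin 2) F) :=
    Finset.univ.filter (fun s => s * s = 1 ∧ s ≠ 1) with hIf
  set Tf : Finset (ProjectiveSpecialLinearGroup (Fin 2) F) :=
    Finset.univ.filter (fun y => y ≠ 1 ∧ y * y * y = 1) with hTf
  set r : ProjectiveSpecialLinearGroup (Fin 2) F → ProjectiveSpecialLinearGroup (Fin 2) F → Prop :=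
    fun s y => s * (y * s * y⁻¹) = (y * s * y⁻¹) * s with hr
  -- the two fibres
  have habove : ∀ s ∈ If, (Tf.bipartiteAbove r s).card = (Y3 s).ncard := by
    intro s hs
    rw [← Set.ncard_coe_finset]
    congr 1
    ext y
    simp only [Finset.bipartiteAbove, hTf, hr, Finset.coe_filter, Finset.mem_filter,
      Finset.mem_univ, true_and, Set.mem_setOf_eq, Y3]
    tauto
  have hbelow : ∀ y ∈ Tf, (If.bipartiteBelow r y).card = 24 * j + 3 := by
    intro y hy
    rw [hTf, Finset.mem_filter] at hy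
    rw [← ncard_Yinv_of_cube h3 hF y hy.2.1 hy.2.2, ← Set.ncard_coe_finset]
    congr 1
    ext s
    simp only [Finset.bipartiteBelow, hIf, hr, Finset.coe_filter, Finset.mem_filter,
      Finset.mem_univ, true_and, Set.mem_setOf_eq, Yinv]
    tauto
  -- the cardinalities
  have hcI : If.card + 1 = (24 * j + 3) * (12 * j + 1) + 1 := by
    rw [← ncard_invol h3 hF]
    have hset : {y : ProjectiveSpecialLinearGroup (Fin 2) F | y * y = 1} =
        insert 1 (If : Set (ProjectiveSpecialLinearGroup (Fin 2) F)) := by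
      ext y
      simp only [hIf, Set.mem_setOf_eq, Set.mem_insert_iff, Finset.coe_filter, Finset.mem_univ,
        true_and]
      constructor
      · intro h
        by_cases hy1 : y = 1
        · exact Or.inl hy1
        · exact Or.inr ⟨h, hy1⟩
      · rintro (rfl | h)
        · exact one_mul 1
        · exact h.1
    have hnot : (1 : ProjectiveSpecialLinearGroup (Fin 2) F) ∉
        (If : Set (ProjectiveSpecialLinearGroup (Fin 2) F)) := by
      simp [hIf]
    rw [hset, Set.ncard_insert_of_notMem hnot (Set.toFinite _), Set.ncard_coe_finset]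
  have hcT : Tf.card + 1 = (24 * j + 3) ^ 2 := by
    rw [← ncard_cube h3 hF]
    have hset : {y : ProjectiveSpecialLinearGroup (Fin 2) F | y * y * y = 1} =
        insert 1 (Tf : Set (ProjectiveSpecialLinearGroup (Fin 2) F)) := by
      ext y
      simp only [hTf, Set.mem_setOf_eq, Set.mem_insert_iff, Finset.coe_filter, Finset.mem_univ,
        true_and]
      constructor
      · intro h
        by_cases hy1 : y = 1
        · exact Or.inl hy1
        · exact Or.inr ⟨hy1, h⟩
      · rintro (rfl | h)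
        · rw [mul_one, mul_one]
        · exact h.2
    have hnot : (1 : ProjectiveSpecialLinearGroup (Fin 2) F) ∉
        (Tf : Set (ProjectiveSpecialLinearGroup (Fin 2) F)) := by
      simp [hTf]
    rw [hset, Set.ncard_insert_of_notMem hnot (Set.toFinite _), Set.ncard_coe_finset]
  have hdc := Finset.sum_card_bipartiteAbove_eq_sum_card_bipartiteBelow (s := If) (t := Tf) r
  rw [Finset.sum_congr rfl habove, Finset.sum_congr rfl hbelow, Finset.sum_const,
    smul_eq_mul] at hdc
  have hle : ∀ s ∈ If, (Y3 s).ncard ≤ 48 * j + 8 := by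
    intro s hs
    rw [hIf, Finset.mem_filter] at hs
    exact ncard_Y3_le h3 hF hs.2.2 hs.2.1
  have hsum : ∑ s ∈ If, (Y3 s).ncard = ∑ _s ∈ If, (48 * j + 8) := by
    rw [hdc, Finset.sum_const, smul_eq_mul]
    have h1 : If.card = (24 * j + 3) * (12 * j + 1) := by omega
    have h2 : Tf.card = (24 * j + 2) * (24 * j + 4) := by
      have : (24 * j + 3) ^ 2 = (24 * j + 2) * (24 * j + 4) + 1 := by ring
      omega
    rw [h1, h2]
    ring
  have hall := (Finset.sum_eq_sum_iff_of_le hle).mp hsum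
  apply hall t
  rw [hIf, Finset.mem_filter]
  exact ⟨Finset.mem_univ _, htt, ht1⟩

/-- the solubilizer of an involution -/
theorem case_invol3 (x : ProjectiveSpecialLinearGroup (Fin 2) F) (hx : orderOf x = 2) :
    Nat.card {y : ProjectiveSpecialLinearGroup (Fin 2) F //
      Group.IsSolvable (closure ({x, y} : Set (ProjectiveSpecialLinearGroup (Fin 2) F)))} =
      (24 * j + 3) * (24 * j + 4) := by
  have hx1 : x ≠ 1 := by
    intro h
    rw [h, orderOf_one] at hx
    omega
  have hxx : x * x = 1 := by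
    have := pow_orderOf_eq_one x
    rwa [hx, pow_two] at this
  have h5 := card_sol_invol h3 hF hx1 hxx
  rw [ncard_invol h3 hF, ncard_Y3 h3 hF hx1 hxx] at h5
  have e : (24 * j + 3) * (24 * j + 4) + (12 * j + 4) =
      2 * ((24 * j + 3) * (12 * j + 1) + 1) + 12 * j + (48 * j + 8) := by ring
  rw [← e] at h5
  exact Nat.add_right_cancel h5

end

end Cfsg.Agent.Helper8.Sol3
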