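import Mathlib
import Cfsg.Agent.Helper8.Sp2CntMain
import Cfsg.Agent.Helper8.Sp2Conj
set_option autoImplicit false

/-! The centraliser orders of the involutions of `Sp_2m(q)`, `q` even. -/

namespace Cfsg.Agent.Helper8.Sp2

open Module Matrix Cfsg Cfsg.Agent.Helper8.SpS

variable {F : Type*} [Field F] {m : ℕ}

/-- the centraliser as the set of isometries commuting with `t - 1` -/
theorem card_centralizer_eq_autSet (t : Matrix.symplecticGroup (Fin m) F) :
    Nat.card ↥(Subgroup.centralizer ({t} : Set ↥(Matrix.symplecticGroup (Fin m) F))) =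
      Nat.card (AutSet (bform (Matrix.J (Fin m) F)) (opN t)) := by
  set J := Matrix.J (Fin m) F with hJ
  apply Nat.card_eq_of_bijective
    (fun g : ↥(Subgroup.centralizer ({t} : Set ↥(Matrix.symplecticGroup (Fin m) F))) =>
      (⟨Matrix.toLin' g.1.1, inv_bform J g.1.1 (transpose_J_mul g.1.2), by
        intro u
        have h1 := Subgroup.mem_centralizer_singleton_iff.mp g.2
        have h2 : g.1.1 * t.1 = t.1 * g.1.1 := congrArg Subtype.val h1
        rw [opN_apply, opN_apply, Matrix.toLin'_apply, Matrix.toLin'_apply, Matrix.mulVec_sub,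
          Matrix.mulVec_mulVec, Matrix.mulVec_mulVec, h2]⟩ : AutSet (bform J) (opN t)))
  constructor
  · intro g h hgh
    have h1 := congrArg Subtype.val hgh
    simp only [] at h1
    exact Subtype.ext (Subtype.ext (Matrix.toLin'.injective h1))
  · intro z
    set Z : Matrix (Fin m ⊕ Fin m) (Fin m ⊕ Fin m) F := LinearMap.toMatrix' z.1 with hZ
    have hzZ : z.1 = Matrix.toLin' Z := (Matrix.toLin'_toMatrix' z.1).symm
    have hZJ : Zᵀ * J * Z = J := by
      apply bform_injective
      apply LinearMap.ext₂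
      intro u v
      rw [← bform_comp_apply, ← hzZ, z.2.1]
    have hZmem : Z ∈ Matrix.symplecticGroup (Fin m) F := by
      rw [← SymplecticGroup.transpose_mem_iff, SymplecticGroup.mem_iff,
        Matrix.transpose_transpose]
      exact hZJ
    have hZa : Z * t.1 = t.1 * Z := by
      have h1 : z.1 ∘ₗ opN t = opN t ∘ₗ z.1 := LinearMap.ext z.2.2
      have h2 := congrArg LinearMap.toMatrix' h1
      have h3 : LinearMap.toMatrix' (opN t) = t.1 - 1 := by
        unfold opN
        exact LinearMap.toMatrix'_toLin' _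
      rw [LinearMap.toMatrix'_comp, LinearMap.toMatrix'_comp, h3, ← hZ, Matrix.mul_sub,
        Matrix.sub_mul, Matrix.mul_one, Matrix.one_mul] at h2
      exact sub_left_injective h2
    refine ⟨⟨⟨Z, hZmem⟩, ?_⟩, ?_⟩
    · rw [Subgroup.mem_centralizer_singleton_iff]
      exact Subtype.ext hZa
    · apply Subtype.ext
      exact hzZ.symm

theorem finrank_space : finrank F (Fin m ⊕ Fin m → F) = 2 * m := by
  rw [Module.finrank_fintype_fun_eq_card, Fintype.card_sum, Fintype.card_fin]
  ring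

variable [Fintype F] [CharP F 2]

/-- type `a_s` -/
theorem card_centralizer_alt {q : ℕ} (hF : Fintype.card F = q) {s : ℕ}
    (t : Matrix.symplecticGroup (Fin m) F) (ht : t ^ 2 = 1)
    (hs : ((t : Matrix (Fin m ⊕ Fin m) (Fin m ⊕ Fin m) F) - 1).rank = s)
    (halt : ∀ v : Fin m ⊕ Fin m → F,
      sympForm m F v ((t : Matrix (Fin m ⊕ Fin m) (Fin m ⊕ Fin m) F).mulVec v) = 0) :
    Nat.card ↥(Subgroup.centralizer ({t} : Set ↥(Matrix.symplecticGroup (Fin m) F))) =
      q ^ (2 * m * s - (3 * s ^ 2 - s) / 2) * spCard q (s / 2) * spCard q (m - s) := by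
  have hs' : finrank F (LinearMap.range (opN t)) = s := by rw [← rank_eq_finrank, hs]
  have hmain := card_autSet_alt (B := bform (Matrix.J (Fin m) F)) (N := opN t) alt_bform_J
    (nondeg_bform _ (Matrix.isUnit_det_J (Fin m) F).ne_zero) (opN_sq t ht) (opN_sa t ht)
    (fun x => by rw [Q_eq]; exact halt x) finrank_space hs'
  rw [card_centralizer_eq_autSet, hmain, hF, cntA_eq]
  -- s = 2 l, m = 2 l + r
  obtain ⟨l, r, hd, hne⟩ := exists_frame_TA _ (Fin m ⊕ Fin m → F) (bform (Matrix.J (Fin m) F))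
    (opN t) alt_bform_J (nondeg_bform _ (Matrix.isUnit_det_J (Fin m) F).ne_zero) (opN_sq t ht)
    (opN_sa t ht) (fun x => by rw [Q_eq]; exact halt x) rfl
  have hrank := rank_of_frame alt_bform_J (TA l r) (TA_inj l r) hd hne
  rw [TA_somes, hs'] at hrank
  rw [TA_fst, finrank_space] at hd
  have e1 : s / 2 = l := by omega
  have e2 : m - s = r := by omega
  have e3 : m = 2 * l + r := by omega
  rw [e1, e2, hrank, e3, expA]

/-- type `b_s` -/
theorem card_centralizer_odd {q : ℕ} (hF : Fintype.card F = q) {s : ℕ}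
    (t : Matrix.symplecticGroup (Fin m) F) (ht : t ^ 2 = 1)
    (hs : ((t : Matrix (Fin m ⊕ Fin m) (Fin m ⊕ Fin m) F) - 1).rank = s) (hodd : Odd s) :
    Nat.card ↥(Subgroup.centralizer ({t} : Set ↥(Matrix.symplecticGroup (Fin m) F))) =
      q ^ (2 * m * s - (3 * s ^ 2 - s) / 2) * spCard q ((s - 1) / 2) * spCard q (m - s) := by
  have hs' : finrank F (LinearMap.range (opN t)) = s := by rw [← rank_eq_finrank, hs]
  have hmain := card_autSet_odd (B := bform (Matrix.J (Fin m) F)) (N := opN t) alt_bform_J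
    (nondeg_bform _ (Matrix.isUnit_det_J (Fin m) F).ne_zero) (opN_sq t ht) (opN_sa t ht)
    finrank_space hs' hodd
  rw [card_centralizer_eq_autSet, hmain, hF, cntB_eq]
  have hsm : s ≤ m := by
    have h1 := LinearMap.finrank_range_add_finrank_ker (opN t)
    have h2 : finrank F (LinearMap.range (opN t)) ≤ finrank F (LinearMap.ker (opN t)) := by
      apply Submodule.finrank_mono
      rintro _ ⟨x, rfl⟩
      rw [LinearMap.mem_ker]
      exact opN_sq t ht x
    rw [finrank_space] at h1
    omega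
  obtain ⟨l, hl⟩ := hodd
  obtain ⟨r, hr⟩ : ∃ r, m = 1 + 2 * l + r := ⟨m - s, by omega⟩
  have e1 : (s - 1) / 2 = l := by omega
  have e2 : m - s = r := by omega
  rw [e1, e2, hl, hr, expB]

/-- type `c_s` -/
theorem card_centralizer_even_na {q : ℕ} (hF : Fintype.card F = q) {s : ℕ}
    (t : Matrix.symplecticGroup (Fin m) F) (ht : t ^ 2 = 1)
    (hs : ((t : Matrix (Fin m ⊕ Fin m) (Fin m ⊕ Fin m) F) - 1).rank = s) (heven : Even s)
    (hna : ∃ v : Fin m ⊕ Fin m → F,
      sympForm m F v ((t : Matrix (Fin m ⊕ Fin m) (Fin m ⊕ Fin m) F).mulVec v) ≠ 0) :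
    Nat.card ↥(Subgroup.centralizer ({t} : Set ↥(Matrix.symplecticGroup (Fin m) F))) =
      q ^ (2 * m * s - (3 * s ^ 2 - 3 * s) / 2 - 1) * spCard q ((s - 2) / 2) *
        spCard q (m - s) := by
  have hs' : finrank F (LinearMap.range (opN t)) = s := by rw [← rank_eq_finrank, hs]
  have hna' : ∃ v, bform (Matrix.J (Fin m) F) v (opN t v) ≠ 0 := by
    obtain ⟨v, hv⟩ := hna
    exact ⟨v, by rw [Q_eq]; exact hv⟩
  have hmain := card_autSet_even_na (B := bform (Matrix.J (Fin m) F)) (N := opN t) alt_bform_J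
    (nondeg_bform _ (Matrix.isUnit_det_J (Fin m) F).ne_zero) (opN_sq t ht) (opN_sa t ht)
    finrank_space hs' heven hna'
  rw [card_centralizer_eq_autSet, hmain, hF, cntC_eq]
  have hsm : s ≤ m := by
    have h1 := LinearMap.finrank_range_add_finrank_ker (opN t)
    have h2 : finrank F (LinearMap.range (opN t)) ≤ finrank F (LinearMap.ker (opN t)) := by
      apply Submodule.finrank_mono
      rintro _ ⟨x, rfl⟩
      rw [LinearMap.mem_ker]
      exact opN_sq t ht x
    rw [finrank_space] at h1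
    omega
  have hs0 : s ≠ 0 := by
    intro h0
    obtain ⟨v, hv⟩ := hna'
    apply hv
    have h1 : LinearMap.range (opN t) = ⊥ := Submodule.finrank_eq_zero.mp (by rw [hs', h0])
    have h2 : opN t v ∈ LinearMap.range (opN t) := ⟨v, rfl⟩
    rw [h1] at h2
    rw [(Submodule.mem_bot F).mp h2, map_zero]
  obtain ⟨k, hk⟩ := heven
  obtain ⟨l, hl⟩ : ∃ l, s = 2 * l + 2 := ⟨k - 1, by omega⟩
  obtain ⟨r, hr⟩ : ∃ r, m = 2 + 2 * l + r := ⟨m - s, by omega⟩
  have e1 : (s - 2) / 2 = l := by omega
  have e2 : m - s = r := by omega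
  rw [e1, e2, hl, hr, expC]

end Cfsg.Agent.Helper8.Sp2
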