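import Mathlib
import Cfsg.Prelude.Def_ClassicalGeometry
import Cfsg.Agent.Helper8.Sp2Reps
set_option autoImplicit false

/-! The number of classes of involutions of `Sp_2m(F)` in characteristic two. -/

namespace Cfsg.Agent.Helper8.Sp2

open Module Matrix Cfsg Cfsg.Agent.Helper8.SpS

variable {F : Type*} [Field F] {m : ℕ}

/-- the form `v ↦ f(v, t v)` under conjugation -/
theorem Q_conj (a b g : Matrix.symplecticGroup (Fin m) F) (hg : g * a * g⁻¹ = b)
    (v : Fin m ⊕ Fin m → F) :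
    sympForm m F ((g : Matrix (Fin m ⊕ Fin m) (Fin m ⊕ Fin m) F) *ᵥ v)
      ((b : Matrix (Fin m ⊕ Fin m) (Fin m ⊕ Fin m) F) *ᵥ
        ((g : Matrix (Fin m ⊕ Fin m) (Fin m ⊕ Fin m) F) *ᵥ v)) =
      sympForm m F v ((a : Matrix (Fin m ⊕ Fin m) (Fin m ⊕ Fin m) F) *ᵥ v) := by
  have hga : (b : Matrix (Fin m ⊕ Fin m) (Fin m ⊕ Fin m) F) * g.1 = g.1 * a.1 := by
    have h1 : b * g = g * a := by rw [← hg]; group
    exact congrArg Subtype.val h1
  rw [Matrix.mulVec_mulVec, hga, ← Matrix.mulVec_mulVec, sympForm_eq_bform, bform_inv,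
    ← sympForm_eq_bform]

theorem alt_of_conj (a b g : Matrix.symplecticGroup (Fin m) F) (hg : g * a * g⁻¹ = b)
    (h : ∀ v, sympForm m F v ((a : Matrix (Fin m ⊕ Fin m) (Fin m ⊕ Fin m) F) *ᵥ v) = 0)
    (w : Fin m ⊕ Fin m → F) :
    sympForm m F w ((b : Matrix (Fin m ⊕ Fin m) (Fin m ⊕ Fin m) F) *ᵥ w) = 0 := by
  have hgg : (g : Matrix (Fin m ⊕ Fin m) (Fin m ⊕ Fin m) F) * (g⁻¹).1 = 1 := by
    have : (g * g⁻¹).1 = g.1 * (g⁻¹).1 := rfl
    rw [← this, mul_inv_cancel]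
    rfl
  have h1 := Q_conj a b g hg ((g⁻¹).1 *ᵥ w)
  rw [Matrix.mulVec_mulVec, hgg, Matrix.one_mulVec, h] at h1
  exact h1

theorem alt_iff_of_isConj (a b : Matrix.symplecticGroup (Fin m) F) (h : IsConj a b) :
    (∀ v, sympForm m F v ((a : Matrix (Fin m ⊕ Fin m) (Fin m ⊕ Fin m) F) *ᵥ v) = 0) ↔
      (∀ v, sympForm m F v ((b : Matrix (Fin m ⊕ Fin m) (Fin m ⊕ Fin m) F) *ᵥ v) = 0) := by
  obtain ⟨g, hg⟩ := isConj_iff.mp h
  have hg' : g⁻¹ * b * g⁻¹⁻¹ = a := by rw [← hg]; group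
  exact ⟨alt_of_conj a b g hg, alt_of_conj b a g⁻¹ hg'⟩

variable [CharP F 2]

/-- the representatives -/
def rep (F : Type*) [Field F] [CharP F 2] (m : ℕ) :
    Fin m ⊕ Fin (m / 2) → Matrix.symplecticGroup (Fin m) F
  | Sum.inl i => ⟨tMat (dMat F m (i + 1)), tMat_mem _ (Matrix.diagonal_transpose _)⟩
  | Sum.inr j => ⟨tMat (aMat F m (2 * (j + 1))), tMat_mem _ (aMat_transpose (even_two_mul _))⟩

theorem rep_sq (x : Fin m ⊕ Fin (m / 2)) : rep F m x ^ 2 = 1 := by
  rw [pow_two]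
  apply Subtype.ext
  rcases x with i | j
  · exact tMat_sq _
  · exact tMat_sq _

theorem rank_rep_inl (i : Fin m) :
    ((rep F m (Sum.inl i) : Matrix (Fin m ⊕ Fin m) (Fin m ⊕ Fin m) F) - 1).rank = i + 1 := by
  change (tMat (dMat F m (i + 1)) - 1).rank = _
  rw [rank_tMat_sub_one, rank_dMat (by have := i.2; omega)]

theorem rank_rep_inr (j : Fin (m / 2)) :
    ((rep F m (Sum.inr j) : Matrix (Fin m ⊕ Fin m) (Fin m ⊕ Fin m) F) - 1).rank =
      2 * (j + 1) := by
  change (tMat (aMat F m (2 * (j + 1))) - 1).rank = _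
  rw [rank_tMat_sub_one, rank_aMat (even_two_mul _) (by have := j.2; omega)]

theorem alt_rep_inr (j : Fin (m / 2)) (v : Fin m ⊕ Fin m → F) :
    sympForm m F v ((rep F m (Sum.inr j) : Matrix (Fin m ⊕ Fin m) (Fin m ⊕ Fin m) F) *ᵥ v) = 0 := by
  change sympForm m F v (tMat (aMat F m (2 * (j + 1))) *ᵥ v) = 0
  rw [sympForm_tMat]
  exact dot_mulVec_self _ (aMat_transpose (even_two_mul _)) (aMat_diag _) _

theorem not_alt_rep_inl (i : Fin m) :
    ¬ ∀ v, sympForm m F v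
      ((rep F m (Sum.inl i) : Matrix (Fin m ⊕ Fin m) (Fin m ⊕ Fin m) F) *ᵥ v) = 0 := by
  intro h
  have hm : 0 < m := by have := i.2; omega
  have h1 := h (Pi.single (Sum.inr ⟨0, hm⟩) 1)
  change sympForm m F _ (tMat (dMat F m (i + 1)) *ᵥ _) = 0 at h1
  rw [sympForm_tMat] at h1
  have h2 : ((Pi.single (Sum.inr ⟨0, hm⟩) 1 : Fin m ⊕ Fin m → F) ∘ Sum.inr) =
      Pi.single (⟨0, hm⟩ : Fin m) 1 := by
    ext k
    simp only [Function.comp_apply, Pi.single_apply, Sum.inr.injEq]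
  rw [h2, Matrix.mulVec_single_one, single_dotProduct, one_mul, Matrix.col_apply, dMat,
    Matrix.diagonal_apply_eq, if_pos (by simp)] at h1
  exact one_ne_zero h1

theorem rep_ne_one (x : Fin m ⊕ Fin (m / 2)) : rep F m x ≠ 1 := by
  intro h
  have h1 : ((rep F m x : Matrix (Fin m ⊕ Fin m) (Fin m ⊕ Fin m) F) - 1).rank = 0 := by
    rw [h]
    change ((1 : Matrix (Fin m ⊕ Fin m) (Fin m ⊕ Fin m) F) - 1).rank = 0
    rw [sub_self, Matrix.rank_zero]
  rcases x with i | j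
  · rw [rank_rep_inl] at h1; omega
  · rw [rank_rep_inr] at h1; omega

theorem orderOf_rep (x : Fin m ⊕ Fin (m / 2)) : orderOf (rep F m x) = 2 :=
  orderOf_eq_prime (rep_sq x) (rep_ne_one x)

variable [Fintype F]

theorem rank_le (a : Matrix.symplecticGroup (Fin m) F) (ha : a ^ 2 = 1) :
    ((a : Matrix (Fin m ⊕ Fin m) (Fin m ⊕ Fin m) F) - 1).rank ≤ m := by
  obtain ⟨K, s, E, Fv, h⟩ := exists_NF_invol a ha
  rw [rank_eq_finrank, h.finrank_range alt_bform_J]
  have h1 := h.finrank_eq alt_bform_J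
  rw [Module.finrank_fintype_fun_eq_card, Fintype.card_sum, Fintype.card_fin] at h1
  have h2 := h.2.2.2.1
  omega

omit [CharP F 2] [Fintype F] in
theorem rank_pos (a : Matrix.symplecticGroup (Fin m) F) (ha : a ≠ 1) :
    1 ≤ ((a : Matrix (Fin m ⊕ Fin m) (Fin m ⊕ Fin m) F) - 1).rank := by
  by_contra h
  have h0 : ((a : Matrix (Fin m ⊕ Fin m) (Fin m ⊕ Fin m) F) - 1).rank = 0 := by omega
  have h1 := UJ.eq_zero_of_rank_eq_zero _ h0
  apply ha
  apply Subtype.ext
  exact sub_eq_zero.mp h1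

theorem card_classes :
    Nat.card {C : ConjClasses ↥(Matrix.symplecticGroup (Fin m) F) //
      ∃ g : Matrix.symplecticGroup (Fin m) F, ConjClasses.mk g = C ∧ orderOf g = 2} =
      m + m / 2 := by
  have hcard : Nat.card (Fin m ⊕ Fin (m / 2)) = m + m / 2 := by
    rw [Nat.card_eq_fintype_card, Fintype.card_sum, Fintype.card_fin, Fintype.card_fin]
  rw [← hcard]
  symm
  apply Nat.card_eq_of_bijective
    (fun x : Fin m ⊕ Fin (m / 2) =>
      (⟨ConjClasses.mk (rep F m x), rep F m x, rfl, orderOf_rep x⟩ :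
        {C : ConjClasses ↥(Matrix.symplecticGroup (Fin m) F) //
          ∃ g : Matrix.symplecticGroup (Fin m) F, ConjClasses.mk g = C ∧ orderOf g = 2}))
  constructor
  · intro x y hxy
    have h1 : ConjClasses.mk (rep F m x) = ConjClasses.mk (rep F m y) :=
      congrArg Subtype.val hxy
    rw [ConjClasses.mk_eq_mk_iff_isConj] at h1
    have h2 := ((main _ _ (orderOf_rep x) (orderOf_rep y)).mp h1).1
    have h3 := alt_iff_of_isConj _ _ h1
    rcases x with i | j <;> rcases y with i' | j'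
    · rw [rank_rep_inl, rank_rep_inl] at h2
      congr 1
      apply Fin.ext
      omega
    · exact absurd (h3.mpr (alt_rep_inr j')) (not_alt_rep_inl i)
    · exact absurd (h3.mp (alt_rep_inr j)) (not_alt_rep_inl i')
    · rw [rank_rep_inr, rank_rep_inr] at h2
      congr 1
      apply Fin.ext
      omega
  · rintro ⟨C, g, rfl, hg⟩
    have hg2 : g ^ 2 = 1 := by rw [← hg]; exact pow_orderOf_eq_one g
    have hg1 : g ≠ 1 := by
      rintro rfl
      rw [orderOf_one] at hg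
      omega
    have hpos := rank_pos g hg1
    have hle := rank_le g hg2
    by_cases halt : ∀ v, sympForm m F v
        ((g : Matrix (Fin m ⊕ Fin m) (Fin m ⊕ Fin m) F) *ᵥ v) = 0
    · obtain ⟨t, ht⟩ := even_rank_of_alt g hg2 halt
      have htm : t - 1 < m / 2 := by omega
      refine ⟨Sum.inr ⟨t - 1, htm⟩, ?_⟩
      apply Subtype.ext
      simp only
      rw [ConjClasses.mk_eq_mk_iff_isConj]
      apply conj_of_rank_type _ _ (rep_sq _) hg2
      · rw [rank_rep_inr, ht]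
        simp only
        omega
      · exact ⟨fun _ => halt, fun _ => alt_rep_inr _⟩
    · have hsm : ((g : Matrix (Fin m ⊕ Fin m) (Fin m ⊕ Fin m) F) - 1).rank - 1 < m := by omega
      refine ⟨Sum.inl ⟨_, hsm⟩, ?_⟩
      apply Subtype.ext
      simp only
      rw [ConjClasses.mk_eq_mk_iff_isConj]
      apply conj_of_rank_type _ _ (rep_sq _) hg2
      · rw [rank_rep_inl]
        simp only
        omega
      · exact ⟨fun h => absurd h (not_alt_rep_inl _), fun h => absurd h halt⟩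

end Cfsg.Agent.Helper8.Sp2
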