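import Mathlib

set_option autoImplicit false

/-!
A finite set of pairwise commuting involutory isometries of a non-degenerate alternating space of
dimension `d` over a field of characteristic not two has at most `2 ^ (d / 2)` elements; stated as
`card ^ 2 ≤ 2 ^ d`.
-/

namespace Cfsg.Agent.Helper8.Sp2Rank

open Module

universe u

variable {F : Type*} [Field F]

section eigen

variable {V : Type u} [AddCommGroup V] [Module F V]

/-- the `+1`-eigenspace. -/
def eigP (t : Module.End F V) : Submodule F V := LinearMap.ker (t - 1)

/-- the `-1`-eigenspace. -/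
def eigM (t : Module.End F V) : Submodule F V := LinearMap.ker (t + 1)

theorem mem_eigP (t : Module.End F V) (v : V) : v ∈ eigP t ↔ t v = v := by
  unfold eigP
  rw [LinearMap.mem_ker, LinearMap.sub_apply, Module.End.one_apply, sub_eq_zero]

theorem mem_eigM (t : Module.End F V) (v : V) : v ∈ eigM t ↔ t v = -v := by
  unfold eigM
  rw [LinearMap.mem_ker, LinearMap.add_apply, Module.End.one_apply, add_eq_zero_iff_eq_neg]

theorem apply_apply {t : Module.End F V} (ht : t * t = 1) (v : V) : t (t v) = v := by
  have := congrArg (fun f : Module.End F V => f v) ht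
  simpa using this

theorem half_add_mem (_h2 : (2 : F) ≠ 0) {t : Module.End F V} (ht : t * t = 1) (v : V) :
    (2⁻¹ : F) • (v + t v) ∈ eigP t := by
  rw [mem_eigP, map_smul, map_add, apply_apply ht, add_comm]

theorem half_sub_mem (_h2 : (2 : F) ≠ 0) {t : Module.End F V} (ht : t * t = 1) (v : V) :
    (2⁻¹ : F) • (v - t v) ∈ eigM t := by
  rw [mem_eigM, map_smul, map_sub, apply_apply ht, ← smul_neg, neg_sub]

theorem half_decomp (h2 : (2 : F) ≠ 0) (t : Module.End F V) (v : V) :
    v = (2⁻¹ : F) • (v + t v) + (2⁻¹ : F) • (v - t v) := by
  rw [← smul_add]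
  have : v + t v + (v - t v) = (2 : F) • v := by
    rw [two_smul]
    abel
  rw [this, smul_smul, inv_mul_cancel₀ h2, one_smul]

theorem isCompl_eig (h2 : (2 : F) ≠ 0) {t : Module.End F V} (ht : t * t = 1) :
    IsCompl (eigP t) (eigM t) := by
  rw [isCompl_iff, disjoint_iff, codisjoint_iff]
  constructor
  · rw [eq_bot_iff]
    intro v hv
    rw [Submodule.mem_inf, mem_eigP, mem_eigM] at hv
    rw [Submodule.mem_bot]
    have h : (2 : F) • v = 0 := by
      rw [two_smul]
      nth_rewrite 1 [← hv.1]
      rw [hv.2, neg_add_cancel]
    rcases smul_eq_zero.mp h with h | h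
    · exact absurd h h2
    · exact h
  · rw [eq_top_iff]
    intro v _
    rw [half_decomp h2 t v]
    exact Submodule.add_mem_sup (half_add_mem h2 ht v) (half_sub_mem h2 ht v)

theorem eigM_ne_bot (h2 : (2 : F) ≠ 0) {t : Module.End F V} (ht : t * t = 1) (h1 : t ≠ 1) :
    eigM t ≠ ⊥ := by
  intro hb
  apply h1
  apply LinearMap.ext
  intro v
  have := half_sub_mem h2 ht v
  rw [hb, Submodule.mem_bot] at this
  rcases smul_eq_zero.mp this with h | h
  · exact absurd (inv_eq_zero.mp h) h2
  · rw [Module.End.one_apply]
    exact (sub_eq_zero.mp h).symm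

theorem eigP_ne_bot (h2 : (2 : F) ≠ 0) {t : Module.End F V} (ht : t * t = 1) (h1 : t ≠ -1) :
    eigP t ≠ ⊥ := by
  intro hb
  apply h1
  apply LinearMap.ext
  intro v
  have := half_add_mem h2 ht v
  rw [hb, Submodule.mem_bot] at this
  rcases smul_eq_zero.mp this with h | h
  · exact absurd (inv_eq_zero.mp h) h2
  · rw [LinearMap.neg_apply, Module.End.one_apply]
    exact (eq_neg_of_add_eq_zero_right h)

/-- the eigenspaces of an isometric involution are orthogonal. -/
theorem orth_eig (h2 : (2 : F) ≠ 0) (B : LinearMap.BilinForm F V) {t : Module.End F V}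
    (hiso : ∀ v w, B (t v) (t w) = B v w) {u w : V} (hu : u ∈ eigP t) (hw : w ∈ eigM t) :
    B u w = 0 := by
  rw [mem_eigP] at hu
  rw [mem_eigM] at hw
  have h := hiso u w
  rw [hu, hw, map_neg] at h
  have h' : (2 : F) * B u w = 0 := by linear_combination -h
  rcases mul_eq_zero.mp h' with h | h
  · exact absurd h h2
  · exact h

/-- restriction of an endomorphism to a subspace (zero if the subspace is not invariant). -/
noncomputable def rst (W : Submodule F V) (e : Module.End F V) : Module.End F W := by
  classical
  exact if h : ∀ x ∈ W, e x ∈ W then e.restrict h else 0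

theorem rst_apply (W : Submodule F V) (e : Module.End F V) (h : ∀ x ∈ W, e x ∈ W) (x : W) :
    ((rst W e x : W) : V) = e x := by
  unfold rst
  rw [dif_pos h]
  rfl

theorem map_eigP {t e : Module.End F V} (hc : e * t = t * e) : ∀ x ∈ eigP t, e x ∈ eigP t := by
  intro x hx
  rw [mem_eigP] at hx ⊢
  have := congrArg (fun f : Module.End F V => f x) hc
  simp only [Module.End.mul_apply] at this
  rw [← this, hx]

theorem map_eigM {t e : Module.End F V} (hc : e * t = t * e) : ∀ x ∈ eigM t, e x ∈ eigM t := by
  intro x hx
  rw [mem_eigM] at hx ⊢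
  have := congrArg (fun f : Module.End F V => f x) hc
  simp only [Module.End.mul_apply] at this
  rw [← this, hx, map_neg]

end eigen

/-- the main bound. -/
theorem card_sq_le (h2 : (2 : F) ≠ 0) :
    ∀ (d : ℕ) {V : Type u} [AddCommGroup V] [Module F V] [FiniteDimensional F V]
      (B : LinearMap.BilinForm F V), finrank F V = d → (∀ v, B v v = 0) →
      (∀ u, (∀ v, B u v = 0) → u = 0) →
      ∀ (E : Finset (Module.End F V)), (∀ e ∈ E, e * e = 1) →
        (∀ e ∈ E, ∀ f ∈ E, e * f = f * e) →
        (∀ e ∈ E, ∀ v w, B (e v) (e w) = B v w) → E.card ^ 2 ≤ 2 ^ d := by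
  intro d
  induction d using Nat.strong_induction_on with
  | _ d ih =>
    intro V _ _ _ B hd halt hnd E hinv hcomm hiso
    classical
    by_cases hall : ∀ e ∈ E, e = 1 ∨ e = -1
    · -- all scalars
      have hsub : E ⊆ ({1, -1} : Finset (Module.End F V)) := by
        intro e he
        rw [Finset.mem_insert, Finset.mem_singleton]
        exact hall e he
      have hcard : E.card ≤ 2 := (Finset.card_le_card hsub).trans Finset.card_le_two
      rcases Nat.lt_or_ge d 2 with hlt | hge
      · -- small dimension: the space is trivial
        have hd0 : d = 0 := by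
          rcases Nat.lt_or_ge d 1 with h | h
          · omega
          · exfalso
            have hd1 : finrank F V = 1 := by omega
            obtain ⟨v, hv, hspan⟩ := finrank_eq_one_iff'.mp hd1
            apply hv
            apply hnd
            intro w
            obtain ⟨c, hc⟩ := hspan w
            rw [← hc, map_smul, halt, smul_zero]
        subst hd0
        have hsubs : Subsingleton V := by
          have : finrank F V = 0 := hd
          exact Module.finrank_zero_iff.mp this
        have hsubs' : Subsingleton (Module.End F V) :=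
          ⟨fun a b => LinearMap.ext fun v => Subsingleton.elim _ _⟩
        have : E.card ≤ 1 := Finset.card_le_one.mpr fun a _ b _ => Subsingleton.elim a b
        calc E.card ^ 2 ≤ 1 ^ 2 := Nat.pow_le_pow_left this 2
          _ = 2 ^ 0 := by norm_num
      · calc E.card ^ 2 ≤ 2 ^ 2 := Nat.pow_le_pow_left hcard 2
          _ ≤ 2 ^ d := Nat.pow_le_pow_right (by norm_num) hge
    · push Not at hall
      obtain ⟨t, htE, ht1, htm⟩ := hall
      have ht := hinv t htE
      have hcompl := isCompl_eig h2 ht
      have hfr := Submodule.finrank_add_eq_of_isCompl hcompl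
      have hP := eigP_ne_bot h2 ht htm
      have hM := eigM_ne_bot h2 ht ht1
      have hP1 : 1 ≤ finrank F (eigP t) := Submodule.one_le_finrank_iff.mpr hP
      have hM1 : 1 ≤ finrank F (eigM t) := Submodule.one_le_finrank_iff.mpr hM
      have hmapP : ∀ e ∈ E, ∀ x ∈ eigP t, e x ∈ eigP t := fun e he => map_eigP (hcomm e he t htE)
      have hmapM : ∀ e ∈ E, ∀ x ∈ eigM t, e x ∈ eigM t := fun e he => map_eigM (hcomm e he t htE)
      have horth : ∀ u ∈ eigP t, ∀ w ∈ eigM t, B u w = 0 :=
        fun u hu w hw => orth_eig h2 B (hiso t htE) hu hw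
      have horth' : ∀ u ∈ eigM t, ∀ w ∈ eigP t, B u w = 0 := by
        intro u hu w hw
        have h1 := halt (u + w)
        simp only [map_add, LinearMap.add_apply, halt u, halt w, zero_add, add_zero] at h1
        have h3 := horth w hw u hu
        rw [h3] at h1
        simpa using h1
      -- the restricted forms
      have key : ∀ (W W' : Submodule F V), IsCompl W W' → (∀ u ∈ W, ∀ w ∈ W', B u w = 0) →
          (∀ e ∈ E, ∀ x ∈ W, e x ∈ W) → finrank F W < d →
          (E.image (rst W)).card ^ 2 ≤ 2 ^ finrank F W := by
        intro W W' hc ho hmap hlt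
        apply ih (finrank F W) hlt (B.restrict W) rfl
        · intro v
          exact halt (v : V)
        · intro u hu
          apply Subtype.ext
          apply hnd
          intro w
          obtain ⟨a, ha, b, hb, rfl⟩ : ∃ a ∈ W, ∃ b ∈ W', a + b = w := by
            have : w ∈ W ⊔ W' := by rw [hc.sup_eq_top]; exact Submodule.mem_top
            obtain ⟨a, ha, b, hb, hab⟩ := Submodule.mem_sup.mp this
            exact ⟨a, ha, b, hb, hab⟩
          rw [map_add, ho u u.2 b hb, add_zero]
          exact hu ⟨a, ha⟩
        · intro a ha
          obtain ⟨e, he, rfl⟩ := Finset.mem_image.mp ha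
          apply LinearMap.ext
          intro x
          apply Subtype.ext
          rw [Module.End.mul_apply, rst_apply W e (hmap e he), rst_apply W e (hmap e he),
            apply_apply (hinv e he)]
          rfl
        · intro a ha b hb
          obtain ⟨e, he, rfl⟩ := Finset.mem_image.mp ha
          obtain ⟨f, hf, rfl⟩ := Finset.mem_image.mp hb
          apply LinearMap.ext
          intro x
          apply Subtype.ext
          rw [Module.End.mul_apply, Module.End.mul_apply, rst_apply W e (hmap e he),
            rst_apply W f (hmap f hf), rst_apply W f (hmap f hf), rst_apply W e (hmap e he)]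
          have := congrArg (fun g : Module.End F V => g (x : V)) (hcomm e he f hf)
          simpa using this
        · intro a ha v w
          obtain ⟨e, he, rfl⟩ := Finset.mem_image.mp ha
          change B ((rst W e v : W) : V) ((rst W e w : W) : V) = B (v : V) (w : V)
          rw [rst_apply W e (hmap e he), rst_apply W e (hmap e he)]
          exact hiso e he _ _
      have kP := key (eigP t) (eigM t) hcompl horth hmapP (by omega)
      have kM := key (eigM t) (eigP t) hcompl.symm horth' hmapM (by omega)
      -- injectivity of the pair of restrictions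
      have hinj : E.card ≤ ((E.image (rst (eigP t))) ×ˢ (E.image (rst (eigM t)))).card := by
        apply Finset.card_le_card_of_injOn (fun e => (rst (eigP t) e, rst (eigM t) e))
        · intro e he
          rw [Finset.mem_coe, Finset.mem_product]
          exact ⟨Finset.mem_image_of_mem _ he, Finset.mem_image_of_mem _ he⟩
        · intro e he f hf hef
          rw [Finset.mem_coe] at he hf
          have h1 : rst (eigP t) e = rst (eigP t) f := congrArg Prod.fst hef
          have h2' : rst (eigM t) e = rst (eigM t) f := congrArg Prod.snd hef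
          apply LinearMap.ext
          intro v
          rw [half_decomp h2 t v, map_add, map_add]
          have e1 := congrArg (fun g : Module.End F (eigP t) =>
            ((g ⟨_, half_add_mem h2 ht v⟩ : eigP t) : V)) h1
          have e2 := congrArg (fun g : Module.End F (eigM t) =>
            ((g ⟨_, half_sub_mem h2 ht v⟩ : eigM t) : V)) h2'
          rw [rst_apply _ e (hmapP e he), rst_apply _ f (hmapP f hf)] at e1
          rw [rst_apply _ e (hmapM e he), rst_apply _ f (hmapM f hf)] at e2
          rw [e1, e2]
      rw [Finset.card_product] at hinj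
      calc E.card ^ 2 ≤ ((E.image (rst (eigP t))).card * (E.image (rst (eigM t))).card) ^ 2 :=
            Nat.pow_le_pow_left hinj 2
        _ = (E.image (rst (eigP t))).card ^ 2 * (E.image (rst (eigM t))).card ^ 2 := by ring
        _ ≤ 2 ^ finrank F (eigP t) * 2 ^ finrank F (eigM t) := Nat.mul_le_mul kP kM
        _ = 2 ^ d := by rw [← pow_add, hfr, hd]

end Cfsg.Agent.Helper8.Sp2Rank
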