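import Mathlib
import Cfsg.Agent.Helper8.Sp2RankA
import Cfsg.Agent.Helper8.SpParFrames
import Cfsg.Agent.Helper7.SympTransitive

set_option autoImplicit false

/-!
Elementary abelian `2`-subgroups of `Sp_{2n}(F)`, characteristic not two, have order at most `2^n`.
-/

namespace Cfsg.Agent.Helper8.Sp2Rank

open Matrix Module Cfsg.Agent.Helper8.SpStab

variable {F : Type*} [Field F] {n : ℕ}

/-- the linear map of a symplectic matrix. -/
noncomputable def toEnd (g : symplecticGroup (Fin n) F) : Module.End F (Fin n ⊕ Fin n → F) :=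
  Matrix.toLin' (g : Matrix (Fin n ⊕ Fin n) (Fin n ⊕ Fin n) F)

theorem toEnd_mul (g h : symplecticGroup (Fin n) F) : toEnd (g * h) = toEnd g * toEnd h := by
  unfold toEnd
  exact Matrix.toLin'_mul _ _

theorem toEnd_one : toEnd (1 : symplecticGroup (Fin n) F) = 1 := by
  unfold toEnd
  exact Matrix.toLin'_one

theorem toEnd_injective : Function.Injective (toEnd (F := F) (n := n)) := by
  intro g h e
  apply Subtype.ext
  exact Matrix.toLin'.injective e

theorem toEnd_iso (g : symplecticGroup (Fin n) F) (v w : Fin n ⊕ Fin n → F) :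
    sB n F (toEnd g v) (toEnd g w) = sB n F v w := by
  unfold toEnd
  rw [sB_apply, sB_apply, Matrix.toLin'_apply, Matrix.toLin'_apply]
  exact Cfsg.Agent.Helper7.Symp.sympForm_mulVec g v w

/-- the bound on elementary abelian `2`-subgroups. -/
theorem card_le_of_elementary [Finite F] (h2 : (2 : F) ≠ 0)
    (H : Subgroup (symplecticGroup (Fin n) F))
    (hab : ∀ a ∈ H, ∀ b ∈ H, a * b = b * a) (hsq : ∀ a ∈ H, a * a = 1) :
    Nat.card H ≤ 2 ^ n := by
  classical
  have : Fintype F := Fintype.ofFinite F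
  have hfin : Finite (symplecticGroup (Fin n) F) := by
    apply Finite.of_injective (fun g : symplecticGroup (Fin n) F =>
      (g : Matrix (Fin n ⊕ Fin n) (Fin n ⊕ Fin n) F))
    exact Subtype.val_injective
  have hfinH : (H : Set (symplecticGroup (Fin n) F)).Finite := Set.toFinite _
  set E : Finset (Module.End F (Fin n ⊕ Fin n → F)) := hfinH.toFinset.image toEnd with hE
  have hcard : E.card = Nat.card H := by
    rw [hE, Finset.card_image_of_injective _ toEnd_injective, ← Set.ncard_eq_toFinset_card _ hfinH]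
    exact (Nat.card_coe_set_eq _).symm
  have hmem : ∀ e ∈ E, ∃ g ∈ H, toEnd g = e := by
    intro e he
    obtain ⟨g, hg, rfl⟩ := Finset.mem_image.mp he
    exact ⟨g, (Set.Finite.mem_toFinset hfinH).mp hg, rfl⟩
  have hfr : finrank F (Fin n ⊕ Fin n → F) = 2 * n := by
    rw [Module.finrank_fintype_fun_eq_card, Fintype.card_sum, Fintype.card_fin]
    ring
  have key := card_sq_le h2 (2 * n) (sB n F) hfr sB_self sB_nondeg E ?_ ?_ ?_
  · rw [hcard, pow_mul', ] at key
    exact (Nat.pow_le_pow_iff_left (by norm_num)).mp key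
  · intro e he
    obtain ⟨g, hg, rfl⟩ := hmem e he
    rw [← toEnd_mul, hsq g hg, toEnd_one]
  · intro e he f hf
    obtain ⟨g, hg, rfl⟩ := hmem e he
    obtain ⟨k, hk, rfl⟩ := hmem f hf
    rw [← toEnd_mul, ← toEnd_mul, hab g hg k hk]
  · intro e he v w
    obtain ⟨g, hg, rfl⟩ := hmem e he
    exact toEnd_iso g v w

end Cfsg.Agent.Helper8.Sp2Rank
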