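import Mathlib
import Cfsg.Agent.Helper8.FlagB

set_option autoImplicit false

/-!
The subgroup `SL₂(F) ≀ Sym(n)` of `Sp_{2n}(F)`: block diagonal matrices and block permutation
matrices.
-/

namespace Cfsg.Agent.Helper8.Sp2Rank

open Matrix Cfsg.Agent.Helper8.Flag

variable {F : Type*} [Field F] {n : ℕ}

/-- block diagonal matrix of a family of `2 × 2` matrices. -/
def bmat (A : Fin n → Matrix (Fin 2) (Fin 2) F) : Matrix (Fin n ⊕ Fin n) (Fin n ⊕ Fin n) F :=
  Matrix.fromBlocks (Matrix.diagonal fun i => A i 0 0) (Matrix.diagonal fun i => A i 0 1)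
    (Matrix.diagonal fun i => A i 1 0) (Matrix.diagonal fun i => A i 1 1)

theorem bmat_mul (A A' : Fin n → Matrix (Fin 2) (Fin 2) F) :
    bmat (fun i => A i * A' i) = bmat A * bmat A' := by
  unfold bmat
  rw [fromBlocks_multiply]
  simp only [diagonal_mul_diagonal, diagonal_add]
  congr 1 <;> (congr 1; funext i; rw [Matrix.mul_apply, Fin.sum_univ_two])

theorem bmat_one : bmat (fun _ : Fin n => (1 : Matrix (Fin 2) (Fin 2) F)) = 1 := by
  unfold bmat
  have h00 : (1 : Matrix (Fin 2) (Fin 2) F) 0 0 = 1 := by simp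
  have h01 : (1 : Matrix (Fin 2) (Fin 2) F) 0 1 = 0 := by simp
  have h10 : (1 : Matrix (Fin 2) (Fin 2) F) 1 0 = 0 := by simp
  have h11 : (1 : Matrix (Fin 2) (Fin 2) F) 1 1 = 1 := by simp
  simp only [h00, h01, h10, h11]
  rw [diagonal_one, diagonal_zero, fromBlocks_one]

theorem bmat_mem (A : Fin n → SpecialLinearGroup (Fin 2) F) :
    bmat (fun i => (A i : Matrix (Fin 2) (Fin 2) F)) ∈ symplecticGroup (Fin n) F := by
  rw [SymplecticGroup.mem_iff]
  unfold bmat J
  rw [fromBlocks_transpose, fromBlocks_multiply, fromBlocks_multiply]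
  simp only [diagonal_transpose, Matrix.mul_zero, Matrix.mul_one, Matrix.mul_neg, zero_add,
    add_zero, diagonal_mul_diagonal, Matrix.neg_mul]
  have hdet : ∀ i, (A i : Matrix (Fin 2) (Fin 2) F) 0 0 * (A i : Matrix (Fin 2) (Fin 2) F) 1 1 -
      (A i : Matrix (Fin 2) (Fin 2) F) 0 1 * (A i : Matrix (Fin 2) (Fin 2) F) 1 0 = 1 := by
    intro i
    have := (A i).2
    rw [Matrix.det_fin_two] at this
    exact this
  congr 1
  · rw [diagonal_neg, diagonal_add, ← diagonal_zero]
    congr 1
    funext i
    ring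
  · rw [diagonal_neg, diagonal_add, ← diagonal_one, diagonal_neg]
    congr 1
    funext i
    linear_combination -hdet i
  · rw [diagonal_neg, diagonal_add, ← diagonal_one]
    congr 1
    funext i
    linear_combination hdet i
  · rw [diagonal_neg, diagonal_add, ← diagonal_zero]
    congr 1
    funext i
    ring

/-- the block diagonal embedding. -/
def beta (F : Type*) [Field F] (n : ℕ) :
    (Fin n → SpecialLinearGroup (Fin 2) F) →* symplecticGroup (Fin n) F where
  toFun A := ⟨bmat (fun i => (A i : Matrix (Fin 2) (Fin 2) F)), bmat_mem A⟩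
  map_one' := by
    apply Subtype.ext
    exact bmat_one
  map_mul' A A' := by
    apply Subtype.ext
    exact bmat_mul _ _

theorem beta_coe (A : Fin n → SpecialLinearGroup (Fin 2) F) :
    ((beta F n A : symplecticGroup (Fin n) F) : Matrix (Fin n ⊕ Fin n) (Fin n ⊕ Fin n) F) =
      bmat (fun i => (A i : Matrix (Fin 2) (Fin 2) F)) := rfl

/-- block permutation matrix. -/
def pmat (F : Type*) [Field F] {n : ℕ} (σ : Equiv.Perm (Fin n)) :
    Matrix (Fin n ⊕ Fin n) (Fin n ⊕ Fin n) F :=
  Matrix.fromBlocks (wM F σ) 0 0 (wM F σ)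

theorem pmat_mul (σ τ : Equiv.Perm (Fin n)) : pmat F (σ * τ) = pmat F σ * pmat F τ := by
  unfold pmat
  rw [fromBlocks_multiply, wM_mul]
  simp

theorem pmat_one : pmat F (1 : Equiv.Perm (Fin n)) = 1 := by
  unfold pmat
  rw [wM_one, fromBlocks_one]

theorem wM_transpose (σ : Equiv.Perm (Fin n)) : (wM F σ)ᵀ = wM F σ⁻¹ := by
  ext i j
  rw [transpose_apply, wM_apply, wM_apply]
  have : j = σ i ↔ i = σ⁻¹ j := by
    constructor
    · intro h; rw [h]; simp
    · intro h; rw [h]; simp
  simp only [this]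

theorem wM_mul_transpose (σ : Equiv.Perm (Fin n)) : wM F σ * (wM F σ)ᵀ = 1 := by
  rw [wM_transpose, ← wM_mul, mul_inv_cancel, wM_one]

theorem pmat_mem (σ : Equiv.Perm (Fin n)) : pmat F σ ∈ symplecticGroup (Fin n) F := by
  rw [SymplecticGroup.mem_iff]
  unfold pmat J
  rw [fromBlocks_transpose, fromBlocks_multiply, fromBlocks_multiply]
  simp only [Matrix.mul_zero, Matrix.zero_mul, Matrix.mul_one, Matrix.mul_neg, zero_add, add_zero,
    transpose_zero, Matrix.neg_mul, wM_mul_transpose, neg_zero]

/-- the block permutation embedding. -/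
def rho (F : Type*) [Field F] (n : ℕ) : Equiv.Perm (Fin n) →* symplecticGroup (Fin n) F where
  toFun σ := ⟨pmat F σ, pmat_mem σ⟩
  map_one' := by
    apply Subtype.ext
    exact pmat_one
  map_mul' σ τ := by
    apply Subtype.ext
    exact pmat_mul σ τ

theorem rho_coe (σ : Equiv.Perm (Fin n)) :
    ((rho F n σ : symplecticGroup (Fin n) F) : Matrix (Fin n ⊕ Fin n) (Fin n ⊕ Fin n) F) =
      pmat F σ := rfl

theorem wM_mul_diagonal (σ : Equiv.Perm (Fin n)) (d : Fin n → F) :
    wM F σ * Matrix.diagonal d = Matrix.diagonal (fun i => d (σ⁻¹ i)) * wM F σ := by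
  ext i j
  rw [wM_mul_apply, mul_wM_apply, diagonal_apply, diagonal_apply]
  have : σ⁻¹ i = j ↔ i = σ j := by
    constructor
    · intro h; rw [← h]; simp
    · intro h; rw [h]; simp
  simp only [this]

theorem pmat_mul_bmat (σ : Equiv.Perm (Fin n)) (A : Fin n → Matrix (Fin 2) (Fin 2) F) :
    pmat F σ * bmat A = bmat (fun i => A (σ⁻¹ i)) * pmat F σ := by
  unfold pmat bmat
  rw [fromBlocks_multiply, fromBlocks_multiply]
  simp only [Matrix.zero_mul, Matrix.mul_zero, add_zero, zero_add, wM_mul_diagonal]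

/-- permuting the coordinates of a family. -/
def permAut (n : ℕ) (H : Type*) [Group H] : Equiv.Perm (Fin n) →* MulAut (Fin n → H) where
  toFun σ :=
    { toFun := fun A i => A (σ⁻¹ i)
      invFun := fun A i => A (σ i)
      left_inv := fun A => by funext i; simp
      right_inv := fun A => by funext i; simp
      map_mul' := fun _ _ => rfl }
  map_one' := by
    ext A i
    rfl
  map_mul' σ τ := by
    ext A i
    change A ((σ * τ)⁻¹ i) = A (τ⁻¹ (σ⁻¹ i))
    rw [_root_.mul_inv_rev]
    rfl

theorem permAut_apply (H : Type*) [Group H] (σ : Equiv.Perm (Fin n)) (A : Fin n → H) (i : Fin n) :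
    permAut n H σ A i = A (σ⁻¹ i) := rfl

theorem beta_permAut (σ : Equiv.Perm (Fin n)) (A : Fin n → SpecialLinearGroup (Fin 2) F) :
    beta F n (permAut n _ σ A) = rho F n σ * beta F n A * (rho F n σ)⁻¹ := by
  rw [eq_mul_inv_iff_mul_eq]
  apply Subtype.ext
  change bmat (fun i => ((permAut n _ σ A) i : Matrix (Fin 2) (Fin 2) F)) * pmat F σ =
    pmat F σ * bmat (fun i => (A i : Matrix (Fin 2) (Fin 2) F))
  rw [pmat_mul_bmat]
  rfl

/-- the wreath product as a semidirect product. -/
abbrev Wr (F : Type*) [Field F] (n : ℕ) : Type _ :=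
  (Fin n → SpecialLinearGroup (Fin 2) F) ⋊[permAut n (SpecialLinearGroup (Fin 2) F)]
    Equiv.Perm (Fin n)

/-- the embedding of the wreath product. -/
def lam (F : Type*) [Field F] (n : ℕ) : Wr F n →* symplecticGroup (Fin n) F :=
  SemidirectProduct.lift (beta F n) (rho F n) (by
    intro σ
    apply MonoidHom.ext
    intro A
    exact beta_permAut σ A)

theorem lam_apply (x : Wr F n) : lam F n x = beta F n x.left * rho F n x.right := rfl

theorem lam_injective : Function.Injective (lam F n) := by
  rw [injective_iff_map_eq_one]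
  intro x hx
  rw [lam_apply] at hx
  have hm := congrArg (fun g : symplecticGroup (Fin n) F =>
    (g : Matrix (Fin n ⊕ Fin n) (Fin n ⊕ Fin n) F)) hx
  change bmat (fun i => (x.left i : Matrix (Fin 2) (Fin 2) F)) * pmat F x.right = 1 at hm
  unfold bmat pmat at hm
  rw [fromBlocks_multiply, ← fromBlocks_one, fromBlocks_inj] at hm
  simp only [Matrix.mul_zero, add_zero, zero_add] at hm
  obtain ⟨h11, h12, h21, h22⟩ := hm
  have hdet : ∀ i, (x.left i : Matrix (Fin 2) (Fin 2) F) 0 0 *
      (x.left i : Matrix (Fin 2) (Fin 2) F) 1 1 -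
      (x.left i : Matrix (Fin 2) (Fin 2) F) 0 1 * (x.left i : Matrix (Fin 2) (Fin 2) F) 1 0 = 1 := by
    intro i
    have := (x.left i).2
    rw [Matrix.det_fin_two] at this
    exact this
  -- the permutation is trivial
  have hσ : x.right = 1 := by
    ext j
    by_contra hne
    have hne' : x.right j ≠ j := fun h => hne (by rw [h]; rfl)
    have e1 := congrFun (congrFun h11 (x.right j)) j
    have e2 := congrFun (congrFun h12 (x.right j)) j
    rw [mul_wM_apply, diagonal_apply, if_pos rfl, Matrix.one_apply, if_neg hne'] at e1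
    rw [mul_wM_apply, diagonal_apply, if_pos rfl, Matrix.zero_apply] at e2
    have := hdet (x.right j)
    rw [e1, e2, zero_mul, zero_mul, sub_zero] at this
    exact zero_ne_one this
  rw [hσ, wM_one, Matrix.mul_one] at h11 h12 h21 h22
  have hl : x.left = 1 := by
    funext i
    apply Subtype.ext
    ext a b
    have e11 := congrFun (congrFun h11 i) i
    have e12 := congrFun (congrFun h12 i) i
    have e21 := congrFun (congrFun h21 i) i
    have e22 := congrFun (congrFun h22 i) i
    rw [diagonal_apply, if_pos rfl] at e11 e12 e21 e22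
    rw [Matrix.one_apply, if_pos rfl] at e11 e22
    rw [Matrix.zero_apply] at e12 e21
    fin_cases a <;> fin_cases b
    · exact e11
    · exact e12
    · exact e21
    · exact e22
  ext1
  · exact hl
  · exact hσ

end Cfsg.Agent.Helper8.Sp2Rank
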