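import Mathlib
import Cfsg.Agent.Helper8.Sp2RankC
import Cfsg.Agent.Helper8.SpOrder
import Cfsg.Agent.Helper7.SL2Sylow

set_option autoImplicit false

/-!
The `2`-part of the order of `Sp_{2n}(q)`, `q` odd, equals that of `SL₂(q) ≀ Sym(n)`.
-/

namespace Cfsg.Agent.Helper8.Sp2Rank

open Matrix

/-- lifting the exponent for `q^(2j) - 1`. -/
theorem val_pow_sub_one {q : ℕ} (hq : Odd q) (hq1 : 1 < q) (j : ℕ) (hj : j ≠ 0) :
    padicValNat 2 (q ^ (2 * j) - 1) = padicValNat 2 (q ^ 2 - 1) + padicValNat 2 j := by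
  have h2 : Fact (Nat.Prime 2) := ⟨Nat.prime_two⟩
  have hnd : ¬ 2 ∣ q := by
    intro h
    exact (Nat.not_even_iff_odd.mpr hq) (even_iff_two_dvd.mpr h)
  have hd : 2 ∣ q - 1 := by
    obtain ⟨k, hk⟩ := hq
    exact ⟨k, by omega⟩
  have e1 := padicValNat.pow_two_sub_pow (x := q) (y := 1) hq1 hd hnd (n := 2 * j)
    (by omega) (even_two_mul j)
  have e2 := padicValNat.pow_two_sub_pow (x := q) (y := 1) hq1 hd hnd (n := 2)
    (by norm_num) even_two
  rw [one_pow] at e1 e2
  have e3 : padicValNat 2 (2 * j) = 1 + padicValNat 2 j := by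
    rw [padicValNat.mul (by norm_num) hj, padicValNat.self (by norm_num)]
  have e4 : padicValNat 2 2 = 1 := padicValNat.self (by norm_num)
  omega

theorem pow_sub_one_ne_zero {q : ℕ} (hq1 : 1 < q) (j : ℕ) (hj : j ≠ 0) : q ^ j - 1 ≠ 0 := by
  have : 1 < q ^ j := Nat.one_lt_pow hj hq1
  omega

/-- the `2`-adic valuation of the product in the order formula. -/
theorem val_prod {q : ℕ} (hq : Odd q) (hq1 : 1 < q) (n : ℕ) :
    padicValNat 2 (∏ i ∈ Finset.range n, (q ^ (2 * (i + 1)) - 1)) =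
      n * padicValNat 2 (q ^ 2 - 1) + padicValNat 2 n.factorial := by
  have h2 : Fact (Nat.Prime 2) := ⟨Nat.prime_two⟩
  induction n with
  | zero => simp
  | succ n ih =>
    have hne1 : ∏ i ∈ Finset.range n, (q ^ (2 * (i + 1)) - 1) ≠ 0 := by
      rw [Finset.prod_ne_zero_iff]
      intro i _
      exact pow_sub_one_ne_zero hq1 _ (by omega)
    rw [Finset.prod_range_succ, padicValNat.mul hne1 (pow_sub_one_ne_zero hq1 _ (by omega)), ih,
      val_pow_sub_one hq hq1 (n + 1) (by omega), Nat.factorial_succ,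
      padicValNat.mul (by omega) (Nat.factorial_ne_zero n)]
    ring

variable {F : Type*} [Field F] [Fintype F]

/-- the `2`-part of `|Sp_{2n}(q)|`. -/
theorem val_card_symp (hodd : Odd (Fintype.card F)) (n : ℕ) :
    padicValNat 2 (Nat.card (symplecticGroup (Fin n) F)) =
      n * padicValNat 2 (Fintype.card F ^ 2 - 1) + padicValNat 2 n.factorial := by
  have h2 : Fact (Nat.Prime 2) := ⟨Nat.prime_two⟩
  have hq1 : 1 < Fintype.card F := Fintype.one_lt_card
  have hnd : ¬ 2 ∣ Fintype.card F := by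
    intro h
    exact (Nat.not_even_iff_odd.mpr hodd) (even_iff_two_dvd.mpr h)
  rw [Cfsg.Agent.Helper8.SpOrder.card_symp, padicValNat.mul (by positivity), padicValNat.pow,
    padicValNat.eq_zero_of_not_dvd hnd, mul_zero, zero_add, val_prod hodd hq1]
  rw [Finset.prod_ne_zero_iff]
  intro i _
  exact pow_sub_one_ne_zero hq1 _ (by omega)

/-- the `2`-part of `|SL₂(q) ≀ Sym(n)|`. -/
theorem val_card_Wr (hodd : Odd (Fintype.card F)) (n : ℕ) :
    padicValNat 2 (Nat.card (Wr F n)) =
      n * padicValNat 2 (Fintype.card F ^ 2 - 1) + padicValNat 2 n.factorial := by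
  have h2 : Fact (Nat.Prime 2) := ⟨Nat.prime_two⟩
  have hq1 : 1 < Fintype.card F := Fintype.one_lt_card
  have hnd : ¬ 2 ∣ Fintype.card F := by
    intro h
    exact (Nat.not_even_iff_odd.mpr hodd) (even_iff_two_dvd.mpr h)
  have hne : Fintype.card F ^ 2 - 1 ≠ 0 := pow_sub_one_ne_zero hq1 2 (by norm_num)
  rw [SemidirectProduct.card, Nat.card_fun, Nat.card_perm, Nat.card_eq_fintype_card (α := Fin n),
    Fintype.card_fin, Cfsg.Agent.Helper7.SL2.card_SL2,
    padicValNat.mul (by positivity) (Nat.factorial_ne_zero n), padicValNat.pow,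
    padicValNat.mul (by positivity) hne, padicValNat.eq_zero_of_not_dvd hnd, zero_add]

end Cfsg.Agent.Helper8.Sp2Rank
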