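import Mathlib
import Cfsg.Prelude.Def_Transfer
import Cfsg.Agent.Helper8.Sp2RankB
import Cfsg.Agent.Helper8.Sp2RankD

set_option autoImplicit false

/-!
A Sylow `2`-subgroup of `Sp_{2n}(F)`, `|F|` odd, has a normal elementary abelian subgroup of order
`2^n`: the diagonal matrices with entries `±1`, constant on each hyperbolic pair.
-/

namespace Cfsg.Agent.Helper8.Sp2Rank

open Matrix

variable {F : Type*} [Field F] {n : ℕ}

/-- the sign homomorphism into `SL₂`. -/
def sgn2 (F : Type*) [Field F] : ℤˣ →* SpecialLinearGroup (Fin 2) F where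
  toFun ε := if ε = 1 then 1 else -1
  map_one' := if_pos rfl
  map_mul' := by
    intro a b
    rcases Int.units_eq_one_or a with rfl | rfl <;> rcases Int.units_eq_one_or b with rfl | rfl
    · simp
    · simp
    · simp
    · have h : ((-1 : ℤˣ) = 1) = False := by decide
      simp [h]

theorem sgn2_cases (ε : ℤˣ) : sgn2 F ε = 1 ∨ sgn2 F ε = -1 := by
  change (if ε = 1 then (1 : SpecialLinearGroup (Fin 2) F) else -1) = 1 ∨
    (if ε = 1 then (1 : SpecialLinearGroup (Fin 2) F) else -1) = -1
  split_ifs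
  · exact Or.inl rfl
  · exact Or.inr rfl

theorem sgn2_central (ε : ℤˣ) (A : SpecialLinearGroup (Fin 2) F) :
    A * sgn2 F ε * A⁻¹ = sgn2 F ε := by
  rcases sgn2_cases (F := F) ε with h | h
  · rw [h, mul_one, mul_inv_cancel]
  · rw [h, mul_neg, mul_one, neg_mul, mul_inv_cancel]

theorem sgn2_injective (h2 : (2 : F) ≠ 0) : Function.Injective (sgn2 F) := by
  rw [injective_iff_map_eq_one]
  intro ε hε
  rcases Int.units_eq_one_or ε with rfl | rfl
  · rfl
  · exfalso
    have h : ((-1 : ℤˣ) = 1) = False := by decide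
    change (if (-1 : ℤˣ) = 1 then (1 : SpecialLinearGroup (Fin 2) F) else -1) = 1 at hε
    rw [if_neg (by decide)] at hε
    have := congrArg (fun g : SpecialLinearGroup (Fin 2) F =>
      (g : Matrix (Fin 2) (Fin 2) F) 0 0) hε
    have h1 : ((1 : SpecialLinearGroup (Fin 2) F) : Matrix (Fin 2) (Fin 2) F) 0 0 = 1 := by simp
    simp only [SpecialLinearGroup.coe_neg, Matrix.neg_apply] at this
    rw [h1] at this
    apply h2
    linear_combination -this

/-- the sign diagonal matrices. -/
def e0 (F : Type*) [Field F] (n : ℕ) : (Fin n → ℤˣ) →* symplecticGroup (Fin n) F :=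
  (beta F n).comp (MonoidHom.compLeft (sgn2 F) (Fin n))

theorem e0_apply (ε : Fin n → ℤˣ) : e0 F n ε = beta F n (fun i => sgn2 F (ε i)) := rfl

theorem beta_injective : Function.Injective (beta F n) := by
  intro A A' h
  have h1 : lam F n (SemidirectProduct.inl A) = lam F n (SemidirectProduct.inl A') := by
    rw [lam_apply, lam_apply]
    simp only [SemidirectProduct.left_inl, SemidirectProduct.right_inl, map_one, mul_one]
    exact h
  exact SemidirectProduct.inl_injective (lam_injective h1)

theorem e0_injective (h2 : (2 : F) ≠ 0) : Function.Injective (e0 F n) := by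
  intro ε ε' h
  rw [e0_apply, e0_apply] at h
  have := beta_injective h
  funext i
  exact sgn2_injective h2 (congrFun this i)

/-- the subgroup of sign diagonal matrices. -/
def E0 (F : Type*) [Field F] (n : ℕ) : Subgroup (symplecticGroup (Fin n) F) := (e0 F n).range

theorem card_E0 (h2 : (2 : F) ≠ 0) : Nat.card (E0 F n) = 2 ^ n := by
  unfold E0
  rw [← Nat.card_congr (MonoidHom.ofInjective (e0_injective h2)).toEquiv, Nat.card_fun,
    Nat.card_eq_fintype_card, Nat.card_eq_fintype_card, Fintype.card_units_int, Fintype.card_fin]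

theorem E0_comm : ∀ a ∈ E0 F n, ∀ b ∈ E0 F n, a * b = b * a := by
  rintro _ ⟨ε, rfl⟩ _ ⟨ε', rfl⟩
  rw [← map_mul, ← map_mul, mul_comm]

theorem E0_sq : ∀ a ∈ E0 F n, a * a = 1 := by
  rintro _ ⟨ε, rfl⟩
  rw [← map_mul]
  have : ε * ε = 1 := by
    funext i
    exact Int.units_mul_self (ε i)
  rw [this, map_one]

theorem E0_le_range : E0 F n ≤ (lam F n).range := by
  rintro _ ⟨ε, rfl⟩
  refine ⟨SemidirectProduct.inl (fun i => sgn2 F (ε i)), ?_⟩
  rw [lam_apply, e0_apply]
  simp only [SemidirectProduct.left_inl, SemidirectProduct.right_inl, map_one, mul_one]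

/-- the wreath product normalises the sign diagonal matrices. -/
theorem conj_mem_E0 (w : symplecticGroup (Fin n) F) (hw : w ∈ (lam F n).range)
    (y : symplecticGroup (Fin n) F) (hy : y ∈ E0 F n) : w * y * w⁻¹ ∈ E0 F n := by
  obtain ⟨x, rfl⟩ := hw
  obtain ⟨ε, rfl⟩ := hy
  refine ⟨fun i => ε (x.right⁻¹ i), ?_⟩
  rw [lam_apply, e0_apply, e0_apply]
  have h1 : beta F n x.left * rho F n x.right * beta F n (fun i => sgn2 F (ε i)) *
      (beta F n x.left * rho F n x.right)⁻¹ =
      beta F n x.left * (rho F n x.right * beta F n (fun i => sgn2 F (ε i)) *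
        (rho F n x.right)⁻¹) * (beta F n x.left)⁻¹ := by group
  rw [h1, ← beta_permAut, ← map_inv, ← map_mul, ← map_mul]
  congr 1
  funext i
  change sgn2 F (ε (x.right⁻¹ i)) =
    x.left i * (permAut n _ x.right (fun i => sgn2 F (ε i))) i * (x.left i)⁻¹
  rw [permAut_apply, sgn2_central]

variable [Fintype F]

/-- existence for one Sylow subgroup. -/
theorem exists_sylow_with_normal (hodd : Odd (Fintype.card F)) (n : ℕ) :
    ∃ T : Sylow 2 (symplecticGroup (Fin n) F),
      E0 F n ≤ (T : Subgroup (symplecticGroup (Fin n) F)) ∧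
      ∀ t ∈ (T : Subgroup (symplecticGroup (Fin n) F)), ∀ y ∈ E0 F n, t * y * t⁻¹ ∈ E0 F n := by
  classical
  have h2p : Fact (Nat.Prime 2) := ⟨Nat.prime_two⟩
  have hfin : Finite (symplecticGroup (Fin n) F) := by
    apply Finite.of_injective (fun g : symplecticGroup (Fin n) F =>
      (g : Matrix (Fin n ⊕ Fin n) (Fin n ⊕ Fin n) F))
    exact Subtype.val_injective
  set W : Subgroup (symplecticGroup (Fin n) F) := (lam F n).range with hW
  have hWcard : Nat.card W = Nat.card (Wr F n) :=
    (Nat.card_congr (MonoidHom.ofInjective (lam_injective (F := F) (n := n))).toEquiv).symm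
  obtain ⟨P⟩ : Nonempty (Sylow 2 W) := inferInstance
  have hfact : (Nat.card W).factorization 2 =
      (Nat.card (symplecticGroup (Fin n) F)).factorization 2 := by
    rw [Nat.factorization_def _ Nat.prime_two, Nat.factorization_def _ Nat.prime_two, hWcard,
      val_card_Wr hodd, val_card_symp hodd]
  have hT : Nat.card ((P : Subgroup W).map W.subtype) =
      2 ^ (Nat.card (symplecticGroup (Fin n) F)).factorization 2 := by
    rw [Subgroup.card_map_of_injective W.subtype_injective, Sylow.card_eq_multiplicity, hfact]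
  refine ⟨Sylow.ofCard _ hT, ?_, ?_⟩
  · rw [Sylow.coe_ofCard]
    -- the sign matrices form a normal 2-subgroup of the wreath product
    have hnorm : ((E0 F n).subgroupOf W).Normal := by
      refine ⟨fun y hy w => ?_⟩
      rw [Subgroup.mem_subgroupOf] at hy ⊢
      exact conj_mem_E0 (w : symplecticGroup (Fin n) F) w.2 _ hy
    have hpg : IsPGroup 2 ((E0 F n).subgroupOf W) := by
      intro y
      refine ⟨1, ?_⟩
      have hy := E0_sq (F := F) (n := n) _ (Subgroup.mem_subgroupOf.mp y.2)
      apply Subtype.ext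
      apply Subtype.ext
      rw [pow_one, pow_two]
      exact hy
    have hle := IsPGroup.le_sylow_of_normal hpg P
    intro y hy
    have hyW : y ∈ W := E0_le_range hy
    exact ⟨⟨y, hyW⟩, hle (Subgroup.mem_subgroupOf.mpr hy), rfl⟩
  · rw [Sylow.coe_ofCard]
    rintro t ⟨t', -, rfl⟩ y hy
    exact conj_mem_E0 _ t'.2 y hy

/-- the normal elementary abelian subgroup in every Sylow `2`-subgroup. -/
theorem exists_normal_elementary (hodd : Odd (Fintype.card F)) (h2 : (2 : F) ≠ 0) (n : ℕ)
    (S : Sylow 2 (symplecticGroup (Fin n) F)) :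
    ∃ E : Subgroup ↥(S : Subgroup (symplecticGroup (Fin n) F)),
      E.Normal ∧ Cfsg.IsElementaryAbelian 2 E ∧ 2 ^ n ≤ Nat.card E := by
  classical
  have h2p : Fact (Nat.Prime 2) := ⟨Nat.prime_two⟩
  have hfin : Finite (symplecticGroup (Fin n) F) := by
    apply Finite.of_injective (fun g : symplecticGroup (Fin n) F =>
      (g : Matrix (Fin n ⊕ Fin n) (Fin n ⊕ Fin n) F))
    exact Subtype.val_injective
  obtain ⟨T, hle, hconj⟩ := exists_sylow_with_normal hodd n
  set ET : Subgroup ↥(T : Subgroup (symplecticGroup (Fin n) F)) :=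
    (E0 F n).subgroupOf (T : Subgroup (symplecticGroup (Fin n) F)) with hET
  have hETn : ET.Normal := by
    refine ⟨fun y hy t => ?_⟩
    rw [hET, Subgroup.mem_subgroupOf] at hy ⊢
    exact hconj (t : symplecticGroup (Fin n) F) t.2 _ hy
  have hETcard : Nat.card ET = 2 ^ n := by
    rw [hET, Nat.card_congr (Subgroup.subgroupOfEquivOfLe hle).toEquiv, card_E0 h2]
  let e : ↥(T : Subgroup (symplecticGroup (Fin n) F)) ≃*
      ↥(S : Subgroup (symplecticGroup (Fin n) F)) := Sylow.equiv T S
  refine ⟨ET.map e.toMonoidHom, hETn.map e.toMonoidHom e.surjective, ⟨?_, ?_⟩, ?_⟩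
  · refine ⟨⟨?_⟩⟩
    rintro ⟨_, a, ha, rfl⟩ ⟨_, b, hb, rfl⟩
    apply Subtype.ext
    change e.toMonoidHom a * e.toMonoidHom b = e.toMonoidHom b * e.toMonoidHom a
    rw [← map_mul, ← map_mul]
    congr 1
    apply Subtype.ext
    exact E0_comm _ (Subgroup.mem_subgroupOf.mp ha) _ (Subgroup.mem_subgroupOf.mp hb)
  · rintro _ ⟨a, ha, rfl⟩
    rw [← map_pow]
    have : a ^ 2 = 1 := by
      apply Subtype.ext
      rw [pow_two]
      exact E0_sq _ (Subgroup.mem_subgroupOf.mp ha)
    rw [this, map_one]
  · rw [Subgroup.card_map_of_injective e.injective, hETcard]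

end Cfsg.Agent.Helper8.Sp2Rank
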