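import Mathlib
import Cfsg.Agent.Helper8.SL4Klein

set_option autoImplicit false

/-!
The restriction of the Klein correspondence to `Sp₄(F)`: the action on the five-dimensional
orthogonal complement of the symplectic form, in the coordinates of `x₀² + x₁ y₁ + x₂ y₂`.
-/

namespace Cfsg.Agent.Helper8.Sp4Klein

open Matrix Cfsg Cfsg.Agent.Helper8.StdForms Cfsg.Agent.Helper8.OrthOrder
  Cfsg.Agent.Helper8.ReflMatrix Cfsg.Agent.Helper8.SL4Klein

variable {F : Type*} [Field F]

/-- the index type of the five-dimensional space. -/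
abbrev I5 := Unit ⊕ (Fin 2 ⊕ Fin 2)

/-- the reindexing. -/
def e4 : Fin 2 ⊕ Fin 2 ≃ Fin 4 where
  toFun := Sum.elim ![0, 1] ![2, 3]
  invFun := ![Sum.inl 0, Sum.inl 1, Sum.inr 0, Sum.inr 1]
  left_inv x := by
    rcases x with i | i <;> fin_cases i <;> rfl
  right_inv i := by
    fin_cases i <;> rfl

/-- symplectic matrices as elements of `SL₄`. -/
def toSL : Matrix.symplecticGroup (Fin 2) F →* SpecialLinearGroup (Fin 4) F where
  toFun g := ⟨Matrix.reindex e4 e4 g.1, by
    rw [Matrix.det_reindex_self]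
    exact SymplecticGroup.det_eq_one g.2⟩
  map_one' := by
    apply Subtype.ext
    show Matrix.reindex e4 e4 (1 : Matrix (Fin 2 ⊕ Fin 2) (Fin 2 ⊕ Fin 2) F) = 1
    simp
  map_mul' g h := by
    apply Subtype.ext
    show Matrix.reindex e4 e4 (g.1 * h.1) = Matrix.reindex e4 e4 g.1 * Matrix.reindex e4 e4 h.1
    simp [Matrix.reindex_apply, Matrix.submatrix_mul_equiv]

theorem toSL_val (g : Matrix.symplecticGroup (Fin 2) F) :
    (toSL g).1 = Matrix.reindex e4 e4 g.1 := rfl

/-- the fixed vector. -/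
def vJ : I6 → F := Pi.single (Sum.inr 1) 1 - Pi.single (Sum.inl 1) 1

theorem toMat_vJ : toMat (vJ (F := F)) = Matrix.reindex e4 e4 (Matrix.J (Fin 2) F) := by
  ext i j
  fin_cases i <;> fin_cases j <;>
    simp [toMat, vJ, Matrix.J, e4, Matrix.fromBlocks, Matrix.one_apply]

theorem act_toSL_vJ (g : Matrix.symplecticGroup (Fin 2) F) :
    act (toSL g) (toMat vJ) = toMat (vJ (F := F)) := by
  unfold act
  rw [toMat_vJ, toSL_val]
  have h := SymplecticGroup.mem_iff.mp g.2
  simp only [Matrix.reindex_apply, Matrix.transpose_submatrix, Matrix.submatrix_mul_equiv]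
  rw [h]

theorem L_toSL_vJ (g : Matrix.symplecticGroup (Fin 2) F) : L (toSL g) vJ = vJ (F := F) := by
  apply toMat_injective
  rw [toMat_L, act_toSL_vJ]

/-- the embedding of the five-dimensional space. -/
def jmap : (I5 → F) →ₗ[F] (I6 → F) where
  toFun u := Sum.elim ![u (.inr (.inl 0)), u (.inl ()), u (.inr (.inl 1))]
    ![u (.inr (.inr 0)), u (.inl ()), u (.inr (.inr 1))]
  map_add' u v := by
    funext i
    rcases i with i | i <;> fin_cases i <;> simp
  map_smul' c u := by
    funext i
    rcases i with i | i <;> fin_cases i <;> simp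

/-- the projection onto the five-dimensional space. -/
def pmap : (I6 → F) →ₗ[F] (I5 → F) where
  toFun w := Sum.elim (fun _ => w (.inl 1))
    (Sum.elim ![w (.inl 0), w (.inl 2)] ![w (.inr 0), w (.inr 2)])
  map_add' u v := by
    funext i
    rcases i with _ | i | i
    · rfl
    · fin_cases i <;> simp
    · fin_cases i <;> simp
  map_smul' c u := by
    funext i
    rcases i with _ | i | i
    · rfl
    · fin_cases i <;> simp
    · fin_cases i <;> simp

theorem pmap_jmap (u : I5 → F) : pmap (jmap u) = u := by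
  funext i
  rcases i with _ | i | i
  · rfl
  · fin_cases i <;> simp [pmap, jmap]
  · fin_cases i <;> simp [pmap, jmap]

theorem jmap_injective : Function.Injective (jmap (F := F)) := by
  intro u v h
  rw [← pmap_jmap u, h, pmap_jmap]

theorem jmap_pmap {w : I6 → F} (hw : w (.inl 1) = w (.inr 1)) : jmap (pmap w) = w := by
  funext i
  rcases i with i | i <;> fin_cases i <;> simp [pmap, jmap, hw]

theorem jmap_mem (u : I5 → F) : jmap u (.inl 1) = jmap u (.inr 1) := by
  simp [jmap]

theorem quadFormPlus_jmap (u : I5 → F) :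
    Cfsg.quadFormPlus 3 F (jmap u) = Cfsg.quadFormOdd 2 F u := by
  unfold Cfsg.quadFormPlus Cfsg.quadFormOdd
  rw [Fin.sum_univ_three, Fin.sum_univ_two]
  simp [jmap]
  ring

/-- the condition defining the five-dimensional subspace, via the polar form. -/
theorem polar_vJ (w : I6 → F) :
    QuadraticMap.polar (plusForm F 3) vJ w = w (.inl 1) - w (.inr 1) := by
  rw [polar_plusForm, Fin.sum_univ_three, Fin.sum_univ_three]
  simp [vJ]
  ring

theorem polar_L (g : SpecialLinearGroup (Fin 4) F) (x y : I6 → F) :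
    QuadraticMap.polar (plusForm F 3) (L g x) (L g y) = QuadraticMap.polar (plusForm F 3) x y := by
  unfold QuadraticMap.polar
  rw [← map_add, plusForm_apply, plusForm_apply, plusForm_apply, plusForm_apply, plusForm_apply,
    plusForm_apply, quadFormPlus_L, quadFormPlus_L, quadFormPlus_L]

/-- the five-dimensional subspace is invariant under `Sp₄`. -/
theorem L_toSL_mem (g : Matrix.symplecticGroup (Fin 2) F) {w : I6 → F}
    (hw : w (.inl 1) = w (.inr 1)) :
    L (toSL g) w (.inl 1) = L (toSL g) w (.inr 1) := by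
  have h1 := polar_L (toSL g) vJ w
  rw [L_toSL_vJ, polar_vJ, polar_vJ, hw, sub_self] at h1
  exact sub_eq_zero.mp h1

/-- the action on the five-dimensional space. -/
def L5 (g : Matrix.symplecticGroup (Fin 2) F) : (I5 → F) →ₗ[F] (I5 → F) :=
  pmap ∘ₗ L (toSL g) ∘ₗ jmap

theorem jmap_L5 (g : Matrix.symplecticGroup (Fin 2) F) (u : I5 → F) :
    jmap (L5 g u) = L (toSL g) (jmap u) := by
  unfold L5
  rw [LinearMap.comp_apply, LinearMap.comp_apply]
  exact jmap_pmap (L_toSL_mem g (jmap_mem u))

theorem L5_mul (g h : Matrix.symplecticGroup (Fin 2) F) (u : I5 → F) :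
    L5 (g * h) u = L5 g (L5 h u) := by
  apply jmap_injective
  rw [jmap_L5, jmap_L5, jmap_L5, map_mul, Cfsg.Agent.Helper8.SL4Klein.L_mul]

theorem L5_one (u : I5 → F) : L5 (1 : Matrix.symplecticGroup (Fin 2) F) u = u := by
  apply jmap_injective
  rw [jmap_L5, map_one, Cfsg.Agent.Helper8.SL4Klein.L_one]

theorem quadFormOdd_L5 (g : Matrix.symplecticGroup (Fin 2) F) (u : I5 → F) :
    Cfsg.quadFormOdd 2 F (L5 g u) = Cfsg.quadFormOdd 2 F u := by
  rw [← quadFormPlus_jmap, jmap_L5, quadFormPlus_L, quadFormPlus_jmap]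

/-- the action as a linear equivalence. -/
def L5equiv (g : Matrix.symplecticGroup (Fin 2) F) : (I5 → F) ≃ₗ[F] (I5 → F) :=
  LinearEquiv.ofLinear (L5 g) (L5 g⁻¹)
    (LinearMap.ext fun v => by
      rw [LinearMap.comp_apply, ← L5_mul, mul_inv_cancel, L5_one]
      rfl)
    (LinearMap.ext fun v => by
      rw [LinearMap.comp_apply, ← L5_mul, inv_mul_cancel, L5_one]
      rfl)

theorem L5equiv_apply (g : Matrix.symplecticGroup (Fin 2) F) (u : I5 → F) :
    L5equiv g u = L5 g u := rfl

/-- the homomorphism to the isometries of the form `x₀² + x₁ y₁ + x₂ y₂`. -/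
noncomputable def rhoIsom : Matrix.symplecticGroup (Fin 2) F →* ↥(Isom (oddForm F 2)) where
  toFun g := ⟨L5equiv g, fun v => by
    rw [L5equiv_apply, oddForm_apply, oddForm_apply, quadFormOdd_L5]⟩
  map_one' := by
    apply Subtype.ext
    apply LinearEquiv.ext
    intro v
    exact L5_one v
  map_mul' g h := by
    apply Subtype.ext
    apply LinearEquiv.ext
    intro v
    exact L5_mul g h v

theorem rhoIsom_apply (g : Matrix.symplecticGroup (Fin 2) F) (u : I5 → F) :
    (rhoIsom g).1 u = L5 g u := rfl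

/-- the homomorphism to the matrix isometry group. -/
noncomputable def rho5 :
    Matrix.symplecticGroup (Fin 2) F →* ↥(Cfsg.isometryGroup F ⇑(oddForm F 2)) :=
  (isomEquiv (oddForm F 2)).symm.toMonoidHom.comp rhoIsom

theorem isomEquiv_rho5 (g : Matrix.symplecticGroup (Fin 2) F) :
    isomEquiv (oddForm F 2) (rho5 g) = rhoIsom g := by
  unfold rho5
  rw [MonoidHom.comp_apply]
  exact MulEquiv.apply_symm_apply _ _

theorem rho5_eq_one_iff (g : Matrix.symplecticGroup (Fin 2) F) :
    rho5 g = 1 ↔ ∀ u : I5 → F, L5 g u = u := by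
  constructor
  · intro h u
    have := isomEquiv_rho5 g
    rw [h, map_one] at this
    rw [← rhoIsom_apply, ← this]
    rfl
  · intro h
    apply (isomEquiv (oddForm F 2)).injective
    rw [isomEquiv_rho5, map_one]
    apply Subtype.ext
    apply LinearEquiv.ext
    intro v
    exact h v

/-- the kernel consists of scalars `±1` (odd characteristic). -/
theorem exists_scalar_of_rho5_eq_one (h2 : (2 : F) ≠ 0) {g : Matrix.symplecticGroup (Fin 2) F}
    (h : rho5 g = 1) :
    ∃ r : F, r ^ 2 = 1 ∧ Matrix.scalar (Fin 2 ⊕ Fin 2) r = g.1 := by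
  rw [rho5_eq_one_iff] at h
  have hall : ∀ v : I6 → F, L (toSL g) v = v := by
    intro v
    obtain ⟨c, hc⟩ : ∃ c : F, c = (v (.inr 1) - v (.inl 1)) / 2 := ⟨_, rfl⟩
    have hw : (v - c • (vJ : I6 → F)) (Sum.inl 1) = (v - c • (vJ : I6 → F)) (Sum.inr 1) := by
      simp only [Pi.sub_apply, Pi.smul_apply, smul_eq_mul, vJ]
      simp
      rw [hc]
      field_simp
      ring
    have h1 : L (toSL g) (v - c • vJ) = v - c • vJ := by
      rw [← jmap_pmap hw, ← jmap_L5, h]
    have h3 : v = (v - c • vJ) + c • vJ := by abel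
    rw [h3, map_add, map_smul, h1, L_toSL_vJ]
  have h1 : Cfsg.Agent.Helper8.SL4Klein.rho (toSL g) = 1 := by
    rw [Cfsg.Agent.Helper8.SL4Klein.rho_eq_one_iff]
    intro N hN
    rw [← toMat_fromMat hN, ← toMat_L, hall]
  obtain ⟨r, hr, hr'⟩ := (rho_eq_one_iff' (toSL g)).mp h1
  refine ⟨r, hr, ?_⟩
  rw [toSL_val] at hr'
  ext i j
  have := congrFun (congrFun hr' (e4 i)) (e4 j)
  simp only [Matrix.reindex_apply, Matrix.submatrix_apply, Equiv.symm_apply_apply] at this
  rw [← this]
  simp [Matrix.scalar_apply, Matrix.diagonal_apply]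

end Cfsg.Agent.Helper8.Sp4Klein
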