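import Mathlib
import Cfsg.Agent.Helper8.SpSHermBasis
import Cfsg.Agent.Helper8.GUOrder
set_option autoImplicit false

/-! Counting the `K`-linear isometries of a semilinear alternating form: the order of a unitary
group. -/

namespace Cfsg.Agent.Helper8.SpCent3

open Module Matrix Cfsg
open Cfsg.Agent.Helper8.SpS Cfsg.Agent.Helper8.GUOrder Cfsg.Agent.Helper7.Herm

section mat
variable {K : Type*} [Field K] [Fintype K] {q n : ℕ}

/-- matrices preserving the standard hermitian form -/
theorem mat_pres_iff (hK : Fintype.card K = q ^ 2) (M : Matrix (Fin n) (Fin n) K) :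
    (∀ u v : Fin n → K, hermForm n K q (M *ᵥ u) (M *ᵥ v) = hermForm n K q u v) ↔
      Mᵀ * M.map (· ^ q) = 1 := by
  have hq := two_le_q hK
  constructor
  · intro hg
    ext i j
    have h := hg (Pi.single i 1) (Pi.single j 1)
    rw [hermForm_mulVec_mulVec hK, hermForm_eq_dot] at h
    have e1 : (fun k => (Pi.single j (1 : K) : Fin n → K) k ^ q) = Pi.single j 1 := by
      ext k
      by_cases hk : k = j
      · subst hk; simp
      · simp [Pi.single_eq_of_ne hk, zero_pow (show q ≠ 0 by omega)]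
    rw [e1, mulVec_single_one, single_dotProduct, single_dotProduct, one_mul, one_mul] at h
    rw [Matrix.one_apply]
    rw [Matrix.col_apply] at h
    rw [h, Pi.single_apply]
  · intro h u v
    rw [hermForm_mulVec_mulVec hK, h, one_mulVec, hermForm_eq_dot]

end mat

variable {F K : Type*} [Field F] [Field K] [Algebra F K] [FiniteDimensional F K] [Fintype K]
variable {V : Type*} [AddCommGroup V] [Module K V] [Module F V] [IsScalarTower F K V]
  [FiniteDimensional K V]

omit [FiniteDimensional F K] [Fintype K] [FiniteDimensional K V] in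
/-- the form in coordinates of an orthonormal basis -/
theorem form_eq_herm {q : ℕ} (σ : K →ₐ[F] K) (hσ : ∀ a, σ a = a ^ q)
    (B : V →ₗ[F] V →ₗ[F] F) (l₀ : K →ₗ[F] F) {k : ℕ} (b : Basis (Fin k) K V)
    (hb : IsOrthoFam σ B l₀ b) (u v : V) :
    B u v = l₀ (hermForm k K q (b.repr u) (b.repr v)) := by
  conv_lhs => rw [← b.sum_repr u, ← b.sum_repr v]
  rw [gram_sum l₀ b hb, hermForm, map_sum]
  apply Finset.sum_congr rfl
  intro i _
  rw [hσ]

theorem card_isometries {q : ℕ} (hK : Fintype.card K = q ^ 2) (σ : K →ₐ[F] K)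
    (hσ : ∀ a, σ a = a ^ q) (hσne : ∃ a, σ a ≠ a)
    (B : V →ₗ[F] V →ₗ[F] F) (hAlt : Alt B) (hND : Nondeg B) (hS : Semi σ B) :
    Nat.card {z : V →ₗ[K] V // ∀ u v, B (z u) (z v) = B u v} =
      Nat.card (GU (finrank K V) K q) := by
  have hσ2 : ∀ a, σ (σ a) = a := by
    intro a
    rw [hσ, hσ, ← pow_mul, ← pow_two, ← hK, FiniteField.pow_card]
  have hnorm : ∀ c : K, σ c = c → c ≠ 0 → ∃ e, e * σ e = c := by
    intro c hc hc0
    obtain ⟨l, hl⟩ := GUOrder.exists_norm hK hc0 (by rw [← hσ]; exact hc)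
    exact ⟨l, by rw [hσ]; exact hl⟩
  by_cases hV : ∀ x : V, x = 0
  · have hsub : Subsingleton V := ⟨fun a b => by rw [hV a, hV b]⟩
    rw [finrank_zero_of_subsingleton, card_GU hK 0]
    simp only [Finset.range_zero, Finset.prod_empty, mul_one, Nat.zero_mul, Nat.zero_div, pow_zero]
    rw [Nat.card_eq_one_iff_unique]
    refine ⟨⟨fun z w => ?_⟩, ⟨⟨LinearMap.id, fun _ _ => rfl⟩⟩⟩
    apply Subtype.ext
    apply LinearMap.ext
    intro x
    exact Subsingleton.elim _ _
  rw [not_forall] at hV
  obtain ⟨v₀, a₀, hva⟩ := exists_aniso hAlt hND hS hσne hV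
  set l₀ : K →ₗ[F] F := muFun K B v₀ with hl₀def
  have hl₀ : l₀ ≠ 0 := by
    intro h0
    apply hva
    rw [hS.right hσ2, ← muFun_apply, ← hl₀def, h0, LinearMap.zero_apply]
  have hskew : ∀ a, l₀ (σ a) = -l₀ a := muFun_skew hAlt hS hσ2 v₀
  obtain ⟨k, b, hb⟩ := exists_ortho_basis hσ2 hσne hnorm l₀ hl₀ hskew B hAlt hND hS
  have hk : finrank K V = k := by rw [finrank_eq_card_basis b, Fintype.card_fin]
  rw [hk, Nat.card_congr (guEquiv hK)]
  have hform := form_eq_herm σ hσ B l₀ b hb
  have key : ∀ z : V →ₗ[K] V, (∀ u v, B (z u) (z v) = B u v) ↔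
      (LinearMap.toMatrix b b z)ᵀ * (LinearMap.toMatrix b b z).map (· ^ q) = 1 := by
    intro z
    set M := LinearMap.toMatrix b b z with hM
    rw [← mat_pres_iff hK]
    have hrepr : ∀ u, b.repr (z u) = M *ᵥ (b.repr u) := fun u =>
      (LinearMap.toMatrix_mulVec_repr b b z u).symm
    constructor
    · intro h g h'
      have h1 : ∀ a : K, l₀ ((hermForm k K q (M *ᵥ g) (M *ᵥ h') - hermForm k K q g h') * a) = 0 := by
        intro a
        have h2 := h (b.repr.symm (Finsupp.equivFunOnFinite.symm (a • g)))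
          (b.repr.symm (Finsupp.equivFunOnFinite.symm h'))
        rw [hform, hform, hrepr, hrepr] at h2
        simp only [LinearEquiv.apply_symm_apply] at h2
        have e1 : (⇑(Finsupp.equivFunOnFinite.symm (a • g)) : Fin k → K) = a • g := rfl
        have e2 : (⇑(Finsupp.equivFunOnFinite.symm h') : Fin k → K) = h' := rfl
        rw [e1, e2, Matrix.mulVec_smul, hermForm_smul_left, hermForm_smul_left] at h2
        rw [sub_mul, map_sub, mul_comm _ a, mul_comm _ a, h2, sub_self]
      exact sub_eq_zero.mp (eq_zero_of_functional l₀ hl₀ _ h1)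
    · intro h u v
      rw [hform, hform, hrepr, hrepr, h]
  refine Nat.card_congr
    { toFun := fun z => ⟨LinearMap.toMatrix b b z.1, (key z.1).mp z.2⟩
      invFun := fun M => ⟨Matrix.toLin b b M.1, (key _).mpr (by
        rw [LinearMap.toMatrix_toLin]; exact M.2)⟩
      left_inv := fun z => by
        apply Subtype.ext
        exact Matrix.toLin_toMatrix b b z.1
      right_inv := fun M => by
        apply Subtype.ext
        exact LinearMap.toMatrix_toLin b b M.1 }

end Cfsg.Agent.Helper8.SpCent3
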