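import Mathlib
import Cfsg.Agent.Helper8.SpCent3Abs
import Cfsg.Agent.Helper8.SpSLeafII
import Cfsg.Agent.Helper8.SpSLeafI
set_option autoImplicit false

/-! The commuting isometries of an operator annihilated by a self-reciprocal irreducible
polynomial: their number is the order of a unitary group. -/

namespace Cfsg.Agent.Helper8.SpCent3

open Polynomial Module Cfsg
open Cfsg.Agent.Helper8.SpS Cfsg.Agent.Helper8.GUOrder Cfsg.Agent.Helper8.PGraph

universe u

variable {F : Type*} [Field F] [Fintype F]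
variable {V : Type u} [AddCommGroup V] [Module F V] [FiniteDimensional F V]

theorem card_commuting_isometries (A A' : Module.End F V) (hAA' : A * A' = 1) (hA'A : A' * A = 1)
    (P : F[X]) (hP : P.Monic) [hirr : Fact (Irreducible P)] (hPA : aeval A P = 0)
    (d k : ℕ) (hdeg : P.natDegree = 2 * d) (hk : finrank F V = 2 * d * k) (hd : 0 < d)
    (hα0 : AdjoinRoot.root P ≠ 0)
    (hαinv : AdjoinRoot.root P ^ (Fintype.card F ^ d) = (AdjoinRoot.root P)⁻¹)
    (hαne : (AdjoinRoot.root P)⁻¹ ≠ AdjoinRoot.root P)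
    (B : V →ₗ[F] V →ₗ[F] F) (hAlt : Alt B) (hND : Nondeg B) (hInv : Inv B A) :
    Nat.card {z : Module.End F V // z * A = A * z ∧ ∀ u v, B (z u) (z v) = B u v} =
      (Fintype.card F ^ d) ^ (k * (k - 1) / 2) *
        ∏ i ∈ Finset.range k, (if Even i then (Fintype.card F ^ d) ^ (i + 1) + 1
          else (Fintype.card F ^ d) ^ (i + 1) - 1) := by
  have : Module.Finite F (AdjoinRoot P) := hP.finite_adjoinRoot
  have : Finite (AdjoinRoot P) := Module.finite_of_finite F
  let _ : Fintype (AdjoinRoot P) := Fintype.ofFinite _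
  set α := AdjoinRoot.root P with hα
  set φ := toEnd A P hPA with hφ
  have hφα : φ α = A := toEnd_root A P hPA
  have hφα' : φ α⁻¹ = A' := by
    have h1 : A * φ α⁻¹ = 1 := by
      rw [← hφα, ← map_mul, mul_inv_cancel₀ hα0, map_one]
    calc φ α⁻¹ = (A' * A) * φ α⁻¹ := by rw [hA'A, one_mul]
      _ = A' := by rw [mul_assoc, h1, mul_one]
  let _ : Module (AdjoinRoot P) V := Module.compHom V (φ : AdjoinRoot P →+* Module.End F V)
  have hsmul : ∀ (a : AdjoinRoot P) (v : V), a • v = φ a v := fun a v => rfl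
  have : IsScalarTower F (AdjoinRoot P) V := ⟨fun r a v => by
    rw [hsmul, hsmul, map_smul, LinearMap.smul_apply]⟩
  have : Module.Finite (AdjoinRoot P) V := Module.Finite.of_restrictScalars_finite F _ V
  have hcard : Fintype.card (AdjoinRoot P) = (Fintype.card F ^ d) ^ 2 := by
    rw [← Nat.card_eq_fintype_card, card_adjoinRoot P hP, hdeg, ← pow_mul, mul_comm]
  set σ : AdjoinRoot P →ₐ[F] AdjoinRoot P := (FiniteField.frobeniusAlgHom F (AdjoinRoot P)) ^ d
    with hσdef
  have hσ : ∀ x, σ x = x ^ (Fintype.card F ^ d) := by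
    intro x
    rw [hσdef, AlgHom.coe_pow, FiniteField.coe_frobeniusAlgHom, pow_iterate]
  have hσα : σ α = α⁻¹ := by rw [hσ, ← hαinv]
  have hσne : ∃ a, σ a ≠ a := ⟨α, by rw [hσα]; exact hαne⟩
  have hsemi : Semi σ B := by
    intro a u v
    obtain ⟨p, rfl⟩ := AdjoinRoot.mk_surjective a
    have h1 : σ (AdjoinRoot.mk P p) = aeval α⁻¹ p := by
      rw [← AdjoinRoot.aeval_eq, ← aeval_algHom_apply, hσα]
    rw [hsmul, hsmul, h1, ← aeval_algHom_apply, hφα', toEnd_mk]
    exact hInv.adj_inv hAA' p u v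
  have hfr : finrank (AdjoinRoot P) V = k := by
    have h1 := Module.finrank_mul_finrank F (AdjoinRoot P) V
    have h2 : finrank F (AdjoinRoot P) = 2 * d := by
      rw [(AdjoinRoot.powerBasis hirr.out.ne_zero).finrank, AdjoinRoot.powerBasis_dim, hdeg]
    rw [h2, hk] at h1
    exact Nat.eq_of_mul_eq_mul_left (by omega) h1
  have hmain := card_isometries hcard σ hσ hσne B hAlt hND hsemi
  rw [hfr, card_GU hcard] at hmain
  rw [← hmain]
  refine Nat.card_congr
    { toFun := fun z => ⟨{ toFun := z.1, map_add' := z.1.map_add, map_smul' := ?_ }, z.2.2⟩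
      invFun := fun z => ⟨z.1.restrictScalars F, ?_, z.2⟩
      left_inv := fun z => rfl
      right_inv := fun z => rfl }
  · intro a v
    obtain ⟨p, rfl⟩ := AdjoinRoot.mk_surjective a
    rw [RingHom.id_apply, hsmul, hsmul, toEnd_mk]
    have h1 := aeval_comm_of_comm A z.1 z.2.1 p
    exact congrArg (fun f : Module.End F V => f v) h1
  · ext v
    rw [Module.End.mul_apply, Module.End.mul_apply, LinearMap.restrictScalars_apply,
      LinearMap.restrictScalars_apply]
    have h2 : ∀ w : V, A w = α • w := by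
      intro w
      rw [hsmul, hφα]
    rw [h2, h2, map_smul]

end Cfsg.Agent.Helper8.SpCent3
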