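import Mathlib
import Cfsg.Agent.Helper8.SpCent3Gen
import Cfsg.Agent.Helper8.SpSMat
set_option autoImplicit false

/-! The centraliser in `Sp_2m(q)`, `q ≡ 2 (mod 3)`, of a fixed-point-free element of order three. -/

namespace Cfsg.Agent.Helper8.SpCent3

open Polynomial Module Cfsg Matrix
open Cfsg.Agent.Helper8.SpS

variable {F : Type*} [Field F] [Fintype F]

theorem three_ne_zero' {q : ℕ} (hF : Fintype.card F = q) (hq : q % 3 = 2) : (3 : F) ≠ 0 := by
  intro h3
  have h1 : ((Fintype.card F : ℕ) : F) = 0 := Nat.cast_card_eq_zero F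
  rw [hF] at h1
  have h2 : q = 3 * (q / 3) + 2 := by omega
  rw [h2] at h1
  push_cast at h1
  rw [h3, zero_mul, zero_add] at h1
  have : (1 : F) = 3 - 2 := by norm_num
  rw [h3, h1, sub_zero] at this
  exact one_ne_zero this

/-- in a field containing `F`, a root of `X² + X + 1` -/
theorem root_facts {q : ℕ} (hF : Fintype.card F = q) (hq : q % 3 = 2) {K : Type*} [Field K]
    [Algebra F K] (a : K) (ha : a ^ 2 + a + 1 = 0) :
    a ≠ 0 ∧ a ^ q = a⁻¹ ∧ a⁻¹ ≠ a := by
  have h3K : (3 : K) ≠ 0 := by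
    have h := three_ne_zero' hF hq
    intro h0
    apply h
    apply (algebraMap F K).injective
    rw [map_ofNat, map_zero, h0]
  have ha3 : a ^ 3 = 1 := by linear_combination (a - 1) * ha
  have ha0 : a ≠ 0 := by
    rintro rfl
    norm_num at ha
  have hinv : a⁻¹ = a ^ 2 := by
    apply inv_eq_of_mul_eq_one_right
    linear_combination ha3
  refine ⟨ha0, ?_, ?_⟩
  · have h2 : q = 3 * (q / 3) + 2 := by omega
    rw [h2, pow_add, pow_mul, ha3, one_pow, one_mul, hinv]
  · rw [hinv]
    intro h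
    have h1 : a = 1 := by
      have : a * (a - 1) = 0 := by linear_combination h
      rcases mul_eq_zero.mp this with h | h
      · exact absurd h ha0
      · linear_combination h
    rw [h1] at ha
    apply h3K
    linear_combination ha

theorem irreducible_P {q : ℕ} (hF : Fintype.card F = q) (hq : q % 3 = 2) :
    Irreducible (X ^ 2 + X + 1 : F[X]) := by
  have hdeg : (X ^ 2 + X + 1 : F[X]).natDegree = 2 := by compute_degree!
  apply Polynomial.irreducible_of_degree_le_three_of_not_isRoot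
  · rw [hdeg]; decide
  · intro a ha
    rw [IsRoot.def] at ha
    simp only [eval_add, eval_pow, eval_X, eval_one] at ha
    obtain ⟨h0, hq', hne⟩ := root_facts hF hq (K := F) a ha
    apply hne
    rw [← hq', ← hF, FiniteField.pow_card]


theorem card_centralizer {q : ℕ} (hF : Fintype.card F = q) (hq : q % 3 = 2) {m : ℕ}
    (x : Matrix.symplecticGroup (Fin m) F) (hx3 : x ^ 3 = 1)
    (hfpf : IsUnit ((x : Matrix (Fin m ⊕ Fin m) (Fin m ⊕ Fin m) F) - 1)) :
    Nat.card ↥(Subgroup.centralizer ({x} : Set ↥(Matrix.symplecticGroup (Fin m) F))) =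
      q ^ (m * (m - 1) / 2) *
        ∏ i ∈ Finset.range m, (if Even i then q ^ (i + 1) + 1 else q ^ (i + 1) - 1) := by
  set J := Matrix.J (Fin m) F with hJ
  have hJdet : J.det ≠ 0 := (Matrix.isUnit_det_J (Fin m) F).ne_zero
  set a : Matrix (Fin m ⊕ Fin m) (Fin m ⊕ Fin m) F := x.1 with ha
  set a' : Matrix (Fin m ⊕ Fin m) (Fin m ⊕ Fin m) F := (x⁻¹).1 with ha'
  have haa' : a * a' = 1 := by
    have : (x * x⁻¹).1 = a * a' := rfl
    rw [← this, mul_inv_cancel]
    rfl
  have ha'a : a' * a = 1 := by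
    have : (x⁻¹ * x).1 = a' * a := rfl
    rw [← this, inv_mul_cancel]
    rfl
  have ha3 : a ^ 3 = 1 := by
    have : (x ^ 3).1 = a ^ 3 := SubmonoidClass.coe_pow x 3
    rw [← this, hx3]
    rfl
  have haP : a ^ 2 + a + 1 = 0 := by
    have h1 : (a - 1) * (a ^ 2 + a + 1) = 0 := by
      have : (a - 1) * (a ^ 2 + a + 1) = a ^ 3 - 1 := by noncomm_ring
      rw [this, ha3, sub_self]
    exact (hfpf.mul_right_eq_zero).mp h1
  have hΦ : ∀ X Y : Matrix (Fin m ⊕ Fin m) (Fin m ⊕ Fin m) F,
      (Matrix.toLin' X : Module.End F (Fin m ⊕ Fin m → F)) * Matrix.toLin' Y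
        = Matrix.toLin' (X * Y) := fun X Y => (Matrix.toLin'_mul X Y).symm
  set A : Module.End F (Fin m ⊕ Fin m → F) := Matrix.toLin' a with hA
  set A' : Module.End F (Fin m ⊕ Fin m → F) := Matrix.toLin' a' with hA'
  have hAA' : A * A' = 1 := by rw [hΦ, haa', Matrix.toLin'_one]; rfl
  have hA'A : A' * A = 1 := by rw [hΦ, ha'a, Matrix.toLin'_one]; rfl
  have hirr : Fact (Irreducible (X ^ 2 + X + 1 : F[X])) := ⟨irreducible_P hF hq⟩
  have hmonic : (X ^ 2 + X + 1 : F[X]).Monic := by monicity!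
  have hdeg : (X ^ 2 + X + 1 : F[X]).natDegree = 2 * 1 := by compute_degree!
  have hPA : aeval A (X ^ 2 + X + 1 : F[X]) = 0 := by
    simp only [map_add, map_pow, aeval_X, map_one]
    rw [pow_two, hΦ]
    have h1 : (1 : Module.End F (Fin m ⊕ Fin m → F)) = Matrix.toLin' (1 : Matrix _ _ F) := by
      rw [Matrix.toLin'_one]; rfl
    rw [h1, hA, ← map_add, ← map_add, ← pow_two, haP, map_zero]
  have hroot : (AdjoinRoot.root (X ^ 2 + X + 1 : F[X])) ^ 2 +
      AdjoinRoot.root (X ^ 2 + X + 1 : F[X]) + 1 = 0 := by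
    have := AdjoinRoot.eval₂_root (X ^ 2 + X + 1 : F[X])
    simpa using this
  obtain ⟨hα0, hαinv, hαne⟩ := root_facts hF hq _ hroot
  have hfr : finrank F (Fin m ⊕ Fin m → F) = 2 * 1 * m := by
    rw [Module.finrank_fintype_fun_eq_card, Fintype.card_sum, Fintype.card_fin]; ring
  have hmain := card_commuting_isometries A A' hAA' hA'A (X ^ 2 + X + 1 : F[X]) hmonic hPA 1 m
    hdeg hfr one_pos hα0 (by rw [pow_one, hF]; exact hαinv) hαne (bform J) alt_bform_J
    (nondeg_bform J hJdet) (inv_bform J a (transpose_J_mul x.2))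
  rw [pow_one, hF] at hmain
  rw [← hmain]
  apply Nat.card_eq_of_bijective
    (fun g : ↥(Subgroup.centralizer ({x} : Set ↥(Matrix.symplecticGroup (Fin m) F))) =>
      (⟨Matrix.toLin' g.1.1, by
        have h1 := Subgroup.mem_centralizer_singleton_iff.mp g.2
        have h2 : g.1.1 * a = a * g.1.1 := congrArg Subtype.val h1
        rw [hA, hΦ, hΦ, h2], inv_bform J g.1.1 (transpose_J_mul g.1.2)⟩ :
        {z : Module.End F (Fin m ⊕ Fin m → F) // z * A = A * z ∧
          ∀ u v, bform J (z u) (z v) = bform J u v}))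
  constructor
  · intro g h hgh
    have h1 := congrArg Subtype.val hgh
    simp only [] at h1
    exact Subtype.ext (Subtype.ext (Matrix.toLin'.injective h1))
  · intro z
    set Z : Matrix (Fin m ⊕ Fin m) (Fin m ⊕ Fin m) F := LinearMap.toMatrix' z.1 with hZ
    have hzZ : z.1 = Matrix.toLin' Z := (Matrix.toLin'_toMatrix' z.1).symm
    have hZJ : Zᵀ * J * Z = J := by
      apply bform_injective
      apply LinearMap.ext₂
      intro u v
      rw [← bform_comp_apply, ← hzZ, z.2.2]
    have hZmem : Z ∈ Matrix.symplecticGroup (Fin m) F := by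
      rw [← SymplecticGroup.transpose_mem_iff, SymplecticGroup.mem_iff,
        Matrix.transpose_transpose]
      exact hZJ
    have hZa : Z * a = a * Z := by
      have h1 := congrArg LinearMap.toMatrix' z.2.1
      rw [Module.End.mul_eq_comp, Module.End.mul_eq_comp, LinearMap.toMatrix'_comp,
        LinearMap.toMatrix'_comp] at h1
      have h2 : LinearMap.toMatrix' A = a := LinearMap.toMatrix'_toLin' a
      rw [h2] at h1
      exact h1
    refine ⟨⟨⟨Z, hZmem⟩, ?_⟩, ?_⟩
    · rw [Subgroup.mem_centralizer_singleton_iff]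
      exact Subtype.ext hZa
    · apply Subtype.ext
      exact hzZ.symm

end Cfsg.Agent.Helper8.SpCent3
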