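import Mathlib
import Cfsg.Prelude.Def_GeometricClasses

/-!
# Symplectic groups in characteristic two: containments in orthogonal groups, part A

The stabiliser of a pair of complementary totally isotropic subspaces preserves a quadratic form
polarising to the symplectic form.
-/

set_option autoImplicit false
set_option linter.unusedSectionVars false

namespace Cfsg.Agent.Helper8.SpEven

open Cfsg Cfsg.Geo Matrix

variable {ι : Type} [Fintype ι] [DecidableEq ι] {F : Type*} [Field F]

/-- A quadratic map whose polar form is a given symplectic form is a non-degenerate quadratic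
form. -/
theorem isNondegenerateQuadraticForm_of_polar {f : (ι → F) → (ι → F) → F}
    (hf : IsSymplecticForm f) {Q : (ι → F) → F} (hsmul : ∀ (c : F) (v : ι → F), Q (c • v) = c ^ 2 * Q v)
    (hpolar : ∀ u v, QuadraticMap.polar Q u v = f u v) : IsNondegenerateQuadraticForm Q := by
  have e : QuadraticMap.polar Q = f := by
    funext u v
    exact hpolar u v
  refine ⟨hsmul, ?_, ?_⟩
  · rw [e]
    exact hf.bilinear
  · rw [e]
    exact hf.nondegenerate

theorem neg_eq_self_of_two {x : F} (h2 : (2 : F) = 0) : -x = x := by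
  have : x + x = 0 := by rw [← two_mul, h2, zero_mul]
  exact neg_eq_of_add_eq_zero_left this

theorem proj_eq_of_mem {p q : Submodule F (ι → F)} (h : IsCompl p q) {v x : ι → F} (hx : x ∈ p)
    (hvx : v - x ∈ q) : p.projection q h v = x := by
  have e : v = x + (v - x) := by abel
  rw [e, map_add, Submodule.projection_apply_of_mem_right h hvx, add_zero,
    Submodule.projection_apply_of_mem_left h hx]

theorem sub_proj_mem {p q : Submodule F (ι → F)} (h : IsCompl p q) (v : ι → F) :
    v - p.projection q h v ∈ q := by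
  rw [← Submodule.projection_apply_eq_zero_iff h, map_sub,
    Submodule.projection_apply_of_mem_left h (Submodule.projection_apply_mem h v), sub_self]

/-- The quadratic form attached to a pair of complementary totally isotropic subspaces. -/
noncomputable def pairQ (f : (ι → F) → (ι → F) → F) {p q : Submodule F (ι → F)} (h : IsCompl p q) :
    (ι → F) → F := fun v => f (p.projection q h v) v

theorem pairQ_smul {f : (ι → F) → (ι → F) → F} (hf : IsSymplecticForm f)
    {p q : Submodule F (ι → F)} (h : IsCompl p q) (c : F) (v : ι → F) :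
    pairQ f h (c • v) = c ^ 2 * pairQ f h v := by
  unfold pairQ
  rw [map_smul, hf.bilinear.smul_left, hf.bilinear.smul_right]
  ring

theorem pairQ_polar {f : (ι → F) → (ι → F) → F} (hf : IsSymplecticForm f) (h2 : (2 : F) = 0)
    {p q : Submodule F (ι → F)} (h : IsCompl p q) (hp : IsTotallySingularFor f p)
    (hq : IsTotallySingularFor f q) (u v : ι → F) :
    QuadraticMap.polar (pairQ f h) u v = f u v := by
  unfold QuadraticMap.polar pairQ
  set u0 : ι → F := p.projection q h u with hu0
  set v0 : ι → F := p.projection q h v with hv0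
  have hu0p : u0 ∈ p := Submodule.projection_apply_mem h u
  have hv0p : v0 ∈ p := Submodule.projection_apply_mem h v
  have hu1 : u - u0 ∈ q := sub_proj_mem h u
  have hv1 : v - v0 ∈ q := sub_proj_mem h v
  rw [map_add, ← hu0, ← hv0]
  have eu : u = u0 + (u - u0) := by abel
  have ev : v = v0 + (v - v0) := by abel
  generalize u - u0 = u1 at hu1 eu
  generalize v - v0 = v1 at hv1 ev
  rw [eu, ev]
  have b := hf.bilinear
  simp only [b.add_left, b.add_right, hp u0 hu0p u0 hu0p, hp u0 hu0p v0 hv0p, hp v0 hv0p u0 hu0p,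
    hp v0 hv0p v0 hv0p, hq u1 hu1 v1 hv1]
  rw [hf.skew u1 v0, neg_eq_self_of_two h2]
  ring

theorem pairQ_isNondegenerate {f : (ι → F) → (ι → F) → F} (hf : IsSymplecticForm f)
    (h2 : (2 : F) = 0) {p q : Submodule F (ι → F)} (h : IsCompl p q)
    (hp : IsTotallySingularFor f p) (hq : IsTotallySingularFor f q) :
    IsNondegenerateQuadraticForm (pairQ f h) :=
  isNondegenerateQuadraticForm_of_polar hf (pairQ_smul hf h) (pairQ_polar hf h2 h hp hq)

/-- Isometries preserving both subspaces preserve the quadratic form. -/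
theorem pairQ_of_preserve {f : (ι → F) → (ι → F) → F} {p q : Submodule F (ι → F)}
    (h : IsCompl p q) {g : Matrix ι ι F} (hg : ∀ u v, f (g *ᵥ u) (g *ᵥ v) = f u v)
    (hgp : ∀ x ∈ p, g *ᵥ x ∈ p) (hgq : ∀ x ∈ q, g *ᵥ x ∈ q) (v : ι → F) :
    pairQ f h (g *ᵥ v) = pairQ f h v := by
  unfold pairQ
  have e : p.projection q h (g *ᵥ v) = g *ᵥ (p.projection q h v) := by
    apply proj_eq_of_mem h (hgp _ (Submodule.projection_apply_mem h v))
    rw [← Matrix.mulVec_sub]
    exact hgq _ (sub_proj_mem h v)
  rw [e, hg]

/-- Isometries interchanging the two subspaces preserve the quadratic form (characteristic two). -/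
theorem pairQ_of_swap {f : (ι → F) → (ι → F) → F} (hf : IsSymplecticForm f) (h2 : (2 : F) = 0)
    {p q : Submodule F (ι → F)}
    (h : IsCompl p q) {g : Matrix ι ι F} (hg : ∀ u v, f (g *ᵥ u) (g *ᵥ v) = f u v)
    (hgp : ∀ x ∈ p, g *ᵥ x ∈ q) (hgq : ∀ x ∈ q, g *ᵥ x ∈ p) (v : ι → F) :
    pairQ f h (g *ᵥ v) = pairQ f h v := by
  unfold pairQ
  set v0 : ι → F := p.projection q h v with hv0
  have hv0p : v0 ∈ p := Submodule.projection_apply_mem h v
  have hv1 : v - v0 ∈ q := sub_proj_mem h v
  have e : p.projection q h (g *ᵥ v) = g *ᵥ (v - v0) := by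
    apply proj_eq_of_mem h (hgq _ hv1)
    rw [← Matrix.mulVec_sub]
    have : v - (v - v0) = v0 := by abel
    rw [this]
    exact hgp _ hv0p
  rw [e, hg]
  have e1 : f (v - v0) v = f v v + f (-v0) v := by
    rw [← hf.bilinear.add_left, sub_eq_add_neg]
  have e2 : f (-v0) v = - f v0 v := by
    have := hf.bilinear.smul_left (-1) v0 v
    simpa using this
  rw [e1, e2, hf.alternating, zero_add, neg_eq_self_of_two h2]

end Cfsg.Agent.Helper8.SpEven
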