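import Cfsg.Agent.Helper8.SpEvenC

/-!
# Symplectic groups in characteristic two: containments in orthogonal groups, part D

The normaliser of a quadratic field closed under adjoints but not self-adjoint (the unitary group
`GU_m(q).2` inside `Sp_2m(q)`) preserves a quadratic form when `q` is even.
-/

set_option autoImplicit false
set_option linter.unusedSectionVars false

namespace Cfsg.Agent.Helper8.SpEven

open Cfsg Cfsg.Geo Matrix

variable {ι : Type} [Fintype ι] [DecidableEq ι] {F : Type*} [Field F]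

/-- The self-adjoint elements of a subalgebra, as a submodule. -/
def selfAdj (f : (ι → F) → (ι → F) → F) (hf : IsBilinearForm f)
    (K : Subalgebra F (Matrix ι ι F)) : Submodule F (Matrix ι ι F) where
  carrier := {k | k ∈ K ∧ ∀ u v, f (k *ᵥ u) v = f u (k *ᵥ v)}
  add_mem' := by
    rintro a b ⟨ha, ha'⟩ ⟨hb, hb'⟩
    refine ⟨K.add_mem ha hb, fun u v => ?_⟩
    rw [Matrix.add_mulVec, Matrix.add_mulVec, hf.add_left, hf.add_right, ha', hb']
  zero_mem' := by
    refine ⟨K.zero_mem, fun u v => ?_⟩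
    rw [Matrix.zero_mulVec, Matrix.zero_mulVec]
    have h1 := hf.smul_left 0 u v
    have h2 := hf.smul_right 0 u v
    rw [zero_smul, zero_mul] at h1 h2
    rw [h1, h2]
  smul_mem' := by
    rintro c a ⟨ha, ha'⟩
    refine ⟨K.smul_mem ha c, fun u v => ?_⟩
    rw [Matrix.smul_mulVec, Matrix.smul_mulVec, hf.smul_left, hf.smul_right, ha']

theorem mem_selfAdj {f : (ι → F) → (ι → F) → F} {hf : IsBilinearForm f}
    {K : Subalgebra F (Matrix ι ι F)} {k : Matrix ι ι F} :
    k ∈ selfAdj f hf K ↔ k ∈ K ∧ ∀ u v, f (k *ᵥ u) v = f u (k *ᵥ v) := Iff.rfl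

/-- In a quadratic field which is not self-adjoint, the self-adjoint elements are scalars. -/
theorem scalar_of_selfAdj {f : (ι → F) → (ι → F) → F} (hf : IsBilinearForm f)
    {K : Subalgebra F (Matrix ι ι F)} (hK : IsFieldSubalgebra 2 K)
    (hns : ¬ IsSelfAdjointFor f K) {z : Matrix ι ι F} (hz : z ∈ selfAdj f hf K) :
    ∃ c : F, z = c • (1 : Matrix ι ι F) := by
  have hle : selfAdj f hf K ≤ Subalgebra.toSubmodule K := fun k hk => hk.1
  have hne : selfAdj f hf K ≠ Subalgebra.toSubmodule K := by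
    intro h
    apply hns
    intro k hk u v
    have : k ∈ selfAdj f hf K := by
      rw [h]
      exact hk
    exact this.2 u v
  have hlt : selfAdj f hf K < Subalgebra.toSubmodule K := lt_of_le_of_ne hle hne
  have hfin : Module.finrank F (Subalgebra.toSubmodule K) = 2 := by
    rw [Subalgebra.finrank_toSubmodule]
    exact hK.finrank_eq
  have hfd : Module.Finite F (Subalgebra.toSubmodule K) :=
    Module.Finite.of_injective (Subalgebra.toSubmodule K).subtype Subtype.val_injective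
  have h1 := Submodule.finrank_lt_finrank_of_lt hlt
  rw [hfin] at h1
  have hone : (1 : Matrix ι ι F) ∈ selfAdj f hf K := by
    refine ⟨K.one_mem, fun u v => ?_⟩
    rw [Matrix.one_mulVec, Matrix.one_mulVec]
  have h10 : (1 : Matrix ι ι F) ≠ 0 := by
    intro h
    have hsub : Subsingleton (Matrix ι ι F) := by
      refine ⟨fun a b => ?_⟩
      rw [← Matrix.one_mul a, ← Matrix.one_mul b, h, Matrix.zero_mul, Matrix.zero_mul]
    have : Subsingleton (Subalgebra.toSubmodule K) := ⟨fun a b => Subtype.ext (Subsingleton.elim _ _)⟩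
    rw [Module.finrank_zero_of_subsingleton] at hfin
    omega
  have hpos : 0 < Module.finrank F (selfAdj f hf K) := by
    have hfd' : Module.Finite F (selfAdj f hf K) :=
      Module.Finite.of_injective (selfAdj f hf K).subtype Subtype.val_injective
    rw [Module.finrank_pos_iff_exists_ne_zero]
    exact ⟨⟨1, hone⟩, fun h => h10 (congrArg Subtype.val h)⟩
  have hfr : Module.finrank F (selfAdj f hf K) = 1 := by omega
  have hnz : (⟨1, hone⟩ : selfAdj f hf K) ≠ 0 := fun h => h10 (congrArg Subtype.val h)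
  obtain ⟨c, hc⟩ := (finrank_eq_one_iff_of_nonzero' (⟨1, hone⟩ : selfAdj f hf K) hnz).mp hfr ⟨z, hz⟩
  refine ⟨c, ?_⟩
  have := congrArg Subtype.val hc
  exact this.symm

theorem mat_add_self (h2 : (2 : F) = 0) (M : Matrix ι ι F) : M + M = 0 := by
  ext i j
  rw [Matrix.add_apply, Matrix.zero_apply, ← two_mul, h2, zero_mul]

theorem mat_neg_eq_self (h2 : (2 : F) = 0) (M : Matrix ι ι F) : -M = M :=
  neg_eq_of_add_eq_zero_left (mat_add_self h2 M)

theorem adjoint_symm {f : (ι → F) → (ι → F) → F} (hf : IsSymplecticForm f) {k k' : Matrix ι ι F}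
    (h : ∀ u v, f (k *ᵥ u) v = f u (k' *ᵥ v)) : ∀ u v, f (k' *ᵥ u) v = f u (k *ᵥ v) := by
  intro u v
  rw [hf.skew, ← h, hf.skew, neg_neg]

/-- **E2.** In characteristic two, the normaliser of a quadratic field which is closed under
adjoints but not self-adjoint, in the isometry group of the symplectic form `f`, preserves a
non-degenerate quadratic form polarising to `f`. -/
theorem quad_of_unitary_field (h2 : (2 : F) = 0) {f : (ι → F) → (ι → F) → F}
    (hf : IsSymplecticForm f) (K : Subalgebra F (Matrix ι ι F)) (hK : IsFieldSubalgebra 2 K)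
    (hadj : IsAdjointClosedFor f K) (hns : ¬ IsSelfAdjointFor f K) :
    ∃ Q : (ι → F) → F, IsNondegenerateQuadraticForm Q ∧
      (∀ u v, QuadraticMap.polar Q u v = f u v) ∧
      ∀ g ∈ subalgebraNormalizer K,
        (∀ u v, f ((g : Matrix ι ι F) *ᵥ u) ((g : Matrix ι ι F) *ᵥ v) = f u v) →
        ∀ v, Q ((g : Matrix ι ι F) *ᵥ v) = Q v := by
  have hb := hf.bilinear
  -- a non-self-adjoint element and its adjoint
  obtain ⟨k, hk, hkns⟩ : ∃ k ∈ K, ¬ ∀ u v, f (k *ᵥ u) v = f u (k *ᵥ v) := by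
    by_contra hcon
    push Not at hcon
    exact hns (fun k hk => hcon k hk)
  obtain ⟨k', hk', hkk'⟩ := hadj k hk
  have hsum : k + k' ∈ selfAdj f hb K := by
    refine ⟨K.add_mem hk hk', fun u v => ?_⟩
    rw [Matrix.add_mulVec, Matrix.add_mulVec, hb.add_left, hb.add_right, hkk',
      adjoint_symm hf hkk', add_comm]
  obtain ⟨c, hc⟩ := scalar_of_selfAdj hb hK hns hsum
  have hc0 : c ≠ 0 := by
    rintro rfl
    rw [zero_smul] at hc
    have hk'k : k' = k := by
      have : k' = -k := eq_neg_of_add_eq_zero_right hc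
      rw [this]
      exact mat_neg_eq_self h2 k
    rw [hk'k] at hkk'
    exact hkns hkk'
  -- normalise
  set k0 : Matrix ι ι F := c⁻¹ • k with hk0
  set k0' : Matrix ι ι F := c⁻¹ • k' with hk0'
  have hk0K : k0 ∈ K := K.smul_mem hk _
  have hk0'K : k0' ∈ K := K.smul_mem hk' _
  have hadj0 : ∀ u v, f (k0 *ᵥ u) v = f u (k0' *ᵥ v) := by
    intro u v
    rw [hk0, hk0', Matrix.smul_mulVec, Matrix.smul_mulVec, hb.smul_left, hb.smul_right, hkk']
  have hsum0 : k0 + k0' = 1 := by
    rw [hk0, hk0', ← smul_add, hc, smul_smul, inv_mul_cancel₀ hc0, one_smul]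
  have hQsmul : ∀ (a : F) (v : ι → F), f (k0 *ᵥ (a • v)) (a • v) = a ^ 2 * f (k0 *ᵥ v) v := by
    intro a v
    rw [Matrix.mulVec_smul, hb.smul_left, hb.smul_right]
    ring
  have hpolar : ∀ u v, QuadraticMap.polar (fun w => f (k0 *ᵥ w) w) u v = f u v := by
    intro u v
    unfold QuadraticMap.polar
    simp only [Matrix.mulVec_add, hb.add_left, hb.add_right]
    have e1 : f (k0 *ᵥ v) u = f (k0' *ᵥ u) v := by
      rw [hadj0, hf.skew, neg_eq_self_of_two h2]
    have e2 : f u v = f (k0 *ᵥ u) v + f (k0' *ᵥ u) v := by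
      rw [← hb.add_left, ← Matrix.add_mulVec, hsum0, Matrix.one_mulVec]
    rw [e1, e2]
    ring
  refine ⟨fun w => f (k0 *ᵥ w) w, isNondegenerateQuadraticForm_of_polar hf hQsmul hpolar, hpolar, ?_⟩
  intro g hg hiso v
  show f (k0 *ᵥ ((g : Matrix ι ι F) *ᵥ v)) ((g : Matrix ι ι F) *ᵥ v) = f (k0 *ᵥ v) v
  -- conjugates
  set gi : Matrix ι ι F := ((g⁻¹ : GL ι F) : Matrix ι ι F) with hgi
  have hgg : (g : Matrix ι ι F) * gi = 1 := by
    rw [hgi, ← Units.val_mul, mul_inv_cancel, Units.val_one]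
  have hgg' : gi * (g : Matrix ι ι F) = 1 := by
    rw [hgi, ← Units.val_mul, inv_mul_cancel, Units.val_one]
  have hconjK : ∀ x ∈ K, gi * x * (g : Matrix ι ι F) ∈ K := by
    intro x hx
    rw [hg (gi * x * (g : Matrix ι ι F))]
    have : (g : Matrix ι ι F) * (gi * x * (g : Matrix ι ι F)) * gi = x := by
      calc (g : Matrix ι ι F) * (gi * x * (g : Matrix ι ι F)) * gi
          = ((g : Matrix ι ι F) * gi) * x * ((g : Matrix ι ι F) * gi) := by
            simp only [Matrix.mul_assoc]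
        _ = x := by rw [hgg, Matrix.one_mul, Matrix.mul_one]
    rw [this]
    exact hx
  set k1 : Matrix ι ι F := gi * k0 * (g : Matrix ι ι F) with hk1
  set k1' : Matrix ι ι F := gi * k0' * (g : Matrix ι ι F) with hk1'
  have hgk1 : ∀ x : Matrix ι ι F, ∀ w : ι → F,
      x *ᵥ ((g : Matrix ι ι F) *ᵥ w) = (g : Matrix ι ι F) *ᵥ ((gi * x * (g : Matrix ι ι F)) *ᵥ w) := by
    intro x w
    rw [Matrix.mulVec_mulVec, Matrix.mulVec_mulVec, ← Matrix.mul_assoc, ← Matrix.mul_assoc, hgg,
      Matrix.one_mul]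
  have hadj1 : ∀ u w, f (k1 *ᵥ u) w = f u (k1' *ᵥ w) := by
    intro u w
    rw [← hiso (k1 *ᵥ u) w, hk1, ← hgk1 k0 u, hadj0, hgk1 k0' w, hiso]
  have hsum1 : k1 + k1' = 1 := by
    rw [hk1, hk1', ← Matrix.add_mul, ← Matrix.mul_add, hsum0, Matrix.mul_one, hgg']
  have hzself : k1 + k0 ∈ selfAdj f hb K := by
    refine ⟨K.add_mem (hconjK k0 hk0K) hk0K, fun u w => ?_⟩
    have e : k1 + k0 = k1' + k0' := by
      have h3 : k1' = 1 - k1 := eq_sub_of_add_eq' hsum1
      have h4 : k0' = 1 - k0 := eq_sub_of_add_eq' hsum0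
      rw [h3, h4]
      have e5 : (1 : Matrix ι ι F) - k1 + (1 - k0) = (1 + 1) - (k1 + k0) := by abel
      rw [e5, mat_add_self h2, zero_sub, mat_neg_eq_self h2]
    rw [Matrix.add_mulVec, hb.add_left, hadj1, hadj0, ← hb.add_right, ← Matrix.add_mulVec, ← e]
  obtain ⟨d, hd⟩ := scalar_of_selfAdj hb hK hns hzself
  have hk1eq : k1 = d • (1 : Matrix ι ι F) + k0 := by
    rw [← hd, add_assoc]
    rw [mat_add_self h2, add_zero]
  rw [hgk1 k0 v, hiso, ← hk1, hk1eq, Matrix.add_mulVec, hb.add_left, Matrix.smul_mulVec,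
    Matrix.one_mulVec, hb.smul_left, hf.alternating, mul_zero, zero_add]

/-- **E2 for the standard form.** -/
theorem le_quad_of_unitary_field {m : ℕ} (h2 : (2 : F) = 0)
    (K : Subalgebra F (Matrix (Fin m ⊕ Fin m) (Fin m ⊕ Fin m) F)) (hK : IsFieldSubalgebra 2 K)
    (hadj : IsAdjointClosedFor (sympForm m F) K) (hns : ¬ IsSelfAdjointFor (sympForm m F) K) :
    ∃ Q : (Fin m ⊕ Fin m → F) → F, IsNondegenerateQuadraticForm Q ∧
      (∀ u v, QuadraticMap.polar Q u v = sympForm m F u v) ∧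
      subalgebraNormalizer K ⊓ spGL m F ≤ quadSimilarityGroup Q := by
  obtain ⟨Q, hQ, hpol, hinv⟩ :=
    quad_of_unitary_field h2 (isSymplecticForm_sympForm m) K hK hadj hns
  refine ⟨Q, hQ, hpol, ?_⟩
  rintro g ⟨hg1, hg2⟩
  refine ⟨1, fun v => ?_⟩
  rw [Units.val_one, one_mul]
  exact hinv g hg1 (mem_spGL_iff.mp hg2) v

/-- **E3 for the standard form.** -/
theorem le_quad_of_two_decomp {m : ℕ} [Fintype F] (hq : Fintype.card F = 2) {t : ℕ}
    (D : Fin t → Submodule F (Fin m ⊕ Fin m → F))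
    (hD : IsNondegenerateMDecomposition (sympForm m F) 2 D) :
    ∃ Q : (Fin m ⊕ Fin m → F) → F, IsNondegenerateQuadraticForm Q ∧
      (∀ u v, QuadraticMap.polar Q u v = sympForm m F u v) ∧
      decompositionStabilizer D ⊓ spGL m F ≤ quadSimilarityGroup Q := by
  obtain ⟨Q, hQ, hpol, hinv⟩ := quad_of_two_decomp hq (isSymplecticForm_sympForm m) D hD
  refine ⟨Q, hQ, hpol, ?_⟩
  rintro g ⟨hg1, hg2⟩
  refine ⟨1, fun v => ?_⟩
  rw [Units.val_one, one_mul]
  exact hinv g hg1 (mem_spGL_iff.mp hg2) v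

end Cfsg.Agent.Helper8.SpEven
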