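import Cfsg.Agent.Helper8.SpEvenE

/-!
# Symplectic groups: self-adjoint fields, and quadratic forms fixed by a normal irreducible subgroup
-/

set_option autoImplicit false
set_option linter.unusedSectionVars false

namespace Cfsg.Agent.Helper8.SpEven

open Cfsg Cfsg.Geo Matrix

variable {ι : Type} [Fintype ι] [DecidableEq ι] {F : Type*} [Field F]

/-- In a finite field subalgebra of characteristic two every element is a square. -/
theorem exists_sq_of_field [Fintype F] (h2 : (2 : F) = 0) {r : ℕ} {K : Subalgebra F (Matrix ι ι F)}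
    (hK : IsFieldSubalgebra r K) {k : Matrix ι ι F} (hk : k ∈ K) : ∃ j ∈ K, j * j = k := by
  classical
  have hfin : Finite K := inferInstance
  have hinj : Function.Injective (fun x : K => x * x) := by
    intro x y hxy
    have hxy' : (x : Matrix ι ι F) * x = y * y := congrArg Subtype.val hxy
    by_contra hne
    have hne' : (x : Matrix ι ι F) - y ≠ 0 := fun h => hne (Subtype.ext (sub_eq_zero.mp h))
    obtain ⟨z, _, hz⟩ := hK.inv _ (K.sub_mem x.2 y.2) hne'
    have hsq : ((x : Matrix ι ι F) - y) * ((x : Matrix ι ι F) - y) = 0 := by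
      have hc := hK.comm _ x.2 _ y.2
      have e : ((x : Matrix ι ι F) - y) * ((x : Matrix ι ι F) - y) =
          (x : Matrix ι ι F) * x + y * y - (x * y + x * y) := by
        rw [sub_mul, mul_sub, mul_sub, ← hc]
        abel
      rw [e, hxy', mat_add_self h2, mat_add_self h2, sub_zero]
    apply hne'
    calc (x : Matrix ι ι F) - y = ((x : Matrix ι ι F) - y) * (((x : Matrix ι ι F) - y) * z) := by
          rw [hz, Matrix.mul_one]
      _ = 0 := by rw [← Matrix.mul_assoc, hsq, Matrix.zero_mul]
  obtain ⟨j, hj⟩ := (Finite.injective_iff_surjective.mp hinj) ⟨k, hk⟩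
  exact ⟨j, j.2, congrArg Subtype.val hj⟩

/-- For a self-adjoint field `K` and a symplectic form `f` over a finite field, `f (k v) v = 0` for
all `k ∈ K`. -/
theorem selfAdjoint_alt [Fintype F] {f : (ι → F) → (ι → F) → F} (hf : IsSymplecticForm f) {r : ℕ}
    {K : Subalgebra F (Matrix ι ι F)} (hK : IsFieldSubalgebra r K) (hsa : IsSelfAdjointFor f K) :
    ∀ k ∈ K, ∀ v : ι → F, f (k *ᵥ v) v = 0 := by
  intro k hk v
  by_cases h2 : (2 : F) = 0
  · obtain ⟨j, hj, hjk⟩ := exists_sq_of_field h2 hK hk
    rw [← hjk, ← Matrix.mulVec_mulVec, hsa j hj, hf.alternating]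
  · have h1 : f (k *ᵥ v) v = - f (k *ᵥ v) v := by
      conv_lhs => rw [hsa k hk, hf.skew]
    have : (2 : F) * f (k *ᵥ v) v = 0 := by linear_combination h1
    rcases mul_eq_zero.mp this with h | h
    · exact absurd h h2
    · exact h

/-- **Invariant quadratic forms are invariant under the normaliser** (characteristic two): if an
irreducible group `P` fixes a quadratic form `Q` polarising to `f`, then every isometry `h` of `f`
normalising `P` fixes `Q`. -/
theorem fixesQuad_of_normalizes [Fintype F] {f : (ι → F) → (ι → F) → F}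
    (hdim : 2 ≤ Fintype.card ι) {P : Subgroup (GL ι F)} (hirr : ActsIrreducibly (matrixSet P))
    {Q : (ι → F) → F} (hsmul : ∀ (c : F) (v : ι → F), Q (c • v) = c ^ 2 * Q v)
    (hpol : ∀ u v, QuadraticMap.polar Q u v = f u v) (hPQ : FixesQuadForm (matrixSet P) Q)
    {h : GL ι F} (hnorm : ∀ p ∈ P, h * p * h⁻¹ ∈ P)
    (hiso : ∀ u v, f ((h : Matrix ι ι F) *ᵥ u) ((h : Matrix ι ι F) *ᵥ v) = f u v) :
    ∀ v, Q ((h : Matrix ι ι F) *ᵥ v) = Q v := by
  classical
  have hadd : ∀ u v, Q (u + v) = Q u + Q v + f u v := by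
    intro u v
    have := hpol u v
    unfold QuadraticMap.polar at this
    linear_combination this
  have hQ0 : Q 0 = 0 := by
    have := hsmul 0 0
    rw [smul_zero] at this
    rw [this]
    ring
  -- the difference
  let W : Submodule F (ι → F) :=
    { carrier := {v | Q ((h : Matrix ι ι F) *ᵥ v) = Q v}
      add_mem' := by
        intro a b ha hb
        have ha' : Q ((h : Matrix ι ι F) *ᵥ a) = Q a := ha
        have hb' : Q ((h : Matrix ι ι F) *ᵥ b) = Q b := hb
        show Q ((h : Matrix ι ι F) *ᵥ (a + b)) = Q (a + b)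
        rw [Matrix.mulVec_add, hadd, hadd, ha', hb', hiso]
      zero_mem' := by
        show Q ((h : Matrix ι ι F) *ᵥ 0) = Q 0
        rw [Matrix.mulVec_zero]
      smul_mem' := by
        intro c a ha
        have ha' : Q ((h : Matrix ι ι F) *ᵥ a) = Q a := ha
        show Q ((h : Matrix ι ι F) *ᵥ (c • a)) = Q (c • a)
        rw [Matrix.mulVec_smul, hsmul, hsmul, ha'] }
  have hWinv : ∀ s ∈ matrixSet P, W.map (Matrix.toLin' s) ≤ W := by
    rintro s ⟨p, hp, rfl⟩ _ ⟨v, hv, rfl⟩
    have hv' : Q ((h : Matrix ι ι F) *ᵥ v) = Q v := hv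
    show Q ((h : Matrix ι ι F) *ᵥ (Matrix.toLin' (p : Matrix ι ι F) v)) =
      Q (Matrix.toLin' (p : Matrix ι ι F) v)
    rw [Matrix.toLin'_apply]
    have e : (h : Matrix ι ι F) *ᵥ ((p : Matrix ι ι F) *ᵥ v) =
        ((h * p * h⁻¹ : GL ι F) : Matrix ι ι F) *ᵥ ((h : Matrix ι ι F) *ᵥ v) := by
      rw [Matrix.mulVec_mulVec, Matrix.mulVec_mulVec, ← Units.val_mul, ← Units.val_mul]
      congr 2
      group
    rw [e, hPQ _ ⟨_, hnorm p hp, rfl⟩, hPQ _ ⟨p, hp, rfl⟩, hv']
  rcases hirr W hWinv with hW | hW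
  · -- then `v ↦ Q (h v) - Q v` is an injective additive map into `F`: impossible
    exfalso
    have hinj : Function.Injective (fun v : ι → F => Q ((h : Matrix ι ι F) *ᵥ v) - Q v) := by
      intro a b hab
      have hab' : Q ((h : Matrix ι ι F) *ᵥ a) - Q a = Q ((h : Matrix ι ι F) *ᵥ b) - Q b := hab
      have hmem : a - b ∈ W := by
        show Q ((h : Matrix ι ι F) *ᵥ (a - b)) = Q (a - b)
        have ea : a = (a - b) + b := by abel
        have h1 := hadd (a - b) b
        have h2 := hadd ((h : Matrix ι ι F) *ᵥ (a - b)) ((h : Matrix ι ι F) *ᵥ b)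
        rw [← Matrix.mulVec_add, hiso, ← ea] at h2
        rw [← ea] at h1
        linear_combination -h2 + h1 + hab'
      rw [hW, Submodule.mem_bot] at hmem
      exact sub_eq_zero.mp hmem
    have hcard := Fintype.card_le_of_injective _ hinj
    rw [Fintype.card_fun] at hcard
    have h1 : 1 < Fintype.card F := Fintype.one_lt_card
    have h3 : Fintype.card F ^ 2 ≤ Fintype.card F ^ Fintype.card ι :=
      Nat.pow_le_pow_right (by omega) hdim
    nlinarith
  · intro v
    have : v ∈ W := by rw [hW]; exact Submodule.mem_top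
    exact this

end Cfsg.Agent.Helper8.SpEven
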