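import Mathlib
import Cfsg.Agent.Helper8.SpOrder
import Cfsg.Agent.S2904
set_option autoImplicit false

/-! Faithful representations of `Sp_{2n}(q)` over `F_q` have degree at least `2n`. -/

namespace Cfsg.Agent.Helper8.SpFaithful

open Matrix
open scoped MatrixGroups

variable {F : Type*} [Field F]

/-- `Sp_2(F)` is not commutative. -/
theorem sp2_not_comm : ∃ A B : Matrix.symplecticGroup (Fin 1) F, A * B ≠ B * A := by
  have hA : (Matrix.fromBlocks 1 1 0 1 : Matrix (Fin 1 ⊕ Fin 1) (Fin 1 ⊕ Fin 1) F) ∈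
      Matrix.symplecticGroup (Fin 1) F := by
    rw [SymplecticGroup.mem_iff, Matrix.J, Matrix.fromBlocks_transpose, Matrix.fromBlocks_multiply,
      Matrix.fromBlocks_multiply]
    simp
  have hB : (Matrix.fromBlocks 1 0 1 1 : Matrix (Fin 1 ⊕ Fin 1) (Fin 1 ⊕ Fin 1) F) ∈
      Matrix.symplecticGroup (Fin 1) F := by
    rw [SymplecticGroup.mem_iff, Matrix.J, Matrix.fromBlocks_transpose, Matrix.fromBlocks_multiply,
      Matrix.fromBlocks_multiply]
    simp
  refine ⟨⟨_, hA⟩, ⟨_, hB⟩, ?_⟩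
  intro h
  have h1 := congrArg (fun X : Matrix.symplecticGroup (Fin 1) F =>
    (X : Matrix (Fin 1 ⊕ Fin 1) (Fin 1 ⊕ Fin 1) F) (Sum.inl 0) (Sum.inl 0)) h
  change ((Matrix.fromBlocks 1 1 0 1 * Matrix.fromBlocks 1 0 1 1 :
      Matrix (Fin 1 ⊕ Fin 1) (Fin 1 ⊕ Fin 1) F)) (Sum.inl 0) (Sum.inl 0) =
    ((Matrix.fromBlocks 1 0 1 1 * Matrix.fromBlocks 1 1 0 1 :
      Matrix (Fin 1 ⊕ Fin 1) (Fin 1 ⊕ Fin 1) F)) (Sum.inl 0) (Sum.inl 0) at h1
  rw [Matrix.fromBlocks_multiply, Matrix.fromBlocks_multiply] at h1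
  simp at h1


variable [Fintype F]

/-- a prime dividing the order of `GL_d(F)` and not `q` divides some `q^k - 1`, `0 < k ≤ d`. -/
theorem exists_dvd_of_dvd_card_GL (d r : ℕ) (hr : r.Prime) (hrq : ¬ r ∣ Fintype.card F)
    (h : r ∣ Nat.card (GL (Fin d) F)) :
    ∃ k, 0 < k ∧ k ≤ d ∧ r ∣ Fintype.card F ^ k - 1 := by
  rw [Matrix.card_GL_field] at h
  obtain ⟨i, -, hi⟩ := (Prime.dvd_finsetProd_iff hr.prime _).mp h
  have h1 : Fintype.card F ^ d - Fintype.card F ^ (i : ℕ) =
      Fintype.card F ^ (i : ℕ) * (Fintype.card F ^ (d - i) - 1) := by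
    rw [Nat.mul_sub, mul_one, ← pow_add]
    congr 2
    have := i.2
    omega
  rw [h1] at hi
  rcases (Nat.Prime.dvd_mul hr).mp hi with h2 | h2
  · exact absurd (hr.dvd_of_dvd_pow h2) hrq
  · exact ⟨d - i, by have := i.2; omega, Nat.sub_le _ _, h2⟩

theorem two_mul_le (n d : ℕ) (ρ : Matrix.symplecticGroup (Fin n) F →* GL (Fin d) F)
    (hρ : Function.Injective ρ) : 2 * n ≤ d := by
  set q := Fintype.card F with hq
  have hq1 : 1 < q := Fintype.one_lt_card
  rcases Nat.lt_or_ge n 2 with hn | hn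
  · interval_cases n
    · omega
    · -- `n = 1`
      by_contra hd
      have hd1 : d ≤ 1 := by omega
      obtain ⟨A, B, hAB⟩ := sp2_not_comm (F := F)
      apply hAB
      apply hρ
      rw [map_mul, map_mul]
      apply Units.ext
      rw [Units.val_mul, Units.val_mul]
      ext i j
      rw [Matrix.mul_apply, Matrix.mul_apply]
      interval_cases d
      · exact i.elim0
      · have hi : i = 0 := Subsingleton.elim _ _
        have hj : j = 0 := Subsingleton.elim _ _
        subst hi hj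
        simp [mul_comm]
  · have hdvd : Nat.card (Matrix.symplecticGroup (Fin n) F) ∣ Nat.card (GL (Fin d) F) :=
      Subgroup.card_dvd_of_injective ρ hρ
    by_cases hex : q = 2 ∧ 2 * n = 6
    · obtain ⟨hq2, hn3⟩ := hex
      have hn3' : n = 3 := by omega
      subst hn3'
      by_contra hd
      rw [SpOrder.card_symp, Matrix.card_GL_field, ← hq, hq2] at hdvd
      have hd6 : d < 6 := by omega
      have h81 : 81 ∣ 2 ^ 3 ^ 2 * ∏ i ∈ Finset.range 3, (2 ^ (2 * (i + 1)) - 1) := by
        norm_num [Finset.prod_range_succ]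
      have h81' := h81.trans hdvd
      interval_cases d <;> revert h81' <;> simp [Fin.prod_univ_succ]
    · obtain ⟨r, hr, hrdvd, hprim⟩ := Cfsg.Agent.S2904.result q (2 * n) hq1 (by omega) hex
        (by rintro ⟨h, -⟩; omega)
      have : Fact r.Prime := ⟨hr⟩
      have hrq : ¬ r ∣ q := by
        intro h
        have h1 : r ∣ q ^ (2 * n) := Dvd.dvd.pow h (by omega)
        have h2 : 1 ≤ q ^ (2 * n) := Nat.one_le_pow _ _ (by omega)
        have h3 : r ∣ 1 := by
          have := (Nat.dvd_sub h1 hrdvd)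
          rwa [Nat.sub_sub_self h2] at this
        exact hr.one_lt.ne' (Nat.dvd_one.mp h3)
      have hrSp : r ∣ Nat.card (Matrix.symplecticGroup (Fin n) F) := by
        rw [SpOrder.card_symp, ← hq]
        apply Dvd.dvd.mul_left
        have hmem : n - 1 ∈ Finset.range n := Finset.mem_range.mpr (by omega)
        refine Dvd.dvd.trans ?_ (Finset.dvd_prod_of_mem _ hmem)
        have : 2 * (n - 1 + 1) = 2 * n := by omega
        rw [this]
        exact hrdvd
      obtain ⟨g, hg⟩ := exists_prime_orderOf_dvd_card' r hrSp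
      have hρg : orderOf (ρ g) = r := by rw [orderOf_injective ρ hρ g, hg]
      have hrGL : r ∣ Nat.card (GL (Fin d) F) := by
        rw [← hρg]
        exact orderOf_dvd_natCard _
      obtain ⟨k, hk0, hkd, hk⟩ := exists_dvd_of_dvd_card_GL d r hr hrq hrGL
      by_contra hd
      exact hprim k hk0 (by omega) hk

end Cfsg.Agent.Helper8.SpFaithful
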