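import Mathlib
import Cfsg.Agent.Helper8.RPUnipSemi
set_option autoImplicit false

/-! Transfer of the factor-family lemmas to matrices over an arbitrary finite index type. -/

namespace Cfsg.Agent.Helper8.SpG

open Polynomial Matrix
open Cfsg.Agent.Helper8.PGraph

variable {F : Type*} [Field F]

theorem aeval_reindex {ι κ : Type*} [Fintype ι] [DecidableEq ι] [Fintype κ] [DecidableEq κ]
    (e : ι ≃ κ) (A : Matrix ι ι F) (f : F[X]) :
    aeval (Matrix.reindex e e A) f = Matrix.reindex e e (aeval A f) := by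
  have := Polynomial.aeval_algHom_apply (Matrix.reindexAlgEquiv F F e).toAlgHom A f
  exact this

theorem reindex_zero' {ι κ : Type*} (e : ι ≃ κ) :
    Matrix.reindex e e (0 : Matrix ι ι F) = 0 := by
  ext i j
  rfl

theorem exists_family_killed_gen {ι : Type*} [Fintype ι] [DecidableEq ι] (A : Matrix ι ι F)
    (g : F[X]) (hg : Squarefree g) (hA : aeval A g = 0) :
    ∃ (d : ℕ) (P : Fin d → F[X]), (∀ i, (P i).Monic ∧ Irreducible (P i)) ∧ (∀ i, P i ∣ g) ∧
      A.charpoly = ∏ i, P i ∧ (∀ f : F[X], (∀ i, P i ∣ f) → aeval A f = 0) := by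
  set e := Fintype.equivFin ι with he
  have h1 : aeval (Matrix.reindex e e A) g = 0 := by
    rw [aeval_reindex, hA]
    exact reindex_zero' e
  obtain ⟨d, P, hP, hdvd, hchar, hkill⟩ := exists_family_killed (Matrix.reindex e e A) g hg h1
  refine ⟨d, P, hP, hdvd, ?_, ?_⟩
  · rw [← hchar, Matrix.charpoly_reindex]
  · intro f hf
    have h2 := hkill f hf
    rw [aeval_reindex] at h2
    exact (Matrix.reindex e e).injective (h2.trans (reindex_zero' e).symm)

theorem exists_sq_dvd_charpoly_gen {ι : Type*} [Fintype ι] [DecidableEq ι]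
    (A u : Matrix ι ι F) (g : F[X])
    (hg : Squarefree g) (hA : aeval A g = 0) (hcomm : u * A = A * u) (k : ℕ)
    (hk : (u - 1) ^ k = 0) (hu : u ≠ 1) :
    ∃ Q : F[X], Q.Monic ∧ Irreducible Q ∧ Q * Q ∣ A.charpoly := by
  set e := Fintype.equivFin ι with he
  set φ := Matrix.reindexAlgEquiv F F e with hφ
  have h1 : aeval (φ A) g = 0 := by
    have := aeval_reindex e A g
    rw [hA] at this
    rw [hφ, Matrix.coe_reindexAlgEquiv, this]
    exact reindex_zero' e
  have h2 : φ u * φ A = φ A * φ u := by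
    rw [← map_mul, ← map_mul, hcomm]
  have h3 : (φ u - 1) ^ k = 0 := by
    rw [← map_one φ, ← map_sub, ← map_pow, hk, map_zero]
  have h4 : φ u ≠ 1 := by
    intro h
    apply hu
    apply φ.injective
    rw [h, map_one]
  obtain ⟨Q, hQ1, hQ2, hQ3⟩ := Cfsg.Agent.Helper8.RP.exists_sq_dvd_charpoly (φ A) (φ u) g hg h1 h2 k h3 h4
  refine ⟨Q, hQ1, hQ2, ?_⟩
  have h5 : (φ A).charpoly = A.charpoly := by
    rw [hφ, Matrix.coe_reindexAlgEquiv, Matrix.charpoly_reindex]
  rwa [h5] at hQ3

end Cfsg.Agent.Helper8.SpG
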