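import Mathlib
import Cfsg.Agent.Helper8.SpGGen
import Cfsg.Agent.Helper8.SpGWt
set_option autoImplicit false

/-! Necessary conditions for elements of order `r s` and `r p` in `Sp_{2n}(q)`. -/

namespace Cfsg.Agent.Helper8.SpG

open Polynomial Matrix
open Cfsg.Agent.Helper8.PGraph

/-- `η(m) = m` for odd `m`, `m / 2` for even `m` -/
def eta (m : ℕ) : ℕ := if Even m then m / 2 else m

theorem eta_of_hyp (k ηk : ℕ) (h : (Odd k ∧ ηk = k) ∨ (Even k ∧ 2 * ηk = k)) : ηk = eta k := by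
  unfold eta
  rcases h with ⟨h1, h2⟩ | ⟨h1, h2⟩
  · rw [if_neg (Nat.not_even_iff_odd.mpr h1), h2]
  · rw [if_pos h1]; omega

theorem two_eta_le (l d : ℕ) (h1 : l ≤ d) (h2 : Odd l → 2 * l ≤ d) : 2 * eta l ≤ d := by
  unfold eta
  by_cases h : Even l
  · rw [if_pos h]; omega
  · rw [if_neg h]; exact h2 (Nat.not_even_iff_odd.mp h)

variable {F : Type*} [Field F] [Fintype F]

omit [Fintype F] in
theorem aeval_X_pow_sub_one' {ι : Type*} [Fintype ι] [DecidableEq ι] (A : Matrix ι ι F) (m : ℕ) :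
    aeval A (X ^ m - 1 : F[X]) = A ^ m - 1 := by
  rw [map_sub, map_pow, aeval_X, map_one]

omit [Fintype F] in
theorem natDegree_le_of_dvd_charpoly {n : ℕ} (A : Matrix (Fin n ⊕ Fin n) (Fin n ⊕ Fin n) F)
    (W : F[X]) (hW : W ∣ A.charpoly) : W.natDegree ≤ 2 * n := by
  have h1 : A.charpoly.natDegree = 2 * n := by
    rw [Matrix.charpoly_natDegree_eq_dim, Fintype.card_sum, Fintype.card_fin]; ring
  rw [← h1]
  exact Polynomial.natDegree_le_of_dvd hW (Matrix.charpoly_monic A).ne_zero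

theorem nec_rs (p : ℕ) [Fact p.Prime] [CharP F p] (n r s : ℕ) (hr : r.Prime) (hs : s.Prime)
    (hr2 : r ≠ 2) (hs2 : s ≠ 2) (hrp : r ≠ p) (hsp : s ≠ p)
    (k l : ℕ) (hk : k = orderOf ((Fintype.card F : ℕ) : ZMod r))
    (hl : l = orderOf ((Fintype.card F : ℕ) : ZMod s))
    (A : Matrix (Fin n ⊕ Fin n) (Fin n ⊕ Fin n) F) (hA : A ∈ Matrix.symplecticGroup (Fin n) F)
    (h1 : A ^ (r * s) = 1) (h2 : A ^ r ≠ 1) (h3 : A ^ s ≠ 1) :
    (∃ D, k ∣ D ∧ l ∣ D ∧ 0 < D ∧ D ≤ n) ∨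
    (∃ D, Even D ∧ k ∣ D ∧ ¬ k ∣ D / 2 ∧ l ∣ D ∧ ¬ l ∣ D / 2 ∧ 0 < D ∧ D ≤ 2 * n) ∨
    eta k + eta l ≤ n := by
  have hsq := squarefree_X_pow_mul_sub_one (F := F) p r s hr hs hrp hsp
  have hkill0 : aeval A (X ^ (r * s) - 1 : F[X]) = 0 := by
    rw [aeval_X_pow_sub_one', h1, sub_self]
  obtain ⟨d, P, hP, hdvd, hchar, hkill⟩ := exists_family_killed_gen A _ hsq hkill0
  have hχ := reverse_charpoly_symp A hA
  have hPχ : ∀ i, P i ∣ A.charpoly := by
    intro i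
    rw [hchar]
    exact Finset.dvd_prod_of_mem _ (Finset.mem_univ i)
  have hnot : ∀ m : ℕ, A ^ m ≠ 1 → ∃ i, ¬ P i ∣ X ^ m - 1 := by
    intro m hm
    by_contra hall
    rw [not_exists] at hall
    have h4 := hkill (X ^ m - 1) (fun i => not_not.mp (hall i))
    rw [aeval_X_pow_sub_one', sub_eq_zero] at h4
    exact hm h4
  have hdvd' : ∀ i, P i ∣ X ^ (s * r) - 1 := by
    intro i
    rw [mul_comm]
    exact hdvd i
  by_cases hcase : ∃ i, ¬ P i ∣ X ^ r - 1 ∧ ¬ P i ∣ X ^ s - 1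
  · obtain ⟨i, hi1, hi2⟩ := hcase
    have hlD : l ∣ (P i).natDegree := by
      rw [hl]
      exact dvd_natDegree_of_not_dvd (P i) (hP i).1 (hP i).2 r s hs (hdvd i) hi1
    have hkD : k ∣ (P i).natDegree := by
      rw [hk]
      exact dvd_natDegree_of_not_dvd (P i) (hP i).1 (hP i).2 s r hr (hdvd' i) hi2
    have hpos := (hP i).2.natDegree_pos
    by_cases hd : P i ∣ (P i).reverse
    · right; left
      obtain ⟨he, hl2⟩ := self_reciprocal_props (P i) (hP i).1 (hP i).2 hd r s hs hs2 (hdvd i) hi1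
      obtain ⟨_, hk2⟩ := self_reciprocal_props (P i) (hP i).1 (hP i).2 hd s r hr hr2 (hdvd' i) hi2
      rw [← hl] at hl2
      rw [← hk] at hk2
      exact ⟨(P i).natDegree, he, hkD, hk2, hlD, hl2, hpos,
        natDegree_le_of_dvd_charpoly A _ (hPχ i)⟩
    · left
      have h0 : (P i).coeff 0 ≠ 0 :=
        coeff_zero_ne_of_dvd (P i) (r * s) (Nat.mul_pos hr.pos hs.pos) (hdvd i)
      have h4 := Wt_pow_dvd A.charpoly (P i) hχ (hP i).2 1 (by rw [pow_one]; exact hPχ i)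
      rw [pow_one] at h4
      have h5 := natDegree_le_of_dvd_charpoly A _ h4
      rw [natDegree_Wt_of_not_dvd (P i) h0 hd] at h5
      exact ⟨(P i).natDegree, hkD, hlD, hpos, by omega⟩
  · right; right
    rw [not_exists] at hcase
    obtain ⟨i, hi⟩ := hnot r h2
    obtain ⟨i', hi'⟩ := hnot s h3
    have hi'r : P i' ∣ X ^ r - 1 := by
      by_contra h
      exact hcase i' ⟨h, hi'⟩
    have h0 : (P i).coeff 0 ≠ 0 :=
      coeff_zero_ne_of_dvd (P i) (r * s) (Nat.mul_pos hr.pos hs.pos) (hdvd i)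
    have hW : Wt (P i) ∣ A.charpoly := by
      have := Wt_pow_dvd A.charpoly (P i) hχ (hP i).2 1 (by rw [pow_one]; exact hPχ i)
      rwa [pow_one] at this
    have hW' : Wt (P i') ∣ A.charpoly := by
      have := Wt_pow_dvd A.charpoly (P i') hχ (hP i').2 1 (by rw [pow_one]; exact hPχ i')
      rwa [pow_one] at this
    have hc1 : IsCoprime (Wt (P i)) (X ^ r - 1) :=
      Wt_isCoprime (P i) _ (hP i).2 h0 (reverse_X_pow_sub_one_dvd r) hi
    have hc2 : Wt (P i') ∣ (X ^ r - 1) ^ 2 := Wt_dvd_sq (P i') _ (reverse_X_pow_sub_one_dvd r) hi'r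
    have hc3 : IsCoprime (Wt (P i)) (Wt (P i')) :=
      IsCoprime.of_isCoprime_of_dvd_right (hc1.pow_right (n := 2)) hc2
    have h4 : Wt (P i) * Wt (P i') ∣ A.charpoly := hc3.mul_dvd hW hW'
    have h5 := natDegree_le_of_dvd_charpoly A _ h4
    rw [Polynomial.natDegree_mul (Wt_ne_zero _ (hP i).2.ne_zero)
      (Wt_ne_zero _ (hP i').2.ne_zero)] at h5
    obtain ⟨h6, h7⟩ := le_natDegree_Wt (P i) (hP i).1 (hP i).2 r s hs hs2 (hdvd i) hi
    obtain ⟨h8, h9⟩ := le_natDegree_Wt (P i') (hP i').1 (hP i').2 s r hr hr2 (hdvd' i') hi'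
    rw [← hl] at h6 h7
    rw [← hk] at h8 h9
    have h10 := two_eta_le l _ h6 h7
    have h11 := two_eta_le k _ h8 h9
    omega

theorem nec_rp (p : ℕ) [Fact p.Prime] [CharP F p] (n r : ℕ) (hr : r.Prime) (hr2 : r ≠ 2)
    (hrp : r ≠ p) (k : ℕ) (hk : k = orderOf ((Fintype.card F : ℕ) : ZMod r))
    (B U : Matrix (Fin n ⊕ Fin n) (Fin n ⊕ Fin n) F) (hB : B ∈ Matrix.symplecticGroup (Fin n) F)
    (h1 : B ^ r = 1) (h2 : B ≠ 1) (hcomm : U * B = B * U) (m : ℕ) (hU : (U - 1) ^ m = 0)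
    (hU1 : U ≠ 1) :
    2 * eta k + 2 ≤ 2 * n ∨ 4 * eta k ≤ 2 * n := by
  have hsq := Cfsg.Agent.Helper8.SemiS.squarefree_X_pow_sub_one (F := F) p r hr hrp
  have hkill0 : aeval B (X ^ r - 1 : F[X]) = 0 := by
    rw [aeval_X_pow_sub_one', h1, sub_self]
  obtain ⟨d, P, hP, hdvd, hchar, hkill⟩ := exists_family_killed_gen B _ hsq hkill0
  obtain ⟨Q, hQ1, hQ2, hQ3⟩ := exists_sq_dvd_charpoly_gen B U _ hsq hkill0 hcomm m hU hU1
  have hχ := reverse_charpoly_symp B hB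
  have hPχ : ∀ i, P i ∣ B.charpoly := by
    intro i
    rw [hchar]
    exact Finset.dvd_prod_of_mem _ (Finset.mem_univ i)
  have hdvd1 : ∀ i, P i ∣ X ^ (1 * r) - 1 := by
    intro i
    rw [one_mul]
    exact hdvd i
  have hQdvd : Q ∣ X ^ (1 * r) - 1 := by
    have h3 : Q ∣ ∏ i, P i := by
      rw [← hchar]
      exact dvd_trans (dvd_mul_right Q Q) hQ3
    obtain ⟨i, _, hi⟩ := (Prime.dvd_finsetProd_iff hQ2.prime _).mp h3
    exact dvd_trans hi (hdvd1 i)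
  by_cases hQ : Q ∣ X ^ 1 - 1
  · left
    have hnot : ∃ i, ¬ P i ∣ X ^ 1 - 1 := by
      by_contra hall
      rw [not_exists] at hall
      have h4 := hkill (X ^ 1 - 1) (fun i => not_not.mp (hall i))
      rw [aeval_X_pow_sub_one', sub_eq_zero, pow_one] at h4
      exact h2 h4
    obtain ⟨i, hi⟩ := hnot
    have h0 : (P i).coeff 0 ≠ 0 :=
      coeff_zero_ne_of_dvd (P i) (1 * r) (Nat.mul_pos Nat.one_pos hr.pos) (hdvd1 i)
    have hW : Wt (P i) ∣ B.charpoly := by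
      have := Wt_pow_dvd B.charpoly (P i) hχ (hP i).2 1 (by rw [pow_one]; exact hPχ i)
      rwa [pow_one] at this
    have hc1 : IsCoprime (Wt (P i)) (X ^ 1 - 1) :=
      Wt_isCoprime (P i) _ (hP i).2 h0 (reverse_X_pow_sub_one_dvd 1) hi
    have hc2 : IsCoprime (Wt (P i)) Q := IsCoprime.of_isCoprime_of_dvd_right hc1 hQ
    have hc3 : IsCoprime (Wt (P i)) (Q * Q) := IsCoprime.mul_right hc2 hc2
    have h4 : Wt (P i) * (Q * Q) ∣ B.charpoly := hc3.mul_dvd hW hQ3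
    have h5 := natDegree_le_of_dvd_charpoly B _ h4
    rw [Polynomial.natDegree_mul (Wt_ne_zero _ (hP i).2.ne_zero)
      (mul_ne_zero hQ2.ne_zero hQ2.ne_zero), Polynomial.natDegree_mul hQ2.ne_zero hQ2.ne_zero] at h5
    obtain ⟨h6, h7⟩ := le_natDegree_Wt (P i) (hP i).1 (hP i).2 1 r hr hr2 (hdvd1 i) hi
    rw [← hk] at h6 h7
    have h8 := two_eta_le k _ h6 h7
    have h9 := hQ2.natDegree_pos
    omega
  · right
    have h4 := Wt_pow_dvd B.charpoly Q hχ hQ2 2 (by rw [pow_two]; exact hQ3)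
    have h5 := natDegree_le_of_dvd_charpoly B _ h4
    rw [Polynomial.natDegree_pow] at h5
    obtain ⟨h6, h7⟩ := le_natDegree_Wt Q hQ1 hQ2 1 r hr hr2 hQdvd hQ
    rw [← hk] at h6 h7
    have h8 := two_eta_le k _ h6 h7
    omega

end Cfsg.Agent.Helper8.SpG
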