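import Mathlib
import Cfsg.Agent.Helper8.SylLargeArith
import Cfsg.Agent.Helper8.SpOrder
import Cfsg.Agent.Helper8.SpGNec
set_option autoImplicit false

/-! Arithmetic for the prime graph of `PSp`. -/

namespace Cfsg.Agent.Helper8.SpG

open Cfsg.Agent.Helper8.SylLarge

theorem eta_pos {k : ℕ} (hk : 0 < k) : 0 < eta k := by
  unfold eta
  split_ifs with h
  · obtain ⟨c, hc⟩ := h
    omega
  · exact hk

theorem eta_le (k : ℕ) : eta k ≤ k := by
  unfold eta
  split_ifs <;> omega

theorem not_dvd_card {F : Type*} [Field F] [Fintype F] (p : ℕ) [Fact p.Prime] [CharP F p]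
    (r : ℕ) (hr : r.Prime) (hrp : r ≠ p) : ¬ r ∣ Fintype.card F := by
  have hp : p.Prime := Fact.out
  intro h0
  obtain ⟨f, hf⟩ := FiniteField.card F p
  rw [hf.2] at h0
  exact hrp ((Nat.prime_dvd_prime_iff_eq hr hp).mp (hr.dvd_of_dvd_pow h0))

/-- (AR1) `r ∣ q^η(k) - 1` for odd `k`, `r ∣ q^η(k) + 1` for even `k` -/
theorem dvd_pow_eta {r q : ℕ} (hr : r.Prime) (hrq : ¬ r ∣ q) :
    (Odd (orderOf (q : ZMod r)) → r ∣ q ^ eta (orderOf (q : ZMod r)) - 1) ∧
    (Even (orderOf (q : ZMod r)) → r ∣ q ^ eta (orderOf (q : ZMod r)) + 1) := by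
  haveI : Fact r.Prime := ⟨hr⟩
  set k := orderOf (q : ZMod r) with hk
  have hkpos : 0 < k := ord_pos hrq
  constructor
  · intro hodd
    unfold eta
    rw [if_neg (Nat.not_even_iff_odd.mpr hodd), dvd_pow_sub_one_iff hrq]
  · intro heven
    unfold eta
    rw [if_pos heven]
    obtain ⟨c, hc⟩ := heven
    have hc2 : k / 2 = c := by omega
    rw [hc2]
    have h1 : r ∣ q ^ k - 1 := (dvd_pow_sub_one_iff hrq k).mpr (dvd_refl _)
    have h2 : q ^ k - 1 = (q ^ c + 1) * (q ^ c - 1) := by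
      have h3 : 1 ≤ q ^ c := one_le_pow_q hrq c
      have h4 : q ^ k = q ^ c * q ^ c := by rw [← pow_add, hc]
      rw [h4]
      zify [h3, Nat.one_le_iff_ne_zero.mpr (Nat.mul_ne_zero (by omega) (by omega) :
        q ^ c * q ^ c ≠ 0)]
      ring
    rw [h2] at h1
    have h5 : ¬ r ∣ q ^ c - 1 := by
      rw [dvd_pow_sub_one_iff hrq]
      intro h
      have := Nat.le_of_dvd (by omega) h
      omega
    exact ((Nat.Prime.dvd_mul hr).mp h1).resolve_right h5

/-- (AR2) -/
theorem dvd_pow_eta_mul {r q : ℕ} (hr : r.Prime) (hrq : ¬ r ∣ q) (t : ℕ) (ht : Odd t) :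
    (Odd (orderOf (q : ZMod r)) → r ∣ q ^ eta (orderOf (q : ZMod r) * t) - 1) ∧
    (Even (orderOf (q : ZMod r)) → r ∣ q ^ eta (orderOf (q : ZMod r) * t) + 1) := by
  haveI : Fact r.Prime := ⟨hr⟩
  obtain ⟨h1, h2⟩ := dvd_pow_eta hr hrq
  set k := orderOf (q : ZMod r) with hk
  constructor
  · intro hodd
    have : eta (k * t) = k * t := by
      unfold eta
      rw [if_neg (Nat.not_even_iff_odd.mpr (hodd.mul ht))]
    rw [this, dvd_pow_sub_one_iff hrq]
    exact dvd_mul_right _ _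
  · intro heven
    have h3 := h2 heven
    have h4 : eta (k * t) = eta k * t := by
      unfold eta
      rw [if_pos heven, if_pos (heven.mul_right t)]
      obtain ⟨c, hc⟩ := heven
      have h5 : k * t = 2 * (c * t) := by rw [hc]; ring
      rw [h5, Nat.mul_div_cancel_left _ (by norm_num : 0 < 2)]
      have : k / 2 = c := by omega
      rw [this]
    rw [h4, pow_mul]
    have h6 := Odd.nat_add_dvd_pow_add_pow (q ^ eta k) 1 ht
    rw [one_pow] at h6
    exact dvd_trans h3 h6

/-- (AR3) a prime divisor of `|Sp_{2n}(q)|` other than `p` has `η ≤ n`. -/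
theorem eta_le_of_dvd_card {F : Type*} [Field F] [Fintype F] (p : ℕ) [Fact p.Prime] [CharP F p]
    (n s : ℕ) (hs : s.Prime) (hsp : s ≠ p)
    (h : s ∣ Nat.card (Matrix.symplecticGroup (Fin n) F)) :
    eta (orderOf ((Fintype.card F : ℕ) : ZMod s)) ≤ n := by
  haveI : Fact s.Prime := ⟨hs⟩
  have hsq := not_dvd_card (F := F) p s hs hsp
  rw [Cfsg.Agent.Helper8.SpOrder.card_symp] at h
  rcases (Nat.Prime.dvd_mul hs).mp h with h1 | h1
  · exact absurd (hs.dvd_of_dvd_pow h1) hsq
  · obtain ⟨i, hi, h2⟩ := (Prime.dvd_finsetProd_iff (Nat.Prime.prime hs) _).mp h1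
    rw [Finset.mem_range] at hi
    rw [dvd_pow_sub_one_iff hsq] at h2
    set l := orderOf ((Fintype.card F : ℕ) : ZMod s) with hl
    unfold eta
    split_ifs with he
    · obtain ⟨c, hc⟩ := he
      have h3 : c ∣ i + 1 := by
        rw [hc] at h2
        have : 2 * c ∣ 2 * (i + 1) := by
          have : c + c = 2 * c := by ring
          rwa [this] at h2
        exact (Nat.mul_dvd_mul_iff_left (by norm_num)).mp this
      have := Nat.le_of_dvd (by omega) h3
      omega
    · have h3 : l ∣ i + 1 :=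
        (Nat.Coprime.dvd_mul_left (Nat.coprime_two_right.mpr (Nat.not_even_iff_odd.mp he))).mp h2
      have := Nat.le_of_dvd (by omega) h3
      omega

end Cfsg.Agent.Helper8.SpG
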