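import Mathlib
import Cfsg.Agent.Helper8.SpGArith
set_option autoImplicit false

/-! Final arithmetic for the adjacency criterion of two odd primes in `PSp`. -/

namespace Cfsg.Agent.Helper8.SpG

theorem eta_even (c : ℕ) : eta (2 * c) = c := by
  unfold eta
  rw [if_pos (even_two_mul c), Nat.mul_div_cancel_left _ (by norm_num : 0 < 2)]

theorem eta_odd {k : ℕ} (h : Odd k) : eta k = k := by
  unfold eta
  rw [if_neg (Nat.not_even_iff_odd.mpr h)]

/-- `l ∣ 2 j`, `l ∤ j` forces `l = 2 c`, `j = c u` with `u` odd -/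
theorem exists_half_of_dvd (l j : ℕ) (h1 : l ∣ 2 * j) (h2 : ¬ l ∣ j) :
    ∃ c u, l = 2 * c ∧ j = c * u ∧ Odd u := by
  rcases Nat.even_or_odd l with he | ho
  · obtain ⟨c, hc⟩ := he
    have hc' : l = 2 * c := by omega
    have h3 : c ∣ j := by
      rw [hc'] at h1
      exact (Nat.mul_dvd_mul_iff_left (by norm_num)).mp h1
    obtain ⟨u, hu⟩ := h3
    refine ⟨c, u, hc', hu, ?_⟩
    rcases Nat.even_or_odd u with hue | huo
    · exfalso
      apply h2
      obtain ⟨u', hu'⟩ := hue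
      refine ⟨u', ?_⟩
      rw [hu, hu', hc']; ring
    · exact huo
  · exfalso
    exact h2 ((Nat.Coprime.dvd_mul_left (Nat.coprime_two_right.mpr ho)).mp h1)

theorem arith_rs (k l n : ℕ) (hk : 0 < k) (hl : 0 < l) (hkl : eta k ≤ eta l)
    (h : (∃ D, k ∣ D ∧ l ∣ D ∧ 0 < D ∧ D ≤ n) ∨
      (∃ D, Even D ∧ k ∣ D ∧ ¬ k ∣ D / 2 ∧ l ∣ D ∧ ¬ l ∣ D / 2 ∧ 0 < D ∧ D ≤ 2 * n) ∨
      eta k + eta l ≤ n) :
    eta k + eta l ≤ n ∨ ∃ t, Odd t ∧ l = k * t := by
  by_contra hcon
  rw [not_or, not_exists] at hcon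
  obtain ⟨h1, h2⟩ := hcon
  have hek := eta_le k
  have hel := eta_le l
  rcases h with ⟨D, hkD, hlD, hD0, hDn⟩ | ⟨D, hDe, hkD, hkD2, hlD, hlD2, hD0, hDn⟩ | h
  · obtain ⟨c, hc⟩ := hlD
    have hc1 : c = 1 := by
      rcases Nat.lt_or_ge c 2 with h | h
      · rcases Nat.eq_zero_or_pos c with h0 | h0
        · subst h0
          rw [mul_zero] at hc
          omega
        · omega
      · have : l * 2 ≤ l * c := Nat.mul_le_mul_left l h
        omega
    rw [hc1, mul_one] at hc
    rw [hc] at hkD hDn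
    obtain ⟨t, ht⟩ := hkD
    rcases Nat.even_or_odd t with hte | hto
    · obtain ⟨t', ht'⟩ := hte
      have hl2 : l = 2 * (k * t') := by rw [ht, ht']; ring
      have h3 : eta l = k * t' := by rw [hl2, eta_even]
      have ht'pos : 1 ≤ t' := by
        by_contra hlt
        have : t' = 0 := by omega
        subst this
        rw [mul_zero, mul_zero] at hl2
        omega
      have : k ≤ k * t' := Nat.le_mul_of_pos_right k ht'pos
      omega
    · exact h2 t ⟨hto, ht⟩
  · obtain ⟨j, hj⟩ := hDe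
    have hj2 : D / 2 = j := by omega
    have hD2 : D = 2 * j := by omega
    rw [hj2] at hkD2 hlD2
    rw [hD2] at hkD hlD
    obtain ⟨c, u, hlc, hjc, hu⟩ := exists_half_of_dvd l j hlD hlD2
    obtain ⟨c', u', hkc, hjc', hu'⟩ := exists_half_of_dvd k j hkD hkD2
    have e1 : eta l = c := by rw [hlc, eta_even]
    have e2 : eta k = c' := by rw [hkc, eta_even]
    have hu1 : u = 1 := by
      obtain ⟨w, hw⟩ := hu
      rcases Nat.eq_zero_or_pos w with h0 | h0
      · subst h0; omega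
      · exfalso
        have : c * 3 ≤ c * u := Nat.mul_le_mul_left c (by omega)
        omega
    rw [hu1, mul_one] at hjc
    apply h2 u'
    refine ⟨hu', ?_⟩
    rw [hlc, hkc, ← hjc, hjc']
    ring
  · omega

end Cfsg.Agent.Helper8.SpG
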