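import Mathlib
import Cfsg.Agent.Helper8.SpGArith
import Cfsg.Agent.Helper8.SpGElts
import Cfsg.Agent.Helper8.SpGPSp
set_option autoImplicit false

/-! Elements of order `r p` in `Sp_{2n}(q)` and `PSp_{2n}(q)`. -/

namespace Cfsg.Agent.Helper8.SpG

open Matrix

variable {F : Type*} [Field F] [Fintype F]

theorem sp_rp_iff (p : ℕ) [Fact p.Prime] [CharP F p] (n : ℕ) (hn : 2 ≤ n) (r : ℕ) (hr : r.Prime)
    (hr2 : r ≠ 2) (hrp : r ≠ p) :
    r * p ∈ Set.range (orderOf : Matrix.symplecticGroup (Fin n) F → ℕ) ↔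
      eta (orderOf ((Fintype.card F : ℕ) : ZMod r)) + 1 ≤ n := by
  have hp : p.Prime := Fact.out
  have hrq := not_dvd_card (F := F) p r hr hrp
  haveI : Fact r.Prime := ⟨hr⟩
  set k := orderOf ((Fintype.card F : ℕ) : ZMod r) with hk
  have hkpos : 0 < k := Cfsg.Agent.Helper8.SylLarge.ord_pos hrq
  constructor
  · rintro ⟨g, hg⟩
    have hne : Nonempty (Fin n ⊕ Fin n) := ⟨Sum.inl ⟨0, by omega⟩⟩
    have hB1 : (g ^ p) ^ r = 1 := by
      rw [← pow_mul, mul_comm, ← hg, pow_orderOf_eq_one]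
    have hB2 : g ^ p ≠ 1 := by
      intro h
      have h1 := orderOf_dvd_of_pow_eq_one h
      rw [hg] at h1
      have h2 := Nat.le_of_dvd hp.pos h1
      have := hr.two_le
      have := hp.pos
      nlinarith
    have hU2 : g ^ r ≠ 1 := by
      intro h
      have h1 := orderOf_dvd_of_pow_eq_one h
      rw [hg] at h1
      have h2 := Nat.le_of_dvd hr.pos h1
      have := hp.two_le
      have := hr.pos
      nlinarith
    have hU1 : (g ^ r) ^ p = 1 := by
      rw [← pow_mul, ← hg, pow_orderOf_eq_one]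
    set B : Matrix (Fin n ⊕ Fin n) (Fin n ⊕ Fin n) F := ((g ^ p : Matrix.symplecticGroup (Fin n) F) :
      Matrix (Fin n ⊕ Fin n) (Fin n ⊕ Fin n) F) with hB
    set U : Matrix (Fin n ⊕ Fin n) (Fin n ⊕ Fin n) F := ((g ^ r : Matrix.symplecticGroup (Fin n) F) :
      Matrix (Fin n ⊕ Fin n) (Fin n ⊕ Fin n) F) with hU
    have e1 : B ^ r = 1 := by
      have := congrArg Subtype.val hB1
      exact this
    have e2 : B ≠ 1 := fun h => hB2 (Subtype.ext h)
    have e3 : U ≠ 1 := fun h => hU2 (Subtype.ext h)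
    have e4 : U ^ p = 1 := by
      have := congrArg Subtype.val hU1
      exact this
    have e5 : U * B = B * U := by
      have h1 : g ^ r * g ^ p = g ^ p * g ^ r := by rw [← pow_add, ← pow_add, add_comm]
      have := congrArg Subtype.val h1
      exact this
    have e6 : (U - 1) ^ p = 0 := by
      rw [sub_pow_char_of_commute p (Commute.one_right U), e4, one_pow, sub_self]
    rcases nec_rp p n r hr hr2 hrp k hk B U (g ^ p).2 e1 e2 e5 p e6 e3 with h | h
    · omega
    · omega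
  · intro h
    obtain ⟨h1, h2⟩ := dvd_pow_eta hr hrq
    rw [← hk] at h1 h2
    obtain ⟨x, hx⟩ := exists_sp_elt (F := F) p (eta k) (eta_pos hkpos) r (by
      rcases Nat.even_or_odd k with he | ho
      · exact Or.inr (h2 he)
      · exact Or.inl (h1 ho))
    obtain ⟨u, hu⟩ := exists_sp_unip (F := F) p
    obtain ⟨z, hz⟩ := exists_orderOf_lcm (eta k) 1 n h x u
    refine ⟨z, ?_⟩
    rw [hz, hx, hu]
    exact Nat.Coprime.lcm_eq_mul ((Nat.coprime_primes hr hp).mpr hrp)

theorem psp_rp_iff (p : ℕ) [Fact p.Prime] [CharP F p] (n : ℕ) (hn : 2 ≤ n) (r : ℕ) (hr : r.Prime)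
    (hr2 : r ≠ 2) (hrp : r ≠ p) :
    r * p ∈ Set.range (orderOf : Cfsg.PSp n F → ℕ) ↔
      eta (orderOf ((Fintype.card F : ℕ) : ZMod r)) + 1 ≤ n := by
  have hp : p.Prime := Fact.out
  rw [psp_range_iff n (by omega) (r * p), sp_rp_iff p n hn r hr hr2 hrp]
  rcases hp.eq_two_or_odd' with h | h
  · right
    have := CharP.cast_eq_zero F p
    rw [h] at this
    exact_mod_cast this
  · left
    exact (hr.eq_two_or_odd'.resolve_left hr2).mul h

end Cfsg.Agent.Helper8.SpG
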