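import Mathlib
import Cfsg.Agent.Helper8.SpGArith2
import Cfsg.Agent.Helper8.SpGMainP
set_option autoImplicit false

/-! Elements of order `r s` (two odd primes) in `Sp_{2n}(q)` and `PSp_{2n}(q)`. -/

namespace Cfsg.Agent.Helper8.SpG

open Matrix

variable {F : Type*} [Field F] [Fintype F]

theorem sp_rs_iff (p : ℕ) [Fact p.Prime] [CharP F p] (n : ℕ) (r s : ℕ) (hr : r.Prime)
    (hs : s.Prime) (hr2 : r ≠ 2) (hs2 : s ≠ 2) (hrp : r ≠ p) (hsp : s ≠ p) (hrs : r ≠ s)
    (k l : ℕ) (hk : k = orderOf ((Fintype.card F : ℕ) : ZMod r))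
    (hl : l = orderOf ((Fintype.card F : ℕ) : ZMod s))
    (hsn : eta l ≤ n) (hkl : eta k ≤ eta l) :
    r * s ∈ Set.range (orderOf : Matrix.symplecticGroup (Fin n) F → ℕ) ↔
      (eta k + eta l ≤ n ∨ ∃ t, Odd t ∧ l = k * t) := by
  have hp : p.Prime := Fact.out
  have hrq := not_dvd_card (F := F) p r hr hrp
  have hsq := not_dvd_card (F := F) p s hs hsp
  have hkpos : 0 < k := by
    haveI : Fact r.Prime := ⟨hr⟩
    rw [hk]; exact Cfsg.Agent.Helper8.SylLarge.ord_pos hrq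
  have hlpos : 0 < l := by
    haveI : Fact s.Prime := ⟨hs⟩
    rw [hl]; exact Cfsg.Agent.Helper8.SylLarge.ord_pos hsq
  have hcop : Nat.Coprime r s := (Nat.coprime_primes hr hs).mpr hrs
  constructor
  · rintro ⟨g, hg⟩
    apply arith_rs k l n hkpos hlpos hkl
    have h1 : (g : Matrix (Fin n ⊕ Fin n) (Fin n ⊕ Fin n) F) ^ (r * s) = 1 := by
      have h : g ^ (r * s) = 1 := by rw [← hg, pow_orderOf_eq_one]
      exact congrArg Subtype.val h
    have h2 : (g : Matrix (Fin n ⊕ Fin n) (Fin n ⊕ Fin n) F) ^ r ≠ 1 := by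
      intro h
      have h' : g ^ r = 1 := Subtype.ext h
      have h3 := orderOf_dvd_of_pow_eq_one h'
      rw [hg] at h3
      have h4 := Nat.le_of_dvd hr.pos h3
      have := hs.two_le
      have := hr.pos
      nlinarith
    have h3 : (g : Matrix (Fin n ⊕ Fin n) (Fin n ⊕ Fin n) F) ^ s ≠ 1 := by
      intro h
      have h' : g ^ s = 1 := Subtype.ext h
      have h3 := orderOf_dvd_of_pow_eq_one h'
      rw [hg] at h3
      have h4 := Nat.le_of_dvd hs.pos h3
      have := hr.two_le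
      have := hs.pos
      nlinarith
    exact nec_rs p n r s hr hs hr2 hs2 hrp hsp k l hk hl _ g.2 h1 h2 h3
  · rintro (h | ⟨t, ht, hlt⟩)
    · obtain ⟨h1, h2⟩ := dvd_pow_eta hr hrq
      rw [← hk] at h1 h2
      obtain ⟨h1', h2'⟩ := dvd_pow_eta hs hsq
      rw [← hl] at h1' h2'
      obtain ⟨x, hx⟩ := exists_sp_elt (F := F) p (eta k) (eta_pos hkpos) r (by
        rcases Nat.even_or_odd k with he | ho
        · exact Or.inr (h2 he)
        · exact Or.inl (h1 ho))
      obtain ⟨y, hy⟩ := exists_sp_elt (F := F) p (eta l) (eta_pos hlpos) s (by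
        rcases Nat.even_or_odd l with he | ho
        · exact Or.inr (h2' he)
        · exact Or.inl (h1' ho))
      obtain ⟨z, hz⟩ := exists_orderOf_lcm (eta k) (eta l) n h x y
      refine ⟨z, ?_⟩
      rw [hz, hx, hy]
      exact Nat.Coprime.lcm_eq_mul hcop
    · obtain ⟨h1, h2⟩ := dvd_pow_eta_mul hr hrq t ht
      rw [← hk, ← hlt] at h1 h2
      obtain ⟨h1', h2'⟩ := dvd_pow_eta hs hsq
      rw [← hl] at h1' h2'
      obtain ⟨w, hw⟩ := exists_sp_elt (F := F) p (eta l) (eta_pos hlpos) (r * s) (by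
        rcases Nat.even_or_odd k with he | ho
        · right
          have hel : Even l := by rw [hlt]; exact he.mul_right t
          exact Nat.Coprime.mul_dvd_of_dvd_of_dvd hcop (h2 he) (h2' hel)
        · left
          have hol : Odd l := by rw [hlt]; exact ho.mul ht
          exact Nat.Coprime.mul_dvd_of_dvd_of_dvd hcop (h1 ho) (h1' hol))
      obtain ⟨z, hz⟩ := exists_orderOf_lcm (eta l) 0 n (by omega) w
        (1 : Matrix.symplecticGroup (Fin 0) F)
      refine ⟨z, ?_⟩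
      rw [hz, hw, orderOf_one, Nat.lcm_one_right]

theorem psp_rs_iff (p : ℕ) [Fact p.Prime] [CharP F p] (n : ℕ) (hn : 1 ≤ n) (r s : ℕ) (hr : r.Prime)
    (hs : s.Prime) (hr2 : r ≠ 2) (hs2 : s ≠ 2) (hrp : r ≠ p) (hsp : s ≠ p) (hrs : r ≠ s)
    (k l : ℕ) (hk : k = orderOf ((Fintype.card F : ℕ) : ZMod r))
    (hl : l = orderOf ((Fintype.card F : ℕ) : ZMod s))
    (hsG : s ∣ Nat.card (Cfsg.PSp n F)) (hkl : eta k ≤ eta l) :
    r * s ∈ Set.range (orderOf : Cfsg.PSp n F → ℕ) ↔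
      (eta k + eta l ≤ n ∨ ∃ t, Odd t ∧ l = k * t) := by
  have hsn : eta l ≤ n := by
    rw [hl]
    apply eta_le_of_dvd_card p n s hs hsp
    exact dvd_trans hsG (Subgroup.card_quotient_dvd_card _)
  rw [psp_range_iff n hn (r * s)
    (Or.inl ((hr.eq_two_or_odd'.resolve_left hr2).mul (hs.eq_two_or_odd'.resolve_left hs2))),
    sp_rs_iff p n r s hr hs hr2 hs2 hrp hsp hrs k l hk hl hsn hkl]

end Cfsg.Agent.Helper8.SpG
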