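import Mathlib
import Cfsg.Agent.Helper8.SpGenC
import Cfsg.Agent.S2402

set_option autoImplicit false

/-! Generation of `Sp_{2m}(F)` by two elements over a finite field (helper8). -/

namespace Cfsg.Agent.Helper8.SpGen

open Matrix Cfsg Cfsg.Agent.Helper7.Symp

variable {F : Type*} [Field F] {N : ℕ}

theorem diag_pow (a b : F) (j : ℕ) :
    (!![a, 0; 0, b] : Matrix (Fin 2) (Fin 2) F) ^ j = !![a ^ j, 0; 0, b ^ j] := by
  induction j with
  | zero => simp [Matrix.one_fin_two]
  | succ j ih =>
    rw [pow_succ, ih, Matrix.mul_fin_two]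
    simp [pow_succ]

/-- the torus element `diag(a⁻¹, a)`. -/
def Mdiag (a : F) (ha : a ≠ 0) : Matrix.SpecialLinearGroup (Fin 2) F :=
  ⟨!![a⁻¹, 0; 0, a], by rw [Matrix.det_fin_two_of, inv_mul_cancel₀ ha]; ring⟩

theorem Mdiag_pow (a : F) (ha : a ≠ 0) (j : ℕ) (hj : a ^ j = 1) : (Mdiag a ha) ^ j = 1 := by
  apply Subtype.ext
  rw [Matrix.SpecialLinearGroup.coe_pow, Matrix.SpecialLinearGroup.coe_one]
  show (!![a⁻¹, 0; 0, a] : Matrix (Fin 2) (Fin 2) F) ^ j = 1
  rw [diag_pow, inv_pow, hj, inv_one, Matrix.one_fin_two]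

/-- the case of a field with more than two elements. -/
theorem two_gen_large [Fintype F] (hN : 1 ≤ N) (hF : 2 < Fintype.card F) :
    ∃ a b : symplecticGroup (Fin (N + 1)) F,
      Subgroup.closure ({a, b} : Set (symplecticGroup (Fin (N + 1)) F)) = ⊤ := by
  classical
  obtain ⟨g, hg⟩ := IsCyclic.exists_generator (α := Fˣ)
  have hg0 : (g : F) ≠ 0 := g.ne_zero
  have hg1 : (g : F) ≠ 1 := by
    intro h1
    have hg' : g = 1 := Units.ext h1
    have hall : ∀ u : Fˣ, u = 1 := by
      intro u
      have := hg u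
      rw [hg', Subgroup.zpowers_one_eq_bot, Subgroup.mem_bot] at this
      exact this
    have hcard : Fintype.card Fˣ = 1 := by
      rw [Fintype.card_eq_one_iff]
      exact ⟨1, hall⟩
    rw [Fintype.card_units] at hcard
    omega
  have hpow : (g : F) ^ (Fintype.card F - 1) = 1 := FiniteField.pow_card_sub_one_eq_one _ hg0
  obtain ⟨e, hp, hq⟩ := FiniteField.card F (ringChar F)
  have hcop : (Fintype.card F - 1).Coprime (ringChar F) := by
    have h1 : (Fintype.card F - 1).Coprime (Fintype.card F) := by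
      have h2 : Fintype.card F = 1 + (Fintype.card F - 1) := by omega
      rw [h2]
      simp
    apply Nat.Coprime.coprime_dvd_right _ h1
    rw [hq]
    exact dvd_pow_self _ e.ne_zero
  refine ⟨hh hN (Mdiag (g : F) hg0) * T (ff F (Fin.last N)) 1, cox F N, ?_⟩
  apply closure_eq_top hN (Mdiag (g : F) hg0) (Fintype.card F - 1) (ringChar F)
    (Mdiag_pow _ hg0 _ hpow) hcop
  · left
    show (g : F) - 1 ≠ 0
    exact sub_ne_zero.mpr hg1
  · intro H hhH he0
    have hact : (hh hN (Mdiag (g : F) hg0) :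
        Matrix (Fin (N + 1) ⊕ Fin (N + 1)) (Fin (N + 1) ⊕ Fin (N + 1)) F) *ᵥ ee F 0
        = (g : F) • ee F 0 := by
      rw [hh_ee_zero]
      show (g : F) • ee F 0 + (0 : F) • _ = _
      rw [zero_smul, add_zero]
    have hpw : ∀ j : ℕ, T (((g : F) ^ j) • ee F (0 : Fin (N + 1))) (1 : F) ∈ H := by
      intro j
      induction j with
      | zero => rw [pow_zero, one_smul]; exact he0
      | succ j ih =>
        have h1 := SpRoot.conj_T (hh hN (Mdiag (g : F) hg0))
          (((g : F) ^ j) • ee F (0 : Fin (N + 1))) (1 : F)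
        rw [mulVec_smul, hact, smul_smul, ← pow_succ] at h1
        rw [← h1]
        exact H.mul_mem (H.mul_mem hhH ih) (H.inv_mem hhH)
    have hsq : ∀ s : F, T (ee F (0 : Fin (N + 1))) (s * s) ∈ H := by
      intro s
      by_cases hs : s = 0
      · rw [hs, mul_zero, SpRoot.T_zero]
        exact H.one_mem
      · have hu := hg (Units.mk0 s hs)
        rw [← mem_powers_iff_mem_zpowers] at hu
        obtain ⟨j, hj⟩ := hu
        have hsj : s = (g : F) ^ j := by
          have := congrArg (fun u : Fˣ => (u : F)) hj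
          simpa using this.symm
        have h1 := hpw j
        rw [SpRoot.T_smul, ← hsj, one_mul] at h1
        exact h1
    intro c
    obtain ⟨s, t, hst⟩ := Cfsg.Agent.S2402.exists_sq_add_sq c
    have e : c = s * s + t * t := by rw [← hst]; ring
    rw [e, ← SpRoot.T_mul]
    exact H.mul_mem (hsq s) (hsq t)

/-- the case of the field with two elements. -/
theorem two_gen_two [Fintype F] (hN : 1 ≤ N) (hF : Fintype.card F = 2) :
    ∃ a b : symplecticGroup (Fin (N + 1)) F,
      Subgroup.closure ({a, b} : Set (symplecticGroup (Fin (N + 1)) F)) = ⊤ := by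
  classical
  have : Fact (Nat.Prime 2) := ⟨Nat.prime_two⟩
  have hchar : CharP F 2 := charP_of_card_eq_prime hF
  have h2 : (2 : F) = 0 := CharTwo.two_eq_zero
  have h01 : ∀ c : F, c = 0 ∨ c = 1 := by
    intro c
    by_contra hcon
    push Not at hcon
    have hcard : ({0, 1, c} : Finset F).card = 3 := by
      rw [Finset.card_insert_of_notMem, Finset.card_insert_of_notMem, Finset.card_singleton]
      · rw [Finset.mem_singleton]
        exact fun h => hcon.2 h.symm
      · rw [Finset.mem_insert, Finset.mem_singleton]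
        rintro (h | h)
        · exact zero_ne_one h
        · exact hcon.1 h.symm
    have := Finset.card_le_univ ({0, 1, c} : Finset F)
    omega
  have hdet : (!![0, 1; 1, 1] : Matrix (Fin 2) (Fin 2) F).det = 1 := by
    rw [Matrix.det_fin_two_of]
    linear_combination (-1 : F) * h2
  obtain ⟨M, hM⟩ : ∃ M : Matrix.SpecialLinearGroup (Fin 2) F,
      (M : Matrix (Fin 2) (Fin 2) F) = !![0, 1; 1, 1] := ⟨⟨_, hdet⟩, rfl⟩
  have hM3 : M ^ 3 = 1 := by
    apply Subtype.ext
    rw [Matrix.SpecialLinearGroup.coe_pow, Matrix.SpecialLinearGroup.coe_one, hM]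
    rw [pow_succ, pow_succ, pow_one, Matrix.mul_fin_two, Matrix.mul_fin_two, Matrix.one_fin_two]
    have h3 : (1 : F) + 1 = 0 := by rw [one_add_one_eq_two, h2]
    simp [h3]
  refine ⟨hh hN M * T (ff F (Fin.last N)) 1, cox F N, ?_⟩
  apply closure_eq_top hN M 3 2 hM3 (by norm_num)
  · right
    rw [hM]
    show (1 : F) ≠ 0
    exact one_ne_zero
  · intro H _ he0 c
    rcases h01 c with h | h
    · rw [h, SpRoot.T_zero]
      exact H.one_mem
    · rw [h]
      exact he0

/-- **`Sp_{2m}(F)` with `m ≥ 2` is generated by two elements.** -/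
theorem two_gen [Fintype F] (hN : 1 ≤ N) :
    ∃ a b : symplecticGroup (Fin (N + 1)) F,
      Subgroup.closure ({a, b} : Set (symplecticGroup (Fin (N + 1)) F)) = ⊤ := by
  have h1 : 1 < Fintype.card F := Fintype.one_lt_card
  by_cases h2 : Fintype.card F = 2
  · exact two_gen_two hN h2
  · exact two_gen_large hN (by omega)

end Cfsg.Agent.Helper8.SpGen
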