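import Mathlib
import Cfsg.Agent.Helper8.SpO8B
import Cfsg.Agent.Lead.SpecSpF
set_option autoImplicit false

/-!
Every element of `Sp_8(q)`, `q` even, has order dividing the value of one of the twelve signatures.
More generally this holds for every invertible matrix of size `8` with self-reciprocal minimal
polynomial.
-/

namespace Cfsg.Agent.Helper8.SpO8

open Polynomial Matrix

variable {F : Type*} [Field F] [Fintype F]

/-- a matrix of finite order with self-reciprocal minimal polynomial of degree at most `8` -/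
theorem exists_sig_of_minpoly [CharP F 2] {ι : Type*} [Fintype ι] [DecidableEq ι]
    (M : Matrix ι ι F) (a : ℕ) (ha : 0 < a) (hMa : M ^ a = 1)
    (hsr : minpoly F M ∣ (minpoly F M).reverse) (hdeg : (minpoly F M).natDegree ≤ 8) :
    ∃ t ∈ Llist, M ^ (t.val (Fintype.card F)) = 1 := by
  set μ := minpoly F M with hμ
  have hint : IsIntegral F M := Algebra.IsIntegral.isIntegral M
  have hμ0 : μ ≠ 0 := minpoly.ne_zero hint
  have hμdvd : μ ∣ X ^ a - 1 :=
    minpoly.dvd F _ (by rw [Cfsg.Agent.Lead.SpecSp.aeval_X_pow_sub_one_eq, hMa, sub_self])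
  have hc0 : μ.coeff 0 ≠ 0 := Cfsg.Agent.Helper8.SpG.coeff_zero_ne_of_dvd μ a ha hμdvd
  obtain ⟨l, hlv, hls, hlN⟩ := exists_blocks μ.natDegree μ rfl hμ0 hc0 hsr
  obtain ⟨t, ht, hall⟩ := comb l hlv (by rw [hls]; exact hdeg)
  refine ⟨t, ht, ?_⟩
  have hq : 1 ≤ Fintype.card F := Fintype.card_pos
  have h1 : μ ∣ X ^ (t.val (Fintype.card F)) - 1 := by
    apply hlN
    intro x hx
    have hxd : x.deg ≤ 8 := by
      have : x.deg ≤ (l.map Base.deg).sum :=
        List.single_le_sum (fun _ _ => Nat.zero_le _) _ (List.mem_map_of_mem hx)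
      omega
    exact (val_dvd_sig _ hq x (hlv x hx) hxd).trans (Sig.le_val _ (hall x hx))
  have h2 : aeval M (X ^ (t.val (Fintype.card F)) - 1 : F[X]) = 0 := by
    obtain ⟨c, hc⟩ := h1
    rw [hc, map_mul, minpoly.aeval, zero_mul]
  rw [Cfsg.Agent.Lead.SpecSp.aeval_X_pow_sub_one_eq, sub_eq_zero] at h2
  exact h2

/-- **orders in `Sp_8(q)`** -/
theorem exists_sig_pow_eq_one [CharP F 2] (g : Matrix.symplecticGroup (Fin 4) F) :
    ∃ t ∈ Llist, g ^ (t.val (Fintype.card F)) = 1 := by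
  have hfin : 0 < orderOf g := orderOf_pos g
  have hga : (g : Matrix (Fin 4 ⊕ Fin 4) (Fin 4 ⊕ Fin 4) F) ^ orderOf g = 1 := by
    rw [← SubmonoidClass.coe_pow, pow_orderOf_eq_one]
    rfl
  obtain ⟨t, ht, h⟩ := exists_sig_of_minpoly (g : Matrix (Fin 4 ⊕ Fin 4) (Fin 4 ⊕ Fin 4) F)
    (orderOf g) hfin hga (Cfsg.Agent.Lead.SpecSp.minpoly_dvd_reverse g)
    (Cfsg.Agent.Lead.SpecSp.natDegree_minpoly_le_two_mul _)
  refine ⟨t, ht, ?_⟩
  apply Subtype.ext
  rw [SubmonoidClass.coe_pow]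
  exact h

end Cfsg.Agent.Helper8.SpO8
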