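import Mathlib
import Cfsg.Agent.Helper8.OrTSum
import Cfsg.Agent.Helper8.OrTModR
import Cfsg.Agent.Helper8.OrRSum
import Cfsg.Agent.Helper8.ReflMatrix
import Cfsg.Agent.Helper8.WittQuad
import Cfsg.Agent.Helper7.QF2A
set_option autoImplicit false

/-!
A calculus of "quadratic spaces of a given type with an isometry of a given order":
orthogonal sums, transport to a standard form.
-/

namespace Cfsg.Agent.Helper8.SpO8

open Module
open Cfsg.Agent.Helper8.QuadForm Cfsg.Agent.Helper8.OrT Cfsg.Agent.Helper8.StdForms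
  Cfsg.Agent.Helper8.OrthOrder Cfsg.Agent.Helper8.ReflMatrix

universe v

variable {F : Type v} [Field F] [Fintype F]

/-- there is a nondegenerate quadratic space of dimension `2(k+1)` and type `s` with an isometry
of order `n` -/
def HasElt (F : Type v) [Field F] [Fintype F] (s : ℤ) (k n : ℕ) : Prop :=
  ∃ (V : Type v) (_ : AddCommGroup V) (_ : Module F V) (_ : FiniteDimensional F V)
    (Q : QuadraticForm F V), Nondeg Q ∧ finrank F V = 2 * (k + 1) ∧ NuS s Q k ∧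
    ∃ g : V ≃ₗ[F] V, (∀ v, Q (g v) = Q v) ∧ orderOf g = n

theorem hasElt_of {V : Type v} [AddCommGroup V] [Module F V] [FiniteDimensional F V]
    (Q : QuadraticForm F V) (hnd : Nondeg Q) {s : ℤ} {k : ℕ} (hfin : finrank F V = 2 * (k + 1))
    (hnu : NuS s Q k) (g : V ≃ₗ[F] V) (hg : ∀ v, Q (g v) = Q v) :
    HasElt F s k (orderOf g) :=
  ⟨V, inferInstance, inferInstance, inferInstance, Q, hnd, hfin, hnu, g, hg, rfl⟩

section prod

variable {V₁ : Type v} [AddCommGroup V₁] [Module F V₁]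
variable {V₂ : Type v} [AddCommGroup V₂] [Module F V₂]

omit [Fintype F] in
theorem prodCongr_pow (g₁ : V₁ ≃ₗ[F] V₁) (g₂ : V₂ ≃ₗ[F] V₂) (m : ℕ) :
    (LinearEquiv.prodCongr g₁ g₂) ^ m = LinearEquiv.prodCongr (g₁ ^ m) (g₂ ^ m) := by
  induction m with
  | zero =>
    rw [pow_zero, pow_zero, pow_zero]
    apply LinearEquiv.ext
    intro x
    rfl
  | succ m ih =>
    rw [pow_succ, pow_succ, pow_succ, ih]
    apply LinearEquiv.ext
    intro x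
    rfl

omit [Fintype F] in
theorem prodCongr_eq_one_iff (g₁ : V₁ ≃ₗ[F] V₁) (g₂ : V₂ ≃ₗ[F] V₂) :
    LinearEquiv.prodCongr g₁ g₂ = 1 ↔ g₁ = 1 ∧ g₂ = 1 := by
  constructor
  · intro h
    constructor
    · apply LinearEquiv.ext
      intro x
      have := congrArg (fun e : (V₁ × V₂) ≃ₗ[F] (V₁ × V₂) => (e (x, 0)).1) h
      exact this
    · apply LinearEquiv.ext
      intro x
      have := congrArg (fun e : (V₁ × V₂) ≃ₗ[F] (V₁ × V₂) => (e (0, x)).2) h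
      exact this
  · rintro ⟨rfl, rfl⟩
    apply LinearEquiv.ext
    intro x
    rfl

omit [Fintype F] in
theorem orderOf_prodCongr (g₁ : V₁ ≃ₗ[F] V₁) (g₂ : V₂ ≃ₗ[F] V₂) :
    orderOf (LinearEquiv.prodCongr g₁ g₂) = Nat.lcm (orderOf g₁) (orderOf g₂) := by
  apply Nat.dvd_antisymm
  · apply orderOf_dvd_of_pow_eq_one
    rw [prodCongr_pow, prodCongr_eq_one_iff]
    exact ⟨orderOf_dvd_iff_pow_eq_one.mp (Nat.dvd_lcm_left _ _),
      orderOf_dvd_iff_pow_eq_one.mp (Nat.dvd_lcm_right _ _)⟩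
  · have h := pow_orderOf_eq_one (LinearEquiv.prodCongr g₁ g₂)
    rw [prodCongr_pow, prodCongr_eq_one_iff] at h
    exact Nat.lcm_dvd (orderOf_dvd_of_pow_eq_one h.1) (orderOf_dvd_of_pow_eq_one h.2)

end prod

/-- **orthogonal sums** -/
theorem HasElt.prod {s₁ s₂ : ℤ} {k₁ k₂ n₁ n₂ : ℕ} (h₁ : HasElt F s₁ k₁ n₁)
    (h₂ : HasElt F s₂ k₂ n₂) : HasElt F (s₁ * s₂) (k₁ + k₂ + 1) (Nat.lcm n₁ n₂) := by
  obtain ⟨V₁, _, _, _, Q₁, hnd₁, hfin₁, hnu₁, g₁, hg₁, ho₁⟩ := h₁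
  obtain ⟨V₂, _, _, _, Q₂, hnd₂, hfin₂, hnu₂, g₂, hg₂, ho₂⟩ := h₂
  refine ⟨V₁ × V₂, inferInstance, inferInstance, inferInstance, Q₁.prod Q₂,
    Cfsg.Agent.Helper8.OrR.nondeg_prod _ _ hnd₁ hnd₂, ?_,
    nuS_prod k₁ k₂ hfin₁ hfin₂ Q₁ Q₂ hnd₁ hnd₂ s₁ s₂ hnu₁ hnu₂,
    LinearEquiv.prodCongr g₁ g₂, ?_, ?_⟩
  · rw [Module.finrank_prod, hfin₁, hfin₂]
    ring
  · intro v
    rw [QuadraticMap.prod_apply, QuadraticMap.prod_apply]
    change Q₁ (g₁ v.1) + Q₂ (g₂ v.2) = _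
    rw [hg₁, hg₂]
  · rw [orderOf_prodCongr, ho₁, ho₂]

/-- **transport to a standard form** -/
theorem HasElt.exists_isometryGroup {ι : Type} [Fintype ι] [DecidableEq ι]
    (Q₀ : QuadraticForm F (ι → F)) (hQ₀ : Nondeg Q₀) {s : ℤ} {k n : ℕ}
    (hι : finrank F (ι → F) = 2 * (k + 1)) (hν : NuS s Q₀ k) (h : HasElt F s k n) :
    ∃ y : ↥(Cfsg.isometryGroup F ⇑Q₀), orderOf y = n := by
  obtain ⟨V, _, _, _, Q, hnd, hfin, hnu, g, hg, ho⟩ := h
  obtain ⟨φ, hφ⟩ := exists_isometry_of_nuS k hfin hι Q Q₀ hnd hQ₀ s hnu hν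
  set g' : (ι → F) ≃ₗ[F] (ι → F) := Cfsg.Agent.Helper7.QF2.leCongr φ g with hg'
  have hmem : g' ∈ Isom Q₀ := by
    intro w
    change Q₀ (φ (g (φ.symm w))) = Q₀ w
    rw [hφ, hg, ← hφ, LinearEquiv.apply_symm_apply]
  refine ⟨(isomEquiv Q₀).symm ⟨g', hmem⟩, ?_⟩
  rw [MulEquiv.orderOf_eq, Subgroup.orderOf_mk, hg', MulEquiv.orderOf_eq, ho]

end Cfsg.Agent.Helper8.SpO8
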