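import Mathlib
import Cfsg.Agent.Helper8.SpO8D
import Cfsg.Agent.Helper8.SpO8B
import Cfsg.Agent.Helper8.SpGElts
import Cfsg.Agent.Helper8.OrRFormA
set_option autoImplicit false

/-!
Tori: isometries of order `q^c + 1` (type `-`) and `q^c - 1` (type `+`) of quadratic spaces of
dimension `2c` over a finite field of characteristic two.
-/

namespace Cfsg.Agent.Helper8.SpO8

open Module Matrix
open Cfsg.Agent.Helper8.QuadForm Cfsg.Agent.Helper8.OrT Cfsg.Agent.Helper8.SympTorus

universe v w

section transport

variable {F : Type v} [Field F] [Fintype F]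

/-- `HasElt` from a space in an arbitrary universe -/
theorem hasElt_of' {V : Type w} [AddCommGroup V] [Module F V] [FiniteDimensional F V]
    (Q : QuadraticForm F V) (hnd : Nondeg Q) {s : ℤ} {k : ℕ} (hfin : finrank F V = 2 * (k + 1))
    (hnu : NuS s Q k) (g : V ≃ₗ[F] V) (hg : ∀ v, Q (g v) = Q v) :
    HasElt F s k (orderOf g) := by
  let e : V ≃ₗ[F] (Fin (2 * (k + 1)) → F) :=
    LinearEquiv.ofFinrankEq _ _ (by rw [hfin, Module.finrank_fin_fun])
  let Q' : QuadraticForm F (Fin (2 * (k + 1)) → F) := Q.comp (e.symm : _ →ₗ[F] V)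
  have hQ' : ∀ v, Q' (e v) = Q v := by
    intro v
    change Q (e.symm (e v)) = Q v
    rw [LinearEquiv.symm_apply_apply]
  have hQ'' : ∀ u, Q' u = Q (e.symm u) := fun u => rfl
  have hnd' : Nondeg Q' := by
    intro u hu
    have h1 : e.symm u = 0 := by
      apply hnd
      intro x
      have := hu (e x)
      unfold QuadraticMap.polar at this ⊢
      rw [hQ'', hQ'', hQ'', map_add, LinearEquiv.symm_apply_apply] at this
      exact this
    exact e.symm.map_eq_zero_iff.mp h1
  have hfin' : finrank F (Fin (2 * (k + 1)) → F) = 2 * (k + 1) := Module.finrank_fin_fun F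
  have hnu' : NuS s Q' k := NuS.congr e hQ' hnu
  have h := hasElt_of Q' hnd' hfin' hnu' (Cfsg.Agent.Helper7.QF2.leCongr e g) (by
    intro u
    change Q' (e (g (e.symm u))) = Q' u
    rw [hQ', hg, hQ''])
  rwa [MulEquiv.orderOf_eq] at h

end transport

section act

variable {F : Type*} [Field F] {L : Type*} [Field L] [Algebra F L]

theorem act_sub (A B : Matrix (Fin 2) (Fin 2) L) :
    act (F := F) (A - B) = act A - act B := by
  apply LinearMap.ext
  intro v
  rw [LinearMap.sub_apply, act_apply, act_apply, act_apply]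
  ext
  · simp only [Matrix.sub_apply, Prod.fst_sub]
    ring
  · simp only [Matrix.sub_apply, Prod.snd_sub]
    ring

/-- the action as a monoid homomorphism -/
def actHom : Matrix (Fin 2) (Fin 2) L →* Module.End F (L × L) where
  toFun := act
  map_one' := act_one
  map_mul' := act_mul

theorem actHom_apply (A : Matrix (Fin 2) (Fin 2) L) : actHom (F := F) A = act A := rfl

/-- the action of `SL₂(L)` by linear automorphisms -/
noncomputable def actEquiv : Matrix.SpecialLinearGroup (Fin 2) L →* ((L × L) ≃ₗ[F] (L × L)) where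
  toFun z := LinearEquiv.ofLinearMap (act (F := F) z.1) (act (F := F) (z⁻¹).1)
    (by
      rw [← Module.End.mul_eq_comp, ← act_mul, ← Matrix.SpecialLinearGroup.coe_mul,
        mul_inv_cancel, Matrix.SpecialLinearGroup.coe_one, act_one]
      rfl)
    (by
      rw [← Module.End.mul_eq_comp, ← act_mul, ← Matrix.SpecialLinearGroup.coe_mul,
        inv_mul_cancel, Matrix.SpecialLinearGroup.coe_one, act_one]
      rfl)
  map_one' := by
    apply LinearEquiv.ext
    intro v
    change act (F := F) (1 : Matrix.SpecialLinearGroup (Fin 2) L).1 v = v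
    rw [Matrix.SpecialLinearGroup.coe_one, act_one]
    rfl
  map_mul' := by
    intro a b
    apply LinearEquiv.ext
    intro v
    change act (F := F) (a * b).1 v = act (F := F) a.1 (act (F := F) b.1 v)
    rw [Matrix.SpecialLinearGroup.coe_mul, act_mul]
    rfl

theorem actEquiv_apply (z : Matrix.SpecialLinearGroup (Fin 2) L) (v : L × L) :
    actEquiv (F := F) z v = act (F := F) z.1 v := rfl

theorem actEquiv_injective :
    Function.Injective (actEquiv (F := F) (L := L)) := by
  intro a b hab
  apply Subtype.ext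
  apply act_injective (F := F)
  apply LinearMap.ext
  intro v
  have := congrArg (fun e : (L × L) ≃ₗ[F] (L × L) => e v) hab
  exact this

/-- an element of odd order of `SL₂` in characteristic two has no eigenvalue one -/
theorem det_one_sub_ne [CharP L 2] (z : Matrix.SpecialLinearGroup (Fin 2) L) (k : ℕ)
    (hk : Odd k) (hzk : z ^ k = 1) (hz1 : z ≠ 1) :
    ((1 : Matrix (Fin 2) (Fin 2) L) - z.1).det ≠ 0 := by
  intro h0
  have h2 : (2 : L) = 0 := CharTwo.two_eq_zero
  have hdet : z.1 0 0 * z.1 1 1 - z.1 0 1 * z.1 1 0 = 1 := by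
    have := z.2
    rwa [Matrix.det_fin_two] at this
  rw [Matrix.det_fin_two] at h0
  simp only [Matrix.sub_apply, Matrix.one_apply_eq, Matrix.one_apply_ne, ne_eq, zero_ne_one,
    one_ne_zero, not_false_eq_true, Fin.isValue] at h0
  have htr : z.1 0 0 + z.1 1 1 = 0 := by
    linear_combination (-1 : L) * h0 + hdet + h2
  have hsq : z * z = 1 := by
    apply Subtype.ext
    rw [Matrix.SpecialLinearGroup.coe_mul, Matrix.SpecialLinearGroup.coe_one]
    ext i j
    fin_cases i <;> fin_cases j <;>
      simp only [Matrix.mul_apply, Fin.sum_univ_two, Fin.zero_eta, Fin.mk_one, Fin.isValue,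
        Matrix.one_apply_eq, Matrix.one_apply_ne, ne_eq, zero_ne_one, one_ne_zero,
        not_false_eq_true]
    · linear_combination z.1 0 0 * htr - hdet - h2
    · linear_combination z.1 0 1 * htr
    · linear_combination z.1 1 0 * htr
    · linear_combination z.1 1 1 * htr - hdet - h2
  obtain ⟨j, hj⟩ := hk
  apply hz1
  have : z ^ k = z := by
    rw [hj, pow_succ, pow_mul, pow_two, hsq, one_pow, one_mul]
  rw [← this, hzk]

end act

end Cfsg.Agent.Helper8.SpO8
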