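import Mathlib
import Cfsg.Agent.Helper8.SpO8E
set_option autoImplicit false

/-!
Tori, continued: the quadratic form and its type.
-/

namespace Cfsg.Agent.Helper8.SpO8

open Module Matrix
open Cfsg.Agent.Helper8.QuadForm Cfsg.Agent.Helper8.OrT Cfsg.Agent.Helper8.SympTorus

universe v

section inv

variable {F : Type*} [Field F] {L : Type*} [Field L] [Algebra F L]

theorem exists_inv_one_sub [CharP L 2] (z : Matrix.SpecialLinearGroup (Fin 2) L) (k : ℕ)
    (hk : Odd k) (hzk : z ^ k = 1) (hz1 : z ≠ 1) :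
    ∃ s : Module.End F (L × L), s * (1 - act (F := F) z.1) = 1 ∧
      (1 - act (F := F) z.1) * s = 1 := by
  have hdet := det_one_sub_ne z k hk hzk hz1
  have hu : IsUnit ((1 : Matrix (Fin 2) (Fin 2) L) - z.1).det := isUnit_iff_ne_zero.mpr hdet
  have h1 : (1 : Module.End F (L × L)) - act (F := F) z.1 = act (F := F) (1 - z.1) := by
    rw [act_sub, act_one]
  refine ⟨act (F := F) ((1 - z.1)⁻¹), ?_, ?_⟩
  · rw [h1, ← act_mul, Matrix.nonsing_inv_mul _ hu, act_one]
  · rw [h1, ← act_mul, Matrix.mul_nonsing_inv _ hu, act_one]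

theorem fpf_of_odd [CharP L 2] (z : Matrix.SpecialLinearGroup (Fin 2) L) (k : ℕ)
    (hk : Odd k) (hzk : z ^ k = 1) (hz1 : z ≠ 1) (v : L × L)
    (hv : act (F := F) z.1 v = v) : v = 0 := by
  obtain ⟨s, hs1, -⟩ := exists_inv_one_sub (F := F) z k hk hzk hz1
  have h := congrArg (fun f : Module.End F (L × L) => f v) hs1
  simp only [Module.End.mul_apply, LinearMap.sub_apply, Module.End.one_apply, hv, sub_self,
    map_zero] at h
  exact h.symm

theorem omega_alt (T : L →ₗ[F] F) : Cfsg.Agent.Helper8.SpS.Alt (omega T) := by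
  intro v
  rw [omega_apply, mul_comm, sub_self, map_zero]

theorem omega_nondeg [FiniteDimensional F L] [Algebra.IsSeparable F L] :
    Cfsg.Agent.Helper8.SpS.Nondeg (omega (Algebra.trace F L)) := by
  intro v hv
  have h1 : v.1 = 0 := by
    apply (traceForm_nondegenerate F L).1
    intro z
    have := hv (0, z)
    rw [omega_apply] at this
    simpa using this
  have h2 : v.2 = 0 := by
    apply (traceForm_nondegenerate F L).1
    intro z
    have := hv (z, 0)
    rw [omega_apply] at this
    simp only [mul_zero, zero_sub, map_neg, neg_eq_zero] at this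
    exact this
  exact Prod.ext h1 h2

end inv

variable (F : Type v) [Field F] [Fintype F]

/-- **tori** -/
theorem hasElt_torus [CharP F 2] (c : ℕ) (hc : 1 ≤ c) (s : ℤ) (m : ℕ) (hm1 : 1 < m)
    (hm : (s = -1 ∧ m = Fintype.card F ^ c + 1) ∨ (s = 1 ∧ m = Fintype.card F ^ c - 1)) :
    HasElt F s (c - 1) m := by
  classical
  have : NeZero c := ⟨by omega⟩
  have : Fact (Nat.Prime 2) := ⟨Nat.prime_two⟩
  have hfr : finrank F (FiniteField.Extension F 2 c) = c := FiniteField.finrank_extension F 2 c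
  have : Fintype (FiniteField.Extension F 2 c) := Fintype.ofFinite _
  have hcardL : Fintype.card (FiniteField.Extension F 2 c) = Fintype.card F ^ c := by
    rw [← Nat.card_eq_fintype_card, FiniteField.natCard_extension, Nat.card_eq_fintype_card]
  have : CharP (FiniteField.Extension F 2 c) 2 :=
    charP_of_injective_algebraMap (algebraMap F (FiniteField.Extension F 2 c)).injective 2
  have hqc : 1 ≤ Fintype.card F ^ c := Nat.one_le_pow _ _ Fintype.card_pos
  have hqeven : Even (Fintype.card F ^ c) := (even_card (F := F)).pow_of_ne_zero (by omega)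
  have hmodd : Odd m := by
    obtain ⟨j, hj⟩ := hqeven
    rcases hm with ⟨-, rfl⟩ | ⟨-, rfl⟩
    · exact ⟨j, by omega⟩
    · exact ⟨j - 1, by omega⟩
  obtain ⟨y, hy⟩ := Cfsg.Agent.Helper8.SpG.exists_sl2_elt (FiniteField.Extension F 2 c) m (by
    rw [hcardL]
    rcases hm with ⟨-, rfl⟩ | ⟨-, rfl⟩
    · exact Or.inr dvd_rfl
    · exact Or.inl dvd_rfl)
  have hym : y ^ m = 1 := by rw [← hy]; exact pow_orderOf_eq_one y
  have hy1 : y ≠ 1 := by
    rintro rfl
    rw [orderOf_one] at hy
    omega
  set L := FiniteField.Extension F 2 c with hL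
  -- the invariant form
  obtain ⟨sE, hs1, hs2⟩ := exists_inv_one_sub (F := F) y m hmodd hym hy1
  have htt' : act (F := F) y.1 * act (F := F) (y⁻¹).1 = 1 := by
    rw [← act_mul, ← Matrix.SpecialLinearGroup.coe_mul, mul_inv_cancel,
      Matrix.SpecialLinearGroup.coe_one, act_one]
  have htm : act (F := F) y.1 ^ m = 1 := by
    have h1 : act (F := F) y.1 ^ m = actHom (F := F) (y.1 ^ m) := by
      rw [map_pow]; rfl
    rw [h1, ← Matrix.SpecialLinearGroup.coe_pow, hym, Matrix.SpecialLinearGroup.coe_one,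
      actHom_apply, act_one]
  obtain ⟨Q, hQinv, hQnd⟩ := Cfsg.Agent.Helper8.OrR.exists_quadratic_of_symplectic
    (omega (Algebra.trace F L)) (omega_alt _) omega_nondeg (act (F := F) y.1)
    (act (F := F) (y⁻¹).1) sE htt' (fun u v => omega_act _ y.1 y.2 u v) hs1 hs2 m hmodd htm
  have hnd : Nondeg Q := (nondeg_iff Q).mp hQnd
  have hV : finrank F (L × L) = 2 * (c - 1 + 1) := by
    rw [Module.finrank_prod, hfr]
    omega
  have hg : ∀ v, Q (actEquiv (F := F) y v) = Q v := fun v => hQinv v
  have hord : orderOf (actEquiv (F := F) y) = m := by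
    rw [orderOf_injective _ actEquiv_injective, hy]
  -- the type
  obtain ⟨r, hr, hrm⟩ := Nat.exists_prime_and_dvd (show m ≠ 1 by omega)
  have : Fact r.Prime := ⟨hr⟩
  have hr2 : r ≠ 2 := by
    rintro rfl
    exact (Nat.not_even_iff_odd.mpr hmodd) (even_iff_two_dvd.mpr hrm)
  set y' := y ^ (m / r) with hy'
  have hy'ord : orderOf y' = r := by
    rw [hy', ← hy]
    exact orderOf_pow_orderOf_div (by rw [hy]; omega) (by rw [hy]; exact hrm)
  have hy'1 : y' ≠ 1 := by
    intro h
    rw [h, orderOf_one] at hy'ord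
    exact hr.one_lt.ne hy'ord
  have hy'r : y' ^ r = 1 := by rw [← hy'ord]; exact pow_orderOf_eq_one y'
  have hrodd : Odd r := hr.odd_of_ne_two hr2
  have hrq : ¬ r ∣ Fintype.card F := by
    intro h
    have h1 : r ∣ Fintype.card F ^ c := dvd_pow h (by omega)
    rcases hm with ⟨-, rfl⟩ | ⟨-, rfl⟩
    · have := (Nat.dvd_add_right h1).mp hrm
      exact hr.one_lt.ne' (Nat.dvd_one.mp this)
    · have h2 : r ∣ Fintype.card F ^ c - 1 + 1 := by rwa [Nat.sub_add_cancel hqc]
      have := (Nat.dvd_add_right hrm).mp h2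
      exact hr.one_lt.ne' (Nat.dvd_one.mp this)
  have key : ∀ s₀ : ℤ, NuS s₀ Q (c - 1) →
      ((Fintype.card F : ℕ) : ZMod r) ^ (c - 1 + 1) = (s₀ : ZMod r) := by
    intro s₀ hs₀
    refine pow_eq_of_isometry (c - 1) hV Q hnd s₀ hs₀ r hrq (actEquiv (F := F) y') ?_ ?_ ?_
    · intro v
      rw [hy', map_pow]
      have : ∀ j : ℕ, Q ((actEquiv (F := F) y ^ j) v) = Q v := by
        intro j
        induction j generalizing v with
        | zero => rfl
        | succ j ih => rw [pow_succ, LinearEquiv.mul_apply, ih, hg]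
      exact this _
    · rw [← map_pow, hy'r, map_one]
    · intro v hv
      exact fpf_of_odd (F := F) y' r hrodd hy'r hy'1 v hv
  have hc1 : c - 1 + 1 = c := by omega
  have hneg : (-1 : ZMod r) ≠ 1 := by
    intro h
    have h2 : ((2 : ℕ) : ZMod r) = 0 := by
      push_cast
      linear_combination -h
    rw [ZMod.natCast_eq_zero_iff] at h2
    exact hr2 ((Nat.prime_dvd_prime_iff_eq hr Nat.prime_two).mp h2)
  have hnu : NuS s Q (c - 1) := by
    rcases dichotomy (c - 1) hV Q hnd with ⟨hp, -⟩ | ⟨hmn, -⟩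
    · rcases hm with ⟨hs, hmq⟩ | ⟨hs, hmq⟩
      · exfalso
        have h1 := key 1 hp
        rw [hc1] at h1
        have h2 : ((Fintype.card F ^ c + 1 : ℕ) : ZMod r) = 0 := by
          rw [ZMod.natCast_eq_zero_iff, ← hmq]; exact hrm
        push_cast at h1 h2
        apply hneg
        linear_combination h1 - h2
      · rw [hs]; exact hp
    · rcases hm with ⟨hs, hmq⟩ | ⟨hs, hmq⟩
      · rw [hs]; exact hmn
      · exfalso
        have h1 := key (-1) hmn
        rw [hc1] at h1
        have h2 : ((Fintype.card F ^ c - 1 : ℕ) : ZMod r) = 0 := by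
          rw [ZMod.natCast_eq_zero_iff, ← hmq]; exact hrm
        rw [Nat.cast_sub hqc] at h2
        push_cast at h1 h2
        apply hneg
        linear_combination h2 - h1
  have := hasElt_of' Q hnd hV hnu (actEquiv (F := F) y) hg
  rwa [hord] at this

end Cfsg.Agent.Helper8.SpO8
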