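import Mathlib
import Cfsg.Agent.Helper8.SpO8F
set_option autoImplicit false

/-!
The hyperbolic plane, and lifting an isometry of `W` to an isometry of twice the order of
`H ⊕ W` (characteristic two).
-/

namespace Cfsg.Agent.Helper8.SpO8

open Module
open Cfsg.Agent.Helper8.QuadForm Cfsg.Agent.Helper8.OrT Cfsg.Agent.Helper8.StdForms

universe v

section hyp

variable (F : Type v) [Field F]

/-- coordinates of the hyperbolic plane -/
noncomputable def hypEquiv : (F × F) ≃ₗ[F] (Fin 1 ⊕ Fin 1 → F) :=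
  ((LinearEquiv.funUnique (Fin 1) F F).symm.prodCongr
    (LinearEquiv.funUnique (Fin 1) F F).symm).trans
    (LinearEquiv.sumArrowLequivProdArrow (Fin 1) (Fin 1) F F).symm

/-- the hyperbolic plane `(s, t) ↦ s t` -/
noncomputable def hypF : QuadraticForm F (F × F) :=
  (plusForm F 1).comp ((hypEquiv F : (F × F) ≃ₗ[F] (Fin 1 ⊕ Fin 1 → F)) : (F × F) →ₗ[F] _)

theorem hypF_apply (p : F × F) : hypF F p = p.1 * p.2 := by
  unfold hypF
  rw [QuadraticMap.comp_apply, plusForm_apply]
  unfold Cfsg.quadFormPlus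
  simp [hypEquiv]

theorem polar_hypF (p p' : F × F) :
    QuadraticMap.polar (hypF F) p p' = p.1 * p'.2 + p'.1 * p.2 := by
  unfold QuadraticMap.polar
  rw [hypF_apply, hypF_apply, hypF_apply]
  simp only [Prod.fst_add, Prod.snd_add]
  ring

theorem hypF_nondeg : Nondeg (hypF F) := by
  intro p hp
  have h1 := hp (0, 1)
  have h2 := hp (1, 0)
  rw [polar_hypF] at h1 h2
  simp only [mul_one, zero_mul, add_zero, mul_zero, one_mul, zero_add] at h1 h2
  exact Prod.ext h1 h2

theorem finrank_hyp : finrank F (F × F) = 2 * (0 + 1) := by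
  rw [Module.finrank_prod, Module.finrank_self]

theorem nuS_hypF [Fintype F] : NuS 1 (hypF F) 0 := by
  refine NuS.congr (hypEquiv F).symm ?_ (nuS_plusForm (F := F) 0)
  intro v
  unfold hypF
  rw [QuadraticMap.comp_apply]
  simp

end hyp

section lift

variable {F : Type v} [Field F] [CharP F 2] {W : Type v} [AddCommGroup W] [Module F W]

theorem add_self_zero' (F : Type v) [Field F] [CharP F 2] {W : Type v} [AddCommGroup W]
    [Module F W] (w : W) : w + w = 0 := by
  rw [← two_smul F w, CharTwo.two_eq_zero, zero_smul]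

/-- the underlying linear map of the lift -/
noncomputable def liftLin (Q : QuadraticForm F W) (g : W →ₗ[F] W) (a : W) :
    ((F × F) × W) →ₗ[F] ((F × F) × W) where
  toFun v := ((v.1.1 + QuadraticMap.polar Q a (g v.2) + v.1.2 * Q a, v.1.2), g v.2 + v.1.2 • a)
  map_add' u v := by
    refine Prod.ext (Prod.ext ?_ ?_) ?_
    · simp only [Prod.fst_add, Prod.snd_add, map_add, QuadraticMap.polar_add_right]
      ring
    · simp only [Prod.fst_add, Prod.snd_add]
    · simp only [Prod.fst_add, Prod.snd_add, map_add, add_smul]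
      abel
  map_smul' c v := by
    refine Prod.ext (Prod.ext ?_ ?_) ?_
    · simp only [Prod.smul_fst, Prod.smul_snd, map_smul, QuadraticMap.polar_smul_right,
        smul_eq_mul, RingHom.id_apply]
      ring
    · simp only [Prod.smul_fst, Prod.smul_snd, RingHom.id_apply]
    · simp only [Prod.smul_fst, Prod.smul_snd, map_smul, smul_eq_mul, RingHom.id_apply, smul_add,
        smul_smul]

omit [CharP F 2] in
theorem liftLin_apply (Q : QuadraticForm F W) (g : W →ₗ[F] W) (a : W) (v : (F × F) × W) :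
    liftLin Q g a v
      = ((v.1.1 + QuadraticMap.polar Q a (g v.2) + v.1.2 * Q a, v.1.2), g v.2 + v.1.2 • a) := rfl

theorem liftLin_isometry (Q : QuadraticForm F W) (g : W →ₗ[F] W) (hg : ∀ w, Q (g w) = Q w)
    (a : W) (v : (F × F) × W) :
    ((hypF F).prod Q) (liftLin Q g a v) = ((hypF F).prod Q) v := by
  rw [QuadraticMap.prod_apply, QuadraticMap.prod_apply, liftLin_apply, hypF_apply, hypF_apply]
  simp only []
  rw [QuadraticMap.map_add Q, hg, QuadraticMap.map_smul, QuadraticMap.polar_smul_right,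
    QuadraticMap.polar_comm Q (g v.2) a, smul_eq_mul, smul_eq_mul]
  have h2 : (2 : F) = 0 := CharTwo.two_eq_zero
  linear_combination (v.1.2 * v.1.2 * Q a + v.1.2 * QuadraticMap.polar Q a (g v.2)) * h2

/-- **the lift**: an isometry `g` of `W` and a vector `a` give an isometry of `H ⊕ W` -/
theorem exists_lift [FiniteDimensional F W] (Q : QuadraticForm F W) (hnd : Nondeg Q)
    (g : W ≃ₗ[F] W) (hg : ∀ w, Q (g w) = Q w) (a : W) :
    ∃ x : ((F × F) × W) ≃ₗ[F] ((F × F) × W),
      (∀ v, ((hypF F).prod Q) (x v) = ((hypF F).prod Q) v) ∧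
      ∀ v, x v = ((v.1.1 + QuadraticMap.polar Q a (g v.2) + v.1.2 * Q a, v.1.2),
        g v.2 + v.1.2 • a) := by
  have hnd' : Nondeg ((hypF F).prod Q) :=
    Cfsg.Agent.Helper8.OrR.nondeg_prod _ _ (hypF_nondeg F) hnd
  obtain ⟨x, hx⟩ := Cfsg.Agent.Helper8.WittQuad.exists_equiv_of_isometry _ hnd'
    (liftLin Q (g : W →ₗ[F] W) a) (liftLin_isometry Q _ hg a)
  refine ⟨x, fun v => ?_, fun v => ?_⟩
  · rw [hx]
    exact liftLin_isometry Q _ hg a v
  · rw [hx]
    rfl

section order

variable (Q : QuadraticForm F W) (g : W ≃ₗ[F] W) (a : W)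
  (x : ((F × F) × W) ≃ₗ[F] ((F × F) × W))

omit [CharP F 2] in
theorem lift_pow
    (hx : ∀ v, x v = ((v.1.1 + QuadraticMap.polar Q a (g v.2) + v.1.2 * Q a, v.1.2),
        g v.2 + v.1.2 • a)) (i : ℕ) (v : (F × F) × W) :
    ((x ^ i) v).1.2 = v.1.2 ∧
      ((x ^ i) v).2 = (g ^ i) v.2 + v.1.2 • ∑ l ∈ Finset.range i, (g ^ l) a := by
  induction i with
  | zero =>
    constructor
    · rfl
    · rw [pow_zero, pow_zero, Finset.range_zero, Finset.sum_empty, smul_zero, add_zero]
      rfl
  | succ i ih =>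
    rw [pow_succ', LinearEquiv.mul_apply, hx]
    constructor
    · exact ih.1
    · change g ((x ^ i) v).2 + ((x ^ i) v).1.2 • a = _
      rw [ih.1, ih.2, map_add, map_smul, Finset.sum_range_succ', map_sum, pow_succ',
        LinearEquiv.mul_apply, add_assoc, ← smul_add, pow_zero]
      congr 2
      congr 1
      apply Finset.sum_congr rfl
      intro l _
      rw [pow_succ', LinearEquiv.mul_apply]

omit [CharP F 2] in
theorem pow_isometry {V : Type*} [AddCommGroup V] [Module F V] (Q' : QuadraticForm F V)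
    (y : V ≃ₗ[F] V) (hy : ∀ v, Q' (y v) = Q' v) (i : ℕ) (v : V) : Q' ((y ^ i) v) = Q' v := by
  induction i generalizing v with
  | zero => rfl
  | succ i ih => rw [pow_succ, LinearEquiv.mul_apply, ih, hy]

/-- **the order of the lift** -/
theorem lift_order
    (hxiso : ∀ v, ((hypF F).prod Q) (x v) = ((hypF F).prod Q) v)
    (hx : ∀ v, x v = ((v.1.1 + QuadraticMap.polar Q a (g v.2) + v.1.2 * Q a, v.1.2),
        g v.2 + v.1.2 • a)) (j : ℕ) (hgj : g ^ (2 ^ j) = 1)
    (hS : ∑ l ∈ Finset.range (2 ^ j), (g ^ l) a ≠ 0) : orderOf x = 2 ^ (j + 1) := by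
  have : Fact (Nat.Prime 2) := ⟨Nat.prime_two⟩
  apply orderOf_eq_prime_pow
  · intro h
    have h1 := (lift_pow Q g a x hx (2 ^ j) ((0, 1), 0)).2
    rw [h] at h1
    simp only [LinearEquiv.coe_one, id_eq, map_zero, one_smul, zero_add] at h1
    exact hS h1.symm
  · set n := 2 ^ j with hn
    have hnn : 2 ^ (j + 1) = n + n := by rw [pow_succ, hn]; ring
    rw [hnn]
    have hS2 : ∑ l ∈ Finset.range (n + n), (g ^ l) a = 0 := by
      rw [Finset.sum_range_add]
      have : ∀ l, (g ^ (n + l)) a = (g ^ l) a := by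
        intro l
        rw [pow_add, hgj, one_mul]
      simp only [this]
      exact add_self_zero' F _
    have hg2 : g ^ (n + n) = 1 := by rw [pow_add, hgj, one_mul]
    have key : ∀ v : (F × F) × W, v.1.2 ≠ 0 → (x ^ (n + n)) v = v := by
      intro v hv
      obtain ⟨h1, h2⟩ := lift_pow Q g a x hx (n + n) v
      rw [hS2, smul_zero, add_zero, hg2] at h2
      have h3 := pow_isometry ((hypF F).prod Q) x hxiso (n + n) v
      rw [QuadraticMap.prod_apply, QuadraticMap.prod_apply, h2, hypF_apply, hypF_apply, h1] at h3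
      have h4 : ((x ^ (n + n)) v).1.1 = v.1.1 := by
        have := add_right_cancel h3
        exact mul_right_cancel₀ hv this
      exact Prod.ext (Prod.ext h4 h1) h2
    apply LinearEquiv.ext
    intro v
    rw [LinearEquiv.coe_one, id_eq]
    by_cases hv : v.1.2 = 0
    · have h1 := key (v + ((0, 1), 0)) (by
        simp only [Prod.fst_add, Prod.snd_add, hv, zero_add]
        exact one_ne_zero)
      have h2 := key ((0, 1), 0) one_ne_zero
      rw [map_add, h2] at h1
      exact add_right_cancel h1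
    · exact key v hv

end order

end lift

end Cfsg.Agent.Helper8.SpO8
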