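import Mathlib
import Cfsg.Agent.Helper8.SpO8G
set_option autoImplicit false

/-!
Isometries of order `2`, `4`, `8` of quadratic spaces of dimension `2`, `4`, `6` of either type
(characteristic two).
-/

namespace Cfsg.Agent.Helper8.SpO8

open Module
open Cfsg.Agent.Helper8.QuadForm Cfsg.Agent.Helper8.OrT Cfsg.Agent.Helper8.StdForms

universe v

variable {F : Type v} [Field F] [Fintype F]

/-- there is a nondegenerate quadratic space of dimension `2(k+1)` and type `s` -/
def HasSp (F : Type v) [Field F] [Fintype F] (s : ℤ) (k : ℕ) : Prop :=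
  ∃ (V : Type v) (_ : AddCommGroup V) (_ : Module F V) (_ : FiniteDimensional F V)
    (Q : QuadraticForm F V), Nondeg Q ∧ finrank F V = 2 * (k + 1) ∧ NuS s Q k

theorem HasElt.hasSp {s : ℤ} {k n : ℕ} (h : HasElt F s k n) : HasSp F s k := by
  obtain ⟨V, i1, i2, i3, Q, hnd, hfin, hnu, -⟩ := h
  exact ⟨V, i1, i2, i3, Q, hnd, hfin, hnu⟩

theorem HasSp.one {s : ℤ} {k : ℕ} (h : HasSp F s k) : HasElt F s k 1 := by
  obtain ⟨V, i1, i2, i3, Q, hnd, hfin, hnu⟩ := h
  exact ⟨V, i1, i2, i3, Q, hnd, hfin, hnu, 1, fun v => rfl, orderOf_one⟩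

theorem hasSp_plus : HasSp F 1 0 :=
  ⟨F × F, inferInstance, inferInstance, inferInstance, hypF F, hypF_nondeg F, finrank_hyp F,
    nuS_hypF F⟩

theorem hasSp_minus [CharP F 2] : HasSp F (-1) 0 := by
  have h := hasElt_torus F 1 le_rfl (-1) (Fintype.card F ^ 1 + 1)
    (by have := Fintype.card_pos (α := F); rw [pow_one]; omega) (Or.inl ⟨rfl, rfl⟩)
  exact h.hasSp

/-- one lifting step -/
theorem lift_step [CharP F 2] {W : Type v} [AddCommGroup W] [Module F W] [FiniteDimensional F W]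
    (Q : QuadraticForm F W) (hnd : Nondeg Q) {s : ℤ} {k : ℕ} (hfin : finrank F W = 2 * (k + 1))
    (hnu : NuS s Q k) (g : W ≃ₗ[F] W) (hg : ∀ w, Q (g w) = Q w) (a : W) (j : ℕ)
    (hgj : g ^ (2 ^ j) = 1) (hS : ∑ l ∈ Finset.range (2 ^ j), (g ^ l) a ≠ 0) :
    Nondeg ((hypF F).prod Q) ∧ finrank F ((F × F) × W) = 2 * (k + 1 + 1) ∧
      NuS s ((hypF F).prod Q) (k + 1) ∧
      ∃ x : ((F × F) × W) ≃ₗ[F] ((F × F) × W),
        (∀ v, ((hypF F).prod Q) (x v) = ((hypF F).prod Q) v) ∧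
        (∀ v, x v = ((v.1.1 + QuadraticMap.polar Q a (g v.2) + v.1.2 * Q a, v.1.2),
          g v.2 + v.1.2 • a)) ∧ orderOf x = 2 ^ (j + 1) := by
  refine ⟨Cfsg.Agent.Helper8.OrR.nondeg_prod _ _ (hypF_nondeg F) hnd, ?_, ?_, ?_⟩
  · rw [Module.finrank_prod, hfin, Module.finrank_prod, Module.finrank_self]
    ring
  · have h := nuS_prod 0 k (finrank_hyp F) hfin (hypF F) Q (hypF_nondeg F) hnd 1 s (nuS_hypF F) hnu
    rw [one_mul, zero_add] at h
    exact h
  · obtain ⟨x, hx1, hx2⟩ := exists_lift Q hnd g hg a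
    exact ⟨x, hx1, hx2, lift_order Q g a x hx1 hx2 j hgj hS⟩

/-- isometries of order `2`, `4`, `8` -/
theorem HasSp.two_four_eight [CharP F 2] {s : ℤ} (h : HasSp F s 0) :
    HasElt F s 0 2 ∧ HasElt F s 1 4 ∧ HasElt F s 2 8 := by
  obtain ⟨P, _, _, _, Q, hnd, hfin, hnu⟩ := h
  obtain ⟨v, hv⟩ := exists_repr Q hnd (by rw [hfin]) 1
  have hv0 : Q v ≠ 0 := by rw [hv]; exact one_ne_zero
  have hvne : v ≠ 0 := by
    rintro rfl
    exact hv0 (QuadraticMap.map_zero Q)
  obtain ⟨a, ha⟩ : ∃ a, QuadraticMap.polar Q a v ≠ 0 := by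
    by_contra hcon
    have hcon' : ∀ w, QuadraticMap.polar Q w v = 0 := fun w => by_contra (fun h => hcon ⟨w, h⟩)
    exact hvne (hnd v (fun w => by rw [QuadraticMap.polar_comm]; exact hcon' w))
  set β := QuadraticMap.polar Q a v with hβ
  obtain ⟨r, hriso, hr⟩ := Cfsg.Agent.Helper8.WittQuad.exists_reflection Q hnd hv0
  have hr' : ∀ x, r x = x - QuadraticMap.polar Q x v • v := by
    intro x
    rw [hr, hv, div_one]
  have h2 : (2 : F) = 0 := CharTwo.two_eq_zero
  have hvv : QuadraticMap.polar Q v v = 0 := by rw [polar_self', h2, zero_mul]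
  have haa : QuadraticMap.polar Q a a = 0 := by rw [polar_self', h2, zero_mul]
  have hrr : ∀ x, r (r x) = x := by
    intro x
    rw [hr' (r x), hr' x, QuadraticMap.polar_sub_left, QuadraticMap.polar_smul_left, hvv,
      smul_zero, sub_zero, sub_sub, add_self_zero' F, sub_zero]
  have hr2 : r ^ 2 = 1 := by
    apply LinearEquiv.ext
    intro x
    rw [pow_two, LinearEquiv.mul_apply, hrr]
    rfl
  have hra : r a = a - β • v := hr' a
  have hβv : β • v ≠ 0 := smul_ne_zero ha hvne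
  have hr1 : r ≠ 1 := by
    intro h
    have h1 := hra
    rw [h, LinearEquiv.coe_one, id_eq, eq_comm, sub_eq_self] at h1
    exact hβv h1
  have : Fact (Nat.Prime 2) := ⟨Nat.prime_two⟩
  have hord2 : orderOf r = 2 := orderOf_eq_prime hr2 hr1
  -- level one
  have hS1 : ∑ l ∈ Finset.range (2 ^ 1), (r ^ l) a ≠ 0 := by
    simp only [pow_one, Finset.sum_range_succ, Finset.sum_range_zero, zero_add, pow_zero,
      LinearEquiv.coe_one, id_eq]
    rw [hra]
    intro h
    apply hβv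
    have e : a + (a - β • v) = (a + a) - β • v := by abel
    rw [e, add_self_zero' F, zero_sub, neg_eq_zero] at h
    exact h
  obtain ⟨hnd1, hfin1, hnu1, x₁, hx1iso, hx1, hx1ord⟩ :=
    lift_step Q hnd hfin hnu r hriso a 1 (by rw [pow_one]; exact hr2) hS1
  -- level two
  have hpar : QuadraticMap.polar Q a (r a) = -(β * β) := by
    rw [hra, QuadraticMap.polar_sub_right, QuadraticMap.polar_smul_right, haa, zero_sub,
      smul_eq_mul]
  have hparne : QuadraticMap.polar Q a (r a) ≠ 0 := by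
    rw [hpar, neg_ne_zero]
    exact mul_ne_zero ha ha
  set a₂ : (F × F) × P := ((0, 1), 0) with ha₂
  have e1 : x₁ a₂ = ((Q a, 1), a) := by
    rw [hx1, ha₂]
    simp only [map_zero, QuadraticMap.polar_zero_right, zero_add, add_zero, one_mul, one_smul]
  have e2 : x₁ (x₁ a₂) = ((QuadraticMap.polar Q a (r a), 1), r a + a) := by
    rw [e1, hx1]
    simp only [one_mul, one_smul]
    refine Prod.ext (Prod.ext ?_ rfl) rfl
    simp only []
    linear_combination Q a * h2
  have e3 : x₁ (x₁ (x₁ a₂)) = ((Q a, 1), r a) := by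
    rw [e2, hx1]
    simp only [one_mul, one_smul]
    refine Prod.ext (Prod.ext ?_ rfl) ?_
    · simp only []
      rw [map_add, hrr, QuadraticMap.polar_add_right, haa]
      linear_combination QuadraticMap.polar Q a (r a) * h2
    · simp only []
      rw [map_add, hrr]
      have e : a + r a + a = r a + (a + a) := by abel
      rw [e, add_self_zero' F, add_zero]
  have hS2 : ∑ l ∈ Finset.range (2 ^ 2), (x₁ ^ l) a₂ ≠ 0 := by
    have p2 : (x₁ ^ 2) a₂ = x₁ (x₁ a₂) := by rw [pow_two, LinearEquiv.mul_apply]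
    have p3 : (x₁ ^ 3) a₂ = x₁ (x₁ (x₁ a₂)) := by
      rw [pow_succ', LinearEquiv.mul_apply, p2]
    have h4 : (2 : ℕ) ^ 2 = 4 := by norm_num
    rw [h4]
    simp only [Finset.sum_range_succ, Finset.sum_range_zero, zero_add, pow_zero, pow_one,
      LinearEquiv.coe_one, id_eq]
    rw [p2, p3, e3, e2, e1]
    intro h
    have h' := congrArg (fun z : (F × F) × P => z.1.1) h
    simp only [ha₂, Prod.fst_add, Prod.fst_zero, zero_add] at h'
    apply hparne
    linear_combination h' - Q a * h2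
  have hx1pow : x₁ ^ (2 ^ 2) = 1 := by
    have := pow_orderOf_eq_one x₁
    rwa [hx1ord] at this
  obtain ⟨hnd2, hfin2, hnu2, x₂, hx2iso, hx2, hx2ord⟩ :=
    lift_step ((hypF F).prod Q) hnd1 hfin1 hnu1 x₁ hx1iso a₂ 2 hx1pow hS2
  refine ⟨⟨P, inferInstance, inferInstance, inferInstance, Q, hnd, hfin, hnu, r, hriso, hord2⟩,
    ⟨(F × F) × P, inferInstance, inferInstance, inferInstance, (hypF F).prod Q, hnd1, hfin1, hnu1,
      x₁, hx1iso, hx1ord.trans (by norm_num)⟩,
    ⟨(F × F) × ((F × F) × P), inferInstance, inferInstance, inferInstance,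
      (hypF F).prod ((hypF F).prod Q), hnd2, hfin2, hnu2, x₂, hx2iso,
      hx2ord.trans (by norm_num)⟩⟩

end Cfsg.Agent.Helper8.SpO8
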