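import Mathlib
import Cfsg.Agent.Helper8.SpO8H
import Cfsg.Agent.Helper8.SpO8A
set_option autoImplicit false

/-!
Arithmetic for the twelve signatures, and the elements of the orthogonal group of minus type in
dimension `8` realising them.
-/

namespace Cfsg.Agent.Helper8.SpO8

open Module
open Cfsg.Agent.Helper8.QuadForm Cfsg.Agent.Helper8.OrT Cfsg.Agent.Helper8.StdForms

universe v

section arith

theorem dvd_lcm_of_coprime {a b x y : ℕ} (hab : Nat.Coprime a b) (ha : a ∣ x) (hb : b ∣ y) :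
    a * b ∣ Nat.lcm x y :=
  Nat.Coprime.mul_dvd_of_dvd_of_dvd hab (ha.trans (Nat.dvd_lcm_left _ _))
    (hb.trans (Nat.dvd_lcm_right _ _))

theorem sub1 (u : ℕ) : (u + 1) - 1 = u := Nat.add_sub_cancel u 1
theorem sub1' (u : ℕ) : (u + 1) ^ 1 - 1 = u := by rw [pow_one, Nat.add_sub_cancel]
theorem sub2 (u : ℕ) : (u + 1) ^ 2 - 1 = u * (u + 2) := by
  apply Nat.sub_eq_of_eq_add
  ring
theorem sub3 (u : ℕ) : (u + 1) ^ 3 - 1 = u * (u ^ 2 + 3 * u + 3) := by
  apply Nat.sub_eq_of_eq_add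
  ring
theorem subE (u : ℕ) : (u + 1) ^ 2 - (u + 1) + 1 = u ^ 2 + u + 1 := by
  have : (u + 1) ^ 2 = (u ^ 2 + u) + (u + 1) := by ring
  rw [this, Nat.add_sub_cancel]

variable {u : ℕ}

theorem odd_u2 (hu : Odd u) : Odd (u + 2) := by
  obtain ⟨m, rfl⟩ := hu
  exact ⟨m + 1, by ring⟩

theorem odd_C (hu : Odd u) : Odd ((u + 1) ^ 2 + 1) := by
  obtain ⟨m, rfl⟩ := hu
  exact ⟨2 * m ^ 2 + 4 * m + 2, by ring⟩

theorem odd_E (u : ℕ) : Odd (u ^ 2 + u + 1) := by
  rcases Nat.even_or_odd' u with ⟨m, rfl | rfl⟩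
  · exact ⟨2 * m ^ 2 + m, by ring⟩
  · exact ⟨2 * m ^ 2 + 3 * m + 1, by ring⟩

theorem odd_D (u : ℕ) : Odd (u ^ 2 + 3 * u + 3) := by
  rcases Nat.even_or_odd' u with ⟨m, rfl | rfl⟩
  · exact ⟨2 * m ^ 2 + 3 * m + 1, by ring⟩
  · exact ⟨2 * m ^ 2 + 5 * m + 3, by ring⟩

/-- `gcd (q² + 1, q - 1) = 1` -/
theorem cop_C_A (hu : Odd u) : Nat.Coprime ((u + 1) ^ 2 + 1) u := by
  have e : (u + 1) ^ 2 + 1 = 2 + (u + 2) * u := by ring
  rw [e, Nat.coprime_add_mul_right_left]
  exact Nat.coprime_two_left.mpr hu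

/-- `gcd (q² + 1, q + 1) = 1` -/
theorem cop_C_B (hu : Odd u) : Nat.Coprime ((u + 1) ^ 2 + 1) (u + 2) := by
  have e : (u + 1) ^ 2 + 1 = 2 + u * (u + 2) := by ring
  rw [e, Nat.coprime_add_mul_right_left]
  exact Nat.coprime_two_left.mpr (odd_u2 hu)

/-- `gcd (q - 1, q + 1) = 1` -/
theorem cop_A_B (hu : Odd u) : Nat.Coprime u (u + 2) := by
  have e : u + 2 = 2 + u := by ring
  rw [e, Nat.coprime_add_self_right]
  exact Nat.coprime_two_right.mpr hu

/-- `gcd (q² - q + 1, q - 1) = 1` -/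
theorem cop_E_A (u : ℕ) : Nat.Coprime (u ^ 2 + u + 1) u := by
  have e : u ^ 2 + u + 1 = 1 + (u + 1) * u := by ring
  rw [e, Nat.coprime_add_mul_right_left]
  exact Nat.coprime_one_left _

/-- `gcd (q² + q + 1, q + 1) = 1` -/
theorem cop_D_B (u : ℕ) : Nat.Coprime (u ^ 2 + 3 * u + 3) (u + 2) := by
  have e : u ^ 2 + 3 * u + 3 = 1 + (u + 1) * (u + 2) := by ring
  rw [e, Nat.coprime_add_mul_right_left]
  exact Nat.coprime_one_left _

theorem cop_pow_two {n : ℕ} (hn : Odd n) (j : ℕ) : Nat.Coprime n (2 ^ j) :=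
  Nat.Coprime.pow_right j (Nat.coprime_two_right.mpr hn)

theorem cube_add_one' (u : ℕ) : (u + 1) ^ 3 + 1 = (u + 2) * (u ^ 2 + u + 1) := by ring

theorem val_1 (u : ℕ) :
    Sig.val (u + 1) ⟨0, false, false, false, false, false, true⟩ ∣ (u + 1) ^ 4 + 1 := by
  simp only [Sig.val, fac, ↓reduceIte, Bool.false_eq_true, pow_zero, one_mul, mul_one]
  exact dvd_rfl

theorem val_2 (hu : Odd u) :
    Sig.val (u + 1) ⟨0, true, true, true, false, false, false⟩
      ∣ Nat.lcm ((u + 1) ^ 2 + 1) (u * (u + 2)) := by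
  have e : Sig.val (u + 1) ⟨0, true, true, true, false, false, false⟩
      = ((u + 1) ^ 2 + 1) * (u * (u + 2)) := by
    simp only [Sig.val, fac, ↓reduceIte, Bool.false_eq_true, pow_zero, one_mul, mul_one, sub1]
    ring
  rw [e]
  exact dvd_lcm_of_coprime (Nat.Coprime.mul_right (cop_C_A hu) (cop_C_B hu)) dvd_rfl dvd_rfl

theorem val_3 (hu : Odd u) :
    Sig.val (u + 1) ⟨0, true, true, false, false, true, false⟩
      ∣ Nat.lcm ((u + 1) ^ 3 + 1) u := by
  have e : Sig.val (u + 1) ⟨0, true, true, false, false, true, false⟩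
      = ((u + 2) * (u ^ 2 + u + 1)) * u := by
    simp only [Sig.val, fac, ↓reduceIte, Bool.false_eq_true, pow_zero, one_mul, mul_one, sub1,
      subE]
    ring
  rw [e, cube_add_one']
  exact dvd_lcm_of_coprime (Nat.Coprime.mul_left (cop_A_B hu).symm (cop_E_A u)) dvd_rfl dvd_rfl

theorem val_4 (hu : Odd u) :
    Sig.val (u + 1) ⟨0, true, true, false, true, false, false⟩
      ∣ Nat.lcm (u * (u ^ 2 + 3 * u + 3)) (u + 2) := by
  have e : Sig.val (u + 1) ⟨0, true, true, false, true, false, false⟩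
      = (u * (u ^ 2 + 3 * u + 3)) * (u + 2) := by
    simp only [Sig.val, fac, ↓reduceIte, Bool.false_eq_true, pow_zero, one_mul, mul_one, sub1]
    ring
  rw [e]
  exact dvd_lcm_of_coprime (Nat.Coprime.mul_left (cop_A_B hu) (cop_D_B u)) dvd_rfl dvd_rfl

theorem val_5 (hu : Odd u) :
    Sig.val (u + 1) ⟨1, false, true, false, false, true, false⟩
      ∣ Nat.lcm ((u + 1) ^ 3 + 1) 2 := by
  have e : Sig.val (u + 1) ⟨1, false, true, false, false, true, false⟩
      = ((u + 2) * (u ^ 2 + u + 1)) * 2 := by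
    simp only [Sig.val, fac, ↓reduceIte, Bool.false_eq_true, pow_one, one_mul, mul_one, sub1,
      subE]
    ring
  rw [e, cube_add_one']
  exact dvd_lcm_of_coprime (Nat.coprime_two_right.mpr ((odd_u2 hu).mul (odd_E u))) dvd_rfl dvd_rfl

theorem val_6 (hu : Odd u) :
    Sig.val (u + 1) ⟨1, true, false, false, true, false, false⟩
      ∣ Nat.lcm (u * (u ^ 2 + 3 * u + 3)) 2 := by
  have e : Sig.val (u + 1) ⟨1, true, false, false, true, false, false⟩
      = (u * (u ^ 2 + 3 * u + 3)) * 2 := by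
    simp only [Sig.val, fac, ↓reduceIte, Bool.false_eq_true, pow_one, one_mul, mul_one, sub1]
    ring
  rw [e]
  exact dvd_lcm_of_coprime (Nat.coprime_two_right.mpr (hu.mul (odd_D u))) dvd_rfl dvd_rfl

theorem val_7 (hu : Odd u) :
    Sig.val (u + 1) ⟨1, true, false, true, false, false, false⟩
      ∣ Nat.lcm ((u + 1) ^ 2 + 1) (Nat.lcm u 2) := by
  have e : Sig.val (u + 1) ⟨1, true, false, true, false, false, false⟩
      = ((u + 1) ^ 2 + 1) * (u * 2) := by
    simp only [Sig.val, fac, ↓reduceIte, Bool.false_eq_true, pow_one, one_mul, mul_one, sub1]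
    ring
  rw [e]
  exact dvd_lcm_of_coprime
    (Nat.Coprime.mul_right (cop_C_A hu) (Nat.coprime_two_right.mpr (odd_C hu))) dvd_rfl
    (dvd_lcm_of_coprime (Nat.coprime_two_right.mpr hu) dvd_rfl dvd_rfl)

theorem val_8 (hu : Odd u) :
    Sig.val (u + 1) ⟨1, false, true, true, false, false, false⟩
      ∣ Nat.lcm ((u + 1) ^ 2 + 1) (Nat.lcm (u + 2) 2) := by
  have e : Sig.val (u + 1) ⟨1, false, true, true, false, false, false⟩
      = ((u + 1) ^ 2 + 1) * ((u + 2) * 2) := by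
    simp only [Sig.val, fac, ↓reduceIte, Bool.false_eq_true, pow_one, one_mul, mul_one]
    ring
  rw [e]
  exact dvd_lcm_of_coprime
    (Nat.Coprime.mul_right (cop_C_B hu) (Nat.coprime_two_right.mpr (odd_C hu))) dvd_rfl
    (dvd_lcm_of_coprime (Nat.coprime_two_right.mpr (odd_u2 hu)) dvd_rfl dvd_rfl)

theorem val_9 (hu : Odd u) :
    Sig.val (u + 1) ⟨2, false, false, true, false, false, false⟩
      ∣ Nat.lcm ((u + 1) ^ 2 + 1) 4 := by
  have e : Sig.val (u + 1) ⟨2, false, false, true, false, false, false⟩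
      = ((u + 1) ^ 2 + 1) * 2 ^ 2 := by
    simp only [Sig.val, fac, ↓reduceIte, Bool.false_eq_true, one_mul, mul_one]
    ring
  rw [e]
  exact dvd_lcm_of_coprime (cop_pow_two (odd_C hu) 2) dvd_rfl (by norm_num)

theorem val_10 (hu : Odd u) :
    Sig.val (u + 1) ⟨2, true, true, false, false, false, false⟩
      ∣ Nat.lcm (u * (u + 2)) 4 := by
  have e : Sig.val (u + 1) ⟨2, true, true, false, false, false, false⟩
      = (u * (u + 2)) * 2 ^ 2 := by
    simp only [Sig.val, fac, ↓reduceIte, Bool.false_eq_true, one_mul, mul_one, sub1]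
    ring
  rw [e]
  exact dvd_lcm_of_coprime (cop_pow_two (hu.mul (odd_u2 hu)) 2) dvd_rfl (by norm_num)

theorem val_11 (hu : Odd u) :
    Sig.val (u + 1) ⟨3, true, false, false, false, false, false⟩ ∣ Nat.lcm u 8 := by
  have e : Sig.val (u + 1) ⟨3, true, false, false, false, false, false⟩ = u * 2 ^ 3 := by
    simp only [Sig.val, fac, ↓reduceIte, Bool.false_eq_true, one_mul, mul_one, sub1]
    ring
  rw [e]
  exact dvd_lcm_of_coprime (cop_pow_two hu 3) dvd_rfl (by norm_num)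

theorem val_12 (hu : Odd u) :
    Sig.val (u + 1) ⟨3, false, true, false, false, false, false⟩ ∣ Nat.lcm (u + 2) 8 := by
  have e : Sig.val (u + 1) ⟨3, false, true, false, false, false, false⟩ = (u + 2) * 2 ^ 3 := by
    simp only [Sig.val, fac, ↓reduceIte, Bool.false_eq_true, one_mul, mul_one]
    ring
  rw [e]
  exact dvd_lcm_of_coprime (cop_pow_two (odd_u2 hu) 3) dvd_rfl (by norm_num)

end arith

section pieces

variable (F : Type v) [Field F] [Fintype F] [CharP F 2]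

theorem torusM (c : ℕ) (hc : 1 ≤ c) : HasElt F (-1) (c - 1) (Fintype.card F ^ c + 1) :=
  hasElt_torus F c hc (-1) _
    (by have := Nat.one_le_pow c _ (Fintype.card_pos (α := F)); omega) (Or.inl ⟨rfl, rfl⟩)

theorem torusP (c : ℕ) (hc : 1 ≤ c) : HasElt F 1 (c - 1) (Fintype.card F ^ c - 1) := by
  by_cases h : 1 < Fintype.card F ^ c - 1
  · exact hasElt_torus F c hc 1 _ h (Or.inr ⟨rfl, rfl⟩)
  · have hq : 2 ≤ Fintype.card F := Fintype.one_lt_card
    have hc1 : c = 1 := by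
      by_contra hne
      have h2 : 2 ≤ c := by omega
      have h3 : Fintype.card F ^ 2 ≤ Fintype.card F ^ c := Nat.pow_le_pow_right (by omega) h2
      have h4 : 4 ≤ Fintype.card F ^ 2 := by nlinarith
      omega
    subst hc1
    have h1 : Fintype.card F ^ 1 - 1 = 1 := by
      rw [pow_one] at h ⊢
      omega
    rw [h1]
    exact (hasSp_plus (F := F)).one

variable {F}

omit [CharP F 2] in
theorem HasElt.prod' {s₁ s₂ s : ℤ} {k₁ k₂ k n₁ n₂ : ℕ} (h₁ : HasElt F s₁ k₁ n₁)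
    (h₂ : HasElt F s₂ k₂ n₂) (hs : s₁ * s₂ = s) (hk : k₁ + k₂ + 1 = k) :
    HasElt F s k (Nat.lcm n₁ n₂) := by
  subst hs hk
  exact h₁.prod h₂

variable (F)

/-- **the twelve signatures are realised in the orthogonal group of minus type** -/
theorem exists_hasElt_of_sig (t : Sig) (ht : t ∈ Llist) :
    ∃ n, t.val (Fintype.card F) ∣ n ∧ HasElt F (-1) 3 n := by
  have hq : 2 ≤ Fintype.card F := Fintype.one_lt_card
  obtain ⟨u, hu⟩ : ∃ u, Fintype.card F = u + 1 := ⟨Fintype.card F - 1, by omega⟩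
  have huodd : Odd u := by
    have he := even_card (F := F)
    rw [hu] at he
    rcases Nat.even_or_odd u with h | h
    · exact absurd he (Nat.not_even_iff_odd.mpr h.add_one)
    · exact h
  have hM1 : HasElt F (-1) 0 (u + 2) := by
    have := torusM F 1 le_rfl
    rwa [hu, pow_one] at this
  have hM2 : HasElt F (-1) 1 ((u + 1) ^ 2 + 1) := by
    have := torusM F 2 (by norm_num)
    rwa [hu] at this
  have hM3 : HasElt F (-1) 2 ((u + 1) ^ 3 + 1) := by
    have := torusM F 3 (by norm_num)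
    rwa [hu] at this
  have hM4 : HasElt F (-1) 3 ((u + 1) ^ 4 + 1) := by
    have := torusM F 4 (by norm_num)
    rwa [hu] at this
  have hP1 : HasElt F 1 0 u := by
    have := torusP F 1 le_rfl
    rwa [hu, sub1'] at this
  have hP2 : HasElt F 1 1 (u * (u + 2)) := by
    have := torusP F 2 (by norm_num)
    rwa [hu, sub2] at this
  have hP3 : HasElt F 1 2 (u * (u ^ 2 + 3 * u + 3)) := by
    have := torusP F 3 (by norm_num)
    rwa [hu, sub3] at this
  obtain ⟨hRp, hU4p, hU8p⟩ := (hasSp_plus (F := F)).two_four_eight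
  obtain ⟨hRm, hU4m, hU8m⟩ := (hasSp_minus (F := F)).two_four_eight
  rw [hu]
  simp only [Llist, List.mem_cons, List.not_mem_nil, or_false] at ht
  rcases ht with rfl | rfl | rfl | rfl | rfl | rfl | rfl | rfl | rfl | rfl | rfl | rfl
  · exact ⟨_, val_1 u, hM4⟩
  · exact ⟨_, val_2 huodd, hM2.prod' hP2 (by norm_num) (by norm_num)⟩
  · exact ⟨_, val_3 huodd, hM3.prod' hP1 (by norm_num) (by norm_num)⟩
  · exact ⟨_, val_4 huodd, hP3.prod' hM1 (by norm_num) (by norm_num)⟩
  · exact ⟨_, val_5 huodd, hM3.prod' hRp (by norm_num) (by norm_num)⟩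
  · exact ⟨_, val_6 huodd, hP3.prod' hRm (by norm_num) (by norm_num)⟩
  · exact ⟨_, val_7 huodd, hM2.prod' (hP1.prod hRp)
      (by norm_num) (by norm_num)⟩
  · exact ⟨_, val_8 huodd, hM2.prod' (hM1.prod hRm)
      (by norm_num) (by norm_num)⟩
  · exact ⟨_, val_9 huodd, hM2.prod' hU4p (by norm_num) (by norm_num)⟩
  · exact ⟨_, val_10 huodd, hP2.prod' hU4m (by norm_num) (by norm_num)⟩
  · exact ⟨_, val_11 huodd, hP1.prod' hU8m (by norm_num) (by norm_num)⟩
  · exact ⟨_, val_12 huodd, hM1.prod' hU8p (by norm_num) (by norm_num)⟩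

end pieces

end Cfsg.Agent.Helper8.SpO8
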