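import Mathlib
import Cfsg.Agent.Helper8.SpO8I
import Cfsg.Agent.Helper8.SpO8C
import Cfsg.Agent.Helper7.QF2C
import Cfsg.Agent.Lead.SpecSpA
import Cfsg.Agent.S0270
set_option autoImplicit false

/-!
The element orders of `Sp_8(q)` and `O_8^-(q)`, `q` even, coincide: the orthogonal group realises
the twelve signatures, and it embeds in the symplectic group.
-/

namespace Cfsg.Agent.Helper8.SpO8

open Module Matrix
open Cfsg.Agent.Helper8.QuadForm Cfsg.Agent.Helper8.OrT Cfsg.Agent.Helper8.StdForms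

universe v

variable {F : Type v} [Field F] [Fintype F] [CharP F 2] (a b : F)
  (hab : ∀ z₁ z₂ : F, z₁ ^ 2 + a * z₁ * z₂ + b * z₂ ^ 2 = 0 → z₁ = 0 ∧ z₂ = 0)

include hab

omit [CharP F 2] in
theorem minus_nondeg : Nondeg (minusForm F 3 a b) :=
  (nondeg_iff _).mp (minusForm_nondeg F 3 hab)

/-- the orthogonal group of minus type realises the twelve signatures -/
theorem exists_orth_of_sig (t : Sig) (ht : t ∈ Llist) :
    ∃ y : ↥(Cfsg.isometryGroup F (Cfsg.quadFormMinus 3 F a b)),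
      t.val (Fintype.card F) ∣ orderOf y := by
  obtain ⟨n, hn, hE⟩ := exists_hasElt_of_sig F t ht
  have hfin : finrank F (((Fin 3 ⊕ Fin 3) ⊕ Fin 2) → F) = 2 * (3 + 1) := by rw [finrank_minus]
  obtain ⟨y, hy⟩ : ∃ y : ↥(Cfsg.isometryGroup F (Cfsg.quadFormMinus 3 F a b)), orderOf y = n := by
    have hcoe : (⇑(minusForm F 3 a b) : (((Fin 3 ⊕ Fin 3) ⊕ Fin 2) → F) → F)
        = Cfsg.quadFormMinus 3 F a b := funext (minusForm_apply F 3 a b)
    rw [← hcoe]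
    exact HasElt.exists_isometryGroup (minusForm F 3 a b) (minus_nondeg a b hab) hfin
      (nuS_minusForm 3 a b hab) hE
  exact ⟨y, by rw [hy]; exact hn⟩

omit hab [Fintype F] in
theorem orderOf_mk_psp (g : Matrix.symplecticGroup (Fin 4) F) :
    orderOf (QuotientGroup.mk g : Cfsg.PSp 4 F) = orderOf g := by
  apply orderOf_eq_orderOf_iff.mpr
  intro k
  rw [Cfsg.Agent.Lead.SpecSp.psp_pow_eq_one_iff (by norm_num)]
  have h1 : Cfsg.Agent.S0246.negOne 4 F = 1 := by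
    apply Subtype.ext
    change (-1 : Matrix (Fin 4 ⊕ Fin 4) (Fin 4 ⊕ Fin 4) F) = 1
    rw [CharTwo.neg_eq]
  rw [h1, or_self]

omit hab [Fintype F] [CharP F 2] in
theorem toSpGLHom_injective : Function.Injective (Cfsg.Agent.S0270.toSpGLHom 4 F) := by
  intro A B h
  apply Subtype.ext
  exact congrArg (fun g : ↥(Cfsg.spGL 4 F) =>
    ((g : GL (Fin 4 ⊕ Fin 4) F) : Matrix (Fin 4 ⊕ Fin 4) (Fin 4 ⊕ Fin 4) F)) h

/-- the orthogonal group embeds in the symplectic group -/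
theorem exists_psp_of_orth (y : ↥(Cfsg.isometryGroup F (Cfsg.quadFormMinus 3 F a b))) :
    ∃ x : Cfsg.PSp 4 F, orderOf x = orderOf y := by
  classical
  have hnd := minus_nondeg a b hab
  have hfin : finrank F (((Fin 3 ⊕ Fin 3) ⊕ Fin 2) → F) = 2 * 4 := by rw [finrank_minus]
  obtain ⟨ψ, hψ⟩ := Cfsg.Agent.Helper7.QF2.exists_symp_coords (d := 4) hfin
    (minusForm F 3 a b) hnd
  have hy : ∀ v, minusForm F 3 a b (((y : GL ((Fin 3 ⊕ Fin 3) ⊕ Fin 2) F) :
      Matrix ((Fin 3 ⊕ Fin 3) ⊕ Fin 2) ((Fin 3 ⊕ Fin 3) ⊕ Fin 2) F) *ᵥ v)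
        = minusForm F 3 a b v := by
    have h1 := (Cfsg.Agent.Helper7.QF2.mem_isometryGroup_iff' _ _).mp y.2
    intro v
    rw [minusForm_apply, minusForm_apply]
    exact h1 v
  set g' : GL (Fin 4 ⊕ Fin 4) F :=
    Cfsg.Agent.Helper7.QF2.glCongr ψ.symm (y : GL ((Fin 3 ⊕ Fin 3) ⊕ Fin 2) F) with hg'
  have hmem : g' ∈ Cfsg.spGL 4 F := by
    rw [Cfsg.Agent.Helper7.SpSub.mem_spGL_iff']
    intro u v
    rw [← hψ, ← hψ, hg', Cfsg.Agent.Helper7.QF2.glCongr_mulVec,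
      Cfsg.Agent.Helper7.QF2.glCongr_mulVec]
    simp only [LinearEquiv.symm_symm, LinearEquiv.apply_symm_apply]
    unfold QuadraticMap.polar
    rw [← Matrix.mulVec_add, hy, hy, hy]
  obtain ⟨A, hA⟩ := Cfsg.Agent.S0270.toSpGLHom_surjective ⟨g', hmem⟩
  refine ⟨QuotientGroup.mk A, ?_⟩
  rw [orderOf_mk_psp, ← orderOf_injective (Cfsg.Agent.S0270.toSpGLHom 4 F) toSpGLHom_injective A,
    hA, Subgroup.orderOf_mk, hg', MulEquiv.orderOf_eq, Subgroup.orderOf_coe]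

/-- **the element orders of `Sp_8(q)` and `O_8^-(q)` coincide** -/
theorem range_orderOf_eq :
    Set.range (orderOf : Cfsg.PSp 4 F → ℕ)
      = Set.range (orderOf : ↥(Cfsg.isometryGroup F (Cfsg.quadFormMinus 3 F a b)) → ℕ) := by
  apply Set.Subset.antisymm
  · rintro n ⟨x, rfl⟩
    obtain ⟨g, rfl⟩ := QuotientGroup.mk_surjective x
    rw [orderOf_mk_psp]
    obtain ⟨t, ht, hg⟩ := exists_sig_pow_eq_one g
    obtain ⟨y, hy⟩ := exists_orth_of_sig a b hab t ht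
    have h1 : orderOf g ∣ orderOf y := (orderOf_dvd_of_pow_eq_one hg).trans hy
    exact ⟨y ^ (orderOf y / orderOf g),
      orderOf_pow_orderOf_div (orderOf_pos y).ne' h1⟩
  · rintro n ⟨y, rfl⟩
    obtain ⟨x, hx⟩ := exists_psp_of_orth a b hab y
    exact ⟨x, hx⟩

end Cfsg.Agent.Helper8.SpO8
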