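import Mathlib
import Cfsg.Agent.Helper8.SpO8C
set_option autoImplicit false

/-!
Geometric sums of matrices with self-reciprocal minimal polynomial: if `M - 1` is invertible, or
if the minimal polynomial has degree at most `7`, then `1 + M + ⋯ + M^(T-1) = 0` for the value `T`
of one of the twelve signatures.
-/

namespace Cfsg.Agent.Helper8.SpO8

open Polynomial Module

section degree

variable {F : Type*} [Field F] {V : Type*} [AddCommGroup V] [Module F V] [FiniteDimensional F V]

/-- the minimal polynomial of `f` has degree at most `rank (f - 1) + 1` -/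
theorem natDegree_minpoly_le_rank_succ (f : Module.End F V) :
    (minpoly F f).natDegree ≤ finrank F (LinearMap.range (f - 1)) + 1 := by
  set R := LinearMap.range (f - 1) with hR
  have hinv : ∀ x ∈ R, f x ∈ R := by
    rintro _ ⟨v, rfl⟩
    refine ⟨f v, ?_⟩
    simp only [LinearMap.sub_apply, Module.End.one_apply, map_sub]
  set h : Module.End F R := f.restrict hinv with hh
  have hcoe : ∀ r : R, ((h r : R) : V) = f r := fun r => LinearMap.coe_restrict_apply hinv r
  have hμh : (minpoly F h).natDegree ≤ finrank F R := by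
    calc (minpoly F h).natDegree ≤ h.charpoly.natDegree :=
          natDegree_le_of_dvd (LinearMap.minpoly_dvd_charpoly h) (LinearMap.charpoly_monic h).ne_zero
      _ = finrank F R := LinearMap.charpoly_natDegree h
  have hpow : ∀ (n : ℕ) (r : R), (f ^ n) (r : V) = (((h ^ n) r : R) : V) := by
    intro n
    induction n with
    | zero => intro r; rfl
    | succ n ih =>
      intro r
      rw [pow_succ, pow_succ, Module.End.mul_apply, Module.End.mul_apply, ← ih, hcoe]
  have key : ∀ (p : F[X]) (r : R), aeval f p (r : V) = (((aeval h p) r : R) : V) := by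
    intro p r
    rw [aeval_eq_sum_range, aeval_eq_sum_range, LinearMap.sum_apply, LinearMap.sum_apply,
      Submodule.coe_sum]
    apply Finset.sum_congr rfl
    intro i _
    rw [LinearMap.smul_apply, LinearMap.smul_apply, Submodule.coe_smul, hpow]
  have hann : aeval f (minpoly F h * (X - C 1)) = 0 := by
    apply LinearMap.ext
    intro v
    rw [map_mul, Module.End.mul_apply]
    have h1 : aeval f (X - C 1 : F[X]) v = ((⟨(f - 1) v, LinearMap.mem_range_self _ v⟩ : R) : V) := by
      simp only [map_sub, aeval_X, map_one, LinearMap.sub_apply, Module.End.one_apply]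
    rw [h1, key, minpoly.aeval]
    rfl
  have hint : IsIntegral F h := Algebra.IsIntegral.isIntegral h
  have hne : minpoly F h * (X - C 1) ≠ 0 := mul_ne_zero (minpoly.ne_zero hint) (X_sub_C_ne_zero 1)
  calc (minpoly F f).natDegree ≤ (minpoly F h * (X - C 1)).natDegree :=
        natDegree_le_of_dvd (minpoly.dvd F f hann) hne
    _ = (minpoly F h).natDegree + 1 := by
        rw [natDegree_mul (minpoly.ne_zero hint) (X_sub_C_ne_zero 1), natDegree_X_sub_C]
    _ ≤ finrank F R + 1 := by omega

/-- matrix version -/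
theorem natDegree_minpoly_le_rank_succ' {ι : Type*} [Fintype ι] [DecidableEq ι]
    (M : Matrix ι ι F) : (minpoly F M).natDegree ≤ (M - 1).rank + 1 := by
  have h := natDegree_minpoly_le_rank_succ (Matrix.toLin' M)
  rw [Matrix.minpoly_toLin'] at h
  have e : Matrix.toLin' M - 1 = (M - 1).mulVecLin := by
    rw [← Matrix.toLin'_apply', map_sub, Matrix.toLin'_one]
    rfl
  rw [e] at h
  exact h

end degree

section geom

variable {F : Type*} [Field F] [Fintype F] {ι : Type*} [Fintype ι] [DecidableEq ι]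

omit [Fintype F] in
theorem geom_sum_eq_zero_of_unit (M : Matrix ι ι F) (hu : IsUnit (M - 1)) (T : ℕ)
    (hT : M ^ T = 1) : ∑ i ∈ Finset.range T, M ^ i = 0 := by
  have h := geom_sum_mul M T
  rw [hT, sub_self] at h
  exact (hu.mul_left_eq_zero).mp h

omit [Fintype F] in
theorem reverse_X_sub_one : (X - C (1 : F) : F[X]).reverse = -(X - C (1 : F)) := by
  have h1 : (X : F[X]).reverse = 1 := by
    have := Polynomial.reverse_mul_X (1 : F[X])
    rw [one_mul] at this
    rw [this]
    exact (Polynomial.reverse_C (1 : F))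
  have h2 : (X - C (1 : F) : F[X]) = X + C (-1 : F) := by
    rw [C_neg, sub_eq_add_neg]
  rw [h2, Polynomial.reverse_add_C, h1, natDegree_X, pow_one, C_neg, C_1]
  ring

/-- a matrix of finite order with self-reciprocal minimal polynomial of degree at most `7` -/
theorem exists_sig_geom [CharP F 2] (M : Matrix ι ι F) (a : ℕ) (ha : 0 < a) (hMa : M ^ a = 1)
    (hsr : minpoly F M ∣ (minpoly F M).reverse) (hdeg : (minpoly F M).natDegree ≤ 7) :
    ∃ t ∈ Llist, M ^ (t.val (Fintype.card F)) = 1 ∧
      ∑ i ∈ Finset.range (t.val (Fintype.card F)), M ^ i = 0 := by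
  set μ := minpoly F M with hμ
  have hint : IsIntegral F M := Algebra.IsIntegral.isIntegral M
  have hμ0 : μ ≠ 0 := minpoly.ne_zero hint
  have hμdvd : μ ∣ X ^ a - 1 :=
    minpoly.dvd F _ (by rw [Cfsg.Agent.Lead.SpecSp.aeval_X_pow_sub_one_eq, hMa, sub_self])
  have hc0 : μ.coeff 0 ≠ 0 := Cfsg.Agent.Helper8.SpG.coeff_zero_ne_of_dvd μ a ha hμdvd
  set ν : F[X] := (X - C 1) * μ with hν
  have hX1 : (X - C (1 : F) : F[X]) ≠ 0 := X_sub_C_ne_zero 1
  have hν0 : ν ≠ 0 := mul_ne_zero hX1 hμ0
  have hνc0 : ν.coeff 0 ≠ 0 := by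
    rw [hν, mul_coeff_zero, coeff_sub, coeff_X_zero, coeff_C_zero, zero_sub]
    exact mul_ne_zero (neg_ne_zero.mpr one_ne_zero) hc0
  have hνsr : ν ∣ ν.reverse := by
    rw [hν, Polynomial.reverse_mul_of_domain, reverse_X_sub_one, neg_mul]
    exact (dvd_neg).mpr (mul_dvd_mul_left _ hsr)
  have hνdeg : ν.natDegree ≤ 8 := by
    rw [hν, natDegree_mul hX1 hμ0, natDegree_X_sub_C]
    omega
  obtain ⟨l, hlv, hls, hlN⟩ := exists_blocks ν.natDegree ν rfl hν0 hνc0 hνsr
  obtain ⟨t, ht, hall⟩ := comb l hlv (by rw [hls]; exact hνdeg)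
  refine ⟨t, ht, ?_⟩
  have hq : 1 ≤ Fintype.card F := Fintype.card_pos
  have h1 : ν ∣ X ^ (t.val (Fintype.card F)) - 1 := by
    apply hlN
    intro x hx
    have hxd : x.deg ≤ 8 := by
      have : x.deg ≤ (l.map Base.deg).sum :=
        List.single_le_sum (fun _ _ => Nat.zero_le _) _ (List.mem_map_of_mem hx)
      omega
    exact (val_dvd_sig _ hq x (hlv x hx) hxd).trans (Sig.le_val _ (hall x hx))
  constructor
  · have h2 : aeval M (X ^ (t.val (Fintype.card F)) - 1 : F[X]) = 0 := by
      obtain ⟨c, hc⟩ := (Dvd.intro_left _ rfl : μ ∣ ν).trans h1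
      rw [hc, map_mul, minpoly.aeval, zero_mul]
    rw [Cfsg.Agent.Lead.SpecSp.aeval_X_pow_sub_one_eq, sub_eq_zero] at h2
    exact h2
  · have h3 : (X ^ (t.val (Fintype.card F)) - 1 : F[X])
        = (∑ i ∈ Finset.range (t.val (Fintype.card F)), (X : F[X]) ^ i) * (X - C 1) := by
      rw [C_1, geom_sum_mul]
    rw [h3, hν, mul_comm (X - C 1) μ] at h1
    have h4 : μ ∣ ∑ i ∈ Finset.range (t.val (Fintype.card F)), (X : F[X]) ^ i :=
      (mul_dvd_mul_iff_right hX1).mp h1
    obtain ⟨c, hc⟩ := h4
    have h5 := congrArg (aeval M) hc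
    rw [map_mul, minpoly.aeval, zero_mul, map_sum] at h5
    simp only [map_pow, aeval_X] at h5
    exact h5

end geom

end Cfsg.Agent.Helper8.SpO8
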