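import Mathlib
set_option autoImplicit false

/-!
The semidirect product of a space of rectangular matrices by a group acting through a matrix
representation.
-/

namespace Cfsg.Agent.Helper8.SpO8

universe v w

/-- pairs `(w, g)` with `(w, g) (w', g') = (w + ρ g * w', g g')` -/
@[ext]
structure AffM {F : Type v} [Field F] {n : Type} [Fintype n] [DecidableEq n] {G : Type w}
    [Group G] (ρ : G →* Matrix n n F) (k : ℕ) where
  w : Matrix n (Fin k) F
  g : G

namespace AffM

variable {F : Type v} [Field F] {n : Type} [Fintype n] [DecidableEq n] {G : Type w}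
  [Group G] (ρ : G →* Matrix n n F) (k : ℕ)

instance : Mul (AffM ρ k) := ⟨fun a b => ⟨a.w + ρ a.g * b.w, a.g * b.g⟩⟩
instance : One (AffM ρ k) := ⟨⟨0, 1⟩⟩
instance : Inv (AffM ρ k) := ⟨fun a => ⟨-(ρ a.g⁻¹ * a.w), a.g⁻¹⟩⟩

variable {ρ k}

theorem mul_w (a b : AffM ρ k) : (a * b).w = a.w + ρ a.g * b.w := rfl
theorem mul_g (a b : AffM ρ k) : (a * b).g = a.g * b.g := rfl
theorem one_w : (1 : AffM ρ k).w = 0 := rfl
theorem one_g : (1 : AffM ρ k).g = 1 := rfl
theorem inv_w (a : AffM ρ k) : (a⁻¹).w = -(ρ a.g⁻¹ * a.w) := rfl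
theorem inv_g (a : AffM ρ k) : (a⁻¹).g = a.g⁻¹ := rfl

instance : Group (AffM ρ k) :=
  Group.ofLeftAxioms
    (by
      intro a b c
      apply AffM.ext
      · simp only [mul_w, mul_g, map_mul, Matrix.mul_add, Matrix.mul_assoc, add_assoc]
      · simp only [mul_g, mul_assoc])
    (by
      intro a
      apply AffM.ext
      · simp only [mul_w, one_w, one_g, map_one, Matrix.one_mul, zero_add]
      · simp only [mul_g, one_g, one_mul])
    (by
      intro a
      apply AffM.ext
      · simp only [mul_w, inv_w, inv_g, one_w, neg_add_cancel]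
      · simp only [mul_g, inv_g, one_g, inv_mul_cancel])

theorem pow_g (a : AffM ρ k) (m : ℕ) : (a ^ m).g = a.g ^ m := by
  induction m with
  | zero => rw [pow_zero, pow_zero]; rfl
  | succ m ih => rw [pow_succ, pow_succ, mul_g, ih]

theorem pow_w (a : AffM ρ k) (m : ℕ) :
    (a ^ m).w = (∑ i ∈ Finset.range m, ρ a.g ^ i) * a.w := by
  induction m with
  | zero =>
    rw [Finset.range_zero, Finset.sum_empty, Matrix.zero_mul, pow_zero]
    rfl
  | succ m ih =>
    rw [pow_succ, mul_w, ih, pow_g, map_pow, Finset.sum_range_succ, Matrix.add_mul]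

theorem pow_eq_one_iff (a : AffM ρ k) (m : ℕ) :
    a ^ m = 1 ↔ a.g ^ m = 1 ∧ (∑ i ∈ Finset.range m, ρ a.g ^ i) * a.w = 0 := by
  constructor
  · intro h
    constructor
    · rw [← pow_g, h]; rfl
    · rw [← pow_w, h]; rfl
  · rintro ⟨h1, h2⟩
    apply AffM.ext
    · rw [pow_w, h2]; rfl
    · rw [pow_g, h1]; rfl

/-- the underlying product -/
def equivProd : AffM ρ k ≃ Matrix n (Fin k) F × G where
  toFun a := (a.w, a.g)
  invFun p := ⟨p.1, p.2⟩
  left_inv _ := rfl
  right_inv _ := rfl

noncomputable instance [Fintype F] [Fintype G] : Fintype (AffM ρ k) := by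
  classical
  exact Fintype.ofEquiv _ (equivProd (ρ := ρ) (k := k)).symm

theorem lt_card [Fintype F] [Fintype G] [Nonempty n] : k < Nat.card (AffM ρ k) := by
  classical
  rw [Nat.card_congr (equivProd (ρ := ρ) (k := k)), Nat.card_prod]
  have h1 : k < Nat.card (Fin k → F) := by
    rw [Nat.card_fun, Nat.card_eq_fintype_card, Nat.card_eq_fintype_card, Fintype.card_fin]
    calc k < 2 ^ k := Nat.lt_two_pow_self
      _ ≤ Fintype.card F ^ k := Nat.pow_le_pow_left Fintype.one_lt_card k
  have h2 : 0 < Nat.card G := Nat.card_pos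
  have h3 : Nat.card (Fin k → F) ≤ Nat.card (Matrix n (Fin k) F) := by
    obtain ⟨i₀⟩ := ‹Nonempty n›
    exact Nat.card_le_card_of_injective (fun (r : Fin k → F) => (fun _ => r : Matrix n (Fin k) F))
      (fun r r' h => congrFun h i₀)
  calc k < Nat.card (Fin k → F) := h1
    _ ≤ Nat.card (Matrix n (Fin k) F) := h3
    _ = Nat.card (Matrix n (Fin k) F) * 1 := (mul_one _).symm
    _ ≤ Nat.card (Matrix n (Fin k) F) * Nat.card G := Nat.mul_le_mul_left _ h2

end AffM

/-- a copy of `Fin N` without algebraic structure -/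
structure FinCopy (N : ℕ) where
  val : Fin N

def FinCopy.equiv (N : ℕ) : FinCopy N ≃ Fin N where
  toFun := FinCopy.val
  invFun := FinCopy.mk
  left_inv _ := rfl
  right_inv _ := rfl

instance (N : ℕ) : Fintype (FinCopy N) := Fintype.ofEquiv _ (FinCopy.equiv N).symm

theorem FinCopy.card (N : ℕ) : Fintype.card (FinCopy N) = N := by
  rw [Fintype.card_congr (FinCopy.equiv N), Fintype.card_fin]

/-- a finite group has a copy in the lowest universe -/
theorem exists_type_zero_copy (A : Type*) [Group A] [Finite A] :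
    ∃ (H : Type) (_ : Group H) (_ : Fintype H), Fintype.card H = Nat.card A ∧
      Nonempty (H ≃* A) := by
  let e : FinCopy (Nat.card A) ≃ A := (FinCopy.equiv (Nat.card A)).trans (Finite.equivFin A).symm
  exact ⟨FinCopy (Nat.card A), e.group, inferInstance, FinCopy.card _, ⟨e.mulEquiv⟩⟩

end Cfsg.Agent.Helper8.SpO8
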