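import Mathlib
import Cfsg.Agent.Helper8.SpO8I
import Cfsg.Agent.Helper8.Dickson
set_option autoImplicit false

/-!
Isometries in the kernel of the Dickson invariant (characteristic two), with a vector on which
the norm `1 + g + ⋯ + g^(n-1)` does not vanish.
-/

namespace Cfsg.Agent.Helper8.SpO8

open Module
open Cfsg.Agent.Helper8.QuadForm Cfsg.Agent.Helper8.OrT Cfsg.Agent.Helper8.StdForms
  Cfsg.Agent.Helper8.OrthOrder Cfsg.Agent.Helper8.Dickson

universe v

section res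

variable {F : Type*} [Field F] {V₁ V₂ : Type*} [AddCommGroup V₁] [Module F V₁]
  [AddCommGroup V₂] [Module F V₂]

/-- a product of submodules as a product type -/
def prodSubEquiv (p : Submodule F V₁) (q : Submodule F V₂) : ↥(p.prod q) ≃ₗ[F] (↥p × ↥q) where
  toFun x := (⟨x.1.1, x.2.1⟩, ⟨x.1.2, x.2.2⟩)
  invFun y := ⟨(y.1.1, y.2.1), ⟨y.1.2, y.2.2⟩⟩
  left_inv _ := rfl
  right_inv _ := rfl
  map_add' _ _ := rfl
  map_smul' _ _ := rfl

theorem finrank_prod_sub [FiniteDimensional F V₁] [FiniteDimensional F V₂] (p : Submodule F V₁)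
    (q : Submodule F V₂) : finrank F ↥(p.prod q) = finrank F ↥p + finrank F ↥q := by
  rw [(prodSubEquiv p q).finrank_eq, Module.finrank_prod]

theorem res_prodCongr [FiniteDimensional F V₁] [FiniteDimensional F V₂] (g₁ : V₁ ≃ₗ[F] V₁)
    (g₂ : V₂ ≃ₗ[F] V₂) : res (LinearEquiv.prodCongr g₁ g₂) = res g₁ + res g₂ := by
  unfold res
  have e : ((LinearEquiv.prodCongr g₁ g₂ : (V₁ × V₂) ≃ₗ[F] (V₁ × V₂)) : (V₁ × V₂) →ₗ[F] (V₁ × V₂))
      - LinearMap.id
      = LinearMap.prodMap ((g₁ : V₁ →ₗ[F] V₁) - LinearMap.id) ((g₂ : V₂ →ₗ[F] V₂) - LinearMap.id) := by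
    apply LinearMap.ext
    intro x
    rfl
  rw [e, LinearMap.range_prodMap, finrank_prod_sub]

end res

section parity

variable {F : Type*} [Field F] {V : Type*} [AddCommGroup V] [Module F V] [FiniteDimensional F V]

theorem even_res_iff (h2 : (2 : F) = 0) (Q : QuadraticForm F V)
    (hQ : LinearMap.BilinForm.Nondegenerate (QuadraticMap.polarBilin Q)) (g : ↥(Isom Q)) :
    Even (res (g : V ≃ₗ[F] V)) ↔ dickson h2 Q hQ g = 1 := by
  rw [dickson_apply]
  have hne : (-1 : ℤˣ) ≠ 1 := by decide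
  rw [neg_one_pow_eq_one_iff_even hne]

theorem even_res_of_odd (h2 : (2 : F) = 0) (Q : QuadraticForm F V) (hnd : Nondeg Q)
    (g : V ≃ₗ[F] V) (hg : ∀ v, Q (g v) = Q v) (n : ℕ) (hn : Odd n) (hgn : g ^ n = 1) :
    Even (res g) := by
  have hQ := (nondeg_iff Q).mpr hnd
  have h1 := (even_res_iff h2 Q hQ ⟨g, hg⟩)
  rw [h1]
  have h3 : (dickson h2 Q hQ ⟨g, hg⟩) ^ n = 1 := by
    rw [← map_pow]
    have : (⟨g, hg⟩ : ↥(Isom Q)) ^ n = 1 := Subtype.ext hgn
    rw [this, map_one]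
  rcases Int.units_eq_one_or (dickson h2 Q hQ ⟨g, hg⟩) with h | h
  · exact h
  · rw [h, hn.neg_one_pow] at h3
    exact absurd h3 (by decide)

theorem even_res_sq (h2 : (2 : F) = 0) (Q : QuadraticForm F V) (hnd : Nondeg Q)
    (g : V ≃ₗ[F] V) (hg : ∀ v, Q (g v) = Q v) : Even (res (g * g)) := by
  have hQ := (nondeg_iff Q).mpr hnd
  have hgg : g * g ∈ Isom Q := (Isom Q).mul_mem hg hg
  have h1 := (even_res_iff h2 Q hQ ⟨g * g, hgg⟩)
  rw [h1]
  have : (⟨g * g, hgg⟩ : ↥(Isom Q)) = ⟨g, hg⟩ * ⟨g, hg⟩ := rfl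
  rw [this, map_mul, Int.units_mul_self]

end parity

section hasEv

variable {F : Type v} [Field F] [Fintype F]

/-- a quadratic space of type `s` and dimension `2(k+1)` with an isometry `g` of order `n` such
that `g - 1` has even rank; if `b` holds, also a vector on which `1 + g + ⋯ + g^(n-1)` does not
vanish -/
def HasEv (F : Type v) [Field F] [Fintype F] (s : ℤ) (k n : ℕ) (b : Prop) : Prop :=
  ∃ (V : Type v) (_ : AddCommGroup V) (_ : Module F V) (_ : FiniteDimensional F V)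
    (Q : QuadraticForm F V), Nondeg Q ∧ finrank F V = 2 * (k + 1) ∧ NuS s Q k ∧
    ∃ g : V ≃ₗ[F] V, (∀ v, Q (g v) = Q v) ∧ orderOf g = n ∧ Even (res g) ∧
      (b → ∃ a : V, ∑ i ∈ Finset.range n, (g ^ i) a ≠ 0)

/-- the same without the parity condition, with the vector -/
def HasN (F : Type v) [Field F] [Fintype F] (s : ℤ) (k n : ℕ) : Prop :=
  ∃ (V : Type v) (_ : AddCommGroup V) (_ : Module F V) (_ : FiniteDimensional F V)
    (Q : QuadraticForm F V), Nondeg Q ∧ finrank F V = 2 * (k + 1) ∧ NuS s Q k ∧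
    ∃ g : V ≃ₗ[F] V, (∀ v, Q (g v) = Q v) ∧ orderOf g = n ∧
      ∃ a : V, ∑ i ∈ Finset.range n, (g ^ i) a ≠ 0

theorem HasElt.toEv [CharP F 2] {s : ℤ} {k n : ℕ} (h : HasElt F s k n) (hn : Odd n) :
    HasEv F s k n False := by
  obtain ⟨V, i1, i2, i3, Q, hnd, hfin, hnu, g, hg, ho⟩ := h
  refine ⟨V, i1, i2, i3, Q, hnd, hfin, hnu, g, hg, ho, ?_, fun hf => hf.elim⟩
  exact even_res_of_odd CharTwo.two_eq_zero Q hnd g hg n hn (by rw [← ho]; exact pow_orderOf_eq_one g)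

theorem HasSp.evOne {s : ℤ} {k : ℕ} (h : HasSp F s k) : HasEv F s k 1 True := by
  obtain ⟨V, i1, i2, i3, Q, hnd, hfin, hnu⟩ := h
  refine ⟨V, i1, i2, i3, Q, hnd, hfin, hnu, 1, fun v => rfl, orderOf_one, ?_, fun _ => ?_⟩
  · rw [res_one]
    exact Even.zero
  · have hpos : 0 < finrank F V := by rw [hfin]; omega
    obtain ⟨a, ha⟩ := Module.finrank_pos_iff_exists_ne_zero.mp hpos
    refine ⟨a, ?_⟩
    rw [Finset.sum_range_one, pow_zero]
    exact ha

theorem HasElt.evTwo [CharP F 2] {s : ℤ} {k : ℕ} (h : HasElt F s k 4) : HasEv F s k 2 True := by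
  obtain ⟨V, i1, i2, i3, Q, hnd, hfin, hnu, g, hg, ho⟩ := h
  have hgg : ∀ v, Q ((g * g) v) = Q v := fun v => by rw [LinearEquiv.mul_apply, hg, hg]
  have ho2 : orderOf (g * g) = 2 := by
    rw [← pow_two, orderOf_pow_of_dvd (by norm_num) (by rw [ho]; norm_num), ho]
  refine ⟨V, i1, i2, i3, Q, hnd, hfin, hnu, g * g, hgg, ho2,
    even_res_sq CharTwo.two_eq_zero Q hnd g hg, fun _ => ?_⟩
  have hne : g * g ≠ 1 := by
    intro h1
    rw [h1, orderOf_one] at ho2
    omega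
  obtain ⟨a, ha⟩ : ∃ a, (g * g) a ≠ a := by
    by_contra hcon
    apply hne
    apply LinearEquiv.ext
    intro a
    by_contra h3
    exact hcon ⟨a, h3⟩
  refine ⟨a, ?_⟩
  rw [Finset.sum_range_succ, Finset.sum_range_one, pow_zero, pow_one]
  intro h0
  apply ha
  have h4 : (g * g) a = -((1 : V ≃ₗ[F] V) a) := by
    rw [eq_neg_iff_add_eq_zero, add_comm]
    exact h0
  rw [h4, LinearEquiv.coe_one, id_eq, neg_eq_iff_add_eq_zero]
  exact add_self_zero' F a

end hasEv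

end Cfsg.Agent.Helper8.SpO8
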