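import Mathlib
import Cfsg.Agent.Helper8.SpO8M
set_option autoImplicit false

/-!
Isometries of order four in the kernel of the Dickson invariant with nonvanishing norm, and
orthogonal sums.
-/

namespace Cfsg.Agent.Helper8.SpO8

open Module
open Cfsg.Agent.Helper8.QuadForm Cfsg.Agent.Helper8.OrT Cfsg.Agent.Helper8.StdForms
  Cfsg.Agent.Helper8.OrthOrder Cfsg.Agent.Helper8.Dickson Cfsg.Agent.Helper8.Reflections

universe v

variable {F : Type v} [Field F] [Fintype F]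

/-- an isometry of order four of a space of dimension four with nonvanishing norm -/
theorem HasSp.hasN_four [CharP F 2] {s : ℤ} (h : HasSp F s 0) : HasN F s 1 4 := by
  obtain ⟨P, _, _, _, Q, hnd, hfin, hnu⟩ := h
  obtain ⟨v, hv⟩ := exists_repr Q hnd (by rw [hfin]) 1
  have hv0 : Q v ≠ 0 := by rw [hv]; exact one_ne_zero
  have hvne : v ≠ 0 := by
    rintro rfl
    exact hv0 (QuadraticMap.map_zero Q)
  obtain ⟨a, ha⟩ : ∃ a, QuadraticMap.polar Q a v ≠ 0 := by
    by_contra hcon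
    have hcon' : ∀ w, QuadraticMap.polar Q w v = 0 := fun w => by_contra (fun h => hcon ⟨w, h⟩)
    exact hvne (hnd v (fun w => by rw [QuadraticMap.polar_comm]; exact hcon' w))
  set β := QuadraticMap.polar Q a v with hβ
  obtain ⟨r, hriso, hr⟩ := Cfsg.Agent.Helper8.WittQuad.exists_reflection Q hnd hv0
  have hr' : ∀ x, r x = x - QuadraticMap.polar Q x v • v := by
    intro x
    rw [hr, hv, div_one]
  have h2 : (2 : F) = 0 := CharTwo.two_eq_zero
  have hvv : QuadraticMap.polar Q v v = 0 := by rw [polar_self', h2, zero_mul]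
  have haa : QuadraticMap.polar Q a a = 0 := by rw [polar_self', h2, zero_mul]
  have hrr : ∀ x, r (r x) = x := by
    intro x
    rw [hr' (r x), hr' x, QuadraticMap.polar_sub_left, QuadraticMap.polar_smul_left, hvv,
      smul_zero, sub_zero, sub_sub, add_self_zero' F, sub_zero]
  have hr2 : r ^ 2 = 1 := by
    apply LinearEquiv.ext
    intro x
    rw [pow_two, LinearEquiv.mul_apply, hrr]
    rfl
  have hra : r a = a - β • v := hr' a
  have hβv : β • v ≠ 0 := smul_ne_zero ha hvne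
  have hS1 : ∑ l ∈ Finset.range (2 ^ 1), (r ^ l) a ≠ 0 := by
    simp only [pow_one, Finset.sum_range_succ, Finset.sum_range_zero, zero_add, pow_zero,
      LinearEquiv.coe_one, id_eq]
    rw [hra]
    intro h
    apply hβv
    have e : a + (a - β • v) = (a + a) - β • v := by abel
    rw [e, add_self_zero' F, zero_sub, neg_eq_zero] at h
    exact h
  obtain ⟨hnd1, hfin1, hnu1, x₁, hx1iso, hx1, hx1ord⟩ :=
    lift_step Q hnd hfin hnu r hriso a 1 (by rw [pow_one]; exact hr2) hS1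
  have hpar : QuadraticMap.polar Q a (r a) = -(β * β) := by
    rw [hra, QuadraticMap.polar_sub_right, QuadraticMap.polar_smul_right, haa, zero_sub,
      smul_eq_mul]
  have hparne : QuadraticMap.polar Q a (r a) ≠ 0 := by
    rw [hpar, neg_ne_zero]
    exact mul_ne_zero ha ha
  set a₂ : (F × F) × P := ((0, 1), 0) with ha₂
  have e1 : x₁ a₂ = ((Q a, 1), a) := by
    rw [hx1, ha₂]
    simp only [map_zero, QuadraticMap.polar_zero_right, zero_add, add_zero, one_mul, one_smul]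
  have e2 : x₁ (x₁ a₂) = ((QuadraticMap.polar Q a (r a), 1), r a + a) := by
    rw [e1, hx1]
    simp only [one_mul, one_smul]
    refine Prod.ext (Prod.ext ?_ rfl) rfl
    simp only []
    linear_combination Q a * h2
  have e3 : x₁ (x₁ (x₁ a₂)) = ((Q a, 1), r a) := by
    rw [e2, hx1]
    simp only [one_mul, one_smul]
    refine Prod.ext (Prod.ext ?_ rfl) ?_
    · simp only []
      rw [map_add, hrr, QuadraticMap.polar_add_right, haa]
      linear_combination QuadraticMap.polar Q a (r a) * h2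
    · simp only []
      rw [map_add, hrr]
      have e : a + r a + a = r a + (a + a) := by abel
      rw [e, add_self_zero' F, add_zero]
  have hS2 : ∑ l ∈ Finset.range 4, (x₁ ^ l) a₂ ≠ 0 := by
    have p2 : (x₁ ^ 2) a₂ = x₁ (x₁ a₂) := by rw [pow_two, LinearEquiv.mul_apply]
    have p3 : (x₁ ^ 3) a₂ = x₁ (x₁ (x₁ a₂)) := by
      rw [pow_succ', LinearEquiv.mul_apply, p2]
    simp only [Finset.sum_range_succ, Finset.sum_range_zero, zero_add, pow_zero, pow_one,
      LinearEquiv.coe_one, id_eq]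
    rw [p2, p3, e3, e2, e1]
    intro h
    have h' := congrArg (fun z : (F × F) × P => z.1.1) h
    simp only [ha₂, Prod.fst_add, Prod.fst_zero, zero_add] at h'
    apply hparne
    linear_combination h' - Q a * h2
  exact ⟨(F × F) × P, inferInstance, inferInstance, inferInstance, (hypF F).prod Q, hnd1, hfin1,
    hnu1, x₁, hx1iso, hx1ord.trans (by norm_num), a₂, hS2⟩

section sums

variable {V : Type*} [AddCommGroup V] [Module F V]

omit [Fintype F] in
theorem sum_range_mul_pow (g : V ≃ₗ[F] V) (n m : ℕ) (hg : g ^ n = 1) (a : V) :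
    ∑ i ∈ Finset.range (n * m), (g ^ i) a = m • ∑ i ∈ Finset.range n, (g ^ i) a := by
  induction m with
  | zero => simp
  | succ m ih =>
    rw [Nat.mul_succ, Finset.sum_range_add, ih, succ_nsmul]
    congr 1
    apply Finset.sum_congr rfl
    intro i _
    rw [pow_add, pow_mul, hg, one_pow, one_mul]

end sums

omit [Fintype F] in
theorem odd_nsmul' (F : Type v) [Field F] [CharP F 2] {V : Type v} [AddCommGroup V] [Module F V] {m : ℕ} (hm : Odd m)
    (x : V) : m • x = x := by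
  obtain ⟨j, rfl⟩ := hm
  rw [add_nsmul, one_nsmul, mul_nsmul, two_nsmul, add_self_zero' F, nsmul_zero, zero_add]

/-- adjusting the parity by a reflection of an orthogonal plane -/
theorem HasN.fix [CharP F 2] {s₁ s₂ : ℤ} {k n : ℕ} (h₁ : HasN F s₁ k n) (hn : Even n)
    (h₂ : HasSp F s₂ 0) : HasEv F (s₁ * s₂) (k + 0 + 1) n True := by
  obtain ⟨V₁, _, _, _, Q₁, hnd₁, hfin₁, hnu₁, g, hg, ho, a, ha⟩ := h₁
  obtain ⟨V₂, _, _, _, Q₂, hnd₂, hfin₂, hnu₂⟩ := h₂
  obtain ⟨c, hc, hco, hcres⟩ : ∃ c : V₂ ≃ₗ[F] V₂, (∀ v, Q₂ (c v) = Q₂ v) ∧ orderOf c ∣ 2 ∧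
      Even (res g + res c) := by
    rcases Nat.even_or_odd (res g) with he | hodd
    · exact ⟨1, fun v => rfl, by rw [orderOf_one]; exact one_dvd _,
        by rw [res_one, add_zero]; exact he⟩
    · obtain ⟨z, hz⟩ := exists_repr Q₂ hnd₂ (by rw [hfin₂]) 1
      have hz0 : Q₂ z ≠ 0 := by rw [hz]; exact one_ne_zero
      refine ⟨refl Q₂ z, refl_mem Q₂ z, ?_, ?_⟩
      · apply orderOf_dvd_of_pow_eq_one
        rw [pow_two, refl_mul_self]
      · rw [res_refl Q₂ ((nondeg_iff Q₂).mpr hnd₂) hz0]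
        exact hodd.add_odd odd_one
  refine ⟨V₁ × V₂, inferInstance, inferInstance, inferInstance, Q₁.prod Q₂,
    Cfsg.Agent.Helper8.OrR.nondeg_prod _ _ hnd₁ hnd₂, ?_,
    nuS_prod k 0 hfin₁ hfin₂ Q₁ Q₂ hnd₁ hnd₂ s₁ s₂ hnu₁ hnu₂,
    LinearEquiv.prodCongr g c, ?_, ?_, ?_, fun _ => ⟨(a, 0), ?_⟩⟩
  · rw [Module.finrank_prod, hfin₁, hfin₂]
    ring
  · intro v
    rw [QuadraticMap.prod_apply, QuadraticMap.prod_apply]
    change Q₁ (g v.1) + Q₂ (c v.2) = _
    rw [hg, hc]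
  · rw [orderOf_prodCongr, ho]
    exact Nat.dvd_antisymm (Nat.lcm_dvd dvd_rfl (hco.trans hn.two_dvd)) (Nat.dvd_lcm_left _ _)
  · rw [res_prodCongr]
    exact hcres
  · intro h0
    apply ha
    have h1 := congrArg Prod.fst h0
    rw [Prod.fst_sum] at h1
    have h3 : ∑ i ∈ Finset.range n, (g ^ i) a
        = ∑ i ∈ Finset.range n, ((LinearEquiv.prodCongr g c ^ i) (a, 0)).1 := by
      apply Finset.sum_congr rfl
      intro i _
      rw [prodCongr_pow]
      rfl
    rw [h3]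
    exact h1

/-- **orthogonal sums** with an isometry of odd order -/
theorem HasEv.prod [CharP F 2] {s₁ s₂ : ℤ} {k₁ k₂ n₁ n₂ : ℕ} {b : Prop}
    (h₁ : HasEv F s₁ k₁ n₁ False) (hodd : Odd n₁) (h₂ : HasEv F s₂ k₂ n₂ b) :
    HasEv F (s₁ * s₂) (k₁ + k₂ + 1) (Nat.lcm n₁ n₂) b := by
  obtain ⟨V₁, _, _, _, Q₁, hnd₁, hfin₁, hnu₁, g₁, hg₁, ho₁, he₁, -⟩ := h₁
  obtain ⟨V₂, _, _, _, Q₂, hnd₂, hfin₂, hnu₂, g₂, hg₂, ho₂, he₂, hw₂⟩ := h₂
  refine ⟨V₁ × V₂, inferInstance, inferInstance, inferInstance, Q₁.prod Q₂,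
    Cfsg.Agent.Helper8.OrR.nondeg_prod _ _ hnd₁ hnd₂, ?_,
    nuS_prod k₁ k₂ hfin₁ hfin₂ Q₁ Q₂ hnd₁ hnd₂ s₁ s₂ hnu₁ hnu₂,
    LinearEquiv.prodCongr g₁ g₂, ?_, ?_, ?_, fun hb => ?_⟩
  · rw [Module.finrank_prod, hfin₁, hfin₂]
    ring
  · intro v
    rw [QuadraticMap.prod_apply, QuadraticMap.prod_apply]
    change Q₁ (g₁ v.1) + Q₂ (g₂ v.2) = _
    rw [hg₁, hg₂]
  · rw [orderOf_prodCongr, ho₁, ho₂]
  · rw [res_prodCongr]
    exact he₁.add he₂
  · obtain ⟨a, ha⟩ := hw₂ hb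
    have hn₂ : n₂ ≠ 0 := by
      rintro rfl
      rw [Finset.range_zero, Finset.sum_empty] at ha
      exact ha rfl
    set m := Nat.lcm n₁ n₂ / n₂ with hm
    have hlm : n₂ * m = Nat.lcm n₁ n₂ := Nat.mul_div_cancel' (Nat.dvd_lcm_right n₁ n₂)
    have hmdvd : m ∣ n₁ := by
      have h1 : n₂ * m ∣ n₂ * n₁ := by
        rw [hlm, mul_comm n₂ n₁]
        exact Nat.lcm_dvd_mul n₁ n₂
      exact Nat.dvd_of_mul_dvd_mul_left (Nat.pos_of_ne_zero hn₂) h1
    have hmodd : Odd m := by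
      obtain ⟨c, hc⟩ := hmdvd
      rw [hc] at hodd
      exact (Nat.odd_mul.mp hodd).1
    refine ⟨(0, a), ?_⟩
    intro h0
    apply ha
    have h1 := congrArg Prod.snd h0
    rw [Prod.snd_sum] at h1
    have h2 : ∑ i ∈ Finset.range (Nat.lcm n₁ n₂), (g₂ ^ i) a = 0 := by
      have h3 : ∑ i ∈ Finset.range (Nat.lcm n₁ n₂), (g₂ ^ i) a
          = ∑ i ∈ Finset.range (Nat.lcm n₁ n₂),
            ((LinearEquiv.prodCongr g₁ g₂ ^ i) ((0 : V₁), a)).2 := by
        apply Finset.sum_congr rfl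
        intro i _
        rw [prodCongr_pow]
        rfl
      rw [h3]
      exact h1
    rw [← hlm, sum_range_mul_pow g₂ n₂ m (by rw [← ho₂]; exact pow_orderOf_eq_one g₂),
      odd_nsmul' F hmodd] at h2
    exact h2

end Cfsg.Agent.Helper8.SpO8
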