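import Mathlib
import Cfsg.Agent.Helper8.SpO8N
set_option autoImplicit false

/-!
The twelve signatures in the kernel of the Dickson invariant: either an isometry of the right
order, or one of half the order with nonvanishing norm.
-/

namespace Cfsg.Agent.Helper8.SpO8

open Module
open Cfsg.Agent.Helper8.QuadForm Cfsg.Agent.Helper8.OrT Cfsg.Agent.Helper8.StdForms

universe v

section arith2

variable {u : ℕ}

theorem dvd_two_mul_of {T X n : ℕ} (hT : T = X * 2) (hX : X ∣ n) : T ∣ 2 * n := by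
  rw [hT, mul_comm 2 n]
  exact mul_dvd_mul_right hX 2

theorem val2_5 (u : ℕ) :
    Sig.val (u + 1) ⟨1, false, true, false, false, true, false⟩
      ∣ 2 * Nat.lcm ((u + 1) ^ 3 + 1) 1 := by
  apply dvd_two_mul_of (X := (u + 1) ^ 3 + 1) _ (Nat.dvd_lcm_left _ _)
  simp only [Sig.val, fac, ↓reduceIte, Bool.false_eq_true, pow_one, mul_one, subE]
  ring

theorem val2_6 (u : ℕ) :
    Sig.val (u + 1) ⟨1, true, false, false, true, false, false⟩
      ∣ 2 * Nat.lcm (u * (u ^ 2 + 3 * u + 3)) 1 := by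
  apply dvd_two_mul_of (X := u * (u ^ 2 + 3 * u + 3)) _ (Nat.dvd_lcm_left _ _)
  simp only [Sig.val, fac, ↓reduceIte, Bool.false_eq_true, pow_one, mul_one, sub1]
  ring

theorem val2_7 (hu : Odd u) :
    Sig.val (u + 1) ⟨1, true, false, true, false, false, false⟩
      ∣ 2 * Nat.lcm ((u + 1) ^ 2 + 1) (Nat.lcm u 1) := by
  apply dvd_two_mul_of (X := ((u + 1) ^ 2 + 1) * u) _
    (dvd_lcm_of_coprime (cop_C_A hu) dvd_rfl (Nat.dvd_lcm_left _ _))
  simp only [Sig.val, fac, ↓reduceIte, Bool.false_eq_true, pow_one, mul_one, sub1]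
  ring

theorem val2_8 (hu : Odd u) :
    Sig.val (u + 1) ⟨1, false, true, true, false, false, false⟩
      ∣ 2 * Nat.lcm ((u + 1) ^ 2 + 1) (Nat.lcm (u + 2) 1) := by
  apply dvd_two_mul_of (X := ((u + 1) ^ 2 + 1) * (u + 2)) _
    (dvd_lcm_of_coprime (cop_C_B hu) dvd_rfl (Nat.dvd_lcm_left _ _))
  simp only [Sig.val, fac, ↓reduceIte, Bool.false_eq_true, pow_one, mul_one]
  ring

theorem val2_9 (hu : Odd u) :
    Sig.val (u + 1) ⟨2, false, false, true, false, false, false⟩
      ∣ 2 * Nat.lcm ((u + 1) ^ 2 + 1) 2 := by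
  apply dvd_two_mul_of (X := ((u + 1) ^ 2 + 1) * 2) _
    (dvd_lcm_of_coprime (Nat.coprime_two_right.mpr (odd_C hu)) dvd_rfl dvd_rfl)
  simp only [Sig.val, fac, ↓reduceIte, Bool.false_eq_true, mul_one]
  ring

theorem val2_10 (hu : Odd u) :
    Sig.val (u + 1) ⟨2, true, true, false, false, false, false⟩
      ∣ 2 * Nat.lcm (u * (u + 2)) 2 := by
  apply dvd_two_mul_of (X := (u * (u + 2)) * 2) _
    (dvd_lcm_of_coprime (Nat.coprime_two_right.mpr (hu.mul (odd_u2 hu))) dvd_rfl dvd_rfl)
  simp only [Sig.val, fac, ↓reduceIte, Bool.false_eq_true, mul_one, sub1]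
  ring

theorem val2_11 (hu : Odd u) :
    Sig.val (u + 1) ⟨3, true, false, false, false, false, false⟩ ∣ 2 * Nat.lcm u 4 := by
  apply dvd_two_mul_of (X := u * 2 ^ 2) _
    (dvd_lcm_of_coprime (cop_pow_two hu 2) dvd_rfl (by norm_num))
  simp only [Sig.val, fac, ↓reduceIte, Bool.false_eq_true, mul_one, sub1]
  ring

theorem val2_12 (hu : Odd u) :
    Sig.val (u + 1) ⟨3, false, true, false, false, false, false⟩ ∣ 2 * Nat.lcm (u + 2) 4 := by
  apply dvd_two_mul_of (X := (u + 2) * 2 ^ 2) _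
    (dvd_lcm_of_coprime (cop_pow_two (odd_u2 hu) 2) dvd_rfl (by norm_num))
  simp only [Sig.val, fac, ↓reduceIte, Bool.false_eq_true, mul_one]
  ring

end arith2

section pieces

variable (F : Type v) [Field F] [Fintype F] [CharP F 2]

/-- **the twelve signatures in the kernel of the Dickson invariant** -/
theorem exists_hasEv_of_sig (t : Sig) (ht : t ∈ Llist) :
    (∃ n, t.val (Fintype.card F) ∣ n ∧ HasEv F (-1) 3 n False) ∨
      (∃ n, t.val (Fintype.card F) ∣ 2 * n ∧ HasEv F (-1) 3 n True) := by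
  have hq : 2 ≤ Fintype.card F := Fintype.one_lt_card
  obtain ⟨u, hu⟩ : ∃ u, Fintype.card F = u + 1 := ⟨Fintype.card F - 1, by omega⟩
  have huodd : Odd u := by
    have he := even_card (F := F)
    rw [hu] at he
    rcases Nat.even_or_odd u with h | h
    · exact absurd he (Nat.not_even_iff_odd.mpr h.add_one)
    · exact h
  have hM1 : HasElt F (-1) 0 (u + 2) := by
    have := torusM F 1 le_rfl
    rwa [hu, pow_one] at this
  have hM2 : HasElt F (-1) 1 ((u + 1) ^ 2 + 1) := by
    have := torusM F 2 (by norm_num)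
    rwa [hu] at this
  have hM3 : HasElt F (-1) 2 ((u + 1) ^ 3 + 1) := by
    have := torusM F 3 (by norm_num)
    rwa [hu] at this
  have hM4 : HasElt F (-1) 3 ((u + 1) ^ 4 + 1) := by
    have := torusM F 4 (by norm_num)
    rwa [hu] at this
  have hP1 : HasElt F 1 0 u := by
    have := torusP F 1 le_rfl
    rwa [hu, sub1'] at this
  have hP2 : HasElt F 1 1 (u * (u + 2)) := by
    have := torusP F 2 (by norm_num)
    rwa [hu, sub2] at this
  have hP3 : HasElt F 1 2 (u * (u ^ 2 + 3 * u + 3)) := by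
    have := torusP F 3 (by norm_num)
    rwa [hu, sub3] at this
  have oM1 : Odd (u + 2) := odd_u2 huodd
  have oM2 : Odd ((u + 1) ^ 2 + 1) := odd_C huodd
  have oM3 : Odd ((u + 1) ^ 3 + 1) := by
    rw [cube_add_one']
    exact (odd_u2 huodd).mul (odd_E u)
  have oM4 : Odd ((u + 1) ^ 4 + 1) := by
    obtain ⟨m, rfl⟩ := huodd
    exact ⟨8 * m ^ 4 + 32 * m ^ 3 + 48 * m ^ 2 + 32 * m + 8, by ring⟩
  have oP1 : Odd u := huodd
  have oP2 : Odd (u * (u + 2)) := huodd.mul (odd_u2 huodd)
  have oP3 : Odd (u * (u ^ 2 + 3 * u + 3)) := huodd.mul (odd_D u)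
  have eM1 := hM1.toEv oM1
  have eM2 := hM2.toEv oM2
  have eM3 := hM3.toEv oM3
  have eM4 := hM4.toEv oM4
  have eP1 := hP1.toEv oP1
  have eP2 := hP2.toEv oP2
  have eP3 := hP3.toEv oP3
  have onep : HasEv F 1 0 1 True := (hasSp_plus (F := F)).evOne
  have onem : HasEv F (-1) 0 1 True := (hasSp_minus (F := F)).evOne
  obtain ⟨-, hU4p, -⟩ := (hasSp_plus (F := F)).two_four_eight
  obtain ⟨-, hU4m, -⟩ := (hasSp_minus (F := F)).two_four_eight
  have twop : HasEv F 1 1 2 True := hU4p.evTwo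
  have twom : HasEv F (-1) 1 2 True := hU4m.evTwo
  have fourp : HasEv F 1 2 4 True := by
    have := ((hasSp_plus (F := F)).hasN_four).fix (by norm_num) (hasSp_plus (F := F))
    norm_num at this
    exact this
  have fourm : HasEv F (-1) 2 4 True := by
    have := ((hasSp_plus (F := F)).hasN_four).fix (by norm_num) (hasSp_minus (F := F))
    norm_num at this
    exact this
  rw [hu]
  simp only [Llist, List.mem_cons, List.not_mem_nil, or_false] at ht
  rcases ht with rfl | rfl | rfl | rfl | rfl | rfl | rfl | rfl | rfl | rfl | rfl | rfl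
  · exact Or.inl ⟨_, val_1 u, eM4⟩
  · refine Or.inl ⟨_, val_2 huodd, ?_⟩
    have := eM2.prod oM2 eP2
    norm_num at this
    exact this
  · refine Or.inl ⟨_, val_3 huodd, ?_⟩
    have := eM3.prod oM3 eP1
    norm_num at this
    exact this
  · refine Or.inl ⟨_, val_4 huodd, ?_⟩
    have := eP3.prod oP3 eM1
    norm_num at this
    exact this
  · refine Or.inr ⟨_, val2_5 u, ?_⟩
    have := eM3.prod oM3 onep
    norm_num at this ⊢
    exact this
  · refine Or.inr ⟨_, val2_6 u, ?_⟩
    have := eP3.prod oP3 onem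
    norm_num at this ⊢
    exact this
  · refine Or.inr ⟨_, val2_7 huodd, ?_⟩
    have := eM2.prod oM2 (eP1.prod oP1 onep)
    norm_num at this ⊢
    exact this
  · refine Or.inr ⟨_, val2_8 huodd, ?_⟩
    have := eM2.prod oM2 (eM1.prod oM1 onem)
    norm_num at this ⊢
    exact this
  · refine Or.inr ⟨_, val2_9 huodd, ?_⟩
    have := eM2.prod oM2 twop
    norm_num at this ⊢
    exact this
  · refine Or.inr ⟨_, val2_10 huodd, ?_⟩
    have := eP2.prod oP2 twom
    norm_num at this ⊢
    exact this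
  · refine Or.inr ⟨_, val2_11 huodd, ?_⟩
    have := eP1.prod oP1 fourm
    norm_num at this ⊢
    exact this
  · refine Or.inr ⟨_, val2_12 huodd, ?_⟩
    have := eM1.prod oM1 fourp
    norm_num at this ⊢
    exact this

end pieces

end Cfsg.Agent.Helper8.SpO8
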