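import Mathlib
import Cfsg.Agent.Helper8.SpO8O
import Cfsg.Agent.Helper8.SpO8K
import Cfsg.Agent.Helper8.SpO8L
import Cfsg.Agent.Helper8.SpO8J
import Cfsg.Agent.Helper8.DicksonRank
import Cfsg.Agent.Helper8.OrREvenA
set_option autoImplicit false

/-!
The kernel of the Dickson invariant of a form of minus type on `F^8` whose polar form is the
standard alternating form, as a group of symplectic matrices.
-/

namespace Cfsg.Agent.Helper8.SpO8

open Module Matrix
open Cfsg.Agent.Helper8.QuadForm Cfsg.Agent.Helper8.OrT Cfsg.Agent.Helper8.StdForms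
  Cfsg.Agent.Helper8.OrthOrder Cfsg.Agent.Helper8.Dickson Cfsg.Agent.Helper8.ReflMatrix
  Cfsg.Agent.Helper8.OmegaEven Cfsg.Agent.Helper8.DicksonRank

universe v

variable {F : Type v} [Field F] [Fintype F] [CharP F 2]

local notation "PI4" => Fin 4 ⊕ Fin 4

omit [Fintype F] [CharP F 2] in
theorem polar_comp' {V W : Type*} [AddCommGroup V] [Module F V] [AddCommGroup W] [Module F W]
    (Q : QuadraticForm F W) (f : V →ₗ[F] W) (u v : V) :
    QuadraticMap.polar (Q.comp f) u v = QuadraticMap.polar Q (f u) (f v) := by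
  unfold QuadraticMap.polar
  rw [QuadraticMap.comp_apply, QuadraticMap.comp_apply, QuadraticMap.comp_apply, map_add]

/-- a form of minus type whose polar form is the standard alternating form -/
theorem exists_std_form : ∃ Q₀ : QuadraticForm F (PI4 → F), Nondeg Q₀ ∧ NuS (-1) Q₀ 3 ∧
    ∀ u v, QuadraticMap.polar Q₀ u v = Cfsg.sympForm 4 F u v := by
  obtain ⟨ζ, hζ⟩ := Cfsg.Agent.Helper8.OrR.exists_irred (F := F)
  have hab := aniso_of_irred hζ
  have hnd := minus_nondeg 1 ζ hab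
  have hfin : finrank F (((Fin 3 ⊕ Fin 3) ⊕ Fin 2) → F) = 2 * 4 := by rw [finrank_minus]
  obtain ⟨ψ, hψ⟩ := Cfsg.Agent.Helper7.QF2.exists_symp_coords (d := 4) hfin
    (minusForm F 3 1 ζ) hnd
  refine ⟨(minusForm F 3 1 ζ).comp (ψ : (PI4 → F) →ₗ[F] _), ?_, ?_, ?_⟩
  · intro u hu
    have h1 : ψ u = 0 := by
      apply hnd
      intro w
      obtain ⟨w', rfl⟩ := ψ.surjective w
      have := hu w'
      rw [polar_comp'] at this
      exact this
    exact ψ.map_eq_zero_iff.mp h1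
  · refine NuS.congr ψ.symm ?_ (nuS_minusForm 3 1 ζ hab)
    intro v
    rw [QuadraticMap.comp_apply]
    simp
  · intro u v
    rw [polar_comp']
    exact hψ u v

section rank

omit [Fintype F] [CharP F 2] in
theorem rank_lt_card_of_not_isUnit {ι : Type*} [Fintype ι] [DecidableEq ι] (A : Matrix ι ι F)
    (h : ¬ IsUnit A) : A.rank < Fintype.card ι := by
  by_contra hcon
  apply h
  have hr : A.rank = Fintype.card ι := le_antisymm (Matrix.rank_le_card_width A) (not_lt.mp hcon)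
  have hsurj : Function.Surjective A.mulVecLin := by
    rw [← LinearMap.range_eq_top]
    apply Submodule.eq_top_of_finrank_eq
    rw [Module.finrank_fintype_fun_eq_card]
    exact hr
  have hinj : Function.Injective A.mulVecLin := LinearMap.injective_iff_surjective.mpr hsurj
  exact Matrix.mulVec_injective_iff_isUnit.mp hinj

end rank

section group

variable (Q₀ : QuadraticForm F (PI4 → F)) (hnd₀ : Nondeg Q₀)

/-- the kernel of the Dickson invariant -/
noncomputable def omegaGrp : Subgroup ↥(Cfsg.isometryGroup F ⇑Q₀) :=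
  (dicksonMat Q₀ CharTwo.two_eq_zero ((nondeg_iff Q₀).mpr hnd₀)).ker

/-- its elements as matrices -/
noncomputable def rho : ↥(omegaGrp Q₀ hnd₀) →* Matrix PI4 PI4 F :=
  (Units.coeHom (Matrix PI4 PI4 F)).comp
    ((Cfsg.isometryGroup F ⇑Q₀).subtype.comp (omegaGrp Q₀ hnd₀).subtype)

omit [Fintype F] in
theorem rho_apply (g : ↥(omegaGrp Q₀ hnd₀)) :
    rho Q₀ hnd₀ g = (((g : ↥(Cfsg.isometryGroup F ⇑Q₀)) : GL PI4 F) : Matrix PI4 PI4 F) := rfl

omit [Fintype F] in
theorem rho_injective : Function.Injective (rho Q₀ hnd₀) := by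
  intro g g' h
  apply Subtype.ext
  apply Subtype.ext
  apply Units.ext
  exact h

omit [Fintype F] in
theorem even_rank_rho (g : ↥(omegaGrp Q₀ hnd₀)) : Even (rho Q₀ hnd₀ g - 1).rank := by
  have h1 : dicksonMat Q₀ CharTwo.two_eq_zero ((nondeg_iff Q₀).mpr hnd₀)
      (g : ↥(Cfsg.isometryGroup F ⇑Q₀)) = 1 := g.2
  rw [dicksonMat_eq] at h1
  have hne : (-1 : ℤˣ) ≠ 1 := by decide
  exact (neg_one_pow_eq_one_iff_even hne).mp h1

variable (hQf : ∀ u v, QuadraticMap.polar Q₀ u v = Cfsg.sympForm 4 F u v)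

omit [Fintype F] in
include hQf in
theorem exists_symp_rho (g : ↥(omegaGrp Q₀ hnd₀)) :
    ∃ A : Matrix.symplecticGroup (Fin 4) F, (A : Matrix PI4 PI4 F) = rho Q₀ hnd₀ g := by
  have hmem : ((g : ↥(Cfsg.isometryGroup F ⇑Q₀)) : GL PI4 F) ∈ Cfsg.spGL 4 F :=
    Cfsg.Agent.Helper7.QF2.isometryGroup_le_spGL (⇑Q₀) hQf (g : ↥(Cfsg.isometryGroup F ⇑Q₀)).2
  obtain ⟨A, hA⟩ := Cfsg.Agent.S0270.toSpGLHom_surjective
    ⟨((g : ↥(Cfsg.isometryGroup F ⇑Q₀)) : GL PI4 F), hmem⟩
  refine ⟨A, ?_⟩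
  have := congrArg (fun y : ↥(Cfsg.spGL 4 F) => ((y : GL PI4 F) : Matrix PI4 PI4 F)) hA
  exact this

include hQf in
/-- every element of the semidirect product has order dividing the value of a signature -/
theorem aff_pow_eq_one (k : ℕ) (x : AffM (rho Q₀ hnd₀) k) :
    ∃ t ∈ Llist, x ^ (t.val (Fintype.card F)) = 1 := by
  set M := rho Q₀ hnd₀ x.g with hM
  have ha : 0 < orderOf x.g := orderOf_pos x.g
  have hMa : M ^ orderOf x.g = 1 := by
    rw [hM, ← map_pow, pow_orderOf_eq_one, map_one]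
  obtain ⟨A, hA⟩ := exists_symp_rho Q₀ hnd₀ hQf x.g
  have hsr : minpoly F M ∣ (minpoly F M).reverse := by
    rw [hM, ← hA]
    exact Cfsg.Agent.Lead.SpecSp.minpoly_dvd_reverse A
  have hdeg8 : (minpoly F M).natDegree ≤ 8 := by
    have := Cfsg.Agent.Lead.SpecSp.natDegree_minpoly_le_two_mul (n := 4) M
    omega
  have key : ∃ t ∈ Llist, M ^ (t.val (Fintype.card F)) = 1 ∧
      ∑ i ∈ Finset.range (t.val (Fintype.card F)), M ^ i = 0 := by
    by_cases hu : IsUnit (M - 1)
    · obtain ⟨t, ht, h⟩ := exists_sig_of_minpoly M (orderOf x.g) ha hMa hsr hdeg8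
      exact ⟨t, ht, h, geom_sum_eq_zero_of_unit M hu _ h⟩
    · have h1 := rank_lt_card_of_not_isUnit (M - 1) hu
      rw [Fintype.card_sum, Fintype.card_fin] at h1
      obtain ⟨c, hc⟩ := even_rank_rho Q₀ hnd₀ x.g
      have h2 := natDegree_minpoly_le_rank_succ' M
      exact exists_sig_geom M (orderOf x.g) ha hMa hsr (by rw [← hM] at hc; omega)
  obtain ⟨t, ht, h1, h2⟩ := key
  refine ⟨t, ht, ?_⟩
  rw [AffM.pow_eq_one_iff]
  constructor
  · apply rho_injective Q₀ hnd₀
    rw [map_pow, map_one]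
    exact h1
  · rw [← hM, h2, Matrix.zero_mul]

end group

end Cfsg.Agent.Helper8.SpO8
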