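import Mathlib
import Cfsg.Agent.Helper8.SpO8P
set_option autoImplicit false

/-!
Transport of isometries to the standard form and the elements of the semidirect product
realising the twelve signatures.
-/

namespace Cfsg.Agent.Helper8.SpO8

open Module Matrix
open Cfsg.Agent.Helper8.QuadForm Cfsg.Agent.Helper8.OrT Cfsg.Agent.Helper8.StdForms
  Cfsg.Agent.Helper8.OrthOrder Cfsg.Agent.Helper8.Dickson Cfsg.Agent.Helper8.ReflMatrix
  Cfsg.Agent.Helper8.OmegaEven Cfsg.Agent.Helper8.DicksonRank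

universe v

local notation "PI4" => Fin 4 ⊕ Fin 4

section conj

variable {F : Type*} [Field F] {V W : Type*} [AddCommGroup V] [Module F V] [AddCommGroup W]
  [Module F W]

theorem res_leCongr (φ : V ≃ₗ[F] W) (g : V ≃ₗ[F] V) :
    res (Cfsg.Agent.Helper7.QF2.leCongr φ g) = res g := by
  unfold res
  have e : ((Cfsg.Agent.Helper7.QF2.leCongr φ g : W ≃ₗ[F] W) : W →ₗ[F] W) - LinearMap.id
      = (φ : V →ₗ[F] W) ∘ₗ (((g : V →ₗ[F] V) - LinearMap.id) ∘ₗ (φ.symm : W →ₗ[F] V)) := by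
    apply LinearMap.ext
    intro w
    change φ (g (φ.symm w)) - w = φ (g (φ.symm w) - φ.symm w)
    rw [map_sub, LinearEquiv.apply_symm_apply]
  rw [e, LinearMap.range_comp, LinearMap.range_comp_of_range_eq_top _ (LinearEquiv.range φ.symm)]
  exact LinearEquiv.finrank_map_eq φ _

theorem leCongr_pow_apply (φ : V ≃ₗ[F] W) (g : V ≃ₗ[F] V) (i : ℕ) (a : V) :
    ((Cfsg.Agent.Helper7.QF2.leCongr φ g) ^ i) (φ a) = φ ((g ^ i) a) := by
  rw [← map_pow]
  change φ ((g ^ i) (φ.symm (φ a))) = _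
  rw [LinearEquiv.symm_apply_apply]

theorem sum_mulVec' {ι κ : Type*} [Fintype ι] (s : Finset κ) (A : κ → Matrix ι ι F)
    (v : ι → F) : (∑ i ∈ s, A i) *ᵥ v = ∑ i ∈ s, A i *ᵥ v :=
  map_sum (Matrix.mulVec.addMonoidHomLeft v) A s

end conj

variable {F : Type v} [Field F] [Fintype F] [CharP F 2]

section transport

variable (Q₀ : QuadraticForm F (PI4 → F)) (hnd₀ : Nondeg Q₀) (hnu₀ : NuS (-1) Q₀ 3)

include hnu₀ in
/-- transport of an isometry with even residual rank to the kernel of the Dickson invariant -/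
theorem exists_omega_of {V : Type v} [AddCommGroup V] [Module F V] [FiniteDimensional F V]
    (Q : QuadraticForm F V) (hnd : Nondeg Q) (hfin : finrank F V = 2 * (3 + 1))
    (hnu : NuS (-1) Q 3) (g₀ : V ≃ₗ[F] V) (hg₀ : ∀ v, Q (g₀ v) = Q v) (hev : Even (res g₀)) :
    ∃ g : ↥(omegaGrp Q₀ hnd₀), orderOf g = orderOf g₀ ∧
      ∀ (n : ℕ) (a₀ : V), ∑ i ∈ Finset.range n, (g₀ ^ i) a₀ ≠ 0 →
        ∃ a : PI4 → F, (∑ i ∈ Finset.range n, (rho Q₀ hnd₀ g) ^ i) *ᵥ a ≠ 0 := by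
  have hι : finrank F (PI4 → F) = 2 * (3 + 1) := by
    rw [Module.finrank_fintype_fun_eq_card, Fintype.card_sum, Fintype.card_fin]
  obtain ⟨φ, hφ⟩ := exists_isometry_of_nuS 3 hfin hι Q Q₀ hnd hnd₀ (-1) hnu hnu₀
  set g' : (PI4 → F) ≃ₗ[F] (PI4 → F) := Cfsg.Agent.Helper7.QF2.leCongr φ g₀ with hg'
  have hmem : g' ∈ Isom Q₀ := by
    intro w
    change Q₀ (φ (g₀ (φ.symm w))) = Q₀ w
    rw [hφ, hg₀, ← hφ, LinearEquiv.apply_symm_apply]
  set y : ↥(Cfsg.isometryGroup F ⇑Q₀) := (isomEquiv Q₀).symm ⟨g', hmem⟩ with hy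
  have hy1 : isomEquiv Q₀ y = ⟨g', hmem⟩ := MulEquiv.apply_symm_apply _ _
  have hyΩ : y ∈ omegaGrp Q₀ hnd₀ := by
    change dicksonMat Q₀ CharTwo.two_eq_zero ((nondeg_iff Q₀).mpr hnd₀) y = 1
    unfold dicksonMat
    rw [MonoidHom.comp_apply]
    change dickson _ Q₀ _ (isomEquiv Q₀ y) = 1
    rw [hy1, dickson_apply]
    change (-1 : ℤˣ) ^ res g' = 1
    rw [hg', res_leCongr]
    exact hev.neg_one_pow
  refine ⟨⟨y, hyΩ⟩, ?_, ?_⟩
  · rw [Subgroup.orderOf_mk, hy, MulEquiv.orderOf_eq, Subgroup.orderOf_mk, hg',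
      MulEquiv.orderOf_eq]
  · intro n a₀ h
    refine ⟨φ a₀, ?_⟩
    have hM : ∀ v, (rho Q₀ hnd₀ ⟨y, hyΩ⟩) *ᵥ v = g' v := by
      intro v
      rw [rho_apply]
      have := isomEquiv_apply Q₀ y v
      rw [hy1] at this
      exact this.symm
    have hpow : ∀ (i : ℕ) (v : PI4 → F), ((rho Q₀ hnd₀ ⟨y, hyΩ⟩) ^ i) *ᵥ v = (g' ^ i) v := by
      intro i
      induction i with
      | zero => intro v; rw [pow_zero, pow_zero, Matrix.one_mulVec]; rfl
      | succ i ih =>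
        intro v
        rw [pow_succ, pow_succ, ← Matrix.mulVec_mulVec, hM, ih, LinearEquiv.mul_apply]
    rw [sum_mulVec']
    have e : ∑ i ∈ Finset.range n, ((rho Q₀ hnd₀ ⟨y, hyΩ⟩) ^ i) *ᵥ (φ a₀)
        = φ (∑ i ∈ Finset.range n, (g₀ ^ i) a₀) := by
      rw [map_sum]
      apply Finset.sum_congr rfl
      intro i _
      rw [hpow, hg', leCongr_pow_apply]
    rw [e]
    exact fun h0 => h (φ.map_eq_zero_iff.mp h0)

end transport

end Cfsg.Agent.Helper8.SpO8
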