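import Mathlib
import Cfsg.Agent.Helper8.SpO8Q
set_option autoImplicit false

/-!
Unrecognizability of `Sp_8(q)`, `q` even, by its set of element orders: the semidirect products
of `k` copies of the natural module by the kernel of the Dickson invariant of `O_8^-(q)` all have
the element orders of `Sp_8(q)`.
-/

namespace Cfsg.Agent.Helper8.SpO8

open Module Matrix
open Cfsg.Agent.Helper8.QuadForm Cfsg.Agent.Helper8.OrT Cfsg.Agent.Helper8.StdForms

universe v

local notation "PI4" => Fin 4 ⊕ Fin 4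

variable {F : Type v} [Field F] [Fintype F] [CharP F 2]

section elements

variable (Q₀ : QuadraticForm F (PI4 → F)) (hnd₀ : Nondeg Q₀) (hnu₀ : NuS (-1) Q₀ 3)

include hnu₀ in
/-- the semidirect product realises the twelve signatures -/
theorem exists_aff_of_sig (k : ℕ) (hk : 1 ≤ k) (t : Sig) (ht : t ∈ Llist) :
    ∃ x : AffM (rho Q₀ hnd₀) k, t.val (Fintype.card F) ∣ orderOf x := by
  rcases exists_hasEv_of_sig F t ht with ⟨n, hTn, hE⟩ | ⟨n, hTn, hE⟩
  · obtain ⟨V, _, _, _, Q, hnd, hfin, hnu, g₀, hg₀, ho, hev, -⟩ := hE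
    obtain ⟨g, hg, -⟩ := exists_omega_of Q₀ hnd₀ hnu₀ Q hnd hfin hnu g₀ hg₀ hev
    refine ⟨⟨0, g⟩, ?_⟩
    have h1 : orderOf g ∣ orderOf (⟨0, g⟩ : AffM (rho Q₀ hnd₀) k) := by
      apply orderOf_dvd_of_pow_eq_one
      have := congrArg AffM.g (pow_orderOf_eq_one (⟨0, g⟩ : AffM (rho Q₀ hnd₀) k))
      rw [AffM.pow_g] at this
      exact this
    rw [hg, ho] at h1
    exact hTn.trans h1
  · obtain ⟨V, _, _, _, Q, hnd, hfin, hnu, g₀, hg₀, ho, hev, hw⟩ := hE
    obtain ⟨a₀, ha₀⟩ := hw trivial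
    obtain ⟨g, hg, hga⟩ := exists_omega_of Q₀ hnd₀ hnu₀ Q hnd hfin hnu g₀ hg₀ hev
    obtain ⟨a, ha⟩ := hga n a₀ ha₀
    have hgn : orderOf g = n := by rw [hg, ho]
    have hnpos : 0 < n := by rw [← hgn]; exact orderOf_pos g
    set M := rho Q₀ hnd₀ g with hM
    set x : AffM (rho Q₀ hnd₀) k := ⟨fun i _ => a i, g⟩ with hx
    have hgpow : g ^ n = 1 := by rw [← hgn]; exact pow_orderOf_eq_one g
    have hMn : M ^ n = 1 := by rw [hM, ← map_pow, hgpow, map_one]
    have h1 : n ∣ orderOf x := by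
      rw [← hgn]
      apply orderOf_dvd_of_pow_eq_one
      have := congrArg AffM.g (pow_orderOf_eq_one x)
      rw [AffM.pow_g] at this
      exact this
    have h2 : x ^ n ≠ 1 := by
      intro h
      rw [AffM.pow_eq_one_iff] at h
      apply ha
      funext i
      have := congrFun (congrFun h.2 i) (⟨0, hk⟩ : Fin k)
      rw [Matrix.mul_apply] at this
      exact this
    have h3 : x ^ (n + n) = 1 := by
      rw [AffM.pow_eq_one_iff]
      refine ⟨by rw [pow_add, hgpow, one_mul], ?_⟩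
      have : ∑ i ∈ Finset.range (n + n), M ^ i = 0 := by
        rw [Finset.sum_range_add]
        have e : ∀ i, M ^ (n + i) = M ^ i := fun i => by rw [pow_add, hMn, one_mul]
        simp only [e]
        exact CharTwo.add_self_eq_zero _
      change (∑ i ∈ Finset.range (n + n), M ^ i) * x.w = 0
      rw [this, Matrix.zero_mul]
    have h4 : orderOf x ∣ n + n := orderOf_dvd_of_pow_eq_one h3
    have h5 : orderOf x = 2 * n := by
      obtain ⟨c, hc⟩ := h1
      rw [hc, ← two_mul, mul_comm 2 n] at h4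
      have hc2 : c ∣ 2 := Nat.dvd_of_mul_dvd_mul_left hnpos h4
      have hc' : c = 1 ∨ c = 2 := by
        have := Nat.le_of_dvd (by norm_num) hc2
        interval_cases c
        · simp at hc2
        · exact Or.inl rfl
        · exact Or.inr rfl
      rcases hc' with rfl | rfl
      · exfalso
        apply h2
        rw [mul_one] at hc
        rw [← hc]
        exact pow_orderOf_eq_one x
      · rw [hc, mul_comm]
    exact ⟨x, by rw [h5]; exact hTn⟩

end elements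

section final

theorem range_orderOf_subset_of_catalog {A B : Type*} [Group A] [Group B] [Finite B] (S : Set ℕ)
    (hA1 : ∀ x : A, ∃ T ∈ S, x ^ T = 1) (hB2 : ∀ T ∈ S, ∃ x : B, T ∣ orderOf x) :
    Set.range (orderOf : A → ℕ) ⊆ Set.range (orderOf : B → ℕ) := by
  rintro n ⟨x, rfl⟩
  obtain ⟨T, hT, hxT⟩ := hA1 x
  obtain ⟨y, hy⟩ := hB2 T hT
  have h1 : orderOf x ∣ orderOf y := (orderOf_dvd_of_pow_eq_one hxT).trans hy
  exact ⟨y ^ (orderOf y / orderOf x), orderOf_pow_orderOf_div (orderOf_pos y).ne' h1⟩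

/-- **unrecognizability of `Sp_8(q)`, `q` even** -/
theorem exists_large_isospectral (M : ℕ) :
    ∃ (H : Type) (_ : Group H) (_ : Fintype H), M < Fintype.card H ∧
      Set.range (orderOf : H → ℕ) = Set.range (orderOf : Cfsg.PSp 4 F → ℕ) := by
  classical
  obtain ⟨Q₀, hnd₀, hnu₀, hQf⟩ := exists_std_form (F := F)
  obtain ⟨ζ, hζ⟩ := Cfsg.Agent.Helper8.OrR.exists_irred (F := F)
  have hab := aniso_of_irred hζ
  have : Fintype ↥(omegaGrp Q₀ hnd₀) := Fintype.ofFinite _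
  set S : Set ℕ := {T | ∃ t ∈ Llist, T = t.val (Fintype.card F)} with hS
  have hA1 : ∀ x : AffM (rho Q₀ hnd₀) (M + 1), ∃ T ∈ S, x ^ T = 1 := by
    intro x
    obtain ⟨t, ht, h⟩ := aff_pow_eq_one Q₀ hnd₀ hQf (M + 1) x
    exact ⟨_, ⟨t, ht, rfl⟩, h⟩
  have hA2 : ∀ T ∈ S, ∃ x : AffM (rho Q₀ hnd₀) (M + 1), T ∣ orderOf x := by
    rintro T ⟨t, ht, rfl⟩
    exact exists_aff_of_sig Q₀ hnd₀ hnu₀ (M + 1) (by omega) t ht
  have hB1 : ∀ z : Cfsg.PSp 4 F, ∃ T ∈ S, z ^ T = 1 := by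
    intro z
    obtain ⟨g, rfl⟩ := QuotientGroup.mk_surjective z
    obtain ⟨t, ht, h⟩ := exists_sig_pow_eq_one g
    refine ⟨_, ⟨t, ht, rfl⟩, ?_⟩
    rw [← QuotientGroup.mk_pow, h]
    rfl
  have hB2 : ∀ T ∈ S, ∃ z : Cfsg.PSp 4 F, T ∣ orderOf z := by
    rintro T ⟨t, ht, rfl⟩
    obtain ⟨y, hy⟩ := exists_orth_of_sig 1 ζ hab t ht
    obtain ⟨z, hz⟩ := exists_psp_of_orth 1 ζ hab y
    exact ⟨z, by rw [hz]; exact hy⟩
  have hrange : Set.range (orderOf : AffM (rho Q₀ hnd₀) (M + 1) → ℕ)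
      = Set.range (orderOf : Cfsg.PSp 4 F → ℕ) :=
    Set.Subset.antisymm (range_orderOf_subset_of_catalog S hA1 hB2)
      (range_orderOf_subset_of_catalog S hB1 hA2)
  have hcard : M + 1 < Nat.card (AffM (rho Q₀ hnd₀) (M + 1)) := AffM.lt_card
  obtain ⟨H, grp, fin, hHc, ⟨me⟩⟩ := exists_type_zero_copy (AffM (rho Q₀ hnd₀) (M + 1))
  refine ⟨H, grp, fin, ?_, ?_⟩
  · rw [hHc]
    omega
  · rw [← hrange]
    ext n
    constructor
    · rintro ⟨x, rfl⟩
      exact ⟨me x, me.orderOf_eq x⟩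
    · rintro ⟨x, rfl⟩
      exact ⟨me.symm x, me.symm.orderOf_eq x⟩

end final

end Cfsg.Agent.Helper8.SpO8
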