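import Cfsg.Agent.Helper8.SpOL3A

set_option autoImplicit false
set_option linter.unusedSectionVars false
set_option linter.unusedVariables false
set_option maxHeartbeats 1000000

/-!
# S5666: the transvection criterion (helper4's direct route for `dim U = 2`, valid for any `U`)

If `g' ∈ X` fixes `U ⊗ z` pointwise (`z` singular) and `B (g' (u ⊗ e)) (u ⊗ e) ≠ 0` for some
`e ⊥ z`, then `X` contains the transvections with centre `u ⊗ z`.
-/

namespace Cfsg.Agent.Helper6.SpO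

open Module Cfsg.Agent.Helper7.ExtF Cfsg.Agent.Helper8.Tens Cfsg.Agent.Helper3.TensOm

variable {F : Type*} [Field F] {U W V : Type*} [AddCommGroup U] [Module F U]
  [AddCommGroup W] [Module F W] [AddCommGroup V] [Module F V]
  {t : U →ₗ[F] W →ₗ[F] V} {B : LinearMap.BilinForm F V} {f₁ : LinearMap.BilinForm F U}
  {f₂ : LinearMap.BilinForm F W} {X : Subgroup (V ≃ₗ[F] V)}

/-- `g` acts as `Y ↦ Y - A (c_z Y) ⊗ z`, where `c_z` is the contraction against `z`. -/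
def IsZ (ht : IsTensorProduct t) (f₂ : LinearMap.BilinForm F W) (z : W) (g : V ≃ₗ[F] V)
    (A : U →ₗ[F] U) : Prop :=
  ∀ Y, g Y = Y - t (A (ev ht (f₂.flip z) Y)) z

theorem h8_ev_flip_t (ht : IsTensorProduct t) (f₂ : LinearMap.BilinForm F W) (z : W) (u : U)
    (w : W) : ev ht (f₂.flip z) (t u w) = f₂ w z • u := ev_t ht _ u w

theorem IsZ.mul {ht : IsTensorProduct t} {z : W} (hzz : f₂ z z = 0) {g g' : V ≃ₗ[F] V}
    {A A' : U →ₗ[F] U} (hg : IsZ ht f₂ z g A) (hg' : IsZ ht f₂ z g' A') :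
    IsZ ht f₂ z (g * g') (A + A') := by
  intro Y
  rw [LinearEquiv.mul_apply, hg' Y, hg, map_sub, h8_ev_flip_t, hzz, zero_smul, sub_zero,
    LinearMap.add_apply, map_add, LinearMap.add_apply]
  abel

theorem IsZ.inv {ht : IsTensorProduct t} {z : W} (hzz : f₂ z z = 0) {g : V ≃ₗ[F] V}
    {A : U →ₗ[F] U} (hg : IsZ ht f₂ z g A) : IsZ ht f₂ z g⁻¹ (-A) := by
  intro Y
  have h1 := hg (Y + t (A (ev ht (f₂.flip z) Y)) z)
  have h2 : g (Y + t (A (ev ht (f₂.flip z) Y)) z) = Y := by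
    rw [h1, map_add, h8_ev_flip_t, hzz, zero_smul, add_zero]; abel
  have h3 : g⁻¹ (g (Y + t (A (ev ht (f₂.flip z) Y)) z)) = g⁻¹ Y := by rw [h2]
  rw [inv_apply_self] at h3
  rw [← h3, LinearMap.neg_apply, map_neg, LinearMap.neg_apply]; abel

/-- contractions commute with `τ ⊗ 1`. -/
theorem h8_ev_of_pure (ht : IsTensorProduct t) {x : V ≃ₗ[F] V} {τ : U →ₗ[F] U}
    (hx : ∀ u w, x (t u w) = t (τ u) w) (l : Module.Dual F W) (Y : V) :
    ev ht l (x Y) = τ (ev ht l Y) := by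
  have : (ev ht l).comp (x : V →ₗ[F] V) = τ.comp (ev ht l) := by
    apply ext_pure ht
    intro u w
    rw [LinearMap.comp_apply, LinearMap.comp_apply, LinearEquiv.coe_coe, hx, ev_t, ev_t, map_smul]
  exact LinearMap.congr_fun this Y

theorem IsZ.conj {ht : IsTensorProduct t} {z : W} {g : V ≃ₗ[F] V} {A : U →ₗ[F] U}
    (hg : IsZ ht f₂ z g A) {x x' : V ≃ₗ[F] V} {τ τ' : U →ₗ[F] U}
    (hx : ∀ u w, x (t u w) = t (τ u) w) (hx' : ∀ u w, x' (t u w) = t (τ' u) w)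
    (hxx' : ∀ Y, x (x' Y) = Y) : IsZ ht f₂ z (x * g * x') (τ.comp (A.comp τ')) := by
  intro Y
  rw [LinearEquiv.mul_apply, LinearEquiv.mul_apply, hg, map_sub, hxx', hx,
    h8_ev_of_pure ht hx']
  rfl

/-- the endomorphism `A₀ = c_e ∘ (g'⁻¹ - g') ∘ (· ⊗ e)` of `U`. -/
noncomputable def critA (ht : IsTensorProduct t) (f₂ : LinearMap.BilinForm F W) (e : W)
    (g' : V ≃ₗ[F] V) : U →ₗ[F] U :=
  (ev ht (f₂.flip e)).comp
    ((((g'⁻¹ : V ≃ₗ[F] V) : V →ₗ[F] V) - (g' : V →ₗ[F] V)).comp (t.flip e))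

theorem critA_apply (ht : IsTensorProduct t) (f₂ : LinearMap.BilinForm F W) (e : W)
    (g' : V ≃ₗ[F] V) (u : U) :
    critA ht f₂ e g' u
      = ev ht (f₂.flip e) (g'⁻¹ (t u e)) - ev ht (f₂.flip e) (g' (t u e)) := by
  show ev ht (f₂.flip e) (g'⁻¹ (t u e) - g' (t u e)) = _
  rw [map_sub]

/-- **Lemma Z**: the commutator of `g' σ g'⁻¹` and `σ = 1 ⊗ ρ_{z,e}`. -/
theorem crit_zeta (ht : IsTensorProduct t) (h : Hyp t B f₁ f₂ X) {z e : W} (hzz : f₂ z z = 0)
    (hez : f₂ e z = 0) {g' : V ≃ₗ[F] V} (hg' : g' ∈ X) (hfix : ∀ u, g' (t u z) = t u z) :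
    ∃ ζ ∈ X, IsZ ht f₂ z ζ (critA ht f₂ e g') := by
  have hze : f₂ z e = 0 := by rw [h.symm₂, hez]
  obtain ⟨σ, hσX, hσ⟩ := movO h (eich f₂ h.two hzz hez hze)
    (eich_isom f₂ h.two h.symm₂ hzz hez hze)
  have E1 := eich_tensor ht f₂ h.two hzz hez hze hσ
  have E3 : ∀ Y, ev ht (f₂.flip z) (σ Y) = ev ht (f₂.flip z) Y := by
    intro Y
    rw [E1]
    simp only [map_add, map_sub, map_smul, h8_ev_flip_t, hzz, hez, zero_smul, smul_zero,
      sub_zero, add_zero]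
  have E4 : ∀ Y, ev ht (f₂.flip e) (σ Y)
      = ev ht (f₂.flip e) Y + f₂ e e • ev ht (f₂.flip z) Y := by
    intro Y
    rw [E1]
    simp only [map_add, map_sub, map_smul, h8_ev_flip_t, hze, zero_smul, smul_zero,
      sub_zero]
  have hfix' : ∀ u, g'⁻¹ (t u z) = t u z := by
    intro u
    conv_lhs => rw [← hfix u]
    exact inv_apply_self g' _
  have E5 : ∀ Y, ev ht (f₂.flip z) (g' Y) = ev ht (f₂.flip z) Y := by
    intro Y
    have : ∀ u, f₁ (ev ht (f₂.flip z) (g' Y) - ev ht (f₂.flip z) Y) u = 0 := by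
      intro u
      rw [map_sub, LinearMap.sub_apply, ← h8_B_pure_ev ht h, ← h8_B_pure_ev ht h, sub_eq_zero]
      conv_lhs => rw [← hfix u]
      exact h.isom g' hg' _ _
    exact sub_eq_zero.mp (h.nd₁ _ this)
  have E5' : ∀ Y, ev ht (f₂.flip z) (g'⁻¹ Y) = ev ht (f₂.flip z) Y := by
    intro Y
    have := E5 (g'⁻¹ Y)
    rw [apply_inv_self] at this
    exact this.symm
  have E6 : ∀ Y, (g' * σ * g'⁻¹) Y = Y + g' (t (ev ht (f₂.flip z) Y) e)
      - t (ev ht (f₂.flip e) (g'⁻¹ Y)) z - (f₂ e e / 2) • t (ev ht (f₂.flip z) Y) z := by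
    intro Y
    rw [LinearEquiv.mul_apply, LinearEquiv.mul_apply, E1, E5']
    simp only [map_add, map_sub, map_smul, apply_inv_self, hfix]
  have E7 : ∀ Y, ev ht (f₂.flip z) ((g' * σ * g'⁻¹) Y) = ev ht (f₂.flip z) Y := by
    intro Y
    rw [LinearEquiv.mul_apply, LinearEquiv.mul_apply, E5, E3, E5']
  have key : ∀ Y, σ ((g' * σ * g'⁻¹) Y)
      - t (critA ht f₂ e g' (ev ht (f₂.flip z) (σ ((g' * σ * g'⁻¹) Y)))) z
      = (g' * σ * g'⁻¹) (σ Y) := by
    intro Y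
    rw [E3, E7, E6 (σ Y), E3, critA_apply]
    rw [E1 ((g' * σ * g'⁻¹) Y), E7]
    have e1 : ev ht (f₂.flip e) ((g' * σ * g'⁻¹) Y)
        = ev ht (f₂.flip e) Y + ev ht (f₂.flip e) (g' (t (ev ht (f₂.flip z) Y) e)) := by
      rw [E6]
      simp only [map_add, map_sub, map_smul, h8_ev_flip_t, hze, zero_smul, smul_zero,
        sub_zero]
    have e2 : ev ht (f₂.flip e) (g'⁻¹ (σ Y))
        = ev ht (f₂.flip e) (g'⁻¹ Y)
          + ev ht (f₂.flip e) (g'⁻¹ (t (ev ht (f₂.flip z) Y) e)) := by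
      rw [E1]
      simp only [map_add, map_sub, map_smul, hfix', h8_ev_flip_t, hze, zero_smul, smul_zero,
        sub_zero]
    rw [e1, e2, E6 Y, E1 Y]
    simp only [map_add, map_sub, LinearMap.add_apply, LinearMap.sub_apply]
    abel
  refine ⟨(g' * σ * g'⁻¹) * σ * (g' * σ * g'⁻¹)⁻¹ * σ⁻¹, ?_, ?_⟩
  · have hσ'X : g' * σ * g'⁻¹ ∈ X := X.mul_mem (X.mul_mem hg' hσX) (X.inv_mem hg')
    exact X.mul_mem (X.mul_mem (X.mul_mem hσ'X hσX) (X.inv_mem hσ'X)) (X.inv_mem hσX)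
  · intro Y
    have hY : Y = σ ((g' * σ * g'⁻¹) ((g' * σ * g'⁻¹)⁻¹ (σ⁻¹ Y))) := by
      rw [apply_inv_self, apply_inv_self]
    have h1 : ((g' * σ * g'⁻¹) * σ * (g' * σ * g'⁻¹)⁻¹ * σ⁻¹) Y
        = (g' * σ * g'⁻¹) (σ ((g' * σ * g'⁻¹)⁻¹ (σ⁻¹ Y))) := by
      simp only [LinearEquiv.mul_apply]
    rw [h1, ← key, ← hY]

/-- the symplectic transvection `v ↦ v + s f₁(v,u) u` of `U`, as a linear map. -/
def tauL (f₁ : LinearMap.BilinForm F U) (u : U) (s : F) : U →ₗ[F] U :=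
  LinearMap.id + (s • f₁.flip u).smulRight u

theorem tauL_apply (f₁ : LinearMap.BilinForm F U) (u : U) (s : F) (v : U) :
    tauL f₁ u s v = v + (s * f₁ v u) • u := by
  have e : (f₁.flip u) v = f₁ v u := rfl
  simp only [tauL, LinearMap.add_apply, LinearMap.id_apply, LinearMap.smulRight_apply,
    LinearMap.smul_apply, e, smul_eq_mul]

/-- **Lemma T**: from an element `1 - A ⊗ P_z` to a transvection with centre `u ⊗ z`. -/
theorem crit_word (ht : IsTensorProduct t) (h : Hyp t B f₁ f₂ X) {z : W} (hzz : f₂ z z = 0)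
    {ζ : V ≃ₗ[F] V} (hζX : ζ ∈ X) {A : U →ₗ[F] U} (hζ : IsZ ht f₂ z ζ A) (u : U) (s : F) :
    Tv B h.altB (t u z) (2 * s * s * f₁ (A u) u) ∈ X := by
  have hxX : yA ht f₁ h.alt₁ u s ∈ X := h8_yA_memX ht h u s
  have hx'X : yA ht f₁ h.alt₁ u (-s) ∈ X := h8_yA_memX ht h u (-s)
  have hx : ∀ u' w, yA ht f₁ h.alt₁ u s (t u' w) = t (tauL f₁ u s u') w := by
    intro u' w
    rw [yA_t, tauL_apply]
  have hx' : ∀ u' w, yA ht f₁ h.alt₁ u (-s) (t u' w) = t (tauL f₁ u (-s) u') w := by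
    intro u' w
    rw [yA_t, tauL_apply]
  have hττ : ∀ s' v, tauL f₁ u s' (tauL f₁ u (-s') v) = v := by
    intro s' v
    simp only [tauL_apply, map_add, map_smul, h.alt₁, mul_zero]
    module
  have hxx' : ∀ Y, yA ht f₁ h.alt₁ u s (yA ht f₁ h.alt₁ u (-s) Y) = Y := by
    have : ((yA ht f₁ h.alt₁ u s : V ≃ₗ[F] V) : V →ₗ[F] V).comp
        ((yA ht f₁ h.alt₁ u (-s) : V ≃ₗ[F] V) : V →ₗ[F] V) = LinearMap.id := by
      apply ext_pure ht
      intro u' w
      rw [LinearMap.comp_apply, LinearEquiv.coe_coe, LinearEquiv.coe_coe, hx', hx, hττ]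
      rfl
    exact fun Y => LinearMap.congr_fun this Y
  have hx'x : ∀ Y, yA ht f₁ h.alt₁ u (-s) (yA ht f₁ h.alt₁ u s Y) = Y := by
    have : ((yA ht f₁ h.alt₁ u (-s) : V ≃ₗ[F] V) : V →ₗ[F] V).comp
        ((yA ht f₁ h.alt₁ u s : V ≃ₗ[F] V) : V →ₗ[F] V) = LinearMap.id := by
      apply ext_pure ht
      intro u' w
      rw [LinearMap.comp_apply, LinearEquiv.coe_coe, LinearEquiv.coe_coe, hx, hx']
      have := hττ (-s) u'
      rw [neg_neg] at this
      rw [this]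
      rfl
    exact fun Y => LinearMap.congr_fun this Y
  have h1 := hζ.conj hx hx' hxx'
  have h2 := hζ.conj hx' hx hx'x
  have h3 := hζ.inv hzz
  have h4 := ((h1.mul hzz h2).mul hzz h3).mul hzz h3
  have hW : (yA ht f₁ h.alt₁ u s * ζ * yA ht f₁ h.alt₁ u (-s))
      * (yA ht f₁ h.alt₁ u (-s) * ζ * yA ht f₁ h.alt₁ u s) * ζ⁻¹ * ζ⁻¹ ∈ X :=
    X.mul_mem (X.mul_mem (X.mul_mem (X.mul_mem (X.mul_mem hxX hζX) hx'X)
      (X.mul_mem (X.mul_mem hx'X hζX) hxX)) (X.inv_mem hζX)) (X.inv_mem hζX)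
  have : Tv B h.altB (t u z) (2 * s * s * f₁ (A u) u)
      = (yA ht f₁ h.alt₁ u s * ζ * yA ht f₁ h.alt₁ u (-s))
        * (yA ht f₁ h.alt₁ u (-s) * ζ * yA ht f₁ h.alt₁ u s) * ζ⁻¹ * ζ⁻¹ := by
    apply LinearEquiv.ext
    intro Y
    rw [h4 Y, Tv_apply, h8_B_pure_ev ht h]
    have e : ((tauL f₁ u s).comp (A.comp (tauL f₁ u (-s)))
        + (tauL f₁ u (-s)).comp (A.comp (tauL f₁ u s)) + -A + -A) (ev ht (f₂.flip z) Y)
        = -((2 * s * s * f₁ (A u) u * f₁ (ev ht (f₂.flip z) Y) u) • u) := by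
      simp only [LinearMap.add_apply, LinearMap.comp_apply, LinearMap.neg_apply, tauL_apply,
        map_add, map_smul]
      module
    rw [e, map_neg, LinearMap.neg_apply, sub_neg_eq_add, map_smul, LinearMap.smul_apply]
  rw [this]
  exact hW

/-- **the transvection criterion** (helper4). -/
theorem criterion (ht : IsTensorProduct t) (h : Hyp t B f₁ f₂ X) {z e : W} (hzz : f₂ z z = 0)
    (hez : f₂ e z = 0) {g' : V ≃ₗ[F] V} (hg' : g' ∈ X) (hfix : ∀ u, g' (t u z) = t u z)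
    (u : U) (s : F) :
    Tv B h.altB (t u z) (-(4 * s * s * B (g' (t u e)) (t u e))) ∈ X := by
  obtain ⟨ζ, hζX, hζ⟩ := crit_zeta ht h hzz hez hg' hfix
  have hw := crit_word ht h hzz hζX hζ u s
  have hκ : f₁ (critA ht f₂ e g' u) u = -(2 * B (g' (t u e)) (t u e)) := by
    rw [critA_apply, map_sub, LinearMap.sub_apply, ← h8_B_pure_ev ht h, ← h8_B_pure_ev ht h]
    have e1 : B (g'⁻¹ (t u e)) (t u e) = B (t u e) (g' (t u e)) := by
      have := h.isom g' hg' (g'⁻¹ (t u e)) (t u e)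
      rw [apply_inv_self] at this
      exact this.symm
    rw [e1, alt_skew B h.altB (t u e) (g' (t u e))]
    ring
  rw [hκ] at hw
  have e2 : -(4 * s * s * B (g' (t u e)) (t u e))
      = 2 * s * s * -(2 * B (g' (t u e)) (t u e)) := by ring
  rw [e2]
  exact hw

theorem h8_Tv_mul (halt : ∀ v, B v v = 0) (v : V) (c c' : F) :
    Tv B halt v c * Tv B halt v c' = Tv B halt v (c + c') := by
  apply LinearEquiv.ext
  intro Y
  rw [LinearEquiv.mul_apply, Tv_apply, Tv_apply, Tv_apply, map_add, LinearMap.add_apply, map_smul,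
    LinearMap.smul_apply, halt, smul_zero, add_zero]
  module

/-- every element of a finite field of odd characteristic is a sum of two squares. -/
theorem h8_sq_add_sq [Finite F] (h2 : (2 : F) ≠ 0) (x : F) : ∃ a b : F, a * a + b * b = x := by
  classical
  have := Fintype.ofFinite F
  have hodd : Fintype.card F % 2 = 1 := FiniteField.odd_card_of_char_ne_two (by
    intro hc
    apply h2
    have h0 := ringChar.Nat.cast_ringChar (R := F)
    rw [hc] at h0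
    exact_mod_cast h0)
  obtain ⟨a, b, hab⟩ := FiniteField.exists_root_sum_quadratic (f := Polynomial.X ^ 2)
    (g := Polynomial.X ^ 2 - Polynomial.C x) (Polynomial.degree_X_pow 2)
    (Polynomial.degree_X_pow_sub_C (by decide) _) hodd
  refine ⟨a, b, ?_⟩
  simp only [Polynomial.eval_pow, Polynomial.eval_X, Polynomial.eval_sub, Polynomial.eval_C]
    at hab
  linear_combination hab

/-- the criterion yields a full root group of transvections with a pure centre. -/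
theorem hasPureTv_of_criterion [Finite F] (ht : IsTensorProduct t) (h : Hyp t B f₁ f₂ X)
    {z e : W} (hz : z ≠ 0) (hzz : f₂ z z = 0) (hez : f₂ e z = 0) {g' : V ≃ₗ[F] V} (hg' : g' ∈ X)
    (hfix : ∀ u, g' (t u z) = t u z) {u : U} (hκ : B (g' (t u e)) (t u e) ≠ 0) :
    HasPureTv t B h.altB X := by
  have hu : u ≠ 0 := by
    rintro rfl
    apply hκ
    simp
  refine ⟨u, z, hu, hz, fun c => ?_⟩
  have h4 : (4 : F) ≠ 0 := by
    have : (4 : F) = 2 * 2 := by norm_num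
    rw [this]
    exact mul_ne_zero h.two h.two
  have hκ' : -(4 * B (g' (t u e)) (t u e)) ≠ 0 := neg_ne_zero.mpr (mul_ne_zero h4 hκ)
  obtain ⟨a, b, hab⟩ := h8_sq_add_sq h.two (c / -(4 * B (g' (t u e)) (t u e)))
  have h1 := criterion ht h hzz hez hg' hfix u a
  have h2 := criterion ht h hzz hez hg' hfix u b
  have h3 := X.mul_mem h1 h2
  rw [h8_Tv_mul] at h3
  have e : -(4 * a * a * B (g' (t u e)) (t u e)) + -(4 * b * b * B (g' (t u e)) (t u e)) = c := by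
    have : c = (a * a + b * b) * -(4 * B (g' (t u e)) (t u e)) := by
      rw [hab, div_mul_cancel₀ _ hκ']
    rw [this]
    ring
  rw [e] at h3
  exact h3

end Cfsg.Agent.Helper6.SpO
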