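import Cfsg.Agent.Helper6.SpOA
import Cfsg.Agent.Helper7.TensL3
import Cfsg.Agent.Helper8.TensSB

set_option autoImplicit false
set_option linter.unusedSectionVars false
set_option linter.unusedVariables false

/-! `Sp(U) ⊗ O(W) < Sp(U ⊗ W)` (S5666), helper8, leaf L3U part A: Eichler transformations of the
orthogonal factor, contraction formulas for the form `B`, membership of the root elements. -/

namespace Cfsg.Agent.Helper6.SpO

open Module Cfsg.Agent.Helper7.ExtF Cfsg.Agent.Helper8.Tens Cfsg.Agent.Helper3.TensOm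
  Cfsg.Agent.Helper9.TensFlip

variable {F : Type*} [Field F] {U W V : Type*} [AddCommGroup U] [Module F U]
  [AddCommGroup W] [Module F W] [AddCommGroup V] [Module F V]
  {t : U →ₗ[F] W →ₗ[F] V} {B : LinearMap.BilinForm F V} {f₁ : LinearMap.BilinForm F U}
  {f₂ : LinearMap.BilinForm F W} {X : Subgroup (V ≃ₗ[F] V)}

/-- the Eichler transformation `x ↦ x + f(x,w) y - f(x,y) w - (f(y,y)/2) f(x,w) w`, as a linear
map. -/
def eichL (f : LinearMap.BilinForm F W) (w y : W) : W →ₗ[F] W :=
  LinearMap.id + (f.flip w).smulRight y - (f.flip y).smulRight w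
    - (f y y / 2) • (f.flip w).smulRight w

theorem eichL_apply (f : LinearMap.BilinForm F W) (w y x : W) :
    eichL f w y x = x + f x w • y - f x y • w - (f y y / 2 * f x w) • w := by
  have e1 : (f.flip w) x = f x w := rfl
  have e2 : (f.flip y) x = f x y := rfl
  simp only [eichL, LinearMap.sub_apply, LinearMap.add_apply, LinearMap.id_apply,
    LinearMap.smul_apply, LinearMap.smulRight_apply, e1, e2, smul_smul]

theorem eichL_comp (f : LinearMap.BilinForm F W) (h2 : (2 : F) ≠ 0) {w y : W} (hww : f w w = 0)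
    (hyw : f y w = 0) (hwy : f w y = 0) (x : W) : eichL f w y (eichL f w (-y) x) = x := by
  rw [eichL_apply, eichL_apply]
  simp only [map_add, map_sub, map_neg, map_smul, LinearMap.add_apply, LinearMap.sub_apply,
    LinearMap.neg_apply, LinearMap.smul_apply, smul_eq_mul, hww, hyw, hwy, mul_zero, sub_zero,
    add_zero, neg_zero, smul_neg, neg_neg, neg_smul]
  match_scalars <;> field_simp <;> ring

/-- the Eichler transformation as a linear equivalence. -/
def eich (f : LinearMap.BilinForm F W) (h2 : (2 : F) ≠ 0) {w y : W} (hww : f w w = 0)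
    (hyw : f y w = 0) (hwy : f w y = 0) : W ≃ₗ[F] W :=
  LinearEquiv.ofLinearMap (eichL f w y) (eichL f w (-y))
    (LinearMap.ext fun x => eichL_comp f h2 hww hyw hwy x)
    (LinearMap.ext fun x => by
      have := eichL_comp f h2 (w := w) (y := -y) hww (by rw [map_neg, LinearMap.neg_apply, hyw,
        neg_zero]) (by rw [map_neg, hwy, neg_zero]) x
      rwa [neg_neg] at this)

theorem eich_apply (f : LinearMap.BilinForm F W) (h2 : (2 : F) ≠ 0) {w y : W} (hww : f w w = 0)
    (hyw : f y w = 0) (hwy : f w y = 0) (x : W) :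
    eich f h2 hww hyw hwy x = x + f x w • y - f x y • w - (f y y / 2 * f x w) • w :=
  eichL_apply f w y x

theorem eich_isom (f : LinearMap.BilinForm F W) (h2 : (2 : F) ≠ 0)
    (hsym : ∀ a b, f a b = f b a) {w y : W} (hww : f w w = 0) (hyw : f y w = 0)
    (hwy : f w y = 0) (x x' : W) :
    f (eich f h2 hww hyw hwy x) (eich f h2 hww hyw hwy x') = f x x' := by
  rw [eich_apply, eich_apply]
  simp only [map_add, map_sub, map_smul, LinearMap.add_apply, LinearMap.sub_apply,
    LinearMap.smul_apply, smul_eq_mul, hww, hyw, hwy, mul_zero, sub_zero, add_zero]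
  rw [hsym w x', hsym y x']
  field_simp
  ring

/-- contraction formula for `B` against a pure tensor, first factor. -/
theorem h8_B_pure_evU (ht : IsTensorProduct t) (h : Hyp t B f₁ f₂ X) (x : V) (u : U) (w : W) :
    B x (t u w) = f₂ (evU ht (f₁.flip u) x) w := by
  have : B.flip (t u w) = (f₂.flip w).comp (evU ht (f₁.flip u)) := by
    apply ext_pure ht
    intro u' w'
    rw [LinearMap.comp_apply, evU_t]
    show B (t u' w') (t u w) = f₂ (f₁ u' u • w') w
    rw [h.pol, map_smul, LinearMap.smul_apply, smul_eq_mul]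
  exact LinearMap.congr_fun this x

/-- contraction formula for `B` against a pure tensor, second factor. -/
theorem h8_B_pure_ev (ht : IsTensorProduct t) (h : Hyp t B f₁ f₂ X) (x : V) (u : U) (w : W) :
    B x (t u w) = f₁ (ev ht (f₂.flip w) x) u := by
  have : B.flip (t u w) = (f₁.flip u).comp (ev ht (f₂.flip w)) := by
    apply ext_pure ht
    intro u' w'
    rw [LinearMap.comp_apply, ev_t]
    show B (t u' w') (t u w) = f₁ (f₂ w' w • u') u
    rw [h.pol, map_smul, LinearMap.smul_apply, smul_eq_mul, mul_comm]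
  exact LinearMap.congr_fun this x

theorem h8_mem_SperpU_iff (ht : IsTensorProduct t) (h : Hyp t B f₁ f₂ X) {u : U} {x : V} :
    x ∈ SperpU ht f₁ u ↔ ∀ w, B x (t u w) = 0 := by
  rw [LinearMap.mem_ker]
  constructor
  · intro hx w
    rw [h8_B_pure_evU ht h, hx, map_zero, LinearMap.zero_apply]
  · intro hx
    apply h.nd₂
    intro w
    rw [← h8_B_pure_evU ht h]
    exact hx w

theorem h8_t_mem_SperpU (ht : IsTensorProduct t) {u u' : U} (h0 : f₁ u' u = 0) (w : W) :
    t u' w ∈ SperpU ht f₁ u := by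
  rw [LinearMap.mem_ker, evU_t]
  show f₁ u' u • w = 0
  rw [h0, zero_smul]

/-- an element agreeing on pure tensors with an element of `X` lies in `X`. -/
theorem h8_mem_X_of_pure (ht : IsTensorProduct t) {g g' : V ≃ₗ[F] V} (hg' : g' ∈ X)
    (e : ∀ u w, g' (t u w) = g (t u w)) : g ∈ X := by
  have : g' = g := equiv_ext_pure ht e
  rwa [← this]

/-- the root elements `t_u(c) ⊗ 1` lie in `X`. -/
theorem h8_yA_memX (ht : IsTensorProduct t) (h : Hyp t B f₁ f₂ X) (u : U) (c : F) :
    yA ht f₁ h.alt₁ u c ∈ X := by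
  obtain ⟨g, hg, e⟩ := movSp h (LinearEquiv.transvection (lw_self h.alt₁ u c)) (by
    intro x y
    simp only [LinearEquiv.transvection.apply, lw_apply, map_add, map_smul, LinearMap.add_apply,
      LinearMap.smul_apply, smul_eq_mul, h.alt₁, mul_zero, add_zero]
    rw [alt_skew f₁ h.alt₁ u y]
    ring)
  apply h8_mem_X_of_pure ht hg
  intro u' w
  rw [e, yA_t, LinearEquiv.transvection.apply, lw_apply]

/-- a non-degenerate symmetric form in odd characteristic has a non-singular vector. -/
theorem h8_exists_nonsing (h : Hyp t B f₁ f₂ X) {w₀ : W} (hw₀ : w₀ ≠ 0) : ∃ y : W, f₂ y y ≠ 0 := by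
  by_contra hcon
  push Not at hcon
  apply hw₀
  apply h.nd₂
  intro y
  have h1 := hcon (w₀ + y)
  simp only [map_add, LinearMap.add_apply, hcon w₀, hcon y, zero_add, add_zero] at h1
  rw [h.symm₂ y w₀] at h1
  have h2 : (2 : F) * f₂ w₀ y = 0 := by linear_combination h1
  rcases mul_eq_zero.mp h2 with h3 | h3
  · exact absurd h3 h.two
  · exact h3

/-- expansion of a vector of `V` along a basis of `U`. -/
theorem h8_expansionU (ht : IsTensorProduct t) {ι : Type*} [Fintype ι] (b : Basis ι F U) (Y : V) :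
    Y = ∑ k, t (b k) (evU ht (b.coord k) Y) := by
  have : (LinearMap.id : V →ₗ[F] V) = ∑ k, (t (b k)).comp (evU ht (b.coord k)) := by
    apply ext_pure ht
    intro u w
    rw [LinearMap.id_apply, LinearMap.sum_apply]
    simp only [LinearMap.comp_apply, evU_t, map_smul]
    conv_lhs => rw [← b.sum_repr u]
    rw [map_sum, LinearMap.sum_apply]
    apply Finset.sum_congr rfl
    intro k _
    rw [map_smul, LinearMap.smul_apply]
    rfl
  have e := LinearMap.congr_fun this Y
  rw [LinearMap.id_apply, LinearMap.sum_apply] at e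
  exact e

/-- the action of `1 ⊗ E(w,y)` on an arbitrary vector. -/
theorem eich_tensor (ht : IsTensorProduct t) (f : LinearMap.BilinForm F W) (h2 : (2 : F) ≠ 0)
    {w y : W} (hww : f w w = 0) (hyw : f y w = 0) (hwy : f w y = 0) {ζ : V ≃ₗ[F] V}
    (hζ : ∀ u x, ζ (t u x) = t u (eich f h2 hww hyw hwy x)) (Y : V) :
    ζ Y = Y + t (ev ht (f.flip w) Y) y - t (ev ht (f.flip y) Y) w
      - (f y y / 2) • t (ev ht (f.flip w) Y) w := by
  have : (ζ : V →ₗ[F] V) = LinearMap.id + (t.flip y).comp (ev ht (f.flip w))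
      - (t.flip w).comp (ev ht (f.flip y)) - (f y y / 2) • (t.flip w).comp (ev ht (f.flip w)) := by
    apply ext_pure ht
    intro u x
    have e1 : (f.flip w) x = f x w := rfl
    have e2 : (f.flip y) x = f x y := rfl
    simp only [LinearEquiv.coe_coe, hζ, eich_apply, LinearMap.sub_apply, LinearMap.add_apply,
      LinearMap.id_apply, LinearMap.comp_apply, LinearMap.smul_apply, ev_t, LinearMap.flip_apply,
      e1, e2, map_add, map_sub, map_smul, LinearMap.add_apply, LinearMap.sub_apply, smul_smul]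
  have e := LinearMap.congr_fun this Y
  simpa using e

/-- the square of `1 ⊗ E(w,y) - 1`. -/
theorem eich_tensor_sq (ht : IsTensorProduct t) (f : LinearMap.BilinForm F W) (h2 : (2 : F) ≠ 0)
    {w y : W} (hww : f w w = 0) (hyw : f y w = 0) (hwy : f w y = 0) {ζ : V ≃ₗ[F] V}
    (hζ : ∀ u x, ζ (t u x) = t u (eich f h2 hww hyw hwy x)) (Y : V) :
    ζ (ζ Y - Y) - (ζ Y - Y) = -(f y y) • t (ev ht (f.flip w) Y) w := by
  have e1 : ∀ a b, (f.flip a) b = f b a := fun a b => rfl
  have hD : ζ Y - Y = t (ev ht (f.flip w) Y) y - t (ev ht (f.flip y) Y) w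
      - (f y y / 2) • t (ev ht (f.flip w) Y) w := by
    rw [eich_tensor ht f h2 hww hyw hwy hζ Y]; abel
  rw [eich_tensor ht f h2 hww hyw hwy hζ (ζ Y - Y), hD]
  simp only [map_sub, map_smul, ev_t, e1, hww, hyw, hwy, zero_smul, smul_zero, sub_zero,
    map_zero, add_zero, LinearMap.zero_apply, LinearMap.smul_apply]
  module

end Cfsg.Agent.Helper6.SpO
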