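import Cfsg.Agent.Helper8.SpOL3A

set_option autoImplicit false
set_option linter.unusedSectionVars false
set_option linter.unusedVariables false
set_option maxHeartbeats 1000000

/-! `Sp(U) ⊗ O(W) < Sp(U ⊗ W)` (S5666), helper8, leaf L3U part B: a conjugate (in `X`) of a root
element `t_u(c) ⊗ 1` which stabilises a fibre `u' ⊗ W` is a root element (the "twin fibres"
`1 ⊗ C`, `C` a quadratic unipotent isometry of `W`, are excluded). -/

namespace Cfsg.Agent.Helper6.SpO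

open Module Cfsg.Agent.Helper7.ExtF Cfsg.Agent.Helper8.Tens Cfsg.Agent.Helper3.TensOm
  Cfsg.Agent.Helper9.TensFlip

variable {F : Type*} [Field F] {U W V : Type*} [AddCommGroup U] [Module F U]
  [AddCommGroup W] [Module F W] [AddCommGroup V] [Module F V]
  {t : U →ₗ[F] W →ₗ[F] V} {B : LinearMap.BilinForm F V} {f₁ : LinearMap.BilinForm F U}
  {f₂ : LinearMap.BilinForm F W} {X : Subgroup (V ≃ₗ[F] V)}

/-- the root case: a root element of the first factor lying in `X` is a symplectic root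
element. -/
theorem isRootS_of_isRootB_flip (ht : IsTensorProduct t) (h : Hyp t B f₁ f₂ X) {y₁ : W}
    (hy₁ : f₂ y₁ y₁ ≠ 0) {z : V ≃ₗ[F] V} (hz : z ∈ X) (hr : IsRootB (isTP_flip ht) z) :
    IsRootS (isTP_flip ht) f₁ h.alt₁ z := by
  obtain ⟨u', l, hl, hu', hl0, rfl⟩ := hr
  obtain ⟨us, hus⟩ := exists_pair f₁ h.nd₁ hu'
  have hzt : ∀ a w, xB (isTP_flip ht) u' l hl (t a w) = t (a + l a • u') w := by
    intro a w
    rw [xB_flip ht, xA_t]
  have key : ∀ a a', l a' * f₁ a u' + l a * f₁ u' a' = 0 := by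
    intro a a'
    have e := h.isom _ hz (t a y₁) (t a' y₁)
    rw [hzt, hzt, h.pol, h.pol] at e
    have e2 : f₁ (a + l a • u') (a' + l a' • u') = f₁ a a' := mul_right_cancel₀ hy₁ e
    simp only [map_add, map_smul, LinearMap.add_apply, LinearMap.smul_apply, smul_eq_mul,
      h.alt₁, mul_zero, add_zero] at e2
    linear_combination e2
  obtain ⟨c'', hc''⟩ : ∃ c'' : F, c'' = -(l us) := ⟨_, rfl⟩
  have hform : l = lw f₁ u' c'' := by
    apply LinearMap.ext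
    intro a
    have := key a us
    rw [hus, mul_one] at this
    rw [lw_apply, hc'']
    linear_combination this
  have hc : c'' ≠ 0 := by
    intro h0
    apply hl0
    rw [hform, h0]
    apply LinearMap.ext
    intro a
    rw [lw_apply, zero_mul, LinearMap.zero_apply]
  refine ⟨u', c'', hu', hc, ?_⟩
  rw [yB_flip ht, xB_flip ht]
  clear hc'' key hzt hz
  subst hform
  rfl

section

variable [FiniteDimensional F U] [FiniteDimensional F W] [FiniteDimensional F V]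

/-- the data of a twin: `z = g (t_{u₀}(c) ⊗ 1) g⁻¹ = 1 ⊗ A'`. -/
structure Twin (ht : IsTensorProduct t) (h : Hyp t B f₁ f₂ X) (g : V ≃ₗ[F] V) (u₀ : U) (c : F)
    (N : W →ₗ[F] W) : Prop where
  hzN : ∀ u w, (g * yA ht f₁ h.alt₁ u₀ c * g⁻¹) (t u w) - t u w = t u (N w)
  hNN : ∀ w, N (N w) = 0
  E2 : ∀ w w', f₂ (N w) (N w') = 0
  E3 : ∀ w w', f₂ (N w) w' = - f₂ w (N w')

/-- construction of the twin data. -/
theorem Twin.mk' (ht : IsTensorProduct t) (h : Hyp t B f₁ f₂ X) (ha : 2 ≤ finrank F U)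
    {g : V ≃ₗ[F] V} (hg : g ∈ X) (u₀ : U) (c : F) {A' : W ≃ₗ[F] W}
    (hA' : ∀ u w, (g * yA ht f₁ h.alt₁ u₀ c * g⁻¹) (t u w) = t u (A' w))
    (hquad : ∀ w, A' (A' w) + w = A' w + A' w) :
    Twin ht h g u₀ c ((A' : W →ₗ[F] W) - 1) := by
  have hzX : g * yA ht f₁ h.alt₁ u₀ c * g⁻¹ ∈ X :=
    X.mul_mem (X.mul_mem hg (h8_yA_memX ht h u₀ c)) (X.inv_mem hg)
  have hN : ∀ w, ((A' : W →ₗ[F] W) - 1) w = A' w - w := fun w => rfl
  obtain ⟨a, ha0⟩ := exists_ne_zero_of_one_le (F := F) (M := U) (by omega)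
  obtain ⟨a', haa'⟩ := exists_pair f₁ h.nd₁ ha0
  have hiso : ∀ w w', f₂ (A' w) (A' w') = f₂ w w' := by
    intro w w'
    have e := h.isom _ hzX (t a w) (t a' w')
    rw [hA', hA', h.pol, h.pol, haa', one_mul, one_mul] at e
    exact e
  have hNN : ∀ w, ((A' : W →ₗ[F] W) - 1) (((A' : W →ₗ[F] W) - 1) w) = 0 := by
    intro w
    rw [hN, hN, map_sub]
    have := hquad w
    have e2 : A' (A' w) = A' w + A' w - w := by rw [← this]; abel
    rw [e2]; abel
  have E1 : ∀ w w', f₂ w (((A' : W →ₗ[F] W) - 1) w') + f₂ (((A' : W →ₗ[F] W) - 1) w) w'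
      + f₂ (((A' : W →ₗ[F] W) - 1) w) (((A' : W →ₗ[F] W) - 1) w') = 0 := by
    intro w w'
    have := hiso w w'
    simp only [hN, map_sub, LinearMap.sub_apply]
    linear_combination this
  have E2 : ∀ w w', f₂ (((A' : W →ₗ[F] W) - 1) w) (((A' : W →ₗ[F] W) - 1) w') = 0 := by
    intro w w'
    have e4 := E1 w (((A' : W →ₗ[F] W) - 1) w')
    rw [hNN, map_zero, zero_add, map_zero, add_zero] at e4
    exact e4
  refine ⟨fun u w => ?_, hNN, E2, fun w w' => ?_⟩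
  · rw [hA', hN, map_sub]
  · have := E1 w w'
    rw [E2, add_zero] at this
    linear_combination this

variable {ht : IsTensorProduct t} {h : Hyp t B f₁ f₂ X} {g : V ≃ₗ[F] V} {u₀ : U} {c : F}
  {N : W →ₗ[F] W}

/-- `z - 1 = 1 ⊗ N`. -/
theorem Twin.z_sub (T : Twin ht h g u₀ c N) (Y : V) :
    (g * yA ht f₁ h.alt₁ u₀ c * g⁻¹) Y - Y = tl ht 1 N Y := by
  have : (((g * yA ht f₁ h.alt₁ u₀ c * g⁻¹ : V ≃ₗ[F] V) : V →ₗ[F] V) - 1) = tl ht 1 N := by
    apply ext_pure ht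
    intro u w
    rw [LinearMap.sub_apply, tl_t]
    exact T.hzN u w
  exact LinearMap.congr_fun this Y

/-- contraction of a displacement. -/
theorem Twin.ev_disp (T : Twin ht h g u₀ c N) (x : W) (Y : V) :
    ev ht (f₂.flip x) ((g * yA ht f₁ h.alt₁ u₀ c * g⁻¹) Y - Y) = - ev ht (f₂.flip (N x)) Y := by
  rw [T.z_sub]
  have : (ev ht (f₂.flip x)).comp (tl ht 1 N) = - ev ht (f₂.flip (N x)) := by
    apply ext_pure ht
    intro u w
    rw [LinearMap.comp_apply, tl_t, ev_t, LinearMap.neg_apply, ev_t]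
    show f₂ (N w) x • (1 : Module.End F U) u = -(f₂ w (N x) • u)
    rw [T.E3, neg_smul]
    rfl
  exact LinearMap.congr_fun this Y

theorem Twin.zfix (T : Twin ht h g u₀ c N) {Y : V}
    (hY : (g * yA ht f₁ h.alt₁ u₀ c * g⁻¹) Y = Y) (x : W) : ev ht (f₂.flip (N x)) Y = 0 := by
  have := T.ev_disp x Y
  rw [hY, sub_self, map_zero] at this
  exact neg_eq_zero.mp this.symm

theorem Twin.zfixU (T : Twin ht h g u₀ c N) {Y : V}
    (hY : (g * yA ht f₁ h.alt₁ u₀ c * g⁻¹) Y = Y) (α : Module.Dual F U) :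
    N (evU ht α Y) = 0 := by
  have : N.comp (evU ht α) = (evU ht α).comp (tl ht 1 N) := by
    apply ext_pure ht
    intro u w
    rw [LinearMap.comp_apply, LinearMap.comp_apply, tl_t, evU_t, evU_t, map_smul]
    rfl
  have e := LinearMap.congr_fun this Y
  rw [LinearMap.comp_apply, LinearMap.comp_apply, ← T.z_sub, hY, sub_self, map_zero] at e
  exact e

theorem Twin.gfix (T : Twin ht h g u₀ c N) {x : V} (hx : x ∈ SperpU ht f₁ u₀) :
    (g * yA ht f₁ h.alt₁ u₀ c * g⁻¹) (g x) = g x := by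
  have hx' : evU ht (f₁.flip u₀) x = 0 := LinearMap.mem_ker.mp hx
  rw [LinearEquiv.mul_apply, LinearEquiv.mul_apply, inv_apply_self, yA_apply, lw, evU_smul,
    LinearMap.smul_apply, hx', smul_zero, map_zero, add_zero]

theorem Twin.dispz (T : Twin ht h g u₀ c N) (Y : V) :
    ∃ w, (g * yA ht f₁ h.alt₁ u₀ c * g⁻¹) Y - Y = g (t u₀ w) := by
  refine ⟨evU ht (lw f₁ u₀ c) (g⁻¹ Y), ?_⟩
  rw [LinearEquiv.mul_apply, LinearEquiv.mul_apply, yA_apply, map_add, apply_inv_self]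
  abel

theorem Twin.gdisp (T : Twin ht h g u₀ c N) (hu₀ : u₀ ≠ 0) (hc : c ≠ 0) (w : W) :
    ∃ Y, g (t u₀ w) = (g * yA ht f₁ h.alt₁ u₀ c * g⁻¹) Y - Y := by
  obtain ⟨us, hus⟩ := exists_pair f₁ h.nd₁ hu₀
  have hus' : f₁ us u₀ = -1 := by rw [alt_skew f₁ h.alt₁, hus]
  refine ⟨g (t us ((-c⁻¹) • w)), ?_⟩
  rw [LinearEquiv.mul_apply, LinearEquiv.mul_apply, inv_apply_self, yA_t, ← map_sub, hus']
  congr 1
  simp only [map_add, map_smul, LinearMap.add_apply, LinearMap.smul_apply]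
  have : -c⁻¹ * (c * -1) = 1 := by field_simp
  rw [smul_add, add_sub_cancel_left, smul_smul, this, one_smul]

/-- the nilpotent part of a twin has rank at least two. -/
theorem Twin.rank2 (T : Twin ht h g u₀ c N) (hu₀ : u₀ ≠ 0) (hc : c ≠ 0) {y₁ : W}
    (hy₁ : y₁ ≠ 0) : ∃ x₁ x₂, N x₁ ≠ 0 ∧ ∀ a : F, N x₂ ≠ a • N x₁ := by
  have hN0 : ∃ x₁, N x₁ ≠ 0 := by
    by_contra hcon
    push Not at hcon
    obtain ⟨us, hus⟩ := exists_pair f₁ h.nd₁ hu₀
    have hus' : f₁ us u₀ = -1 := by rw [alt_skew f₁ h.alt₁, hus]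
    have hN : N = 0 := LinearMap.ext hcon
    have hz1 := T.z_sub (g (t us y₁))
    rw [hN, tl_zero_right, LinearMap.zero_apply, sub_eq_zero, LinearEquiv.mul_apply,
      LinearEquiv.mul_apply, inv_apply_self, yA_t, hus'] at hz1
    have e := g.injective hz1
    rw [map_add, LinearMap.add_apply, add_eq_left, map_smul, LinearMap.smul_apply,
      smul_eq_zero] at e
    rcases e with e | e
    · rcases mul_eq_zero.mp e with e | e
      · exact hc e
      · exact one_ne_zero (neg_eq_zero.mp e)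
    · rcases (t_eq_zero_iff ht).mp e with e | e
      · exact hu₀ e
      · exact hy₁ e
  obtain ⟨x₁, hx₁⟩ := hN0
  refine ⟨x₁, ?_⟩
  by_contra hcon
  push Not at hcon
  have hex : ∃ y, f₂ (N x₁) y ≠ 0 := by
    by_contra hc2
    push Not at hc2
    exact hx₁ (h.nd₂ _ hc2)
  obtain ⟨y, hy⟩ := hex
  obtain ⟨a, ha⟩ := hcon y hx₁
  have e1 := T.E3 y y
  rw [ha, map_smul, LinearMap.smul_apply, map_smul, smul_eq_mul, smul_eq_mul, h.symm₂ y (N x₁)]
    at e1
  have ha0 : a = 0 := by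
    have : (2 : F) * (a * f₂ (N x₁) y) = 0 := by linear_combination e1
    rcases mul_eq_zero.mp this with h3 | h3
    · exact absurd h3 h.two
    · rcases mul_eq_zero.mp h3 with h4 | h4
      · exact h4
      · exact absurd h4 hy
  have e2 := T.E3 x₁ y
  rw [ha, ha0, zero_smul, map_zero] at e2
  exact hy (by rw [e2, neg_zero])

/-- exclusion of twins when `2 dim U < dim W` (uses only LQ). -/
theorem Twin.false_of_lt (T : Twin ht h g u₀ c N) (hg : g ∈ X) (hu₀ : u₀ ≠ 0) (hc : c ≠ 0)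
    (ha : 1 ≤ finrank F U) (hab : 2 * finrank F U < finrank F W)
    (hLQ : ∀ u : U, u ≠ 0 → ∀ g ∈ X, InQU ht f₁ u g → ∃ c : F, g = yA ht f₁ h.alt₁ u c) :
    False := by
  obtain ⟨y₁, hy₁⟩ := exists_ne_zero_of_one_le (F := F) (M := W) (by omega)
  obtain ⟨a₁, ha₁⟩ := exists_ne_zero_of_one_le (F := F) (M := U) ha
  obtain ⟨x₁, x₂, hw₁, hind⟩ := T.rank2 hu₀ hc hy₁
  have hw₂ : N x₂ ≠ 0 := by
    have := hind 0
    rwa [zero_smul] at this
  have hww : f₂ (N x₁) (N x₁) = 0 := T.E2 _ _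
  have hyw : f₂ (N x₂) (N x₁) = 0 := T.E2 _ _
  have hwy : f₂ (N x₁) (N x₂) = 0 := T.E2 _ _
  obtain ⟨ζ, hζX, hζ⟩ := movO h (eich f₂ h.two hww hyw hwy)
    (eich_isom f₂ h.two h.symm₂ hww hyw hwy)
  have hζfix : ∀ Y, (g * yA ht f₁ h.alt₁ u₀ c * g⁻¹) Y = Y → ζ Y = Y := by
    intro Y hY
    rw [eich_tensor ht f₂ h.two hww hyw hwy hζ Y, T.zfix hY x₁, T.zfix hY x₂]
    simp
  have hζ'X : g⁻¹ * ζ * g ∈ X := X.mul_mem (X.mul_mem (X.inv_mem hg) hζX) hg
  have hQ : InQU ht f₁ u₀ (g⁻¹ * ζ * g) := by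
    intro x hx
    rw [LinearEquiv.mul_apply, LinearEquiv.mul_apply, hζfix _ (T.gfix hx), inv_apply_self]
  obtain ⟨c', hc'⟩ := hLQ u₀ hu₀ _ hζ'X hQ
  have hζeq : ζ = g * yA ht f₁ h.alt₁ u₀ c' * g⁻¹ := by
    rw [← hc']; group
  by_cases hc0 : c' = 0
  · have h1 : yA ht f₁ h.alt₁ u₀ c' = 1 := by
      apply equiv_ext_pure ht
      intro u w
      rw [yA_t, hc0, zero_mul, zero_smul, add_zero]
      rfl
    have hζ1 : ζ = 1 := by rw [hζeq, h1]; group
    have hex : ∃ x₃, f₂ (N x₁) x₃ ≠ 0 := by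
      by_contra hc2
      push Not at hc2
      exact hw₁ (h.nd₂ _ hc2)
    obtain ⟨x₃, hx₃⟩ := hex
    have e0 := hζ a₁ x₃
    rw [hζ1] at e0
    have e : x₃ = eich f₂ h.two hww hyw hwy x₃ := t_right_injective ht ha₁ e0
    rw [eich_apply, h.symm₂ x₃ (N x₁)] at e
    apply hind ((f₂ (N x₁) x₃)⁻¹ * (f₂ x₃ (N x₂) + f₂ (N x₂) (N x₂) / 2 * f₂ (N x₁) x₃))
    have e' : f₂ (N x₁) x₃ • N x₂
        = (f₂ x₃ (N x₂) + f₂ (N x₂) (N x₂) / 2 * f₂ (N x₁) x₃) • N x₁ := by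
      have e2 : x₃ + f₂ (N x₁) x₃ • N x₂ - f₂ x₃ (N x₂) • N x₁
          - (f₂ (N x₂) (N x₂) / 2 * f₂ (N x₁) x₃) • N x₁ - x₃ = 0 := by
        rw [← e, sub_self]
      rw [add_smul]
      have e3 : f₂ (N x₁) x₃ • N x₂ - f₂ x₃ (N x₂) • N x₁
          - (f₂ (N x₂) (N x₂) / 2 * f₂ (N x₁) x₃) • N x₁ = 0 := by
        rw [← e2]; abel
      rw [sub_sub, sub_eq_zero] at e3
      exact e3
    rw [mul_smul, ← e', smul_smul, inv_mul_cancel₀ hx₃, one_smul]
  · have hd' : disp (yA ht f₁ h.alt₁ u₀ c') = fib t.flip u₀ := by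
      rw [← yB_flip ht]
      exact disp_yB (isTP_flip ht) h.alt₁ h.nd₁ hu₀ hc0
    have hd : disp ζ = img g (fib t.flip u₀) := by rw [hζeq, disp_conj, hd']
    have hfin : finrank F ↥(disp ζ) = finrank F W := by
      rw [hd, finrank_img, finrank_fib (isTP_flip ht) hu₀]
    have hle : disp ζ ≤ fib t (N x₁) ⊔ fib t (N x₂) := by
      intro v hv
      obtain ⟨r, rfl⟩ := mem_disp.mp hv
      rw [eich_tensor ht f₂ h.two hww hyw hwy hζ r]
      have e : r + t (ev ht (f₂.flip (N x₁)) r) (N x₂) - t (ev ht (f₂.flip (N x₂)) r) (N x₁)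
          - (f₂ (N x₂) (N x₂) / 2) • t (ev ht (f₂.flip (N x₁)) r) (N x₁) - r
          = (- t (ev ht (f₂.flip (N x₂)) r) (N x₁)
            - (f₂ (N x₂) (N x₂) / 2) • t (ev ht (f₂.flip (N x₁)) r) (N x₁))
            + t (ev ht (f₂.flip (N x₁)) r) (N x₂) := by abel
      rw [e]
      apply Submodule.add_mem_sup
      · apply Submodule.sub_mem
        · exact Submodule.neg_mem _ (t_mem_fib _ _)
        · exact Submodule.smul_mem _ _ (t_mem_fib _ _)
      · exact t_mem_fib _ _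
    have h1 := Submodule.finrank_mono hle
    have h2 := Submodule.finrank_add_le_finrank_add_finrank (fib t (N x₁)) (fib t (N x₂))
    rw [finrank_fib ht hw₁, finrank_fib ht hw₂] at h2
    omega

end

end Cfsg.Agent.Helper6.SpO
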