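import Cfsg.Agent.Helper8.SpOL3B

set_option autoImplicit false
set_option linter.unusedSectionVars false
set_option linter.unusedVariables false
set_option maxHeartbeats 1000000

/-!
# S5666, leaf L3U, part C: exclusion of twins for `dim U ≥ 3`, and `rootHypU`
-/

namespace Cfsg.Agent.Helper6.SpO

open Module Cfsg.Agent.Helper7.ExtF Cfsg.Agent.Helper8.Tens Cfsg.Agent.Helper3.TensOm
open Cfsg.Agent.Helper9.TensFlip

variable {F : Type*} [Field F] {U W V : Type*} [AddCommGroup U] [Module F U]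
  [AddCommGroup W] [Module F W] [AddCommGroup V] [Module F V]
  {t : U →ₗ[F] W →ₗ[F] V} {B : LinearMap.BilinForm F V} {f₁ : LinearMap.BilinForm F U}
  {f₂ : LinearMap.BilinForm F W} {X : Subgroup (V ≃ₗ[F] V)}
  [FiniteDimensional F U] [FiniteDimensional F W] [FiniteDimensional F V]
  {ht : IsTensorProduct t} {h : Hyp t B f₁ f₂ X} {g : V ≃ₗ[F] V} {u₀ : U} {c : F}
  {N : W →ₗ[F] W}

/-- for `dim U ≥ 3` the kernel of the nilpotent part of a twin contains a non-singular vector. -/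
theorem Twin.exists_ker_nonsing (T : Twin ht h g u₀ c N) (hg : g ∈ X) (hu₀ : u₀ ≠ 0)
    (ha : 3 ≤ finrank F U) {y₁ : W} (hy₁ : f₂ y₁ y₁ ≠ 0) : ∃ y₀, N y₀ = 0 ∧ f₂ y₀ y₀ ≠ 0 := by
  by_contra hcon
  push Not at hcon
  have hpol : ∀ y y', N y = 0 → N y' = 0 → f₂ y y' = 0 := by
    intro y y' hy hy'
    have h1 := hcon (y + y') (by rw [map_add, hy, hy', add_zero])
    simp only [map_add, LinearMap.add_apply, hcon y hy, hcon y' hy', zero_add, add_zero] at h1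
    rw [h.symm₂ y' y] at h1
    have h2 : (2 : F) * f₂ y y' = 0 := by linear_combination h1
    rcases mul_eq_zero.mp h2 with h3 | h3
    · exact absurd h3 h.two
    · exact h3
  have hB0 : ∀ Y Y', (g * yA ht f₁ h.alt₁ u₀ c * g⁻¹) Y = Y →
      (g * yA ht f₁ h.alt₁ u₀ c * g⁻¹) Y' = Y' → B Y Y' = 0 := by
    intro Y Y' hY hY'
    have e := h8_expansionU ht (Module.finBasis F U) Y'
    rw [e, map_sum]
    apply Finset.sum_eq_zero
    intro k _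
    rw [h8_B_pure_evU ht h]
    exact hpol _ _ (T.zfixU hY _) (T.zfixU hY' _)
  obtain ⟨us, hus⟩ := exists_pair f₁ h.nd₁ hu₀
  have hus' : f₁ us u₀ = -1 := by rw [alt_skew f₁ h.alt₁, hus]
  obtain ⟨u₂, hu₂, h20, h2s⟩ : ∃ u₂ : U, u₂ ≠ 0 ∧ f₁ u₂ u₀ = 0 ∧ f₁ u₂ us = 0 := by
    have hker : LinearMap.ker ((f₁.flip u₀).prod (f₁.flip us)) ≠ ⊥ := by
      apply LinearMap.ker_ne_bot_of_finrank_lt
      rw [Module.finrank_prod, Module.finrank_self]; omega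
    obtain ⟨u₂, hu₂k, hu₂⟩ := Submodule.exists_mem_ne_zero_of_ne_bot hker
    have := LinearMap.mem_ker.mp hu₂k
    rw [LinearMap.prod_apply] at this
    have h' := Prod.mk_eq_zero.mp this
    exact ⟨u₂, hu₂, h'.1, h'.2⟩
  obtain ⟨v, hv⟩ : ∃ v, f₁ u₂ v ≠ 0 := by
    by_contra hc2
    push Not at hc2
    exact hu₂ (h.nd₁ _ hc2)
  have h30 : f₁ (v + f₁ v u₀ • us) u₀ = 0 := by
    rw [map_add, LinearMap.add_apply, map_smul, LinearMap.smul_apply, hus', smul_eq_mul]; ring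
  have h23 : f₁ u₂ (v + f₁ v u₀ • us) ≠ 0 := by
    rw [map_add, map_smul, h2s, smul_zero, add_zero]; exact hv
  have e1 := hB0 (g (t u₂ y₁)) (g (t (v + f₁ v u₀ • us) y₁)) (T.gfix (h8_t_mem_SperpU ht h20 y₁))
    (T.gfix (h8_t_mem_SperpU ht h30 y₁))
  rw [h.isom g hg, h.pol] at e1
  rcases mul_eq_zero.mp e1 with e | e
  · exact h23 e
  · exact hy₁ e

/-- exclusion of twins when `3 ≤ dim U` (uses `A2`). -/
theorem Twin.false_of_ge (T : Twin ht h g u₀ c N) (hg : g ∈ X) (hu₀ : u₀ ≠ 0) (hc : c ≠ 0)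
    (ha : 3 ≤ finrank F U) (hb : 1 ≤ finrank F W)
    (hA2 : ∀ u : U, u ≠ 0 → ∀ g ∈ X, InRU ht f₁ u g → IsTens t g) : False := by
  obtain ⟨y₁', hy₁'⟩ := exists_ne_zero_of_one_le (F := F) (M := W) hb
  obtain ⟨y₁, hy₁⟩ := h8_exists_nonsing h hy₁'
  have hy₁0 : y₁ ≠ 0 := by
    rintro rfl
    exact hy₁ (by simp)
  obtain ⟨a₁, ha₁⟩ := exists_ne_zero_of_one_le (F := F) (M := U) (by omega)
  obtain ⟨x₁, x₂, hw₁, hind⟩ := T.rank2 hu₀ hc hy₁0
  obtain ⟨y₀, hNy₀, hν⟩ := T.exists_ker_nonsing hg hu₀ ha hy₁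
  have hww : f₂ (N x₁) (N x₁) = 0 := T.E2 _ _
  have hyw : f₂ y₀ (N x₁) = 0 := by
    have := T.E3 y₀ x₁
    rw [hNy₀, map_zero, LinearMap.zero_apply] at this
    exact neg_eq_zero.mp this.symm
  have hwy : f₂ (N x₁) y₀ = 0 := by rw [h.symm₂, hyw]
  obtain ⟨ζ, hζX, hζ⟩ := movO h (eich f₂ h.two hww hyw hwy)
    (eich_isom f₂ h.two h.symm₂ hww hyw hwy)
  have hflip0 : ev ht (f₂.flip (0 : W)) = 0 := by rw [map_zero]; exact ev_zero ht
  -- (1) `ζ` fixes the displacements of `z`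
  have hζD : ∀ Y, ζ ((g * yA ht f₁ h.alt₁ u₀ c * g⁻¹) Y - Y)
      = (g * yA ht f₁ h.alt₁ u₀ c * g⁻¹) Y - Y := by
    intro Y
    rw [eich_tensor ht f₂ h.two hww hyw hwy hζ ((g * yA ht f₁ h.alt₁ u₀ c * g⁻¹) Y - Y),
      T.ev_disp, T.ev_disp, T.hNN, hNy₀, hflip0]
    simp
  -- (2) on `g (u₀^⊥ ⊗ W)` the displacement of `ζ` lies in `g (u₀ ⊗ W)`
  have hζS : ∀ x ∈ SperpU ht f₁ u₀, ∃ w, ζ (g x) - g x = g (t u₀ w) := by
    intro x hx
    have hfix := T.gfix hx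
    obtain ⟨w, hw⟩ := T.dispz (t (ev ht (f₂.flip y₀) (g x)) x₁)
    rw [T.hzN] at hw
    refine ⟨-w, ?_⟩
    rw [eich_tensor ht f₂ h.two hww hyw hwy hζ (g x), T.zfix hfix x₁, map_neg, map_neg, ← hw]
    simp
  have hζ'X : g⁻¹ * ζ * g ∈ X := X.mul_mem (X.mul_mem (X.inv_mem hg) hζX) hg
  have hR : InRU ht f₁ u₀ (g⁻¹ * ζ * g) := by
    constructor
    · intro x hx
      obtain ⟨w, rfl⟩ := mem_fibU.mp hx
      obtain ⟨Y, hY⟩ := T.gdisp hu₀ hc w
      rw [LinearEquiv.mul_apply, LinearEquiv.mul_apply, hY, hζD, ← hY, inv_apply_self]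
    · intro x hx
      obtain ⟨w, hw⟩ := hζS x hx
      rw [mem_fibU]
      refine ⟨w, ?_⟩
      rw [LinearEquiv.mul_apply, LinearEquiv.mul_apply]
      have : ζ (g x) = g x + g (t u₀ w) := by rw [← hw]; abel
      rw [this, map_add, inv_apply_self, inv_apply_self]; abel
  -- (c) `A2`
  obtain ⟨A₁, C₁, hAC⟩ := hA2 u₀ hu₀ _ hζ'X hR
  obtain ⟨α, hα⟩ := exists_dual_eq_one (F := F) hu₀
  have hC : ∀ x, x = α (A₁ u₀) • C₁ x := by
    intro x
    have e := hAC u₀ x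
    rw [hR.1 _ (mem_fibU.mpr ⟨x, rfl⟩)] at e
    have e' := congrArg (evU ht α) e
    rw [evU_t, evU_t, hα, one_smul] at e'
    exact e'
  have hl : α (A₁ u₀) ≠ 0 := by
    intro h0
    have := hC y₁
    rw [h0, zero_smul] at this
    exact hy₁0 this
  have hC' : ∀ x, C₁ x = (α (A₁ u₀))⁻¹ • x := by
    intro x
    conv_rhs => rw [hC x]
    rw [smul_smul, inv_mul_cancel₀ hl, one_smul]
  obtain ⟨D', hE⟩ : ∃ D' : U →ₗ[F] U,
      ∀ a x, (g⁻¹ * ζ * g) (t a x) - t a x = t (D' a) x := by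
    refine ⟨(α (A₁ u₀))⁻¹ • (A₁ : U →ₗ[F] U) - 1, fun a x => ?_⟩
    show _ = t ((α (A₁ u₀))⁻¹ • A₁ a - a) x
    rw [hAC, hC', map_smul, map_sub, LinearMap.sub_apply, map_smul, LinearMap.smul_apply]
  have hEperp : ∀ v, (g⁻¹ * ζ * g) v - v ∈ SperpU ht f₁ u₀ := by
    intro v
    rw [h8_mem_SperpU_iff ht h]
    intro w
    rw [map_sub, LinearMap.sub_apply, sub_eq_zero]
    conv_lhs => rw [← hR.1 (t u₀ w) (mem_fibU.mpr ⟨w, rfl⟩)]
    exact h.isom _ hζ'X v (t u₀ w)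
  have hDD : ∀ a, ∃ k : F, D' (D' a) = k • u₀ := by
    intro a
    have h1 := hEperp (t a y₁)
    rw [hE] at h1
    have h2 := hR.2 _ h1
    rw [hE] at h2
    exact span_of_t_mem_fib (isTP_flip ht) hy₁0 h2
  have hconj : ∀ v, g ((g⁻¹ * ζ * g) v - v) = ζ (g v) - g v := by
    intro v
    rw [map_sub, LinearEquiv.mul_apply, LinearEquiv.mul_apply, apply_inv_self]
  have hsq : ∀ v, ζ (ζ (g v) - g v) - (ζ (g v) - g v)
      = g ((g⁻¹ * ζ * g) ((g⁻¹ * ζ * g) v - v) - ((g⁻¹ * ζ * g) v - v)) := by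
    intro v
    rw [hconj, hconj]
  by_cases hk : ∀ a, D' (D' a) = 0
  · have hEE : ∀ v, (g⁻¹ * ζ * g) ((g⁻¹ * ζ * g) v - v) - ((g⁻¹ * ζ * g) v - v) = 0 := by
      have : (((g⁻¹ * ζ * g : V ≃ₗ[F] V) : V →ₗ[F] V) - 1).comp
          (((g⁻¹ * ζ * g : V ≃ₗ[F] V) : V →ₗ[F] V) - 1) = 0 := by
        apply ext_pure ht
        intro a x
        show (g⁻¹ * ζ * g) ((g⁻¹ * ζ * g) (t a x) - t a x) - ((g⁻¹ * ζ * g) (t a x) - t a x) = 0
        rw [hE, hE, hk, map_zero, LinearMap.zero_apply]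
      intro v
      exact LinearMap.congr_fun this v
    obtain ⟨x₃, hx₃⟩ : ∃ x₃, f₂ x₃ (N x₁) ≠ 0 := by
      by_contra hc2
      push Not at hc2
      apply hw₁
      apply h.nd₂
      intro y
      rw [h.symm₂]
      exact hc2 y
    have e1 := hsq (g⁻¹ (t a₁ x₃))
    rw [hEE, map_zero, apply_inv_self, eich_tensor_sq ht f₂ h.two hww hyw hwy hζ, ev_t] at e1
    rcases smul_eq_zero.mp e1 with e | e
    · exact hν (neg_eq_zero.mp e)
    · rcases (t_eq_zero_iff ht).mp e with e | e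
      · rcases smul_eq_zero.mp e with e | e
        · exact hx₃ e
        · exact ha₁ e
      · exact hw₁ e
  · push Not at hk
    obtain ⟨a, hka⟩ := hk
    obtain ⟨k, hk'⟩ := hDD a
    have hk0 : k ≠ 0 := by
      rintro rfl
      rw [zero_smul] at hk'
      exact hka hk'
    have hin : ∀ x, g (t u₀ x) ∈ fib t (N x₁) := by
      intro x
      have e1 := hsq (t a x)
      rw [hE, hE, hk', eich_tensor_sq ht f₂ h.two hww hyw hwy hζ] at e1
      have e2 : g (t u₀ x) = k⁻¹ • g (t (k • u₀) x) := by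
        rw [map_smul, LinearMap.smul_apply, map_smul, smul_smul, inv_mul_cancel₀ hk0, one_smul]
      rw [e2, ← e1]
      exact Submodule.smul_mem _ _ (Submodule.smul_mem _ _ (t_mem_fib _ _))
    obtain ⟨w, hw⟩ := T.dispz (t a₁ x₂)
    rw [T.hzN] at hw
    have hmem : t a₁ (N x₂) ∈ fib t (N x₁) := by rw [hw]; exact hin w
    obtain ⟨c', hc'⟩ := span_of_t_mem_fib ht ha₁ hmem
    exact hind c' hc'

/-- **Leaf L3U**: the root hypothesis for the `U`-fibres. -/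
theorem rootHypU (ht : IsTensorProduct t) (h : Hyp t B f₁ f₂ X) (ha : 2 ≤ finrank F U)
    (hb : 3 ≤ finrank F W) (hn : 14 ≤ finrank F U * finrank F W)
    (hLQ : ∀ u : U, u ≠ 0 → ∀ g ∈ X, InQU ht f₁ u g → ∃ c : F, g = yA ht f₁ h.alt₁ u c)
    (hA2 : ∀ u : U, u ≠ 0 → ∀ g ∈ X, InRU ht f₁ u g → IsTens t g)
    (hstab : ∀ u : U, u ≠ 0 → ∀ g ∈ X, img g (fibU t u) = fibU t u → IsTens t g) :
    RootHypS (Cfsg.Agent.Helper9.TensFlip.isTP_flip ht) f₁ h.alt₁ X := by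
  intro g hg x hx u₁ hu₁ hst
  obtain ⟨u₀, c, hu₀, hc, rfl⟩ := hx
  have hyX : yB (isTP_flip ht) f₁ h.alt₁ u₀ c ∈ X := by
    rw [yB_flip]; exact h8_yA_memX ht h u₀ c
  have hzX : g * yB (isTP_flip ht) f₁ h.alt₁ u₀ c * g⁻¹ ∈ X :=
    X.mul_mem (X.mul_mem hg hyX) (X.inv_mem hg)
  have hT : IsTens t (g * yB (isTP_flip ht) f₁ h.alt₁ u₀ c * g⁻¹) := hstab u₁ hu₁ _ hzX hst
  have hq : Quad (g * yB (isTP_flip ht) f₁ h.alt₁ u₀ c * g⁻¹) :=
    quad_conj (quad_xB (isTP_flip ht) u₀ _ _) g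
  have hr : finrank F ↥(disp (g * yB (isTP_flip ht) f₁ h.alt₁ u₀ c * g⁻¹)) = finrank F W := by
    rw [disp_conj, finrank_img, disp_yB (isTP_flip ht) h.alt₁ h.nd₁ hu₀ hc,
      finrank_fib (isTP_flip ht) hu₀]
  obtain ⟨y₁', hy₁'⟩ := exists_ne_zero_of_one_le (F := F) (M := W) (by omega)
  obtain ⟨y₁, hy₁⟩ := h8_exists_nonsing h hy₁'
  rcases Cfsg.Agent.Helper7.TensL3.isRootB_or_twin (isTP_flip ht) h.two (by omega) (by omega)
    (isTens_flip_iff.mpr hT) hq hr with hroot | ⟨A', hA', hquad⟩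
  · exact isRootS_of_isRootB_flip ht h hy₁ hzX hroot
  · exfalso
    have hA'' : ∀ u w, (g * yA ht f₁ h.alt₁ u₀ c * g⁻¹) (t u w) = t u (A' w) := by
      intro u w
      rw [← yB_flip ht]
      exact hA' w u
    have T := Twin.mk' ht h ha hg u₀ c hA'' hquad
    by_cases h3 : 3 ≤ finrank F U
    · exact T.false_of_ge hg hu₀ hc h3 (by omega) hA2
    · have h2 : finrank F U = 2 := by omega
      rw [h2] at hn
      exact T.false_of_lt hg hu₀ hc (by omega) (by omega) hLQ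

end Cfsg.Agent.Helper6.SpO
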