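import Cfsg.Agent.Helper8.SpOL3A
import Cfsg.Agent.Helper5.TensSpSeedBridge

set_option autoImplicit false
set_option linter.unusedSectionVars false
set_option linter.unusedVariables false

/-!
# S5666: membership facts in the `Hyp` framework (Siegel elements, reflections, root elements)
-/

namespace Cfsg.Agent.Helper6.SpO

open Module Cfsg.Agent.Helper7.ExtF Cfsg.Agent.Helper8.Tens Cfsg.Agent.Helper3.TensOm

variable {F : Type*} [Field F] {U W V : Type*} [AddCommGroup U] [Module F U]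
  [AddCommGroup W] [Module F W] [AddCommGroup V] [Module F V]
  {t : U →ₗ[F] W →ₗ[F] V} {B : LinearMap.BilinForm F V} {f₁ : LinearMap.BilinForm F U}
  {f₂ : LinearMap.BilinForm F W} {X : Subgroup (V ≃ₗ[F] V)}

/-- (i) the Siegel elements `1 ⊗ ρ_{z,e}` lie in `X`. -/
theorem h8_exists_siegel (h : Hyp t B f₁ f₂ X) {z e : W} (hzz : f₂ z z = 0) (hze : f₂ z e = 0) :
    ∃ σ ∈ X, ∀ u w, σ (t u w)
      = t u (w + f₂ w z • e - f₂ w e • z - (f₂ e e / 2 * f₂ w z) • z) := by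
  have hez : f₂ e z = 0 := by rw [h.symm₂, hze]
  obtain ⟨σ, hσX, hσ⟩ := movO h (eich f₂ h.two hzz hez hze)
    (eich_isom f₂ h.two h.symm₂ hzz hez hze)
  refine ⟨σ, hσX, fun u w => ?_⟩
  rw [hσ, eich_apply]

/-- (ii) the reflections `1 ⊗ r_y` lie in `X`. -/
theorem h8_exists_refl (h : Hyp t B f₁ f₂ X) {y : W} (hy : f₂ y y ≠ 0) :
    ∃ r ∈ X, ∀ u w, r (t u w) = t u (w - (2 * f₂ w y / f₂ y y) • y) := by
  obtain ⟨C, hC, hCi⟩ := Cfsg.Agent.Helper5.TensSpFin.exists_reflection_equiv h.symm₂ hy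
  obtain ⟨r, hrX, hr⟩ := movO h C hCi
  refine ⟨r, hrX, fun u w => ?_⟩
  rw [hr, hC]

/-- (iii) the root elements `t_e(c) ⊗ 1` lie in `X`. -/
theorem h8_exists_root (ht : IsTensorProduct t) (h : Hyp t B f₁ f₂ X) (e : U) (c : F) :
    ∃ g ∈ X, ∀ u w, g (t u w) = t (u + (c * f₁ u e) • e) w :=
  ⟨yA ht f₁ h.alt₁ e c, h8_yA_memX ht h e c, fun u w => yA_t ht h.alt₁ e c u w⟩

end Cfsg.Agent.Helper6.SpO
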