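import Cfsg.Agent.Helper3.TensOmBA

set_option autoImplicit false
set_option linter.unusedSectionVars false
set_option linter.unusedVariables false

/-!
# a non-degenerate alternating form lives in dimension `≠ 3`
-/

namespace Cfsg.Agent.Helper6.SpO

open Module Cfsg.Agent.Helper3.TensOm

variable {F : Type*} [Field F] {U : Type*} [AddCommGroup U] [Module F U] [FiniteDimensional F U]

/-- a space with a non-degenerate alternating form of dimension at least `3` has dimension at
least `4`. -/
theorem h8_four_le_of_three_le (f₁ : LinearMap.BilinForm F U) (alt₁ : ∀ u, f₁ u u = 0)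
    (nd₁ : ∀ u, (∀ v, f₁ u v = 0) → u = 0) (h3 : 3 ≤ finrank F U) : 4 ≤ finrank F U := by
  have hpos : 0 < finrank F U := by omega
  obtain ⟨u, hu⟩ := Module.finrank_pos_iff_exists_ne_zero.mp hpos
  obtain ⟨us, hus⟩ := exists_pair f₁ nd₁ hu
  have hus' : f₁ us u = -1 := by rw [alt_skew f₁ alt₁, hus]
  obtain ⟨p, hp, hpu, hpus⟩ : ∃ p : U, p ≠ 0 ∧ f₁ p u = 0 ∧ f₁ p us = 0 := by
    have hker : LinearMap.ker ((f₁.flip u).prod (f₁.flip us)) ≠ ⊥ := by
      apply LinearMap.ker_ne_bot_of_finrank_lt
      rw [Module.finrank_prod, Module.finrank_self]; omega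
    obtain ⟨p, hpk, hp⟩ := Submodule.exists_mem_ne_zero_of_ne_bot hker
    have := LinearMap.mem_ker.mp hpk
    rw [LinearMap.prod_apply] at this
    have h' := Prod.mk_eq_zero.mp this
    exact ⟨p, hp, h'.1, h'.2⟩
  obtain ⟨v, hv⟩ : ∃ v, f₁ p v ≠ 0 := by
    by_contra hc
    push Not at hc
    exact hp (nd₁ _ hc)
  have hup : f₁ u p = 0 := alt_perp_symm f₁ alt₁ hpu
  have husp : f₁ us p = 0 := alt_perp_symm f₁ alt₁ hpus
  -- `v' = v - f₁(v,us) u + f₁(v,u) us` is perpendicular to `u`, `us`
  have hv'u : f₁ (v - f₁ v us • u + f₁ v u • us) u = 0 := by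
    simp only [map_add, map_sub, map_smul, LinearMap.add_apply, LinearMap.sub_apply,
      LinearMap.smul_apply, smul_eq_mul, alt₁, hus']
    ring
  have hv'us : f₁ (v - f₁ v us • u + f₁ v u • us) us = 0 := by
    simp only [map_add, map_sub, map_smul, LinearMap.add_apply, LinearMap.sub_apply,
      LinearMap.smul_apply, smul_eq_mul, alt₁, hus]
    ring
  have hpv' : f₁ p (v - f₁ v us • u + f₁ v u • us) ≠ 0 := by
    simp only [map_add, map_sub, map_smul, smul_eq_mul, hpu, hpus, mul_zero, sub_zero, add_zero]
    exact hv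
  obtain ⟨v', hv'u, hv'us, hpv'⟩ : ∃ v', f₁ v' u = 0 ∧ f₁ v' us = 0 ∧ f₁ p v' ≠ 0 :=
    ⟨_, hv'u, hv'us, hpv'⟩
  have hv'p : f₁ v' p ≠ 0 := by
    rw [alt_skew f₁ alt₁]
    exact neg_ne_zero.mpr hpv'
  have huv' : f₁ u v' = 0 := alt_perp_symm f₁ alt₁ hv'u
  have husv' : f₁ us v' = 0 := alt_perp_symm f₁ alt₁ hv'us
  have hli : LinearIndependent F ![u, us, p, v'] := by
    rw [Fintype.linearIndependent_iff]
    intro c hc
    simp only [Fin.sum_univ_four, Matrix.cons_val_zero, Matrix.cons_val_one, Matrix.cons_val_two,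
      Matrix.cons_val_three, Matrix.head_cons, Matrix.tail_cons] at hc
    have e0 : c 0 = 0 := by
      have := congrArg (fun x => f₁ x us) hc
      simp only [map_add, map_smul, LinearMap.add_apply, LinearMap.smul_apply, smul_eq_mul, hus,
        alt₁, hpus, hv'us, mul_zero, add_zero, mul_one, map_zero, LinearMap.zero_apply] at this
      exact this
    have e1 : c 1 = 0 := by
      have := congrArg (fun x => f₁ x u) hc
      simp only [map_add, map_smul, LinearMap.add_apply, LinearMap.smul_apply, smul_eq_mul, hus',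
        alt₁, hpu, hv'u, mul_zero, add_zero, zero_add, map_zero, LinearMap.zero_apply] at this
      have h1 : c 1 = 0 := by linear_combination -this
      exact h1
    have e3 : c 3 = 0 := by
      have := congrArg (fun x => f₁ x p) hc
      simp only [map_add, map_smul, LinearMap.add_apply, LinearMap.smul_apply, smul_eq_mul, hup,
        husp, alt₁, mul_zero, add_zero, zero_add, map_zero, LinearMap.zero_apply] at this
      rcases mul_eq_zero.mp this with h1 | h1
      · exact h1
      · exact absurd h1 hv'p
    have e2 : c 2 = 0 := by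
      have := congrArg (fun x => f₁ x v') hc
      rw [e0, e1, e3] at this
      simp only [zero_smul, zero_add, add_zero, map_smul, LinearMap.smul_apply, smul_eq_mul,
        map_zero, LinearMap.zero_apply] at this
      rcases mul_eq_zero.mp this with h1 | h1
      · exact h1
      · exact absurd h1 hpv'
    intro i
    fin_cases i
    · exact e0
    · exact e1
    · exact e2
    · exact e3
  have := hli.fintype_card_le_finrank
  simpa using this

end Cfsg.Agent.Helper6.SpO
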