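import Mathlib
import Cfsg.Agent.Helper8.SpGenB
import Cfsg.Agent.Helper8.SpRootC

set_option autoImplicit false
set_option linter.unusedSimpArgs false

/-! Generation of `Sp_{2n}(F)` by three conjugate regular unipotent elements: short root-type
elements and Eichler elements built from transvections (helper8). -/

namespace Cfsg.Agent.Helper8.SpTri

open Matrix Cfsg Cfsg.Agent.Helper7.Symp

variable {F : Type*} [Field F] {m : ℕ}

/-- for orthogonal `v, w` this is `x ↦ x + a (f(x,w) v + f(x,v) w)`. -/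
def Sg (v w : Fin m ⊕ Fin m → F) (a : F) : symplecticGroup (Fin m) F :=
  T (v + w) a * T v (-a) * T w (-a)

theorem Sg_mulVec {v w : Fin m ⊕ Fin m → F} (h : sympForm m F v w = 0) (a : F)
    (x : Fin m ⊕ Fin m → F) :
    (Sg v w a : Matrix (Fin m ⊕ Fin m) (Fin m ⊕ Fin m) F) *ᵥ x
      = x + a • (sympForm m F x w • v + sympForm m F x v • w) := by
  have h' : sympForm m F w v = 0 := by rw [sympForm_swap, h, neg_zero]
  unfold Sg
  rw [coe_mul_mulVec, coe_mul_mulVec, T_mulVec, T_mulVec, T_mulVec]
  simp only [sympForm_add_left, sympForm_add_right, sympForm_smul_left, sympForm_self, h, h']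
  module

theorem conj_Sg (g : symplecticGroup (Fin m) F) (v w : Fin m ⊕ Fin m → F) (a : F) :
    g * Sg v w a * g⁻¹ = Sg ((g : Matrix (Fin m ⊕ Fin m) (Fin m ⊕ Fin m) F) *ᵥ v)
      ((g : Matrix (Fin m ⊕ Fin m) (Fin m ⊕ Fin m) F) *ᵥ w) a := by
  unfold Sg
  have e : g * (T (v + w) a * T v (-a) * T w (-a)) * g⁻¹
      = (g * T (v + w) a * g⁻¹) * (g * T v (-a) * g⁻¹) * (g * T w (-a) * g⁻¹) := by group
  rw [e, SpRoot.conj_T, SpRoot.conj_T, SpRoot.conj_T, mulVec_add]

theorem Sg_zero (v w : Fin m ⊕ Fin m → F) : Sg v w (0 : F) = 1 := by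
  unfold Sg
  rw [neg_zero, SpRoot.T_zero, SpRoot.T_zero, SpRoot.T_zero, one_mul, one_mul]

theorem Sg_swap {v w : Fin m ⊕ Fin m → F} (h : sympForm m F v w = 0) (a : F) :
    Sg v w a = Sg w v a := by
  have h' : sympForm m F w v = 0 := by rw [sympForm_swap, h, neg_zero]
  apply SpRoot.ext_mulVec
  intro x
  rw [Sg_mulVec h, Sg_mulVec h']
  module

theorem Sg_smul_left {v w : Fin m ⊕ Fin m → F} (h : sympForm m F v w = 0) (a b : F) :
    Sg (b • v) w a = Sg v w (a * b) := by
  have h' : sympForm m F (b • v) w = 0 := by rw [sympForm_smul_left, h, mul_zero]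
  apply SpRoot.ext_mulVec
  intro x
  rw [Sg_mulVec h, Sg_mulVec h', sympForm_smul_right]
  module

theorem Sg_smul_right {v w : Fin m ⊕ Fin m → F} (h : sympForm m F v w = 0) (a b : F) :
    Sg v (b • w) a = Sg v w (a * b) := by
  have h' : sympForm m F v (b • w) = 0 := by rw [sympForm_smul_right, h, mul_zero]
  apply SpRoot.ext_mulVec
  intro x
  rw [Sg_mulVec h, Sg_mulVec h', sympForm_smul_right]
  module

theorem Sg_mul {v w : Fin m ⊕ Fin m → F} (h : sympForm m F v w = 0) (a b : F) :
    Sg v w a * Sg v w b = Sg v w (a + b) := by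
  have h' : sympForm m F w v = 0 := by rw [sympForm_swap, h, neg_zero]
  apply SpRoot.ext_mulVec
  intro x
  rw [coe_mul_mulVec, Sg_mulVec h, Sg_mulVec h, Sg_mulVec h]
  simp only [sympForm_add_left, sympForm_smul_left, sympForm_self, h, h']
  module

theorem Sg_inv {v w : Fin m ⊕ Fin m → F} (h : sympForm m F v w = 0) (a : F) :
    (Sg v w a)⁻¹ = Sg v w (-a) := by
  rw [inv_eq_iff_mul_eq_one, Sg_mul h, add_neg_cancel, Sg_zero]

/-- additivity in the second vector. -/
theorem Sg_add_right {v w w' : Fin m ⊕ Fin m → F} (h : sympForm m F v w = 0)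
    (h' : sympForm m F v w' = 0) (h'' : sympForm m F w w' = 0) (a : F) :
    Sg v (w + w') a = Sg v w a * Sg v w' a := by
  have e1 : sympForm m F w v = 0 := by rw [sympForm_swap, h, neg_zero]
  have e2 : sympForm m F w' v = 0 := by rw [sympForm_swap, h', neg_zero]
  have e3 : sympForm m F w' w = 0 := by rw [sympForm_swap, h'', neg_zero]
  have h3 : sympForm m F v (w + w') = 0 := by rw [sympForm_add_right, h, h', add_zero]
  apply SpRoot.ext_mulVec
  intro x
  rw [coe_mul_mulVec, Sg_mulVec h3, Sg_mulVec h, Sg_mulVec h']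
  simp only [sympForm_add_left, sympForm_add_right, sympForm_smul_left, sympForm_self, h, h', h'',
    e1, e2, e3]
  module

/-- `Sg v v a` is a transvection. -/
theorem Sg_self (v : Fin m ⊕ Fin m → F) (a : F) : Sg v v a = T v (2 * a) := by
  apply SpRoot.ext_mulVec
  intro x
  rw [Sg_mulVec (sympForm_self v), T_mulVec]
  module

/-- the commutator formula for two short root-type elements linked by one non-orthogonal pair. -/
theorem Sg_comm {v w w' z : Fin m ⊕ Fin m → F} (h1 : sympForm m F v w = 0)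
    (h2 : sympForm m F w' z = 0) (h3 : sympForm m F v w' = 0) (h4 : sympForm m F v z = 0)
    (h5 : sympForm m F w z = 0) (a b : F) :
    Sg v w a * Sg w' z b = Sg v z (-(a * b * sympForm m F w w')) * (Sg w' z b * Sg v w a) := by
  have e1 : sympForm m F w v = 0 := by rw [sympForm_swap, h1, neg_zero]
  have e2 : sympForm m F z w' = 0 := by rw [sympForm_swap, h2, neg_zero]
  have e3 : sympForm m F w' v = 0 := by rw [sympForm_swap, h3, neg_zero]
  have e4 : sympForm m F z v = 0 := by rw [sympForm_swap, h4, neg_zero]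
  have e5 : sympForm m F z w = 0 := by rw [sympForm_swap, h5, neg_zero]
  have e6 : sympForm m F w' w = - sympForm m F w w' := sympForm_swap w' w
  apply SpRoot.ext_mulVec
  intro x
  rw [coe_mul_mulVec, coe_mul_mulVec, coe_mul_mulVec, Sg_mulVec h1, Sg_mulVec h2, Sg_mulVec h4,
    Sg_mulVec h2, Sg_mulVec h1]
  simp only [sympForm_add_left, sympForm_smul_left, sympForm_self, h1, h2, h3, h4, h5, e1, e2,
    e3, e4, e5, e6]
  module

/-- mutually orthogonal short root-type elements commute. -/
theorem Sg_commute {v w w' z : Fin m ⊕ Fin m → F} (h1 : sympForm m F v w = 0)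
    (h2 : sympForm m F w' z = 0) (h3 : sympForm m F v w' = 0) (h4 : sympForm m F v z = 0)
    (h5 : sympForm m F w z = 0) (h6 : sympForm m F w w' = 0) (a b : F) :
    Sg v w a * Sg w' z b = Sg w' z b * Sg v w a := by
  rw [Sg_comm h1 h2 h3 h4 h5, h6, mul_zero, neg_zero, Sg_zero, one_mul]

theorem Sg_commute_T {v w p : Fin m ⊕ Fin m → F} (h1 : sympForm m F v w = 0)
    (h2 : sympForm m F v p = 0) (h3 : sympForm m F w p = 0) (a b : F) :
    Sg v w a * T p b = T p b * Sg v w a := by
  have e1 : sympForm m F w v = 0 := by rw [sympForm_swap, h1, neg_zero]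
  have e2 : sympForm m F p v = 0 := by rw [sympForm_swap, h2, neg_zero]
  have e3 : sympForm m F p w = 0 := by rw [sympForm_swap, h3, neg_zero]
  apply SpRoot.ext_mulVec
  intro x
  rw [coe_mul_mulVec, coe_mul_mulVec, Sg_mulVec h1, T_mulVec, Sg_mulVec h1, T_mulVec]
  simp only [sympForm_add_left, sympForm_smul_left, sympForm_self, h1, h2, h3, e1, e2, e3]
  module

/-- a transvection along a sum of two orthogonal vectors. -/
theorem T_add {v w : Fin m ⊕ Fin m → F} (h : sympForm m F v w = 0) (a : F) :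
    T (v + w) a = T v a * (Sg v w a * T w a) := by
  have h' : sympForm m F w v = 0 := by rw [sympForm_swap, h, neg_zero]
  apply SpRoot.ext_mulVec
  intro x
  rw [coe_mul_mulVec, coe_mul_mulVec, T_mulVec, T_mulVec, Sg_mulVec h, T_mulVec]
  simp only [sympForm_add_left, sympForm_add_right, sympForm_smul_left, sympForm_self, h, h']
  module

end Cfsg.Agent.Helper8.SpTri
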