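import Mathlib
import Cfsg.Agent.Helper8.SpTriA
import Cfsg.Agent.Helper8.SpGenA

set_option autoImplicit false
set_option linter.unusedSimpArgs false

/-! Generation of `Sp_{2n}(F)` by three conjugate regular unipotent elements: Eichler elements,
the part of the unipotent radical of a point stabiliser inside a subgroup, and the final
criterion (helper8). -/

namespace Cfsg.Agent.Helper8.SpTri

open Matrix Cfsg Cfsg.Agent.Helper7.Symp Cfsg.Agent.Helper8.SpGen

variable {F : Type*} [Field F] {m : ℕ}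

/-- Eichler element `x ↦ x + f(x,w) v + f(x,v) w + c f(x,w) w` (for `v ⟂ w`). -/
def Ei (v w : Fin m ⊕ Fin m → F) (c : F) : symplecticGroup (Fin m) F := Sg v w 1 * T w c

theorem Ei_mulVec {v w : Fin m ⊕ Fin m → F} (h : sympForm m F v w = 0) (c : F)
    (x : Fin m ⊕ Fin m → F) :
    (Ei v w c : Matrix (Fin m ⊕ Fin m) (Fin m ⊕ Fin m) F) *ᵥ x
      = x + sympForm m F x w • v + sympForm m F x v • w + (c * sympForm m F x w) • w := by
  have h' : sympForm m F w v = 0 := by rw [sympForm_swap, h, neg_zero]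
  unfold Ei
  rw [coe_mul_mulVec, T_mulVec, Sg_mulVec h]
  simp only [sympForm_add_left, sympForm_smul_left, sympForm_self, h, h']
  module

theorem conj_Ei (g : symplecticGroup (Fin m) F) (v w : Fin m ⊕ Fin m → F) (c : F) :
    g * Ei v w c * g⁻¹ = Ei ((g : Matrix (Fin m ⊕ Fin m) (Fin m ⊕ Fin m) F) *ᵥ v)
      ((g : Matrix (Fin m ⊕ Fin m) (Fin m ⊕ Fin m) F) *ᵥ w) c := by
  unfold Ei
  have e : g * (Sg v w 1 * T w c) * g⁻¹ = (g * Sg v w 1 * g⁻¹) * (g * T w c * g⁻¹) := by group
  rw [e, conj_Sg, SpRoot.conj_T]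

theorem Ei_mul {v v' w : Fin m ⊕ Fin m → F} (h : sympForm m F v w = 0)
    (h' : sympForm m F v' w = 0) (c c' : F) :
    Ei v w c * Ei v' w c' = Ei (v + v') w (c + c' + sympForm m F v' v) := by
  have e1 : sympForm m F w v = 0 := by rw [sympForm_swap, h, neg_zero]
  have e2 : sympForm m F w v' = 0 := by rw [sympForm_swap, h', neg_zero]
  have h3 : sympForm m F (v + v') w = 0 := by rw [sympForm_add_left, h, h', add_zero]
  apply SpRoot.ext_mulVec
  intro x
  rw [coe_mul_mulVec, Ei_mulVec h, Ei_mulVec h', Ei_mulVec h3]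
  simp only [sympForm_add_left, sympForm_add_right, sympForm_smul_left, sympForm_self, h, h', e1,
    e2]
  module

theorem Ei_zero (w : Fin m ⊕ Fin m → F) : Ei (0 : Fin m ⊕ Fin m → F) w 0 = 1 := by
  have h : sympForm m F (0 : Fin m ⊕ Fin m → F) w = 0 := by
    have := sympForm_smul_left (0 : F) w w
    rwa [zero_smul, zero_mul] at this
  apply SpRoot.ext_mulVec
  intro x
  rw [Ei_mulVec h, coe_one_mulVec]
  have h0 : sympForm m F x (0 : Fin m ⊕ Fin m → F) = 0 := by
    have := sympForm_smul_right (0 : F) x w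
    rwa [zero_smul, zero_mul] at this
  rw [h0]
  module

theorem Ei_inv {v w : Fin m ⊕ Fin m → F} (h : sympForm m F v w = 0) (c : F) :
    (Ei v w c)⁻¹ = Ei (-v) w (-c) := by
  have h' : sympForm m F (-v) w = 0 := by
    have := sympForm_smul_left (-1 : F) v w
    rwa [neg_one_smul, h, mul_zero] at this
  rw [inv_eq_iff_mul_eq_one, Ei_mul h h']
  have e : sympForm m F (-v) v = 0 := by
    have := sympForm_smul_left (-1 : F) v v
    rwa [neg_one_smul, sympForm_self, mul_zero] at this
  rw [e, add_neg_cancel, add_zero, add_neg_cancel, Ei_zero]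

/-- change of the central parameter. -/
theorem Ei_mul_T (v w : Fin m ⊕ Fin m → F) (c d : F) : Ei v w c * T w d = Ei v w (c + d) := by
  unfold Ei
  rw [mul_assoc, SpRoot.T_mul]

theorem Ei_smul_self (w : Fin m ⊕ Fin m → F) (s c : F) : Ei (s • w) w c = T w (2 * s + c) := by
  have h : sympForm m F (s • w) w = 0 := by rw [sympForm_smul_left, sympForm_self, mul_zero]
  apply SpRoot.ext_mulVec
  intro x
  rw [Ei_mulVec h, T_mulVec, sympForm_smul_right]
  module

theorem Ei_smul_right {v w : Fin m ⊕ Fin m → F} (h : sympForm m F v w = 0) (a c : F) :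
    Ei v (a • w) c = Ei (a • v) w (a * a * c) := by
  have h1 : sympForm m F v (a • w) = 0 := by rw [sympForm_smul_right, h, mul_zero]
  have h2 : sympForm m F (a • v) w = 0 := by rw [sympForm_smul_left, h, mul_zero]
  apply SpRoot.ext_mulVec
  intro x
  rw [Ei_mulVec h1, Ei_mulVec h2, sympForm_smul_right, sympForm_smul_right]
  module

theorem Ei_eq_Sg {v w : Fin m ⊕ Fin m → F} (a : F) (h : sympForm m F v w = 0) :
    Ei (a • v) w 0 = Sg w v a := by
  have h' : sympForm m F w v = 0 := by rw [sympForm_swap, h, neg_zero]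
  have h2 : sympForm m F (a • v) w = 0 := by rw [sympForm_smul_left, h, mul_zero]
  apply SpRoot.ext_mulVec
  intro x
  rw [Ei_mulVec h2, Sg_mulVec h', sympForm_smul_right]
  module

/-- commutator of two Eichler elements with orthogonal centres. -/
theorem Ei_comm {v w z w' : Fin m ⊕ Fin m → F} (h1 : sympForm m F v w = 0)
    (h2 : sympForm m F z w' = 0) (h3 : sympForm m F w w' = 0) (h4 : sympForm m F v w' = 0)
    (h5 : sympForm m F z w = 0) (c c' : F) :
    Ei v w c * Ei z w' c' = Sg w w' (-(sympForm m F v z)) * (Ei z w' c' * Ei v w c) := by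
  have e1 : sympForm m F w v = 0 := by rw [sympForm_swap, h1, neg_zero]
  have e2 : sympForm m F w' z = 0 := by rw [sympForm_swap, h2, neg_zero]
  have e3 : sympForm m F w' w = 0 := by rw [sympForm_swap, h3, neg_zero]
  have e4 : sympForm m F w' v = 0 := by rw [sympForm_swap, h4, neg_zero]
  have e5 : sympForm m F w z = 0 := by rw [sympForm_swap, h5, neg_zero]
  have e6 : sympForm m F z v = - sympForm m F v z := sympForm_swap z v
  apply SpRoot.ext_mulVec
  intro x
  rw [coe_mul_mulVec, coe_mul_mulVec, coe_mul_mulVec, Ei_mulVec h1, Ei_mulVec h2, Sg_mulVec h3,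
    Ei_mulVec h2, Ei_mulVec h1]
  simp only [sympForm_add_left, sympForm_smul_left, sympForm_self, h1, h2, h3, h4, h5, e1, e2,
    e3, e4, e5, e6]
  module

/-! ### The radical part inside a subgroup -/

/-- the vectors `v ⟂ w` such that some Eichler element `Ei v w c` lies in `H`. -/
def MG (H : Subgroup (symplecticGroup (Fin m) F)) (w : Fin m ⊕ Fin m → F) :
    AddSubgroup (Fin m ⊕ Fin m → F) where
  carrier := {v | sympForm m F v w = 0 ∧ ∃ c : F, Ei v w c ∈ H}
  zero_mem' := by
    refine ⟨?_, 0, ?_⟩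
    · have := sympForm_smul_left (0 : F) w w
      rwa [zero_smul, zero_mul] at this
    · rw [Ei_zero]
      exact H.one_mem
  add_mem' := by
    rintro v v' ⟨h, c, hc⟩ ⟨h', c', hc'⟩
    refine ⟨by rw [sympForm_add_left, h, h', add_zero], c + c' + sympForm m F v' v, ?_⟩
    rw [← Ei_mul h h' c c']
    exact H.mul_mem hc hc'
  neg_mem' := by
    rintro v ⟨h, c, hc⟩
    refine ⟨?_, -c, ?_⟩
    · have := sympForm_smul_left (-1 : F) v w
      rwa [neg_one_smul, h, mul_zero] at this
    · rw [← Ei_inv h]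
      exact H.inv_mem hc

theorem mem_MG {H : Subgroup (symplecticGroup (Fin m) F)} {w v : Fin m ⊕ Fin m → F} :
    v ∈ MG H w ↔ sympForm m F v w = 0 ∧ ∃ c : F, Ei v w c ∈ H := Iff.rfl

theorem smul_self_mem_MG (H : Subgroup (symplecticGroup (Fin m) F)) (w : Fin m ⊕ Fin m → F)
    (s : F) : s • w ∈ MG H w := by
  refine ⟨by rw [sympForm_smul_left, sympForm_self, mul_zero], -(2 * s), ?_⟩
  rw [Ei_smul_self, add_neg_cancel, SpRoot.T_zero]
  exact H.one_mem

theorem MG_map {H : Subgroup (symplecticGroup (Fin m) F)} {w v : Fin m ⊕ Fin m → F}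
    {g : symplecticGroup (Fin m) F} (hg : g ∈ H)
    (hw : (g : Matrix (Fin m ⊕ Fin m) (Fin m ⊕ Fin m) F) *ᵥ w = w) (hv : v ∈ MG H w) :
    (g : Matrix (Fin m ⊕ Fin m) (Fin m ⊕ Fin m) F) *ᵥ v ∈ MG H w := by
  obtain ⟨h, c, hc⟩ := hv
  refine ⟨?_, c, ?_⟩
  · have := sympForm_mulVec g v w
    rw [hw] at this
    rw [this, h]
  · have e := conj_Ei g v w c
    rw [hw] at e
    rw [← e]
    exact H.mul_mem (H.mul_mem hg hc) (H.inv_mem hg)

/-- the whole of `w^⟂` occurs. -/
def Big (H : Subgroup (symplecticGroup (Fin m) F)) (w : Fin m ⊕ Fin m → F) : Prop :=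
  ∀ v : Fin m ⊕ Fin m → F, sympForm m F v w = 0 → ∃ c : F, Ei v w c ∈ H

theorem Big.map {H : Subgroup (symplecticGroup (Fin m) F)} {w : Fin m ⊕ Fin m → F}
    (h : Big H w) {g : symplecticGroup (Fin m) F} (hg : g ∈ H) :
    Big H ((g : Matrix (Fin m ⊕ Fin m) (Fin m ⊕ Fin m) F) *ᵥ w) := by
  intro v hv
  have h1 : sympForm m F (((g⁻¹ : symplecticGroup (Fin m) F) :
      Matrix (Fin m ⊕ Fin m) (Fin m ⊕ Fin m) F) *ᵥ v) w = 0 := by
    rw [← sympForm_mulVec g, SpRoot.coe_inv_mulVec, hv]
  obtain ⟨c, hc⟩ := h _ h1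
  refine ⟨c, ?_⟩
  have e := conj_Ei g (((g⁻¹ : symplecticGroup (Fin m) F) :
      Matrix (Fin m ⊕ Fin m) (Fin m ⊕ Fin m) F) *ᵥ v) w c
  rw [SpRoot.coe_inv_mulVec] at e
  rw [← e]
  exact H.mul_mem (H.mul_mem hg hc) (H.inv_mem hg)

theorem Big.smul {H : Subgroup (symplecticGroup (Fin m) F)} {w : Fin m ⊕ Fin m → F}
    (h : Big H w) {a : F} (ha : a ≠ 0) : Big H (a • w) := by
  intro v hv
  have h0 : sympForm m F v w = 0 := by
    rw [sympForm_smul_right] at hv
    rcases mul_eq_zero.mp hv with h1 | h1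
    · exact absurd h1 ha
    · exact h1
  have h1 : sympForm m F (a • v) w = 0 := by rw [sympForm_smul_left, h0, mul_zero]
  obtain ⟨c, hc⟩ := h _ h1
  refine ⟨c / (a * a), ?_⟩
  rw [Ei_smul_right h0]
  have e : a * a * (c / (a * a)) = c := by field_simp
  rw [e]
  exact hc

/-- the orbit of `p` under `H`, with scalars. -/
def Orb (H : Subgroup (symplecticGroup (Fin m) F)) (p : Fin m ⊕ Fin m → F) :
    Set (Fin m ⊕ Fin m → F) :=
  {w | ∃ g ∈ H, ∃ a : F, a ≠ 0 ∧ w = a • ((g : Matrix (Fin m ⊕ Fin m) (Fin m ⊕ Fin m) F) *ᵥ p)}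

theorem self_mem_Orb (H : Subgroup (symplecticGroup (Fin m) F)) (p : Fin m ⊕ Fin m → F) :
    p ∈ Orb H p := ⟨1, H.one_mem, 1, one_ne_zero, by rw [coe_one_mulVec, one_smul]⟩

theorem Orb_map {H : Subgroup (symplecticGroup (Fin m) F)} {p w : Fin m ⊕ Fin m → F}
    (hw : w ∈ Orb H p) {g : symplecticGroup (Fin m) F} (hg : g ∈ H) :
    (g : Matrix (Fin m ⊕ Fin m) (Fin m ⊕ Fin m) F) *ᵥ w ∈ Orb H p := by
  obtain ⟨k, hk, a, ha, rfl⟩ := hw
  exact ⟨g * k, H.mul_mem hg hk, a, ha, by rw [mulVec_smul, coe_mul_mulVec]⟩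

theorem Orb_smul {H : Subgroup (symplecticGroup (Fin m) F)} {p w : Fin m ⊕ Fin m → F}
    (hw : w ∈ Orb H p) {b : F} (hb : b ≠ 0) : b • w ∈ Orb H p := by
  obtain ⟨k, hk, a, ha, rfl⟩ := hw
  exact ⟨k, hk, b * a, mul_ne_zero hb ha, by rw [smul_smul]⟩

theorem Big.of_orb {H : Subgroup (symplecticGroup (Fin m) F)} {p w : Fin m ⊕ Fin m → F}
    (h : Big H p) (hw : w ∈ Orb H p) : Big H w := by
  obtain ⟨k, hk, a, ha, rfl⟩ := hw
  exact (h.map hk).smul ha

theorem Full.of_orb {H : Subgroup (symplecticGroup (Fin m) F)} {p w : Fin m ⊕ Fin m → F}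
    (h : Full H p) (hw : w ∈ Orb H p) : Full H w := by
  obtain ⟨k, hk, a, ha, rfl⟩ := hw
  exact (h.map hk).smul a

/-- moving a vector of the orbit by an Eichler element of `H`. -/
theorem Big.orb {H : Subgroup (symplecticGroup (Fin m) F)} {p w x v : Fin m ⊕ Fin m → F}
    (h : Big H w) (hx : x ∈ Orb H p) (hv : sympForm m F v w = 0) :
    ∃ c : F, x + sympForm m F x w • v + (sympForm m F x v + c * sympForm m F x w) • w
      ∈ Orb H p := by
  obtain ⟨c, hc⟩ := h v hv
  refine ⟨c, ?_⟩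
  have := Orb_map hx hc
  rw [Ei_mulVec hv] at this
  convert this using 1
  module

/-- adding a multiple of `w` to a vector orthogonal to `w`. -/
theorem Big.orb_add {H : Subgroup (symplecticGroup (Fin m) F)} {p w x v : Fin m ⊕ Fin m → F}
    (h : Big H w) (hx : x ∈ Orb H p) (hv : sympForm m F v w = 0) (hxw : sympForm m F x w = 0) :
    x + sympForm m F x v • w ∈ Orb H p := by
  obtain ⟨c, hc⟩ := h.orb hx hv
  rw [hxw, zero_smul, add_zero, mul_zero, add_zero] at hc
  exact hc

/-- reaching any vector with the same pairing with `w`, up to a multiple of `w`. -/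
theorem Big.orb_exists {H : Subgroup (symplecticGroup (Fin m) F)} {p w x y : Fin m ⊕ Fin m → F}
    (h : Big H w) (hx : x ∈ Orb H p) (hxw : sympForm m F x w ≠ 0)
    (hy : sympForm m F y w = sympForm m F x w) : ∃ b : F, y + b • w ∈ Orb H p := by
  have hv : sympForm m F ((sympForm m F x w)⁻¹ • (y - x)) w = 0 := by
    rw [sympForm_smul_left, sympForm_sub_left, hy, sub_self, mul_zero]
  obtain ⟨c, hc⟩ := h.orb hx hv
  refine ⟨sympForm m F x ((sympForm m F x w)⁻¹ • (y - x)) + c * sympForm m F x w, ?_⟩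
  convert hc using 1
  rw [smul_smul, mul_inv_cancel₀ hxw, one_smul]
  abel

/-- the clean short root-type element attached to two orthogonal points with big radicals. -/
theorem Big.Sg_mem {H : Subgroup (symplecticGroup (Fin m) F)} {w w' v z : Fin m ⊕ Fin m → F}
    (h : Big H w) (h' : Big H w') (h3 : sympForm m F w w' = 0)
    (h1 : sympForm m F v w = 0) (h4 : sympForm m F v w' = 0)
    (h2 : sympForm m F z w' = 0) (h5 : sympForm m F z w = 0) :
    Sg w w' (-(sympForm m F v z)) ∈ H := by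
  obtain ⟨c, hc⟩ := h v h1
  obtain ⟨c', hc'⟩ := h' z h2
  have e := Ei_comm h1 h2 h3 h4 h5 c c'
  have e' : Sg w w' (-(sympForm m F v z)) = Ei v w c * Ei z w' c' * (Ei z w' c' * Ei v w c)⁻¹ := by
    rw [e]
    group
  rw [e']
  exact H.mul_mem (H.mul_mem hc hc') (H.inv_mem (H.mul_mem hc' hc))

/-- **Criterion.** If the radical of `p` is big in `H`, all transvections along `p` lie in `H`,
and so do those along some vector not orthogonal to `p`, then `H` is everything. -/
theorem eq_top_of_big_full {H : Subgroup (symplecticGroup (Fin m) F)} {p x₀ : Fin m ⊕ Fin m → F}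
    (hB : Big H p) (hF : Full H p) (hx : Full H x₀) (hne : sympForm m F x₀ p ≠ 0) : H = ⊤ := by
  -- all Eichler elements centred at `p`
  have ha : ∀ v : Fin m ⊕ Fin m → F, sympForm m F v p = 0 → ∀ c : F, Ei v p c ∈ H := by
    intro v hv c
    obtain ⟨c₀, hc₀⟩ := hB v hv
    have := H.mul_mem hc₀ (hF (c - c₀))
    rwa [Ei_mul_T, add_sub_cancel] at this
  -- vectors not orthogonal to `p`
  have hb' : ∀ y : Fin m ⊕ Fin m → F, sympForm m F y p = sympForm m F x₀ p → Full H y := by
    intro y hy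
    have hv : sympForm m F ((sympForm m F x₀ p)⁻¹ • (y - x₀)) p = 0 := by
      rw [sympForm_smul_left, sympForm_sub_left, hy, sub_self, mul_zero]
    have h1 := hx.map (ha _ hv (-(sympForm m F x₀ ((sympForm m F x₀ p)⁻¹ • (y - x₀)))
      / sympForm m F x₀ p))
    rw [Ei_mulVec hv] at h1
    have e : x₀ + sympForm m F x₀ p • (sympForm m F x₀ p)⁻¹ • (y - x₀)
        + sympForm m F x₀ ((sympForm m F x₀ p)⁻¹ • (y - x₀)) • p
        + (-(sympForm m F x₀ ((sympForm m F x₀ p)⁻¹ • (y - x₀))) / sympForm m F x₀ p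
          * sympForm m F x₀ p) • p = y := by
      rw [smul_smul, mul_inv_cancel₀ hne, one_smul, div_mul_cancel₀ _ hne]
      module
    rwa [e] at h1
  have hb : ∀ y : Fin m ⊕ Fin m → F, sympForm m F y p ≠ 0 → Full H y := by
    intro y hy
    have h1 := hb' ((sympForm m F x₀ p / sympForm m F y p) • y) (by
      rw [sympForm_smul_left, div_mul_cancel₀ _ hy])
    have h2 := h1.smul (sympForm m F y p / sympForm m F x₀ p)
    rwa [smul_smul, div_mul_div_cancel₀ hne, div_self hy, one_smul] at h2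
  -- vectors orthogonal to `p`
  have hall : ∀ y : Fin m ⊕ Fin m → F, Full H y := by
    intro y
    by_cases hy : sympForm m F y p ≠ 0
    · exact hb y hy
    push Not at hy
    by_cases hy0 : y = 0
    · rw [hy0]
      exact full_zero H
    obtain ⟨t, ht⟩ := exists_sympForm_ne_zero hy0
    have hu : ∃ u : Fin m ⊕ Fin m → F, sympForm m F u p ≠ 0 ∧ sympForm m F y u ≠ 0 := by
      by_cases h1 : sympForm m F t p ≠ 0
      · exact ⟨t, h1, ht⟩
      push Not at h1
      by_cases h2 : sympForm m F y t + sympForm m F y x₀ ≠ 0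
      · refine ⟨t + x₀, ?_, ?_⟩
        · rw [sympForm_add_left, h1, zero_add]
          exact hne
        · rw [sympForm_add_right]
          exact h2
      push Not at h2
      refine ⟨x₀, hne, ?_⟩
      intro h3
      rw [h3, add_zero] at h2
      exact ht h2
    obtain ⟨u, hu1, hu2⟩ := hu
    have f1 := hb u hu1
    have f2 := hb (u + y) (by rw [sympForm_add_left, hy, add_zero]; exact hu1)
    have hne' : sympForm m F (u + y) u ≠ 0 := by
      rw [sympForm_add_left, sympForm_self, zero_add]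
      exact hu2
    have := full_line f1 f2 hne' (-1) 1
    convert this using 1
    module
  rw [eq_top_iff, ← transvectionSubgroup_eq_top m F]
  apply (Subgroup.closure_le H).mpr
  rintro A ⟨w, c, hA⟩
  have : A = T w c := Subtype.ext hA
  rw [this]
  exact hall w c

end Cfsg.Agent.Helper8.SpTri
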