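import Mathlib

set_option autoImplicit false

/-! Generation of `Sp_{2n}(F)` by three conjugate regular unipotent elements: an abstract descent
lemma for additive maps that are unitriangular along a chain of vectors (helper8). -/

namespace Cfsg.Agent.Helper8.SpTri

variable {V : Type*} [AddCommGroup V]

/-- the additive group generated by the first `j` vectors of the chain. -/
def Lam (c : ℕ → V) (j : ℕ) : AddSubgroup V := AddSubgroup.closure {v | ∃ i, i < j ∧ v = c i}

theorem c_mem_Lam (c : ℕ → V) {i j : ℕ} (h : i < j) : c i ∈ Lam c j :=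
  AddSubgroup.subset_closure ⟨i, h, rfl⟩

theorem Lam_mono (c : ℕ → V) {j k : ℕ} (h : j ≤ k) : Lam c j ≤ Lam c k := by
  apply AddSubgroup.closure_mono
  rintro v ⟨i, hi, rfl⟩
  exact ⟨i, by omega, rfl⟩

theorem Lam_zero (c : ℕ → V) : Lam c 0 = ⊥ := by
  rw [Lam, AddSubgroup.closure_eq_bot_iff]
  rintro v ⟨i, hi, rfl⟩
  omega

theorem Lam_le (c : ℕ → V) {j : ℕ} {M : AddSubgroup V} (h : ∀ i, i < j → c i ∈ M) :
    Lam c j ≤ M := by
  rw [Lam, AddSubgroup.closure_le]
  rintro v ⟨i, hi, rfl⟩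
  exact h i hi

/-- `u` is unitriangular along the chain `c` with leading coefficients `ℓ`. -/
def Tri (c : ℕ → V) (u : V →+ V) (ℓ : ℕ → ℤ) : Prop :=
  u (c 0) = c 0 ∧ ∀ j, u (c (j + 1)) - c (j + 1) - ℓ j • c j ∈ Lam c j

theorem Tri.sub_mem {c : ℕ → V} {u : V →+ V} {ℓ : ℕ → ℤ} (h : Tri c u ℓ) (i : ℕ) :
    u (c i) - c i ∈ Lam c i := by
  cases i with
  | zero =>
    rw [h.1, sub_self]
    exact (Lam c 0).zero_mem
  | succ i =>
    have h1 := h.2 i
    have h2 : u (c (i + 1)) - c (i + 1)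
        = (u (c (i + 1)) - c (i + 1) - ℓ i • c i) + ℓ i • c i := by abel
    rw [h2]
    exact (Lam c (i + 1)).add_mem (Lam_mono c (Nat.le_succ i) h1)
      ((Lam c (i + 1)).zsmul_mem (c_mem_Lam c (Nat.lt_succ_self i)) _)

/-- `u - 1` lowers the filtration. -/
theorem Tri.sub_mem_Lam {c : ℕ → V} {u : V →+ V} {ℓ : ℕ → ℤ} (h : Tri c u ℓ) (j : ℕ) {x : V}
    (hx : x ∈ Lam c (j + 1)) : u x - x ∈ Lam c j := by
  induction hx using AddSubgroup.closure_induction with
  | mem v hv =>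
    obtain ⟨i, hi, rfl⟩ := hv
    exact Lam_mono c (by omega) (h.sub_mem i)
  | zero =>
    rw [map_zero, sub_self]
    exact (Lam c j).zero_mem
  | add a b _ _ ha hb =>
    have e : u (a + b) - (a + b) = (u a - a) + (u b - b) := by
      rw [map_add]
      abel
    rw [e]
    exact (Lam c j).add_mem ha hb
  | neg a _ ha =>
    have e : u (-a) - (-a) = -(u a - a) := by
      rw [map_neg]
      abel
    rw [e]
    exact (Lam c j).neg_mem ha

theorem Tri.map_mem_Lam {c : ℕ → V} {u : V →+ V} {ℓ : ℕ → ℤ} (h : Tri c u ℓ) (j : ℕ) {x : V}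
    (hx : x ∈ Lam c j) : u x ∈ Lam c j := by
  have h1 : u x - x ∈ Lam c j := by
    cases j with
    | zero =>
      rw [Lam_zero, AddSubgroup.mem_bot] at hx
      rw [hx, map_zero, sub_self]
      exact (Lam c 0).zero_mem
    | succ j => exact Lam_mono c (Nat.le_succ j) (h.sub_mem_Lam j hx)
  have e : u x = (u x - x) + x := by abel
  rw [e]
  exact (Lam c j).add_mem h1 hx

/-- composition adds the leading coefficients. -/
theorem Tri.comp {c : ℕ → V} {u u' : V →+ V} {ℓ ℓ' : ℕ → ℤ} (h : Tri c u ℓ) (h' : Tri c u' ℓ') :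
    Tri c (u.comp u') (ℓ + ℓ') := by
  refine ⟨by rw [AddMonoidHom.comp_apply, h'.1, h.1], ?_⟩
  intro j
  rw [AddMonoidHom.comp_apply]
  set lam := u' (c (j + 1)) - c (j + 1) - ℓ' j • c j with hlam
  have hl : lam ∈ Lam c j := h'.2 j
  have e1 : u' (c (j + 1)) = c (j + 1) + ℓ' j • c j + lam := by
    rw [hlam]
    abel
  rw [e1, map_add, map_add, map_zsmul]
  have e2 : u (c (j + 1)) + ℓ' j • u (c j) + u lam - c (j + 1) - (ℓ + ℓ') j • c j
      = (u (c (j + 1)) - c (j + 1) - ℓ j • c j) + ℓ' j • (u (c j) - c j) + u lam := by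
    rw [Pi.add_apply, add_smul, smul_sub]
    abel
  rw [e2]
  exact (Lam c j).add_mem ((Lam c j).add_mem (h.2 j) ((Lam c j).zsmul_mem (h.sub_mem j) _))
    (h.map_mem_Lam j hl)

theorem Tri.id (c : ℕ → V) : Tri c (AddMonoidHom.id V) 0 := by
  refine ⟨rfl, ?_⟩
  intro j
  rw [AddMonoidHom.id_apply, sub_self, Pi.zero_apply, zero_smul, sub_zero]
  exact (Lam c j).zero_mem

/-- iterating `u - 1` from (a vector congruent to) `± c J`. -/
theorem Tri.iterate {c : ℕ → V} {u : V →+ V} {ℓ : ℕ → ℤ} (h : Tri c u ℓ) (J : ℕ)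
    (hℓ : ∀ j, j < J → ℓ j = 1 ∨ ℓ j = -1) (x : V) (δ : ℤ) (hδ : δ = 1 ∨ δ = -1)
    (hx : x - δ • c J ∈ Lam c J) (k : ℕ) (hk : k ≤ J) :
    ∃ δ' : ℤ, (δ' = 1 ∨ δ' = -1) ∧
      (fun y => u y - y)^[k] x - δ' • c (J - k) ∈ Lam c (J - k) := by
  induction k with
  | zero => exact ⟨δ, hδ, by simpa using hx⟩
  | succ k ih =>
    obtain ⟨δ', hδ', hmem⟩ := ih (by omega)
    obtain ⟨j, hj⟩ : ∃ j, J - k = j + 1 := ⟨J - k - 1, by omega⟩
    have hj' : J - (k + 1) = j := by omega
    rw [hj] at hmem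
    rw [Function.iterate_succ_apply', hj']
    set y := (fun y => u y - y)^[k] x with hy
    set lam := y - δ' • c (j + 1) with hlam
    have e1 : y = δ' • c (j + 1) + lam := by
      rw [hlam]
      abel
    refine ⟨δ' * ℓ j, ?_, ?_⟩
    · rcases hδ' with h1 | h1 <;> rcases hℓ j (by omega) with h2 | h2 <;> rw [h1, h2] <;> simp
    · have e2 : u y - y - (δ' * ℓ j) • c j
          = δ' • (u (c (j + 1)) - c (j + 1) - ℓ j • c j) + (u lam - lam) := by
        rw [e1, map_add, map_zsmul, mul_smul, smul_sub, smul_sub]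
        abel
      rw [e2]
      exact (Lam c j).add_mem ((Lam c j).zsmul_mem (h.2 j) _) (h.sub_mem_Lam j hmem)

/-- **Descent.** An additive subgroup stable under a unitriangular `u` and containing a vector
congruent to `± c J` contains `c j` for every `j ≤ J`. -/
theorem Tri.descent {c : ℕ → V} {u : V →+ V} {ℓ : ℕ → ℤ} (h : Tri c u ℓ)
    (M : AddSubgroup V) (hM : ∀ x ∈ M, u x ∈ M)
    (J : ℕ) (hℓ : ∀ j, j < J → ℓ j = 1 ∨ ℓ j = -1) (x : V) (hxM : x ∈ M) (δ : ℤ) (hδ : δ = 1 ∨ δ = -1)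
    (hx : x - δ • c J ∈ Lam c J) : ∀ j, j ≤ J → c j ∈ M := by
  have hit : ∀ k : ℕ, (fun y => u y - y)^[k] x ∈ M := by
    intro k
    induction k with
    | zero => exact hxM
    | succ k ih =>
      rw [Function.iterate_succ_apply']
      exact M.sub_mem (hM _ ih) ih
  intro j
  induction j using Nat.strong_induction_on with
  | _ j ih =>
    intro hj
    obtain ⟨δ', hδ', hmem⟩ := h.iterate J hℓ x δ hδ hx (J - j) (by omega)
    have e : J - (J - j) = j := by omega
    rw [e] at hmem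
    have h1 : Lam c j ≤ M := Lam_le c (fun i hi => ih i hi (by omega))
    have h2 : δ' • c j ∈ M := by
      have e2 : δ' • c j = (fun y => u y - y)^[J - j] x
          - ((fun y => u y - y)^[J - j] x - δ' • c j) := by abel
      rw [e2]
      exact M.sub_mem (hit _) (h1 hmem)
    rcases hδ' with h3 | h3
    · rwa [h3, one_smul] at h2
    · rw [h3, neg_one_smul] at h2
      have := M.neg_mem h2
      rwa [neg_neg] at this

/-- the top power of `u - 1` on the top chain vector. -/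
theorem Tri.iterate_top {c : ℕ → V} {u : V →+ V} {ℓ : ℕ → ℤ} (h : Tri c u ℓ) (J : ℕ)
    (hℓ : ∀ j, j < J → ℓ j = 1 ∨ ℓ j = -1) :
    (fun y => u y - y)^[J] (c J) = c 0 ∨ (fun y => u y - y)^[J] (c J) = - c 0 := by
  obtain ⟨δ', hδ', hmem⟩ := h.iterate J hℓ (c J) 1 (Or.inl rfl) (by
    rw [one_smul, sub_self]
    exact (Lam c J).zero_mem) J (le_refl J)
  rw [Nat.sub_self, Lam_zero, AddSubgroup.mem_bot, sub_eq_zero] at hmem
  rcases hδ' with h1 | h1
  · left
    rw [hmem, h1, one_smul]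
  · right
    rw [hmem, h1, neg_one_smul]

/-- `(u - 1)^(j+1)` kills `c j`. -/
theorem Tri.iterate_kill {c : ℕ → V} {u : V →+ V} {ℓ : ℕ → ℤ} (h : Tri c u ℓ) (j : ℕ) :
    ∀ k, j < k → ∀ x ∈ Lam c (j + 1), (fun y => u y - y)^[k] x = 0 := by
  induction j with
  | zero =>
    intro k hk x hx
    obtain ⟨k', rfl⟩ : ∃ k', k = k' + 1 := ⟨k - 1, by omega⟩
    rw [Function.iterate_succ_apply]
    have h1 := h.sub_mem_Lam 0 hx
    rw [Lam_zero, AddSubgroup.mem_bot] at h1
    rw [h1]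
    clear hk
    induction k' with
    | zero => rfl
    | succ k' ih => rw [Function.iterate_succ_apply', ih, map_zero, sub_self]
  | succ j ih =>
    intro k hk x hx
    obtain ⟨k', rfl⟩ : ∃ k', k = k' + 1 := ⟨k - 1, by omega⟩
    rw [Function.iterate_succ_apply]
    exact ih k' (by omega) _ (h.sub_mem_Lam (j + 1) hx)

end Cfsg.Agent.Helper8.SpTri
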