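import Mathlib
import Cfsg.Agent.Helper8.SpTriB
import Cfsg.Agent.Helper8.SpTriC

set_option autoImplicit false
set_option linter.unusedSimpArgs false
set_option linter.unusedSectionVars false

/-! Generation of `Sp_{2n}(F)` by three conjugate regular unipotent elements: the standard basis
indexed by natural numbers, the chain of a regular unipotent element, and regular unipotency from
unitriangularity (helper8). -/

namespace Cfsg.Agent.Helper8.SpTri

open Matrix Cfsg Cfsg.Agent.Helper7.Symp Cfsg.Agent.Helper8.SpGen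

variable {F : Type*} [Field F] {n : ℕ}

/-- the basis vector `e_j` (zero if `j ≥ n`). -/
def be (n : ℕ) (F : Type*) [Field F] (j : ℕ) : Fin n ⊕ Fin n → F :=
  Sum.elim (fun i => if i.val = j then 1 else 0) (fun _ => 0)

/-- the basis vector `f_j` (zero if `j ≥ n`). -/
def bf (n : ℕ) (F : Type*) [Field F] (j : ℕ) : Fin n ⊕ Fin n → F :=
  Sum.elim (fun _ => 0) (fun i => if i.val = j then 1 else 0)

theorem be_inl (j : ℕ) (i : Fin n) : be n F j (Sum.inl i) = if i.val = j then 1 else 0 := rfl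

theorem be_inr (j : ℕ) (i : Fin n) : be n F j (Sum.inr i) = 0 := rfl

theorem bf_inl (j : ℕ) (i : Fin n) : bf n F j (Sum.inl i) = 0 := rfl

theorem bf_inr (j : ℕ) (i : Fin n) : bf n F j (Sum.inr i) = if i.val = j then 1 else 0 := rfl

theorem form_be (x : Fin n ⊕ Fin n → F) {j : ℕ} (hj : j < n) :
    sympForm n F x (be n F j) = x (Sum.inr ⟨j, hj⟩) := by
  rw [form_eq, Finset.sum_eq_single (⟨j, hj⟩ : Fin n)]
  · simp [be_inl, be_inr]
  · intro i _ hij
    have : ¬ i.val = j := fun h => hij (Fin.ext h)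
    simp [be_inl, be_inr, this]
  · intro h
    exact absurd (Finset.mem_univ _) h

theorem form_bf (x : Fin n ⊕ Fin n → F) {j : ℕ} (hj : j < n) :
    sympForm n F x (bf n F j) = - x (Sum.inl ⟨j, hj⟩) := by
  rw [form_eq, Finset.sum_eq_single (⟨j, hj⟩ : Fin n)]
  · simp [bf_inl, bf_inr]
  · intro i _ hij
    have : ¬ i.val = j := fun h => hij (Fin.ext h)
    simp [bf_inl, bf_inr, this]
  · intro h
    exact absurd (Finset.mem_univ _) h

theorem be_eq_zero {j : ℕ} (hj : n ≤ j) : be n F j = 0 := by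
  funext a
  rcases a with i | i
  · rw [be_inl, if_neg (by have := i.isLt; omega)]
    rfl
  · rfl

theorem bf_eq_zero {j : ℕ} (hj : n ≤ j) : bf n F j = 0 := by
  funext a
  rcases a with i | i
  · rfl
  · rw [bf_inr, if_neg (by have := i.isLt; omega)]
    rfl

theorem form_zero_right (x : Fin n ⊕ Fin n → F) : sympForm n F x 0 = 0 := by
  have := sympForm_smul_right (0 : F) x x
  rwa [zero_smul, zero_mul] at this

theorem form_zero_left (x : Fin n ⊕ Fin n → F) : sympForm n F 0 x = 0 := by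
  have := sympForm_smul_left (0 : F) x x
  rwa [zero_smul, zero_mul] at this

theorem form_be_be (i j : ℕ) : sympForm n F (be n F i) (be n F j) = 0 := by
  by_cases hj : j < n
  · rw [form_be _ hj, be_inr]
  · rw [be_eq_zero (j := j) (by omega), form_zero_right]

theorem form_bf_bf (i j : ℕ) : sympForm n F (bf n F i) (bf n F j) = 0 := by
  by_cases hj : j < n
  · rw [form_bf _ hj, bf_inl, neg_zero]
  · rw [bf_eq_zero (j := j) (by omega), form_zero_right]

theorem form_bf_be {i j : ℕ} (hj : j < n) :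
    sympForm n F (bf n F i) (be n F j) = if j = i then 1 else 0 := by
  rw [form_be _ hj, bf_inr]

theorem form_be_bf {i j : ℕ} (hj : j < n) :
    sympForm n F (be n F i) (bf n F j) = if j = i then -1 else 0 := by
  rw [form_bf _ hj, be_inl]
  split_ifs <;> simp

theorem form_bf_be_self {j : ℕ} (hj : j < n) : sympForm n F (bf n F j) (be n F j) = 1 := by
  rw [form_bf_be hj, if_pos rfl]

theorem form_be_bf_self {j : ℕ} (hj : j < n) : sympForm n F (be n F j) (bf n F j) = -1 := by
  rw [form_be_bf hj, if_pos rfl]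

theorem form_bf_be_ne {i j : ℕ} (h : i ≠ j) : sympForm n F (bf n F i) (be n F j) = 0 := by
  by_cases hj : j < n
  · rw [form_bf_be hj, if_neg (fun e => h e.symm)]
  · rw [be_eq_zero (j := j) (by omega), form_zero_right]

theorem form_be_bf_ne {i j : ℕ} (h : i ≠ j) : sympForm n F (be n F i) (bf n F j) = 0 := by
  by_cases hj : j < n
  · rw [form_be_bf hj, if_neg (fun e => h e.symm)]
  · rw [bf_eq_zero (by omega), form_zero_right]

theorem be_ne_zero {j : ℕ} (hj : j < n) : be n F j ≠ 0 := by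
  intro h
  have := congrFun h (Sum.inl ⟨j, hj⟩)
  rw [be_inl, if_pos rfl] at this
  exact one_ne_zero this

theorem single_inl_eq (i : Fin n) : (Pi.single (Sum.inl i) 1 : Fin n ⊕ Fin n → F) = be n F i.val := by
  funext a
  rcases a with k | k
  · rw [be_inl, Pi.single_apply]
    by_cases h : k = i
    · subst h
      simp
    · have : ¬ k.val = i.val := fun e => h (Fin.ext e)
      simp [h, this]
  · rw [be_inr, Pi.single_apply, if_neg (by simp)]

theorem single_inr_eq (i : Fin n) : (Pi.single (Sum.inr i) 1 : Fin n ⊕ Fin n → F) = bf n F i.val := by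
  funext a
  rcases a with k | k
  · rw [bf_inl, Pi.single_apply, if_neg (by simp)]
  · rw [bf_inr, Pi.single_apply]
    by_cases h : k = i
    · subst h
      simp
    · have : ¬ k.val = i.val := fun e => h (Fin.ext e)
      simp [h, this]

/-! ### The element `J` -/

/-- the standard `J` as an element of the symplectic group. -/
def Jg (n : ℕ) (F : Type*) [Field F] : symplecticGroup (Fin n) F :=
  ⟨J (Fin n) F, SymplecticGroup.J_mem _ _⟩

theorem J_mulVec_inl (y : Fin n ⊕ Fin n → F) (i : Fin n) :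
    (J (Fin n) F *ᵥ y) (Sum.inl i) = - y (Sum.inr i) := by
  simp [J, Matrix.mulVec, dotProduct, Fintype.sum_sum_type, Matrix.one_apply]

theorem J_mulVec_inr (y : Fin n ⊕ Fin n → F) (i : Fin n) :
    (J (Fin n) F *ᵥ y) (Sum.inr i) = y (Sum.inl i) := by
  simp [J, Matrix.mulVec, dotProduct, Fintype.sum_sum_type, Matrix.one_apply]

theorem Jg_be (j : ℕ) :
    (Jg n F : Matrix (Fin n ⊕ Fin n) (Fin n ⊕ Fin n) F) *ᵥ be n F j = bf n F j := by
  funext a
  rcases a with i | i
  · show (J (Fin n) F *ᵥ be n F j) (Sum.inl i) = _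
    rw [J_mulVec_inl, be_inr, bf_inl, neg_zero]
  · show (J (Fin n) F *ᵥ be n F j) (Sum.inr i) = _
    rw [J_mulVec_inr, be_inl, bf_inr]

theorem Jg_bf (j : ℕ) :
    (Jg n F : Matrix (Fin n ⊕ Fin n) (Fin n ⊕ Fin n) F) *ᵥ bf n F j = - be n F j := by
  funext a
  rcases a with i | i
  · show (J (Fin n) F *ᵥ bf n F j) (Sum.inl i) = _
    rw [J_mulVec_inl, bf_inr, Pi.neg_apply, be_inl]
  · show (J (Fin n) F *ᵥ bf n F j) (Sum.inr i) = _
    rw [J_mulVec_inr, bf_inl, Pi.neg_apply, be_inr, neg_zero]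

/-! ### The chain and the additive action -/

/-- the chain `e_0, …, e_{n-1}, f_{n-1}, …, f_0`. -/
def ch (n : ℕ) (F : Type*) [Field F] (j : ℕ) : Fin n ⊕ Fin n → F :=
  if j < n then be n F j else if j < 2 * n then bf n F (2 * n - 1 - j) else 0

theorem ch_lt {j : ℕ} (hj : j < n) : ch n F j = be n F j := by
  unfold ch
  rw [if_pos hj]

theorem ch_ge {j : ℕ} (hj : n ≤ j) (hj' : j < 2 * n) : ch n F j = bf n F (2 * n - 1 - j) := by
  unfold ch
  rw [if_neg (by omega), if_pos hj']

theorem ch_big {j : ℕ} (hj : 2 * n ≤ j) : ch n F j = 0 := by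
  unfold ch
  rw [if_neg (by omega), if_neg (by omega)]

theorem be_eq_ch {j : ℕ} (hj : j < n) : be n F j = ch n F j := (ch_lt hj).symm

theorem bf_eq_ch {j : ℕ} (hj : j < n) : bf n F j = ch n F (2 * n - 1 - j) := by
  rw [ch_ge (by omega) (by omega)]
  congr 1
  omega

/-- the additive map of a group element. -/
def act (g : symplecticGroup (Fin n) F) : (Fin n ⊕ Fin n → F) →+ (Fin n ⊕ Fin n → F) :=
  (Matrix.mulVecLin (g : Matrix (Fin n ⊕ Fin n) (Fin n ⊕ Fin n) F)).toAddMonoidHom

theorem act_apply (g : symplecticGroup (Fin n) F) (x : Fin n ⊕ Fin n → F) :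
    act g x = (g : Matrix (Fin n ⊕ Fin n) (Fin n ⊕ Fin n) F) *ᵥ x := rfl

theorem act_mul (g h : symplecticGroup (Fin n) F) : act (g * h) = (act g).comp (act h) := by
  refine AddMonoidHom.ext fun x => ?_
  rw [AddMonoidHom.comp_apply, act_apply, act_apply, act_apply, coe_mul_mulVec]

theorem act_one : act (1 : symplecticGroup (Fin n) F) = AddMonoidHom.id _ := by
  refine AddMonoidHom.ext fun x => ?_
  rw [act_apply, coe_one_mulVec, AddMonoidHom.id_apply]

theorem pow_mulVec_eq_iterate (g : symplecticGroup (Fin n) F) (k : ℕ) (x : Fin n ⊕ Fin n → F) :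
    (((g : Matrix (Fin n ⊕ Fin n) (Fin n ⊕ Fin n) F) - 1) ^ k) *ᵥ x
      = (fun y => act g y - y)^[k] x := by
  induction k with
  | zero => simp
  | succ k ih =>
    rw [pow_succ', ← mulVec_mulVec, ih, Function.iterate_succ_apply', sub_mulVec, one_mulVec,
      act_apply]

/-- unitriangular along the chain with unit leading coefficients: regular unipotent. -/
theorem regular_of_tri (hn : 0 < n) {g : symplecticGroup (Fin n) F} {ℓ : ℕ → ℤ}
    (h : Tri (ch n F) (act g) ℓ) (hℓ : ∀ j, j < 2 * n - 1 → ℓ j = 1 ∨ ℓ j = -1) :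
    IsNilpotent ((g : Matrix (Fin n ⊕ Fin n) (Fin n ⊕ Fin n) F) - 1) ∧
      ((g : Matrix (Fin n ⊕ Fin n) (Fin n ⊕ Fin n) F) - 1) ^ (2 * n - 1) ≠ 0 := by
  constructor
  · refine ⟨2 * n, ?_⟩
    have hkill : ∀ j, j < 2 * n →
        (((g : Matrix (Fin n ⊕ Fin n) (Fin n ⊕ Fin n) F) - 1) ^ (2 * n)) *ᵥ ch n F j = 0 := by
      intro j hj
      rw [pow_mulVec_eq_iterate]
      exact h.iterate_kill j (2 * n) hj _ (c_mem_Lam _ (Nat.lt_succ_self j))
    rw [Matrix.ext_iff_mulVec]
    intro x
    rw [zero_mulVec]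
    have hx : x = ∑ a : Fin n ⊕ Fin n, x a • (Pi.single a 1 : Fin n ⊕ Fin n → F) := by
      funext b
      rw [Finset.sum_apply]
      simp [Pi.single_apply]
    rw [hx, mulVec_sum]
    apply Finset.sum_eq_zero
    intro a _
    rw [mulVec_smul]
    rcases a with i | i
    · rw [single_inl_eq, be_eq_ch i.isLt, hkill _ (by have := i.isLt; omega), smul_zero]
    · rw [single_inr_eq, bf_eq_ch i.isLt, hkill _ (by have := i.isLt; omega), smul_zero]
  · intro h0
    have h1 := pow_mulVec_eq_iterate g (2 * n - 1) (ch n F (2 * n - 1))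
    rw [h0, zero_mulVec] at h1
    have hne : ch n F 0 ≠ 0 := by
      rw [ch_lt hn]
      exact be_ne_zero hn
    rcases h.iterate_top (2 * n - 1) hℓ with h2 | h2
    · rw [h2] at h1
      exact hne h1.symm
    · rw [h2] at h1
      exact hne (neg_eq_zero.mp h1.symm)

end Cfsg.Agent.Helper8.SpTri
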