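import Mathlib
import Cfsg.Agent.Helper8.SpTriD

set_option autoImplicit false
set_option linter.unusedSimpArgs false
set_option linter.unusedSectionVars false

/-! Generation of `Sp_{2n}(F)` by three conjugate regular unipotent elements: simple root elements
and the regular unipotent element `u₁` (helper8). -/

namespace Cfsg.Agent.Helper8.SpTri

open Matrix Cfsg Cfsg.Agent.Helper7.Symp Cfsg.Agent.Helper8.SpGen

variable {F : Type*} [Field F] {n : ℕ}

/-- short simple root element. -/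
def xs (n : ℕ) (F : Type*) [Field F] (i : ℕ) (a : F) : symplecticGroup (Fin n) F :=
  Sg (be n F i) (bf n F (i + 1)) a

/-- long simple root element. -/
def xl (n : ℕ) (F : Type*) [Field F] (a : F) : symplecticGroup (Fin n) F := T (be n F (n - 1)) a

theorem form_be_bf_succ (i : ℕ) : sympForm n F (be n F i) (bf n F (i + 1)) = 0 :=
  form_be_bf_ne (by omega)

theorem xs_mulVec (i : ℕ) (a : F) (x : Fin n ⊕ Fin n → F) :
    (xs n F i a : Matrix (Fin n ⊕ Fin n) (Fin n ⊕ Fin n) F) *ᵥ x
      = x + a • (sympForm n F x (bf n F (i + 1)) • be n F i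
        + sympForm n F x (be n F i) • bf n F (i + 1)) :=
  Sg_mulVec (form_be_bf_succ i) a x

theorem xs_be_ne {i j : ℕ} (h : j ≠ i + 1) (a : F) :
    (xs n F i a : Matrix (Fin n ⊕ Fin n) (Fin n ⊕ Fin n) F) *ᵥ be n F j = be n F j := by
  rw [xs_mulVec, form_be_be, form_be_bf_ne h]
  module

theorem xs_be_succ {i : ℕ} (hi : i + 1 < n) (a : F) :
    (xs n F i a : Matrix (Fin n ⊕ Fin n) (Fin n ⊕ Fin n) F) *ᵥ be n F (i + 1)
      = be n F (i + 1) - a • be n F i := by
  rw [xs_mulVec, form_be_be, form_be_bf_self hi]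
  module

theorem xs_bf_ne {i j : ℕ} (h : j ≠ i) (a : F) :
    (xs n F i a : Matrix (Fin n ⊕ Fin n) (Fin n ⊕ Fin n) F) *ᵥ bf n F j = bf n F j := by
  rw [xs_mulVec, form_bf_bf, form_bf_be_ne h]
  module

theorem xs_bf_self {i : ℕ} (hi : i < n) (a : F) :
    (xs n F i a : Matrix (Fin n ⊕ Fin n) (Fin n ⊕ Fin n) F) *ᵥ bf n F i
      = bf n F i + a • bf n F (i + 1) := by
  rw [xs_mulVec, form_bf_bf, form_bf_be_self hi]
  module

theorem xl_be (a : F) (j : ℕ) :
    (xl n F a : Matrix (Fin n ⊕ Fin n) (Fin n ⊕ Fin n) F) *ᵥ be n F j = be n F j := by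
  unfold xl
  rw [T_mulVec, form_be_be]
  module

theorem xl_bf_ne {j : ℕ} (h : j ≠ n - 1) (a : F) :
    (xl n F a : Matrix (Fin n ⊕ Fin n) (Fin n ⊕ Fin n) F) *ᵥ bf n F j = bf n F j := by
  unfold xl
  rw [T_mulVec, form_bf_be_ne h]
  module

theorem xl_bf_last (hn : 0 < n) (a : F) :
    (xl n F a : Matrix (Fin n ⊕ Fin n) (Fin n ⊕ Fin n) F) *ᵥ bf n F (n - 1)
      = bf n F (n - 1) + a • be n F (n - 1) := by
  unfold xl
  rw [T_mulVec, form_bf_be_self (by omega)]
  module

/-- `xs(n-1-m) ⋯ xs(n-2) · xl`. -/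
def Rp (n : ℕ) (F : Type*) [Field F] : ℕ → symplecticGroup (Fin n) F
  | 0 => xl n F 1
  | m + 1 => xs n F (n - 2 - m) 1 * Rp n F m

/-- `xs(n-1-m) ⋯ xs(n-2)`. -/
def Np (n : ℕ) (F : Type*) [Field F] : ℕ → symplecticGroup (Fin n) F
  | 0 => 1
  | m + 1 => xs n F (n - 2 - m) 1 * Np n F m

theorem Rp_zero : Rp n F 0 = xl n F 1 := rfl

theorem Rp_succ (m : ℕ) : Rp n F (m + 1) = xs n F (n - 2 - m) 1 * Rp n F m := rfl

theorem Rp_eq_Np (m : ℕ) : Rp n F m = Np n F m * xl n F 1 := by
  induction m with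
  | zero => rw [Rp_zero, Np, one_mul]
  | succ m ih => rw [Rp_succ, ih, Np, mul_assoc]

theorem Np_mem {H : Subgroup (symplecticGroup (Fin n) F)}
    (h : ∀ i, i + 2 ≤ n → xs n F i 1 ∈ H) (hn : 2 ≤ n) (m : ℕ) : Np n F m ∈ H := by
  induction m with
  | zero => exact H.one_mem
  | succ m ih => exact H.mul_mem (h _ (by omega)) ih

/-- the regular unipotent element. -/
def u1 (n : ℕ) (F : Type*) [Field F] : symplecticGroup (Fin n) F := Rp n F (n - 1)

theorem Rp_be {m j : ℕ} (h : j + m < n) :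
    (Rp n F m : Matrix (Fin n ⊕ Fin n) (Fin n ⊕ Fin n) F) *ᵥ be n F j = be n F j := by
  induction m with
  | zero => exact xl_be 1 j
  | succ m ih => rw [Rp_succ, coe_mul_mulVec, ih (by omega), xs_be_ne (by omega)]

theorem Rp_bf_fix {m j : ℕ} (h : j + m + 1 < n) :
    (Rp n F m : Matrix (Fin n ⊕ Fin n) (Fin n ⊕ Fin n) F) *ᵥ bf n F j = bf n F j := by
  induction m with
  | zero => exact xl_bf_ne (by omega) 1
  | succ m ih => rw [Rp_succ, coe_mul_mulVec, ih (by omega), xs_bf_ne (by omega)]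

theorem Rp_bf {m i : ℕ} (hi : i + 2 ≤ n) (hm : n ≤ i + m + 1) (hmn : m + 1 ≤ n) :
    (Rp n F m : Matrix (Fin n ⊕ Fin n) (Fin n ⊕ Fin n) F) *ᵥ bf n F i
      = bf n F i + bf n F (i + 1) := by
  induction m with
  | zero => omega
  | succ m ih =>
    rw [Rp_succ, coe_mul_mulVec]
    by_cases h : n = i + m + 2
    · have e : n - 2 - m = i := by omega
      rw [Rp_bf_fix (by omega), e, xs_bf_self (by omega), one_smul]
    · rw [ih (by omega) (by omega), mulVec_add, xs_bf_ne (by omega), xs_bf_ne (by omega)]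

theorem Rp_form_last (hn : 0 < n) (m : ℕ) :
    sympForm n F ((Rp n F m : Matrix (Fin n ⊕ Fin n) (Fin n ⊕ Fin n) F) *ᵥ bf n F (n - 1))
      (bf n F (n - 1)) = -1 := by
  induction m with
  | zero =>
    rw [Rp_zero, xl_bf_last hn, sympForm_add_left, form_bf_bf, sympForm_smul_left,
      form_be_bf_self (by omega)]
    ring
  | succ m ih =>
    rw [Rp_succ, coe_mul_mulVec, xs_mulVec]
    by_cases h : n - 2 - m = n - 1
    · -- then `n - 2 - m + 1 ≥ n`, the short root element is trivial on this pairing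
      have e : bf n F (n - 2 - m + 1) = 0 := bf_eq_zero (by omega)
      rw [e, form_zero_right, zero_smul, smul_zero, add_zero, smul_zero, add_zero]
      exact ih
    · rw [sympForm_add_left, sympForm_smul_left, sympForm_add_left, sympForm_smul_left,
        sympForm_smul_left, form_be_bf_ne h, form_bf_bf, ih]
      ring

/-! ### Unitriangularity -/

theorem tri_of_eq {c : ℕ → (Fin n ⊕ Fin n → F)} {u : (Fin n ⊕ Fin n → F) →+ (Fin n ⊕ Fin n → F)}
    {ℓ : ℕ → ℤ} (h0 : u (c 0) = c 0) (h : ∀ j, u (c (j + 1)) = c (j + 1) + ℓ j • c j) :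
    Tri c u ℓ := by
  refine ⟨h0, ?_⟩
  intro j
  rw [h j, add_sub_cancel_left, sub_self]
  exact (Lam c j).zero_mem

/-- leading coefficients of `xl`. -/
def lxl (n : ℕ) (j : ℕ) : ℤ := if j + 1 = n then 1 else 0

/-- leading coefficients of `xs i`. -/
def lxs (n i : ℕ) (j : ℕ) : ℤ := if j = i then -1 else if j + i + 2 = 2 * n then 1 else 0

theorem tri_xl (hn : 0 < n) : Tri (ch n F) (act (xl n F 1)) (lxl n) := by
  apply tri_of_eq
  · rw [act_apply, ch_lt hn, xl_be]
  · intro j
    rw [act_apply]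
    unfold lxl
    by_cases h1 : j + 1 < n
    · rw [ch_lt h1, xl_be, if_neg (by omega), zero_smul, add_zero]
    · by_cases h2 : j + 1 < 2 * n
      · rw [ch_ge (by omega) h2]
        by_cases h3 : j + 1 = n
        · have e : 2 * n - 1 - (j + 1) = n - 1 := by omega
          rw [e, xl_bf_last hn, if_pos h3, one_smul, one_smul, ch_lt (by omega)]
          congr 2
          omega
        · rw [xl_bf_ne (by omega), if_neg h3, zero_smul, add_zero]
      · rw [ch_big (by omega), if_neg (by omega), zero_smul, add_zero, mulVec_zero]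

theorem tri_xs {i : ℕ} (hi : i + 2 ≤ n) : Tri (ch n F) (act (xs n F i 1)) (lxs n i) := by
  apply tri_of_eq
  · rw [act_apply, ch_lt (by omega), xs_be_ne (by omega)]
  · intro j
    rw [act_apply]
    unfold lxs
    by_cases h1 : j + 1 < n
    · rw [ch_lt h1]
      by_cases h2 : j = i
      · subst h2
        rw [xs_be_succ h1, if_pos rfl, ch_lt (by omega), one_smul, neg_one_zsmul]
        abel
      · rw [xs_be_ne (by omega), if_neg h2, if_neg (by omega), zero_smul, add_zero]
    · by_cases h2 : j + 1 < 2 * n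
      · rw [ch_ge (by omega) h2]
        by_cases h3 : j + i + 2 = 2 * n
        · have e : 2 * n - 1 - (j + 1) = i := by omega
          rw [e, xs_bf_self (by omega), if_neg (by omega), if_pos h3, one_smul, one_smul,
            ch_ge (by omega) (by omega)]
          congr 2
          omega
        · rw [xs_bf_ne (by omega), if_neg (by omega), if_neg h3, zero_smul, add_zero]
      · rw [ch_big (by omega), if_neg (by omega), if_neg (by omega), zero_smul, add_zero,
          mulVec_zero]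

/-- leading coefficients of `Rp m`. -/
def lRp (n m : ℕ) (j : ℕ) : ℤ :=
  if n ≤ j + m + 1 ∧ j + 2 ≤ n then -1 else if n ≤ j + 1 ∧ j + 1 ≤ n + m then 1 else 0

theorem tri_Rp (hn : 0 < n) {m : ℕ} (hm : m + 1 ≤ n) :
    Tri (ch n F) (act (Rp n F m)) (lRp n m) := by
  induction m with
  | zero =>
    have e : lRp n 0 = lxl n := by
      funext j
      unfold lRp lxl
      split_ifs <;> omega
    rw [e, Rp_zero]
    exact tri_xl hn
  | succ m ih =>
    have e : lRp n (m + 1) = lxs n (n - 2 - m) + lRp n m := by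
      funext j
      rw [Pi.add_apply]
      unfold lRp lxs
      split_ifs <;> omega
    rw [e, Rp_succ, act_mul]
    exact (tri_xs (by omega)).comp (ih (by omega))

theorem tri_u1 (hn : 0 < n) : Tri (ch n F) (act (u1 n F)) (lRp n (n - 1)) :=
  tri_Rp hn (by omega)

theorem lRp_unit (hn : 0 < n) (j : ℕ) (hj : j < 2 * n - 1) :
    lRp n (n - 1) j = 1 ∨ lRp n (n - 1) j = -1 := by
  unfold lRp
  split_ifs <;> omega

theorem u1_regular (hn : 0 < n) :
    IsNilpotent ((u1 n F : Matrix (Fin n ⊕ Fin n) (Fin n ⊕ Fin n) F) - 1) ∧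
      ((u1 n F : Matrix (Fin n ⊕ Fin n) (Fin n ⊕ Fin n) F) - 1) ^ (2 * n - 1) ≠ 0 :=
  regular_of_tri hn (tri_u1 hn) (lRp_unit hn)

end Cfsg.Agent.Helper8.SpTri
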