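import Mathlib
import Cfsg.Agent.Helper8.SpTriE

set_option autoImplicit false
set_option linter.unusedSimpArgs false
set_option linter.unusedSectionVars false

/-! Generation of `Sp_{2n}(F)` by three conjugate regular unipotent elements: the conjugates
`u₂, u₃` for `n ≥ 3` (helper8). -/

namespace Cfsg.Agent.Helper8.SpTri

open Matrix Cfsg Cfsg.Agent.Helper7.Symp Cfsg.Agent.Helper8.SpGen

variable {F : Type*} [Field F] {n : ℕ}

theorem xs_commute {i j : ℕ} (h : i + 2 ≤ j) (a b : F) :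
    xs n F i a * xs n F j b = xs n F j b * xs n F i a := by
  unfold xs
  exact Sg_commute (form_be_bf_succ i) (form_be_bf_succ j) (form_be_be i j)
    (form_be_bf_ne (by omega)) (form_bf_bf _ _) (form_bf_be_ne (by omega)) a b

theorem xs_commute_xl {i : ℕ} (h : i + 3 ≤ n) (a b : F) :
    xs n F i a * xl n F b = xl n F b * xs n F i a := by
  unfold xs xl
  exact Sg_commute_T (form_be_bf_succ i) (form_be_be _ _) (form_bf_be_ne (by omega)) a b

theorem xs_commute_Rp {m : ℕ} (hm : m + 3 ≤ n) (a : F) :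
    xs n F 0 a * Rp n F m = Rp n F m * xs n F 0 a := by
  induction m with
  | zero => exact xs_commute_xl (by omega) a 1
  | succ m ih =>
    rw [Rp_succ, ← mul_assoc, xs_commute (by omega), mul_assoc, ih (by omega), mul_assoc]

theorem u1_eq (hn : 3 ≤ n) : u1 n F = xs n F 0 1 * (xs n F 1 1 * Rp n F (n - 3)) := by
  obtain ⟨k, rfl⟩ : ∃ k, n = k + 3 := ⟨n - 3, by omega⟩
  unfold u1
  have e1 : k + 3 - 1 = (k + 1) + 1 := by omega
  have e3 : k + 3 - 2 - (k + 1) = 0 := by omega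
  have e4 : k + 3 - 2 - k = 1 := by omega
  have e5 : k + 3 - 3 = k := by omega
  rw [e1, Rp_succ, Rp_succ, e3, e4, e5]

/-- the root element `u₂ u₁⁻¹`. -/
def rho (n : ℕ) (F : Type*) [Field F] (a : F) : symplecticGroup (Fin n) F :=
  Sg (be n F 0) (bf n F 2) (-a)

/-- conjugating `u₁` by the simple root element `xs 0 a` multiplies it by a root element. -/
theorem conj_u1 (hn : 3 ≤ n) (a : F) :
    xs n F 0 a * u1 n F * (xs n F 0 a)⁻¹ = rho n F a * u1 n F := by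
  have h1 : xs n F 0 a * xs n F 0 1 = xs n F 0 1 * xs n F 0 a := by
    unfold xs
    rw [Sg_mul (form_be_bf_succ 0), Sg_mul (form_be_bf_succ 0), add_comm a 1]
  have h2 : xs n F 0 a * xs n F 1 1 = rho n F a * (xs n F 1 1 * xs n F 0 a) := by
    unfold xs rho
    have := Sg_comm (form_be_bf_succ (n := n) (F := F) 0) (form_be_bf_succ (n := n) (F := F) 1)
      (form_be_be 0 1) (form_be_bf_ne (by omega)) (form_bf_bf _ _) a 1
    rw [form_bf_be_self (by omega)] at this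
    rw [this]
    congr 2
    ring
  have h3 : xs n F 0 1 * rho n F a = rho n F a * xs n F 0 1 := by
    unfold xs rho
    exact Sg_commute (form_be_bf_succ 0) (form_be_bf_ne (by omega)) (form_be_be 0 0)
      (form_be_bf_ne (by omega)) (form_bf_bf _ _) (form_bf_be_ne (by omega)) 1 (-a)
  have h4 := xs_commute_Rp (n := n) (F := F) (m := n - 3) (by omega) a
  rw [u1_eq hn]
  calc xs n F 0 a * (xs n F 0 1 * (xs n F 1 1 * Rp n F (n - 3))) * (xs n F 0 a)⁻¹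
      = (xs n F 0 a * xs n F 0 1) * xs n F 1 1 * Rp n F (n - 3) * (xs n F 0 a)⁻¹ := by group
    _ = xs n F 0 1 * (xs n F 0 a * xs n F 1 1) * Rp n F (n - 3) * (xs n F 0 a)⁻¹ := by
        rw [h1]; group
    _ = xs n F 0 1 * rho n F a * xs n F 1 1 * (xs n F 0 a * Rp n F (n - 3))
          * (xs n F 0 a)⁻¹ := by
        rw [h2]; group
    _ = rho n F a * xs n F 0 1 * xs n F 1 1 * (Rp n F (n - 3) * xs n F 0 a)
          * (xs n F 0 a)⁻¹ := by
        rw [h3, h4]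
    _ = rho n F a * (xs n F 0 1 * (xs n F 1 1 * Rp n F (n - 3))) := by group

theorem u1_be_zero (hn : 0 < n) :
    (u1 n F : Matrix (Fin n ⊕ Fin n) (Fin n ⊕ Fin n) F) *ᵥ be n F 0 = be n F 0 := by
  unfold u1
  exact Rp_be (by omega)

theorem u1_be_one (hn : 3 ≤ n) :
    (u1 n F : Matrix (Fin n ⊕ Fin n) (Fin n ⊕ Fin n) F) *ᵥ be n F 1 = be n F 1 - be n F 0 := by
  rw [u1_eq hn, coe_mul_mulVec, coe_mul_mulVec, Rp_be (by omega), xs_be_ne (by omega),
    xs_be_succ (by omega), one_smul]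

theorem u1_be_two (hn : 3 ≤ n) :
    (u1 n F : Matrix (Fin n ⊕ Fin n) (Fin n ⊕ Fin n) F) *ᵥ be n F 2
      = be n F 2 - be n F 1 + be n F 0 := by
  rw [u1_eq hn, coe_mul_mulVec, coe_mul_mulVec, Rp_be (by omega), xs_be_succ (by omega), one_smul,
    mulVec_sub, xs_be_ne (by omega), xs_be_succ (by omega), one_smul]
  abel

theorem u1_bf {i : ℕ} (hi : i + 2 ≤ n) :
    (u1 n F : Matrix (Fin n ⊕ Fin n) (Fin n ⊕ Fin n) F) *ᵥ bf n F i = bf n F i + bf n F (i + 1) := by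
  unfold u1
  exact Rp_bf hi (by omega) (by omega)

theorem u1_form_last (hn : 0 < n) :
    sympForm n F ((u1 n F : Matrix (Fin n ⊕ Fin n) (Fin n ⊕ Fin n) F) *ᵥ bf n F (n - 1))
      (bf n F (n - 1)) = -1 :=
  Rp_form_last hn _

/-! ### The lower regular unipotent element -/

/-- the conjugate of `u₁` by `J`. -/
def u3 (n : ℕ) (F : Type*) [Field F] : symplecticGroup (Fin n) F := Jg n F * u1 n F * (Jg n F)⁻¹

theorem Jg_inv_be (j : ℕ) :
    ((Jg n F)⁻¹ : symplecticGroup (Fin n) F).1 *ᵥ be n F j = - bf n F j := by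
  have h := SpRoot.coe_inv_mulVec' (Jg n F) (bf n F j)
  rw [Jg_bf, mulVec_neg] at h
  rw [← h, neg_neg]

theorem Jg_inv_bf (j : ℕ) :
    ((Jg n F)⁻¹ : symplecticGroup (Fin n) F).1 *ᵥ bf n F j = be n F j := by
  have h := SpRoot.coe_inv_mulVec' (Jg n F) (be n F j)
  rwa [Jg_be] at h

theorem u3_be {i : ℕ} (hi : i + 2 ≤ n) :
    (u3 n F : Matrix (Fin n ⊕ Fin n) (Fin n ⊕ Fin n) F) *ᵥ be n F i = be n F i + be n F (i + 1) := by
  unfold u3
  rw [coe_mul_mulVec, coe_mul_mulVec]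
  show (Jg n F).1 *ᵥ ((u1 n F).1 *ᵥ (((Jg n F)⁻¹ : symplecticGroup (Fin n) F).1 *ᵥ be n F i)) = _
  rw [Jg_inv_be, mulVec_neg, u1_bf hi, mulVec_neg, mulVec_add, Jg_bf, Jg_bf]
  abel

theorem u3_bf_sum (hn : 3 ≤ n) :
    (u3 n F : Matrix (Fin n ⊕ Fin n) (Fin n ⊕ Fin n) F) *ᵥ (bf n F 2 + bf n F 1) = bf n F 2 := by
  unfold u3
  rw [coe_mul_mulVec, coe_mul_mulVec]
  show (Jg n F).1 *ᵥ ((u1 n F).1 *ᵥ (((Jg n F)⁻¹ : symplecticGroup (Fin n) F).1 *ᵥ
    (bf n F 2 + bf n F 1))) = _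
  rw [mulVec_add, Jg_inv_bf, Jg_inv_bf, mulVec_add, u1_be_two hn, u1_be_one hn]
  have e : be n F 2 - be n F 1 + be n F 0 + (be n F 1 - be n F 0) = be n F 2 := by abel
  rw [e, Jg_be]

theorem u3_bf_two (hn : 3 ≤ n) :
    (u3 n F : Matrix (Fin n ⊕ Fin n) (Fin n ⊕ Fin n) F) *ᵥ bf n F 2
      = bf n F 2 - bf n F 1 + bf n F 0 := by
  unfold u3
  rw [coe_mul_mulVec, coe_mul_mulVec]
  show (Jg n F).1 *ᵥ ((u1 n F).1 *ᵥ (((Jg n F)⁻¹ : symplecticGroup (Fin n) F).1 *ᵥ bf n F 2)) = _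
  rw [Jg_inv_bf, u1_be_two hn, mulVec_add, mulVec_sub, Jg_be, Jg_be, Jg_be]

theorem u3_inv_bf_two (hn : 3 ≤ n) :
    ((u3 n F)⁻¹ : symplecticGroup (Fin n) F).1 *ᵥ bf n F 2 = bf n F 2 + bf n F 1 := by
  have h := SpRoot.coe_inv_mulVec' (u3 n F) (bf n F 2 + bf n F 1)
  rw [u3_bf_sum hn] at h
  exact h

theorem u3_form_last (hn : 0 < n) :
    sympForm n F ((u3 n F : Matrix (Fin n ⊕ Fin n) (Fin n ⊕ Fin n) F) *ᵥ be n F (n - 1))
      (be n F (n - 1)) = -1 := by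
  unfold u3
  rw [coe_mul_mulVec, coe_mul_mulVec]
  show sympForm n F ((Jg n F).1 *ᵥ ((u1 n F).1 *ᵥ
    (((Jg n F)⁻¹ : symplecticGroup (Fin n) F).1 *ᵥ be n F (n - 1)))) (be n F (n - 1)) = -1
  have e : be n F (n - 1) = (Jg n F).1 *ᵥ (- bf n F (n - 1)) := by
    rw [mulVec_neg, Jg_bf, neg_neg]
  rw [Jg_inv_be, mulVec_neg, mulVec_neg]
  conv_lhs => rw [e]
  rw [← mulVec_neg, sympForm_mulVec]
  have h := u1_form_last (n := n) (F := F) hn
  have e1 : sympForm n F (-((u1 n F).1 *ᵥ bf n F (n - 1))) (-bf n F (n - 1))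
      = sympForm n F ((u1 n F).1 *ᵥ bf n F (n - 1)) (bf n F (n - 1)) := by
    have a1 := sympForm_smul_left (-1 : F) ((u1 n F).1 *ᵥ bf n F (n - 1)) (-bf n F (n - 1))
    rw [neg_one_smul] at a1
    rw [a1, sympForm_neg_right]
    ring
  rw [e1, h]

/-- `⟨f₂, u₃⁻¹ e₀⟩`. -/
theorem form_bf_two_u3_inv (hn : 3 ≤ n) :
    sympForm n F (bf n F 2) (((u3 n F)⁻¹ : symplecticGroup (Fin n) F).1 *ᵥ be n F 0) = 1 := by
  rw [← sympForm_mulVec (u3 n F), SpRoot.coe_inv_mulVec, u3_bf_two hn, sympForm_add_left,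
    sympForm_sub_left, form_bf_be_ne (by omega), form_bf_be_ne (by omega),
    form_bf_be_self (by omega)]
  ring

/-- `⟨e₀, u₃⁻¹ e₀⟩`. -/
theorem form_be_zero_u3_inv (hn : 2 ≤ n) :
    sympForm n F (be n F 0) (((u3 n F)⁻¹ : symplecticGroup (Fin n) F).1 *ᵥ be n F 0) = 0 := by
  rw [← sympForm_mulVec (u3 n F), SpRoot.coe_inv_mulVec, u3_be (by omega), sympForm_add_left,
    form_be_be, form_be_be, add_zero]

end Cfsg.Agent.Helper8.SpTri
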