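import Mathlib
import Cfsg.Agent.Helper8.SpTriF

set_option autoImplicit false
set_option linter.unusedSimpArgs false
set_option linter.unusedSectionVars false

/-! Generation of `Sp_{2n}(F)` by three conjugate regular unipotent elements, `n ≥ 3`: the radical
of the point `e₀` is big (helper8). -/

namespace Cfsg.Agent.Helper8.SpTri

open Matrix Cfsg Cfsg.Agent.Helper7.Symp Cfsg.Agent.Helper8.SpGen

variable {F : Type*} [Field F] {n : ℕ}

/-- the scalars `s` such that `s • x ∈ M`, as an additive subgroup of the vectors `x`. -/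
def scal (M : AddSubgroup (Fin n ⊕ Fin n → F)) (s : F) : AddSubgroup (Fin n ⊕ Fin n → F) :=
  M.comap (DistribSMul.toAddMonoidHom (Fin n ⊕ Fin n → F) s)

theorem mem_scal {M : AddSubgroup (Fin n ⊕ Fin n → F)} {s : F} {x : Fin n ⊕ Fin n → F} :
    x ∈ scal M s ↔ s • x ∈ M := Iff.rfl

/-- the scalars `s` with `s • ch j ∈ M` for all `j ≤ J`. -/
def coef (M : AddSubgroup (Fin n ⊕ Fin n → F)) (J : ℕ) : AddSubgroup F where
  carrier := {s | ∀ j, j ≤ J → s • ch n F j ∈ M}
  zero_mem' := fun j _ => by rw [zero_smul]; exact M.zero_mem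
  add_mem' := fun {s t} hs ht j hj => by rw [add_smul]; exact M.add_mem (hs j hj) (ht j hj)
  neg_mem' := fun {s} hs j hj => by rw [neg_smul]; exact M.neg_mem (hs j hj)

theorem mem_coef {M : AddSubgroup (Fin n ⊕ Fin n → F)} {J : ℕ} {s : F} :
    s ∈ coef M J ↔ ∀ j, j ≤ J → s • ch n F j ∈ M := Iff.rfl

/-- an additive subgroup of a finite field containing `-a²` and stable under multiplication by a
generator `a` of the multiplicative group is everything. -/
theorem coef_eq_top {a : F} (hgen : ∀ s : F, s ≠ 0 → ∃ t : ℕ, s = a ^ t) {r : ℕ} (hr : 1 ≤ r)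
    (har : a ^ r = 1) (A : AddSubgroup F) (h2 : -(a * a) ∈ A) (hmul : ∀ s ∈ A, a * s ∈ A) :
    ∀ s : F, s ∈ A := by
  have hp : ∀ t : ℕ, a ^ (t + 2) ∈ A := by
    intro t
    induction t with
    | zero =>
      have := A.neg_mem h2
      rwa [neg_neg, ← pow_two] at this
    | succ t ih =>
      have := hmul _ ih
      rwa [← pow_succ'] at this
  intro s
  by_cases hs : s = 0
  · rw [hs]
    exact A.zero_mem
  · obtain ⟨t0, ht0⟩ := hgen s hs
    have e : s = a ^ ((t0 + 2 * r - 2) + 2) := by
      have e1 : t0 + 2 * r - 2 + 2 = t0 + r + r := by omega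
      rw [e1, pow_add, pow_add, har, mul_one, mul_one]
      exact ht0
    rw [e]
    exact hp _

/-- **Step 1.** The radical of `e₀` is big in a subgroup containing `u₁`, `u₃` and `ρ(a)` with `a`
a generator of `Fˣ`. -/
theorem big_of_mem (hn : 3 ≤ n) {a : F} (hgen : ∀ s : F, s ≠ 0 → ∃ t : ℕ, s = a ^ t) {r : ℕ}
    (hr : 1 ≤ r) (har : a ^ r = 1) {H : Subgroup (symplecticGroup (Fin n) F)}
    (h1 : u1 n F ∈ H) (h3 : u3 n F ∈ H) (h2 : rho n F a ∈ H) : Big H (be n F 0) := by
  set M := MG H (be n F 0) with hMdef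
  -- invariance under `u₁`
  have hu : ∀ s : F, ∀ x ∈ scal M s, act (u1 n F) x ∈ scal M s := by
    intro s x hx
    rw [mem_scal] at hx ⊢
    rw [act_apply, ← mulVec_smul]
    exact MG_map h1 (u1_be_zero (by omega)) hx
  -- the conjugate of `ρ` by `u₃⁻¹`
  set w' := ((u3 n F)⁻¹ : symplecticGroup (Fin n) F).1 *ᵥ be n F 0 with hw'
  have hz' := u3_inv_bf_two (n := n) (F := F) hn
  have hr3 : Sg w' (bf n F 2 + bf n F 1) (-a) ∈ H := by
    have e := conj_Sg ((u3 n F)⁻¹) (be n F 0) (bf n F 2) (-a)
    rw [inv_inv] at e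
    show Sg w' (bf n F 2 + bf n F 1) (-a) ∈ H
    have e' : Sg w' (bf n F 2 + bf n F 1) (-a) = (u3 n F)⁻¹ * rho n F a * u3 n F := by
      unfold rho
      rw [e]
      show Sg w' (bf n F 2 + bf n F 1) (-a) = Sg w' ((u3 n F)⁻¹.1 *ᵥ bf n F 2) (-a)
      rw [hz']
    rw [e']
    exact H.mul_mem (H.mul_mem (H.inv_mem h3) h2) h3
  have f1 : sympForm n F (be n F 0) w' = 0 := form_be_zero_u3_inv (by omega)
  have f2 : sympForm n F (bf n F 2) w' = 1 := form_bf_two_u3_inv hn
  have f3 : sympForm n F w' (bf n F 2 + bf n F 1) = 0 := by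
    rw [← hz', hw', sympForm_mulVec]
    exact form_be_bf_ne (by omega)
  have f4 : sympForm n F (be n F 0) (bf n F 2 + bf n F 1) = 0 := by
    rw [sympForm_add_right, form_be_bf_ne (by omega), form_be_bf_ne (by omega), add_zero]
  have hfix : (Sg w' (bf n F 2 + bf n F 1) (-a)).1 *ᵥ be n F 0 = be n F 0 := by
    rw [Sg_mulVec f3, f1, f4]
    module
  -- `-a • f₂ ∈ M`
  have hm0 : (-a) • bf n F 2 ∈ M := by
    refine ⟨by rw [sympForm_smul_left, form_bf_be_ne (by omega), mul_zero], 0, ?_⟩
    rw [Ei_eq_Sg _ (form_bf_be_ne (by omega))]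
    exact h2
  have hunit : ∀ j, j < 2 * n - 2 → lRp n (n - 1) j = 1 ∨ lRp n (n - 1) j = -1 :=
    fun j hj => lRp_unit (by omega) j (by omega)
  -- `-a` is a coefficient up to `2n-3`
  have hA' : -a ∈ coef M (2 * n - 3) := by
    rw [mem_coef]
    intro j hj
    have := (tri_u1 (n := n) (F := F) (by omega)).descent (scal M (-a)) (hu (-a)) (2 * n - 3)
      (fun j hj => hunit j (by omega)) (bf n F 2) (by rw [mem_scal]; exact hm0) 1 (Or.inl rfl)
      (by
        rw [one_smul, bf_eq_ch (by omega)]
        have e : 2 * n - 1 - 2 = 2 * n - 3 := by omega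
        rw [e, sub_self]
        exact (Lam _ _).zero_mem) j hj
    exact this
  -- the multiplication step
  have hstep : ∀ s : F, s ∈ coef M (2 * n - 3) → a * s ∈ coef M (2 * n - 2) := by
    intro s hs
    have hs2 : s • bf n F 2 ∈ M := by
      have := hs (2 * n - 3) (le_refl _)
      rwa [← (show 2 * n - 1 - 2 = 2 * n - 3 by omega), ← bf_eq_ch (by omega)] at this
    have h4 := MG_map hr3 hfix hs2
    rw [Sg_mulVec f3, sympForm_smul_left, sympForm_smul_left, f2, sympForm_add_right,
      form_bf_bf, form_bf_bf] at h4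
    have h5 : (a * s) • (bf n F 2 + bf n F 1) ∈ M := by
      have h6 := M.sub_mem hs2 h4
      convert h6 using 1
      module
    rw [mem_coef]
    intro j hj
    have := (tri_u1 (n := n) (F := F) (by omega)).descent (scal M (a * s)) (hu (a * s)) (2 * n - 2)
      hunit (bf n F 2 + bf n F 1) (by rw [mem_scal]; exact h5) 1 (Or.inl rfl)
      (by
        rw [one_smul, bf_eq_ch (j := 1) (by omega)]
        have e : 2 * n - 1 - 1 = 2 * n - 2 := by omega
        rw [e, add_sub_cancel_right, bf_eq_ch (by omega)]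
        have e' : 2 * n - 1 - 2 = 2 * n - 3 := by omega
        rw [e']
        exact c_mem_Lam _ (by omega)) j hj
    exact this
  have hle : coef M (2 * n - 2) ≤ coef M (2 * n - 3) := by
    intro s hs j hj
    exact hs j (by omega)
  have hall : ∀ s : F, s ∈ coef M (2 * n - 2) := by
    apply coef_eq_top hgen hr har
    · have := hstep _ hA'
      rwa [mul_neg] at this
    · intro s hs
      exact hstep s (hle hs)
  -- conclusion
  intro v hv
  have hvM : v ∈ M := by
    have hx : v = ∑ b : Fin n ⊕ Fin n, v b • (Pi.single b 1 : Fin n ⊕ Fin n → F) := by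
      funext b
      rw [Finset.sum_apply]
      simp [Pi.single_apply]
    rw [hx]
    apply AddSubgroup.sum_mem
    intro b _
    rcases b with i | i
    · rw [single_inl_eq, be_eq_ch i.isLt]
      exact hall _ _ (by have := i.isLt; omega)
    · rw [single_inr_eq]
      by_cases hi : i.val = 0
      · have : v (Sum.inr i) = 0 := by
          rw [form_be v (show 0 < n by omega)] at hv
          rw [← hv]
          congr 2
          exact Fin.ext hi
        rw [this, zero_smul]
        exact M.zero_mem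
      · rw [bf_eq_ch i.isLt]
        exact hall _ _ (by have := i.isLt; omega)
  exact hvM.2

end Cfsg.Agent.Helper8.SpTri
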