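import Mathlib
import Cfsg.Agent.Helper8.SpTriG
import Cfsg.Agent.S2402

set_option autoImplicit false
set_option linter.unusedSimpArgs false
set_option linter.unusedSectionVars false

/-! Generation of `Sp_{2n}(F)` by three conjugate regular unipotent elements, `n ≥ 3`: from the big
radical of `e₀` to the whole group (helper8). -/

namespace Cfsg.Agent.Helper8.SpTri

open Matrix Cfsg Cfsg.Agent.Helper7.Symp Cfsg.Agent.Helper8.SpGen

variable {F : Type*} [Field F] {n : ℕ}

/-- **Step 2a.** All `e_j` lie in the orbit of `e₀`. -/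
theorem be_mem_Orb {H : Subgroup (symplecticGroup (Fin n) F)} (hB : Big H (be n F 0))
    (h3 : u3 n F ∈ H) : ∀ j, j < n → be n F j ∈ Orb H (be n F 0) := by
  intro j
  induction j with
  | zero => intro _; exact self_mem_Orb H _
  | succ i ih =>
    intro hi
    have hi0 := ih (by omega)
    have hx := Orb_map hi0 h3
    rw [u3_be (by omega)] at hx
    have hBi : Big H (be n F i) := hB.of_orb hi0
    have hv : sympForm n F (bf n F (i + 1)) (be n F i) = 0 := form_bf_be_ne (by omega)
    have hxw : sympForm n F (be n F i + be n F (i + 1)) (be n F i) = 0 := by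
      rw [sympForm_add_left, form_be_be, form_be_be, add_zero]
    have := hBi.orb_add hx hv hxw
    rw [sympForm_add_left, form_be_bf_ne (by omega), form_be_bf_self hi, zero_add] at this
    convert this using 1
    module

/-- **Step 2b.** Hyperbolic partners `f_j + b e_j` in the orbit. -/
theorem exists_bf_mem_Orb (hn : 2 ≤ n) {H : Subgroup (symplecticGroup (Fin n) F)}
    (hB : Big H (be n F 0)) (h3 : u3 n F ∈ H) :
    ∀ j, j < n → ∃ b : F, bf n F j + b • be n F j ∈ Orb H (be n F 0) := by
  have hbe := be_mem_Orb hB h3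
  -- the last one
  have hlast : ∃ b : F, bf n F (n - 1) + b • be n F (n - 1) ∈ Orb H (be n F 0) := by
    have hx := Orb_map (hbe (n - 1) (by omega)) h3
    have hBl : Big H (be n F (n - 1)) := hB.of_orb (hbe (n - 1) (by omega))
    have hxw : sympForm n F ((u3 n F).1 *ᵥ be n F (n - 1)) (be n F (n - 1)) ≠ 0 := by
      rw [u3_form_last (by omega)]
      exact neg_ne_zero.mpr one_ne_zero
    have hy : sympForm n F ((-1 : F) • bf n F (n - 1)) (be n F (n - 1))
        = sympForm n F ((u3 n F).1 *ᵥ be n F (n - 1)) (be n F (n - 1)) := by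
      rw [u3_form_last (by omega), sympForm_smul_left, form_bf_be_self (by omega), mul_one]
    obtain ⟨b, hb⟩ := hBl.orb_exists hx hxw hy
    refine ⟨-b, ?_⟩
    have := Orb_smul hb (neg_ne_zero.mpr one_ne_zero : (-1 : F) ≠ 0)
    convert this using 1
    module
  obtain ⟨b₁, hb₁⟩ := hlast
  intro j hj
  by_cases hjl : j = n - 1
  · rw [hjl]
    exact ⟨b₁, hb₁⟩
  · have hBl : Big H (be n F (n - 1)) := hB.of_orb (hbe (n - 1) (by omega))
    have hxw : sympForm n F (bf n F (n - 1) + b₁ • be n F (n - 1)) (be n F (n - 1)) ≠ 0 := by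
      rw [sympForm_add_left, sympForm_smul_left, form_bf_be_self (by omega), form_be_be, mul_zero,
        add_zero]
      exact one_ne_zero
    have hy : sympForm n F (bf n F (n - 1) + bf n F j) (be n F (n - 1))
        = sympForm n F (bf n F (n - 1) + b₁ • be n F (n - 1)) (be n F (n - 1)) := by
      rw [sympForm_add_left, sympForm_add_left, sympForm_smul_left, form_bf_be_self (by omega),
        form_be_be, form_bf_be_ne hjl]
      ring
    obtain ⟨b₂, hb₂⟩ := hBl.orb_exists hb₁ hxw hy
    have hBj : Big H (be n F j) := hB.of_orb (hbe j hj)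
    have hxw' : sympForm n F (bf n F (n - 1) + bf n F j + b₂ • be n F (n - 1)) (be n F j) ≠ 0 := by
      rw [sympForm_add_left, sympForm_add_left, sympForm_smul_left, form_bf_be_self hj,
        form_be_be, form_bf_be_ne (fun e => hjl e.symm), mul_zero, add_zero, zero_add]
      exact one_ne_zero
    have hy' : sympForm n F (bf n F j) (be n F j)
        = sympForm n F (bf n F (n - 1) + bf n F j + b₂ • be n F (n - 1)) (be n F j) := by
      rw [sympForm_add_left, sympForm_add_left, sympForm_smul_left, form_bf_be_self hj,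
        form_be_be, form_bf_be_ne (fun e => hjl e.symm)]
      ring
    exact hBj.orb_exists hb₂ hxw' hy'

theorem exists_third (hn : 3 ≤ n) (i j : ℕ) : ∃ k, k < n ∧ k ≠ i ∧ k ≠ j := by
  by_cases h0 : 0 ≠ i ∧ 0 ≠ j
  · exact ⟨0, by omega, h0.1, h0.2⟩
  by_cases h1 : 1 ≠ i ∧ 1 ≠ j
  · exact ⟨1, by omega, h1.1, h1.2⟩
  exact ⟨2, by omega, by omega, by omega⟩

/-- the data of Step 2. -/
structure Frame (H : Subgroup (symplecticGroup (Fin n) F)) : Prop where
  big : Big H (be n F 0)
  hbe : ∀ j, j < n → be n F j ∈ Orb H (be n F 0)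
  hbf : ∀ j, j < n → ∃ b : F, bf n F j + b • be n F j ∈ Orb H (be n F 0)

/-- **Step 3a.** -/
theorem Frame.Sg_be_be {H : Subgroup (symplecticGroup (Fin n) F)} (fr : Frame H) (hn : 3 ≤ n)
    {i j : ℕ} (hi : i < n) (hj : j < n) (_hij : i ≠ j) (t : F) :
    Sg (be n F i) (be n F j) t ∈ H := by
  obtain ⟨k, hk, hki, hkj⟩ := exists_third hn i j
  obtain ⟨b, hb⟩ := fr.hbf k hk
  have hBi : Big H (be n F i) := fr.big.of_orb (fr.hbe i hi)
  have hBj : Big H (be n F j) := fr.big.of_orb (fr.hbe j hj)
  have := hBi.Sg_mem hBj (form_be_be i j) (v := t • be n F k) (z := bf n F k + b • be n F k)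
    (by rw [sympForm_smul_left, form_be_be, mul_zero])
    (by rw [sympForm_smul_left, form_be_be, mul_zero])
    (by rw [sympForm_add_left, sympForm_smul_left, form_be_be, form_bf_be_ne hkj, mul_zero,
      add_zero])
    (by rw [sympForm_add_left, sympForm_smul_left, form_be_be, form_bf_be_ne hki, mul_zero,
      add_zero])
  rw [sympForm_smul_left, sympForm_add_right, sympForm_smul_right, form_be_be,
    form_be_bf_self hk] at this
  convert this using 2
  ring

/-- **Step 3b.** -/
theorem Frame.Sg_be_bf {H : Subgroup (symplecticGroup (Fin n) F)} (fr : Frame H) (hn : 3 ≤ n)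
    {i j : ℕ} (hi : i < n) (_hj : j < n) (hij : i ≠ j) {b : F}
    (hb : bf n F j + b • be n F j ∈ Orb H (be n F 0)) (t : F) :
    Sg (be n F i) (bf n F j + b • be n F j) t ∈ H := by
  obtain ⟨k, hk, hki, hkj⟩ := exists_third hn i j
  obtain ⟨b', hb'⟩ := fr.hbf k hk
  have hBi : Big H (be n F i) := fr.big.of_orb (fr.hbe i hi)
  have hBj : Big H (bf n F j + b • be n F j) := fr.big.of_orb hb
  have h3 : sympForm n F (be n F i) (bf n F j + b • be n F j) = 0 := by
    rw [sympForm_add_right, sympForm_smul_right, form_be_be, form_be_bf_ne hij, mul_zero, add_zero]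
  have := hBi.Sg_mem hBj h3 (v := t • be n F k) (z := bf n F k + b' • be n F k)
    (by rw [sympForm_smul_left, form_be_be, mul_zero])
    (by rw [sympForm_smul_left, sympForm_add_right, sympForm_smul_right, form_be_be,
      form_be_bf_ne hkj, mul_zero, add_zero, mul_zero])
    (by rw [sympForm_add_left, sympForm_add_right, sympForm_add_right, sympForm_smul_left,
      sympForm_smul_right, sympForm_smul_left, sympForm_smul_right, form_be_be, form_bf_bf,
      form_bf_be_ne hkj, form_be_bf_ne hkj]; ring)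
    (by rw [sympForm_add_left, sympForm_smul_left, form_be_be, form_bf_be_ne hki, mul_zero,
      add_zero])
  rw [sympForm_smul_left, sympForm_add_right, sympForm_smul_right, form_be_be,
    form_be_bf_self hk] at this
  convert this using 2
  ring

/-- the decomposition of a short simple root element. -/
theorem xs_decomp {i : ℕ} (hi : i + 1 < n) (b : F) :
    xs n F i 1 = Sg (be n F i) (bf n F (i + 1) + b • be n F (i + 1)) 1
      * Sg (be n F i) (be n F (i + 1)) (-b) * T (be n F i) (-b) := by
  have h3 : sympForm n F (be n F i) (bf n F (i + 1) + b • be n F (i + 1)) = 0 := by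
    rw [sympForm_add_right, sympForm_smul_right, form_be_be, form_be_bf_succ, mul_zero, add_zero]
  apply SpRoot.ext_mulVec
  intro x
  rw [coe_mul_mulVec, coe_mul_mulVec, xs_mulVec, T_mulVec, Sg_mulVec (form_be_be i (i + 1)),
    Sg_mulVec h3]
  simp only [sympForm_add_left, sympForm_add_right, sympForm_smul_left, sympForm_smul_right,
    form_be_be, form_be_bf_succ, form_be_bf_self hi]
  module

/-- fixing `e_i` for `i ≤ n - 2`. -/
def FixE (k : symplecticGroup (Fin n) F) : Prop :=
  ∀ i, i + 2 ≤ n → (k : Matrix (Fin n ⊕ Fin n) (Fin n ⊕ Fin n) F) *ᵥ be n F i = be n F i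

/-- commuting with all elements fixing `e_i`, `i ≤ n - 2`. -/
def Cen (d : symplecticGroup (Fin n) F) : Prop := ∀ k : symplecticGroup (Fin n) F, FixE k → k * d = d * k

theorem T_comm_of_fix {k : symplecticGroup (Fin n) F} {p : Fin n ⊕ Fin n → F}
    (h : (k : Matrix (Fin n ⊕ Fin n) (Fin n ⊕ Fin n) F) *ᵥ p = p) (c : F) :
    k * T p c = T p c * k := by
  have := SpRoot.conj_T k p c
  rw [h] at this
  calc k * T p c = (k * T p c * k⁻¹) * k := by group
    _ = T p c * k := by rw [this]

/-- **Step 4a.** The Levi part of `u₁` is in `H` up to a diagonal element of the radical. -/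
theorem Frame.Np_decomp {H : Subgroup (symplecticGroup (Fin n) F)} (fr : Frame H) (hn : 3 ≤ n) :
    ∀ m, m + 1 ≤ n → ∃ h ∈ H, ∃ d : symplecticGroup (Fin n) F, Np n F m = h * d ∧ Cen d ∧
      ∀ i, i + m + 1 < n → (h : Matrix (Fin n ⊕ Fin n) (Fin n ⊕ Fin n) F) *ᵥ be n F i
        = be n F i := by
  intro m
  induction m with
  | zero =>
    intro _
    refine ⟨1, H.one_mem, 1, by rw [Np, one_mul], ?_, ?_⟩
    · intro k _
      rw [mul_one, one_mul]
    · intro i _
      rw [coe_one_mulVec]
  | succ m ih =>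
    intro hm
    obtain ⟨h, hh, d, hNp, hcen, hfix⟩ := ih (by omega)
    have hi0 : n - 2 - m + 1 < n := by omega
    obtain ⟨b, hb⟩ := fr.hbf (n - 2 - m + 1) hi0
    set i0 := n - 2 - m with hi0def
    set h0 := Sg (be n F i0) (bf n F (i0 + 1) + b • be n F (i0 + 1)) 1
      * Sg (be n F i0) (be n F (i0 + 1)) (-b) with hh0
    have hh0H : h0 ∈ H :=
      H.mul_mem (fr.Sg_be_bf hn (by omega) hi0 (by omega) hb 1)
        (fr.Sg_be_be hn (by omega) hi0 (by omega) (-b))
    have hxs : xs n F i0 1 = h0 * T (be n F i0) (-b) := xs_decomp hi0 b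
    have hcomm : T (be n F i0) (-b) * h = h * T (be n F i0) (-b) :=
      (T_comm_of_fix (hfix i0 (by omega)) (-b)).symm
    refine ⟨h0 * h, H.mul_mem hh0H hh, T (be n F i0) (-b) * d, ?_, ?_, ?_⟩
    · rw [Np, hNp, hxs]
      calc h0 * T (be n F i0) (-b) * (h * d) = h0 * (T (be n F i0) (-b) * h) * d := by group
        _ = h0 * (h * T (be n F i0) (-b)) * d := by rw [hcomm]
        _ = h0 * h * (T (be n F i0) (-b) * d) := by group
    · intro k hk
      have e1 : k * T (be n F i0) (-b) = T (be n F i0) (-b) * k :=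
        T_comm_of_fix (hk i0 (by omega)) (-b)
      calc k * (T (be n F i0) (-b) * d) = (k * T (be n F i0) (-b)) * d := by group
        _ = T (be n F i0) (-b) * (k * d) := by rw [e1]; group
        _ = T (be n F i0) (-b) * d * k := by rw [hcen k hk]; group
    · intro i hi
      have h3 : sympForm n F (be n F i0) (bf n F (i0 + 1) + b • be n F (i0 + 1)) = 0 := by
        rw [sympForm_add_right, sympForm_smul_right, form_be_be, form_be_bf_succ, mul_zero,
          add_zero]
      rw [coe_mul_mulVec, hfix i (by omega), hh0, coe_mul_mulVec, Sg_mulVec (form_be_be _ _),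
        form_be_be, form_be_be, zero_smul, zero_smul, add_zero, smul_zero, add_zero, Sg_mulVec h3,
        form_be_be, sympForm_add_right, sympForm_smul_right, form_be_be,
        form_be_bf_ne (by omega)]
      module

/-- **Steps 4–5.** All transvections along `e₀`. -/
theorem Frame.full_be_zero [Fintype F] {H : Subgroup (symplecticGroup (Fin n) F)} (fr : Frame H)
    (hn : 3 ≤ n) (h1 : u1 n F ∈ H) : Full H (be n F 0) := by
  obtain ⟨h, hh, d, hNp, hcen, -⟩ := fr.Np_decomp hn (n - 1) (by omega)
  have hD : d * xl n F 1 ∈ H := by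
    have e : d * xl n F 1 = h⁻¹ * u1 n F := by
      unfold u1
      rw [Rp_eq_Np, hNp]
      group
    rw [e]
    exact H.mul_mem (H.inv_mem hh) h1
  obtain ⟨b, hb⟩ := fr.hbf (n - 1) (by omega)
  have hsq : ∀ t : F, T (be n F 0) (t * t) ∈ H := by
    intro t
    set k := Sg (be n F 0) (bf n F (n - 1) + b • be n F (n - 1)) t with hk
    have hkH : k ∈ H := fr.Sg_be_bf hn (by omega) (by omega) (by omega) hb t
    have h3 : sympForm n F (be n F 0) (bf n F (n - 1) + b • be n F (n - 1)) = 0 := by
      rw [sympForm_add_right, sympForm_smul_right, form_be_be, form_be_bf_ne (by omega), mul_zero,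
        add_zero]
    have hkfix : FixE k := by
      intro i hi
      rw [hk, Sg_mulVec h3, form_be_be, sympForm_add_right, sympForm_smul_right, form_be_be,
        form_be_bf_ne (by omega)]
      module
    have hklast : (k : Matrix (Fin n ⊕ Fin n) (Fin n ⊕ Fin n) F) *ᵥ be n F (n - 1)
        = be n F (n - 1) + (-t) • be n F 0 := by
      rw [hk, Sg_mulVec h3, form_be_be, sympForm_add_right, sympForm_smul_right, form_be_be,
        form_be_bf_self (by omega)]
      module
    have e1 : k * (d * xl n F 1) * k⁻¹ = d * T (be n F (n - 1) + (-t) • be n F 0) 1 := by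
      have := SpRoot.conj_T k (be n F (n - 1)) (1 : F)
      rw [hklast] at this
      rw [← this]
      unfold xl
      calc k * (d * T (be n F (n - 1)) 1) * k⁻¹ = (k * d) * T (be n F (n - 1)) 1 * k⁻¹ := by group
        _ = (d * k) * T (be n F (n - 1)) 1 * k⁻¹ := by rw [hcen k hkfix]
        _ = d * (k * T (be n F (n - 1)) 1 * k⁻¹) := by group
    have h4 : sympForm n F (be n F (n - 1)) ((-t) • be n F 0) = 0 := by
      rw [sympForm_smul_right, form_be_be, mul_zero]
    have e2 : (d * xl n F 1)⁻¹ * (k * (d * xl n F 1) * k⁻¹)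
        = Sg (be n F (n - 1)) (be n F 0) (-t) * T (be n F 0) (t * t) := by
      rw [e1, T_add h4, Sg_smul_right (form_be_be _ _), SpRoot.T_smul]
      unfold xl
      have e3 : (1 : F) * -t * -t = t * t := by ring
      rw [e3]
      group
    have h5 : (d * xl n F 1)⁻¹ * (k * (d * xl n F 1) * k⁻¹) ∈ H :=
      H.mul_mem (H.inv_mem hD) (H.mul_mem (H.mul_mem hkH hD) (H.inv_mem hkH))
    rw [e2] at h5
    have h6 := fr.Sg_be_be hn (show n - 1 < n by omega) (show 0 < n by omega) (by omega) (-t)
    have := H.mul_mem (H.inv_mem h6) h5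
    rwa [inv_mul_cancel_left] at this
  intro c
  obtain ⟨s, t, hst⟩ := Cfsg.Agent.S2402.exists_sq_add_sq c
  rw [← hst, pow_two, pow_two, ← SpRoot.T_mul]
  exact H.mul_mem (hsq s) (hsq t)

/-- **Criterion for `n ≥ 3`.** -/
theorem eq_top_of_mem [Fintype F] (hn : 3 ≤ n) {a : F} (hgen : ∀ s : F, s ≠ 0 → ∃ t : ℕ, s = a ^ t)
    {r : ℕ} (hr : 1 ≤ r) (har : a ^ r = 1) {H : Subgroup (symplecticGroup (Fin n) F)}
    (h1 : u1 n F ∈ H) (h3 : u3 n F ∈ H) (h2 : rho n F a ∈ H) : H = ⊤ := by
  have hB := big_of_mem hn hgen hr har h1 h3 h2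
  have fr : Frame H := ⟨hB, be_mem_Orb hB h3, exists_bf_mem_Orb (by omega) hB h3⟩
  have hF := fr.full_be_zero hn h1
  obtain ⟨b, hb⟩ := fr.hbf 0 (by omega)
  refine eq_top_of_big_full hB hF (Full.of_orb hF hb) ?_
  rw [sympForm_add_left, sympForm_smul_left, form_bf_be_self (by omega), form_be_be, mul_zero,
    add_zero]
  exact one_ne_zero

end Cfsg.Agent.Helper8.SpTri
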