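import Mathlib
import Cfsg.Agent.Helper8.SpTriH

set_option autoImplicit false
set_option linter.unusedSimpArgs false
set_option linter.unusedSectionVars false

/-! Generation of `Sp_{2n}(F)` by three conjugate regular unipotent elements: the case `n ≥ 3`
(helper8). -/

namespace Cfsg.Agent.Helper8.SpTri

open Matrix Cfsg Cfsg.Agent.Helper7.Symp Cfsg.Agent.Helper8.SpGen

variable {F : Type*} [Field F] [Fintype F] {n : ℕ}

theorem exists_generator_pow :
    ∃ a : F, a ≠ 0 ∧ (∀ s : F, s ≠ 0 → ∃ t : ℕ, s = a ^ t) ∧ a ^ (Fintype.card F - 1) = 1 ∧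
      1 ≤ Fintype.card F - 1 := by
  classical
  obtain ⟨gen, hgen⟩ := IsCyclic.exists_generator (α := Fˣ)
  refine ⟨(gen : F), gen.ne_zero, ?_, FiniteField.pow_card_sub_one_eq_one _ gen.ne_zero, ?_⟩
  · intro s hs
    have hu := hgen (Units.mk0 s hs)
    rw [← mem_powers_iff_mem_zpowers] at hu
    obtain ⟨j, hj⟩ := hu
    refine ⟨j, ?_⟩
    have := congrArg (fun u : Fˣ => (u : F)) hj
    simpa using this.symm
  · have := Fintype.one_lt_card (α := F)
    omega

theorem three_conj_ge_three (hn : 3 ≤ n) :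
    ∃ u g h : symplecticGroup (Fin n) F,
      IsNilpotent ((u : Matrix (Fin n ⊕ Fin n) (Fin n ⊕ Fin n) F) - 1) ∧
      ((u : Matrix (Fin n ⊕ Fin n) (Fin n ⊕ Fin n) F) - 1) ^ (2 * n - 1) ≠ 0 ∧
      Subgroup.closure ({u, g * u * g⁻¹, h * u * h⁻¹} : Set (symplecticGroup (Fin n) F)) = ⊤ := by
  obtain ⟨a, -, hgen, hpow, hcard⟩ := exists_generator_pow (F := F)
  have hreg := u1_regular (n := n) (F := F) (by omega)
  refine ⟨u1 n F, xs n F 0 a, Jg n F, hreg.1, hreg.2, ?_⟩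
  set H := Subgroup.closure ({u1 n F, xs n F 0 a * u1 n F * (xs n F 0 a)⁻¹,
    Jg n F * u1 n F * (Jg n F)⁻¹} : Set (symplecticGroup (Fin n) F)) with hH
  have m1 : u1 n F ∈ H := Subgroup.subset_closure (by simp)
  have m2 : xs n F 0 a * u1 n F * (xs n F 0 a)⁻¹ ∈ H := Subgroup.subset_closure (by simp)
  have m3 : Jg n F * u1 n F * (Jg n F)⁻¹ ∈ H := Subgroup.subset_closure (by simp)
  apply eq_top_of_mem hn hgen hcard hpow m1 m3
  have e : rho n F a = xs n F 0 a * u1 n F * (xs n F 0 a)⁻¹ * (u1 n F)⁻¹ := by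
    rw [conj_u1 hn]
    group
  rw [e]
  exact H.mul_mem m2 (H.inv_mem m1)

end Cfsg.Agent.Helper8.SpTri
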