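import Mathlib
import Cfsg.Agent.Helper8.SpTriI
import Cfsg.Agent.Helper8.SpGenD

set_option autoImplicit false
set_option linter.unusedSimpArgs false
set_option linter.unusedSectionVars false

/-! Generation of `Sp₄(F)` by three conjugate regular unipotent elements: diagonal elements and the
conjugates of `u₁` (helper8). -/

namespace Cfsg.Agent.Helper8.SpTri

open Matrix Cfsg Cfsg.Agent.Helper7.Symp Cfsg.Agent.Helper8.SpGen

variable {F : Type*} [Field F] {n : ℕ}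

/-- the diagonal element scaling `e_j` by `a` and `f_j` by `a⁻¹`. -/
def dg {j : ℕ} (hj : j < n) (a : F) (ha : a ≠ 0) : symplecticGroup (Fin n) F :=
  SpRoot.Phi (form_bf_be_self (F := F) hj) (Mdiag a ha)

theorem dg_mulVec {j : ℕ} (hj : j < n) (a : F) (ha : a ≠ 0) (x : Fin n ⊕ Fin n → F) :
    (dg hj a ha : Matrix (Fin n ⊕ Fin n) (Fin n ⊕ Fin n) F) *ᵥ x
      = x + ((a⁻¹ - 1) * sympForm n F x (be n F j)) • bf n F j
        - ((a - 1) * sympForm n F x (bf n F j)) • be n F j := by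
  unfold dg
  rw [SpRoot.Phi_mulVec]
  have e : ((Mdiag a ha : Matrix.SpecialLinearGroup (Fin 2) F) : Matrix (Fin 2) (Fin 2) F)
      = !![a⁻¹, 0; 0, a] := rfl
  rw [e]
  simp
  module

theorem dg_be_self {j : ℕ} (hj : j < n) (a : F) (ha : a ≠ 0) :
    (dg hj a ha : Matrix (Fin n ⊕ Fin n) (Fin n ⊕ Fin n) F) *ᵥ be n F j = a • be n F j := by
  rw [dg_mulVec, form_be_be, form_be_bf_self hj]
  module

theorem dg_bf_self {j : ℕ} (hj : j < n) (a : F) (ha : a ≠ 0) :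
    (dg hj a ha : Matrix (Fin n ⊕ Fin n) (Fin n ⊕ Fin n) F) *ᵥ bf n F j = a⁻¹ • bf n F j := by
  rw [dg_mulVec, form_bf_bf, form_bf_be_self hj]
  module

theorem dg_be_ne {i j : ℕ} (hj : j < n) (hij : i ≠ j) (a : F) (ha : a ≠ 0) :
    (dg hj a ha : Matrix (Fin n ⊕ Fin n) (Fin n ⊕ Fin n) F) *ᵥ be n F i = be n F i := by
  rw [dg_mulVec, form_be_be, form_be_bf_ne hij]
  module

theorem dg_bf_ne {i j : ℕ} (hj : j < n) (hij : i ≠ j) (a : F) (ha : a ≠ 0) :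
    (dg hj a ha : Matrix (Fin n ⊕ Fin n) (Fin n ⊕ Fin n) F) *ᵥ bf n F i = bf n F i := by
  rw [dg_mulVec, form_bf_bf, form_bf_be_ne hij]
  module

/-! ### `n = 2` -/

theorem u1_two : u1 2 F = xs 2 F 0 1 * xl 2 F 1 := rfl

theorem conj_xs_xl (g : symplecticGroup (Fin 2) F) (a b : F) :
    g * (xs 2 F 0 a * xl 2 F b) * g⁻¹
      = Sg ((g : Matrix (Fin 2 ⊕ Fin 2) (Fin 2 ⊕ Fin 2) F) *ᵥ be 2 F 0)
          ((g : Matrix (Fin 2 ⊕ Fin 2) (Fin 2 ⊕ Fin 2) F) *ᵥ bf 2 F 1) a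
        * T ((g : Matrix (Fin 2 ⊕ Fin 2) (Fin 2 ⊕ Fin 2) F) *ᵥ be 2 F 1) b := by
  unfold xs xl
  rw [← conj_Sg, ← SpRoot.conj_T]
  group

/-- the second conjugate: `u₂ u₁⁻¹` is a simple root element. -/
theorem conj_dg_u1 (μ : F) (hμ : μ ≠ 0) :
    dg (n := 2) (show 0 < 2 by omega) μ hμ * u1 2 F * (dg (n := 2) (show 0 < 2 by omega) μ hμ)⁻¹
      * (u1 2 F)⁻¹ = xs 2 F 0 (μ - 1) := by
  rw [u1_two, conj_xs_xl, dg_be_self, dg_bf_ne _ (by omega), dg_be_ne _ (by omega),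
    Sg_smul_left (form_be_bf_succ 0), one_mul]
  unfold xs xl
  have e : Sg (be 2 F 0) (bf 2 F (0 + 1)) μ = Sg (be 2 F 0) (bf 2 F (0 + 1)) (μ - 1)
      * Sg (be 2 F 0) (bf 2 F (0 + 1)) 1 := by
    rw [Sg_mul (form_be_bf_succ 0), sub_add_cancel]
  rw [e]
  group

/-- the third conjugate, twisted by a diagonal element. -/
def u3d (δ : F) (hδ : δ ≠ 0) : symplecticGroup (Fin 2) F :=
  (Jg 2 F * dg (n := 2) (show 1 < 2 by omega) δ hδ) * u1 2 F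
    * (Jg 2 F * dg (n := 2) (show 1 < 2 by omega) δ hδ)⁻¹

theorem u3d_eq (δ : F) (hδ : δ ≠ 0) :
    u3d δ hδ = Sg (bf 2 F 0) (be 2 F 1) (-δ⁻¹) * T (bf 2 F 1) (δ * δ) := by
  unfold u3d
  rw [u1_two, conj_xs_xl, coe_mul_mulVec, coe_mul_mulVec, coe_mul_mulVec, dg_be_ne _ (by omega),
    dg_bf_self, dg_be_self, mulVec_smul, mulVec_smul, Jg_be, Jg_bf, Jg_be, SpRoot.T_smul,
    smul_neg, ← neg_smul, Sg_smul_right (form_bf_be_ne (by omega))]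
  congr 2 <;> ring

theorem u3d_be_zero (δ : F) (hδ : δ ≠ 0) :
    (u3d δ hδ : Matrix (Fin 2 ⊕ Fin 2) (Fin 2 ⊕ Fin 2) F) *ᵥ be 2 F 0
      = be 2 F 0 + δ⁻¹ • be 2 F 1 := by
  rw [u3d_eq, coe_mul_mulVec, T_mulVec, form_be_bf_ne (by omega), mul_zero, zero_smul, add_zero,
    Sg_mulVec (form_bf_be_ne (by omega)), form_be_be, form_be_bf_self (by omega)]
  module

theorem u3d_be_one (δ : F) (hδ : δ ≠ 0) :
    (u3d δ hδ : Matrix (Fin 2 ⊕ Fin 2) (Fin 2 ⊕ Fin 2) F) *ᵥ be 2 F 1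
      = be 2 F 1 - (δ * δ) • bf 2 F 1 + δ • bf 2 F 0 := by
  rw [u3d_eq, coe_mul_mulVec, T_mulVec, form_be_bf_self (by omega),
    Sg_mulVec (form_bf_be_ne (by omega))]
  simp only [sympForm_add_left, sympForm_smul_left, form_be_be, form_be_bf_ne (show 1 ≠ 0 by omega),
    form_bf_be_self (show 1 < 2 by omega), form_bf_bf]
  have : δ⁻¹ * (δ * δ) = δ := by field_simp
  have e2 : δ • bf 2 F 0 = (δ⁻¹ * (δ * δ)) • bf 2 F 0 := by rw [this]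
  rw [e2]
  module

/-- `u₃⁻¹ e₁ = e₁ + δ² f₁`. -/
theorem u3d_inv_be_one (δ : F) (hδ : δ ≠ 0) :
    ((u3d δ hδ)⁻¹ : symplecticGroup (Fin 2) F).1 *ᵥ be 2 F 1
      = be 2 F 1 + (δ * δ) • bf 2 F 1 := by
  have h : (u3d δ hδ : Matrix (Fin 2 ⊕ Fin 2) (Fin 2 ⊕ Fin 2) F) *ᵥ
      (be 2 F 1 + (δ * δ) • bf 2 F 1) = be 2 F 1 := by
    rw [u3d_eq, coe_mul_mulVec, T_mulVec, Sg_mulVec (form_bf_be_ne (by omega))]
    simp only [sympForm_add_left, sympForm_smul_left, form_be_be,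
      form_be_bf_ne (show 1 ≠ 0 by omega), form_be_bf_self (show 1 < 2 by omega), form_bf_bf,
      form_bf_be_self (show 1 < 2 by omega)]
    module
  have h' := SpRoot.coe_inv_mulVec' (u3d δ hδ) (be 2 F 1 + (δ * δ) • bf 2 F 1)
  rw [h] at h'
  exact h'

end Cfsg.Agent.Helper8.SpTri
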