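import Mathlib
import Cfsg.Agent.Helper8.SpTriJ

set_option autoImplicit false
set_option linter.unusedSimpArgs false
set_option linter.unusedSectionVars false

/-! Generation of `Sp₄(F)` by three conjugate regular unipotent elements: common steps (helper8). -/

namespace Cfsg.Agent.Helper8.SpTri

open Matrix Cfsg Cfsg.Agent.Helper7.Symp Cfsg.Agent.Helper8.SpGen

variable {F : Type*} [Field F]

/-- an additive subgroup of a finite field containing `1` and stable under multiplication by the
square of a generator of the multiplicative group is everything. -/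
theorem sq_closure [Fintype F] {δ : F} (hgen : ∀ s : F, s ≠ 0 → ∃ t : ℕ, s = δ ^ t)
    (A : AddSubgroup F) (h1 : (1 : F) ∈ A) (hmul : ∀ s ∈ A, δ * δ * s ∈ A) : ∀ s : F, s ∈ A := by
  have hp : ∀ k : ℕ, (δ ^ k) ^ 2 ∈ A := by
    intro k
    induction k with
    | zero => simp only [pow_zero, one_pow]; exact h1
    | succ k ih =>
      have := hmul _ ih
      convert this using 1
      ring
  have hsq : ∀ y : F, y ^ 2 ∈ A := by
    intro y
    by_cases hy : y = 0
    · rw [hy, zero_pow (by norm_num)]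
      exact A.zero_mem
    · obtain ⟨k, rfl⟩ := hgen y hy
      exact hp k
  intro s
  obtain ⟨x, y, hxy⟩ := Cfsg.Agent.S2402.exists_sq_add_sq s
  rw [← hxy]
  exact A.add_mem (hsq x) (hsq y)

/-- the coefficient group of a vector. -/
def coefV (M : AddSubgroup (Fin 2 ⊕ Fin 2 → F)) (x : Fin 2 ⊕ Fin 2 → F) : AddSubgroup F where
  carrier := {s | s • x ∈ M}
  zero_mem' := by
    show (0 : F) • x ∈ M
    rw [zero_smul]
    exact M.zero_mem
  add_mem' := fun {s t} hs ht => by
    show (s + t) • x ∈ M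
    rw [add_smul]
    exact M.add_mem hs ht
  neg_mem' := fun {s} hs => by
    show (-s) • x ∈ M
    rw [neg_smul]
    exact M.neg_mem hs

theorem mem_coefV {M : AddSubgroup (Fin 2 ⊕ Fin 2 → F)} {x : Fin 2 ⊕ Fin 2 → F} {s : F} :
    s ∈ coefV M x ↔ s • x ∈ M := Iff.rfl

/-- the radical of `e₀` is big as soon as it contains all multiples of `e₁` and `f₁`. -/
theorem big_two {H : Subgroup (symplecticGroup (Fin 2) F)}
    (he : ∀ s : F, s • be 2 F 1 ∈ MG H (be 2 F 0)) (hf : ∀ s : F, s • bf 2 F 1 ∈ MG H (be 2 F 0)) :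
    Big H (be 2 F 0) := by
  intro v hv
  have hvM : v ∈ MG H (be 2 F 0) := by
    have hx : v = ∑ b : Fin 2 ⊕ Fin 2, v b • (Pi.single b 1 : Fin 2 ⊕ Fin 2 → F) := by
      funext b
      rw [Finset.sum_apply]
      simp [Pi.single_apply]
    rw [hx]
    apply AddSubgroup.sum_mem
    intro b _
    rcases b with i | i
    · rw [single_inl_eq]
      by_cases hi : i.val = 0
      · rw [hi]
        exact smul_self_mem_MG H _ _
      · have : i.val = 1 := by have := i.isLt; omega
        rw [this]
        exact he _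
    · rw [single_inr_eq]
      by_cases hi : i.val = 0
      · have : v (Sum.inr i) = 0 := by
          rw [form_be v (show 0 < 2 by omega)] at hv
          rw [← hv]
          congr 2
          exact Fin.ext hi
        rw [this, zero_smul]
        exact (MG H (be 2 F 0)).zero_mem
      · have : i.val = 1 := by have := i.isLt; omega
        rw [this]
        exact hf _
  exact hvM.2

/-- a vector of the orbit not orthogonal to `e₀`. -/
theorem form_u3d_sq (δ : F) (hδ : δ ≠ 0) :
    sympForm 2 F ((u3d δ hδ : Matrix (Fin 2 ⊕ Fin 2) (Fin 2 ⊕ Fin 2) F) *ᵥ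
      ((u3d δ hδ : Matrix (Fin 2 ⊕ Fin 2) (Fin 2 ⊕ Fin 2) F) *ᵥ be 2 F 0)) (be 2 F 0) = 1 := by
  rw [u3d_be_zero, mulVec_add, mulVec_smul, u3d_be_zero, u3d_be_one]
  simp only [sympForm_add_left, sympForm_sub_left, sympForm_smul_left, form_be_be,
    form_bf_be_ne (show 1 ≠ 0 by omega), form_bf_be_self (show 0 < 2 by omega)]
  field_simp
  ring

/-- the final step for `n = 2`. -/
theorem eq_top_two {H : Subgroup (symplecticGroup (Fin 2) F)} {δ : F} (hδ : δ ≠ 0)
    (h3 : u3d δ hδ ∈ H) (hB : Big H (be 2 F 0)) (hF : Full H (be 2 F 0)) : H = ⊤ := by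
  refine eq_top_of_big_full hB hF ((hF.map h3).map h3) ?_
  rw [form_u3d_sq]
  exact one_ne_zero

/-- `e₁` lies in the orbit of `e₀`. -/
theorem be_one_mem_Orb {H : Subgroup (symplecticGroup (Fin 2) F)} {δ : F} (hδ : δ ≠ 0)
    (h3 : u3d δ hδ ∈ H) (hB : Big H (be 2 F 0)) : be 2 F 1 ∈ Orb H (be 2 F 0) := by
  have hx := Orb_map (self_mem_Orb H (be 2 F 0)) h3
  rw [u3d_be_zero] at hx
  have hv : sympForm 2 F (δ • bf 2 F 1) (be 2 F 0) = 0 := by
    rw [sympForm_smul_left, form_bf_be_ne (by omega), mul_zero]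
  have hxw : sympForm 2 F (be 2 F 0 + δ⁻¹ • be 2 F 1) (be 2 F 0) = 0 := by
    rw [sympForm_add_left, sympForm_smul_left, form_be_be, form_be_be, mul_zero, add_zero]
  have h1 := hB.orb_add hx hv hxw
  rw [sympForm_add_left, sympForm_smul_left, sympForm_smul_right, sympForm_smul_right,
    form_be_bf_ne (by omega), form_be_bf_self (by omega), mul_zero, zero_add] at h1
  have e : δ⁻¹ * (δ * -1) = -1 := by field_simp
  rw [e] at h1
  have h2 := Orb_smul h1 hδ
  convert h2 using 1
  rw [smul_add, smul_add, smul_smul, mul_inv_cancel₀ hδ]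
  module

end Cfsg.Agent.Helper8.SpTri
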