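import Mathlib
import Cfsg.Agent.Helper8.SpTriK

set_option autoImplicit false
set_option linter.unusedSimpArgs false
set_option linter.unusedSectionVars false

/-! Generation of `Sp₄(F)` by three conjugate regular unipotent elements: odd characteristic
(helper8). -/

namespace Cfsg.Agent.Helper8.SpTri

open Matrix Cfsg Cfsg.Agent.Helper7.Symp Cfsg.Agent.Helper8.SpGen

variable {F : Type*} [Field F]

/-- **Criterion, odd characteristic.** -/
theorem eq_top_two_odd [Fintype F] (h2 : (2 : F) ≠ 0) {δ : F} (hδ : δ ≠ 0)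
    (hgen : ∀ s : F, s ≠ 0 → ∃ t : ℕ, s = δ ^ t) {H : Subgroup (symplecticGroup (Fin 2) F)}
    (hx0 : xs 2 F 0 1 ∈ H) (hxl : xl 2 F 1 ∈ H) (h3 : u3d δ hδ ∈ H) : H = ⊤ := by
  set M := MG H (be 2 F 0) with hM
  set z' := be 2 F 1 + (δ * δ) • bf 2 F 1 with hz'
  -- the conjugate transvection
  have hT2H : T z' (1 : F) ∈ H := by
    have e := SpRoot.conj_T ((u3d δ hδ)⁻¹) (be 2 F 1) (1 : F)
    rw [inv_inv, u3d_inv_be_one] at e
    rw [hz', ← e]
    exact H.mul_mem (H.mul_mem (H.inv_mem h3) hxl) h3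
  have hfix1 : (xl 2 F 1 : Matrix (Fin 2 ⊕ Fin 2) (Fin 2 ⊕ Fin 2) F) *ᵥ be 2 F 0 = be 2 F 0 :=
    xl_be 1 0
  have hfix2 : (T z' (1 : F) : Matrix (Fin 2 ⊕ Fin 2) (Fin 2 ⊕ Fin 2) F) *ᵥ be 2 F 0
      = be 2 F 0 := by
    rw [T_mulVec, hz', sympForm_add_right, sympForm_smul_right, form_be_be,
      form_be_bf_ne (by omega)]
    module
  have hbf1 : bf 2 F 1 ∈ M := by
    refine ⟨form_bf_be_ne (by omega), 0, ?_⟩
    have := Ei_eq_Sg (1 : F) (form_bf_be_ne (n := 2) (F := F) (show 1 ≠ 0 by omega))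
    rw [one_smul] at this
    rw [this]
    exact hx0
  -- the action of the two transvections
  have a1 : ∀ s : F, (xl 2 F 1 : Matrix (Fin 2 ⊕ Fin 2) (Fin 2 ⊕ Fin 2) F) *ᵥ (s • bf 2 F 1)
      = s • bf 2 F 1 + s • be 2 F 1 := by
    intro s
    rw [mulVec_smul, xl_bf_last (by omega), one_smul, smul_add]
  have a2 : ∀ s : F, (T z' (1 : F) : Matrix (Fin 2 ⊕ Fin 2) (Fin 2 ⊕ Fin 2) F) *ᵥ (s • bf 2 F 1)
      = s • bf 2 F 1 + s • be 2 F 1 + (δ * δ * s) • bf 2 F 1 := by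
    intro s
    rw [T_mulVec, hz', sympForm_smul_left, sympForm_add_right, sympForm_smul_right, form_bf_bf,
      form_bf_be_self (by omega)]
    module
  set A := coefV M (bf 2 F 1) ⊓ coefV M (be 2 F 1) with hA
  have h1A : (1 : F) ∈ A := by
    rw [hA, AddSubgroup.mem_inf, mem_coefV, mem_coefV, one_smul, one_smul]
    refine ⟨hbf1, ?_⟩
    have h4 := MG_map hxl hfix1 hbf1
    have := a1 1
    rw [one_smul, one_smul] at this
    rw [this] at h4
    have := M.sub_mem h4 hbf1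
    rwa [add_sub_cancel_left] at this
  have hmul : ∀ s ∈ A, δ * δ * s ∈ A := by
    intro s hs
    rw [hA, AddSubgroup.mem_inf, mem_coefV, mem_coefV] at hs ⊢
    have h4 := MG_map hT2H hfix2 hs.1
    rw [a2] at h4
    have h5 : (δ * δ * s) • bf 2 F 1 ∈ M := by
      have := M.sub_mem (M.sub_mem h4 hs.1) hs.2
      convert this using 1
      abel
    refine ⟨h5, ?_⟩
    have h6 := MG_map hxl hfix1 h5
    rw [a1] at h6
    have := M.sub_mem h6 h5
    rwa [add_sub_cancel_left] at this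
  have hall := sq_closure hgen A h1A hmul
  have hB : Big H (be 2 F 0) := by
    apply big_two
    · intro s
      have := hall s
      rw [hA, AddSubgroup.mem_inf] at this
      exact this.2
    · intro s
      have := hall s
      rw [hA, AddSubgroup.mem_inf] at this
      exact this.1
  -- the centre of the Heisenberg group
  have hF : Full H (be 2 F 0) := by
    intro c
    have hv : sympForm 2 F ((c / 2) • be 2 F 1) (be 2 F 0) = 0 := by
      rw [sympForm_smul_left, form_be_be, mul_zero]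
    have hv' : sympForm 2 F (bf 2 F 1) (be 2 F 0) = 0 := form_bf_be_ne (by omega)
    obtain ⟨c₁, hc₁⟩ := hB _ hv
    obtain ⟨c₂, hc₂⟩ := hB _ hv'
    have e1 := Ei_mul hv hv' c₁ c₂
    have e2 := Ei_mul hv' hv c₂ c₁
    rw [sympForm_smul_right, form_bf_be_self (by omega), mul_one] at e1
    rw [sympForm_smul_left, form_be_bf_self (by omega)] at e2
    have e3 : T (be 2 F 0) c = (Ei (bf 2 F 1) (be 2 F 0) c₂ * Ei ((c / 2) • be 2 F 1) (be 2 F 0) c₁)⁻¹
        * (Ei ((c / 2) • be 2 F 1) (be 2 F 0) c₁ * Ei (bf 2 F 1) (be 2 F 0) c₂) := by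
      rw [e1, e2, add_comm (bf 2 F 1)]
      have e4 : c₁ + c₂ + c / 2 = (c₂ + c₁ + c / 2 * -1) + c := by
        field_simp
        ring
      have e5 : Ei ((c / 2) • be 2 F 1 + bf 2 F 1) (be 2 F 0) (c₁ + c₂ + c / 2)
          = Ei ((c / 2) • be 2 F 1 + bf 2 F 1) (be 2 F 0) (c₂ + c₁ + c / 2 * -1)
            * T (be 2 F 0) c := by
        rw [Ei_mul_T, ← e4]
      rw [e5]
      group
    rw [e3]
    exact H.mul_mem (H.inv_mem (H.mul_mem hc₂ hc₁)) (H.mul_mem hc₁ hc₂)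
  exact eq_top_two hδ h3 hB hF

theorem three_conj_two_odd [Fintype F] (h2 : (2 : F) ≠ 0) :
    ∃ u g h : symplecticGroup (Fin 2) F,
      IsNilpotent ((u : Matrix (Fin 2 ⊕ Fin 2) (Fin 2 ⊕ Fin 2) F) - 1) ∧
      ((u : Matrix (Fin 2 ⊕ Fin 2) (Fin 2 ⊕ Fin 2) F) - 1) ^ (2 * 2 - 1) ≠ 0 ∧
      Subgroup.closure ({u, g * u * g⁻¹, h * u * h⁻¹} : Set (symplecticGroup (Fin 2) F)) = ⊤ := by
  obtain ⟨δ, hδ, hgen, -, -⟩ := exists_generator_pow (F := F)
  have hreg := u1_regular (n := 2) (F := F) (by omega)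
  refine ⟨u1 2 F, dg (n := 2) (show 0 < 2 by omega) 2 h2,
    Jg 2 F * dg (n := 2) (show 1 < 2 by omega) δ hδ, hreg.1, hreg.2, ?_⟩
  set H := Subgroup.closure ({u1 2 F,
    dg (n := 2) (show 0 < 2 by omega) 2 h2 * u1 2 F * (dg (n := 2) (show 0 < 2 by omega) 2 h2)⁻¹,
    (Jg 2 F * dg (n := 2) (show 1 < 2 by omega) δ hδ) * u1 2 F
      * (Jg 2 F * dg (n := 2) (show 1 < 2 by omega) δ hδ)⁻¹} :
    Set (symplecticGroup (Fin 2) F)) with hH
  have m1 : u1 2 F ∈ H := Subgroup.subset_closure (by simp)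
  have m2 : dg (n := 2) (show 0 < 2 by omega) 2 h2 * u1 2 F
      * (dg (n := 2) (show 0 < 2 by omega) 2 h2)⁻¹ ∈ H := Subgroup.subset_closure (by simp)
  have m3 : u3d δ hδ ∈ H := Subgroup.subset_closure (by simp [u3d])
  have hx0 : xs 2 F 0 1 ∈ H := by
    have e := conj_dg_u1 (F := F) 2 h2
    have e' : (2 : F) - 1 = 1 := by norm_num
    rw [e'] at e
    rw [← e]
    exact H.mul_mem m2 (H.inv_mem m1)
  have hxl : xl 2 F 1 ∈ H := by
    have e : xl 2 F 1 = (xs 2 F 0 1)⁻¹ * u1 2 F := by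
      rw [u1_two]
      group
    rw [e]
    exact H.mul_mem (H.inv_mem hx0) m1
  exact eq_top_two_odd h2 hδ hgen hx0 hxl m3

end Cfsg.Agent.Helper8.SpTri
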