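import Mathlib
import Cfsg.Agent.Helper8.SpTriK

set_option autoImplicit false
set_option linter.unusedSimpArgs false
set_option linter.unusedSectionVars false

/-! Generation of `Sp₄(F)` by three conjugate regular unipotent elements: the radical of the
Lagrangian plane `⟨e₀, e₁⟩` (helper8). -/

namespace Cfsg.Agent.Helper8.SpTri

open Matrix Cfsg Cfsg.Agent.Helper7.Symp Cfsg.Agent.Helper8.SpGen

variable {F : Type*} [Field F]

/-- the element of the radical with symmetric matrix `[[a, b], [b, c]]`. -/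
def Rr (a b c : F) : symplecticGroup (Fin 2) F :=
  T (be 2 F 0) a * Sg (be 2 F 0) (be 2 F 1) b * T (be 2 F 1) c

theorem Rr_mulVec (a b c : F) (x : Fin 2 ⊕ Fin 2 → F) :
    (Rr a b c : Matrix (Fin 2 ⊕ Fin 2) (Fin 2 ⊕ Fin 2) F) *ᵥ x
      = x + (a * sympForm 2 F x (be 2 F 0) + b * sympForm 2 F x (be 2 F 1)) • be 2 F 0
        + (b * sympForm 2 F x (be 2 F 0) + c * sympForm 2 F x (be 2 F 1)) • be 2 F 1 := by
  unfold Rr
  rw [coe_mul_mulVec, coe_mul_mulVec, T_mulVec, T_mulVec, Sg_mulVec (form_be_be 0 1)]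
  simp only [sympForm_add_left, sympForm_smul_left, form_be_be]
  module

theorem Rr_mul (a b c a' b' c' : F) : Rr a b c * Rr a' b' c' = Rr (a + a') (b + b') (c + c') := by
  apply SpRoot.ext_mulVec
  intro x
  rw [coe_mul_mulVec, Rr_mulVec, Rr_mulVec, Rr_mulVec]
  simp only [sympForm_add_left, sympForm_smul_left, form_be_be]
  module

theorem Rr_zero : Rr (0 : F) 0 0 = 1 := by
  apply SpRoot.ext_mulVec
  intro x
  rw [Rr_mulVec, coe_one_mulVec]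
  module

theorem Rr_inv (a b c : F) : (Rr a b c)⁻¹ = Rr (-a) (-b) (-c) := by
  rw [inv_eq_iff_mul_eq_one, Rr_mul, add_neg_cancel, add_neg_cancel, add_neg_cancel, Rr_zero]

theorem Rr_diag (a : F) : Rr a 0 0 = T (be 2 F 0) a := by
  unfold Rr
  rw [Sg_zero, SpRoot.T_zero, mul_one, mul_one]

theorem Rr_of_T (a c : F) : T (be 2 F 0) a * T (be 2 F 1) c = Rr a 0 c := by
  unfold Rr
  rw [Sg_zero, mul_one]

/-- conjugation by an element fixing `e₀` and sending `e₁` to `e₁ + σ e₀`. -/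
theorem conj_Rr_h {h : symplecticGroup (Fin 2) F} {σ : F}
    (h0 : (h : Matrix (Fin 2 ⊕ Fin 2) (Fin 2 ⊕ Fin 2) F) *ᵥ be 2 F 0 = be 2 F 0)
    (h1 : (h : Matrix (Fin 2 ⊕ Fin 2) (Fin 2 ⊕ Fin 2) F) *ᵥ be 2 F 1 = be 2 F 1 + σ • be 2 F 0)
    (a b c : F) :
    h * Rr a b c * h⁻¹ = Rr (a + 2 * b * σ + c * σ * σ) (b + c * σ) c := by
  have e : h * Rr a b c * h⁻¹ = (h * T (be 2 F 0) a * h⁻¹) * (h * Sg (be 2 F 0) (be 2 F 1) b * h⁻¹)
      * (h * T (be 2 F 1) c * h⁻¹) := by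
    unfold Rr
    group
  rw [e, SpRoot.conj_T, SpRoot.conj_T, conj_Sg, h0, h1]
  have f : sympForm 2 F (be 2 F 0) (be 2 F 1 + σ • be 2 F 0) = 0 := by
    rw [sympForm_add_right, sympForm_smul_right, form_be_be, form_be_be, mul_zero, add_zero]
  apply SpRoot.ext_mulVec
  intro x
  rw [coe_mul_mulVec, coe_mul_mulVec, T_mulVec, T_mulVec, Sg_mulVec f, Rr_mulVec]
  simp only [sympForm_add_left, sympForm_add_right, sympForm_smul_left, sympForm_smul_right,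
    form_be_be]
  module

/-- conjugation by an element fixing `e₁` and sending `e₀` to `e₀ + τ e₁`. -/
theorem conj_Rr_k {k : symplecticGroup (Fin 2) F} {τ : F}
    (k0 : (k : Matrix (Fin 2 ⊕ Fin 2) (Fin 2 ⊕ Fin 2) F) *ᵥ be 2 F 0 = be 2 F 0 + τ • be 2 F 1)
    (k1 : (k : Matrix (Fin 2 ⊕ Fin 2) (Fin 2 ⊕ Fin 2) F) *ᵥ be 2 F 1 = be 2 F 1)
    (a b c : F) :
    k * Rr a b c * k⁻¹ = Rr a (b + a * τ) (c + 2 * b * τ + a * τ * τ) := by
  have e : k * Rr a b c * k⁻¹ = (k * T (be 2 F 0) a * k⁻¹) * (k * Sg (be 2 F 0) (be 2 F 1) b * k⁻¹)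
      * (k * T (be 2 F 1) c * k⁻¹) := by
    unfold Rr
    group
  rw [e, SpRoot.conj_T, SpRoot.conj_T, conj_Sg, k0, k1]
  have f : sympForm 2 F (be 2 F 0 + τ • be 2 F 1) (be 2 F 1) = 0 := by
    rw [sympForm_add_left, sympForm_smul_left, form_be_be, form_be_be, mul_zero, add_zero]
  apply SpRoot.ext_mulVec
  intro x
  rw [coe_mul_mulVec, coe_mul_mulVec, T_mulVec, T_mulVec, Sg_mulVec f, Rr_mulVec]
  simp only [sympForm_add_left, sympForm_add_right, sympForm_smul_left, sympForm_smul_right,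
    form_be_be]
  module

/-- **All transvections along `e₀`, characteristic two.** -/
theorem full_of_big_two [Fintype F] (h2 : (2 : F) = 0) {θ : F} (hθ0 : θ ≠ 0) (hθ1 : θ ≠ 1)
    {H : Subgroup (symplecticGroup (Fin 2) F)} (h1 : u1 2 F ∈ H)
    (hB0 : Big H (be 2 F 0)) (hB1 : Big H (be 2 F 1)) : Full H (be 2 F 0) := by
  -- the element `Z`
  have hv1 : sympForm 2 F (bf 2 F 1) (be 2 F 0) = 0 := form_bf_be_ne (by omega)
  obtain ⟨c₀, hc₀⟩ := hB0 _ hv1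
  have hZ : Rr (-c₀) 0 1 ∈ H := by
    have e1 : Ei (bf 2 F 1) (be 2 F 0) c₀ = xs 2 F 0 1 * T (be 2 F 0) c₀ := by
      have := Ei_eq_Sg (1 : F) hv1
      rw [one_smul] at this
      unfold xs
      rw [← this, Ei_mul_T, zero_add]
    have e2 : Rr (-c₀) 0 1 = (Ei (bf 2 F 1) (be 2 F 0) c₀)⁻¹ * u1 2 F := by
      rw [e1, u1_two, ← Rr_of_T, ← SpRoot.T_inv]
      unfold xl
      group
    rw [e2]
    exact H.mul_mem (H.inv_mem hc₀) h1
  -- elements fixing `e₀`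
  have hh : ∀ σ : F, ∃ h ∈ H, (h : Matrix (Fin 2 ⊕ Fin 2) (Fin 2 ⊕ Fin 2) F) *ᵥ be 2 F 0
      = be 2 F 0 ∧ (h : Matrix (Fin 2 ⊕ Fin 2) (Fin 2 ⊕ Fin 2) F) *ᵥ be 2 F 1
      = be 2 F 1 + σ • be 2 F 0 := by
    intro σ
    have hv : sympForm 2 F ((-σ) • bf 2 F 1) (be 2 F 0) = 0 := by
      rw [sympForm_smul_left, hv1, mul_zero]
    obtain ⟨c, hc⟩ := hB0 _ hv
    refine ⟨_, hc, ?_, ?_⟩
    · rw [Ei_mulVec hv, form_be_be, sympForm_smul_right, form_be_bf_ne (by omega)]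
      module
    · rw [Ei_mulVec hv, form_be_be, sympForm_smul_right, form_be_bf_self (by omega)]
      module
  -- elements fixing `e₁`
  have hk : ∀ τ : F, ∃ k ∈ H, (k : Matrix (Fin 2 ⊕ Fin 2) (Fin 2 ⊕ Fin 2) F) *ᵥ be 2 F 0
      = be 2 F 0 + τ • be 2 F 1 ∧ (k : Matrix (Fin 2 ⊕ Fin 2) (Fin 2 ⊕ Fin 2) F) *ᵥ be 2 F 1
      = be 2 F 1 := by
    intro τ
    have hv : sympForm 2 F ((-τ) • bf 2 F 0) (be 2 F 1) = 0 := by
      rw [sympForm_smul_left, form_bf_be_ne (by omega), mul_zero]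
    obtain ⟨c, hc⟩ := hB1 _ hv
    refine ⟨_, hc, ?_, ?_⟩
    · rw [Ei_mulVec hv, form_be_be, sympForm_smul_right, form_be_bf_self (by omega)]
      module
    · rw [Ei_mulVec hv, form_be_be, sympForm_smul_right, form_be_bf_ne (by omega)]
      module
  -- P1
  have hP1 : ∀ σ : F, Rr (σ * σ) σ 0 ∈ H := by
    intro σ
    obtain ⟨h, hhH, h0, h1'⟩ := hh σ
    have e := conj_Rr_h h0 h1' (-c₀) 0 1
    have e2 : Rr (σ * σ) σ 0 = (Rr (-c₀) 0 1)⁻¹ * (h * Rr (-c₀) 0 1 * h⁻¹) := by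
      rw [e, Rr_inv, Rr_mul]
      congr 1 <;> ring
    rw [e2]
    exact H.mul_mem (H.inv_mem hZ) (H.mul_mem (H.mul_mem hhH hZ) (H.inv_mem hhH))
  -- P2
  have hP2 : ∀ σ τ : F, Rr (σ * σ - (σ + σ * σ * τ) * (σ + σ * σ * τ)) 0
      (2 * σ * τ + σ * σ * τ * τ) ∈ H := by
    intro σ τ
    obtain ⟨k, hkH, k0, k1⟩ := hk τ
    have e := conj_Rr_k k0 k1 (σ * σ) σ 0
    have e2 : Rr (σ * σ - (σ + σ * σ * τ) * (σ + σ * σ * τ)) 0 (2 * σ * τ + σ * σ * τ * τ)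
        = (k * Rr (σ * σ) σ 0 * k⁻¹)
          * (Rr ((σ + σ * σ * τ) * (σ + σ * σ * τ)) (σ + σ * σ * τ) 0)⁻¹ := by
      rw [e, Rr_inv, Rr_mul]
      congr 1 <;> ring
    rw [e2]
    exact H.mul_mem (H.mul_mem (H.mul_mem hkH (hP1 σ)) (H.inv_mem hkH)) (H.inv_mem (hP1 _))
  -- P3
  have hP3 : ∀ σ τ : F, T (be 2 F 0) (σ * σ * (1 + σ * σ) * (τ * τ)) ∈ H := by
    intro σ τ
    have a1 := hP2 σ τ
    have a2 := hP2 1 (σ * τ)
    have e : T (be 2 F 0) (σ * σ * (1 + σ * σ) * (τ * τ))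
        = Rr (σ * σ - (σ + σ * σ * τ) * (σ + σ * σ * τ)) 0 (2 * σ * τ + σ * σ * τ * τ)
          * (Rr (1 * 1 - (1 + 1 * 1 * (σ * τ)) * (1 + 1 * 1 * (σ * τ))) 0
            (2 * 1 * (σ * τ) + 1 * 1 * (σ * τ) * (σ * τ)))⁻¹ := by
      rw [Rr_inv, Rr_mul, ← Rr_diag]
      congr 1
      · linear_combination (σ * σ * σ * τ + σ * σ * σ * σ * τ * τ - σ * τ) * h2
      · ring
      · ring
    rw [e]
    exact H.mul_mem a1 (H.inv_mem a2)
  have hκ : θ * θ * (1 + θ * θ) ≠ 0 := by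
    have e : (1 : F) + θ * θ = (1 - θ) * (1 - θ) := by linear_combination θ * h2
    rw [e]
    have : (1 : F) - θ ≠ 0 := sub_ne_zero.mpr (fun h => hθ1 h.symm)
    exact mul_ne_zero (mul_ne_zero hθ0 hθ0) (mul_ne_zero this this)
  intro c
  obtain ⟨s, t, hst⟩ := Cfsg.Agent.S2402.exists_sq_add_sq (c / (θ * θ * (1 + θ * θ)))
  have e : c = θ * θ * (1 + θ * θ) * (s * s) + θ * θ * (1 + θ * θ) * (t * t) := by
    have hst' : s * s + t * t = c / (θ * θ * (1 + θ * θ)) := by rw [← hst]; ring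
    rw [← mul_add, hst', mul_div_cancel₀ _ hκ]
  rw [e, ← SpRoot.T_mul]
  exact H.mul_mem (hP3 θ s) (hP3 θ t)

end Cfsg.Agent.Helper8.SpTri
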