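import Mathlib
import Cfsg.Agent.Helper8.SpTriM

set_option autoImplicit false
set_option linter.unusedSimpArgs false
set_option linter.unusedSectionVars false

/-! Generation of `Sp₄(F)` by three conjugate regular unipotent elements: characteristic two,
at least four elements (helper8). -/

namespace Cfsg.Agent.Helper8.SpTri

open Matrix Cfsg Cfsg.Agent.Helper7.Symp Cfsg.Agent.Helper8.SpGen

variable {F : Type*} [Field F]

theorem u1_two_be_zero :
    (u1 2 F : Matrix (Fin 2 ⊕ Fin 2) (Fin 2 ⊕ Fin 2) F) *ᵥ be 2 F 0 = be 2 F 0 := by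
  rw [u1_two, coe_mul_mulVec, xl_be, xs_be_ne (by omega)]

theorem u1_two_be_one :
    (u1 2 F : Matrix (Fin 2 ⊕ Fin 2) (Fin 2 ⊕ Fin 2) F) *ᵥ be 2 F 1 = be 2 F 1 - be 2 F 0 := by
  rw [u1_two, coe_mul_mulVec, xl_be, xs_be_succ (by omega), one_smul]

theorem u1_two_bf_one :
    (u1 2 F : Matrix (Fin 2 ⊕ Fin 2) (Fin 2 ⊕ Fin 2) F) *ᵥ bf 2 F 1
      = bf 2 F 1 + be 2 F 1 - be 2 F 0 := by
  have e := xl_bf_last (n := 2) (F := F) (by omega) 1
  rw [show 2 - 1 = 1 from rfl, one_smul] at e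
  rw [u1_two, coe_mul_mulVec, e, mulVec_add, xs_bf_ne (by omega), xs_be_succ (by omega), one_smul]
  abel

/-- the third generator for `δ = 1`. -/
theorem u3d_one_inv_be_one :
    ((u3d (1 : F) one_ne_zero)⁻¹ : symplecticGroup (Fin 2) F).1 *ᵥ be 2 F 1
      = be 2 F 1 + bf 2 F 1 := by
  have := u3d_inv_be_one (1 : F) one_ne_zero
  rwa [one_mul, one_smul] at this

theorem u3d_one_inv_be_zero :
    ((u3d (1 : F) one_ne_zero)⁻¹ : symplecticGroup (Fin 2) F).1 *ᵥ be 2 F 0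
      = be 2 F 0 - (be 2 F 1 + bf 2 F 1) := by
  have h0 := u3d_be_zero (1 : F) one_ne_zero
  rw [inv_one, one_smul] at h0
  have h1 : ((u3d (1 : F) one_ne_zero)⁻¹ : symplecticGroup (Fin 2) F).1 *ᵥ
      ((u3d (1 : F) one_ne_zero : Matrix (Fin 2 ⊕ Fin 2) (Fin 2 ⊕ Fin 2) F) *ᵥ be 2 F 0)
      = be 2 F 0 := by
    rw [← coe_mul_mulVec, inv_mul_cancel, coe_one_mulVec]
  rw [h0, mulVec_add, u3d_one_inv_be_one] at h1
  exact eq_sub_of_add_eq h1

/-- **Criterion, characteristic two.** -/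
theorem eq_top_two_even [Fintype F] (h2 : (2 : F) = 0) {θ : F} (hθ0 : θ ≠ 0) (hθ1 : θ ≠ 1)
    (hgen : ∀ s : F, s ≠ 0 → ∃ t : ℕ, s = θ ^ t) {H : Subgroup (symplecticGroup (Fin 2) F)}
    (h1 : u1 2 F ∈ H) (hρ : xs 2 F 0 θ ∈ H) (h3 : u3d (1 : F) one_ne_zero ∈ H) : H = ⊤ := by
  set M := MG H (be 2 F 0) with hM
  have hv1 : sympForm 2 F (bf 2 F 1) (be 2 F 0) = 0 := form_bf_be_ne (by omega)
  have hρE : Ei (θ • bf 2 F 1) (be 2 F 0) 0 = xs 2 F 0 θ := Ei_eq_Sg θ hv1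
  -- `θ f₁ ∈ M`
  have hθf : θ • bf 2 F 1 ∈ M := by
    refine ⟨by rw [sympForm_smul_left, hv1, mul_zero], 0, ?_⟩
    rw [hρE]
    exact hρ
  -- the action of `u1` on `M`
  have hu1 : ∀ s : F, s • bf 2 F 1 ∈ M → s • be 2 F 1 ∈ M := by
    intro s hs
    have h4 := MG_map h1 u1_two_be_zero hs
    rw [mulVec_smul, u1_two_bf_one] at h4
    have h5 := M.add_mem (M.sub_mem h4 hs) (smul_self_mem_MG H (be 2 F 0) s)
    convert h5 using 1
    module
  have hu1' : ∀ t : F, t • (be 2 F 1 + bf 2 F 1) ∈ M → t • bf 2 F 1 ∈ M := by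
    intro t ht
    have h4 := MG_map h1 u1_two_be_zero ht
    rw [mulVec_smul, mulVec_add, u1_two_bf_one, u1_two_be_one] at h4
    have e : t • (be 2 F 1 - be 2 F 0 + (bf 2 F 1 + be 2 F 1 - be 2 F 0))
        = t • bf 2 F 1 + (2 * t) • be 2 F 1 - (2 * t) • be 2 F 0 := by module
    rw [e, h2, zero_mul, zero_smul, zero_smul, add_zero, sub_zero] at h4
    exact h4
  -- the element `W`
  set W := u1 2 F * xs 2 F 0 θ * (u1 2 F)⁻¹ * (xs 2 F 0 θ)⁻¹ with hW
  have hWH : W ∈ H := H.mul_mem (H.mul_mem (H.mul_mem h1 hρ) (H.inv_mem h1)) (H.inv_mem hρ)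
  have hθv : sympForm 2 F (θ • bf 2 F 1) (be 2 F 0) = 0 := by
    rw [sympForm_smul_left, hv1, mul_zero]
  have hθv' : sympForm 2 F (θ • (bf 2 F 1 + be 2 F 1 - be 2 F 0)) (be 2 F 0) = 0 := by
    simp only [sympForm_smul_left, sympForm_add_left, sympForm_sub_left, hv1, form_be_be]
    ring
  have hθn : sympForm 2 F ((-θ) • bf 2 F 1) (be 2 F 0) = 0 := by
    rw [sympForm_smul_left, hv1, mul_zero]
  have hWE : W = Ei (θ • (bf 2 F 1 + be 2 F 1 - be 2 F 0) + (-θ) • bf 2 F 1) (be 2 F 0)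
      (-(θ * θ)) := by
    rw [hW, ← hρE, conj_Ei, mulVec_smul, u1_two_bf_one, u1_two_be_zero, Ei_inv hθv, ← neg_smul,
      Ei_mul hθv' hθn]
    congr 1
    simp only [sympForm_smul_left, sympForm_smul_right, sympForm_add_right, sympForm_sub_right,
      form_bf_bf, form_bf_be_self (show 1 < 2 by omega),
      form_bf_be_ne (show (1 : ℕ) ≠ 0 by omega)]
    ring
  -- the element `Y`
  set Y := (u3d (1 : F) one_ne_zero)⁻¹ * W * u3d (1 : F) one_ne_zero with hY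
  have hYH : Y ∈ H := H.mul_mem (H.mul_mem (H.inv_mem h3) hWH) h3
  set p := be 2 F 0 - (be 2 F 1 + bf 2 F 1) with hp
  set v' := θ • (be 2 F 1 + bf 2 F 1 - p) with hv'
  have hYE : Y = Ei v' p (-(θ * θ)) := by
    have e := conj_Ei ((u3d (1 : F) one_ne_zero)⁻¹)
      (θ • (bf 2 F 1 + be 2 F 1 - be 2 F 0) + (-θ) • bf 2 F 1) (be 2 F 0) (-(θ * θ))
    rw [inv_inv, ← hWE, ← hY, u3d_one_inv_be_zero] at e
    rw [e, hv', hp]
    congr 1
    have e2 : θ • (bf 2 F 1 + be 2 F 1 - be 2 F 0) + (-θ) • bf 2 F 1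
        = θ • (be 2 F 1 - be 2 F 0) := by module
    rw [e2, mulVec_smul, mulVec_sub, u3d_one_inv_be_one, u3d_one_inv_be_zero]
  have hpv : sympForm 2 F v' p = 0 := by
    rw [hv', hp]
    simp only [sympForm_smul_left, sympForm_add_left, sympForm_sub_left, sympForm_add_right,
      sympForm_sub_right, form_be_be, form_bf_bf, form_bf_be_self (show 1 < 2 by omega),
      form_be_bf_self (show 1 < 2 by omega), form_bf_be_ne (show (1 : ℕ) ≠ 0 by omega),
      form_be_bf_ne (show (0 : ℕ) ≠ 1 by omega)]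
    ring
  have hY0 : (Y : Matrix (Fin 2 ⊕ Fin 2) (Fin 2 ⊕ Fin 2) F) *ᵥ be 2 F 0 = be 2 F 0 := by
    rw [hYE, Ei_mulVec hpv, hv', hp]
    simp only [sympForm_smul_right, sympForm_add_right, sympForm_sub_right, form_be_be,
      form_be_bf_ne (show (0 : ℕ) ≠ 1 by omega)]
    module
  have hYf : ∀ s : F, (Y : Matrix (Fin 2 ⊕ Fin 2) (Fin 2 ⊕ Fin 2) F) *ᵥ (s • bf 2 F 1)
      = s • bf 2 F 1 + (s * (-4 * θ - θ * θ)) • (be 2 F 1 + bf 2 F 1)
        + (s * (3 * θ + θ * θ)) • be 2 F 0 := by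
    intro s
    rw [hYE, Ei_mulVec hpv, hv', hp]
    simp only [sympForm_smul_left, sympForm_smul_right, sympForm_add_right, sympForm_sub_right,
      form_bf_bf, form_bf_be_self (show 1 < 2 by omega),
      form_bf_be_ne (show (1 : ℕ) ≠ 0 by omega)]
    module
  have hmul : ∀ s : F, s • bf 2 F 1 ∈ M → (θ * θ * s) • bf 2 F 1 ∈ M := by
    intro s hs
    have h4 := MG_map hYH hY0 hs
    rw [hYf] at h4
    have h5 := M.sub_mem (M.sub_mem h4 (smul_self_mem_MG H (be 2 F 0) (s * (3 * θ + θ * θ)))) hs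
    have e : s • bf 2 F 1 + (s * (-4 * θ - θ * θ)) • (be 2 F 1 + bf 2 F 1)
        + (s * (3 * θ + θ * θ)) • be 2 F 0 - (s * (3 * θ + θ * θ)) • be 2 F 0 - s • bf 2 F 1
        = (s * (-4 * θ - θ * θ)) • (be 2 F 1 + bf 2 F 1) := by module
    rw [e] at h5
    have e2 : s * (-4 * θ - θ * θ) = θ * θ * s := by
      linear_combination (-2 * s * θ - s * θ * θ) * h2
    rw [e2] at h5
    exact hu1' _ h5
  -- the coefficient group
  set A := (coefV M (bf 2 F 1)).comap (AddMonoidHom.mulLeft θ) with hA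
  have hA_iff : ∀ s : F, s ∈ A ↔ (θ * s) • bf 2 F 1 ∈ M := by
    intro s
    rw [hA, AddSubgroup.mem_comap, mem_coefV, AddMonoidHom.coe_mulLeft]
  have h1A : (1 : F) ∈ A := by
    rw [hA_iff, mul_one]
    exact hθf
  have hmulA : ∀ s ∈ A, θ * θ * s ∈ A := by
    intro s hs
    rw [hA_iff] at hs ⊢
    have := hmul _ hs
    convert this using 2
    ring
  have hall := sq_closure hgen A h1A hmulA
  have hallf : ∀ t : F, t • bf 2 F 1 ∈ M := by
    intro t
    have := (hA_iff _).mp (hall (θ⁻¹ * t))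
    rwa [mul_inv_cancel_left₀ hθ0] at this
  have hB : Big H (be 2 F 0) := big_two (fun s => hu1 s (hallf s)) hallf
  have hB1 : Big H (be 2 F 1) := Big.of_orb hB (be_one_mem_Orb one_ne_zero h3 hB)
  have hF : Full H (be 2 F 0) := full_of_big_two h2 hθ0 hθ1 h1 hB hB1
  exact eq_top_two one_ne_zero h3 hB hF

theorem three_conj_two_even [Fintype F] (h2 : (2 : F) = 0) (hcard : Fintype.card F ≠ 2) :
    ∃ u g h : symplecticGroup (Fin 2) F,
      IsNilpotent ((u : Matrix (Fin 2 ⊕ Fin 2) (Fin 2 ⊕ Fin 2) F) - 1) ∧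
      ((u : Matrix (Fin 2 ⊕ Fin 2) (Fin 2 ⊕ Fin 2) F) - 1) ^ (2 * 2 - 1) ≠ 0 ∧
      Subgroup.closure ({u, g * u * g⁻¹, h * u * h⁻¹} : Set (symplecticGroup (Fin 2) F)) = ⊤ := by
  classical
  obtain ⟨θ, hθ0, hgen, -, -⟩ := exists_generator_pow (F := F)
  have hθ1 : θ ≠ 1 := by
    intro h
    apply hcard
    have hu : (Finset.univ : Finset F) = {0, 1} := by
      ext s
      simp only [Finset.mem_univ, Finset.mem_insert, Finset.mem_singleton, true_iff]
      by_cases hs : s = 0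
      · exact Or.inl hs
      · obtain ⟨t, ht⟩ := hgen s hs
        rw [h, one_pow] at ht
        exact Or.inr ht
    rw [← Finset.card_univ, hu, Finset.card_pair zero_ne_one]
  have hμ : (1 : F) + θ ≠ 0 := by
    intro h
    apply hθ1
    linear_combination h - h2
  have hreg := u1_regular (n := 2) (F := F) (by omega)
  refine ⟨u1 2 F, dg (n := 2) (show 0 < 2 by omega) (1 + θ) hμ,
    Jg 2 F * dg (n := 2) (show 1 < 2 by omega) 1 one_ne_zero, hreg.1, hreg.2, ?_⟩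
  set H := Subgroup.closure ({u1 2 F,
    dg (n := 2) (show 0 < 2 by omega) (1 + θ) hμ * u1 2 F
      * (dg (n := 2) (show 0 < 2 by omega) (1 + θ) hμ)⁻¹,
    (Jg 2 F * dg (n := 2) (show 1 < 2 by omega) 1 one_ne_zero) * u1 2 F
      * (Jg 2 F * dg (n := 2) (show 1 < 2 by omega) 1 one_ne_zero)⁻¹} :
    Set (symplecticGroup (Fin 2) F)) with hH
  have m1 : u1 2 F ∈ H := Subgroup.subset_closure (by simp)
  have m2 : dg (n := 2) (show 0 < 2 by omega) (1 + θ) hμ * u1 2 F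
      * (dg (n := 2) (show 0 < 2 by omega) (1 + θ) hμ)⁻¹ ∈ H := Subgroup.subset_closure (by simp)
  have m3 : u3d (1 : F) one_ne_zero ∈ H := Subgroup.subset_closure (by simp [u3d])
  have hρ : xs 2 F 0 θ ∈ H := by
    have e := conj_dg_u1 (F := F) (1 + θ) hμ
    rw [add_sub_cancel_left] at e
    rw [← e]
    exact H.mul_mem m2 (H.inv_mem m1)
  exact eq_top_two_even h2 hθ0 hθ1 hgen m1 hρ m3

end Cfsg.Agent.Helper8.SpTri
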