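import Cfsg.Agent.Helper8.UCentD
set_option autoImplicit false
set_option linter.unusedSectionVars false

/-!
Unipotent classes of the symplectic groups: a monomial alternating form on the index set of a
unipotent Jordan matrix for which the nilpotent part is skew-adjoint, and the adjoint
anti-involution.
-/

namespace Cfsg.Agent.Helper8.SpU

open Matrix Cfsg.Agent.Helper8.JCent Cfsg.Agent.Helper8.UCent

/-- the data of a monomial alternating form adapted to the Jordan blocks: blocks of even size are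
self-paired, blocks of odd size are paired by a fixed-point-free involution -/
structure Mod (F : Type*) [Field F] (t : ℕ) where
  /-- the block sizes -/
  d : Fin t → ℕ
  hd : ∀ k, 1 ≤ d k
  /-- the pairing of the blocks -/
  τ : Fin t → Fin t
  τ_τ : ∀ k, τ (τ k) = k
  d_τ : ∀ k, d (τ k) = d k
  /-- the signs -/
  c : Fin t → F
  c_sq : ∀ k, c k * c k = 1
  τ_even : ∀ k, Even (d k) → τ k = k
  c_even : ∀ k, Even (d k) → c k = 1
  c_odd : ∀ k, Odd (d k) → c (τ k) = - c k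

variable {F : Type*} [Field F] {t : ℕ} (M : Mod F t)

theorem Mod.c_τ (k : Fin t) : M.c (M.τ k) = (-1) ^ (M.d k) * M.c k := by
  rcases Nat.even_or_odd (M.d k) with h | h
  · rw [M.τ_even k h, h.neg_one_pow, one_mul]
  · rw [M.c_odd k h, h.neg_one_pow, neg_one_mul]

/-- the pairing of the indices -/
def Mod.ρ (a : Idx M.d) : Idx M.d :=
  ⟨M.τ a.1, ⟨M.d a.1 - 1 - (a.2 : ℕ), by
    rw [M.d_τ]
    have := a.2.2
    omega⟩⟩

theorem Mod.ρ_fst (a : Idx M.d) : (M.ρ a).1 = M.τ a.1 := rfl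

theorem Mod.ρ_snd (a : Idx M.d) : ((M.ρ a).2 : ℕ) = M.d a.1 - 1 - (a.2 : ℕ) := rfl

theorem Mod.ρ_ρ (a : Idx M.d) : M.ρ (M.ρ a) = a := by
  refine idx_ext ?_ ?_
  · rw [Mod.ρ_fst, Mod.ρ_fst, M.τ_τ]
  · rw [Mod.ρ_snd, Mod.ρ_snd, Mod.ρ_fst, M.d_τ]
    have := a.2.2
    omega

/-- the pairing as a permutation -/
def Mod.ρe : Equiv.Perm (Idx M.d) := ⟨M.ρ, M.ρ, M.ρ_ρ, M.ρ_ρ⟩

theorem Mod.ρe_apply (a : Idx M.d) : M.ρe a = M.ρ a := rfl

theorem Mod.eq_ρ_iff (a b : Idx M.d) : a = M.ρ b ↔ b = M.ρ a := by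
  constructor
  · rintro rfl; rw [Mod.ρ_ρ]
  · rintro rfl; rw [Mod.ρ_ρ]

/-- the signs of the form -/
def Mod.ω (a : Idx M.d) : F := (-1) ^ (a.2 : ℕ) * M.c a.1

theorem Mod.ω_sq (a : Idx M.d) : M.ω a * M.ω a = 1 := by
  unfold Mod.ω
  have h1 : ((-1 : F) ^ (a.2 : ℕ)) * ((-1 : F) ^ (a.2 : ℕ)) = 1 := by
    rw [← pow_add]
    exact Even.neg_one_pow ⟨_, rfl⟩
  have h2 := M.c_sq a.1
  linear_combination (M.c a.1 * M.c a.1) * h1 + h2

theorem Mod.ω_ρ (a : Idx M.d) : M.ω (M.ρ a) = - M.ω a := by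
  unfold Mod.ω
  rw [Mod.ρ_snd, Mod.ρ_fst, M.c_τ]
  have h1 : ((-1 : F) ^ (a.2 : ℕ)) * ((-1 : F) ^ (a.2 : ℕ)) = 1 := by
    rw [← pow_add]
    exact Even.neg_one_pow ⟨_, rfl⟩
  have h2 : ((-1 : F)) ^ (M.d a.1 - 1 - (a.2 : ℕ)) * (-1) ^ (M.d a.1) * (-1) ^ (a.2 : ℕ) = -1 := by
    rw [← pow_add, ← pow_add]
    apply Odd.neg_one_pow
    refine ⟨M.d a.1 - 1, ?_⟩
    have := a.2.2
    omega
  linear_combination (M.c a.1 * (-1 : F) ^ (a.2 : ℕ)) * h2 -
    (M.c a.1 * (-1 : F) ^ (M.d a.1 - 1 - (a.2 : ℕ)) * (-1) ^ (M.d a.1)) * h1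

theorem Mod.ω_mul_ω_ρ (a : Idx M.d) : M.ω a * M.ω (M.ρ a) = -1 := by
  rw [Mod.ω_ρ, mul_neg, Mod.ω_sq]

/-- the adjoint with respect to the form -/
def Mod.adj (X : Matrix (Idx M.d) (Idx M.d) F) : Matrix (Idx M.d) (Idx M.d) F :=
  fun a b => M.ω a * M.ω b * X (M.ρ b) (M.ρ a)

theorem Mod.adj_apply (X : Matrix (Idx M.d) (Idx M.d) F) (a b : Idx M.d) :
    M.adj X a b = M.ω a * M.ω b * X (M.ρ b) (M.ρ a) := rfl

theorem Mod.adj_mul (X Y : Matrix (Idx M.d) (Idx M.d) F) : M.adj (X * Y) = M.adj Y * M.adj X := by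
  ext a b
  rw [Mod.adj_apply, Matrix.mul_apply, Matrix.mul_apply, Finset.mul_sum,
    ← Equiv.sum_comp M.ρe]
  apply Finset.sum_congr rfl
  intro c _
  rw [Mod.adj_apply, Mod.adj_apply, Mod.ρe_apply]
  have h := M.ω_sq c
  linear_combination (-(M.ω a * M.ω b * X (M.ρ b) (M.ρ c) * Y (M.ρ c) (M.ρ a))) * h

theorem Mod.adj_adj (X : Matrix (Idx M.d) (Idx M.d) F) : M.adj (M.adj X) = X := by
  ext a b
  rw [Mod.adj_apply, Mod.adj_apply, Mod.ρ_ρ, Mod.ρ_ρ]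
  have h1 := M.ω_mul_ω_ρ a
  have h2 := M.ω_mul_ω_ρ b
  linear_combination (M.ω b * M.ω (M.ρ b) * X a b) * h1 - X a b * h2

theorem Mod.adj_one : M.adj (1 : Matrix (Idx M.d) (Idx M.d) F) = 1 := by
  ext a b
  rw [Mod.adj_apply, Matrix.one_apply, Matrix.one_apply]
  by_cases h : a = b
  · subst h
    rw [if_pos rfl, if_pos rfl, mul_one, Mod.ω_sq]
  · rw [if_neg h, if_neg, mul_zero]
    intro h'
    apply h
    rw [← M.ρ_ρ a, ← h', M.ρ_ρ]

theorem Mod.adj_add (X Y : Matrix (Idx M.d) (Idx M.d) F) : M.adj (X + Y) = M.adj X + M.adj Y := by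
  ext a b
  rw [Matrix.add_apply, Mod.adj_apply, Mod.adj_apply, Mod.adj_apply, Matrix.add_apply, mul_add]

theorem Mod.adj_zero : M.adj (0 : Matrix (Idx M.d) (Idx M.d) F) = 0 := by
  ext a b
  rw [Mod.adj_apply, Matrix.zero_apply, Matrix.zero_apply, mul_zero]

theorem Mod.adj_neg (X : Matrix (Idx M.d) (Idx M.d) F) : M.adj (-X) = - M.adj X := by
  ext a b
  rw [Matrix.neg_apply, Mod.adj_apply, Mod.adj_apply, Matrix.neg_apply, mul_neg]

theorem Mod.adj_sub (X Y : Matrix (Idx M.d) (Idx M.d) F) : M.adj (X - Y) = M.adj X - M.adj Y := by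
  rw [sub_eq_add_neg, Mod.adj_add, Mod.adj_neg, ← sub_eq_add_neg]

theorem Mod.adj_smul (r : F) (X : Matrix (Idx M.d) (Idx M.d) F) :
    M.adj (r • X) = r • M.adj X := by
  ext a b
  rw [Matrix.smul_apply, Mod.adj_apply, Mod.adj_apply, Matrix.smul_apply, smul_eq_mul, smul_eq_mul]
  ring

theorem Mod.adj_pow (X : Matrix (Idx M.d) (Idx M.d) F) (n : ℕ) :
    M.adj (X ^ n) = (M.adj X) ^ n := by
  induction n with
  | zero => rw [pow_zero, pow_zero, Mod.adj_one]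
  | succ n ih => rw [pow_succ, Mod.adj_mul, ih, ← pow_succ']

theorem Mod.adj_injective : Function.Injective M.adj := fun X Y h => by
  rw [← M.adj_adj X, h, M.adj_adj]

/-- the nilpotent part of the Jordan matrix is skew-adjoint -/
theorem Mod.adj_NN : M.adj (NN M.d F) = - NN M.d F := by
  ext a b
  rw [Mod.adj_apply, Matrix.neg_apply, NN_apply, NN_apply]
  have ha := a.2.2
  have hb := b.2.2
  have e1 : (M.ρ b).1 = M.τ b.1 := rfl
  have e2 : (M.ρ a).1 = M.τ a.1 := rfl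
  have e3 : ((M.ρ b).2 : ℕ) = M.d b.1 - 1 - (b.2 : ℕ) := rfl
  have e4 : ((M.ρ a).2 : ℕ) = M.d a.1 - 1 - (a.2 : ℕ) := rfl
  by_cases h : a.1 = b.1 ∧ (a.2 : ℕ) = (b.2 : ℕ) + 1
  · obtain ⟨h1, h2⟩ := h
    have h5 : (M.ρ b).1 = (M.ρ a).1 ∧ ((M.ρ b).2 : ℕ) = ((M.ρ a).2 : ℕ) + 1 := by
      refine ⟨by rw [e1, e2, h1], ?_⟩
      have hd' : M.d a.1 = M.d b.1 := congrArg M.d h1
      rw [e3, e4]
      omega
    rw [if_pos h5, if_pos ⟨h1, h2⟩, mul_one]
    have h6 : M.ω a = - M.ω b := by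
      unfold Mod.ω
      rw [h2, pow_succ]
      have : M.c a.1 = M.c b.1 := congrArg M.c h1
      rw [this]
      ring
    rw [h6, neg_mul, M.ω_sq]
  · rw [if_neg h, if_neg, mul_zero, neg_zero]
    rintro ⟨h1, h2⟩
    apply h
    rw [e1, e2] at h1
    have h3 : b.1 = a.1 := by rw [← M.τ_τ b.1, h1, M.τ_τ]
    refine ⟨h3.symm, ?_⟩
    have hd' : M.d b.1 = M.d a.1 := congrArg M.d h3
    rw [e3, e4] at h2
    omega

/-- the commuting algebra is stable under the adjoint -/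
theorem Mod.adj_mem_VV {X : Matrix (Idx M.d) (Idx M.d) F} (hX : X ∈ VV M.d F) :
    M.adj X ∈ VV M.d F := by
  rw [mem_VV] at hX ⊢
  have h := congrArg M.adj hX
  rw [Mod.adj_mul, Mod.adj_mul, Mod.adj_NN] at h
  rw [Matrix.neg_mul, Matrix.mul_neg] at h
  exact (neg_injective h).symm

/-- the matrix of the form -/
def Mod.Om : Matrix (Idx M.d) (Idx M.d) F := fun a b => if b = M.ρ a then M.ω a else 0

theorem Mod.Om_mul_apply (X : Matrix (Idx M.d) (Idx M.d) F) (a b : Idx M.d) :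
    (M.Om * X) a b = M.ω a * X (M.ρ a) b := by
  rw [Matrix.mul_apply, Finset.sum_eq_single (M.ρ a)]
  · unfold Mod.Om
    rw [if_pos rfl]
  · intro c _ hc
    unfold Mod.Om
    rw [if_neg hc, zero_mul]
  · intro h
    exact absurd (Finset.mem_univ _) h

theorem Mod.mul_Om_apply (X : Matrix (Idx M.d) (Idx M.d) F) (a b : Idx M.d) :
    (X * M.Om) a b = - M.ω b * X a (M.ρ b) := by
  rw [Matrix.mul_apply, Finset.sum_eq_single (M.ρ b)]
  · unfold Mod.Om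
    rw [if_pos (M.ρ_ρ b).symm, Mod.ω_ρ]
    ring
  · intro c _ hc
    unfold Mod.Om
    rw [if_neg, mul_zero]
    intro h
    apply hc
    rw [h, M.ρ_ρ]
  · intro h
    exact absurd (Finset.mem_univ _) h

/-- the adjoint is the adjoint with respect to the form -/
theorem Mod.Om_mul_adj (X : Matrix (Idx M.d) (Idx M.d) F) : M.Om * M.adj X = Xᵀ * M.Om := by
  ext a b
  rw [Mod.Om_mul_apply, Mod.mul_Om_apply, Mod.adj_apply, Matrix.transpose_apply, M.ρ_ρ]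
  have h := M.ω_mul_ω_ρ a
  linear_combination (M.ω b * X (M.ρ b) a) * h

theorem Mod.Om_transpose : (M.Om)ᵀ = - M.Om := by
  ext a b
  rw [Matrix.transpose_apply, Matrix.neg_apply]
  unfold Mod.Om
  by_cases h : a = M.ρ b
  · rw [if_pos h, if_pos ((M.eq_ρ_iff a b).mp h), h, M.ω_ρ, neg_neg]
  · rw [if_neg h, if_neg (fun h' => h ((M.eq_ρ_iff b a).mp h')), neg_zero]

theorem Mod.Om_mul_Om : M.Om * M.Om = -1 := by
  ext a b
  rw [Mod.Om_mul_apply, Matrix.neg_apply, Matrix.one_apply]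
  unfold Mod.Om
  rw [M.ρ_ρ]
  by_cases h : a = b
  · subst h
    rw [if_pos rfl, if_pos rfl, M.ω_mul_ω_ρ]
  · rw [if_neg h, if_neg (Ne.symm h), mul_zero, neg_zero]

theorem Mod.Om_det_ne_zero : (M.Om).det ≠ 0 := by
  intro h
  have h1 := congrArg Matrix.det M.Om_mul_Om
  rw [Matrix.det_mul, h, mul_zero, Matrix.det_neg, Matrix.det_one, mul_one] at h1
  exact pow_ne_zero _ (neg_ne_zero.mpr one_ne_zero) h1.symm

/-- isometries of the form -/
theorem Mod.isometry_iff (g : Matrix (Idx M.d) (Idx M.d) F) :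
    gᵀ * M.Om * g = M.Om ↔ M.adj g * g = 1 := by
  rw [← M.Om_mul_adj, Matrix.mul_assoc]
  constructor
  · intro h
    have h1 : M.Om * (M.Om * (M.adj g * g)) = M.Om * M.Om := congrArg (fun Z => M.Om * Z) h
    rw [← Matrix.mul_assoc, M.Om_mul_Om, Matrix.neg_mul, Matrix.one_mul] at h1
    exact neg_injective h1
  · intro h
    rw [h, Matrix.mul_one]

end Cfsg.Agent.Helper8.SpU
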