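import Cfsg.Agent.Helper8.SpUA
set_option autoImplicit false
set_option linter.unusedSectionVars false

/-!
Unipotent classes of the symplectic groups: the adjoint on the top coefficient blocks of the
commuting algebra, and the Gram matrices of the induced forms.
-/

namespace Cfsg.Agent.Helper8.SpU

open Matrix Cfsg.Agent.Helper8.JCent Cfsg.Agent.Helper8.UCent

variable {F : Type*} [Field F] {t : ℕ} (M : Mod F t)

/-- the pairing on the blocks of a given size -/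
def Mod.τs (s : ℕ) (l : fib M.d s) : fib M.d s := ⟨M.τ l.1, by rw [M.d_τ]; exact l.2⟩

theorem Mod.τs_val (s : ℕ) (l : fib M.d s) : (M.τs s l).1 = M.τ l.1 := rfl

theorem Mod.τs_τs (s : ℕ) (l : fib M.d s) : M.τs s (M.τs s l) = l := Subtype.ext (M.τ_τ l.1)

theorem Mod.eq_τs_iff (s : ℕ) (l k : fib M.d s) : l = M.τs s k ↔ k = M.τs s l := by
  constructor
  · rintro rfl; rw [Mod.τs_τs]
  · rintro rfl; rw [Mod.τs_τs]

theorem Mod.c_τs (s : ℕ) (l : fib M.d s) : M.c (M.τ l.1) = (-1) ^ s * M.c l.1 := by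
  rw [M.c_τ, l.2]

theorem Mod.c_mul_c_τ (s : ℕ) (l : fib M.d s) : M.c l.1 * M.c (M.τ l.1) = (-1) ^ s := by
  rw [M.c_τs s l]
  have := M.c_sq l.1
  linear_combination ((-1 : F) ^ s) * this

/-- the monomial matrix of the pairing on the blocks of a given size -/
def Mod.Ts (s : ℕ) : Matrix (fib M.d s) (fib M.d s) F :=
  fun l k => if k = M.τs s l then M.c l.1 else 0

theorem Mod.Ts_mul_apply (s : ℕ) (X : Matrix (fib M.d s) (fib M.d s) F) (l k : fib M.d s) :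
    (M.Ts s * X) l k = M.c l.1 * X (M.τs s l) k := by
  rw [Matrix.mul_apply, Finset.sum_eq_single (M.τs s l)]
  · unfold Mod.Ts
    rw [if_pos rfl]
  · intro x _ hx
    unfold Mod.Ts
    rw [if_neg hx, zero_mul]
  · intro h
    exact absurd (Finset.mem_univ _) h

theorem Mod.mul_Ts_apply (s : ℕ) (X : Matrix (fib M.d s) (fib M.d s) F) (l k : fib M.d s) :
    (X * M.Ts s) l k = M.c (M.τ k.1) * X l (M.τs s k) := by
  rw [Matrix.mul_apply, Finset.sum_eq_single (M.τs s k)]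
  · unfold Mod.Ts
    rw [if_pos (M.τs_τs s k).symm, Mod.τs_val, mul_comm]
  · intro x _ hx
    unfold Mod.Ts
    rw [if_neg, mul_zero]
    intro h
    apply hx
    rw [h, M.τs_τs]
  · intro h
    exact absurd (Finset.mem_univ _) h

theorem Mod.Ts_transpose (s : ℕ) : (M.Ts s)ᵀ = (-1 : F) ^ s • M.Ts s := by
  ext l k
  rw [Matrix.transpose_apply, Matrix.smul_apply, smul_eq_mul]
  unfold Mod.Ts
  by_cases h : l = M.τs s k
  · rw [if_pos h, if_pos ((M.eq_τs_iff s l k).mp h)]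
    have : k.1 = M.τ l.1 := congrArg Subtype.val ((M.eq_τs_iff s l k).mp h)
    rw [this, M.c_τs s l]
  · rw [if_neg h, if_neg (fun h' => h ((M.eq_τs_iff s k l).mp h')), mul_zero]

theorem Mod.Ts_mul_transpose (s : ℕ) : M.Ts s * (M.Ts s)ᵀ = 1 := by
  ext l k
  rw [Mod.Ts_mul_apply, Matrix.transpose_apply, Matrix.one_apply]
  unfold Mod.Ts
  by_cases h : l = k
  · subst h
    rw [if_pos rfl, if_pos rfl, M.c_sq]
  · rw [if_neg h, if_neg, mul_zero]
    intro h'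
    apply h
    rw [← M.τs_τs s l, h', M.τs_τs]

theorem Mod.transpose_mul_Ts (s : ℕ) : (M.Ts s)ᵀ * M.Ts s = 1 :=
  mul_eq_one_comm.mp (M.Ts_mul_transpose s)

theorem Mod.Ts_even {s : ℕ} (hs : Even s) : M.Ts s = 1 := by
  ext l k
  unfold Mod.Ts
  rw [Matrix.one_apply]
  have h1 : M.τs s l = l := Subtype.ext (M.τ_even l.1 (by rw [l.2]; exact hs))
  have h2 : M.c l.1 = 1 := M.c_even l.1 (by rw [l.2]; exact hs)
  rw [h1, h2]
  by_cases h : l = k
  · rw [if_pos h, if_pos h.symm]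
  · rw [if_neg h, if_neg (Ne.symm h)]

/-- the top coefficient maps and the adjoint -/
theorem Mod.Cs_adj {X : Matrix (Idx M.d) (Idx M.d) F} (hX : X ∈ VV M.d F) (s : ℕ)
    (l k : fib M.d s) :
    Cs (M.adj X) s l k = M.c l.1 * M.c k.1 * Cs X s (M.τs s k) (M.τs s l) := by
  have hrel := rel_of_comm hX
  rw [Cs_apply M.d M.hd, Mod.adj_apply, hrel.apply]
  have hl : M.d l.1 = s := l.2
  have hk : M.d k.1 = s := k.2
  have e1 : ((M.ρ (bot M.d M.hd l.1)).2 : ℕ) = M.d l.1 - 1 := by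
    rw [Mod.ρ_snd]; rfl
  have e2 : ((M.ρ (bot M.d M.hd k.1)).2 : ℕ) = M.d k.1 - 1 := by
    rw [Mod.ρ_snd]; rfl
  rw [if_pos (by rw [e1, e2, hl, hk])]
  have e3 : ((M.ρ (bot M.d M.hd k.1)).2 : ℕ) - ((M.ρ (bot M.d M.hd l.1)).2 : ℕ) = 0 := by
    rw [e1, e2, hl, hk]; omega
  rw [e3]
  have e4 : M.ω (bot M.d M.hd l.1) = M.c l.1 := by
    unfold Mod.ω bot
    simp
  have e5 : M.ω (bot M.d M.hd k.1) = M.c k.1 := by
    unfold Mod.ω bot
    simp
  rw [e4, e5]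
  rfl

/-- the basic compatibility of the top coefficient maps with the adjoint -/
theorem Mod.Ts_mul_Cs_adj {X : Matrix (Idx M.d) (Idx M.d) F} (hX : X ∈ VV M.d F) (s : ℕ) :
    M.Ts s * Cs (M.adj X) s = (Cs X s)ᵀ * M.Ts s := by
  ext l k
  rw [Mod.Ts_mul_apply, Mod.mul_Ts_apply, M.Cs_adj hX, Matrix.transpose_apply, M.τs_τs,
    Mod.τs_val, M.c_τs s l, M.c_τs s k]
  have := M.c_sq l.1
  linear_combination ((-1 : F) ^ s * M.c k.1 * Cs X s (M.τs s k) l) * this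

/-- the Gram matrices of the induced forms -/
def Mod.Bs (h : Matrix (Idx M.d) (Idx M.d) F) (s : ℕ) : Matrix (fib M.d s) (fib M.d s) F :=
  M.Ts s * Cs h s

theorem Mod.Bs_even (h : Matrix (Idx M.d) (Idx M.d) F) {s : ℕ} (hs : Even s) :
    M.Bs h s = Cs h s := by
  unfold Mod.Bs
  rw [M.Ts_even hs, Matrix.one_mul]

theorem Mod.Bs_transpose {h : Matrix (Idx M.d) (Idx M.d) F} (hV : h ∈ VV M.d F)
    (hh : M.adj h = h) (s : ℕ) : (M.Bs h s)ᵀ = (-1 : F) ^ s • M.Bs h s := by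
  have h1 := M.Ts_mul_Cs_adj hV s
  rw [hh] at h1
  unfold Mod.Bs
  rw [Matrix.transpose_mul, M.Ts_transpose, Matrix.mul_smul, ← h1]

theorem Mod.Bs_congr {c h : Matrix (Idx M.d) (Idx M.d) F} (hc : c ∈ VV M.d F)
    (hh : h ∈ VV M.d F) (s : ℕ) :
    M.Bs (M.adj c * h * c) s = (Cs c s)ᵀ * M.Bs h s * Cs c s := by
  unfold Mod.Bs
  have hac := M.adj_mem_VV hc
  rw [Cs_mul M.d M.hd (rel_of_comm (VV_mul M.d hac hh)) (rel_of_comm hc),
    Cs_mul M.d M.hd (rel_of_comm hac) (rel_of_comm hh), ← Matrix.mul_assoc, ← Matrix.mul_assoc,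
    M.Ts_mul_Cs_adj hc]
  simp only [Matrix.mul_assoc]

theorem Mod.Cs_eq_of_Bs_eq {h h' : Matrix (Idx M.d) (Idx M.d) F} {s : ℕ}
    (hB : M.Bs h s = M.Bs h' s) : Cs h s = Cs h' s := by
  unfold Mod.Bs at hB
  have h1 : (M.Ts s)ᵀ * (M.Ts s * Cs h s) = (M.Ts s)ᵀ * (M.Ts s * Cs h' s) :=
    congrArg (fun Z => (M.Ts s)ᵀ * Z) hB
  rwa [← Matrix.mul_assoc, ← Matrix.mul_assoc, M.transpose_mul_Ts, Matrix.one_mul,
    Matrix.one_mul] at h1

theorem Mod.Ts_det_ne_zero (s : ℕ) : (M.Ts s).det ≠ 0 := by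
  intro h
  have h1 := congrArg Matrix.det (M.Ts_mul_transpose s)
  rw [Matrix.det_mul, h, zero_mul, Matrix.det_one] at h1
  exact zero_ne_one h1

theorem Mod.Bs_det_ne_zero {h : Matrix (Idx M.d) (Idx M.d) F} {s : ℕ}
    (hdet : (Cs h s).det ≠ 0) : (M.Bs h s).det ≠ 0 := by
  unfold Mod.Bs
  rw [Matrix.det_mul]
  exact mul_ne_zero (M.Ts_det_ne_zero s) hdet

/-- the top coefficient blocks of the adjoint, for even sizes -/
theorem Mod.Cs_adj_even {X : Matrix (Idx M.d) (Idx M.d) F} (hX : X ∈ VV M.d F) {s : ℕ}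
    (hs : Even s) : Cs (M.adj X) s = (Cs X s)ᵀ := by
  have h1 := M.Ts_mul_Cs_adj hX s
  rwa [M.Ts_even hs, Matrix.one_mul, Matrix.mul_one] at h1

end Cfsg.Agent.Helper8.SpU
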