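import Cfsg.Agent.Helper8.SpSMat
import Cfsg.Agent.Helper8.SpSSympIso
set_option autoImplicit false
set_option linter.unusedSectionVars false

/-!
Congruence of symmetric and of alternating matrices over a finite field of odd characteristic.
-/

namespace Cfsg.Agent.Helper8.SpU

open Matrix Module
variable {F : Type*} [Field F]
variable {ι : Type*} [Fintype ι] [DecidableEq ι]

/-- congruence of matrices -/
def Cong (S S' : Matrix ι ι F) : Prop := ∃ P : Matrix ι ι F, Pᵀ * S * P = S'

theorem Cong.refl (S : Matrix ι ι F) : Cong S S :=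
  ⟨1, by rw [Matrix.transpose_one, Matrix.one_mul, Matrix.mul_one]⟩

theorem Cong.trans {S S' S'' : Matrix ι ι F} (h : Cong S S') (h' : Cong S' S'') : Cong S S'' := by
  obtain ⟨P, hP⟩ := h
  obtain ⟨P', hP'⟩ := h'
  refine ⟨P * P', ?_⟩
  rw [Matrix.transpose_mul, ← hP', ← hP]
  simp only [Matrix.mul_assoc]

theorem Cong.symm {S S' : Matrix ι ι F} (h : Cong S S') (hdet : S'.det ≠ 0) : Cong S' S := by
  obtain ⟨P, hP⟩ := h
  have hPdet : P.det ≠ 0 := by
    intro h0
    apply hdet
    rw [← hP, Matrix.det_mul, h0, mul_zero]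
  have h1 : P * P⁻¹ = 1 := Matrix.mul_nonsing_inv P (Ne.isUnit hPdet)
  refine ⟨P⁻¹, ?_⟩
  rw [← hP]
  calc (P⁻¹)ᵀ * (Pᵀ * S * P) * P⁻¹ = (P * P⁻¹)ᵀ * S * (P * P⁻¹) := by
        rw [Matrix.transpose_mul]; simp only [Matrix.mul_assoc]
    _ = S := by rw [h1, Matrix.transpose_one, Matrix.one_mul, Matrix.mul_one]

theorem Cong.det {S S' : Matrix ι ι F} (h : Cong S S') : ∃ r : F, S'.det = S.det * (r * r) := by
  obtain ⟨P, hP⟩ := h
  refine ⟨P.det, ?_⟩
  rw [← hP, Matrix.det_mul, Matrix.det_mul, Matrix.det_transpose]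
  ring

/-- a congruence of a diagonal matrix by a matrix that is the identity outside a set of indices -/
theorem diag_congr_apply (T : Finset ι) (E : Matrix ι ι F) (w : ι → F)
    (hE : ∀ a a', (a ∉ T ∨ a' ∉ T) → E a a' = if a = a' then 1 else 0) (a a' : ι) :
    (Eᵀ * Matrix.diagonal w * E) a a' =
      if a ∈ T ∧ a' ∈ T then ∑ c ∈ T, E c a * w c * E c a' else if a = a' then w a else 0 := by
  have h0 : (Eᵀ * Matrix.diagonal w * E) a a' = ∑ c, E c a * w c * E c a' := by
    rw [Matrix.mul_apply]
    apply Finset.sum_congr rfl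
    intro c _
    rw [Matrix.mul_diagonal, Matrix.transpose_apply]
  rw [h0]
  by_cases hT : a ∈ T ∧ a' ∈ T
  · rw [if_pos hT]
    symm
    apply Finset.sum_subset (Finset.subset_univ T)
    intro c _ hc
    rw [hE c a (Or.inl hc), if_neg, zero_mul, zero_mul]
    rintro rfl
    exact hc hT.1
  · rw [if_neg hT]
    by_cases ha : a ∈ T
    · have ha' : a' ∉ T := fun h => hT ⟨ha, h⟩
      have hne : a ≠ a' := by
        rintro rfl
        exact ha' ha
      rw [if_neg hne, Finset.sum_eq_single a']
      · rw [hE a' a (Or.inl ha'), if_neg (Ne.symm hne), zero_mul, zero_mul]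
      · intro c _ hc
        rw [hE c a' (Or.inr ha'), if_neg hc, mul_zero]
      · intro h
        exact absurd (Finset.mem_univ _) h
    · rw [Finset.sum_eq_single a]
      · rw [hE a a (Or.inl ha), if_pos rfl, one_mul, hE a a' (Or.inl ha)]
        by_cases h : a = a'
        · rw [if_pos h, if_pos h, mul_one]
        · rw [if_neg h, if_neg h, mul_zero]
      · intro c _ hc
        rw [hE c a (Or.inr ha), if_neg hc, zero_mul, zero_mul]
      · intro h
        exact absurd (Finset.mem_univ _) h

/-- the binary move: the diagonal entries `(u, v)` can be replaced by `(u v, 1)` -/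
theorem diag_move [Fintype F] (h2 : (2 : F) ≠ 0) (w : ι → F) (a₀ b : ι) (hne : a₀ ≠ b)
    (h0 : w a₀ ≠ 0) (hb : w b ≠ 0) :
    Cong (Matrix.diagonal w)
      (Matrix.diagonal (fun a => if a = a₀ then w a₀ * w b else if a = b then 1 else w a)) := by
  have hchar : ringChar F ≠ 2 := by
    intro h
    apply h2
    have : CharP F 2 := ringChar.of_eq h
    exact_mod_cast CharP.cast_eq_zero F 2
  have hodd := FiniteField.odd_card_of_char_ne_two hchar
  obtain ⟨x, y, hxy⟩ := FiniteField.exists_root_sum_quadratic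
    (f := Polynomial.C (w a₀) * Polynomial.X ^ 2)
    (g := Polynomial.C (w b) * Polynomial.X ^ 2 - Polynomial.C 1)
    (by rw [Polynomial.degree_C_mul_X_pow 2 h0]; rfl)
    (by
      rw [Polynomial.degree_sub_C]
      · rw [Polynomial.degree_C_mul_X_pow 2 hb]; rfl
      · rw [Polynomial.degree_C_mul_X_pow 2 hb]; decide) hodd
  simp only [Polynomial.eval_mul, Polynomial.eval_C, Polynomial.eval_pow, Polynomial.eval_X,
    Polynomial.eval_sub] at hxy
  have hxy' : w a₀ * x ^ 2 + w b * y ^ 2 = 1 := by linear_combination hxy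
  let E : Matrix ι ι F := Matrix.of fun a a' =>
    if a' = a₀ then (if a = a₀ then - w b * y else if a = b then w a₀ * x else 0)
    else if a' = b then (if a = a₀ then x else if a = b then y else 0)
    else if a = a' then 1 else 0
  have hEdef : ∀ a a', E a a' =
    if a' = a₀ then (if a = a₀ then - w b * y else if a = b then w a₀ * x else 0)
    else if a' = b then (if a = a₀ then x else if a = b then y else 0)
    else if a = a' then 1 else 0 := fun _ _ => rfl
  have hE : ∀ a a', (a ∉ ({a₀, b} : Finset ι) ∨ a' ∉ ({a₀, b} : Finset ι)) →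
      E a a' = if a = a' then 1 else 0 := by
    intro a a' h
    rw [hEdef]
    simp only [Finset.mem_insert, Finset.mem_singleton, not_or] at h
    rcases h with ⟨h1, h2⟩ | ⟨h1, h2⟩
    · by_cases e1 : a' = a₀
      · rw [if_pos e1, if_neg h1, if_neg h2, if_neg]
        rw [e1]; exact h1
      · rw [if_neg e1]
        by_cases e2 : a' = b
        · rw [if_pos e2, if_neg h1, if_neg h2, if_neg]
          rw [e2]; exact h2
        · rw [if_neg e2]
    · rw [if_neg h1, if_neg h2]
  refine ⟨E, ?_⟩
  ext a a'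
  rw [diag_congr_apply {a₀, b} E w hE, Matrix.diagonal_apply]
  have e00 : E a₀ a₀ = - w b * y := by rw [hEdef, if_pos rfl, if_pos rfl]
  have eb0 : E b a₀ = w a₀ * x := by rw [hEdef, if_pos rfl, if_neg (Ne.symm hne), if_pos rfl]
  have e0b : E a₀ b = x := by rw [hEdef, if_neg (Ne.symm hne), if_pos rfl, if_pos rfl]
  have ebb : E b b = y := by
    rw [hEdef, if_neg (Ne.symm hne), if_pos rfl, if_neg (Ne.symm hne), if_pos rfl]
  by_cases hT : a ∈ ({a₀, b} : Finset ι) ∧ a' ∈ ({a₀, b} : Finset ι)
  · rw [if_pos hT, Finset.sum_pair hne]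
    simp only [Finset.mem_insert, Finset.mem_singleton] at hT
    obtain ⟨h1 | h1, h2 | h2⟩ := hT
    · rw [h1, h2, if_pos rfl, if_pos rfl, e00, eb0]
      linear_combination (w a₀ * w b) * hxy'
    · rw [h1, h2, if_neg hne, e00, eb0, e0b, ebb]
      ring
    · rw [h1, h2, if_neg (Ne.symm hne), e00, eb0, e0b, ebb]
      ring
    · rw [h1, h2, if_pos rfl, if_neg (Ne.symm hne), if_pos rfl, e0b, ebb]
      linear_combination hxy'
  · rw [if_neg hT]
    by_cases h : a = a'
    · subst h
      rw [if_pos rfl, if_pos rfl]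
      simp only [Finset.mem_insert, Finset.mem_singleton, and_self, not_or] at hT
      rw [if_neg hT.1, if_neg hT.2]
    · rw [if_neg h, if_neg h]


/-- the diagonal after treating a set of indices -/
def wT (w : ι → F) (a₀ : ι) (T : Finset ι) : ι → F :=
  fun a => if a = a₀ then w a₀ * ∏ c ∈ T, w c else if a ∈ T then 1 else w a

theorem wT_apply (w : ι → F) (a₀ : ι) (T : Finset ι) (a : ι) :
    wT w a₀ T a = if a = a₀ then w a₀ * ∏ c ∈ T, w c else if a ∈ T then 1 else w a := rfl

theorem diag_move' [Fintype F] (h2 : (2 : F) ≠ 0) (w w'' : ι → F) (a₀ b : ι) (hne : a₀ ≠ b)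
    (h0 : w a₀ ≠ 0) (hb : w b ≠ 0)
    (h'' : ∀ a, w'' a = if a = a₀ then w a₀ * w b else if a = b then 1 else w a) :
    Cong (Matrix.diagonal w) (Matrix.diagonal w'') := by
  have := diag_move h2 w a₀ b hne h0 hb
  have e : w'' = (fun a => if a = a₀ then w a₀ * w b else if a = b then 1 else w a) := funext h''
  rw [e]
  exact this

/-- the normal form of a diagonal matrix, after treating a set of indices -/
theorem diag_normal_aux [Fintype F] (h2 : (2 : F) ≠ 0) (w : ι → F) (hw : ∀ a, w a ≠ 0) (a₀ : ι)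
    (T : Finset ι) (hT : a₀ ∉ T) :
    Cong (Matrix.diagonal w) (Matrix.diagonal (wT w a₀ T)) := by
  induction T using Finset.induction_on with
  | empty =>
    have : wT w a₀ ∅ = w := by
      funext a
      rw [wT_apply]
      by_cases h : a = a₀
      · rw [if_pos h, Finset.prod_empty, mul_one, h]
      · rw [if_neg h, if_neg (Finset.notMem_empty a)]
    rw [this]
    exact Cong.refl _
  | insert b T hb ih =>
    have hb0 : a₀ ≠ b := fun h => hT (h ▸ Finset.mem_insert_self _ T)
    have hT' : a₀ ∉ T := fun h => hT (Finset.mem_insert_of_mem h)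
    refine (ih hT').trans ?_
    have e0 : wT w a₀ T a₀ = w a₀ * ∏ c ∈ T, w c := by rw [wT_apply, if_pos rfl]
    have eb : wT w a₀ T b = w b := by rw [wT_apply, if_neg (Ne.symm hb0), if_neg hb]
    apply diag_move' h2 (wT w a₀ T) (wT w a₀ (insert b T)) a₀ b hb0
    · rw [e0]
      exact mul_ne_zero (hw a₀) (Finset.prod_ne_zero_iff.mpr (fun c _ => hw c))
    · rw [eb]
      exact hw b
    · intro a
      rw [e0, eb, wT_apply, wT_apply]
      by_cases h : a = a₀
      · rw [if_pos h, if_pos h, Finset.prod_insert hb]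
        ring
      · rw [if_neg h, if_neg h, if_neg h]
        by_cases h' : a = b
        · rw [if_pos h', if_pos (by rw [h']; exact Finset.mem_insert_self _ _)]
        · rw [if_neg h']
          by_cases h'' : a ∈ T
          · rw [if_pos h'', if_pos (Finset.mem_insert_of_mem h'')]
          · rw [if_neg h'', if_neg]
            rw [Finset.mem_insert]
            push Not
            exact ⟨h', h''⟩

/-- the normal form of a diagonal matrix -/
theorem diag_normal [Fintype F] (h2 : (2 : F) ≠ 0) (w : ι → F) (hw : ∀ a, w a ≠ 0) (a₀ : ι) :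
    Cong (Matrix.diagonal w) (Matrix.diagonal (fun a => if a = a₀ then ∏ c, w c else 1)) := by
  have h := diag_normal_aux h2 w hw a₀ (Finset.univ.erase a₀) (Finset.notMem_erase a₀ _)
  have : wT w a₀ (Finset.univ.erase a₀) =
      (fun a => if a = a₀ then ∏ c, w c else 1) := by
    funext a
    rw [wT_apply]
    by_cases ha : a = a₀
    · rw [if_pos ha, if_pos ha, Finset.mul_prod_erase _ _ (Finset.mem_univ a₀)]
    · rw [if_neg ha, if_neg ha, if_pos (Finset.mem_erase.mpr ⟨ha, Finset.mem_univ a⟩)]
  rw [this] at h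
  exact h

/-- scaling the normal form -/
theorem normal_scale (a₀ : ι) (δ r : F) :
    Cong (Matrix.diagonal (fun a => if a = a₀ then δ else 1))
      (Matrix.diagonal (fun a => if a = a₀ then δ * (r * r) else 1)) := by
  refine ⟨Matrix.diagonal (fun a => if a = a₀ then r else 1), ?_⟩
  rw [Matrix.diagonal_transpose, Matrix.diagonal_mul_diagonal, Matrix.diagonal_mul_diagonal]
  congr 1
  funext a
  by_cases ha : a = a₀
  · rw [if_pos ha, if_pos ha, if_pos ha]
    ring
  · rw [if_neg ha, if_neg ha, if_neg ha]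
    ring

theorem det_normal (a₀ : ι) (δ : F) :
    (Matrix.diagonal (fun a => if a = a₀ then δ else 1)).det = δ := by
  rw [Matrix.det_diagonal, Finset.prod_ite_eq' ]
  simp

theorem exists_diag (h2 : (2 : F) ≠ 0) (S : Matrix ι ι F) (hS : Sᵀ = S) (hdet : S.det ≠ 0) :
    ∃ (P : Matrix ι ι F) (w : ι → F), (∀ a, w a ≠ 0) ∧ Pᵀ * S * P = Matrix.diagonal w := by
  have : Invertible (2 : F) := invertibleOfNonzero h2
  set B : LinearMap.BilinForm F (ι → F) := Matrix.toLinearMap₂' F S with hB
  have hsymm : LinearMap.IsSymm B := by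
    rw [LinearMap.isSymm_def]
    intro x y
    rw [hB, Matrix.toLinearMap₂'_apply', Matrix.toLinearMap₂'_apply', Matrix.dotProduct_mulVec,
      ← Matrix.mulVec_transpose, hS, dotProduct_comm]
    rfl
  have hsep : B.SeparatingLeft := LinearMap.separatingLeft_toLinearMap₂'_of_det_ne_zero' hdet
  obtain ⟨v, hv⟩ := LinearMap.BilinForm.exists_orthogonal_basis hsymm
  have hcard : Fintype.card ι = finrank F (ι → F) := by simp
  let e : ι ≃ Fin (finrank F (ι → F)) := Fintype.equivFinOfCardEq hcard
  let P : Matrix ι ι F := Matrix.of fun a b => v (e b) a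
  have hP : ∀ a b, P a b = v (e b) a := fun _ _ => rfl
  refine ⟨P, fun b => B (v (e b)) (v (e b)),
    fun a => hv.not_isOrtho_basis_self_of_separatingLeft hsep (e a), ?_⟩
  ext a b
  have h1 : (Pᵀ * S * P) a b = B (v (e a)) (v (e b)) := by
    rw [Matrix.mul_apply, hB, Matrix.toLinearMap₂'_apply']
    simp only [Matrix.mul_apply, Matrix.transpose_apply, dotProduct, Matrix.mulVec, Finset.sum_mul,
      Finset.mul_sum, hP]
    rw [Finset.sum_comm]
    apply Finset.sum_congr rfl
    intro x _
    apply Finset.sum_congr rfl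
    intro y _
    ring
  rw [h1, Matrix.diagonal_apply]
  by_cases hab : a = b
  · rw [if_pos hab, hab]
  · rw [if_neg hab]
    exact hv (fun h => hab (e.injective h))

/-- **classification of nondegenerate symmetric forms over a finite field of odd characteristic**:
two invertible symmetric matrices are congruent as soon as the product of their determinants is a
square -/
theorem exists_congr_of_symm [Fintype F] (h2 : (2 : F) ≠ 0) (S S' : Matrix ι ι F) (hS : Sᵀ = S)
    (hS' : S'ᵀ = S') (hd : S.det ≠ 0) (hd' : S'.det ≠ 0) (hsq : IsSquare (S.det * S'.det)) :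
    ∃ P : Matrix ι ι F, Pᵀ * S * P = S' := by
  rcases isEmpty_or_nonempty ι with hι | ⟨⟨a₀⟩⟩
  · exact ⟨1, Subsingleton.elim _ _⟩
  -- the normal form of a symmetric matrix
  have key : ∀ (S : Matrix ι ι F), Sᵀ = S → S.det ≠ 0 → ∃ r : F, r ≠ 0 ∧
      Cong S (Matrix.diagonal (fun a => if a = a₀ then S.det * (r * r) else 1)) := by
    intro S hS hd
    obtain ⟨P, w, hw, hP⟩ := exists_diag h2 S hS hd
    obtain ⟨r, hr⟩ := Cong.det ⟨P, hP⟩
    rw [Matrix.det_diagonal] at hr
    have hr0 : r ≠ 0 := by
      rintro rfl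
      rw [mul_zero, mul_zero] at hr
      exact Finset.prod_ne_zero_iff.mpr (fun a _ => hw a) hr
    refine ⟨r, hr0, Cong.trans ⟨P, hP⟩ ?_⟩
    rw [← hr]
    exact diag_normal h2 w hw a₀
  obtain ⟨r, hr0, h1⟩ := key S hS hd
  obtain ⟨r', hr0', h1'⟩ := key S' hS' hd'
  obtain ⟨u, hu⟩ := hsq
  have hδ : S.det * (r * r) ≠ 0 := mul_ne_zero hd (mul_ne_zero hr0 hr0)
  have hδ' : S'.det * (r' * r') ≠ 0 := mul_ne_zero hd' (mul_ne_zero hr0' hr0')
  have h3 := normal_scale a₀ (S.det * (r * r)) (u * r' / (S.det * r))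
  have e : S.det * (r * r) * (u * r' / (S.det * r) * (u * r' / (S.det * r))) =
      S'.det * (r' * r') := by
    field_simp
    linear_combination (-1 : F) * hu
  rw [e] at h3
  refine (h1.trans h3).trans (h1'.symm ?_)
  rw [det_normal]
  exact hδ'


/-- products of nonzero elements of the same quadratic character are squares -/
theorem isSquare_mul_of_iff [Fintype F] (h2 : (2 : F) ≠ 0) {a b : F} (ha : a ≠ 0) (hb : b ≠ 0)
    (h : IsSquare a ↔ IsSquare b) : IsSquare (a * b) := by
  have hchar : ringChar F ≠ 2 := by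
    intro h
    apply h2
    have : CharP F 2 := ringChar.of_eq h
    exact_mod_cast CharP.cast_eq_zero F 2
  by_cases hsa : IsSquare a
  · exact hsa.mul (h.mp hsa)
  · have hsb : ¬ IsSquare b := fun hh => hsa (h.mpr hh)
    rw [FiniteField.isSquare_iff hchar ha] at hsa
    rw [FiniteField.isSquare_iff hchar hb] at hsb
    have h1 := (FiniteField.pow_dichotomy hchar ha).resolve_left hsa
    have h3 := (FiniteField.pow_dichotomy hchar hb).resolve_left hsb
    rw [FiniteField.isSquare_iff hchar (mul_ne_zero ha hb), mul_pow, h1, h3]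
    ring

theorem isSquare_iff_of_mul {a b : F} (ha : a ≠ 0) (hb : b ≠ 0) (h : IsSquare (a * b)) :
    IsSquare a ↔ IsSquare b := by
  obtain ⟨u, hu⟩ := h
  constructor
  · rintro ⟨r, rfl⟩
    have hr : r ≠ 0 := fun h0 => ha (by rw [h0, mul_zero])
    refine ⟨u / r, ?_⟩
    field_simp
    linear_combination hu
  · rintro ⟨r, rfl⟩
    have hr : r ≠ 0 := fun h0 => hb (by rw [h0, mul_zero])
    refine ⟨u / r, ?_⟩
    field_simp
    linear_combination hu

/-- skew-symmetric matrices in odd characteristic are alternating -/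
theorem alt_bform_of_skew {κ : Type} [Fintype κ] [DecidableEq κ] (h2 : (2 : F) ≠ 0)
    (A : Matrix κ κ F) (hA : Aᵀ = -A) : SpS.Alt (SpS.bform A) := by
  intro u
  have h1 : SpS.bform A u u = - SpS.bform A u u := by
    unfold SpS.bform
    rw [Matrix.toLinearMap₂'_apply']
    conv_lhs => rw [Matrix.dotProduct_mulVec, ← Matrix.mulVec_transpose, hA, Matrix.neg_mulVec,
      neg_dotProduct, dotProduct_comm]
  have h3 : (2 : F) * SpS.bform A u u = 0 := by linear_combination h1
  exact (mul_eq_zero.mp h3).resolve_left h2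

/-- **classification of nondegenerate alternating forms**: two invertible skew-symmetric matrices
(in odd characteristic) are congruent -/
theorem exists_congr_of_skew {κ : Type} [Fintype κ] [DecidableEq κ] (h2 : (2 : F) ≠ 0)
    (A A' : Matrix κ κ F) (hA : Aᵀ = -A) (hA' : A'ᵀ = -A') (hd : A.det ≠ 0) (hd' : A'.det ≠ 0) :
    ∃ P : Matrix κ κ F, Pᵀ * A * P = A' := by
  obtain ⟨z, hz⟩ := SpS.exists_symp_isometry (SpS.bform A) (SpS.bform A')
    (alt_bform_of_skew h2 A hA) (SpS.nondeg_bform A hd)
    (alt_bform_of_skew h2 A' hA') (SpS.nondeg_bform A' hd')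
  refine ⟨LinearMap.toMatrix' z, ?_⟩
  apply SpS.bform_injective
  apply LinearMap.ext₂
  intro u v
  rw [hz u v, ← SpS.bform_comp_apply, Matrix.toLin'_toMatrix']

end Cfsg.Agent.Helper8.SpU
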