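import Cfsg.Agent.Helper8.SpUB
import Cfsg.Agent.Helper8.SpUC
set_option autoImplicit false
set_option linter.unusedSectionVars false

/-!
Unipotent classes of the symplectic groups: self-adjoint units of the commuting algebra up to
congruence are classified by the discriminants of the induced symmetric forms.
-/

namespace Cfsg.Agent.Helper8.SpU

open Matrix Cfsg.Agent.Helper8.JCent Cfsg.Agent.Helper8.UCent

variable {F : Type*} [Field F] {t : ℕ} (M : Mod F t)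

theorem two_ne_zero_of_char (p : ℕ) [Fact p.Prime] [CharP F p] (hp : p ≠ 2) : (2 : F) ≠ 0 := by
  intro h
  have h1 : ((2 : ℕ) : F) = 0 := by exact_mod_cast h
  rw [CharP.cast_eq_zero_iff F p 2] at h1
  have hp' : p.Prime := Fact.out
  exact hp ((Nat.prime_dvd_prime_iff_eq hp' Nat.prime_two).mp h1)

theorem Mod.det_adj (X : Matrix (Idx M.d) (Idx M.d) F) : (M.adj X).det = X.det := by
  have h := congrArg Matrix.det (M.Om_mul_adj X)
  rw [Matrix.det_mul, Matrix.det_mul, Matrix.det_transpose, mul_comm] at h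
  exact mul_right_cancel₀ M.Om_det_ne_zero h

/-- inverses in the commuting algebra -/
theorem VV_inv {d : Fin t → ℕ} {X : Matrix (Idx d) (Idx d) F} (hX : X ∈ VV d F)
    (hdet : X.det ≠ 0) : X⁻¹ ∈ VV d F := by
  have h1 : X * X⁻¹ = 1 := Matrix.mul_nonsing_inv X (Ne.isUnit hdet)
  have h2 : X⁻¹ * X = 1 := Matrix.nonsing_inv_mul X (Ne.isUnit hdet)
  rw [mem_VV] at hX ⊢
  calc X⁻¹ * NN d F = X⁻¹ * NN d F * (X * X⁻¹) := by rw [h1, Matrix.mul_one]
    _ = X⁻¹ * (NN d F * X) * X⁻¹ := by simp only [Matrix.mul_assoc]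
    _ = X⁻¹ * (X * NN d F) * X⁻¹ := by rw [hX]
    _ = (X⁻¹ * X) * NN d F * X⁻¹ := by simp only [Matrix.mul_assoc]
    _ = NN d F * X⁻¹ := by rw [h2, Matrix.one_mul]

theorem VV_pow {d : Fin t → ℕ} {X : Matrix (Idx d) (Idx d) F} (hX : X ∈ VV d F) (n : ℕ) :
    X ^ n ∈ VV d F := by
  induction n with
  | zero => rw [pow_zero]; exact VV_one d
  | succ n ih => rw [pow_succ]; exact VV_mul d ih hX

theorem isEmpty_fib {d : Fin t → ℕ} {s : ℕ} (hs : ¬ s < Finset.univ.sup d + 1) :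
    IsEmpty (fib d s) :=
  ⟨fun l => hs (by
    have := le_sup (d := d) l.1
    have := l.2
    omega)⟩

/-- lifting a family of blocks to the commuting algebra -/
theorem exists_VV_of_blocks {d : Fin t → ℕ} (hd : ∀ k, 1 ≤ d k)
    (P : ∀ s : ℕ, Matrix (fib d s) (fib d s) F) :
    ∃ X : Matrix (Idx d) (Idx d) F, X ∈ VV d F ∧ ∀ s, Cs X s = P s := by
  obtain ⟨X, hX⟩ := Phi_surjective (F := F) d hd (fun s => P s)
  refine ⟨X.1, X.2, fun s => ?_⟩
  by_cases hs : s < Finset.univ.sup d + 1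
  · have := congrFun hX ⟨s, hs⟩
    rw [Phi_apply] at this
    exact this
  · have : IsEmpty (fib d s) := isEmpty_fib hs
    exact Subsingleton.elim _ _

/-- the self-adjoint units of the commuting algebra -/
def Mod.X0 (h : Matrix (Idx M.d) (Idx M.d) F) : Prop :=
  h ∈ VV M.d F ∧ h.det ≠ 0 ∧ M.adj h = h

/-- congruence by units of the commuting algebra -/
def Mod.Sim (h h' : Matrix (Idx M.d) (Idx M.d) F) : Prop :=
  ∃ c : Matrix (Idx M.d) (Idx M.d) F, c ∈ VV M.d F ∧ c.det ≠ 0 ∧ M.adj c * h * c = h'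

theorem Mod.X0.Cs_det_ne_zero {h : Matrix (Idx M.d) (Idx M.d) F} (hh : M.X0 h) (s : ℕ) :
    (Cs h s).det ≠ 0 :=
  ((rel_of_comm hh.1).det_ne_zero_iff M.hd).mp hh.2.1 s

theorem Mod.X0_congr {c h : Matrix (Idx M.d) (Idx M.d) F} (hc : c ∈ VV M.d F) (hdet : c.det ≠ 0)
    (hh : M.X0 h) : M.X0 (M.adj c * h * c) := by
  refine ⟨VV_mul M.d (VV_mul M.d (M.adj_mem_VV hc) hh.1) hc, ?_, ?_⟩
  · rw [Matrix.det_mul, Matrix.det_mul, M.det_adj]
    exact mul_ne_zero (mul_ne_zero hdet hh.2.1) hdet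
  · rw [M.adj_mul, M.adj_mul, M.adj_adj, hh.2.2, Matrix.mul_assoc]

/-- the discriminants are invariants of the congruence class -/
theorem Mod.Sim.isSquare_iff {h h' : Matrix (Idx M.d) (Idx M.d) F} (hh : M.X0 h)
    (hsim : M.Sim h h') {s : ℕ} (hs : Even s) :
    IsSquare (Cs h s).det ↔ IsSquare (Cs h' s).det := by
  obtain ⟨c, hc, hdet, rfl⟩ := hsim
  have h1 := M.Bs_congr hc hh.1 s
  rw [M.Bs_even _ hs, M.Bs_even _ hs] at h1
  have h2 := hh.Cs_det_ne_zero M s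
  have h3 : (Cs c s).det ≠ 0 := ((rel_of_comm hc).det_ne_zero_iff M.hd).mp hdet s
  apply isSquare_iff_of_mul h2
  · rw [h1, Matrix.det_mul, Matrix.det_mul, Matrix.det_transpose]
    exact mul_ne_zero (mul_ne_zero h3 h2) h3
  · rw [h1, Matrix.det_mul, Matrix.det_mul, Matrix.det_transpose]
    exact ⟨(Cs h s).det * (Cs c s).det, by ring⟩

/-- **the lifting lemma**: self-adjoint units that agree modulo the radical are congruent -/
theorem Mod.lift (p : ℕ) [Fact p.Prime] [CharP F p] (hp : p ≠ 2)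
    {h₁ h' : Matrix (Idx M.d) (Idx M.d) F} (hh₁ : M.X0 h₁) (hh' : M.X0 h')
    (hCs : ∀ s, Cs h₁ s = Cs h' s) : M.Sim h₁ h' := by
  have hpp : p.Prime := Fact.out
  rcases isEmpty_or_nonempty (Idx M.d) with hι | hι
  · exact ⟨1, VV_one M.d, by rw [Matrix.det_one]; exact one_ne_zero, Subsingleton.elim _ _⟩
  have hi1 : h₁ * h₁⁻¹ = 1 := Matrix.mul_nonsing_inv h₁ (Ne.isUnit hh₁.2.1)
  have hi2 : h₁⁻¹ * h₁ = 1 := Matrix.nonsing_inv_mul h₁ (Ne.isUnit hh₁.2.1)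
  have hiV : h₁⁻¹ ∈ VV M.d F := VV_inv hh₁.1 hh₁.2.1
  have hR : h' - h₁ ∈ RR M.d F := by
    rw [mem_RR]
    refine ⟨(VV M.d F).sub_mem hh'.1 hh₁.1, fun s => ?_⟩
    rw [Cs_sub M.d M.hd, hCs, sub_self]
  set w : Matrix (Idx M.d) (Idx M.d) F := h₁⁻¹ * h' with hw
  have hwV : w ∈ VV M.d F := VV_mul M.d hiV hh'.1
  have hw1 : w - 1 = h₁⁻¹ * (h' - h₁) := by
    rw [Matrix.mul_sub, hi2]
  have hwR : w - 1 ∈ RR M.d F := by
    rw [hw1]
    exact RR_mul_right M.d M.hd hiV hR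
  obtain ⟨n, hn⟩ := RR_nilpotent M.d M.hd hwR
  have hn' : (w - 1) ^ (p ^ n) = 0 := pow_eq_zero_of_le (Nat.lt_pow_self hpp.one_lt).le hn
  have hwp : w ^ (p ^ n) = 1 := by
    rw [sub_pow_char_pow_of_commute p n (Commute.one_right w), one_pow] at hn'
    exact sub_eq_zero.mp hn'
  have hh₁w : h₁ * w = h' := by
    rw [hw, ← Matrix.mul_assoc, hi1, Matrix.one_mul]
  have hsc : SemiconjBy h₁ w (M.adj w) := by
    show h₁ * w = M.adj w * h₁
    have := congrArg M.adj hh₁w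
    rw [M.adj_mul, hh₁.2.2, hh'.2.2] at this
    rw [this, hh₁w]
  have hodd : Odd (p ^ n) := (hpp.odd_of_ne_two hp).pow
  obtain ⟨r, hr⟩ := hodd
  have hsc' := hsc.pow_right (r + 1)
  refine ⟨w ^ (r + 1), VV_pow hwV _, ?_, ?_⟩
  · intro h0
    have h1 : (w ^ (p ^ n)).det = 1 := by rw [hwp, Matrix.det_one]
    rw [Matrix.det_pow] at h1 h0
    have h2 : w.det = 0 := pow_eq_zero_iff (Nat.succ_ne_zero r) |>.mp h0
    rw [h2, zero_pow (pow_ne_zero _ hpp.ne_zero)] at h1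
    exact zero_ne_one h1
  · rw [M.adj_pow, ← hsc'.eq, Matrix.mul_assoc, ← pow_add]
    have e : r + 1 + (r + 1) = p ^ n + 1 := by omega
    rw [e, pow_succ, hwp, Matrix.one_mul, hh₁w]

end Cfsg.Agent.Helper8.SpU
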