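import Cfsg.Agent.Helper8.SpUD
set_option autoImplicit false
set_option linter.unusedSectionVars false

/-!
Unipotent classes of the symplectic groups: completeness of the discriminants, and realisation of
all sign vectors.
-/

namespace Cfsg.Agent.Helper8.SpU

open Matrix Cfsg.Agent.Helper8.JCent Cfsg.Agent.Helper8.UCent

variable {F : Type*} [Field F] [Fintype F] {t : ℕ} (M : Mod F t)

/-- **completeness**: self-adjoint units of the commuting algebra with the same discriminants are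
congruent -/
theorem Mod.sim_of_isSquare_iff (p : ℕ) [Fact p.Prime] [CharP F p] (hp : p ≠ 2)
    {h h' : Matrix (Idx M.d) (Idx M.d) F} (hh : M.X0 h) (hh' : M.X0 h')
    (hsq : ∀ s, Even s → (IsSquare (Cs h s).det ↔ IsSquare (Cs h' s).det)) : M.Sim h h' := by
  have h2 : (2 : F) ≠ 0 := two_ne_zero_of_char p hp
  -- congruences of the blocks
  have hP : ∀ s, ∃ P : Matrix (fib M.d s) (fib M.d s) F, Pᵀ * M.Bs h s * P = M.Bs h' s := by
    intro s
    have hd1 := M.Bs_det_ne_zero (hh.Cs_det_ne_zero M s)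
    have hd2 := M.Bs_det_ne_zero (hh'.Cs_det_ne_zero M s)
    have ht1 := M.Bs_transpose hh.1 hh.2.2 s
    have ht2 := M.Bs_transpose hh'.1 hh'.2.2 s
    rcases Nat.even_or_odd s with hs | hs
    · rw [hs.neg_one_pow, one_smul] at ht1 ht2
      apply exists_congr_of_symm h2 _ _ ht1 ht2 hd1 hd2
      apply isSquare_mul_of_iff h2 hd1 hd2
      rw [M.Bs_even _ hs, M.Bs_even _ hs]
      exact hsq s hs
    · rw [hs.neg_one_pow, neg_one_smul] at ht1 ht2
      exact exists_congr_of_skew h2 _ _ ht1 ht2 hd1 hd2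
  choose P hP using hP
  obtain ⟨c₀, hc₀V, hc₀⟩ := exists_VV_of_blocks M.hd P
  have hPdet : ∀ s, (P s).det ≠ 0 := by
    intro s h0
    have := congrArg Matrix.det (hP s)
    rw [Matrix.det_mul, h0, mul_zero] at this
    exact M.Bs_det_ne_zero (hh'.Cs_det_ne_zero M s) this.symm
  have hc₀det : c₀.det ≠ 0 := by
    rw [(rel_of_comm hc₀V).det_ne_zero_iff M.hd]
    intro s
    rw [hc₀]
    exact hPdet s
  have hh₁ : M.X0 (M.adj c₀ * h * c₀) := M.X0_congr hc₀V hc₀det hh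
  have hCs : ∀ s, Cs (M.adj c₀ * h * c₀) s = Cs h' s := by
    intro s
    apply M.Cs_eq_of_Bs_eq
    rw [M.Bs_congr hc₀V hh.1, hc₀, hP]
  obtain ⟨dd, hddV, hdddet, hdd⟩ := M.lift p hp hh₁ hh' hCs
  refine ⟨c₀ * dd, VV_mul M.d hc₀V hddV, ?_, ?_⟩
  · rw [Matrix.det_mul]
    exact mul_ne_zero hc₀det hdddet
  · rw [M.adj_mul, ← hdd]
    simp only [Matrix.mul_assoc]

section realise

variable (ε : ℕ → Prop) (ν₀ : F)

/-- the diagonal entries of the representatives -/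
noncomputable def Mod.δ (l : Fin t) : F := by
  classical
  exact if Even (M.d l) ∧ ¬ ε (M.d l) ∧ ∀ k, M.d k = M.d l → l ≤ k then ν₀ else 1

theorem Mod.δ_τ (l : Fin t) : M.δ ε ν₀ (M.τ l) = M.δ ε ν₀ l := by
  rcases Nat.even_or_odd (M.d l) with h | h
  · rw [M.τ_even l h]
  · unfold Mod.δ
    rw [if_neg, if_neg]
    · rintro ⟨h1, -⟩
      exact (Nat.not_even_iff_odd.mpr h) h1
    · rintro ⟨h1, -⟩
      rw [M.d_τ] at h1
      exact (Nat.not_even_iff_odd.mpr h) h1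

theorem Mod.δ_ne_zero (hν : ν₀ ≠ 0) (l : Fin t) : M.δ ε ν₀ l ≠ 0 := by
  unfold Mod.δ
  split_ifs
  · exact hν
  · exact one_ne_zero

/-- the representatives -/
noncomputable def Mod.hrep : Matrix (Idx M.d) (Idx M.d) F :=
  Matrix.diagonal (fun a => M.δ ε ν₀ a.1)

theorem Mod.hrep_mem_VV : M.hrep ε ν₀ ∈ VV M.d F := by
  rw [mem_VV]
  ext a b
  unfold Mod.hrep
  rw [Matrix.diagonal_mul, Matrix.mul_diagonal, NN_apply]
  by_cases h : a.1 = b.1 ∧ (a.2 : ℕ) = (b.2 : ℕ) + 1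
  · rw [if_pos h, h.1, mul_comm]
  · rw [if_neg h, mul_zero, zero_mul]

theorem Mod.hrep_adj : M.adj (M.hrep ε ν₀) = M.hrep ε ν₀ := by
  ext a b
  unfold Mod.hrep
  rw [Mod.adj_apply, Matrix.diagonal_apply, Matrix.diagonal_apply]
  by_cases h : a = b
  · subst h
    rw [if_pos rfl, if_pos rfl, Mod.ρ_fst, M.δ_τ, M.ω_sq, one_mul]
  · rw [if_neg h, if_neg, mul_zero]
    intro h'
    apply h
    rw [← M.ρ_ρ a, ← h', M.ρ_ρ]

theorem Mod.hrep_det (hν : ν₀ ≠ 0) : (M.hrep ε ν₀).det ≠ 0 := by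
  unfold Mod.hrep
  rw [Matrix.det_diagonal]
  exact Finset.prod_ne_zero_iff.mpr (fun a _ => M.δ_ne_zero ε ν₀ hν a.1)

theorem Mod.hrep_X0 (hν : ν₀ ≠ 0) : M.X0 (M.hrep ε ν₀) :=
  ⟨M.hrep_mem_VV ε ν₀, M.hrep_det ε ν₀ hν, M.hrep_adj ε ν₀⟩

theorem Mod.Cs_hrep (s : ℕ) :
    Cs (M.hrep ε ν₀) s = Matrix.diagonal (fun l : fib M.d s => M.δ ε ν₀ l.1) := by
  ext l k
  rw [Cs_apply M.d M.hd]
  unfold Mod.hrep
  rw [Matrix.diagonal_apply, Matrix.diagonal_apply]
  by_cases h : l = k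
  · subst h
    rw [if_pos rfl, if_pos rfl]
    rfl
  · rw [if_neg h, if_neg]
    intro h'
    exact h (Subtype.ext (bot_injective M.d M.hd h'))

/-- the discriminants of the representatives -/
theorem Mod.hrep_isSquare (hν : ¬ IsSquare ν₀) {s : ℕ} (hs : Even s)
    (hne : Nonempty (fib M.d s)) : IsSquare (Cs (M.hrep ε ν₀) s).det ↔ ε s := by
  classical
  rw [M.Cs_hrep, Matrix.det_diagonal]
  by_cases hε : ε s
  · have : ∀ l : fib M.d s, M.δ ε ν₀ l.1 = 1 := by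
      intro l
      unfold Mod.δ
      rw [if_neg]
      rintro ⟨-, h1, -⟩
      rw [l.2] at h1
      exact h1 hε
    rw [Finset.prod_congr rfl (fun l _ => this l), Finset.prod_const_one]
    exact ⟨fun _ => hε, fun _ => IsSquare.one⟩
  · obtain ⟨l₀, -, hl₀⟩ := Finset.exists_min_image (Finset.univ : Finset (fib M.d s))
      (fun l => l.1) Finset.univ_nonempty
    have h0 : M.δ ε ν₀ l₀.1 = ν₀ := by
      unfold Mod.δ
      rw [if_pos]
      refine ⟨by rw [l₀.2]; exact hs, by rw [l₀.2]; exact hε, fun k hk => ?_⟩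
      exact hl₀ ⟨k, by rw [hk, l₀.2]⟩ (Finset.mem_univ _)
    have h1 : ∀ l : fib M.d s, l ≠ l₀ → M.δ ε ν₀ l.1 = 1 := by
      intro l hl
      unfold Mod.δ
      rw [if_neg]
      rintro ⟨-, -, h3⟩
      have h4 := h3 l₀.1 (by rw [l₀.2, l.2])
      have h5 := hl₀ l (Finset.mem_univ _)
      exact hl (Subtype.ext (le_antisymm h4 h5))
    rw [Finset.prod_eq_single l₀ (fun l _ hl => h1 l hl)
      (fun h => absurd (Finset.mem_univ _) h), h0]
    exact ⟨fun h => absurd h hν, fun h => absurd h hε⟩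

end realise

end Cfsg.Agent.Helper8.SpU
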