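import Cfsg.Agent.Helper8.SpUE
set_option autoImplicit false
set_option linter.unusedSectionVars false

/-!
Unipotent classes of the symplectic groups: the model isometry (the Cayley transform of the
nilpotent Jordan matrix) and Wall's parametrisation of the classes of isometries inside its
similarity class.
-/

namespace Cfsg.Agent.Helper8.SpU

open Matrix Cfsg.Agent.Helper8.JCent Cfsg.Agent.Helper8.UCent Cfsg.Agent.Helper8.UJ

variable {F : Type*} [Field F] {t : ℕ} (M : Mod F t)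

theorem commute_inv' {ι : Type*} [Fintype ι] [DecidableEq ι] {z w wi : Matrix ι ι F}
    (h1 : w * wi = 1) (h2 : wi * w = 1) (h : Commute z w) : Commute z wi := by
  rw [Commute, SemiconjBy]
  calc z * wi = (wi * w) * (z * wi) := by rw [h2, Matrix.one_mul]
    _ = wi * (w * z) * wi := by simp only [Matrix.mul_assoc]
    _ = wi * (z * w) * wi := by rw [h.eq]
    _ = wi * z * (w * wi) := by simp only [Matrix.mul_assoc]
    _ = wi * z := by rw [h1, Matrix.mul_one]

theorem NN_pow_rank (d : Fin t → ℕ) (j : ℕ) : ((NN d F) ^ j).rank = ∑ k, (d k - j) :=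
  rank_jordanType_pow d j

theorem NN_nilpotent (d : Fin t → ℕ) : IsNilpotent (NN d F) := by
  refine ⟨∑ k, d k, eq_zero_of_rank_eq_zero _ ?_⟩
  rw [NN_pow_rank]
  apply Finset.sum_eq_zero
  intro k _
  have : d k ≤ ∑ k, d k :=
    Finset.single_le_sum (f := d) (fun i _ => Nat.zero_le _) (Finset.mem_univ k)
  omega

theorem Mod.Om_cancel {X Y : Matrix (Idx M.d) (Idx M.d) F} (h : M.Om * X = M.Om * Y) : X = Y := by
  have h1 : M.Om * (M.Om * X) = M.Om * (M.Om * Y) := by rw [h]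
  rw [← Matrix.mul_assoc, ← Matrix.mul_assoc, M.Om_mul_Om, Matrix.neg_mul, Matrix.neg_mul,
    Matrix.one_mul, Matrix.one_mul] at h1
  exact neg_injective h1

/-- the denominator of the Cayley transform -/
noncomputable def Wm (d : Fin t → ℕ) (F : Type*) [Field F] : Matrix (Idx d) (Idx d) F :=
  1 - NN d F

/-- the numerator of the Cayley transform -/
noncomputable def Up (d : Fin t → ℕ) (F : Type*) [Field F] : Matrix (Idx d) (Idx d) F :=
  1 + NN d F

theorem Wm_det (d : Fin t → ℕ) : (Wm d F).det ≠ 0 := by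
  have := (NN_nilpotent (F := F) d).isUnit_one_sub
  exact ((Matrix.isUnit_iff_isUnit_det _).mp this).ne_zero

theorem Up_det (d : Fin t → ℕ) : (Up d F).det ≠ 0 := by
  have := (NN_nilpotent (F := F) d).isUnit_one_add
  exact ((Matrix.isUnit_iff_isUnit_det _).mp this).ne_zero

theorem Wm_mul_inv (d : Fin t → ℕ) : Wm d F * (Wm d F)⁻¹ = 1 :=
  Matrix.mul_nonsing_inv _ (Ne.isUnit (Wm_det d))

theorem Wm_inv_mul (d : Fin t → ℕ) : (Wm d F)⁻¹ * Wm d F = 1 :=
  Matrix.nonsing_inv_mul _ (Ne.isUnit (Wm_det d))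

theorem Up_mul_inv (d : Fin t → ℕ) : Up d F * (Up d F)⁻¹ = 1 :=
  Matrix.mul_nonsing_inv _ (Ne.isUnit (Up_det d))

theorem Up_inv_mul (d : Fin t → ℕ) : (Up d F)⁻¹ * Up d F = 1 :=
  Matrix.nonsing_inv_mul _ (Ne.isUnit (Up_det d))

theorem NN_mem_VV (d : Fin t → ℕ) : NN d F ∈ VV d F := by
  rw [mem_VV]

theorem Wm_mem_VV (d : Fin t → ℕ) : Wm d F ∈ VV d F :=
  (VV d F).sub_mem (VV_one d) (NN_mem_VV d)

theorem Up_mem_VV (d : Fin t → ℕ) : Up d F ∈ VV d F :=
  (VV d F).add_mem (VV_one d) (NN_mem_VV d)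

/-- the model unipotent element -/
noncomputable def u0 (d : Fin t → ℕ) (F : Type*) [Field F] : Matrix (Idx d) (Idx d) F :=
  Up d F * (Wm d F)⁻¹

theorem u0_mem_VV (d : Fin t → ℕ) : u0 d F ∈ VV d F :=
  VV_mul d (Up_mem_VV d) (VV_inv (Wm_mem_VV d) (Wm_det d))

theorem Up_mul_Wm (d : Fin t → ℕ) : Up d F * Wm d F = Wm d F * Up d F := by
  unfold Up Wm
  noncomm_ring

theorem Mod.adj_Up : M.adj (Up M.d F) = Wm M.d F := by
  unfold Up Wm
  rw [M.adj_add, M.adj_one, M.adj_NN, sub_eq_add_neg]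

theorem Mod.adj_Wm : M.adj (Wm M.d F) = Up M.d F := by
  unfold Up Wm
  rw [M.adj_sub, M.adj_one, M.adj_NN, sub_neg_eq_add]

theorem Mod.adj_Wm_inv : M.adj (Wm M.d F)⁻¹ = (Up M.d F)⁻¹ := by
  symm
  apply Matrix.inv_eq_left_inv
  rw [← M.adj_Wm, ← M.adj_mul, Wm_mul_inv, M.adj_one]

/-- the model element is an isometry -/
theorem Mod.adj_u0_mul : M.adj (u0 M.d F) * u0 M.d F = 1 := by
  unfold u0
  rw [M.adj_mul, M.adj_Up, M.adj_Wm_inv]
  calc (Up M.d F)⁻¹ * Wm M.d F * (Up M.d F * (Wm M.d F)⁻¹)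
      = (Up M.d F)⁻¹ * (Wm M.d F * Up M.d F) * (Wm M.d F)⁻¹ := by simp only [Matrix.mul_assoc]
    _ = (Up M.d F)⁻¹ * (Up M.d F * Wm M.d F) * (Wm M.d F)⁻¹ := by rw [Up_mul_Wm]
    _ = ((Up M.d F)⁻¹ * Up M.d F) * (Wm M.d F * (Wm M.d F)⁻¹) := by
        simp only [Matrix.mul_assoc]
    _ = 1 := by rw [Up_inv_mul, Wm_mul_inv, Matrix.mul_one]

theorem u0_mul_adj (h : M.adj (u0 M.d F) * u0 M.d F = 1) :
    u0 M.d F * M.adj (u0 M.d F) = 1 := mul_eq_one_comm.mp h

theorem u0_add_one (d : Fin t → ℕ) : u0 d F + 1 = (2 : F) • (Wm d F)⁻¹ := by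
  have h1 : u0 d F + 1 = (Up d F + Wm d F) * (Wm d F)⁻¹ := by
    rw [Matrix.add_mul, Wm_mul_inv]
    rfl
  rw [h1]
  have h2 : Up d F + Wm d F = (2 : F) • (1 : Matrix (Idx d) (Idx d) F) := by
    unfold Up Wm
    rw [two_smul]
    abel
  rw [h2, Matrix.smul_mul, Matrix.one_mul]

theorem u0_sub_one (d : Fin t → ℕ) : u0 d F - 1 = NN d F * ((2 : F) • (Wm d F)⁻¹) := by
  have h1 : u0 d F - 1 = (Up d F - Wm d F) * (Wm d F)⁻¹ := by
    rw [Matrix.sub_mul, Wm_mul_inv]
    rfl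
  rw [h1]
  have h2 : Up d F - Wm d F = (2 : F) • NN d F := by
    unfold Up Wm
    rw [two_smul]
    abel
  rw [h2, Matrix.smul_mul, Matrix.mul_smul]

/-- the centraliser of the model element is the commuting algebra -/
theorem comm_u0_iff (h2 : (2 : F) ≠ 0) (d : Fin t → ℕ) (X : Matrix (Idx d) (Idx d) F) :
    X * u0 d F = u0 d F * X ↔ X ∈ VV d F := by
  constructor
  · intro h
    have h1 : Commute X ((2 : F) • (Wm d F)⁻¹) := by
      rw [← u0_add_one]
      exact (show Commute X (u0 d F) from h).add_right (Commute.one_right X)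
    have h3 : Commute X (Wm d F)⁻¹ := by
      have := h1.smul_right ((2 : F)⁻¹)
      rwa [smul_smul, inv_mul_cancel₀ h2, one_smul] at this
    have h4 : Commute X (Wm d F) := commute_inv' (Wm_inv_mul d) (Wm_mul_inv d) h3
    have h5 : Commute X (NN d F) := by
      have : NN d F = 1 - Wm d F := by unfold Wm; abel
      rw [this]
      exact (Commute.one_right X).sub_right h4
    exact h5.eq
  · intro h
    have h1 : Commute X (NN d F) := h
    have h4 : Commute X (Wm d F) := (Commute.one_right X).sub_right h1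
    have h5 : Commute X (Up d F) := (Commute.one_right X).add_right h1
    have h3 : Commute X (Wm d F)⁻¹ := commute_inv' (Wm_mul_inv d) (Wm_inv_mul d) h4
    exact (h5.mul_right h3).eq

/-- the rank profile of the model element -/
theorem u0_rank (h2 : (2 : F) ≠ 0) (d : Fin t → ℕ) (j : ℕ) :
    ((u0 d F - 1) ^ j).rank = ∑ k, (d k - j) := by
  rw [u0_sub_one, rank_pow_mul_unit, NN_pow_rank]
  · have h1 : Commute (NN d F) (Wm d F) :=
      (Commute.one_right _).sub_right (Commute.refl _)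
    exact (commute_inv' (Wm_mul_inv d) (Wm_inv_mul d) h1).smul_right _
  · refine ⟨⟨(2 : F) • (Wm d F)⁻¹, (2 : F)⁻¹ • Wm d F, ?_, ?_⟩, rfl⟩
    · rw [Matrix.smul_mul, Matrix.mul_smul, smul_smul, mul_inv_cancel₀ h2, one_smul, Wm_inv_mul]
    · rw [Matrix.smul_mul, Matrix.mul_smul, smul_smul, inv_mul_cancel₀ h2, one_smul, Wm_mul_inv]

end Cfsg.Agent.Helper8.SpU
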