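import Cfsg.Agent.Helper8.SpUF
set_option autoImplicit false
set_option linter.unusedSectionVars false

/-!
Unipotent classes of the symplectic groups: Wall's parametrisation of the classes of isometries
inside the similarity class of the model element.
-/

namespace Cfsg.Agent.Helper8.SpU

open Matrix Cfsg.Agent.Helper8.JCent Cfsg.Agent.Helper8.UCent Cfsg.Agent.Helper8.UJ

variable {F : Type*} [Field F] {t : ℕ} (M : Mod F t)

theorem Mod.adj_mul_adj_of_inv {x xi : Matrix (Idx M.d) (Idx M.d) F} (hxi : xi * x = 1) :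
    M.adj x * M.adj xi = 1 := by
  rw [← M.adj_mul, hxi, M.adj_one]

/-- every self-adjoint unit is of the form `x* x` -/
theorem Mod.exists_sqrt (h2 : (2 : F) ≠ 0) {h : Matrix (Idx M.d) (Idx M.d) F} (hdet : h.det ≠ 0)
    (hadj : M.adj h = h) : ∃ x : Matrix (Idx M.d) (Idx M.d) F, M.adj x * x = h := by
  have hsk : (M.Om * h)ᵀ = - (M.Om * h) := by
    rw [Matrix.transpose_mul, M.Om_transpose, Matrix.mul_neg, ← M.Om_mul_adj, hadj]
  have hd : (M.Om * h).det ≠ 0 := by
    rw [Matrix.det_mul]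
    exact mul_ne_zero M.Om_det_ne_zero hdet
  obtain ⟨P, hP⟩ := exists_congr_of_skew h2 M.Om (M.Om * h) M.Om_transpose hsk
    M.Om_det_ne_zero hd
  refine ⟨P, M.Om_cancel ?_⟩
  rw [← Matrix.mul_assoc, M.Om_mul_adj, hP]

/-- Wall's criterion for the conjugacy of two conjugates of the model element under the
isometry group -/
theorem Mod.conj_iff (h2 : (2 : F) ≠ 0) {x xi x' xi' : Matrix (Idx M.d) (Idx M.d) F}
    (hx : x * xi = 1) (hxi : xi * x = 1) (hx' : x' * xi' = 1) (hxi' : xi' * x' = 1) :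
    (∃ y : Matrix (Idx M.d) (Idx M.d) F, M.adj y * y = 1 ∧
      y * (x * u0 M.d F * xi) = (x' * u0 M.d F * xi') * y) ↔
    M.Sim (M.adj x' * x') (M.adj x * x) := by
  have ax : M.adj x * M.adj xi = 1 := M.adj_mul_adj_of_inv hxi
  have axi : M.adj xi * M.adj x = 1 := M.adj_mul_adj_of_inv hx
  have ax' : M.adj x' * M.adj xi' = 1 := M.adj_mul_adj_of_inv hxi'
  have axi' : M.adj xi' * M.adj x' = 1 := M.adj_mul_adj_of_inv hx'
  have r1 : ∀ Z, x * (xi * Z) = Z := fun Z => by rw [← Matrix.mul_assoc, hx, Matrix.one_mul]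
  have r2 : ∀ Z, xi * (x * Z) = Z := fun Z => by rw [← Matrix.mul_assoc, hxi, Matrix.one_mul]
  have r3 : ∀ Z, x' * (xi' * Z) = Z := fun Z => by rw [← Matrix.mul_assoc, hx', Matrix.one_mul]
  have r4 : ∀ Z, xi' * (x' * Z) = Z := fun Z => by rw [← Matrix.mul_assoc, hxi', Matrix.one_mul]
  have r5 : ∀ Z, M.adj x * (M.adj xi * Z) = Z := fun Z => by
    rw [← Matrix.mul_assoc, ax, Matrix.one_mul]
  have r6 : ∀ Z, M.adj xi * (M.adj x * Z) = Z := fun Z => by
    rw [← Matrix.mul_assoc, axi, Matrix.one_mul]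
  have r7 : ∀ Z, M.adj x' * (M.adj xi' * Z) = Z := fun Z => by
    rw [← Matrix.mul_assoc, ax', Matrix.one_mul]
  have r8 : ∀ Z, M.adj xi' * (M.adj x' * Z) = Z := fun Z => by
    rw [← Matrix.mul_assoc, axi', Matrix.one_mul]
  constructor
  · rintro ⟨y, hy, hyg⟩
    have r9 : ∀ Z, M.adj y * (y * Z) = Z := fun Z => by
      rw [← Matrix.mul_assoc, hy, Matrix.one_mul]
    refine ⟨xi' * y * x, ?_, ?_, ?_⟩
    · rw [← comm_u0_iff h2]
      have h1 : y * (x * u0 M.d F) = x' * u0 M.d F * xi' * y * x := by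
        have := congrArg (fun Z => Z * x) hyg
        simp only [Matrix.mul_assoc, hxi, Matrix.mul_one] at this
        simp only [Matrix.mul_assoc]
        exact this
      calc xi' * y * x * u0 M.d F = xi' * (y * (x * u0 M.d F)) := by
            simp only [Matrix.mul_assoc]
        _ = xi' * (x' * u0 M.d F * xi' * y * x) := by rw [h1]
        _ = u0 M.d F * (xi' * y * x) := by simp only [Matrix.mul_assoc, r4]
    · have hdy : y.det ≠ 0 := by
        intro h0
        have := congrArg Matrix.det hy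
        rw [Matrix.det_mul, h0, mul_zero, Matrix.det_one] at this
        exact zero_ne_one this
      have hdx : x.det ≠ 0 := by
        intro h0
        have := congrArg Matrix.det hx
        rw [Matrix.det_mul, h0, zero_mul, Matrix.det_one] at this
        exact zero_ne_one this
      have hdxi' : xi'.det ≠ 0 := by
        intro h0
        have := congrArg Matrix.det hxi'
        rw [Matrix.det_mul, h0, zero_mul, Matrix.det_one] at this
        exact zero_ne_one this
      rw [Matrix.det_mul, Matrix.det_mul]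
      exact mul_ne_zero (mul_ne_zero hdxi' hdy) hdx
    · rw [M.adj_mul, M.adj_mul]
      simp only [Matrix.mul_assoc, r8, r3, r9]
  · rintro ⟨c, hcV, hcdet, hc⟩
    have hcu : c * u0 M.d F = u0 M.d F * c := (comm_u0_iff h2 M.d c).mpr hcV
    refine ⟨x' * c * xi, ?_, ?_⟩
    · rw [M.adj_mul, M.adj_mul]
      have : M.adj xi * (M.adj c * M.adj x') * (x' * c * xi) =
          M.adj xi * (M.adj c * (M.adj x' * x') * c) * xi := by
        simp only [Matrix.mul_assoc]
      rw [this, hc]
      simp only [r6, hx]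
    · calc x' * c * xi * (x * u0 M.d F * xi) = x' * (c * u0 M.d F) * xi := by
            simp only [Matrix.mul_assoc, r2]
        _ = x' * (u0 M.d F * c) * xi := by rw [hcu]
        _ = x' * u0 M.d F * xi' * (x' * c * xi) := by simp only [Matrix.mul_assoc, r4]

/-- conjugates of the model element attached to a self-adjoint unit of the commuting algebra -/
theorem Mod.exists_conj (h2 : (2 : F) ≠ 0) {h : Matrix (Idx M.d) (Idx M.d) F} (hh : M.X0 h) :
    ∃ x xi : Matrix (Idx M.d) (Idx M.d) F, x * xi = 1 ∧ xi * x = 1 ∧ M.adj x * x = h ∧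
      M.adj (x * u0 M.d F * xi) * (x * u0 M.d F * xi) = 1 := by
  obtain ⟨x, hx⟩ := M.exists_sqrt h2 hh.2.1 hh.2.2
  have hdx : x.det ≠ 0 := by
    intro h0
    have := congrArg Matrix.det hx
    rw [Matrix.det_mul, h0, mul_zero] at this
    exact hh.2.1 this.symm
  have h1 : x * x⁻¹ = 1 := Matrix.mul_nonsing_inv x (Ne.isUnit hdx)
  have h3 : x⁻¹ * x = 1 := Matrix.nonsing_inv_mul x (Ne.isUnit hdx)
  refine ⟨x, x⁻¹, h1, h3, hx, ?_⟩
  have hhu : h * u0 M.d F = u0 M.d F * h := (comm_u0_iff h2 M.d h).mpr hh.1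
  rw [M.adj_mul, M.adj_mul]
  calc M.adj x⁻¹ * (M.adj (u0 M.d F) * M.adj x) * (x * u0 M.d F * x⁻¹)
      = M.adj x⁻¹ * (M.adj (u0 M.d F) * ((M.adj x * x) * u0 M.d F)) * x⁻¹ := by
        simp only [Matrix.mul_assoc]
    _ = M.adj x⁻¹ * ((M.adj (u0 M.d F) * u0 M.d F) * h) * x⁻¹ := by
        rw [hx, hhu]; simp only [Matrix.mul_assoc]
    _ = M.adj x⁻¹ * (M.adj x * x) * x⁻¹ := by rw [M.adj_u0_mul, Matrix.one_mul, hx]
    _ = (M.adj x⁻¹ * M.adj x) * (x * x⁻¹) := by simp only [Matrix.mul_assoc]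
    _ = 1 := by rw [M.adj_mul_adj_of_inv h1, h1, Matrix.mul_one]

/-- the self-adjoint unit attached to a conjugate of the model element that is an isometry -/
theorem Mod.X0_of_conj (h2 : (2 : F) ≠ 0) {x xi : Matrix (Idx M.d) (Idx M.d) F}
    (hx : x * xi = 1) (hxi : xi * x = 1)
    (hiso : M.adj (x * u0 M.d F * xi) * (x * u0 M.d F * xi) = 1) : M.X0 (M.adj x * x) := by
  have ax : M.adj x * M.adj xi = 1 := M.adj_mul_adj_of_inv hxi
  refine ⟨?_, ?_, ?_⟩
  · rw [← comm_u0_iff h2]
    rw [M.adj_mul, M.adj_mul] at hiso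
    have h1 : M.adj (u0 M.d F) * (M.adj x * x) * u0 M.d F = M.adj x * x := by
      have := congrArg (fun Z => M.adj x * Z * x) hiso
      simp only [Matrix.mul_assoc, Matrix.mul_one] at this
      have r5 : ∀ Z, M.adj x * (M.adj xi * Z) = Z := fun Z => by
        rw [← Matrix.mul_assoc, ax, Matrix.one_mul]
      rw [r5, hxi, Matrix.mul_one] at this
      simp only [Matrix.mul_assoc]
      exact this
    have h3 := u0_mul_adj M M.adj_u0_mul
    calc M.adj x * x * u0 M.d F
        = (u0 M.d F * M.adj (u0 M.d F)) * (M.adj x * x * u0 M.d F) := by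
          rw [h3, Matrix.one_mul]
      _ = u0 M.d F * (M.adj (u0 M.d F) * (M.adj x * x) * u0 M.d F) := by
          simp only [Matrix.mul_assoc]
      _ = u0 M.d F * (M.adj x * x) := by rw [h1]
  · have hdx : x.det ≠ 0 := by
      intro h0
      have := congrArg Matrix.det hx
      rw [Matrix.det_mul, h0, zero_mul, Matrix.det_one] at this
      exact zero_ne_one this
    rw [Matrix.det_mul, M.det_adj]
    exact mul_ne_zero hdx hdx
  · rw [M.adj_mul, M.adj_adj]

end Cfsg.Agent.Helper8.SpU
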