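import Cfsg.Agent.Helper8.SpUG
set_option autoImplicit false
set_option linter.unusedSectionVars false

/-!
Unipotent classes of the symplectic groups: transport between the isometry group of the monomial
form and the standard symplectic group.
-/

namespace Cfsg.Agent.Helper8.SpU

open Matrix Cfsg.Agent.Helper8.JCent Cfsg.Agent.Helper8.UCent Cfsg.Agent.Helper8.UJ

variable {F : Type*} [Field F] {t : ℕ}

/-- a change of basis bringing the monomial form to the standard alternating form -/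
structure Tr (M : Mod F t) (m : ℕ) where
  /-- the change of basis -/
  P : Matrix (Fin m ⊕ Fin m) (Idx M.d) F
  /-- the inverse change of basis -/
  Q : Matrix (Idx M.d) (Fin m ⊕ Fin m) F
  PQ : P * Q = 1
  QP : Q * P = 1
  form : Qᵀ * M.Om * Q = - Matrix.J (Fin m) F

theorem neg_J_apply {m : ℕ} (x y : Fin m ⊕ Fin m) :
    (- Matrix.J (Fin m) F) x y = SpS.Jent x y := by
  rcases x with i | i <;> rcases y with j | j
  · simp [Matrix.J, SpS.Jent]
  · simp [Matrix.J, SpS.Jent, Matrix.one_apply]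
  · simp only [Matrix.J, SpS.Jent, Matrix.neg_apply, Matrix.fromBlocks_apply₂₁, Matrix.one_apply]
    split_ifs <;> simp
  · simp [Matrix.J, SpS.Jent]

theorem exists_Tr (h2 : (2 : F) ≠ 0) (M : Mod F t) {m : ℕ} (hsum : ∑ k, M.d k = 2 * m) :
    Nonempty (Tr M m) := by
  obtain ⟨k, b, hb⟩ := SpS.exists_symp_basis (SpS.bform M.Om)
    (alt_bform_of_skew h2 M.Om M.Om_transpose) (SpS.nondeg_bform M.Om M.Om_det_ne_zero)
  have hk : k = m := by
    have h1 := Module.finrank_eq_card_basis b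
    rw [Module.finrank_pi, Fintype.card_sum, Fintype.card_fin, Fintype.card_sigma] at h1
    simp only [Fintype.card_fin] at h1
    omega
  subst hk
  let Q : Matrix (Idx M.d) (Fin k ⊕ Fin k) F := Matrix.of fun a x => b x a
  let P : Matrix (Fin k ⊕ Fin k) (Idx M.d) F := Matrix.of fun x a => b.repr (Pi.single a 1) x
  have hQ : ∀ a x, Q a x = b x a := fun _ _ => rfl
  have hP : ∀ x a, P x a = b.repr (Pi.single a 1) x := fun _ _ => rfl
  have hQP : Q * P = 1 := by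
    ext a a'
    rw [Matrix.mul_apply, Matrix.one_apply]
    have h1 := congrFun (b.sum_repr (Pi.single a' (1 : F))) a
    rw [Finset.sum_apply] at h1
    simp only [Pi.smul_apply, smul_eq_mul] at h1
    rw [Finset.sum_congr rfl (fun x _ => by rw [hQ, hP, mul_comm]), h1, Pi.single_apply]
  have hcard : Fintype.card (Idx M.d) = Fintype.card (Fin k ⊕ Fin k) := by
    rw [Fintype.card_sum, Fintype.card_fin, Fintype.card_sigma]
    simp only [Fintype.card_fin]
    omega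
  have hPQ : P * Q = 1 := (Matrix.mul_eq_one_comm_of_equiv (Fintype.equivOfCardEq hcard)).mp hQP
  refine ⟨⟨P, Q, hPQ, hQP, ?_⟩⟩
  ext x y
  rw [neg_J_apply, ← hb x y]
  unfold SpS.bform
  rw [Matrix.toLinearMap₂'_apply', Matrix.mul_apply]
  simp only [Matrix.mul_apply, Matrix.transpose_apply, dotProduct, Matrix.mulVec, Finset.sum_mul,
    Finset.mul_sum, hQ]
  rw [Finset.sum_comm]
  apply Finset.sum_congr rfl
  intro a _
  apply Finset.sum_congr rfl
  intro a' _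
  ring

variable {M : Mod F t} {m : ℕ} (T : Tr M m)

/-- transport to the standard symplectic group -/
def Tr.φ (X : Matrix (Idx M.d) (Idx M.d) F) : Matrix (Fin m ⊕ Fin m) (Fin m ⊕ Fin m) F :=
  T.P * X * T.Q

/-- transport from the standard symplectic group -/
def Tr.ψ (A : Matrix (Fin m ⊕ Fin m) (Fin m ⊕ Fin m) F) : Matrix (Idx M.d) (Idx M.d) F :=
  T.Q * A * T.P

theorem Tr.φ_mul (X Y : Matrix (Idx M.d) (Idx M.d) F) : T.φ (X * Y) = T.φ X * T.φ Y := by
  unfold Tr.φ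
  calc T.P * (X * Y) * T.Q = T.P * X * (1 : Matrix (Idx M.d) (Idx M.d) F) * Y * T.Q := by
        rw [Matrix.mul_one]; simp only [Matrix.mul_assoc]
    _ = T.P * X * T.Q * (T.P * Y * T.Q) := by rw [← T.QP]; simp only [Matrix.mul_assoc]

theorem Tr.ψ_mul (A B : Matrix (Fin m ⊕ Fin m) (Fin m ⊕ Fin m) F) :
    T.ψ (A * B) = T.ψ A * T.ψ B := by
  unfold Tr.ψ
  calc T.Q * (A * B) * T.P = T.Q * A * (1 : Matrix (Fin m ⊕ Fin m) (Fin m ⊕ Fin m) F) * B * T.P := by
        rw [Matrix.mul_one]; simp only [Matrix.mul_assoc]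
    _ = T.Q * A * T.P * (T.Q * B * T.P) := by rw [← T.PQ]; simp only [Matrix.mul_assoc]

theorem Tr.φ_one : T.φ 1 = 1 := by
  unfold Tr.φ
  rw [Matrix.mul_one, T.PQ]

theorem Tr.ψ_one : T.ψ 1 = 1 := by
  unfold Tr.ψ
  rw [Matrix.mul_one, T.QP]

theorem Tr.φ_ψ (A : Matrix (Fin m ⊕ Fin m) (Fin m ⊕ Fin m) F) : T.φ (T.ψ A) = A := by
  unfold Tr.φ Tr.ψ
  calc T.P * (T.Q * A * T.P) * T.Q = (T.P * T.Q) * A * (T.P * T.Q) := by
        simp only [Matrix.mul_assoc]
    _ = A := by rw [T.PQ, Matrix.one_mul, Matrix.mul_one]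

theorem Tr.ψ_φ (X : Matrix (Idx M.d) (Idx M.d) F) : T.ψ (T.φ X) = X := by
  unfold Tr.φ Tr.ψ
  calc T.Q * (T.P * X * T.Q) * T.P = (T.Q * T.P) * X * (T.Q * T.P) := by
        simp only [Matrix.mul_assoc]
    _ = X := by rw [T.QP, Matrix.one_mul, Matrix.mul_one]

theorem Tr.φ_sub (X Y : Matrix (Idx M.d) (Idx M.d) F) : T.φ (X - Y) = T.φ X - T.φ Y := by
  unfold Tr.φ
  rw [Matrix.mul_sub, Matrix.sub_mul]

theorem Tr.φ_pow (X : Matrix (Idx M.d) (Idx M.d) F) (j : ℕ) : T.φ (X ^ j) = (T.φ X) ^ j := by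
  induction j with
  | zero => rw [pow_zero, pow_zero, T.φ_one]
  | succ j ih => rw [pow_succ, pow_succ, T.φ_mul, ih]

theorem Tr.rank_φ (X : Matrix (Idx M.d) (Idx M.d) F) : (T.φ X).rank = X.rank := by
  apply le_antisymm
  · unfold Tr.φ
    exact (Matrix.rank_mul_le_left _ _).trans (Matrix.rank_mul_le_right _ _)
  · conv_lhs => rw [← T.ψ_φ X]
    unfold Tr.ψ
    exact (Matrix.rank_mul_le_left _ _).trans (Matrix.rank_mul_le_right _ _)

/-- the rank profile is preserved -/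
theorem Tr.rank_φ_sub_one_pow (X : Matrix (Idx M.d) (Idx M.d) F) (j : ℕ) :
    ((T.φ X - 1) ^ j).rank = ((X - 1) ^ j).rank := by
  rw [← T.φ_one, ← T.φ_sub, ← T.φ_pow, T.rank_φ]

theorem Tr.form' : T.Pᵀ * Matrix.J (Fin m) F * T.P = - M.Om := by
  have h1 : T.Pᵀ * (T.Qᵀ * M.Om * T.Q) * T.P = M.Om := by
    calc T.Pᵀ * (T.Qᵀ * M.Om * T.Q) * T.P = (T.Q * T.P)ᵀ * M.Om * (T.Q * T.P) := by
          rw [Matrix.transpose_mul]; simp only [Matrix.mul_assoc]
      _ = M.Om := by rw [T.QP, Matrix.transpose_one, Matrix.one_mul, Matrix.mul_one]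
  rw [T.form, Matrix.mul_neg, Matrix.neg_mul] at h1
  rw [← h1, neg_neg]

/-- isometries correspond to symplectic matrices -/
theorem Tr.φ_mem_iff (X : Matrix (Idx M.d) (Idx M.d) F) :
    T.φ X ∈ Matrix.symplecticGroup (Fin m) F ↔ M.adj X * X = 1 := by
  rw [SymplecticGroup.mem_iff', ← M.isometry_iff]
  have h1 : (T.φ X)ᵀ * Matrix.J (Fin m) F * T.φ X = - (T.Qᵀ * (Xᵀ * M.Om * X) * T.Q) := by
    unfold Tr.φ
    calc (T.P * X * T.Q)ᵀ * Matrix.J (Fin m) F * (T.P * X * T.Q)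
        = T.Qᵀ * (Xᵀ * (T.Pᵀ * Matrix.J (Fin m) F * T.P) * X) * T.Q := by
          rw [Matrix.transpose_mul, Matrix.transpose_mul]; simp only [Matrix.mul_assoc]
      _ = - (T.Qᵀ * (Xᵀ * M.Om * X) * T.Q) := by
          rw [T.form']
          simp only [Matrix.mul_neg, Matrix.neg_mul]
  rw [h1]
  constructor
  · intro h
    have h3 : T.Qᵀ * (Xᵀ * M.Om * X) * T.Q = T.Qᵀ * M.Om * T.Q := by
      rw [T.form, ← h, neg_neg]
    have h4 : T.Pᵀ * (T.Qᵀ * (Xᵀ * M.Om * X) * T.Q) * T.P = T.Pᵀ * (T.Qᵀ * M.Om * T.Q) * T.P :=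
      congrArg (fun Z => T.Pᵀ * Z * T.P) h3
    have e : ∀ Z : Matrix (Idx M.d) (Idx M.d) F, T.Pᵀ * (T.Qᵀ * Z * T.Q) * T.P = Z := by
      intro Z
      calc T.Pᵀ * (T.Qᵀ * Z * T.Q) * T.P = (T.Q * T.P)ᵀ * Z * (T.Q * T.P) := by
            rw [Matrix.transpose_mul]; simp only [Matrix.mul_assoc]
        _ = Z := by rw [T.QP, Matrix.transpose_one, Matrix.one_mul, Matrix.mul_one]
    rwa [e, e] at h4
  · intro h
    rw [h, T.form, neg_neg]

theorem Tr.adj_ψ_mul {A : Matrix (Fin m ⊕ Fin m) (Fin m ⊕ Fin m) F}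
    (hA : A ∈ Matrix.symplecticGroup (Fin m) F) : M.adj (T.ψ A) * T.ψ A = 1 := by
  rw [← T.φ_mem_iff, T.φ_ψ]
  exact hA

/-- conjugacy in the symplectic group in terms of the isometry group of the monomial form -/
theorem Tr.isConj_iff (A A' : Matrix.symplecticGroup (Fin m) F) :
    IsConj A A' ↔ ∃ y : Matrix (Idx M.d) (Idx M.d) F, M.adj y * y = 1 ∧
      y * T.ψ A.1 = T.ψ A'.1 * y := by
  constructor
  · intro h
    rw [_root_.isConj_iff] at h
    obtain ⟨c, hc⟩ := h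
    rw [mul_inv_eq_iff_eq_mul] at hc
    have hc' : c.1 * A.1 = A'.1 * c.1 := congrArg Subtype.val hc
    refine ⟨T.ψ c.1, T.adj_ψ_mul c.2, ?_⟩
    rw [← T.ψ_mul, ← T.ψ_mul, hc']
  · rintro ⟨y, hy, hyA⟩
    rw [_root_.isConj_iff]
    refine ⟨⟨T.φ y, (T.φ_mem_iff y).mpr hy⟩, ?_⟩
    rw [mul_inv_eq_iff_eq_mul]
    apply Subtype.ext
    show T.φ y * A.1 = A'.1 * T.φ y
    have h1 := congrArg T.φ hyA
    rwa [T.φ_mul, T.φ_mul, T.φ_ψ, T.φ_ψ] at h1

end Cfsg.Agent.Helper8.SpU
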