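import Cfsg.Agent.Helper8.SpUH
set_option autoImplicit false
set_option linter.unusedSectionVars false

/-!
Unipotent classes of the symplectic groups: the number of classes of the symplectic group with a
given Jordan type.
-/

namespace Cfsg.Agent.Helper8.SpU

open Matrix Cfsg.Agent.Helper8.JCent Cfsg.Agent.Helper8.UCent Cfsg.Agent.Helper8.UJ

variable {F : Type*} [Field F] [Fintype F] {t : ℕ}

/-- the even block sizes that occur -/
def Mod.E (M : Mod F t) : Finset ℕ := (Finset.univ.image M.d).filter (fun s => Even s)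

theorem Mod.mem_E_iff (M : Mod F t) (s : ℕ) : s ∈ M.E ↔ Even s ∧ Nonempty (fib M.d s) := by
  unfold Mod.E
  rw [Finset.mem_filter, Finset.mem_image, and_comm]
  constructor
  · rintro ⟨hs, k, -, hk⟩
    exact ⟨hs, ⟨⟨k, hk⟩⟩⟩
  · rintro ⟨hs, ⟨⟨k, hk⟩⟩⟩
    exact ⟨hs, k, Finset.mem_univ _, hk⟩

theorem u0_sub_one_nilpotent (h2 : (2 : F) ≠ 0) (d : Fin t → ℕ) : IsNilpotent (u0 d F - 1) := by
  refine ⟨∑ k, d k, eq_zero_of_rank_eq_zero _ ?_⟩
  rw [u0_rank h2]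
  apply Finset.sum_eq_zero
  intro k _
  have : d k ≤ ∑ k, d k :=
    Finset.single_le_sum (f := d) (fun i _ => Nat.zero_le _) (Finset.mem_univ k)
  omega

/-- **the number of classes of a given Jordan type** -/
theorem card_fibre (p : ℕ) [Fact p.Prime] [CharP F p] (hp : p ≠ 2) (M : Mod F t) {m : ℕ}
    (hsum : ∑ k, M.d k = 2 * m) :
    Nat.card {C : ConjClasses (Matrix.symplecticGroup (Fin m) F) //
      ∃ g : Matrix.symplecticGroup (Fin m) F, ConjClasses.mk g = C ∧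
        ∀ j, (((g : Matrix (Fin m ⊕ Fin m) (Fin m ⊕ Fin m) F) - 1) ^ j).rank =
          ∑ k, (M.d k - j)} = 2 ^ M.E.card := by
  classical
  have h2 : (2 : F) ≠ 0 := two_ne_zero_of_char p hp
  obtain ⟨T⟩ := exists_Tr h2 M hsum
  have hchar : ringChar F ≠ 2 := by
    intro h
    apply h2
    have : CharP F 2 := ringChar.of_eq h
    exact_mod_cast CharP.cast_eq_zero F 2
  obtain ⟨ν₀, hν₀⟩ := FiniteField.exists_nonsquare hchar
  have hν0 : ν₀ ≠ 0 := by
    rintro rfl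
    exact hν₀ ⟨0, by simp⟩
  -- the sign vectors
  let ε : (↥M.E → Bool) → ℕ → Prop := fun f s => ∃ hs : s ∈ M.E, f ⟨s, hs⟩ = true
  have hε : ∀ (f : ↥M.E → Bool) (s : ↥M.E), ε f s.1 ↔ f s = true := by
    intro f s
    constructor
    · rintro ⟨hs, h⟩
      exact h
    · intro h
      exact ⟨s.2, h⟩
  have hex : ∀ f : ↥M.E → Bool, ∃ x xi : Matrix (Idx M.d) (Idx M.d) F, x * xi = 1 ∧ xi * x = 1 ∧
      M.adj x * x = M.hrep (ε f) ν₀ ∧
      M.adj (x * u0 M.d F * xi) * (x * u0 M.d F * xi) = 1 :=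
    fun f => M.exists_conj h2 (M.hrep_X0 (ε f) ν₀ hν0)
  choose x xi hx hxi hxh hiso using hex
  let A : (↥M.E → Bool) → Matrix.symplecticGroup (Fin m) F :=
    fun f => ⟨T.φ (x f * u0 M.d F * xi f), (T.φ_mem_iff _).mpr (hiso f)⟩
  have hA : ∀ f, T.ψ (A f).1 = x f * u0 M.d F * xi f := fun f => T.ψ_φ _
  have hprof : ∀ f j, ((((A f : Matrix.symplecticGroup (Fin m) F) :
      Matrix (Fin m ⊕ Fin m) (Fin m ⊕ Fin m) F) - 1) ^ j).rank = ∑ k, (M.d k - j) := by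
    intro f j
    show ((T.φ (x f * u0 M.d F * xi f) - 1) ^ j).rank = _
    rw [T.rank_φ_sub_one_pow]
    have e : x f * u0 M.d F * xi f - 1 = x f * (u0 M.d F - 1) * xi f := by
      rw [Matrix.mul_sub, Matrix.sub_mul, Matrix.mul_one, hx]
    rw [e, rank_pow_conj _ _ _ (hx f) (hxi f), u0_rank h2]
  have hcard : Nat.card (↥M.E → Bool) = 2 ^ M.E.card := by
    rw [Nat.card_eq_fintype_card, Fintype.card_fun, Fintype.card_bool, Fintype.card_coe]
  rw [← hcard]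
  symm
  apply Nat.card_congr
  refine Equiv.ofBijective (fun f => ⟨ConjClasses.mk (A f), A f, rfl, hprof f⟩) ⟨?_, ?_⟩
  · -- injectivity
    intro f f' hff
    have h1 : ConjClasses.mk (A f) = ConjClasses.mk (A f') := congrArg Subtype.val hff
    rw [ConjClasses.mk_eq_mk_iff_isConj, T.isConj_iff, hA, hA,
      M.conj_iff h2 (hx f) (hxi f) (hx f') (hxi f'), hxh, hxh] at h1
    funext s
    rw [Bool.eq_iff_iff, ← hε f s, ← hε f' s]
    have hs := (M.mem_E_iff s.1).mp s.2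
    have h3 := h1.isSquare_iff M (M.hrep_X0 (ε f') ν₀ hν0) hs.1
    rw [M.hrep_isSquare (ε f') ν₀ hν₀ hs.1 hs.2, M.hrep_isSquare (ε f) ν₀ hν₀ hs.1 hs.2] at h3
    exact h3.symm
  · -- surjectivity
    rintro ⟨C, g, hgC, hg⟩
    have hg₀ : M.adj (T.ψ g.1) * T.ψ g.1 = 1 := T.adj_ψ_mul g.2
    have hrank : ∀ j, ((u0 M.d F - 1) ^ j).rank = ((T.ψ g.1 - 1) ^ j).rank := by
      intro j
      rw [u0_rank h2, ← T.rank_φ_sub_one_pow, T.φ_ψ, hg]
    obtain ⟨c, hc⟩ := isConj_of_rank_pow_eq _ _ (u0_sub_one_nilpotent h2 M.d) hrank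
    have hc' : (c : Matrix (Idx M.d) (Idx M.d) F) * u0 M.d F =
        T.ψ g.1 * (c : Matrix (Idx M.d) (Idx M.d) F) := hc
    have hx₁ : (c : Matrix (Idx M.d) (Idx M.d) F) *
        ((c⁻¹ : (Matrix (Idx M.d) (Idx M.d) F)ˣ) : Matrix (Idx M.d) (Idx M.d) F) = 1 :=
      Units.mul_inv c
    have hxi₁ : ((c⁻¹ : (Matrix (Idx M.d) (Idx M.d) F)ˣ) : Matrix (Idx M.d) (Idx M.d) F) *
        (c : Matrix (Idx M.d) (Idx M.d) F) = 1 := Units.inv_mul c
    have hg₀eq : T.ψ g.1 = (c : Matrix (Idx M.d) (Idx M.d) F) * u0 M.d F *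
        ((c⁻¹ : (Matrix (Idx M.d) (Idx M.d) F)ˣ) : Matrix (Idx M.d) (Idx M.d) F) := by
      rw [hc', Matrix.mul_assoc, hx₁, Matrix.mul_one]
    have hh : M.X0 (M.adj (c : Matrix (Idx M.d) (Idx M.d) F) *
        (c : Matrix (Idx M.d) (Idx M.d) F)) := by
      apply M.X0_of_conj h2 hx₁ hxi₁
      rw [← hg₀eq]
      exact hg₀
    refine ⟨fun s => decide (IsSquare (Cs (M.adj (c : Matrix (Idx M.d) (Idx M.d) F) *
        (c : Matrix (Idx M.d) (Idx M.d) F)) s.1).det), ?_⟩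
    apply Subtype.ext
    show ConjClasses.mk (A _) = C
    rw [← hgC, ConjClasses.mk_eq_mk_iff_isConj, T.isConj_iff, hA, hg₀eq,
      M.conj_iff h2 (hx _) (hxi _) hx₁ hxi₁, hxh]
    apply M.sim_of_isSquare_iff p hp hh (M.hrep_X0 _ ν₀ hν0)
    intro s hs
    by_cases hne : Nonempty (fib M.d s)
    · have hsE : s ∈ M.E := (M.mem_E_iff s).mpr ⟨hs, hne⟩
      rw [M.hrep_isSquare _ ν₀ hν₀ hs hne]
      have := hε (fun s => decide (IsSquare (Cs (M.adj (c : Matrix (Idx M.d) (Idx M.d) F) *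
        (c : Matrix (Idx M.d) (Idx M.d) F)) s.1).det)) ⟨s, hsE⟩
      rw [this, decide_eq_true_iff]
    · rw [not_nonempty_iff] at hne
      rw [Matrix.det_isEmpty, Matrix.det_isEmpty]

end Cfsg.Agent.Helper8.SpU
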