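import Cfsg.Agent.Helper8.SpUL
set_option autoImplicit false
set_option linter.unusedSectionVars false

/-!
Unipotent classes of the symplectic groups: the number of classes of elements of order `p` in the
finite symplectic groups of odd characteristic `p`.
-/

namespace Cfsg.Agent.Helper8.SpU

open Matrix Module Cfsg.Agent.Helper8.JCent Cfsg.Agent.Helper8.UJ Cfsg.Agent.Helper8.Jordan

variable {F : Type*} [Field F] [Fintype F]

theorem ones_parts (n : ℕ) : (ones n).parts = Multiset.replicate n 1 := rfl

/-- **the number of classes of elements of order `p` in `Sp(2m, q)`**, `q` a power of the odd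
prime `p` -/
theorem main (p : ℕ) [Fact p.Prime] [CharP F p] (hp : p ≠ 2) (m : ℕ)
    [DecidablePred (fun μ : Nat.Partition (2 * m) =>
      (∀ a ∈ μ.parts, a ≤ p) ∧ ∀ j : ℕ, Odd j → Even (μ.parts.count j))]
    [DecidablePred (fun j : ℕ => Even j)] :
    Nat.card {C : ConjClasses ↥(Matrix.symplecticGroup (Fin m) F) //
      ∃ g : Matrix.symplecticGroup (Fin m) F, ConjClasses.mk g = C ∧ orderOf g = p} =
    (∑ μ ∈ Finset.univ.filter (fun μ : Nat.Partition (2 * m) =>
      (∀ a ∈ μ.parts, a ≤ p) ∧ ∀ j : ℕ, Odd j → Even (μ.parts.count j)),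
        2 ^ ((μ.parts.toFinset.filter (fun j : ℕ => Even j)).card)) - 1 := by
  classical
  have hpp : p.Prime := Fact.out
  -- representatives and their types
  let rep : {C : ConjClasses ↥(Matrix.symplecticGroup (Fin m) F) //
      ∃ g : Matrix.symplecticGroup (Fin m) F, ConjClasses.mk g = C ∧ orderOf g = p} →
      Matrix.symplecticGroup (Fin m) F := fun C => Classical.choose C.2
  have hrep1 : ∀ C, ConjClasses.mk (rep C) = C.1 := fun C => (Classical.choose_spec C.2).1
  have hrep2 : ∀ C, orderOf (rep C) = p := fun C => (Classical.choose_spec C.2).2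
  have hnil : ∀ C, IsNilpotent (((rep C : Matrix.symplecticGroup (Fin m) F) :
      Matrix (Fin m ⊕ Fin m) (Fin m ⊕ Fin m) F) - 1) := fun C => nilpotent_of_order p (hrep2 C)
  let typ : {C : ConjClasses ↥(Matrix.symplecticGroup (Fin m) F) //
      ∃ g : Matrix.symplecticGroup (Fin m) F, ConjClasses.mk g = C ∧ orderOf g = p} →
      Nat.Partition (2 * m) := fun C =>
    ⟨spType (rep C), fun {a} ha => (spType_spec _ (hnil C)).1 a ha, spType_sum _ (hnil C)⟩
  have htyp : ∀ C, (typ C).parts = spType (rep C) := fun _ => rfl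
  -- the fibres
  have key : ∀ μ : Nat.Partition (2 * m), Nat.card {C // typ C = μ} =
      if ((∀ a ∈ μ.parts, a ≤ p) ∧ ∀ j : ℕ, Odd j → Even (μ.parts.count j)) ∧ μ ≠ ones (2 * m)
      then 2 ^ ((μ.parts.toFinset.filter (fun j : ℕ => Even j)).card) else 0 := by
    intro μ
    by_cases hμ : ((∀ a ∈ μ.parts, a ≤ p) ∧ ∀ j : ℕ, Odd j → Even (μ.parts.count j)) ∧
        μ ≠ ones (2 * m)
    · rw [if_pos hμ]
      obtain ⟨⟨hμ1, hμ2⟩, hμ3⟩ := hμ
      have hfib := card_fibre' (F := F) p hp (m := m) μ.parts (fun a ha => μ.parts_pos ha) hμ2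
        μ.parts_sum
      refine Eq.trans ?_ (hfib.trans (by congr!))
      apply Nat.card_congr
      have hord : ∀ g : Matrix.symplecticGroup (Fin m) F,
          (∀ j, (((g : Matrix (Fin m ⊕ Fin m) (Fin m ⊕ Fin m) F) - 1) ^ j).rank =
            mprof μ.parts j) → orderOf g = p := by
        intro g hg
        have hg' : ∀ j, prof g j = mprof μ.parts j := hg
        have hnilg := nilpotent_of_prof hg'
        have hty : spType g = μ.parts := spType_eq g μ.parts (fun a ha => μ.parts_pos ha) hg'
        rw [order_iff p g hnilg, hty]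
        refine ⟨hμ1, ?_⟩
        by_contra hcon
        exact hμ3 ((eq_ones_iff μ).mpr hcon)
      refine
        { toFun := fun C => ⟨C.1.1, rep C.1, hrep1 C.1, fun j => ?_⟩
          invFun := fun C => ⟨⟨C.1, ?_⟩, ?_⟩
          left_inv := fun C => Subtype.ext (Subtype.ext rfl)
          right_inv := fun C => Subtype.ext rfl }
      · have h1 := (spType_spec _ (hnil C.1)).2 j
        rw [← htyp, C.2] at h1
        exact h1
      · obtain ⟨g, hg, hprof⟩ := C.2
        exact ⟨g, hg, hord g hprof⟩
      · obtain ⟨g, hg, hprof⟩ := C.2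
        apply Nat.Partition.ext
        rw [htyp]
        apply spType_eq _ _ (fun a ha => μ.parts_pos ha)
        intro j
        have hconj : IsConj g (rep ⟨C.1, g, hg, hord g hprof⟩) := by
          rw [← ConjClasses.mk_eq_mk_iff_isConj, hrep1]
          exact hg
        rw [prof_conj hconj j]
        exact hprof j
    · rw [if_neg hμ]
      have : IsEmpty {C // typ C = μ} := by
        refine ⟨fun C => hμ ?_⟩
        have h1 := spType_spec _ (hnil C.1)
        have h2 := (order_iff p _ (hnil C.1)).mp (hrep2 C.1)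
        have h3 := spType_even _ (hnil C.1)
        rw [← htyp, C.2] at h1 h2 h3
        refine ⟨⟨h2.1, h3⟩, fun hone => ?_⟩
        exact ((eq_ones_iff μ).mp hone) h2.2
      exact Nat.card_of_isEmpty
  -- summing over the fibres
  have hcardU : Nat.card {C : ConjClasses ↥(Matrix.symplecticGroup (Fin m) F) //
      ∃ g : Matrix.symplecticGroup (Fin m) F, ConjClasses.mk g = C ∧ orderOf g = p} =
      ∑ μ : Nat.Partition (2 * m), Nat.card {C // typ C = μ} := by
    rw [← Nat.card_sigma]
    exact Nat.card_congr (Equiv.sigmaFiberEquiv typ).symm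
  rw [hcardU, Finset.sum_congr rfl (fun μ _ => key μ), ← Finset.sum_filter]
  -- the all-ones partition
  have hones_valid : (∀ a ∈ (ones (2 * m)).parts, a ≤ p) ∧
      ∀ j : ℕ, Odd j → Even ((ones (2 * m)).parts.count j) := by
    rw [ones_parts]
    constructor
    · intro a ha
      rw [Multiset.eq_of_mem_replicate ha]
      exact hpp.one_lt.le
    · intro j _
      rw [Multiset.count_replicate]
      split_ifs
      · exact ⟨m, by ring⟩
      · exact ⟨0, rfl⟩
  have hones_e : (((ones (2 * m)).parts.toFinset).filter (fun j : ℕ => Even j)).card = 0 := by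
    rw [Finset.card_eq_zero, Finset.filter_eq_empty_iff]
    intro a ha
    rw [Multiset.mem_toFinset, ones_parts] at ha
    rw [Multiset.eq_of_mem_replicate ha]
    exact Nat.not_even_one
  have hmem : ones (2 * m) ∈ Finset.univ.filter (fun μ : Nat.Partition (2 * m) =>
      (∀ a ∈ μ.parts, a ≤ p) ∧ ∀ j : ℕ, Odd j → Even (μ.parts.count j)) := by
    rw [Finset.mem_filter]
    exact ⟨Finset.mem_univ _, hones_valid⟩
  have hsplit := Finset.add_sum_erase _ (fun μ : Nat.Partition (2 * m) =>
    2 ^ ((μ.parts.toFinset.filter (fun j : ℕ => Even j)).card)) hmem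
  rw [hones_e, pow_zero] at hsplit
  have hfilter : Finset.univ.filter (fun μ : Nat.Partition (2 * m) =>
      ((∀ a ∈ μ.parts, a ≤ p) ∧ ∀ j : ℕ, Odd j → Even (μ.parts.count j)) ∧ μ ≠ ones (2 * m)) =
      (Finset.univ.filter (fun μ : Nat.Partition (2 * m) =>
      (∀ a ∈ μ.parts, a ≤ p) ∧ ∀ j : ℕ, Odd j → Even (μ.parts.count j))).erase (ones (2 * m)) := by
    ext μ
    simp only [Finset.mem_filter, Finset.mem_univ, true_and, Finset.mem_erase]
    tauto
  rw [hfilter]
  omega

end Cfsg.Agent.Helper8.SpU
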