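import Mathlib
import Cfsg.Agent.Helper8.PSUSingH
import Cfsg.Agent.Helper8.SUSemiH
import Cfsg.Agent.Helper8.GUUnipB
import Cfsg.Agent.Lead.SpecPSLh

set_option autoImplicit false

/-!
# Element orders in `PSU n K q`: multiplying the order by a prime `r ∣ q + 1`, `r ∤ n` (helper8)

The image of `g` has order dividing `j` iff `g ^ j` is scalar; a self-adjoint idempotent commuting
with `g` lets one multiply the order by `r`.
-/

namespace Cfsg.Agent.Helper8.SpecU

open Polynomial Matrix Cfsg Cfsg.Agent.Helper8.GUOrder Cfsg.Agent.Helper8.SUCenter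
  Cfsg.Agent.Helper8.AutSU Cfsg.Agent.Helper8.PSUSing Cfsg.Agent.Helper8.PU3

variable {K : Type*} [Field K] [Fintype K] {q : ℕ} [hF : Fact (Fintype.card K = q ^ 2)] {n : ℕ}

omit [Fintype K] hF in
theorem scalar_eq_smul (c : K) : Matrix.scalar (Fin n) c = c • (1 : Matrix (Fin n) (Fin n) K) := by
  rw [Matrix.smul_one_eq_diagonal]
  rfl

theorem orderOf_psu_dvd_iff (hn : 1 ≤ n) (x : SU n K q) (j : ℕ) :
    orderOf (QuotientGroup.mk x : PSU n K q) ∣ j ↔
      ∃ c : K, (x.1 : Matrix (Fin n) (Fin n) K) ^ j = c • 1 := by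
  rw [orderOf_dvd_iff_pow_eq_one, psu_pow_eq_one_iff hF.out n hn]

theorem add_one_dvd_card : q + 1 ∣ Fintype.card K - 1 := by
  rw [hF.out]
  refine ⟨q - 1, ?_⟩
  have hq : 2 ≤ q := two_le_q' (K := K)
  obtain ⟨s, rfl⟩ : ∃ s, q = s + 1 := ⟨q - 1, by omega⟩
  rw [Nat.add_sub_cancel]
  have : (s + 1) ^ 2 = (s + 1 + 1) * s + 1 := by ring
  omega

/-- a primitive `r`-th root of unity of norm one. -/
theorem exists_zeta {r : ℕ} (hr : r.Prime) (hrq : r ∣ q + 1) :
    ∃ ζ : K, IsPrimitiveRoot ζ r ∧ ζ * ζ ^ q = 1 := by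
  obtain ⟨ζ, hζ⟩ := Cfsg.Agent.Lead.SpecPSL.exists_zeta (F := K) hr
    (dvd_trans hrq (add_one_dvd_card (K := K) (q := q)))
  refine ⟨ζ, hζ, ?_⟩
  obtain ⟨k, hk⟩ := hrq
  rw [← pow_succ', hk, pow_mul, hζ.pow_eq_one, one_pow]

theorem st_smul {ι : Type*} [Fintype ι] [DecidableEq ι] (c : K) (M : Matrix ι ι K) :
    st (q := q) (c • M) = c ^ q • st (q := q) M := by
  unfold st
  ext i j
  simp only [Matrix.transpose_apply, Matrix.map_apply, Matrix.smul_apply, smul_eq_mul, map_mul,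
    frobq_apply]

theorem st_add {ι : Type*} [Fintype ι] [DecidableEq ι] (M N : Matrix ι ι K) :
    st (q := q) (M + N) = st (q := q) M + st (q := q) N := by
  unfold st
  ext i j
  simp only [Matrix.transpose_apply, Matrix.map_apply, Matrix.add_apply, map_add]

theorem st_sub {ι : Type*} [Fintype ι] [DecidableEq ι] (M N : Matrix ι ι K) :
    st (q := q) (M - N) = st (q := q) M - st (q := q) N := by
  unfold st
  ext i j
  simp only [Matrix.transpose_apply, Matrix.map_apply, Matrix.sub_apply, map_sub]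

theorem st_zero {ι : Type*} [Fintype ι] [DecidableEq ι] :
    st (q := q) (0 : Matrix ι ι K) = 0 := by
  unfold st
  ext i j
  simp only [Matrix.transpose_apply, Matrix.map_apply, Matrix.zero_apply, map_zero]

omit [Fintype K] hF in
theorem idem_mul (E : Matrix (Fin n) (Fin n) K) (hE : E * E = E) (a b : K) :
    (1 + a • E) * (1 + b • E) = 1 + (a + b + a * b) • E := by
  simp only [mul_add, add_mul, mul_one, one_mul, Matrix.smul_mul, Matrix.mul_smul, hE, smul_smul,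
    add_smul, mul_comm b a]
  abel

omit hF in
theorem idem_smul_one (E : Matrix (Fin n) (Fin n) K) (hE : E * E = E) (hE0 : E ≠ 0) (hE1 : E ≠ 1)
    (a c : K) (h : a • E = c • (1 : Matrix (Fin n) (Fin n) K)) : a = 0 := by
  apply Cfsg.Agent.Lead.SpecPSL.idem_scalar E hE hE0 hE1 a c
  rw [h, scalar_eq_smul]
  done

/-- **multiplying the order by `r`**: a self-adjoint idempotent commuting with `g`. -/
theorem good_of_idem (hn : 1 ≤ n) {r : ℕ} (hr : r.Prime) (hrq : r ∣ q + 1) (hrn : ¬ r ∣ n)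
    (g : SU n K q) (E : Matrix (Fin n) (Fin n) K) (hE : E * E = E) (hEs : st (q := q) E = E)
    (hE0 : E ≠ 0) (hE1 : E ≠ 1) (hc : Commute E (g.1 : Matrix (Fin n) (Fin n) K)) :
    ∃ y : PSU n K q, orderOf y = Nat.lcm (orderOf (QuotientGroup.mk g : PSU n K q)) r := by
  by_cases hdiv : r ∣ orderOf (QuotientGroup.mk g : PSU n K q)
  · exact ⟨QuotientGroup.mk g, (Nat.lcm_eq_left hdiv).symm⟩
  obtain ⟨ζ, hζ, hζn⟩ := exists_zeta (K := K) (q := q) hr hrq
  have hζr : ζ ^ r = 1 := hζ.pow_eq_one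
  haveI : NeZero r := ⟨hr.ne_zero⟩
  have hζ0 : ζ ≠ 0 := hζ.ne_zero hr.ne_zero
  set w : Matrix (Fin n) (Fin n) K := 1 + (ζ - 1) • E with hw
  have hwr : w ^ r = 1 := by
    rw [hw, Cfsg.Agent.Lead.SpecPSL.idem_pow E hE, hζr, sub_self, zero_smul, add_zero]
  have hdet : w.det ^ r = 1 := by rw [← Matrix.det_pow, hwr, Matrix.det_one]
  obtain ⟨s, _, hs⟩ := hζ.eq_pow_of_pow_eq_one hdet
  obtain ⟨e, he⟩ := Cfsg.Agent.Lead.SpecPSL.exists_exp hr hrn s
  have hz0det : ((ζ ^ e) • w).det = 1 := by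
    rw [Matrix.det_smul, Fintype.card_fin, ← hs, ← pow_mul, ← pow_add]
    obtain ⟨k, hk⟩ := he
    rw [hk, pow_mul, hζr, one_pow]
  have hstw : st (q := q) w = 1 + (ζ ^ q - 1) • E := by
    rw [hw, st_add, st_one, st_smul, hEs]
    congr 2
    rw [← frobq_apply (F := K) (q := q) (ζ - 1), map_sub, map_one, frobq_apply]
  have hzU : st (q := q) ((ζ ^ e) • w) * ((ζ ^ e) • w) = 1 := by
    rw [st_smul, hstw, Matrix.smul_mul, Matrix.mul_smul, smul_smul, hw]
    have h1 : (ζ ^ e) ^ q * ζ ^ e = 1 := by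
      rw [← pow_mul, ← pow_add, mul_comm e q, ← Nat.succ_mul, pow_mul, pow_succ', hζn, one_pow]
    rw [h1, one_smul, idem_mul E hE]
    have h2 : ζ ^ q - 1 + (ζ - 1) + (ζ ^ q - 1) * (ζ - 1) = 0 := by
      have : ζ * ζ ^ q = 1 := hζn
      linear_combination this
    rw [h2, zero_smul, add_zero]
  let z : SU n K q := mkSU hF.out ((ζ ^ e) • w) ((unitary_iff_st _).mpr hzU) hz0det
  have hz1 : (z.1 : Matrix (Fin n) (Fin n) K) = (ζ ^ e) • w := rfl
  have hzpow : ∀ j : ℕ, (z.1 : Matrix (Fin n) (Fin n) K) ^ j =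
      (ζ ^ (e * j)) • (1 + (ζ ^ j - 1) • E) := by
    intro j
    rw [hz1, _root_.smul_pow, hw, Cfsg.Agent.Lead.SpecPSL.idem_pow E hE, ← pow_mul]
  have hcomm : Commute z g := by
    have : (z.1 : Matrix (Fin n) (Fin n) K) * (g.1 : Matrix (Fin n) (Fin n) K) =
        (g.1 : Matrix (Fin n) (Fin n) K) * (z.1 : Matrix (Fin n) (Fin n) K) := by
      rw [hz1, hw]
      simp only [Matrix.smul_mul, Matrix.mul_smul, add_mul, mul_add, one_mul, mul_one, hc.eq]
    exact Subtype.ext (Subtype.ext this)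
  have hzr : (QuotientGroup.mk z : PSU n K q) ^ r = 1 := by
    rw [psu_pow_eq_one_iff hF.out n hn]
    refine ⟨1, ?_⟩
    rw [hzpow, hζr, sub_self, zero_smul, add_zero, pow_mul, pow_right_comm, hζr, one_pow]
  have hzj : ∀ j : ℕ, (QuotientGroup.mk z : PSU n K q) ^ j = 1 → r ∣ j := by
    intro j hj
    rw [psu_pow_eq_one_iff hF.out n hn] at hj
    obtain ⟨c, hc'⟩ := hj
    rw [hzpow, smul_add, smul_smul] at hc'
    have h1 : (ζ ^ (e * j) * (ζ ^ j - 1)) • E =
        (c - ζ ^ (e * j)) • (1 : Matrix (Fin n) (Fin n) K) := by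
      rw [sub_smul, ← hc']
      abel
    have h2 := idem_smul_one E hE hE0 hE1 _ _ h1
    rcases mul_eq_zero.mp h2 with h | h
    · exact absurd h (pow_ne_zero _ hζ0)
    · exact (hζ.pow_eq_one_iff_dvd j).mp (sub_eq_zero.mp h)
  have hzord : orderOf (QuotientGroup.mk z : PSU n K q) = r := by
    haveI : Fact r.Prime := ⟨hr⟩
    apply orderOf_eq_prime hzr
    intro h1
    have := hzj 1 (by rw [pow_one]; exact h1)
    exact hr.one_lt.ne' (Nat.dvd_one.mp this)
  have hcop : Nat.Coprime (orderOf (QuotientGroup.mk g : PSU n K q)) r :=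
    (Nat.Coprime.symm ((Nat.Prime.coprime_iff_not_dvd hr).mpr hdiv))
  refine ⟨(QuotientGroup.mk g : PSU n K q) * (QuotientGroup.mk z : PSU n K q), ?_⟩
  have hcomm' : Commute (QuotientGroup.mk g : PSU n K q) (QuotientGroup.mk z : PSU n K q) :=
    (hcomm.map (QuotientGroup.mk' (Subgroup.center (SU n K q)))).symm
  rw [hcomm'.orderOf_mul_eq_mul_orderOf_of_coprime (by rw [hzord]; exact hcop), hzord,
    Nat.Coprime.lcm_eq_mul hcop]

end Cfsg.Agent.Helper8.SpecU
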