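import Mathlib
import Cfsg.Agent.Helper8.SpecUA

set_option autoImplicit false

/-!
# The minimal polynomial of a unitary matrix (helper8)

It is invariant under the monic conjugate reciprocal `ustar`; a coprime splitting of it into two
invariant factors gives a self-adjoint idempotent commuting with the matrix.
-/

namespace Cfsg.Agent.Helper8.SpecU

open Polynomial Matrix Cfsg Cfsg.Agent.Helper8.GUOrder Cfsg.Agent.Helper8.SUCenter
  Cfsg.Agent.Helper8.AutSU Cfsg.Agent.Helper8.PSUSing Cfsg.Agent.Helper8.PU3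
  Cfsg.Agent.Helper8.SUSemi

variable {K : Type*} [Field K] [Fintype K] {q : ℕ} [hF : Fact (Fintype.card K = q ^ 2)] {n : ℕ}

theorem st_pow_mul_pow {A : Matrix (Fin n) (Fin n) K} (hU : st (q := q) A * A = 1) (k : ℕ) :
    st (q := q) A ^ k * A ^ k = 1 := by
  have h2 : A * st (q := q) A = 1 := mul_eq_one_comm.mp hU
  have hcomm : Commute (st (q := q) A) A := by
    rw [Commute, SemiconjBy, hU, h2]
  rw [← hcomm.mul_pow, hU, one_pow]

/-- the adjoint of a polynomial in a unitary matrix. -/
theorem st_aeval {A : Matrix (Fin n) (Fin n) K} (hU : st (q := q) A * A = 1) (P : K[X]) :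
    st (q := q) (aeval A P) = st (q := q) A ^ P.natDegree * aeval A (sig (q := q) P) := by
  rw [aeval_sig ((unitary_iff_st A).mpr hU) P, ← mul_assoc, st_pow_mul_pow hU, one_mul]
  rfl

theorem minpoly_coeff_zero_ne {A : Matrix (Fin n) (Fin n) K} (hU : st (q := q) A * A = 1) :
    (minpoly K A).coeff 0 ≠ 0 := by
  intro h0
  have hint : IsIntegral K A := Algebra.IsIntegral.isIntegral A
  have hne0 : minpoly K A ≠ 0 := minpoly.ne_zero hint
  obtain ⟨g, hg⟩ := Polynomial.X_dvd_iff.mpr h0
  have hg0 : g ≠ 0 := by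
    rintro rfl
    rw [mul_zero] at hg
    exact hne0 hg
  have h1 : aeval A (X * g) = 0 := by rw [← hg]; exact minpoly.aeval K A
  rw [map_mul, aeval_X] at h1
  have h2 : aeval A g = 0 := by
    have := congrArg (fun M => st (q := q) A * M) h1
    simp only [mul_zero, ← mul_assoc, hU, one_mul] at this
    exact this
  have h3 : minpoly K A ∣ g := minpoly.dvd K A h2
  have h4 := Polynomial.natDegree_le_of_dvd h3 hg0
  have h5 : (minpoly K A).natDegree = g.natDegree + 1 := by
    rw [hg, Polynomial.natDegree_X_mul hg0]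
  omega

theorem sig_eq_C_mul_ustar {P : K[X]} (h0 : P.coeff 0 ≠ 0) :
    sig (q := q) P = C ((P.coeff 0) ^ q) * ustar (q := q) P := by
  unfold ustar
  rw [← mul_assoc, ← C_mul, mul_inv_cancel₀ (pow_ne_zero q h0), map_one, one_mul]

/-- the minimal polynomial of a unitary matrix is conjugate self-reciprocal. -/
theorem ustar_minpoly {A : Matrix (Fin n) (Fin n) K} (hU : st (q := q) A * A = 1) :
    ustar (q := q) (minpoly K A) = minpoly K A := by
  have hint : IsIntegral K A := Algebra.IsIntegral.isIntegral A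
  have h0 := minpoly_coeff_zero_ne hU
  have hmon : (minpoly K A).Monic := minpoly.monic hint
  have h1 : aeval A (sig (q := q) (minpoly K A)) = 0 :=
    aeval_sig_eq_zero ((unitary_iff_st A).mpr hU) (minpoly.aeval K A)
  have h2 : aeval A (ustar (q := q) (minpoly K A)) = 0 := by
    unfold ustar
    rw [map_mul, h1, mul_zero]
  have h3 : minpoly K A ∣ ustar (q := q) (minpoly K A) := minpoly.dvd K A h2
  exact Polynomial.eq_of_monic_of_dvd_of_natDegree_le hmon (ustar_monic h0) h3
    (by rw [natDegree_ustar h0])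

/-- **self-adjoint idempotent** from a coprime splitting into invariant factors. -/
theorem exists_sa_idem_of_coprime {A : Matrix (Fin n) (Fin n) K} (hU : st (q := q) A * A = 1)
    (P₁ P₂ : K[X]) (hcop : IsCoprime P₁ P₂) (h1 : ¬ IsUnit P₁) (h2 : ¬ IsUnit P₂)
    (hmin : minpoly K A = P₁ * P₂) (hs1 : ustar (q := q) P₁ = P₁) (hs2 : ustar (q := q) P₂ = P₂) :
    ∃ E : Matrix (Fin n) (Fin n) K, E * E = E ∧ st (q := q) E = E ∧ E ≠ 0 ∧ E ≠ 1 ∧
      Commute E A := by
  obtain ⟨a, b, hab⟩ := hcop
  have hint : IsIntegral K A := Algebra.IsIntegral.isIntegral A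
  have hP1 : P₁ ≠ 0 := by
    rintro rfl
    rw [zero_mul] at hmin
    exact minpoly.ne_zero hint hmin
  have hP2 : P₂ ≠ 0 := by
    rintro rfl
    rw [mul_zero] at hmin
    exact minpoly.ne_zero hint hmin
  have hc0 : P₁.coeff 0 * P₂.coeff 0 ≠ 0 := by
    rw [← Polynomial.mul_coeff_zero, ← hmin]
    exact minpoly_coeff_zero_ne hU
  have h10 : P₁.coeff 0 ≠ 0 := left_ne_zero_of_mul hc0
  have h20 : P₂.coeff 0 ≠ 0 := right_ne_zero_of_mul hc0
  have hmu : aeval A (P₁ * P₂) = 0 := by rw [← hmin]; exact minpoly.aeval K A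
  set E := aeval A (a * P₁) with hE
  set E' := aeval A (b * P₂) with hE'
  have hsum : E + E' = 1 := by
    rw [hE, hE', ← map_add, hab, map_one]
  have hEE' : E * E' = 0 := by
    rw [hE, hE', ← map_mul]
    have : a * P₁ * (b * P₂) = a * b * (P₁ * P₂) := by ring
    rw [this, map_mul, hmu, mul_zero]
  have hE'eq : E' = 1 - E := by rw [← hsum]; abel
  have hidem : E * E = E := by
    have := hEE'
    rw [hE'eq, mul_sub, mul_one, sub_eq_zero] at this
    exact this.symm
  -- adjoints
  have hstE : st (q := q) E * E' = 0 := by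
    rw [hE, st_aeval hU, sig_mul, sig_eq_C_mul_ustar h10, hs1, hE', mul_assoc, ← map_mul]
    have : sig (q := q) a * (C (P₁.coeff 0 ^ q) * P₁) * (b * P₂) =
        sig (q := q) a * C (P₁.coeff 0 ^ q) * b * (P₁ * P₂) := by ring
    rw [this, map_mul, hmu, mul_zero, mul_zero]
  have hstE' : st (q := q) E' * E = 0 := by
    rw [hE', st_aeval hU, sig_mul, sig_eq_C_mul_ustar h20, hs2, hE, mul_assoc, ← map_mul]
    have : sig (q := q) b * (C (P₂.coeff 0 ^ q) * P₂) * (a * P₁) =
        sig (q := q) b * C (P₂.coeff 0 ^ q) * a * (P₁ * P₂) := by ring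
    rw [this, map_mul, hmu, mul_zero, mul_zero]
  have hsa : st (q := q) E = E := by
    have e1 : st (q := q) E = st (q := q) E * E := by
      have := hstE
      rw [hE'eq, mul_sub, mul_one, sub_eq_zero] at this
      exact this
    have e2 : E = st (q := q) E * E := by
      have := hstE'
      rw [hE'eq, st_sub, st_one, sub_mul, one_mul, sub_eq_zero] at this
      exact this
    rw [e1, ← e2]
  refine ⟨E, hidem, hsa, ?_, ?_, ?_⟩
  · intro h0
    have h3 : P₁ * P₂ ∣ a * P₁ := by rw [← hmin]; exact minpoly.dvd K A h0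
    have h4 : P₂ ∣ a := by
      have : P₁ * P₂ ∣ P₁ * a := by rwa [mul_comm P₁ a]
      exact (mul_dvd_mul_iff_left hP1).mp this
    have h5 : P₂ ∣ 1 := by
      rw [← hab]
      exact dvd_add (Dvd.dvd.mul_right h4 P₁) (Dvd.intro_left b rfl)
    exact h2 (isUnit_of_dvd_one h5)
  · intro h0
    have h4 : E' = 0 := by rw [hE'eq, h0, sub_self]
    have h3 : P₁ * P₂ ∣ b * P₂ := by rw [← hmin]; exact minpoly.dvd K A h4
    have h5 : P₁ ∣ b := (mul_dvd_mul_iff_right hP2).mp h3
    have h6 : P₁ ∣ 1 := by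
      rw [← hab]
      exact dvd_add (Dvd.intro_left a rfl) (Dvd.dvd.mul_right h5 P₂)
    exact h1 (isUnit_of_dvd_one h6)
  · have hX : aeval A (X : K[X]) = A := aeval_X A
    show E * A = A * E
    calc E * A = aeval A (a * P₁) * aeval A (X : K[X]) := by rw [hX]
      _ = aeval A (X * (a * P₁)) := by rw [← map_mul, mul_comm]
      _ = A * E := by rw [map_mul, hX]

end Cfsg.Agent.Helper8.SpecU
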