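import Mathlib
import Cfsg.Agent.Helper8.SpecUB

set_option autoImplicit false

/-!
# The minimal polynomial of a unitary matrix: orbit analysis (helper8)

Either a self-adjoint idempotent commutes with the matrix, or the minimal polynomial is a power
of a self-dual irreducible polynomial, or a power of the product of an irreducible polynomial and
its (different) dual.
-/

namespace Cfsg.Agent.Helper8.SpecU

open Polynomial Matrix Cfsg Cfsg.Agent.Helper8.GUOrder Cfsg.Agent.Helper8.SUCenter
  Cfsg.Agent.Helper8.AutSU Cfsg.Agent.Helper8.PSUSing Cfsg.Agent.Helper8.PU3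
  Cfsg.Agent.Helper8.SUSemi

variable {K : Type*} [Field K] [Fintype K] {q : ℕ} [hF : Fact (Fintype.card K = q ^ 2)] {n : ℕ}

theorem ustar_one : ustar (q := q) (1 : K[X]) = 1 := by
  unfold ustar
  have : (1 : K[X]) = C 1 := by simp
  rw [this, sig_C, Polynomial.coeff_C_zero, one_pow, inv_one, ← C_mul, one_mul]

theorem ustar_pow (P : K[X]) (m : ℕ) : ustar (q := q) (P ^ m) = ustar (q := q) P ^ m := by
  induction m with
  | zero => rw [pow_zero, pow_zero, ustar_one]
  | succ m ih => rw [pow_succ, pow_succ, ustar_mul, ih]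

theorem ustar_dvd {P R : K[X]} (h : P ∣ R) : ustar (q := q) P ∣ ustar (q := q) R := by
  obtain ⟨w, rfl⟩ := h
  rw [ustar_mul]
  exact Dvd.intro _ rfl

omit [Fintype K] hF in
theorem eq_of_irreducible_dvd {f g : K[X]} (hf : Irreducible f) (hg : Irreducible g)
    (hfm : f.Monic) (hgm : g.Monic) (h : f ∣ g) : f = g :=
  Polynomial.eq_of_monic_of_associated hfm hgm (hf.associated_of_dvd hg h)

theorem minpoly_cases_U {A : Matrix (Fin n) (Fin n) K} (hU : st (q := q) A * A = 1) (hn : 0 < n) :
    (∃ E : Matrix (Fin n) (Fin n) K, E * E = E ∧ st (q := q) E = E ∧ E ≠ 0 ∧ E ≠ 1 ∧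
      Commute E A) ∨
    (∃ (f : K[X]) (m : ℕ), Irreducible f ∧ f.Monic ∧ f.coeff 0 ≠ 0 ∧ 1 ≤ m ∧
      ((ustar (q := q) f = f ∧ minpoly K A = f ^ m) ∨
       (ustar (q := q) f ≠ f ∧ minpoly K A = (f * ustar (q := q) f) ^ m))) := by
  classical
  haveI : Nonempty (Fin n) := ⟨⟨0, hn⟩⟩
  have hint : IsIntegral K A := Algebra.IsIntegral.isIntegral A
  have hmonic : (minpoly K A).Monic := minpoly.monic hint
  have hne1 : minpoly K A ≠ 1 := minpoly.ne_one K A
  have hnu : ¬ IsUnit (minpoly K A) := fun h => hne1 (hmonic.isUnit_iff.mp h)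
  have hne0 : minpoly K A ≠ 0 := minpoly.ne_zero hint
  have hμ0 := minpoly_coeff_zero_ne hU
  have hμs := ustar_minpoly hU
  obtain ⟨f, hfmonic, hfirr, hfdvd⟩ := Polynomial.exists_monic_irreducible_factor _ hnu
  have hfin : FiniteMultiplicity f (minpoly K A) :=
    FiniteMultiplicity.of_not_isUnit hfirr.not_isUnit hne0
  obtain ⟨Q, hQ, hQn⟩ := hfin.exists_eq_pow_mul_and_not_dvd
  set m := multiplicity f (minpoly K A) with hm
  have hm1 : 1 ≤ m := by
    by_contra h
    have hm0 : m = 0 := by omega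
    rw [hm0, pow_zero, one_mul] at hQ
    exact hQn (hQ ▸ hfdvd)
  have hQmonic : Q.Monic := by
    have h1 : (f ^ m * Q).Monic := hQ ▸ hmonic
    exact (hfmonic.pow m).of_mul_monic_left h1
  have hc0 : (f ^ m).coeff 0 * Q.coeff 0 ≠ 0 := by
    rw [← Polynomial.mul_coeff_zero, ← hQ]; exact hμ0
  have hf0 : f.coeff 0 ≠ 0 := by
    have := left_ne_zero_of_mul hc0
    intro h
    apply this
    rw [Polynomial.coeff_zero_eq_eval_zero, Polynomial.eval_pow, ← Polynomial.coeff_zero_eq_eval_zero,
      h, zero_pow (by omega)]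
  have hQ0 : Q.coeff 0 ≠ 0 := right_ne_zero_of_mul hc0
  have hfm0 : f ^ m ≠ 0 := pow_ne_zero _ hfirr.ne_zero
  have hfmnu : ¬ IsUnit (f ^ m) := fun h =>
    hfirr.not_isUnit (isUnit_of_dvd_unit (dvd_pow_self f (by omega)) h)
  by_cases hfs : ustar (q := q) f = f
  · -- self-dual
    have hQs : ustar (q := q) Q = Q := by
      have h1 := hμs
      rw [hQ, ustar_mul, ustar_pow, hfs] at h1
      exact mul_left_cancel₀ hfm0 h1
    by_cases hQu : IsUnit Q
    · right
      refine ⟨f, m, hfirr, hfmonic, hf0, hm1, Or.inl ⟨hfs, ?_⟩⟩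
      rw [hQmonic.isUnit_iff.mp hQu, mul_one] at hQ
      exact hQ
    · left
      apply exists_sa_idem_of_coprime hU (f ^ m) Q
      · exact IsCoprime.pow_left ((Irreducible.coprime_iff_not_dvd hfirr).mpr hQn)
      · exact hfmnu
      · exact hQu
      · exact hQ
      · rw [ustar_pow, hfs]
      · exact hQs
  · -- a pair
    set f' := ustar (q := q) f with hf'
    have hf'irr : Irreducible f' := irreducible_ustar hfirr hf0
    have hf'monic : f'.Monic := ustar_monic hf0
    have hf'' : ustar (q := q) f' = f := ustar_ustar hfmonic hf0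
    have hcopff : IsCoprime f' f := by
      rw [Irreducible.coprime_iff_not_dvd hf'irr]
      intro h
      exact hfs (eq_of_irreducible_dvd hf'irr hfirr hf'monic hfmonic h)
    have h1 : f' ^ m ∣ f ^ m * Q := by
      have : ustar (q := q) (minpoly K A) = f' ^ m * ustar (q := q) Q := by
        rw [hQ, ustar_mul, ustar_pow]
      rw [← hQ, ← hμs, this]
      exact Dvd.intro _ rfl
    have h2 : f' ^ m ∣ Q := (IsCoprime.pow hcopff).dvd_of_dvd_mul_left h1
    obtain ⟨R, hR⟩ := h2
    have hμR : minpoly K A = (f * f') ^ m * R := by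
      rw [hQ, hR, mul_pow, mul_assoc]
    have hW0 : (f * f') ^ m ≠ 0 := pow_ne_zero _ (mul_ne_zero hfirr.ne_zero hf'irr.ne_zero)
    have hWs : ustar (q := q) ((f * f') ^ m) = (f * f') ^ m := by
      rw [ustar_pow, ustar_mul, hf'', mul_comm]
    have hRs : ustar (q := q) R = R := by
      have h3 := hμs
      rw [hμR, ustar_mul, hWs] at h3
      exact mul_left_cancel₀ hW0 h3
    have hfR : ¬ f ∣ R := fun h => hQn (hR ▸ Dvd.dvd.mul_left h _)
    have hf'R : ¬ f' ∣ R := by
      intro h
      have := ustar_dvd (q := q) h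
      rw [hf'', hRs] at this
      exact hfR this
    have hRmonic : R.Monic := by
      have h1 : ((f * f') ^ m * R).Monic := hμR ▸ hmonic
      exact ((hfmonic.mul hf'monic).pow m).of_mul_monic_left h1
    by_cases hRu : IsUnit R
    · right
      refine ⟨f, m, hfirr, hfmonic, hf0, hm1, Or.inr ⟨hfs, ?_⟩⟩
      rw [hRmonic.isUnit_iff.mp hRu, mul_one] at hμR
      exact hμR
    · left
      apply exists_sa_idem_of_coprime hU ((f * f') ^ m) R
      · apply IsCoprime.pow_left
        exact IsCoprime.mul_left ((Irreducible.coprime_iff_not_dvd hfirr).mpr hfR)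
          ((Irreducible.coprime_iff_not_dvd hf'irr).mpr hf'R)
      · intro h
        exact hfirr.not_isUnit (isUnit_of_dvd_unit
          (dvd_trans (Dvd.intro _ rfl) (dvd_pow_self (f * f') (by omega))) h)
      · exact hRu
      · exact hμR
      · exact hWs
      · exact hRs

end Cfsg.Agent.Helper8.SpecU
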