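import Mathlib
import Cfsg.Agent.Helper8.SpecUC

set_option autoImplicit false

/-!
# The numbers `(q ^ D - (-1) ^ D) / (q + 1)` (helper8)
-/

namespace Cfsg.Agent.Helper8.SpecU

open Cfsg.Agent.Lead.SpecPSL

/-- `(q ^ D - (-1) ^ D) / (q + 1)` -/
def NU (q D : ℕ) : ℕ := if Even D then (q ^ D - 1) / (q + 1) else (q ^ D + 1) / (q + 1)

/-- the order of the image of a Singer cycle of `SU n q` in `PSU n q` -/
def singerNU (q n : ℕ) : ℕ := NU q n / Nat.gcd n (q + 1)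

theorem add_one_dvd_pow_add_one (q D : ℕ) (hD : Odd D) : q + 1 ∣ q ^ D + 1 := by
  have := Odd.nat_add_dvd_pow_add_pow q 1 hD
  rwa [one_pow] at this

theorem add_one_dvd_pow_sub_one (q D : ℕ) (hD : Even D) : q + 1 ∣ q ^ D - 1 := by
  obtain ⟨d, rfl⟩ := hD
  have h1 : q ^ (d + d) = (q ^ 2) ^ d := by rw [← pow_mul, two_mul]
  rw [h1]
  have h2 : q ^ 2 - 1 ∣ (q ^ 2) ^ d - 1 := by
    have := Nat.sub_dvd_pow_sub_pow (q ^ 2) 1 d
    rwa [one_pow] at this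
  refine dvd_trans ?_ h2
  rcases Nat.eq_zero_or_pos q with rfl | hq
  · simp
  obtain ⟨s, rfl⟩ : ∃ s, q = s + 1 := ⟨q - 1, by omega⟩
  refine ⟨s, ?_⟩
  have : (s + 1) ^ 2 = (s + 1 + 1) * s + 1 := by ring
  omega

theorem NU_mul_odd (q D : ℕ) (hD : Odd D) : NU q D * (q + 1) = q ^ D + 1 := by
  unfold NU
  rw [if_neg (Nat.not_even_iff_odd.mpr hD)]
  exact Nat.div_mul_cancel (add_one_dvd_pow_add_one q D hD)

theorem NU_mul_even (q D : ℕ) (hD : Even D) : NU q D * (q + 1) = q ^ D - 1 := by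
  unfold NU
  rw [if_pos hD]
  exact Nat.div_mul_cancel (add_one_dvd_pow_sub_one q D hD)

theorem NU_int (q n : ℕ) (hq : 1 ≤ q) :
    ((NU q n : ℕ) : ℤ) * ((q : ℤ) + 1) = (q : ℤ) ^ n - (-1) ^ n := by
  have h1 : 1 ≤ q ^ n := Nat.one_le_pow _ _ hq
  rcases Nat.even_or_odd n with h | h
  · have := NU_mul_even q n h
    rw [h.neg_one_pow]
    have h2 : ((NU q n * (q + 1) : ℕ) : ℤ) = ((q ^ n - 1 : ℕ) : ℤ) := by rw [this]
    rw [Nat.cast_sub h1] at h2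
    push_cast at h2
    exact h2
  · have := NU_mul_odd q n h
    rw [h.neg_one_pow]
    have h2 : ((NU q n * (q + 1) : ℕ) : ℤ) = ((q ^ n + 1 : ℕ) : ℤ) := by rw [this]
    push_cast at h2
    rw [h2]
    ring

theorem NU_pos (q n : ℕ) (hq : 2 ≤ q) (hn : 1 ≤ n) : 0 < NU q n := by
  rcases Nat.even_or_odd n with h | h
  · have h1 := NU_mul_even q n h
    have h2 : q ^ 2 ≤ q ^ n := by
      apply Nat.pow_le_pow_right (by omega)
      obtain ⟨d, rfl⟩ := h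
      omega
    have h3 : 4 ≤ q ^ 2 := by nlinarith
    rcases Nat.eq_zero_or_pos (NU q n) with h0 | h0
    · rw [h0, zero_mul] at h1; omega
    · exact h0
  · have h1 := NU_mul_odd q n h
    rcases Nat.eq_zero_or_pos (NU q n) with h0 | h0
    · rw [h0, zero_mul] at h1; omega
    · exact h0

/-- `NU q n ≡ ± n` modulo `q + 1`. -/
theorem NU_int_dvd (q n : ℕ) (hq : 1 ≤ q) :
    ((q : ℤ) + 1) ∣ ((NU q n : ℕ) : ℤ) - (-1) ^ (n + 1) * (n : ℤ) := by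
  set S : ℤ := ∑ k ∈ Finset.range n, (-(q : ℤ)) ^ k with hS
  have hgeom : S * (-(q : ℤ) - 1) = (-(q : ℤ)) ^ n - 1 := geom_sum_mul _ _
  have hq0 : ((q : ℤ) + 1) ≠ 0 := by positivity
  have hN : ((NU q n : ℕ) : ℤ) = (-1) ^ (n + 1) * S := by
    apply mul_right_cancel₀ hq0
    rw [NU_int q n hq]
    have h1 : (-1 : ℤ) ^ (n + 1) * S * ((q : ℤ) + 1) = (-1) ^ n * (S * (-(q : ℤ) - 1)) := by
      rw [pow_succ]; ring
    rw [h1, hgeom, neg_pow (q : ℤ) n]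
    have h2 : (-1 : ℤ) ^ n * (-1) ^ n = 1 := by rw [← mul_pow]; norm_num
    calc (q : ℤ) ^ n - (-1) ^ n = ((-1 : ℤ) ^ n * (-1) ^ n) * (q : ℤ) ^ n - (-1) ^ n := by
          rw [h2, one_mul]
      _ = (-1) ^ n * ((-1) ^ n * (q : ℤ) ^ n - 1) := by ring
  have hSn : ((q : ℤ) + 1) ∣ S - n := by
    have h1 : S - n = ∑ k ∈ Finset.range n, ((-(q : ℤ)) ^ k - 1) := by
      rw [Finset.sum_sub_distrib, Finset.sum_const, Finset.card_range]
      simp [hS]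
    rw [h1]
    apply Finset.dvd_sum
    intro k _
    have h2 : (-(q : ℤ)) - 1 ∣ (-(q : ℤ)) ^ k - 1 ^ k := sub_dvd_pow_sub_pow _ _ k
    rw [one_pow] at h2
    have h3 : ((q : ℤ) + 1) ∣ (-(q : ℤ)) - 1 := ⟨-1, by ring⟩
    exact dvd_trans h3 h2
  rw [hN, ← mul_sub]
  exact Dvd.dvd.mul_left hSn _

theorem NU_dvd_iff (q n d : ℕ) (hq : 1 ≤ q) (hd : d ∣ q + 1) : d ∣ NU q n ↔ d ∣ n := by
  have h1 : ((d : ℕ) : ℤ) ∣ ((NU q n : ℕ) : ℤ) - (-1) ^ (n + 1) * (n : ℤ) := by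
    refine dvd_trans ?_ (NU_int_dvd q n hq)
    have : ((d : ℕ) : ℤ) ∣ ((q + 1 : ℕ) : ℤ) := Int.natCast_dvd_natCast.mpr hd
    simpa using this
  have hε : (-1 : ℤ) ^ (n + 1) * (-1) ^ (n + 1) = 1 := by rw [← mul_pow]; norm_num
  constructor
  · intro h
    have h2 : ((d : ℕ) : ℤ) ∣ ((NU q n : ℕ) : ℤ) := Int.natCast_dvd_natCast.mpr h
    have h3 : ((d : ℕ) : ℤ) ∣ (-1) ^ (n + 1) * (n : ℤ) := by
      have := dvd_sub h2 h1
      rwa [sub_sub_cancel] at this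
    have h4 : ((d : ℕ) : ℤ) ∣ (-1) ^ (n + 1) * ((-1) ^ (n + 1) * (n : ℤ)) := Dvd.dvd.mul_left h3 _
    rw [← mul_assoc, hε, one_mul] at h4
    exact Int.natCast_dvd_natCast.mp h4
  · intro h
    have h2 : ((d : ℕ) : ℤ) ∣ (-1) ^ (n + 1) * (n : ℤ) :=
      Dvd.dvd.mul_left (Int.natCast_dvd_natCast.mpr h) _
    have h3 := dvd_add h1 h2
    rw [sub_add_cancel] at h3
    exact Int.natCast_dvd_natCast.mp h3

theorem gcd_NU (q n : ℕ) (hq : 1 ≤ q) : Nat.gcd (NU q n) (q + 1) = Nat.gcd n (q + 1) := by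
  apply Nat.dvd_antisymm
  · apply Nat.dvd_gcd
    · exact (NU_dvd_iff q n _ hq (Nat.gcd_dvd_right _ _)).mp (Nat.gcd_dvd_left _ _)
    · exact Nat.gcd_dvd_right _ _
  · apply Nat.dvd_gcd
    · exact (NU_dvd_iff q n _ hq (Nat.gcd_dvd_right _ _)).mpr (Nat.gcd_dvd_left _ _)
    · exact Nat.gcd_dvd_right _ _

theorem singerNU_mul (q n : ℕ) (hq : 1 ≤ q) : singerNU q n * Nat.gcd n (q + 1) = NU q n := by
  unfold singerNU
  apply Nat.div_mul_cancel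
  rw [← gcd_NU q n hq]
  exact Nat.gcd_dvd_left _ _

/-- `NU q (d + d) = ee (q ^ 2) d * (q - 1)` -/
theorem NU_double (q d : ℕ) (hq : 2 ≤ q) : NU q (d + d) = ee (q ^ 2) d * (q - 1) := by
  unfold NU ee
  rw [if_pos ⟨d, rfl⟩]
  have hG : (q ^ 2 - 1) * (((q ^ 2) ^ d - 1) / (q ^ 2 - 1)) = (q ^ 2) ^ d - 1 := by
    apply Nat.mul_div_cancel'
    have := Nat.sub_dvd_pow_sub_pow (q ^ 2) 1 d
    rwa [one_pow] at this
  have h1 : q ^ (d + d) = (q ^ 2) ^ d := by rw [← pow_mul, two_mul]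
  rw [h1]
  apply Nat.div_eq_of_eq_mul_right (by omega)
  have h2 : (q + 1) * (((q ^ 2) ^ d - 1) / (q ^ 2 - 1) * (q - 1)) =
      ((q + 1) * (q - 1)) * (((q ^ 2) ^ d - 1) / (q ^ 2 - 1)) := by ring
  have h3 : (q + 1) * (q - 1) = q ^ 2 - 1 := by
    obtain ⟨s, rfl⟩ : ∃ s, q = s + 1 := ⟨q - 1, by omega⟩
    rw [Nat.add_sub_cancel]
    have : (s + 1) ^ 2 = (s + 1 + 1) * s + 1 := by ring
    omega
  rw [h2, h3, hG]

/-- for odd `D`, `ee (q ^ 2) D = NU q D * ee q D`. -/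
theorem ee_sq_odd (q D : ℕ) (hq : 2 ≤ q) (hD : Odd D) : ee (q ^ 2) D = NU q D * ee q D := by
  have hq2 : 2 ≤ q ^ 2 := by nlinarith
  have h1 := ee_mul (q ^ 2) D hq2
  have h2 := ee_mul q D hq
  have h3 := NU_mul_odd q D hD
  have h4 : (q + 1) * (q - 1) = q ^ 2 - 1 := by
    obtain ⟨s, rfl⟩ : ∃ s, q = s + 1 := ⟨q - 1, by omega⟩
    rw [Nat.add_sub_cancel]
    have : (s + 1) ^ 2 = (s + 1 + 1) * s + 1 := by ring
    omega
  have h5 : (q ^ 2) ^ D - 1 = (q ^ D + 1) * (q ^ D - 1) := by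
    have hpos : 1 ≤ q ^ D := Nat.one_le_pow _ _ (by omega)
    obtain ⟨t, ht⟩ : ∃ t, q ^ D = t + 1 := ⟨q ^ D - 1, by omega⟩
    have : (q ^ 2) ^ D = (q ^ D) ^ 2 := by rw [← pow_mul, ← pow_mul, mul_comm]
    rw [this, ht, Nat.add_sub_cancel]
    have : (t + 1) ^ 2 = (t + 1 + 1) * t + 1 := by ring
    omega
  have h6 : (NU q D * ee q D) * (q ^ 2 - 1) = ee (q ^ 2) D * (q ^ 2 - 1) := by
    rw [h1, ← h4, h5, ← h3, ← h2]
    ring
  have hpos : 0 < q ^ 2 - 1 := by omega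
  exact (Nat.eq_of_mul_eq_mul_right hpos h6).symm

/-- for odd `D`, `ee q D ≡ 1` modulo `q + 1`. -/
theorem ee_odd_mod (q D : ℕ) (hq : 2 ≤ q) (hD : Odd D) : ∃ s : ℕ, ee q D = 1 + (q + 1) * s := by
  obtain ⟨t, rfl⟩ := hD
  rw [ee_eq_sum q _ hq]
  induction t with
  | zero => exact ⟨0, by simp⟩
  | succ t ih =>
    obtain ⟨s, hs⟩ := ih
    have : 2 * (t + 1) + 1 = (2 * t + 1) + 1 + 1 := by ring
    rw [this, Finset.sum_range_succ, Finset.sum_range_succ, hs]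
    exact ⟨s + q ^ (2 * t + 1), by ring⟩

end Cfsg.Agent.Helper8.SpecU
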