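import Mathlib
import Cfsg.Agent.Helper8.SpecUD

set_option autoImplicit false

/-!
# Irreducible polynomials over the field with `q ^ 2` elements and their duals (helper8)

A self-dual irreducible polynomial `f` of degree `D` has `D` odd and divides `X ^ NU q D - c`;
the product of `f` and a different dual divides `X ^ NU q (2 deg f) - c`.
-/

namespace Cfsg.Agent.Helper8.SpecU

open Polynomial Matrix Cfsg Cfsg.Agent.Helper8.GUOrder Cfsg.Agent.Helper8.SUCenter
  Cfsg.Agent.Helper8.AutSU Cfsg.Agent.Helper8.PSUSing Cfsg.Agent.Helper8.PU3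
  Cfsg.Agent.Helper8.SUSemi Cfsg.Agent.Helper8.PS3 Cfsg.Agent.Helper8.PGraph
  Cfsg.Agent.Lead.SpecPSL

variable {K : Type*} [Field K] [Fintype K] {q : ℕ} [hF : Fact (Fintype.card K = q ^ 2)] {n : ℕ}

theorem exists_q_eq_pow (p : ℕ) [Fact p.Prime] [CharP K p] : ∃ e : ℕ, q = p ^ e := by
  have hp : p.Prime := Fact.out
  obtain ⟨e, _, he⟩ := FiniteField.card K p
  have hqp : q ∣ p ^ (e : ℕ) := by
    rw [← he, hF.out]
    exact Dvd.intro_left _ (sq q).symm
  obtain ⟨f, _, hf⟩ := (Nat.dvd_prime_pow hp).mp hqp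
  exact ⟨f, hf⟩

omit [Fintype K] hF in
theorem root_ne_zero (f : K[X]) [Fact (Irreducible f)] (h0 : f.coeff 0 ≠ 0) :
    AdjoinRoot.root f ≠ 0 := by
  intro h
  have h1 := AdjoinRoot.eval₂_root f
  rw [h, Polynomial.eval₂_at_zero] at h1
  exact h0 ((map_eq_zero (AdjoinRoot.of f)).mp h1)

theorem pow_char_pow_eq_one {L : Type*} [Field L] (p : ℕ) [Fact p.Prime] [CharP L p] (e : ℕ)
    (x : L) (h : x ^ p ^ e = 1) : x = 1 := by
  have h1 : (x - 1) ^ p ^ e = 0 := by
    rw [sub_pow_char_pow, h, one_pow, sub_self]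
  exact sub_eq_zero.mp (pow_eq_zero_iff (pow_ne_zero e (Fact.out : p.Prime).ne_zero) |>.mp h1)

theorem root_pow_card (f : K[X]) (hmon : f.Monic) [Fact (Irreducible f)] (x : AdjoinRoot f) :
    x ^ ((q ^ 2) ^ f.natDegree) = x := by
  have : Module.Finite K (AdjoinRoot f) := hmon.finite_adjoinRoot
  have : Finite (AdjoinRoot f) := Module.finite_of_finite K
  have : Fintype (AdjoinRoot f) := Fintype.ofFinite _
  have hcard : Fintype.card (AdjoinRoot f) = (q ^ 2) ^ f.natDegree := by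
    rw [← Nat.card_eq_fintype_card, card_adjoinRoot f hmon, hF.out]
  rw [← hcard]
  exact FiniteField.pow_card x

/-- a self-dual irreducible polynomial has odd degree `D`, and its roots have order dividing
`q ^ D + 1`. -/
theorem selfdual_root (p : ℕ) [Fact p.Prime] [CharP K p] (f : K[X]) (hf : Irreducible f)
    (hmon : f.Monic) (h0 : f.coeff 0 ≠ 0) (hs : ustar (q := q) f = f) :
    Odd f.natDegree ∧ AdjoinRoot.root f ^ (q ^ f.natDegree + 1) = 1 := by
  have : Fact (Irreducible f) := ⟨hf⟩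
  set α := AdjoinRoot.root f with hα
  have hα0 : α ≠ 0 := root_ne_zero f h0
  have hdvd : f ∣ sig (q := q) f := by
    rw [sig_eq_C_mul_ustar h0, hs]
    exact Dvd.intro_left _ rfl
  obtain ⟨i, hi⟩ := pow_eq_one_of_dvd_sig p f hmon hα0 hdvd
  obtain ⟨e, he⟩ := exists_q_eq_pow (K := K) (q := q) p
  have : CharP (AdjoinRoot f) p :=
    charP_of_injective_algebraMap (algebraMap K (AdjoinRoot f)).injective p
  obtain ⟨j, hjodd, hj⟩ : ∃ j, Odd j ∧ α ^ (q ^ j + 1) = 1 := by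
    rcases Nat.eq_zero_or_pos i with rfl | hipos
    · refine ⟨1, odd_one, ?_⟩
      rw [pow_one, add_comm]
      simpa using hi
    · obtain ⟨i', rfl⟩ : ∃ i', i = i' + 1 := ⟨i - 1, by omega⟩
      refine ⟨2 * i' + 1, ⟨i', rfl⟩, ?_⟩
      have h1 : q ^ (2 * (i' + 1)) + q = (q ^ (2 * i' + 1) + 1) * q := by ring
      rw [← hα, h1, pow_mul] at hi
      apply pow_char_pow_eq_one p e
      rw [← he]
      exact hi
  have h2 : α ^ (q ^ j) = α⁻¹ := by
    apply eq_inv_of_mul_eq_one_left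
    rw [← pow_succ]
    exact hj
  have h3 : α ^ ((q ^ 2) ^ j) = α := by
    have : (q ^ 2) ^ j = q ^ j * q ^ j := by ring
    rw [this, pow_mul, h2, inv_pow, h2, inv_inv]
  have h4 : f ∣ X ^ (Nat.card K) ^ j - X := by
    rw [← AdjoinRoot.mk_eq_zero, map_sub, map_pow, AdjoinRoot.mk_X, Nat.card_eq_fintype_card,
      hF.out, h3, sub_self]
  have hDj : f.natDegree ∣ j := hf.natDegree_dvd_iff_dvd_X_pow_card_pow_sub_X.mpr h4
  have hDodd : Odd f.natDegree := Odd.of_dvd_nat hjodd hDj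
  refine ⟨hDodd, ?_⟩
  set D := f.natDegree with hD
  have h5 : ∀ x : AdjoinRoot f, x ^ ((q ^ 2) ^ D) = x := root_pow_card f hmon
  have h6 : ∀ k, α ^ (q ^ (D * (k + 2))) = α ^ (q ^ (D * k)) := by
    intro k
    have : q ^ (D * (k + 2)) = (q ^ 2) ^ D * q ^ (D * k) := by ring
    rw [this, pow_mul, h5]
  obtain ⟨s, rfl⟩ := hDj
  have hsodd : Odd s := (Nat.odd_mul.mp hjodd).2
  obtain ⟨t, rfl⟩ := hsodd
  have h7 : ∀ t, α ^ (q ^ (D * (2 * t + 1))) = α ^ (q ^ D) := by
    intro t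
    induction t with
    | zero => simp
    | succ t ih =>
      have : 2 * (t + 1) + 1 = (2 * t + 1) + 2 := by ring
      rw [this, h6, ih]
  rw [pow_succ, ← h7 t, ← pow_succ]
  exact hj

/-- from a power of the root being a `(q + 1)`-th root of unity to a divisibility. -/
theorem dvd_of_root_pow (f : K[X]) [Fact (Irreducible f)] (M e : ℕ) (he : e ∣ q + 1)
    (h : AdjoinRoot.root f ^ (M * e) = 1) :
    ∃ c : K, c * c ^ q = 1 ∧ f ∣ X ^ M - C c := by
  have h1 : (AdjoinRoot.root f ^ M) ^ (q + 1) = 1 := by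
    obtain ⟨k, hk⟩ := he
    rw [hk, ← pow_mul, ← mul_assoc, pow_mul, h, one_pow]
  obtain ⟨c, hc⟩ := PS3.mem_range_of_pow_eq_one (F := K) (q + 1) (by omega)
    (add_one_dvd_card (K := K) (q := q)) _ h1
  refine ⟨c, ?_, (dvd_X_pow_sub_C_iff f M c).mpr hc.symm⟩
  have h2 : algebraMap K (AdjoinRoot f) (c * c ^ q) = algebraMap K (AdjoinRoot f) 1 := by
    rw [map_one, ← pow_succ', map_pow, hc, h1]
  exact (algebraMap K (AdjoinRoot f)).injective h2

theorem ustar_dvd_X_pow_sub_C (f : K[X]) (h0 : f.coeff 0 ≠ 0) (M : ℕ) (c : K)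
    (hc : c * c ^ q = 1) (h : f ∣ X ^ M - C c) : ustar (q := q) f ∣ X ^ M - C c := by
  have hc0 : c ≠ 0 := left_ne_zero_of_mul (by rw [hc]; exact one_ne_zero)
  have hcq : (c ^ q)⁻¹ = c := by
    rw [inv_eq_iff_eq_inv]
    exact eq_inv_of_mul_eq_one_left (by rw [mul_comm]; exact hc)
  unfold ustar
  have hu : IsUnit (C ((f.coeff 0) ^ q)⁻¹ : K[X]) :=
    Polynomial.isUnit_C.mpr (isUnit_iff_ne_zero.mpr (inv_ne_zero (pow_ne_zero q h0)))
  rw [hu.mul_left_dvd, sig_dvd_iff h0 M c hc0, hcq]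
  exact h

/-- the order bound for a self-dual irreducible polynomial -/
theorem selfdual_dvd (p : ℕ) [Fact p.Prime] [CharP K p] (f : K[X]) (hf : Irreducible f)
    (hmon : f.Monic) (h0 : f.coeff 0 ≠ 0) (hs : ustar (q := q) f = f) :
    ∃ c : K, c * c ^ q = 1 ∧ f ∣ X ^ NU q f.natDegree - C c := by
  obtain ⟨hodd, hroot⟩ := selfdual_root p f hf hmon h0 hs
  have : Fact (Irreducible f) := ⟨hf⟩
  apply dvd_of_root_pow (q := q) f _ (q + 1) dvd_rfl
  rw [NU_mul_odd q _ hodd, hroot]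

theorem root_pow_pred (f : K[X]) (hmon : f.Monic) [Fact (Irreducible f)] (h0 : f.coeff 0 ≠ 0) :
    AdjoinRoot.root f ^ (q ^ (f.natDegree + f.natDegree) - 1) = 1 := by
  have h1 := root_pow_card (q := q) f hmon (AdjoinRoot.root f)
  have hα0 := root_ne_zero f h0
  have hq2 := two_le_q' (K := K) (q := q)
  have h2 : (q ^ 2) ^ f.natDegree = q ^ (f.natDegree + f.natDegree) := by
    rw [← pow_mul, two_mul]
  rw [h2] at h1
  have h3 : 1 ≤ q ^ (f.natDegree + f.natDegree) := Nat.one_le_pow _ _ (by omega)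
  have h4 : q ^ (f.natDegree + f.natDegree) = (q ^ (f.natDegree + f.natDegree) - 1) + 1 := by omega
  rw [h4, pow_succ] at h1
  exact mul_right_cancel₀ hα0 (by rw [h1, one_mul])

/-- the order bound for a pair of dual irreducible polynomials -/
theorem pair_dvd (f : K[X]) (hf : Irreducible f) (hmon : f.Monic) (h0 : f.coeff 0 ≠ 0)
    (hs : ustar (q := q) f ≠ f) :
    ∃ c : K, c * c ^ q = 1 ∧
      f * ustar (q := q) f ∣ X ^ NU q (f.natDegree + f.natDegree) - C c := by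
  have : Fact (Irreducible f) := ⟨hf⟩
  obtain ⟨c, hc, hdvd⟩ := dvd_of_root_pow f (NU q (f.natDegree + f.natDegree)) (q + 1) dvd_rfl
    (by rw [NU_mul_even q _ ⟨_, rfl⟩]; exact root_pow_pred f hmon h0)
  refine ⟨c, hc, ?_⟩
  have hcop : IsCoprime f (ustar (q := q) f) := by
    rw [Irreducible.coprime_iff_not_dvd hf]
    intro h
    exact hs (eq_of_irreducible_dvd hf (irreducible_ustar hf h0) hmon (ustar_monic h0) h).symm
  exact hcop.mul_dvd hdvd (ustar_dvd_X_pow_sub_C f h0 _ c hc hdvd)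

/-- Singer case, self-dual: the root has order dividing `NU q D`. -/
theorem selfdual_root_singer (p : ℕ) [Fact p.Prime] [CharP K p] (f : K[X]) (hf : Irreducible f)
    (hmon : f.Monic) (h0 : f.coeff 0 ≠ 0) (hs : ustar (q := q) f = f)
    (hdet : (-1) ^ f.natDegree * f.coeff 0 = 1) :
    AdjoinRoot.root f ^ NU q f.natDegree = 1 := by
  obtain ⟨hodd, hroot⟩ := selfdual_root p f hf hmon h0 hs
  have hq2 := two_le_q' (K := K) (q := q)
  have h1 := root_pow_norm f hmon hf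
  rw [hdet, map_one, hF.out] at h1
  have h2 : ((q ^ 2) ^ f.natDegree - 1) / (q ^ 2 - 1) = ee (q ^ 2) f.natDegree := rfl
  rw [h2, ee_sq_odd q _ hq2 hodd] at h1
  obtain ⟨s, hs'⟩ := ee_odd_mod q f.natDegree hq2 hodd
  rw [hs', mul_add, mul_one, pow_add, ← mul_assoc, pow_mul, NU_mul_odd q _ hodd, hroot, one_pow,
    mul_one] at h1
  exact h1

/-- Singer case, a pair: the root has order dividing `NU q (2 d)`. -/
theorem pair_root_singer (f : K[X]) (hf : Irreducible f)
    (hmon : f.Monic) (h0 : f.coeff 0 ≠ 0)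
    (hdet : f.coeff 0 * (ustar (q := q) f).coeff 0 = 1) :
    AdjoinRoot.root f ^ NU q (f.natDegree + f.natDegree) = 1 := by
  have hq2 := two_le_q' (K := K) (q := q)
  have h1 := root_pow_norm f hmon hf
  rw [hF.out] at h1
  have h2 : ((q ^ 2) ^ f.natDegree - 1) / (q ^ 2 - 1) = ee (q ^ 2) f.natDegree := rfl
  rw [h2] at h1
  rw [NU_double q _ hq2, pow_mul, h1, ← map_pow]
  set ν : K := (-1) ^ f.natDegree * f.coeff 0 with hν
  have hν0 : ν ≠ 0 := mul_ne_zero (pow_ne_zero _ (neg_ne_zero.mpr one_ne_zero)) h0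
  have hfq : f.coeff 0 ^ q = f.coeff 0 := by
    rw [coeff_zero_ustar hmon] at hdet
    have h3 : f.coeff 0 ^ q ≠ 0 := pow_ne_zero q h0
    field_simp at hdet
    exact hdet.symm
  have hνq : ν ^ q = ν := by
    rw [hν, mul_pow, SUSemi.neg_one_pow_q, hfq]
  have hν1 : ν ^ (q - 1) = 1 := by
    have h3 : ν ^ (q - 1) * ν = ν := by
      rw [← pow_succ]
      have : q - 1 + 1 = q := by omega
      rw [this, hνq]
    exact mul_right_cancel₀ hν0 (by rw [h3, one_mul])
  rw [hν1, map_one]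

end Cfsg.Agent.Helper8.SpecU
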