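import Mathlib
import Cfsg.Agent.Helper8.SpecUE

set_option autoImplicit false

/-!
# Projective orders of elements of `SU n q` without commuting self-adjoint idempotents (helper8)
-/

namespace Cfsg.Agent.Helper8.SpecU

open Polynomial Matrix Cfsg Cfsg.Agent.Helper8.GUOrder Cfsg.Agent.Helper8.SUCenter
  Cfsg.Agent.Helper8.AutSU Cfsg.Agent.Helper8.PSUSing Cfsg.Agent.Helper8.PU3
  Cfsg.Agent.Helper8.SUSemi Cfsg.Agent.Helper8.PS3 Cfsg.Agent.Helper8.PGraph
  Cfsg.Agent.Lead.SpecPSL

variable {K : Type*} [Field K] [Fintype K] {q : ℕ} [hF : Fact (Fintype.card K = q ^ 2)] {n : ℕ}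

omit [Fintype K] hF in
theorem pow_eq_smul_of_dvd (p : ℕ) [Fact p.Prime] [CharP K p] (A : Matrix (Fin n) (Fin n) K)
    (W : K[X]) (m t : ℕ) (hmt : m ≤ p ^ t) (hmin : minpoly K A = W ^ m) (N : ℕ) (c : K)
    (h : W ∣ X ^ N - C c) :
    A ^ (N * p ^ t) = (c ^ (p ^ t)) • (1 : Matrix (Fin n) (Fin n) K) := by
  have h2 : W ^ m ∣ (X ^ N - C c) ^ (p ^ t) :=
    dvd_trans (pow_dvd_pow W hmt) (pow_dvd_pow_of_dvd h _)
  have h3 : ((X : K[X]) ^ N - C c) ^ (p ^ t) = X ^ (N * p ^ t) - C (c ^ (p ^ t)) := by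
    rw [sub_pow_char_pow, ← pow_mul, ← map_pow]
  rw [h3, ← hmin] at h2
  obtain ⟨b, hb⟩ := h2
  have h4 := congrArg (aeval A) hb
  rw [map_mul, minpoly.aeval, zero_mul, map_sub, map_pow, aeval_X, aeval_C, sub_eq_zero,
    Algebra.algebraMap_eq_smul_one] at h4
  exact h4

omit [Fintype K] hF in
theorem charpoly_eq_of_minpoly (A : Matrix (Fin n) (Fin n) K) (W : K[X]) (hW : W.Monic)
    (hmin : minpoly K A = W) (hdeg : W.natDegree = n) : A.charpoly = W := by
  have h1 : minpoly K A ∣ A.charpoly := Matrix.minpoly_dvd_charpoly A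
  rw [hmin] at h1
  apply Polynomial.eq_of_monic_of_dvd_of_natDegree_le hW (Matrix.charpoly_monic A) h1
  rw [Matrix.charpoly_natDegree_eq_dim, Fintype.card_fin, hdeg]

/-- **the projective order of an element of `SU n q`**: a commuting self-adjoint idempotent, or
a bound `NU q D * p ^ t` with `m D ≤ n`, `t = clog p m`; for `D = n` the Singer bound. -/
theorem order_cases (p : ℕ) [Fact p.Prime] [CharP K p] (hn : 1 ≤ n) (g : SU n K q) :
    (∃ E : Matrix (Fin n) (Fin n) K, E * E = E ∧ st (q := q) E = E ∧ E ≠ 0 ∧ E ≠ 1 ∧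
      Commute E (g.1 : Matrix (Fin n) (Fin n) K)) ∨
    (∃ D m : ℕ, 1 ≤ D ∧ 1 ≤ m ∧ m * D ≤ n ∧
      orderOf (QuotientGroup.mk g : PSU n K q) ∣ NU q D * p ^ (Nat.clog p m) ∧
      (D = n → orderOf (QuotientGroup.mk g : PSU n K q) ∣ singerNU q n)) := by
  have hp : p.Prime := Fact.out
  have hq2 := two_le_q' (K := K) (q := q)
  set A : Matrix (Fin n) (Fin n) K := (g.1 : Matrix (Fin n) (Fin n) K) with hA
  have hU : st (q := q) A * A = 1 := (unitary_iff_st A).mp ((mem_SU_iff hF.out g.1).mp g.2)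
  have hdet : A.det = 1 := g.1.2
  rcases minpoly_cases_U hU hn with h | ⟨f, m, hf, hmon, h0, hm, h⟩
  · left; exact h
  right
  have hdegle : (minpoly K A).natDegree ≤ n := natDegree_minpoly_le A
  have hfact : Fact (Irreducible f) := ⟨hf⟩
  have hdetc : A.det = (-1) ^ n * A.charpoly.coeff 0 := by
    have h1 := Matrix.det_eq_sign_charpoly_coeff A
    rwa [Fintype.card_fin] at h1
  have hmle : m ≤ p ^ Nat.clog p m := Nat.le_pow_clog hp.one_lt m
  rcases h with ⟨hs, hmin⟩ | ⟨hs, hmin⟩
  · -- self-dual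
    have hmD : m * f.natDegree ≤ n := by
      rw [hmin, Polynomial.Monic.natDegree_pow hmon] at hdegle
      exact hdegle
    refine ⟨f.natDegree, m, hf.natDegree_pos, hm, hmD, ?_, ?_⟩
    · obtain ⟨c, -, hc⟩ := selfdual_dvd p f hf hmon h0 hs
      rw [orderOf_psu_dvd_iff hn]
      exact ⟨_, pow_eq_smul_of_dvd p A f m _ hmle hmin _ c hc⟩
    · intro hD
      have hm1 : m = 1 := by
        rw [hD] at hmD
        have : m * n ≤ 1 * n := by omega
        have := Nat.le_of_mul_le_mul_right this (by omega)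
        omega
      rw [hm1, pow_one] at hmin
      have hchar : A.charpoly = f := charpoly_eq_of_minpoly A f hmon hmin hD
      have hν : (-1) ^ f.natDegree * f.coeff 0 = 1 := by
        rw [hchar, hdet] at hdetc
        rw [hD]
        exact hdetc.symm
      have hroot := selfdual_root_singer p f hf hmon h0 hs hν
      obtain ⟨c, -, hc⟩ := dvd_of_root_pow (q := q) f (singerNU q n) (Nat.gcd n (q + 1))
        (Nat.gcd_dvd_right _ _) (by rw [singerNU_mul q n (by omega), ← hD]; exact hroot)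
      rw [orderOf_psu_dvd_iff hn]
      refine ⟨c, ?_⟩
      have := pow_eq_smul_of_dvd p A f 1 0 (by simp) (by rw [pow_one]; exact hmin) _ c hc
      simpa using this
  · -- a pair
    set f' := ustar (q := q) f with hf'
    have hf'mon : f'.Monic := ustar_monic h0
    have hWmon : (f * f').Monic := hmon.mul hf'mon
    have hWdeg : (f * f').natDegree = f.natDegree + f.natDegree := by
      rw [Polynomial.Monic.natDegree_mul hmon hf'mon, hf', natDegree_ustar h0]
    have hmD : m * (f.natDegree + f.natDegree) ≤ n := by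
      rw [hmin, Polynomial.Monic.natDegree_pow hWmon, hWdeg] at hdegle
      exact hdegle
    have hd1 : 1 ≤ f.natDegree := hf.natDegree_pos
    refine ⟨f.natDegree + f.natDegree, m, by omega, hm, hmD, ?_, ?_⟩
    · obtain ⟨c, -, hc⟩ := pair_dvd f hf hmon h0 hs
      rw [orderOf_psu_dvd_iff hn]
      exact ⟨_, pow_eq_smul_of_dvd p A (f * f') m _ hmle hmin _ c hc⟩
    · intro hD
      have hm1 : m = 1 := by
        rw [hD] at hmD
        have : m * n ≤ 1 * n := by omega
        have := Nat.le_of_mul_le_mul_right this (by omega)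
        omega
      rw [hm1, pow_one] at hmin
      have hchar : A.charpoly = f * f' :=
        charpoly_eq_of_minpoly A (f * f') hWmon hmin (by rw [hWdeg, hD])
      have hν : f.coeff 0 * f'.coeff 0 = 1 := by
        rw [hchar, hdet, Polynomial.mul_coeff_zero, ← hD, Even.neg_one_pow ⟨_, rfl⟩, one_mul]
          at hdetc
        exact hdetc.symm
      have hroot := pair_root_singer f hf hmon h0 hν
      obtain ⟨c, hcc, hc⟩ := dvd_of_root_pow (q := q) f (singerNU q n) (Nat.gcd n (q + 1))
        (Nat.gcd_dvd_right _ _) (by rw [singerNU_mul q n (by omega), ← hD]; exact hroot)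
      have hcop : IsCoprime f f' := by
        rw [Irreducible.coprime_iff_not_dvd hf]
        intro h
        exact hs (eq_of_irreducible_dvd hf (irreducible_ustar hf h0) hmon hf'mon h).symm
      have hW : f * f' ∣ X ^ singerNU q n - C c :=
        hcop.mul_dvd hc (ustar_dvd_X_pow_sub_C f h0 _ c hcc hc)
      rw [orderOf_psu_dvd_iff hn]
      refine ⟨c, ?_⟩
      have := pow_eq_smul_of_dvd p A (f * f') 1 0 (by simp) (by rw [pow_one]; exact hmin) _ c hW
      simpa using this

end Cfsg.Agent.Helper8.SpecU
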