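import Mathlib
import Cfsg.Agent.Helper8.SpecUF

set_option autoImplicit false

/-!
# Irreducible polynomials with roots of large order (helper8)
-/

namespace Cfsg.Agent.Helper8.SpecU

open Polynomial Matrix Cfsg Cfsg.Agent.Helper8.GUOrder Cfsg.Agent.Helper8.SUCenter
  Cfsg.Agent.Helper8.AutSU Cfsg.Agent.Helper8.PSUSing Cfsg.Agent.Helper8.PU3
  Cfsg.Agent.Helper8.SUSemi Cfsg.Agent.Helper8.PS3 Cfsg.Agent.Helper8.PGraph
  Cfsg.Agent.Lead.SpecPSL

variable {K : Type*} [Field K] [Fintype K] {q : ℕ} [hF : Fact (Fintype.card K = q ^ 2)] {n : ℕ}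

/-- `(α ^ q)⁻¹` is a root of the conjugate reciprocal polynomial. -/
theorem aeval_sig_inv {L : Type*} [Field L] [Algebra K L] (p : ℕ) [Fact p.Prime] [CharP K p]
    (P : K[X]) (α : L) (hα : α ≠ 0) (h : aeval α P = 0) :
    aeval (α ^ q)⁻¹ (sig (q := q) P) = 0 := by
  obtain ⟨e, he⟩ := exists_q_eq_pow (K := K) (q := q) p
  have : CharP L p := charP_of_injective_algebraMap (algebraMap K L).injective p
  have hinv : Invertible (α ^ q) := invertibleOfNonzero (pow_ne_zero q hα)
  have h2 : eval₂ (algebraMap K L) (α ^ q) (P.map (frobq K q)) = 0 := by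
    have h3 := congrArg (iterateFrobenius L p e) h
    rw [map_zero, Polynomial.aeval_def, Polynomial.hom_eval₂] at h3
    rw [Polynomial.eval₂_map]
    have h4 : (iterateFrobenius L p e).comp (algebraMap K L) =
        (algebraMap K L).comp (frobq K q) := by
      ext c
      simp only [RingHom.comp_apply, iterateFrobenius_def, frobq_apply, ← he, map_pow]
    rw [h4, iterateFrobenius_def, ← he] at h3
    exact h3
  have h5 := (Polynomial.eval₂_reverse_eq_zero_iff (algebraMap K L) (α ^ q)
    (P.map (frobq K q))).mpr h2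
  rw [invOf_eq_inv] at h5
  unfold sig
  rw [Polynomial.aeval_def]
  exact h5

omit hF in
theorem aeval_pow_card_pow {L : Type*} [Field L] [Algebra K L] (P : K[X]) (α : L)
    (h : aeval α P = 0) (k : ℕ) : aeval (α ^ ((Fintype.card K) ^ k)) P = 0 := by
  induction k with
  | zero => simpa using h
  | succ k ih =>
    have h1 := Polynomial.aeval_algHom_apply (FiniteField.frobeniusAlgHom K L)
      (α ^ ((Fintype.card K) ^ k)) P
    rw [ih, map_zero] at h1
    have h2 : (FiniteField.frobeniusAlgHom K L) (α ^ ((Fintype.card K) ^ k)) =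
        (α ^ ((Fintype.card K) ^ k)) ^ (Fintype.card K) := rfl
    rw [h2, ← pow_mul, ← pow_succ] at h1
    exact h1

/-- the minimal polynomial of an element of order dividing `q ^ D + 1`, `D` odd, is self-dual. -/
theorem ustar_minpoly_of_pow {L : Type*} [Field L] [Algebra K L] [FiniteDimensional K L]
    (p : ℕ) [Fact p.Prime] [CharP K p] (D : ℕ) (hD : Odd D) (α : L)
    (hα : α ^ (q ^ D + 1) = 1) :
    ustar (q := q) (minpoly K α) = minpoly K α := by
  have hα0 : α ≠ 0 := by
    rintro rfl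
    rw [zero_pow (by omega)] at hα
    exact zero_ne_one hα
  have hint : IsIntegral K α := Algebra.IsIntegral.isIntegral α
  set P := minpoly K α with hP
  have hPm : P.Monic := minpoly.monic hint
  have hPi : Irreducible P := minpoly.irreducible hint
  have hP0 : P.coeff 0 ≠ 0 := minpoly.coeff_zero_ne_zero hint hα0
  set β : L := (α ^ q)⁻¹ with hβ
  have h1 : aeval β (ustar (q := q) P) = 0 := by
    unfold ustar
    rw [map_mul, aeval_sig_inv p P α hα0 (minpoly.aeval K α), mul_zero]
  obtain ⟨k, hk⟩ : ∃ k, D + 1 = 2 * k := by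
    obtain ⟨t, ht⟩ := hD
    exact ⟨t + 1, by omega⟩
  have h2 : β = α ^ ((Fintype.card K) ^ k) := by
    rw [hF.out, ← pow_mul, ← hk, pow_succ, pow_mul, hβ]
    have h3 : α ^ q ^ D = α⁻¹ := by
      apply eq_inv_of_mul_eq_one_left
      rw [← pow_succ]
      exact hα
    rw [h3, inv_pow]
  have h3 : aeval β P = 0 := by
    rw [h2]
    exact aeval_pow_card_pow P α (minpoly.aeval K α) k
  have e1 : P = minpoly K β := minpoly.eq_of_irreducible_of_monic hPi h3 hPm
  have e2 : ustar (q := q) P = minpoly K β :=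
    minpoly.eq_of_irreducible_of_monic (irreducible_ustar hPi hP0) h1 (ustar_monic hP0)
  rw [e2, ← e1]

theorem sq_pow_sub_one (D : ℕ) (hq : 1 ≤ q) :
    (q ^ 2) ^ D - 1 = (q ^ D - 1) * (q ^ D + 1) := by
  have hpos : 1 ≤ q ^ D := Nat.one_le_pow _ _ hq
  obtain ⟨t, ht⟩ : ∃ t, q ^ D = t + 1 := ⟨q ^ D - 1, by omega⟩
  have : (q ^ 2) ^ D = (q ^ D) ^ 2 := by rw [← pow_mul, ← pow_mul, mul_comm]
  rw [this, ht, Nat.add_sub_cancel]
  have : (t + 1) ^ 2 = t * (t + 1 + 1) + 1 := by ring
  omega

/-- irreducible polynomials whose roots have order `q ^ D - (-1) ^ D` -/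
theorem exists_theta (p : ℕ) [Fact p.Prime] [CharP K p] (D : ℕ) (hD : 1 ≤ D) :
    ∃ P : K[X], Irreducible P ∧ P.Monic ∧ P.coeff 0 ≠ 0 ∧
      ((Odd D ∧ ustar (q := q) P = P ∧ P.natDegree ≤ D) ∨
        (Even D ∧ P.natDegree + P.natDegree ≤ D)) ∧
      ∀ j : ℕ, P ∣ X ^ j - C 1 → NU q D * (q + 1) ∣ j := by
  have hq2 := two_le_q' (K := K) (q := q)
  rcases Nat.even_or_odd D with hev | hodd
  · obtain ⟨d, rfl⟩ := hev
    have hd : 1 ≤ d := by omega
    have : NeZero d := ⟨by omega⟩
    let L := FiniteField.Extension K p d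
    have : Fintype L := Fintype.ofFinite L
    obtain ⟨ζ, hζ⟩ := IsCyclic.exists_ofOrder_eq_natCard (α := Lˣ)
    have hcard : Nat.card Lˣ = q ^ (d + d) - 1 := by
      rw [Nat.card_units, FiniteField.natCard_extension, Nat.card_eq_fintype_card, hF.out,
        ← pow_mul, two_mul]
    have hint : IsIntegral K (ζ : L) := Algebra.IsIntegral.isIntegral _
    refine ⟨minpoly K (ζ : L), minpoly.irreducible hint, minpoly.monic hint,
      minpoly.coeff_zero_ne_zero hint (Units.ne_zero ζ), Or.inr ⟨⟨d, rfl⟩, ?_⟩, ?_⟩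
    · have h1 := minpoly.natDegree_le (A := K) (ζ : L)
      rw [FiniteField.finrank_extension] at h1
      omega
    · intro j hj
      rw [NU_mul_even q _ ⟨d, rfl⟩, ← hcard, ← hζ, ← orderOf_units]
      apply orderOf_dvd_of_pow_eq_one
      have h2 := minpoly.aeval K (ζ : L)
      obtain ⟨w, hw⟩ := hj
      have h3 := congrArg (aeval (ζ : L)) hw
      rw [map_mul, h2, zero_mul, map_sub, map_pow, aeval_X, aeval_C, map_one, sub_eq_zero] at h3
      exact h3
  · have : NeZero D := ⟨by omega⟩
    let L := FiniteField.Extension K p D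
    have : Fintype L := Fintype.ofFinite L
    obtain ⟨ζ, hζ⟩ := IsCyclic.exists_ofOrder_eq_natCard (α := Lˣ)
    have hcard : Nat.card Lˣ = (q ^ D - 1) * (q ^ D + 1) := by
      rw [Nat.card_units, FiniteField.natCard_extension, Nat.card_eq_fintype_card, hF.out,
        sq_pow_sub_one D (by omega)]
    set α : L := (ζ : L) ^ (q ^ D - 1) with hα
    have hαpow : α ^ (q ^ D + 1) = 1 := by
      rw [hα, ← pow_mul, ← hcard, ← hζ, ← Units.val_pow_eq_pow_val, pow_orderOf_eq_one,
        Units.val_one]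
    have hint : IsIntegral K α := Algebra.IsIntegral.isIntegral _
    have hα0 : α ≠ 0 := pow_ne_zero _ (Units.ne_zero ζ)
    refine ⟨minpoly K α, minpoly.irreducible hint, minpoly.monic hint,
      minpoly.coeff_zero_ne_zero hint hα0,
      Or.inl ⟨hodd, ustar_minpoly_of_pow p D hodd α hαpow, ?_⟩, ?_⟩
    · have h1 := minpoly.natDegree_le (A := K) α
      rw [FiniteField.finrank_extension] at h1
      exact h1
    · intro j hj
      rw [NU_mul_odd q _ hodd]
      have h2 := minpoly.aeval K α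
      obtain ⟨w, hw⟩ := hj
      have h3 := congrArg (aeval α) hw
      rw [map_mul, h2, zero_mul, map_sub, map_pow, aeval_X, aeval_C, map_one, sub_eq_zero,
        hα, ← pow_mul] at h3
      have h4 : orderOf ζ ∣ (q ^ D - 1) * j := by
        apply orderOf_dvd_of_pow_eq_one
        apply Units.ext
        rw [Units.val_pow_eq_pow_val, h3, Units.val_one]
      rw [hζ, hcard] at h4
      have hpos : 0 < q ^ D - 1 := by
        have : q ^ 1 ≤ q ^ D := Nat.pow_le_pow_right (by omega) hD
        rw [pow_one] at this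
        omega
      exact Nat.dvd_of_mul_dvd_mul_left hpos h4

end Cfsg.Agent.Helper8.SpecU
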