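import Mathlib
import Cfsg.Agent.Helper8.SpecUG

set_option autoImplicit false

/-!
# Unitary matrices of large order and unitary unipotent matrices (helper8)
-/

namespace Cfsg.Agent.Helper8.SpecU

open Polynomial Matrix Cfsg Cfsg.Agent.Helper8.GUOrder Cfsg.Agent.Helper8.SUCenter
  Cfsg.Agent.Helper8.AutSU Cfsg.Agent.Helper8.PSUSing Cfsg.Agent.Helper8.PU3
  Cfsg.Agent.Helper8.SUSemi Cfsg.Agent.Helper8.PS3 Cfsg.Agent.Helper8.PGraph
  Cfsg.Agent.Helper8.RegSU Cfsg.Agent.Helper8.RegU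
  Cfsg.Agent.Lead.SpecPSL

variable {K : Type*} [Field K] [Fintype K] {q : ℕ} [hF : Fact (Fintype.card K = q ^ 2)] {n : ℕ}

omit [Fintype K] hF in
theorem bd_injective {k₁ k₂ : ℕ} (e : Fin k₁ ⊕ Fin k₂ ≃ Fin n) (a a' : Matrix (Fin k₁) (Fin k₁) K)
    (b b' : Matrix (Fin k₂) (Fin k₂) K) (h : bd e a b = bd e a' b') : a = a' ∧ b = b' := by
  unfold bd at h
  have h1 := (Matrix.reindex e e).injective h
  rw [Matrix.fromBlocks_inj] at h1
  exact ⟨h1.1, h1.2.2.2⟩

omit [Fintype K] hF in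
theorem bd_zero {k₁ k₂ : ℕ} (e : Fin k₁ ⊕ Fin k₂ ≃ Fin n) :
    bd e (0 : Matrix (Fin k₁) (Fin k₁) K) (0 : Matrix (Fin k₂) (Fin k₂) K) = 0 := by
  unfold bd
  rw [Matrix.fromBlocks_zero]
  simp

omit [Fintype K] hF in
theorem bd_smul_one {k₁ k₂ : ℕ} (e : Fin k₁ ⊕ Fin k₂ ≃ Fin n) (c : K) :
    bd e (c • (1 : Matrix (Fin k₁) (Fin k₁) K)) (c • (1 : Matrix (Fin k₂) (Fin k₂) K)) = c • 1 := by
  rw [← bd_one e]
  unfold bd
  ext i j
  simp only [Matrix.reindex_apply, Matrix.submatrix_apply, Matrix.smul_apply]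
  rcases e.symm i with i' | i' <;> rcases e.symm j with j' | j' <;> simp

/-- the equivalence for two blocks -/
def sumEquiv {k₁ k₂ : ℕ} (h : k₁ + k₂ = n) : Fin k₁ ⊕ Fin k₂ ≃ Fin n :=
  finSumFinEquiv.trans (finCongr h)

/-- a matrix of finite order with characteristic polynomial `P` or `P * ustar P`. -/
theorem dvd_of_charpoly {e : ℕ} (he : 1 ≤ e) (U : Matrix (Fin e) (Fin e) K) (P : K[X])
    (hP : Irreducible P) (hPm : P.Monic) (hP0 : P.coeff 0 ≠ 0)
    (hchar : U.charpoly = P ∨ U.charpoly = P * ustar (q := q) P) (j : ℕ) (hj : U ^ j = 1) :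
    P ∣ X ^ j - C 1 := by
  have : Nonempty (Fin e) := ⟨⟨0, he⟩⟩
  have hint : IsIntegral K U := Algebra.IsIntegral.isIntegral U
  have hμ1 : minpoly K U ∣ X ^ j - C 1 := by
    apply minpoly.dvd
    rw [map_sub, map_pow, aeval_X, aeval_C, map_one, hj, sub_self]
  have hμ2 : minpoly K U ∣ U.charpoly := Matrix.minpoly_dvd_charpoly U
  have hnu : ¬ IsUnit (minpoly K U) := fun h =>
    minpoly.ne_one K U ((minpoly.monic hint).isUnit_iff.mp h)
  obtain ⟨g, hgm, hgi, hgd⟩ := Polynomial.exists_monic_irreducible_factor _ hnu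
  have hP' : Irreducible (ustar (q := q) P) := irreducible_ustar hP hP0
  have hP'm : (ustar (q := q) P).Monic := ustar_monic hP0
  have hgP : g = P ∨ g = ustar (q := q) P := by
    rcases hchar with h | h
    · left
      exact eq_of_irreducible_dvd hgi hP hgm hPm (h ▸ dvd_trans hgd hμ2)
    · have h1 : g ∣ P * ustar (q := q) P := h ▸ dvd_trans hgd hμ2
      rcases hgi.prime.dvd_or_dvd h1 with h2 | h2
      · left; exact eq_of_irreducible_dvd hgi hP hgm hPm h2
      · right; exact eq_of_irreducible_dvd hgi hP' hgm hP'm h2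
  rcases hgP with rfl | rfl
  · exact dvd_trans hgd hμ1
  · have h1 : ustar (q := q) P ∣ X ^ j - C 1 := dvd_trans hgd hμ1
    have h2 := ustar_dvd_X_pow_sub_C (q := q) (ustar (q := q) P) (coeff_zero_ustar_ne hPm hP0) j 1
      (by simp) h1
    rwa [ustar_ustar hPm hP0] at h2

/-- **unitary matrices of large order** -/
theorem exists_unitary_order (p : ℕ) [Fact p.Prime] [CharP K p] (D : ℕ) (hD : 1 ≤ D) :
    ∃ U : Matrix (Fin D) (Fin D) K, st (q := q) U * U = 1 ∧
      ∀ j : ℕ, U ^ j = 1 → NU q D * (q + 1) ∣ j := by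
  obtain ⟨P, hP, hPm, hP0, hcase, hord⟩ := exists_theta (K := K) (q := q) p D hD
  have hP'm : (ustar (q := q) P).Monic := ustar_monic hP0
  have hd1 : 1 ≤ P.natDegree := hP.natDegree_pos
  -- the invariant polynomial
  obtain ⟨W, hWm, hW0, hWs, hWdeg, hWP⟩ : ∃ W : K[X], W.Monic ∧ W.coeff 0 ≠ 0 ∧
      ustar (q := q) W = W ∧ W.natDegree ≤ D ∧ (W = P ∨ W = P * ustar (q := q) P) := by
    rcases hcase with ⟨-, hs, hdeg⟩ | ⟨-, hdeg⟩
    · exact ⟨P, hPm, hP0, hs, hdeg, Or.inl rfl⟩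
    · refine ⟨P * ustar (q := q) P, hPm.mul hP'm, ?_, ?_, ?_, Or.inr rfl⟩
      · rw [Polynomial.mul_coeff_zero]
        exact mul_ne_zero hP0 (coeff_zero_ustar_ne hPm hP0)
      · rw [ustar_mul, ustar_ustar hPm hP0, mul_comm]
      · rw [Polynomial.Monic.natDegree_mul hPm hP'm, natDegree_ustar hP0]
        exact hdeg
  have he1 : 1 ≤ W.natDegree := by
    rcases hWP with rfl | rfl
    · exact hd1
    · rw [Polynomial.Monic.natDegree_mul hPm hP'm]; omega
  obtain ⟨U₀, hU₀, hchar, -⟩ := exists_unitary_realization (q := q) p W.natDegree W hWm rfl hW0 hWs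
  have hsum : W.natDegree + (D - W.natDegree) = D := by omega
  refine ⟨bd (sumEquiv hsum) (U₀ : Matrix (Fin W.natDegree) (Fin W.natDegree) K) 1, ?_, ?_⟩
  · rw [st_bd, bd_mul, hU₀, st_one, one_mul, bd_one]
  · intro j hj
    rw [bd_pow, one_pow, ← bd_one (sumEquiv hsum)] at hj
    have h1 := (bd_injective _ _ _ _ _ hj).1
    apply hord
    apply dvd_of_charpoly (q := q) he1 (U₀ : Matrix (Fin W.natDegree) (Fin W.natDegree) K) P hP hPm
      hP0 _ j h1
    rcases hWP with h | h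
    · left; rw [hchar]; exact h
    · right; rw [hchar]; exact h

omit [Fintype K] hF in
/-- powers of a unipotent matrix in characteristic `p` -/
theorem one_add_pow_char_pow (p : ℕ) [Fact p.Prime] [CharP K p] {k : ℕ} (hk : 1 ≤ k)
    (N : Matrix (Fin k) (Fin k) K) (s : ℕ) : (1 + N) ^ (p ^ s) = 1 + N ^ (p ^ s) := by
  have : Nonempty (Fin k) := ⟨⟨0, hk⟩⟩
  have : CharP (Matrix (Fin k) (Fin k) K) p := inferInstance
  rw [add_pow_char_pow_of_commute p s (Commute.one_left _), one_pow]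

/-- **unitary unipotent matrices of maximal order** -/
theorem exists_unip (p : ℕ) [hp : Fact p.Prime] [CharP K p] (k : ℕ) (hk : 1 ≤ k) :
    ∃ u : Matrix (Fin k) (Fin k) K, st (q := q) u * u = 1 ∧ u.det = 1 ∧
      (∀ j : ℕ, u ^ j = 1 → p ^ (Nat.clog p k) ∣ j) ∧
      (∀ (j : ℕ) (c : K), u ^ j = c • 1 → c = 1) := by
  obtain ⟨u, hu, hdet, hreg⟩ := exists_regular_unipotent_unitary (K := K) (q := q) k hk
  set N := u - 1 with hN
  have huN : u = 1 + N := by rw [hN]; abel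
  have hNk : N ^ k = 0 := hreg.pow
  have hNk1 : N ^ (k - 1) ≠ 0 := hreg.pow_pred_ne_zero
  have hp1 : 1 < p := hp.out.one_lt
  have htop : u ^ (p ^ Nat.clog p k) = 1 := by
    rw [huN, one_add_pow_char_pow p hk, add_eq_left]
    have h1 : k ≤ p ^ Nat.clog p k := Nat.le_pow_clog hp1 k
    obtain ⟨w, hw⟩ := Nat.exists_eq_add_of_le h1
    rw [hw, pow_add, hNk, zero_mul]
  refine ⟨u, hu, hdet, ?_, ?_⟩
  · intro j hj
    have hdvd : orderOf u ∣ p ^ Nat.clog p k := orderOf_dvd_of_pow_eq_one htop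
    obtain ⟨a, ha, hord⟩ := (Nat.dvd_prime_pow hp.out).mp hdvd
    have hoj : orderOf u ∣ j := orderOf_dvd_of_pow_eq_one hj
    rcases Nat.lt_or_ge a (Nat.clog p k) with hlt | hge
    · exfalso
      have hk2 : 1 < k := by
        by_contra h
        have : k = 1 := by omega
        subst this
        simp at hlt
      have hlt' : p ^ (Nat.clog p k - 1) < k := Nat.pow_pred_clog_lt_self hp1 hk2
      have h2 : u ^ (p ^ (Nat.clog p k - 1)) = 1 := by
        apply orderOf_dvd_iff_pow_eq_one.mp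
        rw [hord]
        exact pow_dvd_pow p (by omega)
      rw [huN, one_add_pow_char_pow p hk, add_eq_left] at h2
      apply hNk1
      obtain ⟨w, hw⟩ := Nat.exists_eq_add_of_le (by omega : p ^ (Nat.clog p k - 1) ≤ k - 1)
      rw [hw, pow_add, h2, zero_mul]
    · have : a = Nat.clog p k := by omega
      rw [← this, ← hord]
      exact hoj
  · intro j c hc
    have h1 : (u ^ j) ^ (p ^ Nat.clog p k) = 1 := by
      rw [← pow_mul, mul_comm, pow_mul, htop, one_pow]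
    rw [hc, _root_.smul_pow, one_pow] at h1
    have h2 := congrFun (congrFun h1 ⟨0, hk⟩) ⟨0, hk⟩
    rw [Matrix.smul_apply, Matrix.one_apply_eq, smul_eq_mul, mul_one] at h2
    exact pow_char_pow_eq_one p _ c h2

end Cfsg.Agent.Helper8.SpecU
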