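import Mathlib
import Cfsg.Agent.Helper8.SpecUH

set_option autoImplicit false

/-!
# Explicit elements of `PSU n q`: block elements and Singer elements (helper8)
-/

namespace Cfsg.Agent.Helper8.SpecU

open Polynomial Matrix Cfsg Cfsg.Agent.Helper8.GUOrder Cfsg.Agent.Helper8.SUCenter
  Cfsg.Agent.Helper8.AutSU Cfsg.Agent.Helper8.PSUSing Cfsg.Agent.Helper8.PU3
  Cfsg.Agent.Helper8.SUSemi Cfsg.Agent.Helper8.PS3 Cfsg.Agent.Helper8.PGraph
  Cfsg.Agent.Helper8.RegSU Cfsg.Agent.Helper8.RegU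
  Cfsg.Agent.Lead.SpecPSL

variable {K : Type*} [Field K] [Fintype K] {q : ℕ} [hF : Fact (Fintype.card K = q ^ 2)] {n : ℕ}

/-- **special unitary matrices of large order** -/
theorem exists_su_order (p : ℕ) [Fact p.Prime] [CharP K p] (D : ℕ) (hD : 1 ≤ D) :
    ∃ s : Matrix (Fin D) (Fin D) K, st (q := q) s * s = 1 ∧ s.det = 1 ∧
      ∀ j : ℕ, s ^ j = 1 → NU q D ∣ j := by
  obtain ⟨U, hU, hord⟩ := exists_unitary_order (K := K) (q := q) p D hD
  refine ⟨U ^ (q + 1), ?_, ?_, ?_⟩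
  · rw [st_pow, st_pow_mul_pow hU]
  · have h1 := congrArg Matrix.det hU
    rw [Matrix.det_mul, det_st, Matrix.det_one, ← pow_succ] at h1
    rw [Matrix.det_pow, h1]
  · intro j hj
    rw [← pow_mul] at hj
    have h1 := hord _ hj
    rw [mul_comm (q + 1) j] at h1
    exact Nat.dvd_of_mul_dvd_mul_right (by omega) h1

/-- block elements of `SU n q` -/
noncomputable def bdSU {k₁ k₂ : ℕ} (h : k₁ + k₂ = n) (a : Matrix (Fin k₁) (Fin k₁) K)
    (b : Matrix (Fin k₂) (Fin k₂) K) (ha : st (q := q) a * a = 1) (hb : st (q := q) b * b = 1)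
    (hdet : a.det * b.det = 1) : SU n K q :=
  mkSU hF.out (bd (sumEquiv h) a b)
    ((unitary_iff_st _).mpr (by rw [st_bd, bd_mul, ha, hb, bd_one]))
    (by rw [det_bd, hdet])

theorem bdSU_val {k₁ k₂ : ℕ} (h : k₁ + k₂ = n) (a : Matrix (Fin k₁) (Fin k₁) K)
    (b : Matrix (Fin k₂) (Fin k₂) K) (ha : st (q := q) a * a = 1) (hb : st (q := q) b * b = 1)
    (hdet : a.det * b.det = 1) :
    ((bdSU h a b ha hb hdet).1 : Matrix (Fin n) (Fin n) K) = bd (sumEquiv h) a b := rfl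

theorem orderOf_bdSU_dvd_iff {k₁ k₂ : ℕ} (hn : 1 ≤ n) (h : k₁ + k₂ = n)
    (a : Matrix (Fin k₁) (Fin k₁) K)
    (b : Matrix (Fin k₂) (Fin k₂) K) (ha : st (q := q) a * a = 1) (hb : st (q := q) b * b = 1)
    (hdet : a.det * b.det = 1) (j : ℕ) :
    orderOf (QuotientGroup.mk (bdSU h a b ha hb hdet) : PSU n K q) ∣ j ↔
      ∃ c : K, a ^ j = c • 1 ∧ b ^ j = c • 1 := by
  rw [orderOf_psu_dvd_iff hn, bdSU_val, bd_pow]
  constructor
  · rintro ⟨c, hc⟩
    rw [← bd_smul_one (sumEquiv h) c] at hc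
    exact ⟨c, bd_injective _ _ _ _ _ hc⟩
  · rintro ⟨c, h1, h2⟩
    exact ⟨c, by rw [h1, h2, bd_smul_one]⟩

theorem good_of_bd (hn : 1 ≤ n) {r : ℕ} (hr : r.Prime) (hrq : r ∣ q + 1) (hrn : ¬ r ∣ n)
    {k₁ k₂ : ℕ} (hk₁ : 0 < k₁) (hk₂ : 0 < k₂) (h : k₁ + k₂ = n) (a : Matrix (Fin k₁) (Fin k₁) K)
    (b : Matrix (Fin k₂) (Fin k₂) K) (ha : st (q := q) a * a = 1) (hb : st (q := q) b * b = 1)
    (hdet : a.det * b.det = 1) :
    ∃ y : PSU n K q,
      orderOf y = Nat.lcm (orderOf (QuotientGroup.mk (bdSU h a b ha hb hdet) : PSU n K q)) r := by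
  have : Nonempty (Fin k₁) := ⟨⟨0, hk₁⟩⟩
  have : Nonempty (Fin k₂) := ⟨⟨0, hk₂⟩⟩
  apply good_of_idem hn hr hrq hrn (bdSU h a b ha hb hdet) (bd (sumEquiv h) 1 0)
  · rw [bd_mul, one_mul, zero_mul]
  · rw [st_bd, st_one, st_zero]
  · intro h0
    rw [← bd_zero (sumEquiv h)] at h0
    exact one_ne_zero (bd_injective _ _ _ _ _ h0).1
  · intro h1
    rw [← bd_one (sumEquiv h)] at h1
    exact zero_ne_one (bd_injective _ _ _ _ _ h1).2
  · show bd (sumEquiv h) 1 0 * _ = _ * bd (sumEquiv h) 1 0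
    rw [bdSU_val, bd_mul, bd_mul, one_mul, mul_one, zero_mul, mul_zero]

theorem exists_mixed_good (p : ℕ) [hp : Fact p.Prime] [CharP K p] {r : ℕ} (hr : r.Prime)
    (hrq : r ∣ q + 1) (hrn : ¬ r ∣ n) (D : ℕ) (hD : 1 ≤ D) (hDn : D < n) :
    ∃ y : PSU n K q,
      p ^ (Nat.clog p (n - D)) ∣ orderOf y ∧ NU q D ∣ orderOf y ∧ r ∣ orderOf y := by
  have hk : 1 ≤ n - D := by omega
  have h : D + (n - D) = n := by omega
  have hn : 1 ≤ n := by omega
  obtain ⟨s, hs, hsdet, hsord⟩ := exists_su_order (K := K) (q := q) p D hD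
  obtain ⟨u, hu, hudet, huord, husc⟩ := exists_unip (K := K) (q := q) p (n - D) hk
  have hdet : s.det * u.det = 1 := by rw [hsdet, hudet, mul_one]
  obtain ⟨y, hy⟩ := good_of_bd hn hr hrq hrn (by omega) (by omega) h s u hs hu hdet
  refine ⟨y, ?_⟩
  set y₀ : PSU n K q := QuotientGroup.mk (bdSU h s u hs hu hdet) with hy₀
  obtain ⟨c, hc1, hc2⟩ := (orderOf_bdSU_dvd_iff hn h s u hs hu hdet (orderOf y₀)).mp dvd_rfl
  have hc : c = 1 := husc _ c hc2
  rw [hc, one_smul] at hc1 hc2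
  rw [hy]
  exact ⟨dvd_trans (huord _ hc2) (Nat.dvd_lcm_left _ _),
    dvd_trans (hsord _ hc1) (Nat.dvd_lcm_left _ _), Nat.dvd_lcm_right _ _⟩

/-- **Singer elements** -/
theorem exists_singer (p : ℕ) [hp : Fact p.Prime] [CharP K p] (hn : 1 ≤ n) :
    ∃ y : PSU n K q, singerNU q n ∣ orderOf y := by
  have hq2 := two_le_q' (K := K) (q := q)
  obtain ⟨s, hs, hsdet, hsord⟩ := exists_su_order (K := K) (q := q) p n hn
  let g : SU n K q := mkSU hF.out s ((unitary_iff_st _).mpr hs) hsdet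
  have hg : (g.1 : Matrix (Fin n) (Fin n) K) = s := rfl
  refine ⟨QuotientGroup.mk g, ?_⟩
  set j := orderOf (QuotientGroup.mk g : PSU n K q) with hj
  obtain ⟨c, hc⟩ := (orderOf_psu_dvd_iff hn g j).mp dvd_rfl
  rw [hg] at hc
  have hcU : c * c ^ q = 1 := by
    apply scalar_unitary hn c
    rw [← hc]
    exact unitary_pow ((unitary_iff_st _).mpr hs) j
  have h1 : s ^ (j * (q + 1)) = 1 := by
    rw [pow_mul, hc, _root_.smul_pow, one_pow, pow_succ', hcU, one_smul]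
  have h2 : NU q n ∣ j * (q + 1) := hsord _ h1
  have h3 := (PS3.dvd_mul_iff_div_gcd (NU q n) (q + 1) j (NU_pos q n hq2 hn)).mp h2
  rw [gcd_NU q n (by omega)] at h3
  exact h3

end Cfsg.Agent.Helper8.SpecU
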