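import Mathlib
import Cfsg.Agent.Helper8.SpecUI

set_option autoImplicit false

/-!
# The trichotomy for element orders of `PSU n q` and a prime `r ∣ q + 1`, `r ∤ n` (helper8)
-/

namespace Cfsg.Agent.Helper8.SpecU

open Polynomial Matrix Cfsg Cfsg.Agent.Helper8.GUOrder Cfsg.Agent.Helper8.SUCenter
  Cfsg.Agent.Helper8.AutSU Cfsg.Agent.Helper8.PSUSing Cfsg.Agent.Helper8.PU3
  Cfsg.Agent.Helper8.SUSemi Cfsg.Agent.Helper8.PS3 Cfsg.Agent.Helper8.PGraph
  Cfsg.Agent.Helper8.RegSU Cfsg.Agent.Helper8.RegU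
  Cfsg.Agent.Lead.SpecPSL

variable {K : Type*} [Field K] [Fintype K] {q : ℕ} [hF : Fact (Fintype.card K = q ^ 2)] {n : ℕ}

theorem coprime_NU (p : ℕ) [hp : Fact p.Prime] [CharP K p] (D : ℕ) (hD : 1 ≤ D) :
    Nat.Coprime (NU q D) p := by
  rcases Nat.even_or_odd D with h | h
  · have h1 := NU_mul_even q D h
    have h2 := char_coprime_pow_sub (K := K) (q := q) p D hD
    rw [← h1] at h2
    exact (Nat.Coprime.coprime_mul_right_right h2).symm
  · have h1 := NU_mul_odd q D h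
    have h2 := char_coprime_pow_add (K := K) (q := q) p D hD
    rw [← h1] at h2
    exact (Nat.Coprime.coprime_mul_right_right h2).symm

theorem ne_char_of_dvd (p : ℕ) [hp : Fact p.Prime] [CharP K p] {r : ℕ} (hrq : r ∣ q + 1) :
    Nat.Coprime r p := by
  have h2 := char_coprime_pow_add (K := K) (q := q) p 1 le_rfl
  rw [pow_one] at h2
  exact (Nat.Coprime.coprime_dvd_right hrq h2).symm

theorem NU_one (q : ℕ) : NU q 1 = 1 := by
  unfold NU
  rw [if_neg (by decide), pow_one]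
  exact Nat.div_self (by omega)

theorem trichotomy (p : ℕ) [hp : Fact p.Prime] [CharP K p] {r : ℕ} (hr : r.Prime)
    (hrq : r ∣ q + 1) (hrn : ¬ r ∣ n) (hn : 2 ≤ n)
    (x : PSU n K q) (hx : ¬ r ∣ orderOf x) :
    (∃ y : PSU n K q, r * orderOf x ∣ orderOf y) ∨
    orderOf x ∣ singerNU q n ∨
    (∃ j : ℕ, n - 1 = p ^ j ∧ orderOf x ∣ p ^ (j + 1)) := by
  have hq2 := two_le_q' (K := K) (q := q)
  have hp1 : 1 < p := hp.out.one_lt
  have hn1 : 1 ≤ n := by omega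
  obtain ⟨g, rfl⟩ := QuotientGroup.mk_surjective x
  have hcop : Nat.Coprime r (orderOf (QuotientGroup.mk g : PSU n K q)) :=
    (Nat.Prime.coprime_iff_not_dvd hr).mpr hx
  rcases order_cases p hn1 g with ⟨E, hE, hEs, hE0, hE1, hc⟩ | ⟨D, m, hD, hm, hmD, hdvd, hsing⟩
  · left
    obtain ⟨y, hy⟩ := good_of_idem hn1 hr hrq hrn g E hE hEs hE0 hE1 hc
    refine ⟨y, ?_⟩
    rw [hy]
    exact Nat.Coprime.mul_dvd_of_dvd_of_dvd hcop (Nat.dvd_lcm_right _ _) (Nat.dvd_lcm_left _ _)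
  · set t := Nat.clog p m with ht
    rcases Nat.lt_or_ge D n with hDn | hDn
    · rcases Nat.lt_or_ge D 2 with hD2 | hD2
      · -- D = 1
        have hD1 : D = 1 := by omega
        rw [hD1, NU_one, one_mul] at hdvd
        have hmn : m ≤ n := by rw [hD1, mul_one] at hmD; exact hmD
        have htn : t ≤ Nat.clog p n := Nat.clog_mono_right p hmn
        by_cases hj : ∃ j : ℕ, n - 1 = p ^ j
        · right; right
          obtain ⟨j, hj⟩ := hj
          refine ⟨j, hj, dvd_trans hdvd (pow_dvd_pow p ?_)⟩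
          apply le_trans htn
          apply Nat.clog_le_of_le_pow
          have h1 : 1 ≤ p ^ j := Nat.one_le_pow _ _ (by omega)
          have h2 : p ^ (j + 1) = p ^ j * p := pow_succ p j
          have h3 : p ^ j * 2 ≤ p ^ j * p := Nat.mul_le_mul_left _ hp1
          omega
        · left
          obtain ⟨y, hy1, -, hy3⟩ := exists_mixed_good (K := K) (q := q) p hr hrq hrn 1 le_rfl
            (by omega)
          refine ⟨y, ?_⟩
          apply Nat.Coprime.mul_dvd_of_dvd_of_dvd hcop hy3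
          refine dvd_trans hdvd (dvd_trans (pow_dvd_pow p ?_) hy1)
          exact le_trans htn (clog_pred_of_not_pow p n hp1 hj)
      · -- 2 ≤ D < n
        left
        obtain ⟨y, hy1, hy2, hy3⟩ := exists_mixed_good (K := K) (q := q) p hr hrq hrn D hD hDn
        refine ⟨y, ?_⟩
        have hmnd : m ≤ n - D := by
          rcases Nat.lt_or_ge m 2 with hm2 | hm2
          · omega
          · obtain ⟨m', rfl⟩ : ∃ m', m = m' + 2 := ⟨m - 2, by omega⟩
            obtain ⟨d', hd'⟩ : ∃ d', D = d' + 2 := ⟨D - 2, by omega⟩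
            rw [hd'] at hmD ⊢
            have : (m' + 2) * (d' + 2) = m' * d' + 2 * m' + 2 * d' + 4 := by ring
            have h0 : 0 ≤ m' * d' := Nat.zero_le _
            omega
        have htnd : t ≤ Nat.clog p (n - D) := Nat.clog_mono_right p hmnd
        have h1 : NU q D * p ^ t ∣ orderOf y := by
          apply Nat.Coprime.mul_dvd_of_dvd_of_dvd
          · exact Nat.Coprime.pow_right _ (coprime_NU (K := K) p D hD)
          · exact hy2
          · exact dvd_trans (pow_dvd_pow p htnd) hy1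
        exact Nat.Coprime.mul_dvd_of_dvd_of_dvd hcop hy3 (dvd_trans hdvd h1)
    · -- D = n
      right; left
      have hDn' : D = n := by
        have : 1 * D ≤ m * D := Nat.mul_le_mul_right D hm
        omega
      exact hsing hDn'

theorem exists_order_r (p : ℕ) [hp : Fact p.Prime] [CharP K p] {r : ℕ} (hr : r.Prime)
    (hrq : r ∣ q + 1) (hrn : ¬ r ∣ n) (hn : 2 ≤ n) :
    ∃ z : PSU n K q, orderOf z = r := by
  obtain ⟨y, -, -, hy⟩ := exists_mixed_good (K := K) (q := q) p hr hrq hrn 1 le_rfl (by omega)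
  exact exists_orderOf_of_dvd y r hy

theorem compat_N (p : ℕ) [hp : Fact p.Prime] [CharP K p] (hn : 2 ≤ n)
    (x x' : PSU n K q)
    (h : orderOf x ∣ singerNU q n) (h' : orderOf x' ∣ singerNU q n) :
    ∃ y : PSU n K q, orderOf y = Nat.lcm (orderOf x) (orderOf x') := by
  obtain ⟨y, hy⟩ := exists_singer (K := K) (q := q) (n := n) p (by omega)
  exact exists_orderOf_of_dvd y _ (dvd_trans (Nat.lcm_dvd h h') hy)

omit [Fintype K] hF in
theorem compat_U (p : ℕ) [hp : Fact p.Prime]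
    (x x' : PSU n K q)
    (h : ∃ j : ℕ, n - 1 = p ^ j ∧ orderOf x ∣ p ^ (j + 1))
    (h' : ∃ j : ℕ, n - 1 = p ^ j ∧ orderOf x' ∣ p ^ (j + 1)) :
    ∃ y : PSU n K q, orderOf y = Nat.lcm (orderOf x) (orderOf x') := by
  obtain ⟨j, -, hj⟩ := h
  obtain ⟨j', -, hj'⟩ := h'
  obtain ⟨s, -, hs⟩ := (Nat.dvd_prime_pow hp.out).mp hj
  obtain ⟨s', -, hs'⟩ := (Nat.dvd_prime_pow hp.out).mp hj'
  rcases le_total s s' with hss | hss
  · refine ⟨x', ?_⟩
    rw [Nat.lcm_comm]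
    exact (Nat.lcm_eq_left (by rw [hs, hs']; exact pow_dvd_pow p hss)).symm
  · refine ⟨x, ?_⟩
    exact (Nat.lcm_eq_left (by rw [hs, hs']; exact pow_dvd_pow p hss)).symm

omit hF in
theorem good_elt {r : ℕ} (hr : r.Prime)
    (x : PSU n K q) (hx : ¬ r ∣ orderOf x)
    (h : ∃ y : PSU n K q, r * orderOf x ∣ orderOf y) :
    ∃ y : PSU n K q, orderOf y = Nat.lcm (orderOf x) r := by
  obtain ⟨y, hy⟩ := h
  have hcop : Nat.Coprime (orderOf x) r :=
    ((Nat.Prime.coprime_iff_not_dvd hr).mpr hx).symm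
  rw [hcop.lcm_eq_mul, mul_comm]
  exact exists_orderOf_of_dvd y _ hy

/-- single slot absorbs `r`. -/
def AbsorbU (r : ℕ) (x : PSU n K q) : Prop :=
  ∃ y : PSU n K q, orderOf y = Nat.lcm (orderOf x) r

theorem absorb_or (p : ℕ) [hp : Fact p.Prime] [CharP K p] {r : ℕ} (hr : r.Prime)
    (hrq : r ∣ q + 1) (hrn : ¬ r ∣ n) (hn : 2 ≤ n)
    (x : PSU n K q) :
    AbsorbU r x ∨ orderOf x ∣ singerNU q n ∨
      (∃ j : ℕ, n - 1 = p ^ j ∧ orderOf x ∣ p ^ (j + 1)) := by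
  by_cases hx : r ∣ orderOf x
  · left; exact ⟨x, (Nat.lcm_eq_left hx).symm⟩
  · rcases trichotomy p hr hrq hrn hn x hx with h | h | h
    · left; exact good_elt hr x hx h
    · right; left; exact h
    · right; right; exact h

theorem three (p : ℕ) [hp : Fact p.Prime] [CharP K p] {r : ℕ} (hr : r.Prime)
    (hrq : r ∣ q + 1) (hrn : ¬ r ∣ n) (hn : 2 ≤ n)
    (x₁ x₂ x₃ : PSU n K q) :
    ∃ y₁ y₂ y₃ : PSU n K q,
      Nat.lcm (orderOf y₁) (Nat.lcm (orderOf y₂) (orderOf y₃)) =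
        Nat.lcm (orderOf x₁) (Nat.lcm (orderOf x₂) (Nat.lcm (orderOf x₃) r)) := by
  obtain ⟨z, hz⟩ := exists_order_r (K := K) (q := q) (n := n) p hr hrq hrn hn
  have c12 : (∃ y : PSU n K q,
      orderOf y = Nat.lcm (orderOf x₁) (orderOf x₂)) → _ := fun ⟨y, hy⟩ =>
    (⟨y, z, x₃, by rw [hy, hz]; generalize orderOf x₁ = a; generalize orderOf x₂ = b; generalize orderOf x₃ = c; ac_rfl⟩ : ∃ y₁ y₂ y₃ : PSU n K q,
      Nat.lcm (orderOf y₁) (Nat.lcm (orderOf y₂) (orderOf y₃)) =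
        Nat.lcm (orderOf x₁) (Nat.lcm (orderOf x₂) (Nat.lcm (orderOf x₃) r)))
  have c13 : (∃ y : PSU n K q,
      orderOf y = Nat.lcm (orderOf x₁) (orderOf x₃)) → _ := fun ⟨y, hy⟩ =>
    (⟨y, x₂, z, by rw [hy, hz]; generalize orderOf x₁ = a; generalize orderOf x₂ = b; generalize orderOf x₃ = c; ac_rfl⟩ : ∃ y₁ y₂ y₃ : PSU n K q,
      Nat.lcm (orderOf y₁) (Nat.lcm (orderOf y₂) (orderOf y₃)) =
        Nat.lcm (orderOf x₁) (Nat.lcm (orderOf x₂) (Nat.lcm (orderOf x₃) r)))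
  have c23 : (∃ y : PSU n K q,
      orderOf y = Nat.lcm (orderOf x₂) (orderOf x₃)) → _ := fun ⟨y, hy⟩ =>
    (⟨x₁, y, z, by rw [hy, hz]; generalize orderOf x₁ = a; generalize orderOf x₂ = b; generalize orderOf x₃ = c; ac_rfl⟩ : ∃ y₁ y₂ y₃ : PSU n K q,
      Nat.lcm (orderOf y₁) (Nat.lcm (orderOf y₂) (orderOf y₃)) =
        Nat.lcm (orderOf x₁) (Nat.lcm (orderOf x₂) (Nat.lcm (orderOf x₃) r)))
  rcases absorb_or p hr hrq hrn hn x₁ with ⟨y, hy⟩ | h1
  · exact ⟨y, x₂, x₃, by rw [hy]; generalize orderOf x₁ = a; generalize orderOf x₂ = b; generalize orderOf x₃ = c; ac_rfl⟩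
  rcases absorb_or p hr hrq hrn hn x₂ with ⟨y, hy⟩ | h2
  · exact ⟨x₁, y, x₃, by rw [hy]; generalize orderOf x₁ = a; generalize orderOf x₂ = b; generalize orderOf x₃ = c; ac_rfl⟩
  rcases absorb_or p hr hrq hrn hn x₃ with ⟨y, hy⟩ | h3
  · exact ⟨x₁, x₂, y, by rw [hy]⟩
  rcases h1 with h1 | h1 <;> rcases h2 with h2 | h2 <;> rcases h3 with h3 | h3
  · exact c12 (compat_N p hn _ _ h1 h2)
  · exact c12 (compat_N p hn _ _ h1 h2)
  · exact c13 (compat_N p hn _ _ h1 h3)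
  · exact c23 (compat_U p _ _ h2 h3)
  · exact c23 (compat_N p hn _ _ h2 h3)
  · exact c13 (compat_U p _ _ h1 h3)
  · exact c12 (compat_U p _ _ h1 h2)
  · exact c12 (compat_U p _ _ h1 h2)

theorem two (p : ℕ) [hp : Fact p.Prime] [CharP K p] {r : ℕ} (hr : r.Prime)
    (hrq : r ∣ q + 1) (hrn : ¬ r ∣ n) (hn : 2 ≤ n)
    (hj : ¬ ∃ j : ℕ, n - 1 = p ^ j)
    (x₁ x₂ : PSU n K q) :
    ∃ y₁ y₂ : PSU n K q,
      Nat.lcm (orderOf y₁) (orderOf y₂) =
        Nat.lcm (orderOf x₁) (Nat.lcm (orderOf x₂) r) := by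
  obtain ⟨z, hz⟩ := exists_order_r (K := K) (q := q) (n := n) p hr hrq hrn hn
  rcases absorb_or p hr hrq hrn hn x₁ with ⟨y, hy⟩ | h1
  · exact ⟨y, x₂, by rw [hy]; generalize orderOf x₁ = a; generalize orderOf x₂ = b; ac_rfl⟩
  rcases absorb_or p hr hrq hrn hn x₂ with ⟨y, hy⟩ | h2
  · exact ⟨x₁, y, by rw [hy]⟩
  rcases h1 with h1 | ⟨j, hj', -⟩
  · rcases h2 with h2 | ⟨j, hj', -⟩
    · obtain ⟨y, hy⟩ := compat_N p hn _ _ h1 h2
      exact ⟨y, z, by rw [hy, hz]; generalize orderOf x₁ = a; generalize orderOf x₂ = b; ac_rfl⟩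
    · exact absurd ⟨j, hj'⟩ hj
  · exact absurd ⟨j, hj'⟩ hj

end Cfsg.Agent.Helper8.SpecU
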