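import Mathlib
import Cfsg.Agent.Helper8.OStN

set_option autoImplicit false

/-!
# The unipotent radical of the flag stabiliser is generated by Siegel elements (helper8)

`UO Q e f` is generated by the Siegel transformations `siegG Q (e i) w` with `w` orthogonal to
`e l`, `f l` for `l ≤ i`.  In characteristic `2` these are involutions, so all squares of `UO`
lie in its derived subgroup.
-/

namespace Cfsg.Agent.Helper8.Sq46

open Module Matrix Cfsg.Agent.Helper8.QuadForm Cfsg.Agent.Helper8.WittQuad
  Cfsg.Agent.Helper8.OrthOrder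
  Cfsg.Agent.Helper8.Siegel Cfsg.Agent.Helper8.SiegelGroup Cfsg.Agent.Helper8.OGenA
  Cfsg.Agent.Helper8.OGenB Cfsg.Agent.Helper8.OSt

variable {F : Type*} [Field F] {V : Type*} [AddCommGroup V] [Module F V] [FiniteDimensional F V]
variable {r : ℕ} {Q : QuadraticForm F V} {e f : Fin r → V}

variable (Q e f)

/-- the Siegel generators of the unipotent radical. -/
def sq46Gens : Set ↥(Isom Q) :=
  {g | ∃ (i : Fin r) (w : V), (∀ l : Fin r, (l : ℕ) ≤ i → QuadraticMap.polar Q (e l) w = 0 ∧
      QuadraticMap.polar Q (f l) w = 0) ∧ g = siegG Q (e i) w}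

variable {Q e f}

theorem sq46Gens_subset_UO (hyp : IsHyp Q e f) : sq46Gens Q e f ⊆ (UO Q e f : Set ↥(Isom Q)) := by
  rintro g ⟨i, w, hw, rfl⟩
  exact siegG_mem_UO hyp i hw

omit [FiniteDimensional F V] in
theorem sq46Gens_subset_SG (hyp : IsHyp Q e f) : sq46Gens Q e f ⊆ (SG Q : Set ↥(Isom Q)) := by
  rintro g ⟨i, w, hw, rfl⟩
  exact siegG_mem_SG Q (hyp.1 i).1 (hw i (le_refl _)).1

/-- the clearing step. -/
theorem sq46_clear (hyp : IsHyp Q e f) (n : ℕ) : ∀ (j : ℕ), j + n = r → ∀ g : ↥(Isom Q),
    g ∈ UO Q e f → (∀ l : Fin r, (l : ℕ) < j → g • e l = e l ∧ g • f l = f l) →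
    g ∈ Subgroup.closure (sq46Gens Q e f) := by
  induction n with
  | zero =>
    intro j hj g hg hfix
    have hj' : j = r := by omega
    have hp : Pat Q e f 1 g := by
      rintro (i | i)
      · refine ⟨1, ?_⟩
        rw [Equiv.Perm.one_apply, fr_inl, one_smul]
        exact (hfix i (by rw [hj']; exact i.2)).1
      · refine ⟨1, ?_⟩
        rw [Equiv.Perm.one_apply, fr_inr, one_smul]
        exact (hfix i (by rw [hj']; exact i.2)).2
    rw [eq_one_of_mem_UO_of_pat_one hyp hg hp]
    exact Subgroup.one_mem _
  | succ n ih =>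
    intro j hj g hg hfix
    have hjr : j < r := by omega
    set i : Fin r := ⟨j, hjr⟩ with hi
    -- `g` fixes `e i`
    have hei : g • e i = e i := by
      have h1 : g • e i - e i ∈ E Q e f j := hg.2.1 j (e i) (e_mem_E hyp (Nat.lt_succ_self _))
      have h2 : g • e i - e i ∈ E Q e f 0 := by
        refine ⟨h1.1, fun l _ => ?_⟩
        by_cases hl : (l : ℕ) < j
        · rw [co_apply, QuadraticMap.polar_sub_right]
          have h3 := polar_smul_smul g (f l) (e i)
          rw [(hfix l hl).2] at h3
          rw [h3, sub_self]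
        · exact h1.2 l (not_lt.mp hl)
      exact sub_eq_zero.mp (eq_zero_of_mem_E_zero h2)
    set v : V := g • f i - f i with hv
    set c : F := QuadraticMap.polar Q (f i) v with hc
    set w : V := v - c • e i with hw
    have hff : QuadraticMap.polar Q (f i) (f i) = 0 := (hyp.2.2 i i).2
    have hee : ∀ l, QuadraticMap.polar Q (e l) (e i) = 0 := fun l => (hyp.2.2 l i).1
    -- polar values of `v`
    have hv_e : ∀ l : Fin r, (l : ℕ) ≤ j → QuadraticMap.polar Q (e l) v = 0 := by
      intro l hl
      rw [hv, QuadraticMap.polar_sub_right]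
      have h3 := polar_smul_smul g (e l) (f i)
      rcases Nat.lt_or_eq_of_le hl with h4 | h4
      · rw [(hfix l h4).1] at h3
        rw [h3, sub_self]
      · have : l = i := Fin.ext h4
        subst this
        rw [hei] at h3
        rw [h3, sub_self]
    have hv_f : ∀ l : Fin r, (l : ℕ) < j → QuadraticMap.polar Q (f l) v = 0 := by
      intro l hl
      rw [hv, QuadraticMap.polar_sub_right]
      have h3 := polar_smul_smul g (f l) (f i)
      rw [(hfix l hl).2] at h3
      rw [h3, sub_self]
    have hw_e : ∀ l : Fin r, (l : ℕ) ≤ j → QuadraticMap.polar Q (e l) w = 0 := by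
      intro l hl
      rw [hw, QuadraticMap.polar_sub_right, QuadraticMap.polar_smul_right, hv_e l hl, hee l]
      simp
    have hw_f : ∀ l : Fin r, (l : ℕ) ≤ j → QuadraticMap.polar Q (f l) w = 0 := by
      intro l hl
      rw [hw, QuadraticMap.polar_sub_right, QuadraticMap.polar_smul_right, polar_fe hyp]
      rcases Nat.lt_or_eq_of_le hl with h4 | h4
      · rw [hv_f l h4, if_neg]
        · simp
        · intro h5
          rw [h5] at h4
          exact lt_irrefl _ h4
      · have : l = i := Fin.ext h4
        subst this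
        rw [if_pos rfl, ← hc]
        simp
    have hcond : ∀ l : Fin r, (l : ℕ) ≤ i → QuadraticMap.polar Q (e l) w = 0 ∧
        QuadraticMap.polar Q (f l) w = 0 := fun l hl => ⟨hw_e l hl, hw_f l hl⟩
    have hcond' : ∀ l : Fin r, (l : ℕ) ≤ i → QuadraticMap.polar Q (e l) (-w) = 0 ∧
        QuadraticMap.polar Q (f l) (-w) = 0 := by
      intro l hl
      rw [QuadraticMap.polar_neg_right, QuadraticMap.polar_neg_right, (hcond l hl).1,
        (hcond l hl).2, neg_zero]
      exact ⟨rfl, rfl⟩
    have hQe : Q (e i) = 0 := (hyp.1 i).1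
    have hQf : Q (f i) = 0 := (hyp.1 i).2
    have hew : QuadraticMap.polar Q (e i) (-w) = 0 := (hcond' i (le_refl _)).1
    -- the value of `c`
    have hgf : g • f i = f i + (w + c • e i) := by
      rw [hw, hv]
      abel
    have hcQ : c = - Q w := by
      have h1 : Q (g • f i) = 0 := by rw [Q_smul, hQf]
      rw [hgf, QuadraticMap.map_add Q, hQf, QuadraticMap.map_add Q, QuadraticMap.map_smul, hQe,
        QuadraticMap.polar_add_right,
        QuadraticMap.polar_smul_right, QuadraticMap.polar_smul_right, polar_fe hyp, if_pos rfl,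
        hw_f i (le_refl _), QuadraticMap.polar_comm Q w (e i), hw_e i (le_refl _)] at h1
      simp only [smul_eq_mul, mul_zero, add_zero, zero_add, mul_one] at h1
      linear_combination h1
    -- the Siegel element
    set s : ↥(Isom Q) := siegG Q (e i) (-w) with hs
    have hsU : s ∈ UO Q e f := siegG_mem_UO hyp i hcond'
    have hsG : s ∈ sq46Gens Q e f := ⟨i, -w, hcond', rfl⟩
    have hsf : s • f i = g • f i := by
      rw [hs, siegG_smul Q hQe hew, hgf, QuadraticMap.polar_neg_right, hw_f i (le_refl _),
        polar_fe hyp, if_pos rfl, QuadraticMap.map_neg, hcQ]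
      simp only [neg_zero, zero_smul, add_zero, one_smul, mul_one, neg_smul, sub_neg_eq_add]
      abel
    have hse : s • e i = e i := by
      rw [hs]
      exact siegE_self Q (e i) (-w)
    have hsfix : ∀ l : Fin r, (l : ℕ) < j → s • e l = e l ∧ s • f l = f l := by
      intro l hl
      have hne : l ≠ i := by
        intro h5
        rw [h5] at hl
        exact lt_irrefl _ hl
      constructor
      · apply siegG_smul_fix
        · exact hee l
        · exact (hcond' l (le_of_lt hl)).1
      · apply siegG_smul_fix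
        · rw [polar_fe hyp, if_neg hne]
        · exact (hcond' l (le_of_lt hl)).2
    -- the cleared element
    have hh : s⁻¹ * g ∈ UO Q e f := (UO Q e f).mul_mem ((UO Q e f).inv_mem hsU) hg
    have hhfix : ∀ l : Fin r, (l : ℕ) < j + 1 → (s⁻¹ * g) • e l = e l ∧ (s⁻¹ * g) • f l = f l := by
      intro l hl
      rcases Nat.lt_or_eq_of_le (Nat.lt_succ_iff.mp hl) with h4 | h4
      · constructor
        · rw [mul_smul, (hfix l h4).1, inv_smul_eq_iff, (hsfix l h4).1]
        · rw [mul_smul, (hfix l h4).2, inv_smul_eq_iff, (hsfix l h4).2]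
      · have : l = i := Fin.ext h4
        subst this
        constructor
        · rw [mul_smul, hei, inv_smul_eq_iff, hse]
        · rw [mul_smul, inv_smul_eq_iff, hsf]
    have h6 := ih (j + 1) (by omega) (s⁻¹ * g) hh hhfix
    have h7 : g = s * (s⁻¹ * g) := by group
    rw [h7]
    exact Subgroup.mul_mem _ (Subgroup.subset_closure hsG) h6

/-- **the unipotent radical is generated by its Siegel elements.** -/
theorem sq46_UO_eq_closure (hyp : IsHyp Q e f) :
    UO Q e f = Subgroup.closure (sq46Gens Q e f) := by
  apply le_antisymm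
  · intro g hg
    exact sq46_clear hyp r 0 (by omega) g hg (fun l hl => absurd hl (Nat.not_lt_zero _))
  · rw [Subgroup.closure_le]
    exact sq46Gens_subset_UO hyp

theorem sq46_UO_le_SG (hyp : IsHyp Q e f) : UO Q e f ≤ SG Q := by
  rw [sq46_UO_eq_closure hyp, Subgroup.closure_le]
  exact sq46Gens_subset_SG hyp

end Cfsg.Agent.Helper8.Sq46
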