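import Mathlib
import Cfsg.Agent.Helper8.Sq46A
import Cfsg.Agent.Helper8.ODtF
import Cfsg.Agent.Helper8.OStX

set_option autoImplicit false

/-!
# Squares in the Sylow `2`-subgroups of `Ω^±_{2m}(q)`, `q` even (helper8)
-/

namespace Cfsg.Agent.Helper8.Sq46

open Module Matrix Cfsg Cfsg.Agent.Helper8.QuadForm Cfsg.Agent.Helper8.WittQuad
  Cfsg.Agent.Helper8.OrthOrder
  Cfsg.Agent.Helper8.Siegel Cfsg.Agent.Helper8.SiegelGroup Cfsg.Agent.Helper8.OGenA
  Cfsg.Agent.Helper8.OGenB Cfsg.Agent.Helper8.OSt Cfsg.Agent.Helper8.ODt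
  Cfsg.Agent.Helper8.StdForms Cfsg.Agent.Helper8.OmegaStd

section generic

open scoped commutatorElement

variable {G : Type*} [Group G]

/-- a subgroup generated by elements whose squares are commutators has all its squares in its
derived subgroup. -/
theorem sq46_sq_of_closure (U : Subgroup G) (S : Set G) (hU : U = Subgroup.closure S)
    (hS : ∀ s ∈ S, s * s ∈ ⁅U, U⁆) : ∀ x ∈ U, x * x ∈ ⁅U, U⁆ := by
  have key : ∀ x ∈ Subgroup.closure S, x ∈ U ∧ x * x ∈ ⁅U, U⁆ := by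
    intro x hx
    induction hx using Subgroup.closure_induction with
    | mem x hx =>
      refine ⟨?_, hS x hx⟩
      rw [hU]
      exact Subgroup.subset_closure hx
    | one =>
      refine ⟨U.one_mem, ?_⟩
      rw [mul_one]
      exact Subgroup.one_mem _
    | mul x y _ _ ihx ihy =>
      refine ⟨U.mul_mem ihx.1 ihy.1, ?_⟩
      have e1 : x * y * (x * y) = (x * x) * ⁅x⁻¹, y⁆ * (y * y) := by
        rw [commutatorElement_def]
        group
      rw [e1]
      exact Subgroup.mul_mem _ (Subgroup.mul_mem _ ihx.2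
        (Subgroup.commutator_mem_commutator (U.inv_mem ihx.1) ihy.1)) ihy.2
    | inv x _ ih =>
      refine ⟨U.inv_mem ih.1, ?_⟩
      have e1 : x⁻¹ * x⁻¹ = (x * x)⁻¹ := by group
      rw [e1]
      exact Subgroup.inv_mem _ ih.2
  intro x hx
  rw [hU] at hx
  exact (key x hx).2

/-- passage to a subgroup containing `H`. -/
theorem sq46_subgroupOf {H K : Subgroup G} (hHK : H ≤ K) (h : ∀ x ∈ H, x * x ∈ ⁅H, H⁆) :
    ∀ x ∈ H.subgroupOf K, x * x ∈ ⁅H.subgroupOf K, H.subgroupOf K⁆ := by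
  intro x hx
  rw [← Subgroup.mem_map_iff_mem K.subtype_injective, Subgroup.map_commutator,
    Subgroup.subgroupOf_map_subtype, inf_eq_left.mpr hHK]
  exact h _ hx

/-- transport along an isomorphism. -/
theorem sq46_comap {G' : Type*} [Group G'] (φ : G' ≃* G) {U : Subgroup G}
    (h : ∀ x ∈ U, x * x ∈ ⁅U, U⁆) :
    ∀ x ∈ U.comap φ.toMonoidHom, x * x ∈ ⁅U.comap φ.toMonoidHom, U.comap φ.toMonoidHom⁆ := by
  intro x hx
  have h1 : (U.comap φ.toMonoidHom).map φ.toMonoidHom = U :=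
    Subgroup.map_comap_eq_self_of_surjective φ.surjective U
  rw [← Subgroup.mem_map_iff_mem (f := φ.toMonoidHom) φ.injective, Subgroup.map_commutator, h1,
    map_mul]
  exact h _ hx

end generic

section involutions

variable {F : Type*} [Field F] {V : Type*} [AddCommGroup V] [Module F V] [FiniteDimensional F V]
variable {r : ℕ} {Q : QuadraticForm F V} {e f : Fin r → V}

omit [FiniteDimensional F V] in
theorem sq46Gens_sq [CharP F 2] (hyp : IsHyp Q e f) {g : ↥(Isom Q)} (hg : g ∈ sq46Gens Q e f) :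
    g * g = 1 := by
  obtain ⟨i, w, hw, rfl⟩ := hg
  rw [siegG_mul Q (hyp.1 i).1 (hw i (le_refl _)).1 (hw i (le_refl _)).1]
  have h2 : w + w = 0 := by
    rw [← two_smul F w, CharTwo.two_eq_zero, zero_smul]
  rw [h2, siegG_zero]

/-- **in characteristic `2` the squares of the unipotent radical are commutators.** -/
theorem sq46_UO_sq [CharP F 2] (hyp : IsHyp Q e f) :
    ∀ x ∈ UO Q e f, x * x ∈ ⁅UO Q e f, UO Q e f⁆ := by
  apply sq46_sq_of_closure _ _ (sq46_UO_eq_closure hyp)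
  intro s hs
  rw [sq46Gens_sq hyp hs]
  exact Subgroup.one_mem _

theorem sq46_Us_sq [CharP F 2] (hyp : IsHyp Q e f) :
    ∀ x ∈ (UO Q e f).subgroupOf (SG Q), x * x ∈
      ⁅(UO Q e f).subgroupOf (SG Q), (UO Q e f).subgroupOf (SG Q)⁆ :=
  sq46_subgroupOf (sq46_UO_le_SG hyp) (sq46_UO_sq hyp)

end involutions

section transfer

universe u

variable {F : Type u} [Field F] [Fintype F] {ι : Type} [Fintype ι] [DecidableEq ι]
  (Q : QuadraticForm F (ι → F))

omit [DecidableEq ι] in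
theorem sq46_finite_SG : Finite ↥(SG Q) := by
  have : Finite ((ι → F) ≃ₗ[F] (ι → F)) :=
    Finite.of_injective (fun g : (ι → F) ≃ₗ[F] (ι → F) => (g : (ι → F) → (ι → F)))
      DFunLike.coe_injective
  infer_instance

/-- the shape delivered to the assembly, for a Sylow subgroup of the Siegel group. -/
theorem sq46_Omega_of_SG (hQ : (QuadraticMap.polarBilin Q).Nondegenerate)
    (h5 : 5 ≤ Fintype.card ι) (U : Subgroup ↥(SG Q)) (hU : IsPGroup 2 ↥U)
    (hidx : ¬ 2 ∣ U.index) (hsq : ∀ x ∈ U, x * x ∈ ⁅U, U⁆) :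
    ∃ U' : Subgroup ↥(Cfsg.Omega F ⇑Q), IsPGroup 2 ↥U' ∧ ¬ 2 ∣ U'.index ∧
      ∀ x ∈ U', x * x ∈ ⁅U', U'⁆ := by
  set φ := Cfsg.Agent.Helper8.OmegaSimple.omegaEquiv Q hQ h5 with hφ
  refine ⟨U.comap φ.toMonoidHom, ?_, ?_, sq46_comap φ hsq⟩
  · exact hU.comap_of_injective φ.toMonoidHom φ.injective
  · rw [Subgroup.index_comap_of_surjective U φ.surjective]
    exact hidx

end transfer

section plus

universe u

variable (F : Type u) [Field F] [Fintype F] [CharP F 2]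

/-- **`Ω⁺_{2m}(q)`, `q` even, `m ≥ 3`.** -/
theorem sq46_Omega_plus (k : ℕ) (hk : 1 ≤ k) :
    ∃ U' : Subgroup ↥(Cfsg.Omega F (quadFormPlus (k + 2) F)), IsPGroup 2 ↥U' ∧
      ¬ 2 ∣ U'.index ∧ ∀ x ∈ U', x * x ∈ ⁅U', U'⁆ := by
  have hfun : (⇑(plusForm F (k + 2)) : (Fin (k + 2) ⊕ Fin (k + 2) → F) → F)
      = quadFormPlus (k + 2) F := funext (plusForm_apply F (k + 2))
  have h5 : 5 ≤ Fintype.card (Fin (k + 2) ⊕ Fin (k + 2)) := by
    simp only [Fintype.card_sum, Fintype.card_fin]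
    omega
  have : Fact (Nat.Prime 2) := ⟨Nat.prime_two⟩
  have D := ddataP F k
  have hQ := plusForm_nondeg F (k + 2)
  have hQ' : Nondeg (plusForm F (k + 2)) := (nondeg_iff _).mp hQ
  have := sq46_finite_SG (plusForm F (k + 2))
  have := sq46_Omega_of_SG (plusForm F (k + 2)) hQ h5 D.Us (D.isPGroup_Us 2)
    (D.not_dvd_index_Us hQ' 2) (sq46_Us_sq D.hyp)
  rw [hfun] at this
  exact this

end plus

section minus

universe u

variable (F : Type u) [Field F] [Fintype F] [CharP F 2] (a b : F)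

/-- **`Ω⁻_{2m+2}(q)`, `q` even, `m ≥ 2`.** -/
theorem sq46_Omega_minus (k : ℕ) (hk : 1 ≤ k)
    (hab : ∀ z₁ z₂ : F, z₁ ^ 2 + a * z₁ * z₂ + b * z₂ ^ 2 = 0 → z₁ = 0 ∧ z₂ = 0) :
    ∃ U' : Subgroup ↥(Cfsg.Omega F (quadFormMinus (k + 1) F a b)), IsPGroup 2 ↥U' ∧
      ¬ 2 ∣ U'.index ∧ ∀ x ∈ U', x * x ∈ ⁅U', U'⁆ := by
  have hfun : (⇑(minusForm F (k + 1) a b) : ((Fin (k + 1) ⊕ Fin (k + 1)) ⊕ Fin 2 → F) → F)
      = quadFormMinus (k + 1) F a b := funext (minusForm_apply F (k + 1) a b)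
  have h5 : 5 ≤ Fintype.card ((Fin (k + 1) ⊕ Fin (k + 1)) ⊕ Fin 2) := by
    simp only [Fintype.card_sum, Fintype.card_fin]
    omega
  have : Fact (Nat.Prime 2) := ⟨Nat.prime_two⟩
  have D := wdataM F k hab
  have hQ := minusForm_nondeg F (k + 1) hab
  have hQ' : Nondeg (minusForm F (k + 1) a b) := (nondeg_iff _).mp hQ
  have := sq46_finite_SG (minusForm F (k + 1) a b)
  have := sq46_Omega_of_SG (minusForm F (k + 1) a b) hQ h5 D.Us (D.isPGroup_Us 2)
    (D.not_dvd_index_Us hQ' 2 (hT_M F k 2 hab hk)) (sq46_Us_sq D.hyp)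
  rw [hfun] at this
  exact this

end minus

end Cfsg.Agent.Helper8.Sq46
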