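import Mathlib
import Cfsg.Agent.Helper8.SqB

set_option autoImplicit false

/-! The pipeline: from an element of prime power order in the subgroup generated by two conjugates
to the index bound. -/

namespace Cfsg.Agent.Helper8.Sq

theorem main_step {G : Type*} [Group G] [Finite G] {p : ℕ} [Fact p.Prime] (V H : Subgroup G)
    (hVp : IsPGroup p V) (hHV : H ≤ Subgroup.normalizer (V : Set G))
    (hf : H ⊓ Subgroup.centralizer (V : Set G) = ⊥) {L : Type*} [Group L] (φ : ↥H ≃* L)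
    (a₀ : ↥H) (g : L) (r e n : ℕ) (hr : r.Prime) (hrp : r ≠ p)
    (hord : orderOf ((φ a₀ * (g * φ a₀ * g⁻¹)) ^ 2) = r ^ (e + 1))
    (hN : ∀ k, 0 < k → k < 2 * n → ¬ r ^ (e + 1) ∣ p ^ k - 1) :
    p ^ n ≤ (V ⊓ Subgroup.centralizer {(a₀ : G)}).relIndex V := by
  have hp : p.Prime := Fact.out
  set h₀ : ↥H := φ.symm g with hh₀
  set z₀ : ↥H := (a₀ * (h₀ * a₀ * h₀⁻¹)) ^ 2 with hz₀
  have hφz : φ z₀ = (φ a₀ * (g * φ a₀ * g⁻¹)) ^ 2 := by
    rw [hz₀, map_pow, map_mul, map_mul, map_mul, map_inv, hh₀, φ.apply_symm_apply]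
  have hord0 : orderOf z₀ = r ^ (e + 1) := by
    rw [← φ.orderOf_eq, hφz, hord]
  set z : G := (z₀ : G) with hz
  have hordz : orderOf z = r ^ (e + 1) := by
    rw [hz, Subgroup.orderOf_coe, hord0]
  have hzH : z ∈ H := z₀.2
  set w : G := z ^ (r ^ e) with hw
  have hwH : w ∈ H := H.pow_mem hzH _
  have hw1 : w ≠ 1 := by
    intro h1
    have h2 := orderOf_dvd_of_pow_eq_one h1
    rw [hordz] at h2
    have h3 := Nat.le_of_dvd (pow_pos hr.pos _) h2
    have h4 : r ^ e < r ^ (e + 1) := Nat.pow_lt_pow_right hr.one_lt (Nat.lt_succ_self e)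
    omega
  have hwC : w ∉ Subgroup.centralizer (V : Set G) := by
    intro hc
    apply hw1
    have : w ∈ H ⊓ Subgroup.centralizer (V : Set G) := ⟨hwH, hc⟩
    rw [hf] at this
    exact Subgroup.mem_bot.mp this
  have h1 := relIndex_ge V hVp z (hHV hzH) r e (2 * n) hr hrp hordz hwC hN
  have hzeq : z = ((a₀ : G) * ((h₀ : G) * (a₀ : G) * (h₀ : G)⁻¹)) ^ 2 := by
    rw [hz, hz₀]
    simp
  have hwcl : w ∈ Subgroup.closure ({(a₀ : G), (h₀ : G) * (a₀ : G) * (h₀ : G)⁻¹} : Set G) := by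
    rw [hw, hzeq]
    apply Subgroup.pow_mem
    apply Subgroup.pow_mem
    apply Subgroup.mul_mem
    · exact Subgroup.subset_closure (by simp)
    · exact Subgroup.subset_closure (by simp)
  have h2 := relIndex_le_sq V (a₀ : G) (h₀ : G) w (hHV h₀.2) hwcl
  have h3 : (p ^ n) ^ 2 ≤ ((V ⊓ Subgroup.centralizer {(a₀ : G)}).relIndex V) ^ 2 := by
    rw [← pow_mul, mul_comm]
    exact h1.trans h2
  exact (Nat.pow_le_pow_iff_left (by norm_num)).mp h3

end Cfsg.Agent.Helper8.Sq
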