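import Mathlib
import Cfsg.Agent.Helper8.SsClsU

set_option autoImplicit false
set_option linter.unusedSectionVars false
set_option linter.style.haveILetI false

/-!
# Classes of semisimple elements of odd prime order in orthogonal groups, part V

The main theorem: for an automorphism `x` of `PΩ(Q)` of odd order prime to the characteristic
induced by a similarity (even dimension at least six, odd characteristic), the `Inn`-, `PSO`- and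
class-preserving-similarity-classes of `x` coincide, and the `PO`- and `PGO`-classes coincide.
-/

namespace Cfsg.Agent.Helper8.SsCls

open Module Matrix Cfsg.Agent.Helper8.QuadForm
  Cfsg.Agent.Helper8.ReflMatrix Cfsg.Agent.Helper8.Reflections
  Cfsg.Agent.Helper8.AutImagePsi Cfsg.Agent.Helper8.AutImageOrth
  Cfsg.Agent.Helper8.AutImage Cfsg.Agent.Helper8.AutImageKer
  Cfsg.Agent.Helper8.AutImageIdx Cfsg.Agent.Helper8.AutImageD8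
  Cfsg.Agent.Helper8.OmegaOdd Cfsg.Agent.Helper8.Cls Cfsg.Agent.Helper8.InnDiagGen
  Cfsg.Agent.Helper8.AutO Cfsg.Agent.Helper8.GrInv

variable {F : Type*} [Field F] [Fintype F] {ι : Type} [Fintype ι] [DecidableEq ι]
  (Q : QuadraticForm F (ι → F)) (h2 : (2 : F) ≠ 0)
  (hQ : (QuadraticMap.polarBilin Q).Nondegenerate) (hne : ∃ v, Q v ≠ 0) (k : ℕ)
  (hk : Fintype.card ι = 2 * k) (h5 : 5 ≤ Fintype.card ι)

include h2 hQ h5 in
/-- the centralizer of `x` covers `PGO / PO` and `cpAut / Inn`. -/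
theorem exists_cover (x : MulAut (Cfsg.POmega F ⇑Q)) (hx : x ∈ Cfsg.pgoAut F ⇑Q) {r : ℕ}
    (hr : Odd r) (hrF : (r : F) ≠ 0) (hxr : x ^ r = 1) :
    (∀ h ∈ Cfsg.pgoAut F ⇑Q, ∃ c ∈ Cfsg.pgoAut F ⇑Q, c * x = x * c ∧
      h * c⁻¹ ∈ Cfsg.poAut F ⇑Q) ∧
    (∀ h ∈ cpAut Q hQ hne k hk, ∃ c ∈ cpAut Q hQ hne k hk, c * x = x * c ∧
      h * c⁻¹ ∈ Cfsg.Inn (Cfsg.POmega F ⇑Q)) := by
  have hk0 : 0 < k := by omega
  obtain ⟨g, hgr, hgx⟩ := exists_isometry_lift Q h2 hQ hne h5 x hx hr hxr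
  obtain ⟨e, he⟩ := exists_nonsquare (F := F) h2
  have he0 : e ≠ 0 := by
    rintro rfl
    exact he IsSquare.zero
  obtain ⟨ν, hν⟩ : ∃ ν : Fˣ, (ν : F) = e := ⟨Units.mk0 e he0, rfl⟩
  have hνns : ¬ IsSquare (ν : F) := by rw [hν]; exact he
  obtain ⟨d, hsim, hdet, hcomm⟩ := exists_commuting_sim Q h2 hQ k hk g hr hrF hgr ν
  obtain ⟨dG, hdG⟩ : ∃ dG : ↥(Cfsg.Geo.quadSimilarityGroup (F := F) ⇑Q), (dG : GL ι F) = d :=
    ⟨⟨d, ⟨ν, hsim⟩⟩, rfl⟩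
  have hmult : mult ⇑Q hne dG = ν := by
    apply mult_eq_of ⇑Q hne dG
    rw [hdG]
    exact hsim
  have hdD : dG ∈ Dsub Q h2 hQ hne k hk := by
    rw [mem_Dsub_iff, hmult, hdG]
    exact hdet
  obtain ⟨gS, hgS⟩ : ∃ gS : ↥(Cfsg.Geo.quadSimilarityGroup (F := F) ⇑Q),
      gS = Subgroup.inclusion (isometry_le_similarity ⇑Q) g := ⟨_, rfl⟩
  have hxg : x = Phi ⇑Q gS := by rw [hgS]; exact hgx.symm
  have hdg : dG * gS = gS * dG := by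
    apply Subtype.ext
    rw [Subgroup.coe_mul, Subgroup.coe_mul, hdG, hgS]
    exact hcomm
  obtain ⟨X, hX⟩ : ∃ X : MulAut (Cfsg.POmega F ⇑Q), X = Phi ⇑Q dG := ⟨_, rfl⟩
  have hXx : X * x = x * X := by
    rw [hX, hxg, ← map_mul, ← map_mul, hdg]
  obtain ⟨w, hwS, hwΩ, hwg⟩ := exists_commuting_refl Q h2 hQ k hk0 hk g hr hrF hgr
  obtain ⟨Y, hY⟩ : ∃ Y : MulAut (Cfsg.POmega F ⇑Q), Y = PhiO ⇑Q w := ⟨_, rfl⟩
  have hYx : Y * x = x * Y := by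
    rw [hY, ← hgx, ← map_mul, ← map_mul, hwg]
  have hνinv : ¬ IsSquare ((ν⁻¹ : Fˣ) : F) := by
    rw [Units.val_inv_eq_inv_val, isSquare_inv]
    exact hνns
  -- multiplier of `a * dG⁻¹`
  have hsq : ∀ a : ↥(Cfsg.Geo.quadSimilarityGroup (F := F) ⇑Q),
      ¬ IsSquare ((mult ⇑Q hne a : Fˣ) : F) →
      IsSquare ((mult ⇑Q hne (a * dG⁻¹) : Fˣ) : F) := by
    intro a ha
    rw [map_mul, map_inv, hmult, Units.val_mul]
    exact isSquare_mul_of_not (Units.ne_zero _) ha hνinv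
  refine ⟨?_, ?_⟩
  · intro h hh
    rw [pgoAut_eq] at hh
    obtain ⟨a, rfl⟩ := hh
    by_cases hs : IsSquare ((mult ⇑Q hne a : Fˣ) : F)
    · refine ⟨1, one_mem _, by rw [one_mul, mul_one], ?_⟩
      rw [inv_one, mul_one]
      exact Phi_mem_poAut_of_isSquare Q h2 hQ hne h5 a hs
    · refine ⟨X, ?_, hXx, ?_⟩
      · rw [pgoAut_eq, hX]
        exact ⟨dG, rfl⟩
      · rw [hX, ← map_inv, ← map_mul]
        exact Phi_mem_poAut_of_isSquare Q h2 hQ hne h5 _ (hsq a hs)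
  · intro h hh
    rw [cpAut_eq_range_PhiD Q hQ hne k hk h2] at hh
    obtain ⟨a, rfl⟩ := hh
    -- first correction: make the multiplier a square
    obtain ⟨c₁, hc₁x, hc₁s⟩ : ∃ c₁ : ↥(Dsub Q h2 hQ hne k hk),
        Phi ⇑Q c₁.1 * x = x * Phi ⇑Q c₁.1 ∧
        IsSquare ((mult ⇑Q hne (a.1 * c₁.1⁻¹) : Fˣ) : F) := by
      by_cases hs : IsSquare ((mult ⇑Q hne a.1 : Fˣ) : F)
      · refine ⟨1, ?_, ?_⟩
        · rw [Subgroup.coe_one, map_one, one_mul, mul_one]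
        · rw [Subgroup.coe_one, inv_one, mul_one]
          exact hs
      · refine ⟨⟨dG, hdD⟩, ?_, ?_⟩
        · rw [← hX]; exact hXx
        · exact hsq a.1 hs
    have hc₁cp : Phi ⇑Q c₁.1 ∈ cpAut Q hQ hne k hk := by
      rw [cpAut_eq_range_PhiD Q hQ hne k hk h2]
      exact ⟨c₁, rfl⟩
    obtain ⟨a₁, ha₁⟩ : ∃ a₁ : ↥(Dsub Q h2 hQ hne k hk), a₁ = a * c₁⁻¹ := ⟨_, rfl⟩
    have ha₁ker : a₁ ∈ (psi1D Q h2 hQ hne k hk).ker := by
      rw [MonoidHom.mem_ker, psi1D_apply, psi1_eq_one_iff, ha₁]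
      exact hc₁s
    have ha₁pso : Phi ⇑Q a₁.1 ∈ Cfsg.psoAut F ⇑Q := by
      rw [← map_ker_psi1D Q h2 hQ hne k hk h5]
      exact ⟨a₁, ha₁ker, rfl⟩
    have ha₁eq : Phi ⇑Q a₁.1 = PhiD Q h2 hQ hne k hk a * (Phi ⇑Q c₁.1)⁻¹ := by
      rw [ha₁, PhiD_apply, ← map_inv, ← map_mul]
      rfl
    rw [psoAut_eq'] at ha₁pso
    obtain ⟨w₀, hw₀S, hw₀⟩ := ha₁pso
    by_cases hw₀Ω : w₀ ∈ Cfsg.Omega F ⇑Q
    · refine ⟨Phi ⇑Q c₁.1, hc₁cp, hc₁x, ?_⟩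
      rw [← ha₁eq, ← hw₀, Inn_eq']
      exact ⟨w₀, hw₀Ω, rfl⟩
    · refine ⟨Y * Phi ⇑Q c₁.1, ?_, ?_, ?_⟩
      · apply mul_mem _ hc₁cp
        apply pso_le_cpAut Q h2 hQ hne k hk h5
        rw [psoAut_eq', hY]
        exact ⟨w, hwS, rfl⟩
      · rw [mul_assoc, hc₁x, ← mul_assoc, hYx, mul_assoc]
      · rw [_root_.mul_inv_rev, ← mul_assoc, ← ha₁eq, ← hw₀, hY, ← map_inv, ← map_mul, Inn_eq']
        exact ⟨w₀ * w⁻¹, mul_inv_mem_of_relIndex_two (relIndex_two Q h2 hQ h5) hw₀S hwS hw₀Ω hwΩ,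
          rfl⟩

include h2 hQ h5 in
/-- **the classes of an element of odd order prime to the characteristic.** -/
theorem classes_eq (x : MulAut (Cfsg.POmega F ⇑Q)) (hx : x ∈ Cfsg.pgoAut F ⇑Q) {r : ℕ}
    (hr : Odd r) (hrF : (r : F) ≠ 0) (hxr : x ^ r = 1) :
    (∀ y, (Cfsg.IsConjUnder (Cfsg.Inn (Cfsg.POmega F ⇑Q)) x y ↔
        Cfsg.IsConjUnder (cpAut Q hQ hne k hk) x y) ∧
      (Cfsg.IsConjUnder (Cfsg.psoAut F ⇑Q) x y ↔
        Cfsg.IsConjUnder (cpAut Q hQ hne k hk) x y)) ∧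
    (∀ y, Cfsg.IsConjUnder (Cfsg.poAut F ⇑Q) x y ↔ Cfsg.IsConjUnder (Cfsg.pgoAut F ⇑Q) x y) := by
  obtain ⟨hc1, hc2⟩ := exists_cover Q h2 hQ hne k hk h5 x hx hr hrF hxr
  have hpsocp := pso_le_cpAut Q h2 hQ hne k hk h5
  have hInnpso := Inn_le_pso Q
  refine ⟨fun y => ⟨?_, ?_⟩, fun y => ?_⟩
  · exact isConjUnder_iff_of_cover (hInnpso.trans hpsocp) x hc2 y
  · apply isConjUnder_iff_of_cover hpsocp x _ y
    intro h hh
    obtain ⟨c, hc, hcx, hcI⟩ := hc2 h hh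
    exact ⟨c, hc, hcx, hInnpso hcI⟩
  · apply isConjUnder_iff_of_cover _ x hc1 y
    rw [poAut_eq', pgoAut_eq]
    rintro _ ⟨s, rfl⟩
    exact ⟨_, rfl⟩

end Cfsg.Agent.Helper8.SsCls
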