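import Mathlib

/-!
# S2221 support, part A: cutting a permutation down to an invariant set
-/

namespace Cfsg.Agent.Helper8.SylAlt

open Equiv Classical

variable {Ω : Type*}

/-- The permutations preserving the set `O`. -/
def presSub (O : Set Ω) : Subgroup (Perm Ω) where
  carrier := {g | ∀ a, g a ∈ O ↔ a ∈ O}
  one_mem' := fun _ => Iff.rfl
  mul_mem' := by
    intro g h hg hh a
    rw [Perm.mul_apply, hg, hh]
  inv_mem' := by
    intro g hg a
    have := hg (g⁻¹ a)
    rw [show g (g⁻¹ a) = a from by simp] at this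
    exact this.symm

theorem mem_presSub {O : Set Ω} {g : Perm Ω} : g ∈ presSub O ↔ ∀ a, g a ∈ O ↔ a ∈ O := Iff.rfl

theorem presSub_compl (O : Set Ω) : presSub Oᶜ = presSub O := by
  ext g
  simp only [mem_presSub, Set.mem_compl_iff]
  exact ⟨fun h a => not_iff_not.mp (h a), fun h a => not_iff_not.mpr (h a)⟩

theorem mem_presSub_compl {O : Set Ω} {g : Perm Ω} (hg : g ∈ presSub O) : g ∈ presSub Oᶜ := by
  rw [presSub_compl]; exact hg

theorem mem_presSub_of_fix {O : Set Ω} {g : Perm Ω} (h : ∀ a, a ∉ O → g a = a) :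
    g ∈ presSub O := by
  intro a
  constructor
  · intro hga
    by_contra ha
    rw [h a ha] at hga
    exact ha hga
  · intro ha
    by_contra hga
    have h2 := h (g a) hga
    have : g a = a := g.injective h2
    rw [this] at hga
    exact hga ha

theorem mem_presSub_union {O O' : Set Ω} {g : Perm Ω} (hg : g ∈ presSub O) (hg' : g ∈ presSub O') :
    g ∈ presSub (O ∪ O') := by
  intro a
  simp only [Set.mem_union, hg a, hg' a]

/-- `cut O g` acts as `g` on `O` and as the identity elsewhere (junk value `1` when `g` does not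
preserve `O`). -/
noncomputable def cut (O : Set Ω) (g : Perm Ω) : Perm Ω :=
  if h : g ∈ presSub O then Perm.ofSubtype (g.subtypePerm h) else 1

theorem cut_of_mem {O : Set Ω} {g : Perm Ω} (h : g ∈ presSub O) :
    cut O g = Perm.ofSubtype (g.subtypePerm h) := by
  unfold cut; rw [dif_pos h]

theorem cut_of_not_mem {O : Set Ω} {g : Perm Ω} (h : g ∉ presSub O) : cut O g = 1 := by
  unfold cut; rw [dif_neg h]

theorem cut_apply_mem {O : Set Ω} {g : Perm Ω} (h : g ∈ presSub O) {a : Ω} (ha : a ∈ O) :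
    cut O g a = g a := by
  rw [cut_of_mem h, Perm.ofSubtype_apply_of_mem _ ha]; rfl

theorem cut_apply_not_mem {O : Set Ω} {g : Perm Ω} {a : Ω} (ha : a ∉ O) : cut O g a = a := by
  by_cases h : g ∈ presSub O
  · rw [cut_of_mem h, Perm.ofSubtype_apply_of_not_mem _ ha]
  · rw [cut_of_not_mem h]; rfl

theorem cut_one (O : Set Ω) : cut O (1 : Perm Ω) = 1 := by
  ext a
  by_cases ha : a ∈ O
  · rw [cut_apply_mem (one_mem _) ha]
  · rw [cut_apply_not_mem ha]; rfl

theorem cut_mul {O : Set Ω} {g h : Perm Ω} (hg : g ∈ presSub O) (hh : h ∈ presSub O) :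
    cut O (g * h) = cut O g * cut O h := by
  ext a
  by_cases ha : a ∈ O
  · rw [cut_apply_mem (mul_mem hg hh) ha, Perm.mul_apply, Perm.mul_apply, cut_apply_mem hh ha,
      cut_apply_mem hg ((hh a).mpr ha)]
  · rw [cut_apply_not_mem ha, Perm.mul_apply, cut_apply_not_mem ha, cut_apply_not_mem ha]

theorem cut_inv {O : Set Ω} {g : Perm Ω} (hg : g ∈ presSub O) : cut O g⁻¹ = (cut O g)⁻¹ := by
  rw [eq_inv_iff_mul_eq_one, ← cut_mul (inv_mem hg) hg, inv_mul_cancel, cut_one]

theorem cut_pow {O : Set Ω} {g : Perm Ω} (hg : g ∈ presSub O) (m : ℕ) :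
    cut O (g ^ m) = (cut O g) ^ m := by
  induction m with
  | zero => simp [cut_one]
  | succ m ih => rw [pow_succ, pow_succ, cut_mul (pow_mem hg m) hg, ih]

theorem cut_mem_presSub {O O' : Set Ω} {g : Perm Ω} (hg' : g ∈ presSub O') :
    cut O g ∈ presSub O' := by
  by_cases hg : g ∈ presSub O
  · intro a
    by_cases ha : a ∈ O
    · rw [cut_apply_mem hg ha]; exact hg' a
    · rw [cut_apply_not_mem ha]
  · rw [cut_of_not_mem hg]; exact one_mem _

theorem cut_mem_presSub_self {O : Set Ω} {g : Perm Ω} : cut O g ∈ presSub O := by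
  apply mem_presSub_of_fix
  intro a ha
  exact cut_apply_not_mem ha

theorem cut_mul_cut_compl {O : Set Ω} {g : Perm Ω} (hg : g ∈ presSub O) :
    cut O g * cut Oᶜ g = g := by
  ext a
  rw [Perm.mul_apply]
  by_cases ha : a ∈ O
  · rw [cut_apply_not_mem (O := Oᶜ) (by simpa using ha), cut_apply_mem hg ha]
  · have ha' : a ∈ Oᶜ := ha
    rw [cut_apply_mem (mem_presSub_compl hg) ha']
    have : g a ∉ O := fun h => ha ((hg a).mp h)
    rw [cut_apply_not_mem this]

theorem cut_compl_mul_cut {O : Set Ω} {g : Perm Ω} (hg : g ∈ presSub O) :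
    cut Oᶜ g * cut O g = g := by
  have := cut_mul_cut_compl (O := Oᶜ) (g := g) (mem_presSub_compl hg)
  rwa [compl_compl] at this

theorem disjoint_cut_cut {O O' : Set Ω} (hd : Disjoint O O') (g h : Perm Ω) :
    Perm.Disjoint (cut O g) (cut O' h) := by
  intro a
  by_cases ha : a ∈ O
  · right
    exact cut_apply_not_mem (fun h' => (Set.disjoint_left.mp hd ha h'))
  · left
    exact cut_apply_not_mem ha

theorem commute_cut_cut {O O' : Set Ω} (hd : Disjoint O O') (g h : Perm Ω) :
    Commute (cut O g) (cut O' h) :=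
  (disjoint_cut_cut hd g h).commute

theorem commute_cut_compl (O : Set Ω) (g h : Perm Ω) : Commute (cut O g) (cut Oᶜ h) :=
  commute_cut_cut disjoint_compl_right g h

theorem cut_eq_self {O : Set Ω} {g : Perm Ω} (h : ∀ a, a ∉ O → g a = a) : cut O g = g := by
  have hg := mem_presSub_of_fix h
  ext a
  by_cases ha : a ∈ O
  · rw [cut_apply_mem hg ha]
  · rw [cut_apply_not_mem ha, h a ha]

theorem cut_cut_self (O : Set Ω) (g : Perm Ω) : cut O (cut O g) = cut O g :=
  cut_eq_self (fun _ ha => cut_apply_not_mem ha)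

theorem cut_eq_one_of_fix {O : Set Ω} {g : Perm Ω} (h : ∀ a, a ∈ O → g a = a) : cut O g = 1 := by
  ext a
  by_cases ha : a ∈ O
  · by_cases hg : g ∈ presSub O
    · rw [cut_apply_mem hg ha, h a ha]; rfl
    · rw [cut_of_not_mem hg]
  · rw [cut_apply_not_mem ha]; rfl

theorem cut_cut_disj {O O' : Set Ω} (hd : Disjoint O O') (g : Perm Ω) :
    cut O (cut O' g) = 1 :=
  cut_eq_one_of_fix (fun _ ha => cut_apply_not_mem (fun h' => Set.disjoint_left.mp hd ha h'))

theorem cut_cut_of_subset {O₁ O₂ : Set Ω} (hsub : O₁ ⊆ O₂) {g : Perm Ω} (h₁ : g ∈ presSub O₁)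
    (h₂ : g ∈ presSub O₂) : cut O₁ (cut O₂ g) = cut O₁ g := by
  ext a
  by_cases ha : a ∈ O₁
  · rw [cut_apply_mem (cut_mem_presSub h₁) ha, cut_apply_mem h₂ (hsub ha), cut_apply_mem h₁ ha]
  · rw [cut_apply_not_mem ha, cut_apply_not_mem ha]

theorem cut_union {O O' : Set Ω} (hd : Disjoint O O') {g : Perm Ω} (hg : g ∈ presSub O)
    (hg' : g ∈ presSub O') : cut (O ∪ O') g = cut O g * cut O' g := by
  ext a
  rw [Perm.mul_apply]
  by_cases ha : a ∈ O
  · have ha' : a ∉ O' := fun h' => Set.disjoint_left.mp hd ha h'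
    rw [cut_apply_mem (mem_presSub_union hg hg') (Or.inl ha), cut_apply_not_mem ha',
      cut_apply_mem hg ha]
  · by_cases ha' : a ∈ O'
    · rw [cut_apply_mem (mem_presSub_union hg hg') (Or.inr ha'), cut_apply_mem hg' ha']
      have : g a ∉ O := fun h' => Set.disjoint_left.mp hd h' ((hg' a).mpr ha')
      rw [cut_apply_not_mem this]
    · rw [cut_apply_not_mem (by simp [ha, ha']), cut_apply_not_mem ha', cut_apply_not_mem ha]

theorem cut_univ (g : Perm Ω) : cut Set.univ g = g :=
  cut_eq_self (fun a ha => absurd (Set.mem_univ a) ha)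

theorem cut_empty (g : Perm Ω) : cut (∅ : Set Ω) g = 1 :=
  cut_eq_one_of_fix (fun _ ha => absurd ha (Set.notMem_empty _))

/-- `cut O` as a homomorphism on `presSub O`. -/
noncomputable def cutHom (O : Set Ω) : presSub O →* Perm Ω where
  toFun g := cut O g.1
  map_one' := cut_one O
  map_mul' g h := cut_mul g.2 h.2

theorem cutHom_apply (O : Set Ω) (g : presSub O) : cutHom O g = cut O g.1 := rfl

theorem ofSubtype_mem_presSub {O : Set Ω} (r : Perm ↥O) :
    Perm.ofSubtype r ∈ presSub O := by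
  apply mem_presSub_of_fix
  intro a ha
  exact Perm.ofSubtype_apply_of_not_mem r ha

theorem cut_ofSubtype {O : Set Ω} (r : Perm ↥O) : cut O (Perm.ofSubtype r) = Perm.ofSubtype r :=
  cut_eq_self (fun _ ha => Perm.ofSubtype_apply_of_not_mem r ha)

theorem subtypePerm_ofSubtype' {O : Set Ω} (r : Perm ↥O) :
    (Perm.ofSubtype r).subtypePerm (ofSubtype_mem_presSub r) = r := by
  ext ⟨a, ha⟩
  simp

section sign

variable [Fintype Ω] [DecidableEq Ω]

theorem sign_eq_cut_mul_cut_compl {O : Set Ω} {g : Perm Ω} (hg : g ∈ presSub O) :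
    Perm.sign g = Perm.sign (cut O g) * Perm.sign (cut Oᶜ g) := by
  conv_lhs => rw [← cut_mul_cut_compl hg]
  rw [Perm.sign_mul]

end sign

end Cfsg.Agent.Helper8.SylAlt
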