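import Cfsg.Agent.Helper8.SylAltA

/-!
# S2221 support, part B: a Sylow subgroup of a symmetric group is the product of its restrictions
-/

namespace Cfsg.Agent.Helper8.SylAlt

open Equiv Classical

theorem isPGroup_prod {p : ℕ} {G H : Type*} [Group G] [Group H] (hG : IsPGroup p G)
    (hH : IsPGroup p H) : IsPGroup p (G × H) := by
  rintro ⟨g, h⟩
  obtain ⟨k₁, hk₁⟩ := hG g
  obtain ⟨k₂, hk₂⟩ := hH h
  refine ⟨k₁ + k₂, ?_⟩
  rw [Prod.pow_mk, pow_add, pow_mul, hk₁, one_pow, mul_comm, pow_mul, hk₂, one_pow]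
  rfl

variable {Ω : Type*} [Fintype Ω] [DecidableEq Ω]

theorem range_eq_of_le (Q : Sylow 2 (Perm Ω)) {R : Type*} [Group R] (hR : IsPGroup 2 R)
    (φ : R →* Perm Ω) (hle : (Q : Subgroup (Perm Ω)) ≤ φ.range) :
    φ.range = (Q : Subgroup (Perm Ω)) :=
  Q.is_maximal' (hR.of_surjective φ.rangeRestrict φ.rangeRestrict_surjective) hle

/-- (O1) the cut of an element of a Sylow subgroup to an invariant set stays in it. -/
theorem cut_mem_sylow (Q : Sylow 2 (Perm Ω)) {O : Set Ω}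
    (hO : (Q : Subgroup (Perm Ω)) ≤ presSub O) {x : Perm Ω} (hx : x ∈ Q) : cut O x ∈ Q := by
  let φ : (↥(Q : Subgroup (Perm Ω)) × ↥(Q : Subgroup (Perm Ω))) →* Perm Ω :=
    MonoidHom.mk' (fun p => cut O p.1.1 * cut Oᶜ p.2.1) (by
      rintro ⟨x, y⟩ ⟨x', y'⟩
      simp only [Prod.mk_mul_mk, Subgroup.coe_mul]
      rw [cut_mul (hO x.2) (hO x'.2), cut_mul (mem_presSub_compl (hO y.2))
        (mem_presSub_compl (hO y'.2))]
      exact (commute_cut_compl O x'.1 y.1).mul_mul_mul_comm _ _)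
  have hle : (Q : Subgroup (Perm Ω)) ≤ φ.range := by
    intro y hy
    refine ⟨(⟨y, hy⟩, ⟨y, hy⟩), ?_⟩
    exact cut_mul_cut_compl (hO hy)
  have hrange := range_eq_of_le Q (isPGroup_prod Q.isPGroup' Q.isPGroup') φ hle
  have : cut O x ∈ φ.range := by
    refine ⟨(⟨x, hx⟩, 1), ?_⟩
    show cut O x * cut Oᶜ 1 = cut O x
    rw [cut_one, mul_one]
  rw [hrange] at this
  exact this

/-- (O2) the restriction of a Sylow subgroup to an invariant set is a Sylow subgroup. -/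
noncomputable def resSyl (Q : Sylow 2 (Perm Ω)) (O : Set Ω)
    (hO : (Q : Subgroup (Perm Ω)) ≤ presSub O) : Sylow 2 (Perm ↥O) where
  toSubgroup := (Q : Subgroup (Perm Ω)).comap Perm.ofSubtype
  isPGroup' := Q.isPGroup'.comap_of_injective _ Perm.ofSubtype_injective
  is_maximal' := by
    intro R hR hle
    apply le_antisymm _ hle
    let φ : (↥R × ↥(Q : Subgroup (Perm Ω))) →* Perm Ω :=
      MonoidHom.mk' (fun p => Perm.ofSubtype p.1.1 * cut Oᶜ p.2.1) (by
        rintro ⟨r, y⟩ ⟨r', y'⟩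
        simp only [Prod.mk_mul_mk, Subgroup.coe_mul, map_mul]
        rw [cut_mul (mem_presSub_compl (hO y.2)) (mem_presSub_compl (hO y'.2))]
        have hc : Commute (Perm.ofSubtype r'.1) (cut Oᶜ y.1) := by
          rw [← cut_ofSubtype r'.1]
          exact commute_cut_compl O _ _
        exact hc.mul_mul_mul_comm _ _)
    have hleφ : (Q : Subgroup (Perm Ω)) ≤ φ.range := by
      intro y hy
      have h1 : (y.subtypePerm (hO hy)) ∈ R := by
        apply hle
        show Perm.ofSubtype (y.subtypePerm (hO hy)) ∈ (Q : Subgroup (Perm Ω))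
        rw [← cut_of_mem (hO hy)]
        exact cut_mem_sylow Q hO hy
      refine ⟨(⟨_, h1⟩, ⟨y, hy⟩), ?_⟩
      show Perm.ofSubtype (y.subtypePerm (hO hy)) * cut Oᶜ y = y
      rw [← cut_of_mem (hO hy)]
      exact cut_mul_cut_compl (hO hy)
    have hrange := range_eq_of_le Q (isPGroup_prod hR Q.isPGroup') φ hleφ
    intro r hr
    show Perm.ofSubtype r ∈ (Q : Subgroup (Perm Ω))
    rw [← hrange]
    refine ⟨(⟨r, hr⟩, 1), ?_⟩
    show Perm.ofSubtype r * cut Oᶜ 1 = Perm.ofSubtype r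
    rw [cut_one, mul_one]

theorem mem_resSyl {Q : Sylow 2 (Perm Ω)} {O : Set Ω}
    {hO : (Q : Subgroup (Perm Ω)) ≤ presSub O} {r : Perm ↥O} :
    r ∈ resSyl Q O hO ↔ Perm.ofSubtype r ∈ Q := Iff.rfl

/-- restriction map from `Q` onto its restricted Sylow subgroup. -/
noncomputable def resHom (Q : Sylow 2 (Perm Ω)) (O : Set Ω)
    (hO : (Q : Subgroup (Perm Ω)) ≤ presSub O) : ↥(Q : Subgroup (Perm Ω)) →* ↥(resSyl Q O hO) where
  toFun x := ⟨x.1.subtypePerm (hO x.2), by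
    rw [mem_resSyl, ← cut_of_mem (hO x.2)]
    exact cut_mem_sylow Q hO x.2⟩
  map_one' := by
    apply Subtype.ext
    ext a
    simp
  map_mul' x y := by
    apply Subtype.ext
    ext a
    rfl

theorem ofSubtype_resHom (Q : Sylow 2 (Perm Ω)) (O : Set Ω)
    (hO : (Q : Subgroup (Perm Ω)) ≤ presSub O) (x : ↥(Q : Subgroup (Perm Ω))) :
    Perm.ofSubtype (resHom Q O hO x).1 = cut O x.1 :=
  (cut_of_mem (hO x.2)).symm

theorem resHom_surjective (Q : Sylow 2 (Perm Ω)) (O : Set Ω)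
    (hO : (Q : Subgroup (Perm Ω)) ≤ presSub O) : Function.Surjective (resHom Q O hO) := by
  rintro ⟨r, hr⟩
  refine ⟨⟨Perm.ofSubtype r, hr⟩, ?_⟩
  apply Subtype.ext
  exact subtypePerm_ofSubtype' r

theorem resHom_eq_iff (Q : Sylow 2 (Perm Ω)) (O : Set Ω)
    (hO : (Q : Subgroup (Perm Ω)) ≤ presSub O) (x y : ↥(Q : Subgroup (Perm Ω))) :
    resHom Q O hO x = resHom Q O hO y ↔ cut O x.1 = cut O y.1 := by
  rw [← ofSubtype_resHom Q O hO x, ← ofSubtype_resHom Q O hO y]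
  constructor
  · intro h; rw [h]
  · intro h
    exact Subtype.ext (Perm.ofSubtype_injective h)

end Cfsg.Agent.Helper8.SylAlt
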