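import Cfsg.Agent.Helper8.SylAltB

/-!
# S2221 support, part C: orbits of a Sylow 2-subgroup of a symmetric group
-/

namespace Cfsg.Agent.Helper8.SylAlt

open Equiv Classical Pointwise

theorem exists_conj_mem_sylow {G : Type*} [Group G] [Finite G] {p : ℕ} [Fact p.Prime]
    (P : Sylow p G) {y : G} (hy : IsPGroup p (Subgroup.zpowers y)) :
    ∃ g : G, g * y * g⁻¹ ∈ P := by
  obtain ⟨P', hle⟩ := hy.exists_le_sylow
  obtain ⟨g, hg⟩ := MulAction.exists_smul_eq G P' P
  refine ⟨g, ?_⟩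
  have h1 : y ∈ P' := hle (Subgroup.mem_zpowers y)
  have h2 : MulAut.conj g • y ∈ MulAut.conj g • (P' : Subgroup G) :=
    Subgroup.smul_mem_pointwise_smul _ _ _ h1
  rw [← hg]
  show g * y * g⁻¹ ∈ ((g • P' : Sylow p G) : Subgroup G)
  rw [Sylow.coe_subgroup_smul]
  simpa [MulAut.smul_def, MulAut.conj_apply] using h2

variable {Ω : Type*} [Fintype Ω] [DecidableEq Ω]

/-- the orbit of `ω` under the subgroup `Q` as a set. -/
def orb (Q : Subgroup (Perm Ω)) (ω : Ω) : Set Ω := MulAction.orbit (↥Q) ω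

theorem mem_orb {Q : Subgroup (Perm Ω)} {ω a : Ω} : a ∈ orb Q ω ↔ ∃ x ∈ Q, x ω = a := by
  unfold orb
  rw [MulAction.mem_orbit_iff]
  constructor
  · rintro ⟨x, hx⟩; exact ⟨x.1, x.2, hx⟩
  · rintro ⟨x, hx, h⟩; exact ⟨⟨x, hx⟩, h⟩

theorem self_mem_orb (Q : Subgroup (Perm Ω)) (ω : Ω) : ω ∈ orb Q ω :=
  mem_orb.mpr ⟨1, one_mem _, rfl⟩

theorem orb_eq_of_mem {Q : Subgroup (Perm Ω)} {ω a : Ω} (h : a ∈ orb Q ω) : orb Q a = orb Q ω := by
  unfold orb at *
  exact MulAction.orbit_eq_iff.mpr h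

theorem le_presSub_orb (Q : Subgroup (Perm Ω)) (ω : Ω) : Q ≤ presSub (orb Q ω) := by
  intro x hx a
  constructor
  · intro h
    obtain ⟨y, hy, hya⟩ := mem_orb.mp h
    refine mem_orb.mpr ⟨x⁻¹ * y, mul_mem (inv_mem hx) hy, ?_⟩
    rw [Perm.mul_apply, hya]; simp
  · intro h
    obtain ⟨y, hy, hya⟩ := mem_orb.mp h
    refine mem_orb.mpr ⟨x * y, mul_mem hx hy, ?_⟩
    rw [Perm.mul_apply, hya]

theorem orb_disjoint_or_eq (Q : Subgroup (Perm Ω)) (ω ω' : Ω) :
    orb Q ω = orb Q ω' ∨ Disjoint (orb Q ω) (orb Q ω') := by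
  by_cases h : Disjoint (orb Q ω) (orb Q ω')
  · exact Or.inr h
  · left
    rw [Set.not_disjoint_iff] at h
    obtain ⟨a, ha, ha'⟩ := h
    rw [← orb_eq_of_mem ha, ← orb_eq_of_mem ha']

theorem card_orb (Q : Sylow 2 (Perm Ω)) (ω : Ω) :
    ∃ k : ℕ, Nat.card ↥(orb (Q : Subgroup (Perm Ω)) ω) = 2 ^ k := by
  unfold orb
  exact Q.isPGroup'.card_orbit ω

/-- an orbit with at least two points carries a transposition of `Q`. -/
theorem exists_swap_mem (Q : Sylow 2 (Perm Ω)) {ω a : Ω}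
    (ha : a ∈ orb (Q : Subgroup (Perm Ω)) ω) (hne : a ≠ ω) :
    ∃ c d : Ω, c ∈ orb (Q : Subgroup (Perm Ω)) ω ∧ d ∈ orb (Q : Subgroup (Perm Ω)) ω ∧ c ≠ d ∧
      swap c d ∈ Q := by
  set O := orb (Q : Subgroup (Perm Ω)) ω with hOdef
  have hO := le_presSub_orb (Q : Subgroup (Perm Ω)) ω
  let a' : ↥O := ⟨a, ha⟩
  let w' : ↥O := ⟨ω, self_mem_orb _ ω⟩
  have hne' : a' ≠ w' := fun h => hne (congrArg Subtype.val h)
  have hp : IsPGroup 2 (Subgroup.zpowers (swap a' w')) := by
    apply IsPGroup.of_card (n := 1)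
    rw [Nat.card_zpowers, pow_one]
    exact Equiv.Perm.IsSwap.orderOf ⟨a', w', hne', rfl⟩
  obtain ⟨g, hg⟩ := exists_conj_mem_sylow (resSyl Q O hO) hp
  refine ⟨(g a').1, (g w').1, (g a').2, (g w').2, ?_, ?_⟩
  · intro h
    exact hne' (g.injective (Subtype.ext h))
  · have h1 : g * swap a' w' * g⁻¹ = swap (g a') (g w') := by
      rw [Equiv.swap_apply_apply]
    rw [h1, mem_resSyl, Perm.ofSubtype_swap_eq] at hg
    exact hg

/-- a permutation preserving every `Q`-orbit lies in a subgroup as soon as all its cuts to orbits do. -/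
theorem mem_of_forall_cut_mem (Q : Subgroup (Perm Ω)) (S : Subgroup (Perm Ω)) :
    ∀ (m : ℕ) (x : Perm Ω), (Finset.univ.filter (fun a => x a ≠ a)).card = m →
      (∀ ω, x ∈ presSub (orb Q ω)) → (∀ ω, cut (orb Q ω) x ∈ S) → x ∈ S := by
  intro m
  induction m using Nat.strong_induction_on with
  | _ m ih =>
    intro x hm hx hcut
    by_cases h1 : ∀ a, x a = a
    · have : x = 1 := Equiv.ext h1
      rw [this]; exact one_mem _
    · push Not at h1
      obtain ⟨a, ha⟩ := h1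
      set O := orb Q a with hO
      have hxO := hx a
      have hdec : x = cut O x * cut Oᶜ x := (cut_mul_cut_compl hxO).symm
      rw [hdec]
      refine mul_mem (hcut a) ?_
      have hsub : (Finset.univ.filter (fun b => (cut Oᶜ x) b ≠ b)) ⊂
          (Finset.univ.filter (fun b => x b ≠ b)) := by
        rw [Finset.ssubset_iff_of_subset]
        · refine ⟨a, by simp [ha], ?_⟩
          simp only [Finset.mem_filter, Finset.mem_univ, true_and, not_not]
          exact cut_apply_not_mem (by simpa using self_mem_orb Q a)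
        · intro b hb
          simp only [Finset.mem_filter, Finset.mem_univ, true_and] at hb ⊢
          by_cases hbO : b ∈ O
          · exact absurd (cut_apply_not_mem (O := Oᶜ) (g := x) (by simpa using hbO)) hb
          · have hbO' : b ∈ Oᶜ := hbO
            rwa [cut_apply_mem (mem_presSub_compl hxO) hbO'] at hb
      refine ih _ (by rw [← hm]; exact Finset.card_lt_card hsub) (cut Oᶜ x) rfl ?_ ?_
      · intro ω
        exact cut_mem_presSub (hx ω)
      · intro ω
        rcases orb_disjoint_or_eq Q ω a with h | h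
        · rw [h, cut_cut_disj disjoint_compl_right]
          exact one_mem _
        · have hsub' : orb Q ω ⊆ Oᶜ := by
            intro b hb hbO
            exact Set.disjoint_left.mp h hb hbO
          rw [cut_cut_of_subset hsub' (hx ω) (mem_presSub_compl hxO)]
          exact hcut ω

theorem mem_of_forall_cut_mem' (Q : Subgroup (Perm Ω)) (S : Subgroup (Perm Ω)) {x : Perm Ω}
    (hx : x ∈ Q) (hcut : ∀ ω, cut (orb Q ω) x ∈ S) : x ∈ S :=
  mem_of_forall_cut_mem Q S _ x rfl (fun ω => le_presSub_orb Q ω hx) hcut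

end Cfsg.Agent.Helper8.SylAlt
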