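import Cfsg.Agent.Helper8.SylAltC

/-!
# S2221 support, part D: orders, and distinct orbits have distinct sizes
-/

namespace Cfsg.Agent.Helper8.SylAlt

open Equiv Classical

variable {Ω : Type*} [Fintype Ω] [DecidableEq Ω]

/-- the elements of `Q` supported on the invariant set `X`. -/
def supp (Q : Subgroup (Perm Ω)) (X : Set Ω) : Subgroup (Perm Ω) where
  carrier := {y | y ∈ Q ∧ ∀ a, a ∉ X → y a = a}
  one_mem' := ⟨one_mem _, fun _ _ => rfl⟩
  mul_mem' := by
    rintro y y' ⟨hy, h⟩ ⟨hy', h'⟩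
    refine ⟨mul_mem hy hy', fun a ha => ?_⟩
    rw [Perm.mul_apply, h' a ha, h a ha]
  inv_mem' := by
    rintro y ⟨hy, h⟩
    refine ⟨inv_mem hy, fun a ha => ?_⟩
    rw [Perm.inv_eq_iff_eq, h a ha]

theorem mem_supp {Q : Subgroup (Perm Ω)} {X : Set Ω} {y : Perm Ω} :
    y ∈ supp Q X ↔ y ∈ Q ∧ ∀ a, a ∉ X → y a = a := Iff.rfl

theorem supp_le (Q : Subgroup (Perm Ω)) (X : Set Ω) : supp Q X ≤ Q := fun _ h => h.1

theorem cut_mem_supp (Q : Sylow 2 (Perm Ω)) {X : Set Ω}
    (hX : (Q : Subgroup (Perm Ω)) ≤ presSub X) {y : Perm Ω} (hy : y ∈ Q) :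
    cut X y ∈ supp (Q : Subgroup (Perm Ω)) X :=
  ⟨cut_mem_sylow Q hX hy, fun _ ha => cut_apply_not_mem ha⟩

theorem cut_eq_of_mem_supp {Q : Subgroup (Perm Ω)} {X : Set Ω} {y : Perm Ω}
    (hy : y ∈ supp Q X) : cut X y = y := cut_eq_self hy.2

/-- `supp Q X` has the order of the restricted Sylow subgroup. -/
theorem card_supp (Q : Sylow 2 (Perm Ω)) (X : Set Ω)
    (hX : (Q : Subgroup (Perm Ω)) ≤ presSub X) :
    Nat.card ↥(supp (Q : Subgroup (Perm Ω)) X) = 2 ^ ((Nat.card ↥X).factorial).factorization 2 := by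
  have h1 : Nat.card ↥(resSyl Q X hX) = 2 ^ ((Nat.card ↥X).factorial).factorization 2 := by
    have := Sylow.card_eq_multiplicity (resSyl Q X hX)
    rw [Nat.card_perm] at this
    exact this
  rw [← h1]
  let f : ↥(resSyl Q X hX) → ↥(supp (Q : Subgroup (Perm Ω)) X) := fun r =>
    ⟨Perm.ofSubtype r.1, mem_resSyl.mp r.2, fun a ha => Perm.ofSubtype_apply_of_not_mem r.1 ha⟩
  have hf : Function.Bijective f := by
    constructor
    · intro r r' h
      apply Subtype.ext
      apply Perm.ofSubtype_injective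
      exact congrArg Subtype.val h
    · rintro ⟨y, hy⟩
      have hyX : y ∈ presSub X := hX hy.1
      refine ⟨⟨y.subtypePerm hyX, ?_⟩, ?_⟩
      · rw [mem_resSyl, ← cut_of_mem hyX, cut_eq_of_mem_supp hy]
        exact hy.1
      · apply Subtype.ext
        show Perm.ofSubtype (y.subtypePerm hyX) = y
        rw [← cut_of_mem hyX, cut_eq_of_mem_supp hy]
  exact (Nat.card_congr (Equiv.ofBijective f hf)).symm

/-- for disjoint invariant sets the supported subgroups multiply. -/
theorem card_supp_union (Q : Sylow 2 (Perm Ω)) {X Y : Set Ω} (hd : Disjoint X Y)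
    (hX : (Q : Subgroup (Perm Ω)) ≤ presSub X) (hY : (Q : Subgroup (Perm Ω)) ≤ presSub Y) :
    Nat.card ↥(supp (Q : Subgroup (Perm Ω)) (X ∪ Y)) =
      Nat.card ↥(supp (Q : Subgroup (Perm Ω)) X) * Nat.card ↥(supp (Q : Subgroup (Perm Ω)) Y) := by
  rw [← Nat.card_prod]
  let f : ↥(supp (Q : Subgroup (Perm Ω)) X) × ↥(supp (Q : Subgroup (Perm Ω)) Y) →
      ↥(supp (Q : Subgroup (Perm Ω)) (X ∪ Y)) := fun p =>
    ⟨p.1.1 * p.2.1, mul_mem p.1.2.1 p.2.2.1, fun a ha => by
      have haX : a ∉ X := fun h => ha (Or.inl h)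
      have haY : a ∉ Y := fun h => ha (Or.inr h)
      rw [Perm.mul_apply, p.2.2.2 a haY, p.1.2.2 a haX]⟩
  have hf : Function.Bijective f := by
    constructor
    · rintro ⟨⟨a, ha⟩, ⟨b, hb⟩⟩ ⟨⟨a', ha'⟩, ⟨b', hb'⟩⟩ h
      have h0 : a * b = a' * b' := congrArg Subtype.val h
      have e1 : cut X (a * b) = a := by
        rw [cut_mul (hX ha.1) (hX hb.1), cut_eq_of_mem_supp ha,
          cut_eq_one_of_fix (fun c hc => hb.2 c (fun h' => Set.disjoint_left.mp hd hc h')), mul_one]
      have e2 : cut X (a' * b') = a' := by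
        rw [cut_mul (hX ha'.1) (hX hb'.1), cut_eq_of_mem_supp ha',
          cut_eq_one_of_fix (fun c hc => hb'.2 c (fun h' => Set.disjoint_left.mp hd hc h')),
          mul_one]
      have haa : a = a' := by rw [← e1, ← e2, h0]
      subst haa
      have hbb : b = b' := mul_left_cancel h0
      subst hbb
      rfl
    · rintro ⟨y, hy⟩
      have hyX := hX hy.1
      have hyY := hY hy.1
      refine ⟨(⟨cut X y, cut_mem_supp Q hX hy.1⟩, ⟨cut Y y, cut_mem_supp Q hY hy.1⟩), ?_⟩
      apply Subtype.ext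
      show cut X y * cut Y y = y
      rw [← cut_union hd hyX hyY]
      exact cut_eq_self hy.2
  exact (Nat.card_congr (Equiv.ofBijective f hf)).symm

theorem factorization_two_mul_factorial (m : ℕ) (hm : 0 < m) :
    1 + 2 * (m.factorial).factorization 2 ≤ ((2 * m).factorial).factorization 2 := by
  have h1 : (2 * m).choose m * m.factorial * (2 * m - m).factorial = (2 * m).factorial :=
    Nat.choose_mul_factorial_mul_factorial (by omega)
  have h2 : 2 * m - m = m := by omega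
  rw [h2] at h1
  have hc : (2 * m).choose m ≠ 0 := (Nat.choose_pos (by omega)).ne'
  have hf : m.factorial ≠ 0 := Nat.factorial_ne_zero m
  rw [← h1, Nat.factorization_mul (mul_ne_zero hc hf) hf, Nat.factorization_mul hc hf]
  simp only [Finsupp.coe_add, Pi.add_apply]
  have h3 : 2 ∣ (2 * m).choose m := by
    rw [← Nat.centralBinom_eq_two_mul_choose]
    exact Nat.two_dvd_centralBinom_of_one_le hm
  have h4 : 0 < ((2 * m).choose m).factorization 2 :=
    Nat.Prime.factorization_pos_of_dvd Nat.prime_two hc h3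
  omega

theorem false_of_disjoint_card_eq (Q : Sylow 2 (Perm Ω)) {X Y : Set Ω} (hd : Disjoint X Y)
    (hX : (Q : Subgroup (Perm Ω)) ≤ presSub X) (hY : (Q : Subgroup (Perm Ω)) ≤ presSub Y)
    (h : Nat.card ↥X = Nat.card ↥Y) (hpos : 0 < Nat.card ↥X) : False := by
  have hXY : (Q : Subgroup (Perm Ω)) ≤ presSub (X ∪ Y) :=
    fun y hy => mem_presSub_union (hX hy) (hY hy)
  have hcard : Nat.card ↥(X ∪ Y) = 2 * Nat.card ↥X := by
    rw [Nat.card_congr (Equiv.Set.union hd), Nat.card_sum, ← h]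
    ring
  have e := card_supp_union Q hd hX hY
  rw [card_supp Q _ hXY, card_supp Q _ hX, card_supp Q _ hY, ← h, hcard, ← pow_add] at e
  have e' := Nat.pow_right_injective (le_refl 2) e
  have := factorization_two_mul_factorial _ hpos
  omega

/-- distinct orbits of a Sylow 2-subgroup of a symmetric group have distinct sizes. -/
theorem orb_eq_of_card_eq (Q : Sylow 2 (Perm Ω)) (ω ω' : Ω)
    (h : Nat.card ↥(orb (Q : Subgroup (Perm Ω)) ω) = Nat.card ↥(orb (Q : Subgroup (Perm Ω)) ω')) :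
    orb (Q : Subgroup (Perm Ω)) ω = orb (Q : Subgroup (Perm Ω)) ω' := by
  rcases orb_disjoint_or_eq (Q : Subgroup (Perm Ω)) ω ω' with h1 | hd
  · exact h1
  · exfalso
    have hpos : 0 < Nat.card ↥(orb (Q : Subgroup (Perm Ω)) ω) := by
      have : Nonempty ↥(orb (Q : Subgroup (Perm Ω)) ω) := ⟨⟨ω, self_mem_orb _ ω⟩⟩
      exact Nat.card_pos
    exact false_of_disjoint_card_eq Q hd (le_presSub_orb _ ω) (le_presSub_orb _ ω') h hpos

end Cfsg.Agent.Helper8.SylAlt
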