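import Cfsg.Agent.Helper8.SylAltD

/-!
# S2221 support, part E: transfer of the wreath product facts to a Sylow subgroup and an orbit
-/

namespace Cfsg.Agent.Helper8.SylAlt

open Equiv Classical

/-- The facts on iterated wreath products of `C₂` used below (proved elsewhere). -/
structure WFacts : Prop where
  w1 : ∀ (k : ℕ) (A B : Subgroup (IteratedWreathProduct (Multiplicative (ZMod 2)) k)),
      (∀ a ∈ A, ∀ b ∈ B, a * b = b * a) → A ⊔ B = ⊤ → A = ⊤ ∨ B = ⊤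
  w2 : ∀ k : ℕ, 1 ≤ k →
      Nat.card (Subgroup.center (IteratedWreathProduct (Multiplicative (ZMod 2)) k)) = 2
  w5a : ∀ k : ℕ, 2 ≤ k → ∃ c : IteratedWreathProduct (Multiplicative (ZMod 2)) k,
      c ^ 2 ∈ Subgroup.center (IteratedWreathProduct (Multiplicative (ZMod 2)) k) ∧ c ^ 2 ≠ 1

section abstract

variable {G W : Type*} [Group G] [Group W]

theorem split_of_equiv (e : G ≃* W)
    (hW : ∀ A B : Subgroup W, (∀ a ∈ A, ∀ b ∈ B, a * b = b * a) → A ⊔ B = ⊤ → A = ⊤ ∨ B = ⊤)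
    (A B : Subgroup G) (hc : ∀ a ∈ A, ∀ b ∈ B, a * b = b * a) (hAB : A ⊔ B = ⊤) :
    A = ⊤ ∨ B = ⊤ := by
  have hback : ∀ C : Subgroup G, C.map e.toMonoidHom = ⊤ → C = ⊤ := by
    intro C hC
    rw [eq_top_iff]
    intro x _
    have : e x ∈ C.map e.toMonoidHom := by rw [hC]; trivial
    obtain ⟨c, hc, hcx⟩ := this
    have : c = x := e.injective hcx
    rw [← this]; exact hc
  have h1 := hW (A.map e.toMonoidHom) (B.map e.toMonoidHom) (by
      rintro _ ⟨a, ha, rfl⟩ _ ⟨b, hb, rfl⟩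
      show e a * e b = e b * e a
      rw [← map_mul, ← map_mul, hc a ha b hb]) (by
      rw [← Subgroup.map_sup, hAB]
      exact Subgroup.map_top_of_surjective _ e.surjective)
  rcases h1 with h | h
  · exact Or.inl (hback A h)
  · exact Or.inr (hback B h)

theorem center_of_equiv (e : G ≃* W) (h : Nat.card (Subgroup.center W) = 2) :
    ∃ z : G, z ≠ 1 ∧ (∀ x, z * x = x * z) ∧ ∀ y, (∀ x, y * x = x * y) → y = 1 ∨ y = z := by
  obtain ⟨z₀, hz₀, huniq⟩ := (Nat.card_eq_two_iff' (1 : Subgroup.center W)).mp h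
  have hcen : ∀ w : W, w ∈ Subgroup.center W ↔ ∀ x, w * x = x * w := by
    intro w
    rw [Subgroup.mem_center_iff]
    exact ⟨fun h x => (h x).symm, fun h x => (h x).symm⟩
  refine ⟨e.symm z₀.1, ?_, ?_, ?_⟩
  · intro h1
    apply hz₀
    apply Subtype.ext
    have : z₀.1 = e 1 := by rw [← h1]; simp
    rw [this, map_one]; rfl
  · intro x
    apply e.injective
    rw [map_mul, map_mul, e.apply_symm_apply]
    exact (hcen z₀.1).mp z₀.2 (e x)
  · intro y hy
    have hey : e y ∈ Subgroup.center W := by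
      rw [hcen]
      intro x
      have := hy (e.symm x)
      have h2 := congrArg e this
      rwa [map_mul, map_mul, e.apply_symm_apply] at h2
    by_cases h1 : (⟨e y, hey⟩ : Subgroup.center W) = 1
    · left
      have : e y = 1 := congrArg Subtype.val h1
      exact e.injective (by rw [this, map_one])
    · right
      have := huniq ⟨e y, hey⟩ h1
      have h2 : e y = z₀.1 := congrArg Subtype.val this
      rw [← h2, e.symm_apply_apply]

theorem sq_of_equiv (e : G ≃* W) (h : ∃ c : W, c ^ 2 ∈ Subgroup.center W ∧ c ^ 2 ≠ 1) :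
    ∃ c : G, c ^ 2 ≠ 1 ∧ ∀ x, c ^ 2 * x = x * c ^ 2 := by
  obtain ⟨c, hc, hne⟩ := h
  refine ⟨e.symm c, ?_, ?_⟩
  · intro h1
    apply hne
    have := congrArg e h1
    rwa [map_pow, e.apply_symm_apply, map_one] at this
  · intro x
    apply e.injective
    rw [map_mul, map_mul, map_pow, e.apply_symm_apply]
    rw [Subgroup.mem_center_iff] at hc
    exact (hc (e x)).symm

end abstract

variable {Ω : Type*} [Fintype Ω] [DecidableEq Ω]

/-- the iterated wreath product description of the restriction of `Q` to an orbit. -/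
noncomputable def orbEquiv (Q : Sylow 2 (Perm Ω)) (ω : Ω) (k : ℕ)
    (hcard : Nat.card ↥(orb (Q : Subgroup (Perm Ω)) ω) = 2 ^ k) :
    ↥(resSyl Q (orb (Q : Subgroup (Perm Ω)) ω) (le_presSub_orb _ ω)) ≃*
      IteratedWreathProduct (Multiplicative (ZMod 2)) k :=
  Sylow.mulEquivIteratedWreathProduct 2 k ↥(orb (Q : Subgroup (Perm Ω)) ω) hcard
    (Multiplicative (ZMod 2)) (by simp [Nat.card_eq_fintype_card])
    (resSyl Q (orb (Q : Subgroup (Perm Ω)) ω) (le_presSub_orb _ ω))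

/-- (T1) a commuting pair of subgroups of `Q` that restricts onto `Q` on an orbit: one of them
already does. -/
theorem split_orbit (hW : WFacts) (Q : Sylow 2 (Perm Ω)) (ω : Ω)
    (S T : Subgroup (Perm Ω)) (hS : S ≤ (Q : Subgroup (Perm Ω))) (hT : T ≤ (Q : Subgroup (Perm Ω)))
    (hc : ∀ s ∈ S, ∀ t ∈ T, s * t = t * s)
    (honto : ∀ x ∈ Q, ∃ y ∈ S ⊔ T, cut (orb (Q : Subgroup (Perm Ω)) ω) y =
      cut (orb (Q : Subgroup (Perm Ω)) ω) x) :
    (∀ x ∈ Q, ∃ s ∈ S, cut (orb (Q : Subgroup (Perm Ω)) ω) s =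
        cut (orb (Q : Subgroup (Perm Ω)) ω) x) ∨
    (∀ x ∈ Q, ∃ t ∈ T, cut (orb (Q : Subgroup (Perm Ω)) ω) t =
        cut (orb (Q : Subgroup (Perm Ω)) ω) x) := by
  obtain ⟨k, hk⟩ := card_orb Q ω
  have hO := le_presSub_orb (Q : Subgroup (Perm Ω)) ω
  let ρ := resHom Q (orb (Q : Subgroup (Perm Ω)) ω) hO
  have key := split_of_equiv (orbEquiv Q ω k hk) (hW.w1 k)
    ((S.subgroupOf (Q : Subgroup (Perm Ω))).map ρ) ((T.subgroupOf (Q : Subgroup (Perm Ω))).map ρ)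
    (by
      rintro _ ⟨s, hs, rfl⟩ _ ⟨t, ht, rfl⟩
      rw [← map_mul, ← map_mul]
      congr 1
      apply Subtype.ext
      exact hc s.1 (Subgroup.mem_subgroupOf.mp hs) t.1 (Subgroup.mem_subgroupOf.mp ht))
    (by
      rw [← Subgroup.map_sup, eq_top_iff]
      intro r _
      obtain ⟨x, rfl⟩ := resHom_surjective Q _ hO r
      obtain ⟨y, hy, hyx⟩ := honto x.1 x.2
      have hyQ : y ∈ (Q : Subgroup (Perm Ω)) := (sup_le hS hT) hy
      refine ⟨⟨y, hyQ⟩, ?_, ?_⟩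
      · rw [← Subgroup.subgroupOf_sup hS hT]
        exact Subgroup.mem_subgroupOf.mpr hy
      · exact (resHom_eq_iff Q _ hO _ _).mpr hyx)
  have hconc : ∀ C : Subgroup (Perm Ω),
      (C.subgroupOf (Q : Subgroup (Perm Ω))).map ρ = ⊤ →
      ∀ x ∈ Q, ∃ s ∈ C, cut (orb (Q : Subgroup (Perm Ω)) ω) s =
        cut (orb (Q : Subgroup (Perm Ω)) ω) x := by
    intro C hC x hx
    have : ρ ⟨x, hx⟩ ∈ (C.subgroupOf (Q : Subgroup (Perm Ω))).map ρ := by rw [hC]; trivial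
    obtain ⟨s, hs, hsx⟩ := this
    exact ⟨s.1, Subgroup.mem_subgroupOf.mp hs, (resHom_eq_iff Q _ hO _ _).mp hsx⟩
  rcases key with h | h
  · exact Or.inl (hconc S h)
  · exact Or.inr (hconc T h)

/-- (T2) the central involution attached to an orbit with at least two points. -/
theorem exists_center (hW : WFacts) (Q : Sylow 2 (Perm Ω)) (ω : Ω) (k : ℕ) (hk1 : 1 ≤ k)
    (hk : Nat.card ↥(orb (Q : Subgroup (Perm Ω)) ω) = 2 ^ k) :
    ∃ z : Perm Ω, z ∈ Q ∧ z ≠ 1 ∧ (∀ a, a ∉ orb (Q : Subgroup (Perm Ω)) ω → z a = a) ∧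
      (∀ x ∈ Q, z * x = x * z) ∧
      ∀ y ∈ Q, (∀ x ∈ Q, cut (orb (Q : Subgroup (Perm Ω)) ω) y * cut (orb (Q : Subgroup (Perm Ω)) ω) x
          = cut (orb (Q : Subgroup (Perm Ω)) ω) x * cut (orb (Q : Subgroup (Perm Ω)) ω) y) →
        cut (orb (Q : Subgroup (Perm Ω)) ω) y = 1 ∨ cut (orb (Q : Subgroup (Perm Ω)) ω) y = z := by
  have hO := le_presSub_orb (Q : Subgroup (Perm Ω)) ω
  set O := orb (Q : Subgroup (Perm Ω)) ω with hOdef
  let ρ := resHom Q O hO
  obtain ⟨z₀, hz₀, hcomm, huniq⟩ := center_of_equiv (orbEquiv Q ω k hk) (hW.w2 k hk1)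
  have hzQ : Perm.ofSubtype z₀.1 ∈ Q := mem_resSyl.mp z₀.2
  refine ⟨Perm.ofSubtype z₀.1, hzQ, ?_, ?_, ?_, ?_⟩
  · intro h1
    apply hz₀
    apply Subtype.ext
    apply Perm.ofSubtype_injective
    rw [h1]; simp
  · intro a ha
    exact Perm.ofSubtype_apply_of_not_mem _ ha
  · intro x hx
    have hx' := hO hx
    have h1 : x = cut O x * cut Oᶜ x := (cut_mul_cut_compl hx').symm
    have h2 : cut O x = Perm.ofSubtype (ρ ⟨x, hx⟩).1 := (ofSubtype_resHom Q O hO ⟨x, hx⟩).symm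
    have h3 : Perm.ofSubtype z₀.1 * cut O x = cut O x * Perm.ofSubtype z₀.1 := by
      rw [h2, ← map_mul, ← map_mul]
      congr 1
      exact congrArg Subtype.val (hcomm (ρ ⟨x, hx⟩))
    have h4 : Commute (Perm.ofSubtype z₀.1) (cut Oᶜ x) := by
      rw [← cut_ofSubtype z₀.1]
      exact commute_cut_compl O _ _
    rw [h1, ← mul_assoc, h3, mul_assoc, h4.eq, ← mul_assoc]
  · intro y hy hycomm
    have h2 : cut O y = Perm.ofSubtype (ρ ⟨y, hy⟩).1 := (ofSubtype_resHom Q O hO ⟨y, hy⟩).symm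
    have h5 : ∀ r, ρ ⟨y, hy⟩ * r = r * ρ ⟨y, hy⟩ := by
      intro r
      obtain ⟨x, rfl⟩ := resHom_surjective Q O hO r
      apply Subtype.ext
      apply Perm.ofSubtype_injective
      have := hycomm x.1 x.2
      rw [Subgroup.coe_mul, Subgroup.coe_mul, map_mul, map_mul, ofSubtype_resHom,
        ofSubtype_resHom]
      exact this
    rcases huniq _ h5 with h | h
    · left
      rw [h2, h]; simp
    · right
      rw [h2, h]

/-- (T3) on an orbit with at least four points the central involution is a square. -/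
theorem exists_sqrt (hW : WFacts) (Q : Sylow 2 (Perm Ω)) (ω : Ω) (k : ℕ) (hk2 : 2 ≤ k)
    (hk : Nat.card ↥(orb (Q : Subgroup (Perm Ω)) ω) = 2 ^ k) :
    ∃ c : Perm Ω, c ∈ Q ∧ (∀ a, a ∉ orb (Q : Subgroup (Perm Ω)) ω → c a = a) ∧ c ^ 2 ≠ 1 ∧
      (∀ x ∈ Q, c ^ 2 * x = x * c ^ 2) := by
  have hO := le_presSub_orb (Q : Subgroup (Perm Ω)) ω
  set O := orb (Q : Subgroup (Perm Ω)) ω with hOdef
  let ρ := resHom Q O hO
  obtain ⟨c₀, hne, hcomm⟩ := sq_of_equiv (orbEquiv Q ω k hk) (hW.w5a k hk2)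
  have hcQ : Perm.ofSubtype c₀.1 ∈ Q := mem_resSyl.mp c₀.2
  refine ⟨Perm.ofSubtype c₀.1, hcQ, ?_, ?_, ?_⟩
  · intro a ha
    exact Perm.ofSubtype_apply_of_not_mem _ ha
  · intro h1
    apply hne
    apply Subtype.ext
    apply Perm.ofSubtype_injective
    rw [Subgroup.coe_pow, map_pow, h1]; simp
  · intro x hx
    have hx' := hO hx
    have h1 : x = cut O x * cut Oᶜ x := (cut_mul_cut_compl hx').symm
    have h2 : cut O x = Perm.ofSubtype (ρ ⟨x, hx⟩).1 := (ofSubtype_resHom Q O hO ⟨x, hx⟩).symm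
    have h3 : Perm.ofSubtype c₀.1 ^ 2 * cut O x = cut O x * Perm.ofSubtype c₀.1 ^ 2 := by
      rw [h2, ← map_pow, ← map_mul, ← map_mul]
      congr 1
      exact congrArg Subtype.val (hcomm (ρ ⟨x, hx⟩))
    have h4 : Commute (Perm.ofSubtype c₀.1 ^ 2) (cut Oᶜ x) := by
      rw [← map_pow, ← cut_ofSubtype (c₀.1 ^ 2)]
      exact commute_cut_compl O _ _
    rw [h1, ← mul_assoc, h3, mul_assoc, h4.eq, ← mul_assoc]

end Cfsg.Agent.Helper8.SylAlt
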