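import Cfsg.Agent.Helper8.SylAltE

/-!
# S2221 support, part F: auxiliary lemmas for the main argument
-/

namespace Cfsg.Agent.Helper8.SylAlt

open Equiv Classical

theorem exists_mul_of_mem_sup' {G : Type*} [Group G] {S T : Subgroup G}
    (hc : ∀ s ∈ S, ∀ t ∈ T, s * t = t * s) {x : G} (hx : x ∈ S ⊔ T) :
    ∃ s ∈ S, ∃ t ∈ T, x = s * t := by
  let P : Subgroup G :=
    { carrier := {x | ∃ s ∈ S, ∃ t ∈ T, x = s * t}
      one_mem' := ⟨1, one_mem _, 1, one_mem _, by simp⟩
      mul_mem' := by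
        rintro _ _ ⟨s, hs, t, ht, rfl⟩ ⟨s', hs', t', ht', rfl⟩
        refine ⟨s * s', mul_mem hs hs', t * t', mul_mem ht ht', ?_⟩
        rw [mul_assoc, ← mul_assoc t, ← hc s' hs' t ht, mul_assoc, ← mul_assoc]
      inv_mem' := by
        rintro _ ⟨s, hs, t, ht, rfl⟩
        refine ⟨s⁻¹, inv_mem hs, t⁻¹, inv_mem ht, ?_⟩
        rw [mul_inv_rev, hc s⁻¹ (inv_mem hs) t⁻¹ (inv_mem ht)] }
  have h1 : S ⊔ T ≤ P := by
    apply sup_le
    · intro s hs; exact ⟨s, hs, 1, one_mem _, by simp⟩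
    · intro t ht; exact ⟨1, one_mem _, t, ht, by simp⟩
  exact h1 hx

variable {Ω : Type*} [Fintype Ω] [DecidableEq Ω]

/-- a permutation supported on a two-element set is trivial or odd, and squares to one. -/
theorem two_set_perm {X : Set Ω} (hX : Nat.card ↥X = 2) {g : Perm Ω}
    (hsupp : ∀ a, a ∉ X → g a = a) : (g = 1 ∨ Perm.sign g = -1) ∧ g ^ 2 = 1 := by
  rw [Nat.card_coe_set_eq, Set.ncard_eq_two] at hX
  obtain ⟨p, p', hne, rfl⟩ := hX
  have hg := mem_presSub_of_fix hsupp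
  have hp : g p = p ∨ g p = p' := by
    have : g p ∈ ({p, p'} : Set Ω) := (hg p).mpr (by simp)
    simpa using this
  have hp' : g p' = p ∨ g p' = p' := by
    have : g p' ∈ ({p, p'} : Set Ω) := (hg p').mpr (by simp)
    simpa using this
  rcases hp with h1 | h1
  · have h2 : g p' = p' := by
      rcases hp' with h2 | h2
      · exact absurd (g.injective (h2.trans h1.symm)) (Ne.symm hne)
      · exact h2
    have : g = 1 := by
      ext a
      by_cases ha : a ∈ ({p, p'} : Set Ω)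
      · rcases ha with rfl | ha
        · exact h1
        · rw [Set.mem_singleton_iff] at ha; subst ha; exact h2
      · exact hsupp a ha
    subst this
    exact ⟨Or.inl rfl, one_pow 2⟩
  · have h2 : g p' = p := by
      rcases hp' with h2 | h2
      · exact h2
      · exact absurd (g.injective (h1.trans h2.symm)) hne
    have : g = swap p p' := by
      ext a
      by_cases ha : a ∈ ({p, p'} : Set Ω)
      · rcases ha with rfl | ha
        · rw [h1, swap_apply_left]
        · rw [Set.mem_singleton_iff] at ha; subst ha; rw [h2, swap_apply_right]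
      · rw [hsupp a ha]
        have h3 : a ≠ p := fun h => ha (by simp [h])
        have h4 : a ≠ p' := fun h => ha (by simp [h])
        rw [swap_apply_of_ne_of_ne h3 h4]
    subst this
    refine ⟨Or.inr (Perm.sign_swap hne), ?_⟩
    rw [pow_two, swap_mul_self]

/-- a permutation preserving a one-element set fixes its point. -/
theorem cut_eq_one_of_card_one {X : Set Ω} (hX : Nat.card ↥X = 1) (g : Perm Ω) : cut X g = 1 := by
  by_cases hg : g ∈ presSub X
  · rw [Nat.card_coe_set_eq, Set.ncard_eq_one] at hX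
    obtain ⟨p, rfl⟩ := hX
    apply cut_eq_one_of_fix
    intro a ha
    rw [Set.mem_singleton_iff] at ha
    subst ha
    have : g a ∈ ({a} : Set Ω) := (hg a).mpr rfl
    simpa using this
  · exact cut_of_not_mem hg

/-- the data attached to an orbit with at least four points. -/
theorem big_orbit_data (hW : WFacts) (Q : Sylow 2 (Perm Ω)) (ω : Ω)
    (hbig : 4 ≤ Nat.card ↥(orb (Q : Subgroup (Perm Ω)) ω)) :
    ∃ z : Perm Ω, z ∈ Q ∧ z ≠ 1 ∧ (∀ a, a ∉ orb (Q : Subgroup (Perm Ω)) ω → z a = a) ∧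
      (∀ x ∈ Q, z * x = x * z) ∧ z ^ 2 = 1 ∧ Perm.sign z = 1 ∧
      (∃ c ∈ Q, (∀ a, a ∉ orb (Q : Subgroup (Perm Ω)) ω → c a = a) ∧ c ^ 2 = z) ∧
      ∀ y ∈ Q, (∀ x ∈ Q, cut (orb (Q : Subgroup (Perm Ω)) ω) y * cut (orb (Q : Subgroup (Perm Ω)) ω) x
          = cut (orb (Q : Subgroup (Perm Ω)) ω) x * cut (orb (Q : Subgroup (Perm Ω)) ω) y) →
        cut (orb (Q : Subgroup (Perm Ω)) ω) y = 1 ∨ cut (orb (Q : Subgroup (Perm Ω)) ω) y = z := by
  obtain ⟨k, hk⟩ := card_orb Q ω
  have hk2 : 2 ≤ k := by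
    by_contra h
    have : k = 0 ∨ k = 1 := by omega
    rcases this with rfl | rfl <;> omega
  have hO := le_presSub_orb (Q : Subgroup (Perm Ω)) ω
  obtain ⟨z, hzQ, hz1, hzsupp, hzcomm, hzuniq⟩ := exists_center hW Q ω k (by omega) hk
  obtain ⟨c, hcQ, hcsupp, hc1, hccomm⟩ := exists_sqrt hW Q ω k hk2 hk
  -- central elements supported on the orbit are `1` or `z`
  have hcent : ∀ y ∈ Q, (∀ a, a ∉ orb (Q : Subgroup (Perm Ω)) ω → y a = a) →
      (∀ x ∈ Q, y * x = x * y) → y = 1 ∨ y = z := by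
    intro y hy hysupp hycomm
    have h1 := hzuniq y hy (by
      intro x hx
      rw [← cut_mul (hO hy) (hO hx), ← cut_mul (hO hx) (hO hy), hycomm x hx])
    rwa [cut_eq_self hysupp] at h1
  have hc2 : c ^ 2 = z := by
    rcases hcent (c ^ 2) (pow_mem hcQ 2) (by
      intro a ha
      rw [pow_two, Perm.mul_apply, hcsupp a ha, hcsupp a ha]) hccomm with h | h
    · exact absurd h hc1
    · exact h
  have hz2 : z ^ 2 = 1 := by
    rcases hcent (z ^ 2) (pow_mem hzQ 2) (by
      intro a ha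
      rw [pow_two, Perm.mul_apply, hzsupp a ha, hzsupp a ha]) (by
      intro x hx
      rw [pow_two, mul_assoc, hzcomm x hx, ← mul_assoc, hzcomm x hx, mul_assoc]) with h | h
    · exact h
    · exfalso
      apply hz1
      have : z * z = z * 1 := by rw [← pow_two, h, mul_one]
      exact mul_left_cancel this
  refine ⟨z, hzQ, hz1, hzsupp, hzcomm, hz2, ?_, ⟨c, hcQ, hcsupp, hc2⟩, hzuniq⟩
  rw [← hc2, map_pow]
  exact Int.units_sq _

/-- a transposition of `Q` supported on another orbit. -/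
theorem exists_swap_off (Q : Sylow 2 (Perm Ω)) (ω ω' : Ω)
    (hne : orb (Q : Subgroup (Perm Ω)) ω' ≠ orb (Q : Subgroup (Perm Ω)) ω)
    (h2 : 2 ≤ Nat.card ↥(orb (Q : Subgroup (Perm Ω)) ω')) :
    ∃ t : Perm Ω, t ∈ Q ∧ Perm.sign t = -1 ∧ t ^ 2 = 1 ∧
      (∀ a, a ∉ orb (Q : Subgroup (Perm Ω)) ω' → t a = a) ∧
      (∀ a, a ∈ orb (Q : Subgroup (Perm Ω)) ω → t a = a) := by
  have hex : ∃ a, a ∈ orb (Q : Subgroup (Perm Ω)) ω' ∧ a ≠ ω' := by
    by_contra hcon
    push Not at hcon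
    have : orb (Q : Subgroup (Perm Ω)) ω' = {ω'} := by
      ext a
      constructor
      · intro ha; exact hcon a ha
      · intro ha; rw [Set.mem_singleton_iff] at ha; rw [ha]; exact self_mem_orb _ _
    rw [this] at h2
    simp at h2
  obtain ⟨a, ha, hane⟩ := hex
  obtain ⟨c, d, hc, hd, hcd, hmem⟩ := exists_swap_mem Q ha hane
  have hdisj : Disjoint (orb (Q : Subgroup (Perm Ω)) ω') (orb (Q : Subgroup (Perm Ω)) ω) := by
    rcases orb_disjoint_or_eq (Q : Subgroup (Perm Ω)) ω' ω with h | h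
    · exact absurd h hne
    · exact h
  refine ⟨swap c d, hmem, Perm.sign_swap hcd, by rw [pow_two, swap_mul_self], ?_, ?_⟩
  · intro b hb
    exact swap_apply_of_ne_of_ne (fun h => hb (h ▸ hc)) (fun h => hb (h ▸ hd))
  · intro b hb
    exact swap_apply_of_ne_of_ne (fun h => Set.disjoint_left.mp hdisj hc (h ▸ hb))
      (fun h => Set.disjoint_left.mp hdisj hd (h ▸ hb))

/-- with an odd element of `Q` fixing the orbit pointwise, the even part of `Q` restricts onto. -/
theorem exists_even_same_cut (Q : Sylow 2 (Perm Ω)) (ω : Ω) {t : Perm Ω} (ht : t ∈ Q)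
    (hodd : Perm.sign t = -1) (hfix : ∀ a, a ∈ orb (Q : Subgroup (Perm Ω)) ω → t a = a)
    {x : Perm Ω} (hx : x ∈ Q) :
    ∃ y, y ∈ (Q : Subgroup (Perm Ω)) ⊓ alternatingGroup Ω ∧
      cut (orb (Q : Subgroup (Perm Ω)) ω) y = cut (orb (Q : Subgroup (Perm Ω)) ω) x := by
  have hO := le_presSub_orb (Q : Subgroup (Perm Ω)) ω
  have hcx : cut (orb (Q : Subgroup (Perm Ω)) ω) x ∈ Q := cut_mem_sylow Q hO hx
  by_cases hs : Perm.sign (cut (orb (Q : Subgroup (Perm Ω)) ω) x) = 1
  · exact ⟨_, ⟨hcx, Perm.mem_alternatingGroup.mpr hs⟩, cut_cut_self _ _⟩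
  · have hs' : Perm.sign (cut (orb (Q : Subgroup (Perm Ω)) ω) x) = -1 := by
      rcases Int.units_eq_one_or (Perm.sign (cut (orb (Q : Subgroup (Perm Ω)) ω) x)) with h | h
      · exact absurd h hs
      · exact h
    refine ⟨cut (orb (Q : Subgroup (Perm Ω)) ω) x * t, ⟨mul_mem hcx ht, ?_⟩, ?_⟩
    · show cut (orb (Q : Subgroup (Perm Ω)) ω) x * t ∈ alternatingGroup Ω
      rw [Perm.mem_alternatingGroup, Perm.sign_mul, hs', hodd]; rfl
    · rw [cut_mul (hO hcx) (hO ht), cut_cut_self, cut_eq_one_of_fix hfix, mul_one]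

end Cfsg.Agent.Helper8.SylAlt
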