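import Cfsg.Agent.Helper8.SylAltF

/-!
# S2221 support, part G: the case of at least two non-trivial orbits
-/

namespace Cfsg.Agent.Helper8.SylAlt

open Equiv Classical

variable {Ω : Type*} [Fintype Ω] [DecidableEq Ω]

/-- `S` restricts onto the whole of `Q` on the orbit of `ω`. -/
def Full (Q : Sylow 2 (Perm Ω)) (S : Subgroup (Perm Ω)) (ω : Ω) : Prop :=
  ∀ x ∈ Q, ∃ s ∈ S, cut (orb (Q : Subgroup (Perm Ω)) ω) s = cut (orb (Q : Subgroup (Perm Ω)) ω) x

theorem Full.congr {Q : Sylow 2 (Perm Ω)} {S : Subgroup (Perm Ω)} {ω ω' : Ω}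
    (h : Full Q S ω) (he : orb (Q : Subgroup (Perm Ω)) ω' = orb (Q : Subgroup (Perm Ω)) ω) :
    Full Q S ω' := by
  unfold Full at *
  rw [he]; exact h

/-- every orbit has another orbit with at least two points. -/
def CaseB (Q : Sylow 2 (Perm Ω)) : Prop :=
  ∀ ω, ∃ ω', orb (Q : Subgroup (Perm Ω)) ω' ≠ orb (Q : Subgroup (Perm Ω)) ω ∧
    2 ≤ Nat.card ↥(orb (Q : Subgroup (Perm Ω)) ω')

theorem dichotomy (hW : WFacts) (Q : Sylow 2 (Perm Ω)) (hB : CaseB Q) (S T : Subgroup (Perm Ω))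
    (hS : S ≤ (Q : Subgroup (Perm Ω)) ⊓ alternatingGroup Ω)
    (hT : T ≤ (Q : Subgroup (Perm Ω)) ⊓ alternatingGroup Ω)
    (hc : ∀ s ∈ S, ∀ t ∈ T, s * t = t * s)
    (hsup : S ⊔ T = (Q : Subgroup (Perm Ω)) ⊓ alternatingGroup Ω) (ω : Ω) :
    Full Q S ω ∨ Full Q T ω := by
  obtain ⟨ω', hne, h2⟩ := hB ω
  obtain ⟨t, htQ, htodd, _, _, htfix⟩ := exists_swap_off Q ω ω' hne h2
  apply split_orbit hW Q ω S T (hS.trans inf_le_left) (hT.trans inf_le_left) hc
  intro x hx
  obtain ⟨y, hy, hyx⟩ := exists_even_same_cut Q ω htQ htodd htfix hx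
  exact ⟨y, by rw [hsup]; exact hy, hyx⟩

/-- if `S` is full on an orbit then `T` is central there. -/
theorem central_of_full (Q : Sylow 2 (Perm Ω)) (S T : Subgroup (Perm Ω))
    (hS : S ≤ (Q : Subgroup (Perm Ω))) (hT : T ≤ (Q : Subgroup (Perm Ω)))
    (hc : ∀ s ∈ S, ∀ t ∈ T, s * t = t * s) {ω : Ω} (hfull : Full Q S ω) {t : Perm Ω} (ht : t ∈ T) :
    ∀ x ∈ Q, cut (orb (Q : Subgroup (Perm Ω)) ω) t * cut (orb (Q : Subgroup (Perm Ω)) ω) x =
      cut (orb (Q : Subgroup (Perm Ω)) ω) x * cut (orb (Q : Subgroup (Perm Ω)) ω) t := by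
  intro x hx
  have hO := le_presSub_orb (Q : Subgroup (Perm Ω)) ω
  obtain ⟨s, hs, hsx⟩ := hfull x hx
  rw [← hsx, ← cut_mul (hO (hT ht)) (hO (hS hs)), ← cut_mul (hO (hS hs)) (hO (hT ht)),
    hc s hs t ht]

/-- sub-case (i): if `S` is full on every big orbit then `T` is trivial. -/
theorem eq_bot_of_full (hW : WFacts) (Q : Sylow 2 (Perm Ω)) (hB : CaseB Q)
    (S T : Subgroup (Perm Ω))
    (hS : S ≤ (Q : Subgroup (Perm Ω)) ⊓ alternatingGroup Ω)
    (hT : T ≤ (Q : Subgroup (Perm Ω)) ⊓ alternatingGroup Ω)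
    (hc : ∀ s ∈ S, ∀ t ∈ T, s * t = t * s) (hinf : S ⊓ T = ⊥)
    (hsup : S ⊔ T = (Q : Subgroup (Perm Ω)) ⊓ alternatingGroup Ω)
    (hfull : ∀ ω, 4 ≤ Nat.card ↥(orb (Q : Subgroup (Perm Ω)) ω) → Full Q S ω) : T = ⊥ := by
  have hSQ : S ≤ (Q : Subgroup (Perm Ω)) := hS.trans inf_le_left
  have hTQ : T ≤ (Q : Subgroup (Perm Ω)) := hT.trans inf_le_left
  have hO := fun ω => le_presSub_orb (Q : Subgroup (Perm Ω)) ω
  -- on a big orbit elements of T cut to 1 or z
  have hbigcut : ∀ ω, 4 ≤ Nat.card ↥(orb (Q : Subgroup (Perm Ω)) ω) → ∀ t ∈ T,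
      ∃ z : Perm Ω, z ^ 2 = 1 ∧ (∃ c ∈ Q, (∀ a, a ∉ orb (Q : Subgroup (Perm Ω)) ω → c a = a) ∧
        c ^ 2 = z) ∧ (cut (orb (Q : Subgroup (Perm Ω)) ω) t = 1 ∨
          cut (orb (Q : Subgroup (Perm Ω)) ω) t = z) := by
    intro ω hbig t ht
    obtain ⟨z, _, _, _, _, hz2, _, hc', huniq⟩ := big_orbit_data hW Q ω hbig
    exact ⟨z, hz2, hc', huniq t (hTQ ht) (central_of_full Q S T hSQ hTQ hc (hfull ω hbig) ht)⟩
  -- Step 1: T has exponent two
  have hexp : ∀ t ∈ T, t ^ 2 = 1 := by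
    intro t ht
    have htQ := hTQ ht
    have : t ^ 2 ∈ (⊥ : Subgroup (Perm Ω)) := by
      apply mem_of_forall_cut_mem' (Q : Subgroup (Perm Ω)) ⊥ (pow_mem htQ 2)
      intro ω
      rw [Subgroup.mem_bot, cut_pow (hO ω htQ)]
      obtain ⟨k, hk⟩ := card_orb Q ω
      rcases Nat.lt_or_ge k 2 with hk2 | hk2
      · interval_cases k
        · rw [cut_eq_one_of_card_one (by simpa using hk), one_pow]
        · exact (two_set_perm (by simpa using hk) (fun a ha => cut_apply_not_mem ha)).2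
      · have hbig : 4 ≤ Nat.card ↥(orb (Q : Subgroup (Perm Ω)) ω) := by
          rw [hk]
          calc 4 = 2 ^ 2 := by norm_num
            _ ≤ 2 ^ k := Nat.pow_le_pow_right (by norm_num) hk2
        obtain ⟨z, hz2, _, h | h⟩ := hbigcut ω hbig t ht
        · rw [h, one_pow]
        · rw [h, hz2]
    exact Subgroup.mem_bot.mp this
  -- Step 2: squares of even elements of Q lie in S
  have hsq : ∀ g ∈ (Q : Subgroup (Perm Ω)) ⊓ alternatingGroup Ω, g ^ 2 ∈ S := by
    intro g hg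
    rw [← hsup] at hg
    obtain ⟨s, hs, t, ht, rfl⟩ := exists_mul_of_mem_sup' hc hg
    have : (s * t) ^ 2 = s ^ 2 * t ^ 2 := by
      rw [pow_two, pow_two, pow_two, mul_assoc, ← mul_assoc t, ← hc s hs t ht, mul_assoc,
        ← mul_assoc]
    rw [this, hexp t ht, mul_one]
    exact pow_mem hs 2
  -- Step 3: the cut of an element of T to a big orbit lies in S
  have hbigS : ∀ ω, 4 ≤ Nat.card ↥(orb (Q : Subgroup (Perm Ω)) ω) → ∀ t ∈ T,
      cut (orb (Q : Subgroup (Perm Ω)) ω) t ∈ S := by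
    intro ω hbig t ht
    obtain ⟨z, _, ⟨c, hcQ, hcsupp, hc2⟩, h | h⟩ := hbigcut ω hbig t ht
    · rw [h]; exact one_mem _
    · rw [h, ← hc2]
      by_cases hsgn : Perm.sign c = 1
      · exact hsq c ⟨hcQ, Perm.mem_alternatingGroup.mpr hsgn⟩
      · have hsgn' : Perm.sign c = -1 := by
          rcases Int.units_eq_one_or (Perm.sign c) with h' | h'
          · exact absurd h' hsgn
          · exact h'
        obtain ⟨ω', hne, h2⟩ := hB ω
        obtain ⟨t', ht'Q, ht'odd, ht'2, ht'supp, ht'fix⟩ := exists_swap_off Q ω ω' hne h2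
        have hcomm : Commute c t' := by
          apply Perm.Disjoint.commute
          intro a
          by_cases ha : a ∈ orb (Q : Subgroup (Perm Ω)) ω
          · exact Or.inr (ht'fix a ha)
          · exact Or.inl (hcsupp a ha)
        have h3 : (c * t') ^ 2 = c ^ 2 := by
          rw [hcomm.mul_pow, ht'2, mul_one]
        rw [← h3]
        apply hsq
        refine ⟨mul_mem hcQ ht'Q, ?_⟩
        show c * t' ∈ alternatingGroup Ω
        rw [Perm.mem_alternatingGroup, Perm.sign_mul, hsgn', ht'odd]; rfl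
  -- Step 4: T ≤ S
  have hTS : T ≤ S := by
    intro t ht
    have htQ := hTQ ht
    have hteven : Perm.sign t = 1 := Perm.mem_alternatingGroup.mp (hT ht).2
    by_cases h2 : ∃ ωp, Nat.card ↥(orb (Q : Subgroup (Perm Ω)) ωp) = 2
    · obtain ⟨ωp, hp⟩ := h2
      set Op := orb (Q : Subgroup (Perm Ω)) ωp with hOp
      have huQ : cut Opᶜ t ∈ Q := cut_mem_sylow Q
        (fun y hy => mem_presSub_compl (hO ωp hy)) htQ
      have hu : cut Opᶜ t ∈ S := by
        apply mem_of_forall_cut_mem' (Q : Subgroup (Perm Ω)) S huQ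
        intro ω
        rcases orb_disjoint_or_eq (Q : Subgroup (Perm Ω)) ω ωp with h | h
        · rw [h, cut_cut_disj disjoint_compl_right]; exact one_mem _
        · have hsub : orb (Q : Subgroup (Perm Ω)) ω ⊆ Opᶜ := fun b hb hbO =>
            Set.disjoint_left.mp h hb hbO
          rw [cut_cut_of_subset hsub (hO ω htQ) (mem_presSub_compl (hO ωp htQ))]
          obtain ⟨k, hk⟩ := card_orb Q ω
          rcases Nat.lt_or_ge k 2 with hk2 | hk2
          · interval_cases k
            · rw [cut_eq_one_of_card_one (by simpa using hk)]; exact one_mem _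
            · exfalso
              have heq := orb_eq_of_card_eq Q ω ωp (by rw [hk, hp]; norm_num)
              rw [heq] at h
              have := Set.disjoint_left.mp h (self_mem_orb _ ωp) (self_mem_orb _ ωp)
              exact this
          · have hbig : 4 ≤ Nat.card ↥(orb (Q : Subgroup (Perm Ω)) ω) := by
              rw [hk]
              calc 4 = 2 ^ 2 := by norm_num
                _ ≤ 2 ^ k := Nat.pow_le_pow_right (by norm_num) hk2
            exact hbigS ω hbig t ht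
      have hueven : Perm.sign (cut Opᶜ t) = 1 := Perm.mem_alternatingGroup.mp (hS hu).2
      have hdec := sign_eq_cut_mul_cut_compl (hO ωp htQ)
      rw [hteven, hueven, mul_one] at hdec
      rcases (two_set_perm hp (g := cut Op t) (fun a ha => cut_apply_not_mem ha)).1 with h | h
      · have : t = cut Opᶜ t := by
          conv_lhs => rw [← cut_mul_cut_compl (hO ωp htQ), h, one_mul]
        rw [this]; exact hu
      · rw [h] at hdec
        exact absurd hdec (by decide)
    · push Not at h2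
      apply mem_of_forall_cut_mem' (Q : Subgroup (Perm Ω)) S htQ
      intro ω
      obtain ⟨k, hk⟩ := card_orb Q ω
      rcases Nat.lt_or_ge k 2 with hk2 | hk2
      · interval_cases k
        · rw [cut_eq_one_of_card_one (by simpa using hk)]; exact one_mem _
        · exact absurd (by simpa using hk) (h2 ω)
      · have hbig : 4 ≤ Nat.card ↥(orb (Q : Subgroup (Perm Ω)) ω) := by
          rw [hk]
          calc 4 = 2 ^ 2 := by norm_num
            _ ≤ 2 ^ k := Nat.pow_le_pow_right (by norm_num) hk2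
        exact hbigS ω hbig t ht
  rw [eq_bot_iff, ← hinf]
  exact le_inf hTS le_rfl

end Cfsg.Agent.Helper8.SylAlt
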