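import Cfsg.Agent.Helper8.SylAltG

/-!
# S2221 support, part H: two big orbits on which different factors are full force a 2-orbit
-/

namespace Cfsg.Agent.Helper8.SylAlt

open Equiv Classical

variable {Ω : Type*} [Fintype Ω] [DecidableEq Ω]

theorem sign_cut_of_central (hW : WFacts) (Q : Sylow 2 (Perm Ω)) (ω : Ω)
    (hbig : 4 ≤ Nat.card ↥(orb (Q : Subgroup (Perm Ω)) ω)) {y : Perm Ω} (hy : y ∈ Q)
    (hcen : ∀ x ∈ Q, cut (orb (Q : Subgroup (Perm Ω)) ω) y * cut (orb (Q : Subgroup (Perm Ω)) ω) x =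
      cut (orb (Q : Subgroup (Perm Ω)) ω) x * cut (orb (Q : Subgroup (Perm Ω)) ω) y) :
    Perm.sign (cut (orb (Q : Subgroup (Perm Ω)) ω) y) = 1 := by
  obtain ⟨z, _, _, _, _, _, hzs, _, huniq⟩ := big_orbit_data hW Q ω hbig
  rcases huniq y hy hcen with h | h
  · rw [h, map_one]
  · rw [h, hzs]

theorem big_of_pow {k : ℕ} (hk2 : 2 ≤ k) : 4 ≤ 2 ^ k :=
  calc 4 = 2 ^ 2 := by norm_num
    _ ≤ 2 ^ k := Nat.pow_le_pow_right (by norm_num) hk2

theorem exists_two_of_mixed (hW : WFacts) (Q : Sylow 2 (Perm Ω)) (S T : Subgroup (Perm Ω))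
    (hS : S ≤ (Q : Subgroup (Perm Ω)) ⊓ alternatingGroup Ω)
    (hT : T ≤ (Q : Subgroup (Perm Ω)) ⊓ alternatingGroup Ω)
    (hc : ∀ s ∈ S, ∀ t ∈ T, s * t = t * s)
    (hsup : S ⊔ T = (Q : Subgroup (Perm Ω)) ⊓ alternatingGroup Ω)
    (ω₁ ω₂ : Ω) (h1 : 4 ≤ Nat.card ↥(orb (Q : Subgroup (Perm Ω)) ω₁))
    (h2 : 4 ≤ Nat.card ↥(orb (Q : Subgroup (Perm Ω)) ω₂))
    (hne : orb (Q : Subgroup (Perm Ω)) ω₁ ≠ orb (Q : Subgroup (Perm Ω)) ω₂)
    (hfS : Full Q S ω₁) (hfT : Full Q T ω₂) :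
    ∃ ω, Nat.card ↥(orb (Q : Subgroup (Perm Ω)) ω) = 2 := by
  by_contra hnone
  push Not at hnone
  have hSQ : S ≤ (Q : Subgroup (Perm Ω)) := hS.trans inf_le_left
  have hTQ : T ≤ (Q : Subgroup (Perm Ω)) := hT.trans inf_le_left
  have hO := fun ω => le_presSub_orb (Q : Subgroup (Perm Ω)) ω
  have hB : CaseB Q := by
    intro ω
    by_cases h : orb (Q : Subgroup (Perm Ω)) ω = orb (Q : Subgroup (Perm Ω)) ω₁
    · exact ⟨ω₂, by rw [h]; exact hne.symm, by omega⟩
    · exact ⟨ω₁, fun h' => h h'.symm, by omega⟩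
  obtain ⟨t₁, ht₁Q, ht₁odd, _, ht₁supp, ht₁fix⟩ := exists_swap_off Q ω₂ ω₁ hne (by omega)
  obtain ⟨t₂, ht₂Q, ht₂odd, _, ht₂supp, ht₂fix⟩ := exists_swap_off Q ω₁ ω₂ hne.symm (by omega)
  have hg : t₁ * t₂ ∈ (Q : Subgroup (Perm Ω)) ⊓ alternatingGroup Ω := by
    refine ⟨mul_mem ht₁Q ht₂Q, ?_⟩
    show t₁ * t₂ ∈ alternatingGroup Ω
    rw [Perm.mem_alternatingGroup, Perm.sign_mul, ht₁odd, ht₂odd]; rfl
  rw [← hsup] at hg
  obtain ⟨s, hs, t, ht, hst⟩ := exists_mul_of_mem_sup' hc hg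
  have hsQ := hSQ hs
  have htQ := hTQ ht
  -- (α) the cut of s to the first orbit is odd
  have hα : Perm.sign (cut (orb (Q : Subgroup (Perm Ω)) ω₁) s) = -1 := by
    have e1 : cut (orb (Q : Subgroup (Perm Ω)) ω₁) (t₁ * t₂) = t₁ := by
      rw [cut_mul (hO ω₁ ht₁Q) (hO ω₁ ht₂Q), cut_eq_self ht₁supp, cut_eq_one_of_fix ht₂fix, mul_one]
    have e2 : cut (orb (Q : Subgroup (Perm Ω)) ω₁) (s * t) =
        cut (orb (Q : Subgroup (Perm Ω)) ω₁) s * cut (orb (Q : Subgroup (Perm Ω)) ω₁) t :=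
      cut_mul (hO ω₁ hsQ) (hO ω₁ htQ)
    have e3 : Perm.sign (cut (orb (Q : Subgroup (Perm Ω)) ω₁) t) = 1 :=
      sign_cut_of_central hW Q ω₁ h1 htQ (central_of_full Q S T hSQ hTQ hc hfS ht)
    have e4 := congrArg Perm.sign e2
    rw [← hst, e1, Perm.sign_mul, e3, mul_one, ht₁odd] at e4
    exact e4.symm
  -- (β) the rest of s is even
  have hβ : cut (orb (Q : Subgroup (Perm Ω)) ω₁)ᶜ s ∈ alternatingGroup Ω := by
    have huQ : cut (orb (Q : Subgroup (Perm Ω)) ω₁)ᶜ s ∈ Q := cut_mem_sylow Q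
      (fun y hy => mem_presSub_compl (hO ω₁ hy)) hsQ
    apply mem_of_forall_cut_mem' (Q : Subgroup (Perm Ω)) (alternatingGroup Ω) huQ
    intro ω
    rcases orb_disjoint_or_eq (Q : Subgroup (Perm Ω)) ω ω₁ with h | h
    · rw [h, cut_cut_disj disjoint_compl_right]; exact one_mem _
    · have hsub : orb (Q : Subgroup (Perm Ω)) ω ⊆ (orb (Q : Subgroup (Perm Ω)) ω₁)ᶜ :=
        fun b hb hbO => Set.disjoint_left.mp h hb hbO
      rw [cut_cut_of_subset hsub (hO ω hsQ) (mem_presSub_compl (hO ω₁ hsQ))]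
      obtain ⟨k, hk⟩ := card_orb Q ω
      rcases Nat.lt_or_ge k 2 with hk2 | hk2
      · interval_cases k
        · rw [cut_eq_one_of_card_one (by simpa using hk)]; exact one_mem _
        · exact absurd (by simpa using hk) (hnone ω)
      · have hbig : 4 ≤ Nat.card ↥(orb (Q : Subgroup (Perm Ω)) ω) := by
          rw [hk]; exact big_of_pow hk2
        rw [Perm.mem_alternatingGroup]
        have hTfull : Full Q T ω → Perm.sign (cut (orb (Q : Subgroup (Perm Ω)) ω) s) = 1 := by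
          intro hf
          exact sign_cut_of_central hW Q ω hbig hsQ
            (central_of_full Q T S hTQ hSQ (fun t' ht' s' hs' => (hc s' hs' t' ht').symm) hf hs)
        by_cases horb2 : orb (Q : Subgroup (Perm Ω)) ω = orb (Q : Subgroup (Perm Ω)) ω₂
        · exact hTfull (hfT.congr horb2)
        · rcases dichotomy hW Q hB S T hS hT hc hsup ω with hf | hf
          · have e3 : Perm.sign (cut (orb (Q : Subgroup (Perm Ω)) ω) t) = 1 :=
              sign_cut_of_central hW Q ω hbig htQ (central_of_full Q S T hSQ hTQ hc hf ht)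
            have hd1 : Disjoint (orb (Q : Subgroup (Perm Ω)) ω) (orb (Q : Subgroup (Perm Ω)) ω₁) := h
            have hd2 : Disjoint (orb (Q : Subgroup (Perm Ω)) ω) (orb (Q : Subgroup (Perm Ω)) ω₂) := by
              rcases orb_disjoint_or_eq (Q : Subgroup (Perm Ω)) ω ω₂ with h' | h'
              · exact absurd h' horb2
              · exact h'
            have e1 : cut (orb (Q : Subgroup (Perm Ω)) ω) (t₁ * t₂) = 1 := by
              rw [cut_mul (hO ω ht₁Q) (hO ω ht₂Q),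
                cut_eq_one_of_fix (fun a ha => ht₁supp a (fun h' => Set.disjoint_left.mp hd1 ha h')),
                cut_eq_one_of_fix (fun a ha => ht₂supp a (fun h' => Set.disjoint_left.mp hd2 ha h')),
                mul_one]
            have e2 : cut (orb (Q : Subgroup (Perm Ω)) ω) (s * t) =
                cut (orb (Q : Subgroup (Perm Ω)) ω) s * cut (orb (Q : Subgroup (Perm Ω)) ω) t :=
              cut_mul (hO ω hsQ) (hO ω htQ)
            have e4 := congrArg Perm.sign e2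
            rw [← hst, e1, Perm.sign_mul, e3, mul_one, map_one] at e4
            exact e4.symm
          · exact hTfull hf
  have hdec := sign_eq_cut_mul_cut_compl (hO ω₁ hsQ)
  rw [hα, Perm.mem_alternatingGroup.mp hβ, Perm.mem_alternatingGroup.mp (hS hs).2] at hdec
  exact absurd hdec (by decide)

end Cfsg.Agent.Helper8.SylAlt
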