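import Cfsg.Agent.Helper8.SylAltH
import Cfsg.Prelude.Def_TwoFusion

/-!
# S2221 support, part I: the forward direction in terms of the orbit structure
-/

namespace Cfsg.Agent.Helper8.SylAlt

open Equiv Classical

variable {Ω : Type*} [Fintype Ω] [DecidableEq Ω]

theorem one_le_card_orb (Q : Subgroup (Perm Ω)) (ω : Ω) : 1 ≤ Nat.card ↥(orb Q ω) := by
  have : Nonempty ↥(orb Q ω) := ⟨⟨ω, self_mem_orb _ ω⟩⟩
  exact Nat.card_pos

/-- The forward direction: a non-trivial direct decomposition of `Q ⊓ A` forces one of the two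
orbit patterns.  `hA` is the indecomposability in the case of a single non-trivial orbit of size
at least `8` (proved separately). -/
theorem forward (hW : WFacts) (Q : Sylow 2 (Perm Ω))
    (hbigex : ∃ ω, 4 ≤ Nat.card ↥(orb (Q : Subgroup (Perm Ω)) ω))
    (S T : Subgroup (Perm Ω)) (hS1 : S ≠ ⊥) (hT1 : T ≠ ⊥)
    (hdp : Cfsg.IsInternalDirectProduct S T ((Q : Subgroup (Perm Ω)) ⊓ alternatingGroup Ω))
    (hA : ∀ ω₀ : Ω, 8 ≤ Nat.card ↥(orb (Q : Subgroup (Perm Ω)) ω₀) →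
      (∀ ω, orb (Q : Subgroup (Perm Ω)) ω = orb (Q : Subgroup (Perm Ω)) ω₀ ∨
        Nat.card ↥(orb (Q : Subgroup (Perm Ω)) ω) = 1) → False) :
    (∃ ω₀, Nat.card ↥(orb (Q : Subgroup (Perm Ω)) ω₀) = 4 ∧
      ∀ ω, orb (Q : Subgroup (Perm Ω)) ω = orb (Q : Subgroup (Perm Ω)) ω₀ ∨
        Nat.card ↥(orb (Q : Subgroup (Perm Ω)) ω) = 1) ∨
    ((∃ ω, Nat.card ↥(orb (Q : Subgroup (Perm Ω)) ω) = 2) ∧
      ∃ ω₁ ω₂, 4 ≤ Nat.card ↥(orb (Q : Subgroup (Perm Ω)) ω₁) ∧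
        4 ≤ Nat.card ↥(orb (Q : Subgroup (Perm Ω)) ω₂) ∧
        orb (Q : Subgroup (Perm Ω)) ω₁ ≠ orb (Q : Subgroup (Perm Ω)) ω₂) := by
  obtain ⟨hS, hT, hc, hinf, hsup⟩ := hdp
  obtain ⟨ω₀, h0⟩ := hbigex
  by_cases hone : ∀ ω, orb (Q : Subgroup (Perm Ω)) ω = orb (Q : Subgroup (Perm Ω)) ω₀ ∨
      Nat.card ↥(orb (Q : Subgroup (Perm Ω)) ω) = 1
  · -- a single non-trivial orbit
    left
    obtain ⟨k, hk⟩ := card_orb Q ω₀
    by_cases hk3 : 3 ≤ k
    · exfalso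
      apply hA ω₀ _ hone
      rw [hk]
      calc 8 = 2 ^ 3 := by norm_num
        _ ≤ 2 ^ k := Nat.pow_le_pow_right (by norm_num) hk3
    · have hk2 : k = 2 := by
        have : k ≤ 2 := by omega
        interval_cases k <;> simp_all
      subst hk2
      exact ⟨ω₀, by rw [hk]; norm_num, hone⟩
  · -- at least two non-trivial orbits
    right
    push Not at hone
    obtain ⟨ω', hne', hcard'⟩ := hone
    have h2' : 2 ≤ Nat.card ↥(orb (Q : Subgroup (Perm Ω)) ω') := by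
      have := one_le_card_orb (Q : Subgroup (Perm Ω)) ω'
      omega
    have hB : CaseB Q := by
      intro ω
      by_cases h : orb (Q : Subgroup (Perm Ω)) ω = orb (Q : Subgroup (Perm Ω)) ω₀
      · exact ⟨ω', by rw [h]; exact hne', h2'⟩
      · exact ⟨ω₀, fun h' => h h'.symm, by omega⟩
    by_cases hallS : ∀ ω, 4 ≤ Nat.card ↥(orb (Q : Subgroup (Perm Ω)) ω) → Full Q S ω
    · exact absurd (eq_bot_of_full hW Q hB S T hS hT hc hinf hsup hallS) hT1
    by_cases hallT : ∀ ω, 4 ≤ Nat.card ↥(orb (Q : Subgroup (Perm Ω)) ω) → Full Q T ω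
    · exact absurd (eq_bot_of_full hW Q hB T S hT hS (fun t ht s hs => (hc s hs t ht).symm)
        (by rw [inf_comm]; exact hinf) (by rw [sup_comm]; exact hsup) hallT) hS1
    push Not at hallS hallT
    obtain ⟨ω₁, hb1, hnS1⟩ := hallS
    obtain ⟨ω₂, hb2, hnT2⟩ := hallT
    have hfT1 : Full Q T ω₁ := by
      rcases dichotomy hW Q hB S T hS hT hc hsup ω₁ with h | h
      · exact absurd h hnS1
      · exact h
    have hfS2 : Full Q S ω₂ := by
      rcases dichotomy hW Q hB S T hS hT hc hsup ω₂ with h | h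
      · exact h
      · exact absurd h hnT2
    have hne : orb (Q : Subgroup (Perm Ω)) ω₂ ≠ orb (Q : Subgroup (Perm Ω)) ω₁ := by
      intro h
      exact hnS1 (hfS2.congr h.symm)
    exact ⟨exists_two_of_mixed hW Q S T hS hT hc hsup ω₂ ω₁ hb2 hb1 hne hfS2 hfT1,
      ω₂, ω₁, hb2, hb1, hne⟩

end Cfsg.Agent.Helper8.SylAlt
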