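import Cfsg.Agent.Helper8.SylAltH

/-!
# S2221 support, part K: a single non-trivial orbit of size at least eight (spare copy)
-/

namespace Cfsg.Agent.Helper8.SylAlt

open Equiv Classical

variable {Ω : Type*} [Fintype Ω] [DecidableEq Ω]

theorem exists_central_ne_one {G : Type*} [Group G] [Finite G] (S : Subgroup G)
    (hS : IsPGroup 2 ↥S) (hne : S ≠ ⊥) :
    ∃ z ∈ S, z ≠ 1 ∧ ∀ s ∈ S, z * s = s * z := by
  have : Nontrivial ↥S := (Subgroup.nontrivial_iff_ne_bot S).mpr hne
  have := hS.center_nontrivial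
  obtain ⟨⟨z, hz⟩, hz1⟩ := exists_ne (1 : Subgroup.center ↥S)
  refine ⟨z.1, z.2, ?_, ?_⟩
  · intro h
    apply hz1
    apply Subtype.ext
    apply Subtype.ext
    exact h
  · intro s hs
    rw [Subgroup.mem_center_iff] at hz
    have := hz ⟨s, hs⟩
    exact (congrArg Subtype.val this).symm

theorem caseA_false_h8 (hW : WFacts) (Q : Sylow 2 (Perm Ω)) (ω₀ : Ω)
    (h8 : 8 ≤ Nat.card ↥(orb (Q : Subgroup (Perm Ω)) ω₀))
    (hone : ∀ ω, orb (Q : Subgroup (Perm Ω)) ω = orb (Q : Subgroup (Perm Ω)) ω₀ ∨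
      Nat.card ↥(orb (Q : Subgroup (Perm Ω)) ω) = 1)
    (S T : Subgroup (Perm Ω))
    (hS : S ≤ (Q : Subgroup (Perm Ω)) ⊓ alternatingGroup Ω)
    (hT : T ≤ (Q : Subgroup (Perm Ω)) ⊓ alternatingGroup Ω)
    (hc : ∀ s ∈ S, ∀ t ∈ T, s * t = t * s) (hinf : S ⊓ T = ⊥)
    (hsup : S ⊔ T = (Q : Subgroup (Perm Ω)) ⊓ alternatingGroup Ω)
    (hS1 : S ≠ ⊥) (hT1 : T ≠ ⊥) : False := by
  have hSQ : S ≤ (Q : Subgroup (Perm Ω)) := hS.trans inf_le_left
  have hTQ : T ≤ (Q : Subgroup (Perm Ω)) := hT.trans inf_le_left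
  have hO := le_presSub_orb (Q : Subgroup (Perm Ω)) ω₀
  -- (1) elements of Q fix every point off the orbit
  have hfixoff : ∀ y ∈ Q, ∀ a, a ∉ orb (Q : Subgroup (Perm Ω)) ω₀ → y a = a := by
    intro y hy a ha
    rcases hone a with h | h
    · exact absurd (h ▸ self_mem_orb _ a) ha
    · rw [Nat.card_eq_one_iff_unique] at h
      obtain ⟨hsub, _⟩ := h
      have h1 : y a ∈ orb (Q : Subgroup (Perm Ω)) a :=
        (le_presSub_orb (Q : Subgroup (Perm Ω)) a hy a).mpr (self_mem_orb _ a)
      have := @Subsingleton.elim _ hsub (⟨y a, h1⟩ : ↥(orb (Q : Subgroup (Perm Ω)) a))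
        ⟨a, self_mem_orb _ a⟩
      exact congrArg Subtype.val this
  -- (2) the centre of Q
  obtain ⟨z, hzQ, hz1, hzsupp, hzcomm, hz2, hzs, _, huniq⟩ := big_orbit_data hW Q ω₀ (by omega)
  have hcentral : ∀ y ∈ Q, (∀ x ∈ Q, y * x = x * y) → y = 1 ∨ y = z := by
    intro y hy hycomm
    have h1 := huniq y hy (by
      intro x hx
      rw [← cut_mul (hO hy) (hO hx), ← cut_mul (hO hx) (hO hy), hycomm x hx])
    rwa [cut_eq_self (hfixoff y hy)] at h1
  -- (3) a transposition
  have hex : ∃ a, a ∈ orb (Q : Subgroup (Perm Ω)) ω₀ ∧ a ≠ ω₀ := by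
    by_contra hcon
    push Not at hcon
    have : orb (Q : Subgroup (Perm Ω)) ω₀ = {ω₀} := by
      ext a
      constructor
      · intro ha; exact hcon a ha
      · intro ha; rw [Set.mem_singleton_iff] at ha; rw [ha]; exact self_mem_orb _ _
    rw [this] at h8
    simp at h8
  obtain ⟨a₁, ha₁, ha₁ne⟩ := hex
  obtain ⟨c, d, hcO, hdO, hcd, ht₀Q⟩ := exists_swap_mem Q ha₁ ha₁ne
  have ht₀s : Perm.sign (swap c d) = -1 := Perm.sign_swap hcd
  -- (4) central in the even part implies central in Q
  have hkey : ∀ w ∈ (Q : Subgroup (Perm Ω)) ⊓ alternatingGroup Ω,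
      (∀ g ∈ (Q : Subgroup (Perm Ω)) ⊓ alternatingGroup Ω, w * g = g * w) →
      ∀ x ∈ Q, w * x = x * w := by
    intro w hw hwc
    have hwQ : w ∈ Q := hw.1
    have hws : Perm.sign w = 1 := Perm.mem_alternatingGroup.mp hw.2
    have hwt : w * swap c d = swap c d * w := by
      by_contra hne
      -- the commutator
      have hu : swap c d * w⁻¹ * (swap c d)⁻¹ ∈ (Q : Subgroup (Perm Ω)) ⊓ alternatingGroup Ω := by
        have hq : swap c d * w⁻¹ * (swap c d)⁻¹ ∈ (Q : Subgroup (Perm Ω)) :=
          mul_mem (mul_mem ht₀Q (inv_mem hwQ)) (inv_mem ht₀Q)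
        refine ⟨hq, ?_⟩
        show swap c d * w⁻¹ * (swap c d)⁻¹ ∈ alternatingGroup Ω
        rw [Perm.mem_alternatingGroup, Perm.sign_mul, Perm.sign_mul, Perm.sign_inv, Perm.sign_inv,
          hws, ht₀s]; rfl
      have hucomm : ∀ g ∈ (Q : Subgroup (Perm Ω)) ⊓ alternatingGroup Ω,
          (swap c d * w⁻¹ * (swap c d)⁻¹) * g = g * (swap c d * w⁻¹ * (swap c d)⁻¹) := by
        intro g hg
        have hg' : (swap c d)⁻¹ * g * swap c d ∈ (Q : Subgroup (Perm Ω)) ⊓ alternatingGroup Ω := by
          have hq : (swap c d)⁻¹ * g * swap c d ∈ (Q : Subgroup (Perm Ω)) :=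
            mul_mem (mul_mem (inv_mem ht₀Q) hg.1) ht₀Q
          refine ⟨hq, ?_⟩
          show (swap c d)⁻¹ * g * swap c d ∈ alternatingGroup Ω
          rw [Perm.mem_alternatingGroup, Perm.sign_mul, Perm.sign_mul, Perm.sign_inv,
            Perm.mem_alternatingGroup.mp hg.2, ht₀s]; rfl
        have h1 := hwc _ hg'
        -- w⁻¹ commutes with g'
        have h2 : w⁻¹ * ((swap c d)⁻¹ * g * swap c d) = ((swap c d)⁻¹ * g * swap c d) * w⁻¹ := by
          have hcomm : Commute w ((swap c d)⁻¹ * g * swap c d) := h1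
          exact hcomm.inv_left.eq
        calc (swap c d * w⁻¹ * (swap c d)⁻¹) * g
            = swap c d * (w⁻¹ * ((swap c d)⁻¹ * g * swap c d)) * (swap c d)⁻¹ := by group
          _ = swap c d * (((swap c d)⁻¹ * g * swap c d) * w⁻¹) * (swap c d)⁻¹ := by rw [h2]
          _ = g * (swap c d * w⁻¹ * (swap c d)⁻¹) := by group
      set d₀ := w * (swap c d * w⁻¹ * (swap c d)⁻¹) with hd₀
      have hd₀mem : d₀ ∈ (Q : Subgroup (Perm Ω)) ⊓ alternatingGroup Ω := mul_mem hw hu
      have hd₀comm : ∀ g ∈ (Q : Subgroup (Perm Ω)) ⊓ alternatingGroup Ω, d₀ * g = g * d₀ := by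
        intro g hg
        rw [hd₀, mul_assoc, hucomm g hg, ← mul_assoc, hwc g hg, mul_assoc]
      have hd₀form : d₀ = swap (w c) (w d) * swap c d := by
        rw [hd₀, Equiv.swap_apply_apply, swap_inv]
        group
      have hd₀ne : d₀ ≠ 1 := by
        intro h
        apply hne
        have : w * swap c d * w⁻¹ * (swap c d)⁻¹ = 1 := by
          rw [← h, hd₀]; group
        rw [mul_inv_eq_one, mul_inv_eq_iff_eq_mul] at this
        exact this
      obtain ⟨a₀, ha₀⟩ : ∃ a₀, d₀ a₀ ≠ a₀ := by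
        by_contra hcon
        push Not at hcon
        exact hd₀ne (Equiv.ext hcon)
      have hF : ∀ b, d₀ b ≠ b → b ∈ ({c, d, w c, w d} : Set Ω) := by
        intro b hb
        by_contra hbF
        simp only [Set.mem_insert_iff, Set.mem_singleton_iff, not_or] at hbF
        apply hb
        rw [hd₀form, Perm.mul_apply, swap_apply_of_ne_of_ne hbF.1 hbF.2.1,
          swap_apply_of_ne_of_ne hbF.2.2.1 hbF.2.2.2]
      have ha₀F := hF a₀ ha₀
      have hwO : ∀ b, b ∈ orb (Q : Subgroup (Perm Ω)) ω₀ → w b ∈ orb (Q : Subgroup (Perm Ω)) ω₀ :=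
        fun b hb => (hO hwQ b).mpr hb
      have hFO : ∀ b, b ∈ ({c, d, w c, w d} : Set Ω) → b ∈ orb (Q : Subgroup (Perm Ω)) ω₀ := by
        intro b hb
        simp only [Set.mem_insert_iff, Set.mem_singleton_iff] at hb
        rcases hb with rfl | rfl | rfl | rfl
        · exact hcO
        · exact hdO
        · exact hwO _ hcO
        · exact hwO _ hdO
      have ha₀O := hFO a₀ ha₀F
      -- the even part moves a₀ only inside F
      have hmove : ∀ g ∈ (Q : Subgroup (Perm Ω)) ⊓ alternatingGroup Ω,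
          g a₀ ∈ ({c, d, w c, w d} : Set Ω) := by
        intro g hg
        apply hF
        have : d₀ (g a₀) = g (d₀ a₀) := by
          rw [← Perm.mul_apply, hd₀comm g hg, Perm.mul_apply]
        rw [this]
        exact fun h => ha₀ (g.injective h)
      -- but it is transitive on the orbit
      have hOsub : orb (Q : Subgroup (Perm Ω)) ω₀ ⊆ ({c, d, w c, w d} : Set Ω) := by
        intro b hb
        have hba : b ∈ orb (Q : Subgroup (Perm Ω)) a₀ := by rw [orb_eq_of_mem ha₀O]; exact hb
        obtain ⟨x, hxQ, hxa⟩ := mem_orb.mp hba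
        by_cases hxs : Perm.sign x = 1
        · rw [← hxa]
          exact hmove x ⟨hxQ, Perm.mem_alternatingGroup.mpr hxs⟩
        · have hxs' : Perm.sign x = -1 := by
            rcases Int.units_eq_one_or (Perm.sign x) with h | h
            · exact absurd h hxs
            · exact h
          -- a point e of the orbit different from c, d
          have hexe : ∃ e, e ∈ orb (Q : Subgroup (Perm Ω)) ω₀ ∧ e ≠ c ∧ e ≠ d := by
            by_contra hcon
            push Not at hcon
            have hsub : orb (Q : Subgroup (Perm Ω)) ω₀ ⊆ ({c, d} : Set Ω) := by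
              intro e he
              by_cases hec : e = c
              · simp [hec]
              · simp [hcon e he hec]
            have := Set.ncard_le_ncard hsub (Set.toFinite _)
            rw [← Nat.card_coe_set_eq] at this
            have h2 : ({c, d} : Set Ω).ncard ≤ 2 := by
              calc ({c, d} : Set Ω).ncard ≤ ({d} : Set Ω).ncard + 1 := Set.ncard_insert_le _ _
                _ = 2 := by rw [Set.ncard_singleton]
            omega
          obtain ⟨e, heO, hec, hed⟩ := hexe
          have hea : a₀ ∈ orb (Q : Subgroup (Perm Ω)) e := by rw [orb_eq_of_mem heO]; exact ha₀O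
          obtain ⟨y, hyQ, hye⟩ := mem_orb.mp hea
          have ht' : y * swap c d * y⁻¹ = swap (y c) (y d) := (Equiv.swap_apply_apply y c d).symm
          have ht'Q : swap (y c) (y d) ∈ Q := by
            rw [← ht']; exact mul_mem (mul_mem hyQ ht₀Q) (inv_mem hyQ)
          have ht'fix : swap (y c) (y d) a₀ = a₀ := by
            apply swap_apply_of_ne_of_ne
            · rw [← hye]; exact fun h => hec (y.injective h)
            · rw [← hye]; exact fun h => hed (y.injective h)
          have hycd : y c ≠ y d := fun h => hcd (y.injective h)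
          have hmem : x * swap (y c) (y d) ∈ (Q : Subgroup (Perm Ω)) ⊓ alternatingGroup Ω := by
            refine ⟨mul_mem hxQ ht'Q, ?_⟩
            show x * swap (y c) (y d) ∈ alternatingGroup Ω
            rw [Perm.mem_alternatingGroup, Perm.sign_mul, hxs', Perm.sign_swap hycd]; rfl
          have := hmove _ hmem
          rwa [Perm.mul_apply, ht'fix, hxa] at this
      have hcardle := Set.ncard_le_ncard hOsub (Set.toFinite _)
      rw [← Nat.card_coe_set_eq] at hcardle
      have h4 : ({c, d, w c, w d} : Set Ω).ncard ≤ 4 := by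
        calc ({c, d, w c, w d} : Set Ω).ncard ≤ ({d, w c, w d} : Set Ω).ncard + 1 :=
              Set.ncard_insert_le _ _
          _ ≤ (({w c, w d} : Set Ω).ncard + 1) + 1 := by
              have := Set.ncard_insert_le d ({w c, w d} : Set Ω); omega
          _ ≤ ((({w d} : Set Ω).ncard + 1) + 1) + 1 := by
              have := Set.ncard_insert_le (w c) ({w d} : Set Ω); omega
          _ = 4 := by rw [Set.ncard_singleton]
      omega
    intro x hx
    by_cases hxs : Perm.sign x = 1
    · exact hwc x ⟨hx, Perm.mem_alternatingGroup.mpr hxs⟩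
    · have hxs' : Perm.sign x = -1 := by
        rcases Int.units_eq_one_or (Perm.sign x) with h | h
        · exact absurd h hxs
        · exact h
      have hmem : x * swap c d ∈ (Q : Subgroup (Perm Ω)) ⊓ alternatingGroup Ω := by
        refine ⟨mul_mem hx ht₀Q, ?_⟩
        show x * swap c d ∈ alternatingGroup Ω
        rw [Perm.mem_alternatingGroup, Perm.sign_mul, hxs', ht₀s]; rfl
      have h1 := hwc _ hmem
      have h2 : w * x * swap c d = x * w * swap c d := by
        rw [mul_assoc, h1, mul_assoc, mul_assoc, hwt]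
      exact mul_right_cancel h2
  -- (5) the centres of the two factors
  obtain ⟨zS, hzS, hzS1, hzSc⟩ := exists_central_ne_one S (Q.isPGroup'.to_le hSQ) hS1
  obtain ⟨zT, hzT, hzT1, hzTc⟩ := exists_central_ne_one T (Q.isPGroup'.to_le hTQ) hT1
  have hcS : ∀ g ∈ (Q : Subgroup (Perm Ω)) ⊓ alternatingGroup Ω, zS * g = g * zS := by
    intro g hg
    rw [← hsup] at hg
    obtain ⟨s, hs, t, ht, rfl⟩ := exists_mul_of_mem_sup' hc hg
    rw [← mul_assoc, hzSc s hs, mul_assoc, hc zS hzS t ht, ← mul_assoc]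
  have hcT : ∀ g ∈ (Q : Subgroup (Perm Ω)) ⊓ alternatingGroup Ω, zT * g = g * zT := by
    intro g hg
    rw [← hsup] at hg
    obtain ⟨s, hs, t, ht, rfl⟩ := exists_mul_of_mem_sup' hc hg
    rw [← mul_assoc, ← hc s hs zT hzT, mul_assoc, hzTc t ht, ← mul_assoc]
  have e1 : zS = z := by
    rcases hcentral zS (hSQ hzS) (hkey zS (hS hzS) hcS) with h | h
    · exact absurd h hzS1
    · exact h
  have e2 : zT = z := by
    rcases hcentral zT (hTQ hzT) (hkey zT (hT hzT) hcT) with h | h
    · exact absurd h hzT1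
    · exact h
  have : z ∈ S ⊓ T := ⟨e1 ▸ hzS, e2 ▸ hzT⟩
  rw [hinf, Subgroup.mem_bot] at this
  exact hz1 this

end Cfsg.Agent.Helper8.SylAlt
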