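import Cfsg.Agent.Helper8.SylAltI
import Cfsg.Agent.Helper8.SylAltK
import Cfsg.Agent.Helper2.SylAltExp
import Cfsg.Agent.Helper1.SylAltConv
import Cfsg.Agent.Helper1.SylAltArith
import Cfsg.Agent.Helper2.SylAltArith2
import Cfsg.Agent.Helper1.SylAltV4
import Cfsg.Agent.Helper1.SylAltGlue
import Cfsg.Agent.Helper3.SylAltWr1
import Cfsg.Agent.Helper2.SylAltWrA

/-!
# S2221 support, part J: final assembly at the level of `Perm (Fin n)`
-/

namespace Cfsg.Agent.Helper8.SylAlt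

open Equiv Classical

theorem wfacts : WFacts := ⟨W1, W2, W5a⟩

theorem two_le_of_four_le_pow {k : ℕ} (h : 4 ≤ 2 ^ k) : 2 ≤ k := by
  by_contra hk
  have : k = 0 ∨ k = 1 := by omega
  rcases this with rfl | rfl <;> omega

theorem main_perm (n : ℕ) (hn : 4 ≤ n) (Q : Sylow 2 (Perm (Fin n))) :
    (∃ S₁ S₂ : Subgroup (Perm (Fin n)), S₁ ≠ ⊥ ∧ S₂ ≠ ⊥ ∧
      Cfsg.IsInternalDirectProduct S₁ S₂
        ((Q : Subgroup (Perm (Fin n))) ⊓ alternatingGroup (Fin n))) ↔
    (n = 4 ∨ n = 5 ∨ ((n % 4 = 2 ∨ n % 4 = 3) ∧ ∀ r : ℕ, 4 * (n / 4) ≠ 2 ^ r)) := by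
  have hsum : n = ∑ k ∈ expSet Q, 2 ^ k := by
    have := card_eq_sum_expSet Q
    rwa [Fintype.card_fin] at this
  constructor
  · rintro ⟨S, T, hS1, hT1, hdp⟩
    have hbigex : ∃ ω, 4 ≤ Nat.card ↥(orb (Q : Subgroup (Perm (Fin n))) ω) := by
      obtain ⟨k, hks, hk2⟩ := arith_exists_big (expSet Q) (by rw [← hsum]; exact hn)
      obtain ⟨ω, hω⟩ := (mem_expSet Q k).mp hks
      exact ⟨ω, by rw [hω]; exact big_of_pow hk2⟩
    have key := forward wfacts Q hbigex S T hS1 hT1 hdp (fun ω₀ h8 hone =>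
      caseA_false_h8 wfacts Q ω₀ h8 hone S T hdp.1 hdp.2.1 hdp.2.2.1 hdp.2.2.2.1 hdp.2.2.2.2 hS1 hT1)
    rcases key with ⟨ω₀, h4, hone⟩ | ⟨⟨ωp, hp⟩, ω₁, ω₂, hb1, hb2, hne⟩
    · have h45 : (∑ k ∈ expSet Q, 2 ^ k) = 4 ∨ (∑ k ∈ expSet Q, 2 ^ k) = 5 := by
        apply (arith_four_five (expSet Q)).mpr
        constructor
        · ext k
          simp only [Finset.mem_filter, Finset.mem_singleton]
          constructor
          · rintro ⟨hks, hk2⟩
            obtain ⟨ω, hω⟩ := (mem_expSet Q k).mp hks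
            rcases hone ω with h | h
            · rw [h, h4] at hω
              have : (2 : ℕ) ^ 2 = 2 ^ k := by rw [← hω]; norm_num
              exact (Nat.pow_right_injective (le_refl 2) this).symm
            · rw [h] at hω
              have := big_of_pow hk2
              omega
          · rintro rfl
            exact ⟨(mem_expSet Q 2).mpr ⟨ω₀, by rw [h4]; norm_num⟩, le_refl 2⟩
        · intro h1
          obtain ⟨ω, hω⟩ := (mem_expSet Q 1).mp h1
          rcases hone ω with h | h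
          · rw [h, h4] at hω; omega
          · rw [h] at hω; omega
      rw [← hsum] at h45
      rcases h45 with h | h
      · exact Or.inl h
      · exact Or.inr (Or.inl h)
    · right; right
      constructor
      · rw [hsum]
        exact (arith_mod_fs (expSet Q)).mpr ((mem_expSet Q 1).mpr ⟨ωp, by rw [hp]; norm_num⟩)
      · intro r hr
        rw [hsum, arith_div_fs] at hr
        obtain ⟨a, ha⟩ := (pow_two_sum_iff_fs _).mp ⟨r, hr⟩
        obtain ⟨k₁, hk₁⟩ := card_orb Q ω₁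
        obtain ⟨k₂, hk₂⟩ := card_orb Q ω₂
        have m1 : k₁ ∈ (expSet Q).filter (2 ≤ ·) := Finset.mem_filter.mpr
          ⟨(mem_expSet Q k₁).mpr ⟨ω₁, hk₁⟩, two_le_of_four_le_pow (by rw [← hk₁]; exact hb1)⟩
        have m2 : k₂ ∈ (expSet Q).filter (2 ≤ ·) := Finset.mem_filter.mpr
          ⟨(mem_expSet Q k₂).mpr ⟨ω₂, hk₂⟩, two_le_of_four_le_pow (by rw [← hk₂]; exact hb2)⟩
        rw [ha, Finset.mem_singleton] at m1 m2
        apply hne
        apply orb_eq_of_card_eq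
        rw [hk₁, hk₂, m1, m2]
  · rintro (h | h | ⟨hmod, hpow⟩)
    · exact decomp_small_perm n (Or.inl h) Q
    · exact decomp_small_perm n (Or.inr h) Q
    · have h1 : 1 ∈ expSet Q := by
        apply (arith_mod_fs (expSet Q)).mp
        rw [← hsum]; exact hmod
      obtain ⟨ωp, hp⟩ := (mem_expSet Q 1).mp h1
      obtain ⟨k₁, hks₁, hk₁2⟩ := arith_exists_big (expSet Q) (by rw [← hsum]; exact hn)
      have m1 : k₁ ∈ (expSet Q).filter (2 ≤ ·) := Finset.mem_filter.mpr ⟨hks₁, hk₁2⟩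
      have hnot : (expSet Q).filter (2 ≤ ·) ≠ {k₁} := by
        intro hs
        obtain ⟨r, hr⟩ := (pow_two_sum_iff_fs _).mpr ⟨k₁, hs⟩
        apply hpow r
        rw [hsum, arith_div_fs]
        exact hr
      have hex : ∃ k₂ ∈ (expSet Q).filter (2 ≤ ·), k₂ ≠ k₁ := by
        by_contra hcon
        push Not at hcon
        apply hnot
        rw [Finset.eq_singleton_iff_unique_mem]
        exact ⟨m1, hcon⟩
      obtain ⟨k₂, m2, hk12⟩ := hex
      rw [Finset.mem_filter] at m2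
      obtain ⟨ω₁, hω₁⟩ := (mem_expSet Q k₁).mp hks₁
      obtain ⟨ω₂, hω₂⟩ := (mem_expSet Q k₂).mp m2.1
      refine decomp_of_two_big Q ωp ω₁ ω₂ (by rw [hp]; norm_num) (by rw [hω₁]; exact big_of_pow hk₁2)
        (by rw [hω₂]; exact big_of_pow m2.2) ?_
      intro h
      have : (2 : ℕ) ^ k₁ = 2 ^ k₂ := by rw [← hω₁, ← hω₂, h]
      exact hk12 (Nat.pow_right_injective (le_refl 2) this).symm

end Cfsg.Agent.Helper8.SylAlt
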