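import Mathlib
import Cfsg.Agent.Helper8.SylLargeSL

set_option autoImplicit false

/-! Sylow `r`-subgroups of `SL_n(q)` for a prime `r > n`, `r ∤ q`: main theorem. -/

namespace Cfsg.Agent.Helper8.SylLarge

open Polynomial

theorem count_Icc (n d : ℕ) (hn : 1 ≤ n) :
    ((Finset.Icc 2 n).filter (fun i => d ∣ i)).card + (if d = 1 then 1 else 0) = n / d := by
  rw [← Nat.Ioc_filter_dvd_card_eq_div n d]
  have h1 : Finset.Ioc 0 n = insert 1 (Finset.Icc 2 n) := by
    ext x
    simp only [Finset.mem_Ioc, Finset.mem_insert, Finset.mem_Icc]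
    omega
  rw [h1, Finset.filter_insert]
  split_ifs with h2 h3 h3
  · rw [Finset.card_insert_of_notMem]
    simp
  · exact absurd (Nat.dvd_one.mpr h2) h3
  · exact absurd (Nat.dvd_one.mp h3) h2
  · rfl

variable {r : ℕ} [hr : Fact r.Prime] {q : ℕ}

theorem padicVal_q_sub_one (hrq : ¬ r ∣ q) (hq2 : 2 ≤ q) :
    padicValNat r (q - 1)
      = if orderOf (q : ZMod r) = 1 then
          padicValNat r ((cyclotomic (orderOf (q : ZMod r)) ℤ).eval (q : ℤ)).natAbs else 0 := by
  have h := padicVal_pow_sub_one hrq hq2 1 (by norm_num) hr.out.one_lt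
  rw [pow_one] at h
  rw [h]
  simp only [Nat.dvd_one]

variable {F : Type*} [Field F] [Fintype F]

theorem factorization_SL (hq : Fintype.card F = q) (n : ℕ) (hn : 1 ≤ n) (hrn : n < r)
    (hrq : ¬ r ∣ q) :
    (Nat.card (Matrix.SpecialLinearGroup (Fin n) F)).factorization r + padicValNat r (q - 1)
      = padicValNat r ((cyclotomic (orderOf (q : ZMod r)) ℤ).eval (q : ℤ)).natAbs
        * (n / orderOf (q : ZMod r)) := by
  have hq2 : 2 ≤ q := by
    rw [← hq]
    exact Fintype.one_lt_card
  haveI : Nonempty (Fin n) := ⟨⟨0, hn⟩⟩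
  have h1 := Cfsg.Agent.Helper7.card_units_mul_card_SL (n := Fin n) (F := F)
  rw [hq] at h1
  have h2 : (Nat.card (GL (Fin n) F)).factorization r
      = padicValNat r ((cyclotomic (orderOf (q : ZMod r)) ℤ).eval (q : ℤ)).natAbs
        * (n / orderOf (q : ZMod r)) := by
    rw [Matrix.card_GL_field, hq, factorization_prod hrq hq2 n hrn]
  rw [← h2, ← h1, Nat.factorization_mul (by omega) Nat.card_pos.ne', Finsupp.add_apply,
    Nat.factorization_def (q - 1) hr.out, add_comm]

/-- Sylow `r`-subgroups of `SL_n(q)` for a prime `r > n` not dividing `q`. -/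
theorem sylow_SL (hq : Fintype.card F = q) (n : ℕ) (hrn : n < r) (hrq : ¬ r ∣ q)
    (P : Sylow r (Matrix.SpecialLinearGroup (Fin n) F)) :
    Nonempty (↥(P : Subgroup (Matrix.SpecialLinearGroup (Fin n) F)) ≃*
      (Fin ((Finset.Icc 2 n).filter (fun i => orderOf (q : ZMod r) ∣ i)).card →
        Multiplicative (ZMod (r ^ padicValNat r
          ((cyclotomic (orderOf (q : ZMod r)) ℤ).eval (q : ℤ)).natAbs)))) := by
  have hq2 : 2 ≤ q := by
    rw [← hq]
    exact Fintype.one_lt_card
  set d := orderOf (q : ZMod r) with hd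
  set e := padicValNat r ((cyclotomic d ℤ).eval (q : ℤ)).natAbs with he
  haveI : NeZero (r ^ e) := ⟨pow_ne_zero _ hr.out.ne_zero⟩
  rcases Nat.eq_zero_or_pos n with rfl | hn
  · -- trivial group
    have ha : ((Finset.Icc 2 0).filter (fun i => d ∣ i)).card = 0 := by
      rw [Finset.Icc_eq_empty (by norm_num)]
      rfl
    rw [ha]
    apply sylow_equiv_of_injective r (1 : (Fin 0 → Multiplicative (ZMod (r ^ e))) →*
      Matrix.SpecialLinearGroup (Fin 0) F)
    · intro s t _
      exact Subsingleton.elim s t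
    · rw [Nat.card_unique, Nat.card_unique]
      simp
  · have hfac := factorization_SL hq n hn hrn hrq
    have hcnt := count_Icc n d hn
    rw [padicVal_q_sub_one hrq hq2] at hfac
    by_cases hd1 : d = 1
    · -- diagonal torus
      rw [if_pos hd1] at hcnt
      rw [if_pos hd1, ← hd, ← he] at hfac
      obtain ⟨k, rfl⟩ : ∃ k, n = k + 1 := ⟨n - 1, by omega⟩
      have hdiv : (k + 1) / d = k + 1 := by rw [hd1, Nat.div_one]
      rw [hdiv] at hcnt hfac
      have ha : ((Finset.Icc 2 (k + 1)).filter (fun i => d ∣ i)).card = k := by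
        omega
      rw [ha]
      -- element of order r^e in Fˣ
      have hdvd : r ^ e ∣ Nat.card Fˣ := by
        rw [Nat.card_units, Nat.card_eq_fintype_card, hq, he, padicVal_cyclotomic hrq hq2, ← hd,
          hd1, pow_one]
        exact pow_padicValNat_dvd
      obtain ⟨x, hx⟩ := exists_orderOf_eq_of_dvd (G := Fˣ) (r ^ e) hdvd
      obtain ⟨φ, hφ⟩ := exists_pi_cyclic_hom (r ^ e) x hx k
      apply sylow_equiv_of_injective r ((diagSL F k).comp φ)
      · exact (diagSL_injective F k).comp hφ
      · rw [card_mulZMod, ← pow_mul]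
        congr 1
        have : e * (k + 1) = e * k + e := by ring
        omega
    · -- Sylow of GL
      rw [if_neg hd1] at hcnt
      rw [if_neg hd1, ← hd, ← he] at hfac
      rw [add_zero] at hcnt hfac
      rw [hcnt]
      have hcard : Nat.card (Subgroup.map Matrix.SpecialLinearGroup.toGL
          (P : Subgroup (Matrix.SpecialLinearGroup (Fin n) F)))
          = r ^ (Nat.card (GL (Fin n) F)).factorization r := by
        rw [← Nat.card_congr (Subgroup.equivMapOfInjective _ _
          Matrix.SpecialLinearGroup.toGL_injective).toEquiv, Sylow.card_eq_multiplicity, hfac,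
          Matrix.card_GL_field, hq, factorization_prod hrq hq2 n hrn]
      obtain ⟨ε⟩ := sylow_GL hq n r hrn hrq (Sylow.ofCard _ hcard)
      exact ⟨(Subgroup.equivMapOfInjective _ _
        Matrix.SpecialLinearGroup.toGL_injective).trans
          ((MulEquiv.subgroupCongr (Sylow.coe_ofCard _ hcard)).symm.trans ε)⟩

end Cfsg.Agent.Helper8.SylLarge
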