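import Mathlib

set_option autoImplicit false

/-!
Sylow subgroups acting on sets: a Sylow `p`-subgroup is transitive on every orbit of `p`-power
length; `p`-subgroups lie in conjugates of subgroups of index prime to `p`.
-/

namespace Cfsg.Agent.Helper8.SylMax

open MulAction

/-- A Sylow `p`-subgroup is transitive on an orbit of `p`-power length. -/
theorem sylow_orbit {G α : Type*} [Group G] [Finite G] [MulAction G α] {p : ℕ} [hp : Fact p.Prime]
    (P : Sylow p G) (x : α) (k : ℕ) (h : Nat.card (orbit G x) = p ^ k) (y : α)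
    (hy : y ∈ orbit G x) : ∃ g ∈ (P : Subgroup G), g • x = y := by
  classical
  have hfin : Finite (orbit G x) := by
    apply Nat.finite_of_card_ne_zero
    rw [h]
    exact pow_ne_zero _ hp.out.ne_zero
  have hfinS : (orbit G x).Finite := Set.toFinite _
  -- the orbit of `P`
  have hsub : orbit (↥(P : Subgroup G)) x ⊆ orbit G x := by
    rintro _ ⟨g, rfl⟩
    exact ⟨(g : G), rfl⟩
  have hfinP : Finite (orbit (↥(P : Subgroup G)) x) := (hfinS.subset hsub).to_subtype
  have h1 : Nat.card (orbit G x) * Nat.card (stabilizer G x) = Nat.card G := by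
    rw [Nat.card_coe_set_eq, ← MulAction.index_stabilizer, mul_comm]
    exact Subgroup.card_mul_index _
  have h2 : Nat.card (orbit (↥(P : Subgroup G)) x) * Nat.card (stabilizer (↥(P : Subgroup G)) x) =
      Nat.card (↥(P : Subgroup G)) := by
    rw [Nat.card_coe_set_eq, ← MulAction.index_stabilizer, mul_comm]
    exact Subgroup.card_mul_index _
  have hcardP := P.card_eq_multiplicity
  have hG0 : Nat.card G ≠ 0 := Nat.card_pos.ne'
  have hS0 : Nat.card (stabilizer G x) ≠ 0 := Nat.card_pos.ne'
  -- the stabilizer in `P` is a `p`-group whose order divides that of the stabilizer in `G`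
  obtain ⟨j, hj⟩ := IsPGroup.iff_card.mp
    ((P.isPGroup').to_subgroup (stabilizer (↥(P : Subgroup G)) x))
  have hdvd : Nat.card (stabilizer (↥(P : Subgroup G)) x) ∣ Nat.card (stabilizer G x) := by
    have hinj : Function.Injective
        (fun g : stabilizer (↥(P : Subgroup G)) x =>
          (⟨((g : ↥(P : Subgroup G)) : G), g.2⟩ : stabilizer G x)) := by
      intro a b hab
      apply Subtype.ext
      apply Subtype.ext
      exact congrArg (fun t : stabilizer G x => (t : G)) hab
    let φ : stabilizer (↥(P : Subgroup G)) x →* stabilizer G x :=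
      { toFun := fun g => ⟨((g : ↥(P : Subgroup G)) : G), g.2⟩
        map_one' := rfl
        map_mul' := fun _ _ => rfl }
    exact Subgroup.card_dvd_of_injective φ hinj
  set ν := (Nat.card (stabilizer G x)).factorization p with hν
  have hjν : j ≤ ν := by
    rw [hj] at hdvd
    exact (hp.out.pow_dvd_iff_le_factorization hS0).mp hdvd
  have hfac : (Nat.card G).factorization p = k + ν := by
    rw [← h1, h, Nat.factorization_mul (pow_ne_zero _ hp.out.ne_zero) hS0, Finsupp.add_apply,
      hp.out.factorization_pow, Finsupp.single_eq_same]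
  -- the orbit of `P` has at least `p ^ k` elements
  have hle : p ^ k ≤ Nat.card (orbit (↥(P : Subgroup G)) x) := by
    rw [hcardP, hfac, hj] at h2
    have hpos : 0 < p ^ j := pow_pos hp.out.pos _
    have h3 : Nat.card (orbit (↥(P : Subgroup G)) x) * p ^ j = p ^ (k + (ν - j)) * p ^ j := by
      rw [h2, ← pow_add]
      congr 1
      omega
    have h4 := Nat.eq_of_mul_eq_mul_right hpos h3
    rw [h4]
    exact Nat.pow_le_pow_right hp.out.pos (Nat.le_add_right _ _)
  have heq : orbit (↥(P : Subgroup G)) x = orbit G x := by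
    apply Set.eq_of_subset_of_ncard_le hsub _ hfinS
    rw [← Nat.card_coe_set_eq, ← Nat.card_coe_set_eq, h]
    exact hle
  rw [← heq] at hy
  obtain ⟨g, rfl⟩ := hy
  exact ⟨(g : G), g.2, rfl⟩

/-- A `p`-subgroup lies in a conjugate of every subgroup of index prime to `p`. -/
theorem exists_conj_mem_of_not_dvd_index {G : Type*} [Group G] [Finite G] {p : ℕ}
    [hp : Fact p.Prime] {P C : Subgroup G} (hP : IsPGroup p P) (hC : ¬ p ∣ C.index) :
    ∃ g : G, ∀ x ∈ P, g⁻¹ * x * g ∈ C := by
  have hne := hP.nonempty_fixed_point_of_prime_not_dvd_card (G ⧸ C) (by rwa [← Subgroup.index])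
  obtain ⟨q, hq⟩ := hne
  obtain ⟨g, rfl⟩ := QuotientGroup.mk_surjective q
  refine ⟨g, fun x hx => ?_⟩
  have h1 := hq ⟨x, hx⟩
  change ((x * g : G) : G ⧸ C) = (g : G ⧸ C) at h1
  have h2 := QuotientGroup.eq.mp h1.symm
  rw [← mul_assoc] at h2
  exact h2

theorem odd_doubleFactorial (m : ℕ) : Odd (2 * m + 1).doubleFactorial := by
  induction m with
  | zero => simp
  | succ m ih =>
    rw [show 2 * (m + 1) + 1 = (2 * m + 1) + 2 from by ring, Nat.doubleFactorial_add_two]
    exact Odd.mul ⟨m + 1, by ring⟩ ih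

/-- `(2m)! = 2^m · m! · (2m-1)!!`. -/
theorem factorial_two_mul (m : ℕ) (hm : 1 ≤ m) :
    (2 * m).factorial = 2 ^ m * m.factorial * (2 * m - 1).doubleFactorial := by
  obtain ⟨j, rfl⟩ : ∃ j, m = j + 1 := ⟨m - 1, by omega⟩
  rw [show 2 * (j + 1) = (2 * j + 1) + 1 from by ring, Nat.factorial_eq_mul_doubleFactorial,
    show (2 * j + 1) + 1 = 2 * (j + 1) from by ring, Nat.doubleFactorial_two_mul]
  rfl

end Cfsg.Agent.Helper8.SylMax
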