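import Mathlib
import Cfsg.Agent.Helper8.SylMaxA

set_option autoImplicit false

/-!
Permutation lemmas: a `2`-group of permutations of a set of even size centralizes a
fixed-point-free involution; three-cycles from pairs of double transpositions.
-/

namespace Cfsg.Agent.Helper8.SylMax

open Equiv Equiv.Perm

variable {α : Type*} [Fintype α] [DecidableEq α]

/-- A `2`-group of permutations of a set of even size centralizes a fixed-point-free
involution. -/
theorem exists_fpf_involution {P : Subgroup (Perm α)} (hP : IsPGroup 2 P) {m : ℕ} (hm : 1 ≤ m)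
    (hcard : Fintype.card α = 2 * m) :
    ∃ z : Perm α, z * z = 1 ∧ (∀ x, z x ≠ x) ∧ ∀ g ∈ P, g * z = z * g := by
  have hex : ∃ z₀ : Perm α, z₀.cycleType = Multiset.replicate m 2 := by
    rw [Equiv.Perm.exists_with_cycleType_iff]
    refine ⟨?_, ?_⟩
    · rw [Multiset.sum_replicate, hcard, smul_eq_mul, mul_comm]
    · intro a ha
      rw [Multiset.eq_of_mem_replicate ha]
  obtain ⟨z₀, hz₀⟩ := hex
  have hsq : z₀ * z₀ = 1 := by
    have h1 : orderOf z₀ = 2 := by
      rw [← Equiv.Perm.lcm_cycleType, hz₀]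
      obtain ⟨j, rfl⟩ : ∃ j, m = j + 1 := ⟨m - 1, by omega⟩
      clear hm hcard hz₀
      induction j with
      | zero => simp
      | succ j ih =>
        rw [Multiset.replicate_succ, Multiset.lcm_cons, ih]
        simp
    rw [← pow_two, ← h1, pow_orderOf_eq_one]
  have hsupp : ∀ x, z₀ x ≠ x := by
    have h1 : z₀.support.card = Fintype.card α := by
      rw [← Equiv.Perm.sum_cycleType, hz₀, Multiset.sum_replicate, hcard, smul_eq_mul, mul_comm]
    have h2 : z₀.support = Finset.univ := Finset.eq_univ_of_card _ h1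
    intro x
    rw [← Equiv.Perm.mem_support, h2]
    exact Finset.mem_univ x
  -- the centralizer of `z₀` has odd index
  have hC : Nat.card (Subgroup.centralizer {z₀}) = 2 ^ m * m.factorial := by
    rw [Equiv.Perm.nat_card_centralizer, hz₀, Multiset.sum_replicate, Multiset.prod_replicate,
      hcard, smul_eq_mul, mul_comm m 2, Nat.sub_self, Nat.factorial_zero, one_mul]
    congr 1
    have h1 : (Multiset.replicate m 2).toFinset = {2} := by
      ext a
      rw [Multiset.mem_toFinset, Multiset.mem_replicate, Finset.mem_singleton]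
      constructor
      · exact fun h => h.2
      · exact fun h => ⟨by omega, h⟩
    rw [h1, Finset.prod_singleton, Multiset.count_replicate_self]
  have hidx : ¬ 2 ∣ (Subgroup.centralizer {z₀}).index := by
    have h1 := Subgroup.card_mul_index (Subgroup.centralizer {z₀})
    rw [hC, Nat.card_perm, Nat.card_eq_fintype_card, hcard, factorial_two_mul m hm] at h1
    have h2 : (Subgroup.centralizer {z₀}).index = (2 * m - 1).doubleFactorial := by
      have hpos : 0 < 2 ^ m * m.factorial := by positivity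
      exact Nat.eq_of_mul_eq_mul_left hpos h1
    rw [h2]
    obtain ⟨j, rfl⟩ : ∃ j, m = j + 1 := ⟨m - 1, by omega⟩
    have h3 := odd_doubleFactorial j
    rw [show 2 * (j + 1) - 1 = 2 * j + 1 from by omega]
    intro h4
    exact (Nat.not_even_iff_odd.mpr h3) (even_iff_two_dvd.mpr h4)
  have : Fact (Nat.Prime 2) := ⟨Nat.prime_two⟩
  obtain ⟨g, hg⟩ := exists_conj_mem_of_not_dvd_index hP hidx
  refine ⟨g * z₀ * g⁻¹, ?_, ?_, ?_⟩
  · calc g * z₀ * g⁻¹ * (g * z₀ * g⁻¹) = g * (z₀ * z₀) * g⁻¹ := by group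
      _ = 1 := by rw [hsq]; group
  · intro x hx
    apply hsupp (g⁻¹ x)
    have h1 : g (z₀ (g⁻¹ x)) = x := hx
    calc z₀ (g⁻¹ x) = g⁻¹ (g (z₀ (g⁻¹ x))) := by simp
      _ = g⁻¹ x := by rw [h1]
  · intro x hx
    have h1 := hg x hx
    rw [Subgroup.mem_centralizer_iff] at h1
    have h2 := h1 z₀ (Set.mem_singleton z₀)
    calc x * (g * z₀ * g⁻¹) = g * (g⁻¹ * x * g * z₀) * g⁻¹ := by group
      _ = g * (z₀ * (g⁻¹ * x * g)) * g⁻¹ := by rw [← h2]
      _ = g * z₀ * g⁻¹ * x := by group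

omit [Fintype α] in
theorem swap_comm_of_ne {a b c d : α} (hac : a ≠ c) (had : a ≠ d) (hbc : b ≠ c) (hbd : b ≠ d)
    (hab : a ≠ b) (hcd : c ≠ d) : swap a b * swap c d = swap c d * swap a b := by
  apply (Equiv.Perm.disjoint_swap_swap _).commute.eq
  simp [*]

omit [Fintype α] in
theorem dt_mul_dt_same {x y z w v : α} (hxz : x ≠ z) (hxw : x ≠ w) (hyz : y ≠ z) (hyw : y ≠ w)
    (hxy : x ≠ y) (hzw : z ≠ w) :
    (swap x y * swap z w) * (swap x y * swap z v) = swap z w * swap z v := by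
  rw [swap_comm_of_ne hxz hxw hyz hyw hxy hzw, mul_assoc, ← mul_assoc (swap x y), swap_mul_self,
    one_mul]

omit [Fintype α] in
theorem comm_dt_dt {p ω q r e f g : α} (h : [p, ω, q, r, e, f, g].Nodup) :
    (swap p ω * swap q r) * (swap p e * swap f g) * (swap p ω * swap q r)⁻¹ *
      (swap p e * swap f g)⁻¹ = swap ω p * swap ω e := by
  simp only [List.nodup_cons, List.mem_cons, List.not_mem_nil, or_false, not_or, List.nodup_nil,
    and_true, not_false_eq_true] at h
  obtain ⟨⟨h1, h2, h3, h4, h5, h6⟩, ⟨h7, h8, h9, h10, h11⟩, ⟨h12, h13, h14, h15⟩, ⟨h16, h17, h18⟩,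
    ⟨h19, h20⟩, h21⟩ := h
  set t₂ := swap p e * swap f g with ht₂
  have e1 : t₂ p = e := by
    rw [ht₂, Perm.mul_apply, swap_apply_of_ne_of_ne h5 h6, swap_apply_left]
  have e2 : t₂ ω = ω := by
    rw [ht₂, Perm.mul_apply, swap_apply_of_ne_of_ne h10 h11, swap_apply_of_ne_of_ne (Ne.symm h1) h9]
  have e3 : t₂ q = q := by
    rw [ht₂, Perm.mul_apply, swap_apply_of_ne_of_ne h14 h15,
      swap_apply_of_ne_of_ne (Ne.symm h2) h13]
  have e4 : t₂ r = r := by
    rw [ht₂, Perm.mul_apply, swap_apply_of_ne_of_ne h17 h18,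
      swap_apply_of_ne_of_ne (Ne.symm h3) h16]
  have hconj : t₂ * (swap p ω * swap q r)⁻¹ * t₂⁻¹ = swap e ω * swap q r := by
    rw [mul_inv_rev, swap_inv, swap_inv,
      swap_comm_of_ne (Ne.symm h2) (Ne.symm h7) (Ne.symm h3) (Ne.symm h8) h12 h1]
    calc t₂ * (swap p ω * swap q r) * t₂⁻¹ = (t₂ * swap p ω * t₂⁻¹) * (t₂ * swap q r * t₂⁻¹) := by
          group
      _ = swap (t₂ p) (t₂ ω) * swap (t₂ q) (t₂ r) := by
          rw [swap_apply_apply, swap_apply_apply]
      _ = swap e ω * swap q r := by rw [e1, e2, e3, e4]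
  calc (swap p ω * swap q r) * t₂ * (swap p ω * swap q r)⁻¹ * t₂⁻¹
      = (swap p ω * swap q r) * (t₂ * (swap p ω * swap q r)⁻¹ * t₂⁻¹) := by group
    _ = (swap p ω * swap q r) * (swap e ω * swap q r) := by rw [hconj]
    _ = swap p ω * (swap q r * swap e ω) * swap q r := by group
    _ = swap p ω * (swap e ω * swap q r) * swap q r := by
        rw [swap_comm_of_ne h13 (Ne.symm h7) h16 (Ne.symm h8) h12 (Ne.symm h9)]
    _ = swap p ω * swap e ω := by
        rw [mul_assoc, mul_assoc, swap_mul_self, mul_one]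
    _ = swap ω p * swap ω e := by rw [swap_comm p ω, swap_comm e ω]

omit [Fintype α] [DecidableEq α] in
/-- A transitive group with a point stabilizer transitive on the remaining points is primitive. -/
theorem isPreprimitive_of_stab_trans {M : Subgroup (Perm α)} (ω₀ : α)
    (hM : ∀ x, ∃ g ∈ M, g x = ω₀)
    (hR : ∀ x y, x ≠ ω₀ → y ≠ ω₀ → ∃ g ∈ M, g ω₀ = ω₀ ∧ g x = y) : MulAction.IsPreprimitive M α := by
  apply MulAction.isPreprimitive_of_is_two_pretransitive
  rw [MulAction.is_two_pretransitive_iff]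
  intro a b c d hab hcd
  obtain ⟨g₁, hg₁, h1⟩ := hM a
  obtain ⟨g₂, hg₂, h2⟩ := hM c
  have hb : g₁ b ≠ ω₀ := by
    rw [← h1]
    exact fun h => hab (g₁.injective h).symm
  have hd : g₂ d ≠ ω₀ := by
    rw [← h2]
    exact fun h => hcd (g₂.injective h).symm
  obtain ⟨r, hr, hr0, hr1⟩ := hR _ _ hb hd
  refine ⟨⟨g₂⁻¹ * r * g₁, M.mul_mem (M.mul_mem (M.inv_mem hg₂) hr) hg₁⟩, ?_, ?_⟩
  · change (g₂⁻¹ * r * g₁) a = c
    rw [Perm.mul_apply, Perm.mul_apply, h1, hr0, ← h2]
    simp
  · change (g₂⁻¹ * r * g₁) b = d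
    rw [Perm.mul_apply, Perm.mul_apply, hr1]
    simp

end Cfsg.Agent.Helper8.SylMax
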