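import Mathlib
import Cfsg.Agent.Helper8.SylMaxB

set_option autoImplicit false

/-!
Two criteria for a permutation group to contain the alternating group.
-/

namespace Cfsg.Agent.Helper8.SylMax

open Equiv Equiv.Perm MulAction

variable {α : Type*} [Fintype α] [DecidableEq α]

/-- A primitive group containing Klein four-groups on the blocks of a partition of the points
other than `ω₀` into sets of size four, and an element moving a point to `ω₀`, contains the
alternating group. -/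
theorem alt_le_of_blocks {M : Subgroup (Perm α)} (hprim : IsPreprimitive M α)
    {ι : Type*} [DecidableEq ι] (ℓ : α → Option ι) (ω₀ : α)
    (hω : ∀ x, ℓ x = none ↔ x = ω₀)
    (hfib : ∀ x, ℓ x ≠ none → (Finset.univ.filter (fun y => ℓ y = ℓ x)).card = 4)
    (hV : ∀ a b c d, [a, b, c, d].Nodup → ℓ a ≠ none → ℓ b = ℓ a → ℓ c = ℓ a → ℓ d = ℓ a →
      swap a b * swap c d ∈ M)
    (hmove : ∃ h ∈ M, ∃ d₀, d₀ ≠ ω₀ ∧ h d₀ = ω₀) :
    alternatingGroup α ≤ M := by
  suffices h3 : ∃ g ∈ M, g.IsThreeCycle by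
    obtain ⟨g, hg, h3g⟩ := h3
    exact alternatingGroup_le_of_isPreprimitive_of_isThreeCycle_mem hprim h3g hg
  obtain ⟨h, hh, d₀, hd₀, hhd₀⟩ := hmove
  have hℓd₀ : ℓ d₀ ≠ none := fun h0 => hd₀ ((hω d₀).mp h0)
  -- the block of `d₀`
  have hF := hfib d₀ hℓd₀
  have hd₀F : d₀ ∈ Finset.univ.filter (fun y => ℓ y = ℓ d₀) := by simp
  have hF3 : ((Finset.univ.filter (fun y => ℓ y = ℓ d₀)).erase d₀).card = 3 := by
    rw [Finset.card_erase_of_mem hd₀F, hF]
  obtain ⟨d₁, d₂, d₃, h12, h13, h23, hE⟩ := Finset.card_eq_three.mp hF3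
  have hmem : ∀ y, y ∈ ({d₁, d₂, d₃} : Finset α) → y ≠ d₀ ∧ ℓ y = ℓ d₀ := by
    intro y hy
    rw [← hE, Finset.mem_erase, Finset.mem_filter] at hy
    exact ⟨hy.1, hy.2.2⟩
  obtain ⟨h10, hl1⟩ := hmem d₁ (by simp)
  obtain ⟨h20, hl2⟩ := hmem d₂ (by simp)
  obtain ⟨h30, hl3⟩ := hmem d₃ (by simp)
  -- conjugating by `h`
  have hconj : ∀ a b c d, swap a b * swap c d ∈ M → swap (h a) (h b) * swap (h c) (h d) ∈ M := by
    intro a b c d hm
    have : swap (h a) (h b) * swap (h c) (h d) = h * (swap a b * swap c d) * h⁻¹ := by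
      rw [swap_apply_apply, swap_apply_apply]
      group
    rw [this]
    exact M.mul_mem (M.mul_mem hh hm) (M.inv_mem hh)
  set x := h d₁ with hx
  set y := h d₂ with hy
  set z := h d₃ with hz
  have hxy : x ≠ y := fun e => h12 (h.injective e)
  have hxz : x ≠ z := fun e => h13 (h.injective e)
  have hyz : y ≠ z := fun e => h23 (h.injective e)
  have hx0 : x ≠ ω₀ := by rw [← hhd₀]; exact fun e => h10 (h.injective e)
  have hy0 : y ≠ ω₀ := by rw [← hhd₀]; exact fun e => h20 (h.injective e)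
  have hz0 : z ≠ ω₀ := by rw [← hhd₀]; exact fun e => h30 (h.injective e)
  have hℓx : ℓ x ≠ none := fun h0 => hx0 ((hω x).mp h0)
  have hℓy : ℓ y ≠ none := fun h0 => hy0 ((hω y).mp h0)
  have hℓz : ℓ z ≠ none := fun h0 => hz0 ((hω z).mp h0)
  -- the three double transpositions on `{ω₀, x, y, z}`
  have t1 : swap ω₀ x * swap y z ∈ M := by
    have := hconj d₀ d₁ d₂ d₃ (hV d₀ d₁ d₂ d₃ (by simp [*, Ne.symm]) hℓd₀ hl1 hl2 hl3)
    rwa [hhd₀] at this
  have t2 : swap ω₀ y * swap x z ∈ M := by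
    have := hconj d₀ d₂ d₁ d₃ (hV d₀ d₂ d₁ d₃ (by simp [*, Ne.symm]) hℓd₀ hl2 hl1 hl3)
    rwa [hhd₀] at this
  have t3 : swap ω₀ z * swap x y ∈ M := by
    have := hconj d₀ d₃ d₁ d₂ (hV d₀ d₃ d₁ d₂ (by simp [*, Ne.symm]) hℓd₀ hl3 hl1 hl2)
    rwa [hhd₀] at this
  -- a point of `{x, y, z}` alone in its block gives a three-cycle
  have key1 : ∀ p q r, p ≠ ω₀ → q ≠ ω₀ → r ≠ ω₀ → p ≠ q → p ≠ r → q ≠ r → ℓ q ≠ ℓ p → ℓ r ≠ ℓ p →
      swap ω₀ p * swap q r ∈ M → ∃ g ∈ M, g.IsThreeCycle := by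
    intro p q r hp0 hq0 hr0 hpq hpr hqr hlq hlr ht
    have hℓp : ℓ p ≠ none := fun h0 => hp0 ((hω p).mp h0)
    have hFp := hfib p hℓp
    have hpF : p ∈ Finset.univ.filter (fun y => ℓ y = ℓ p) := by simp
    have hFp3 : ((Finset.univ.filter (fun y => ℓ y = ℓ p)).erase p).card = 3 := by
      rw [Finset.card_erase_of_mem hpF, hFp]
    obtain ⟨e, f, g, hef, heg, hfg, hE'⟩ := Finset.card_eq_three.mp hFp3
    have hmem' : ∀ y, y ∈ ({e, f, g} : Finset α) → y ≠ p ∧ ℓ y = ℓ p := by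
      intro y hy
      rw [← hE', Finset.mem_erase, Finset.mem_filter] at hy
      exact ⟨hy.1, hy.2.2⟩
    obtain ⟨hep, hle⟩ := hmem' e (by simp)
    obtain ⟨hfp, hlf⟩ := hmem' f (by simp)
    obtain ⟨hgp, hlg⟩ := hmem' g (by simp)
    have hne0 : ∀ y, ℓ y = ℓ p → y ≠ ω₀ := fun y hly h0 => hℓp (by rw [← hly, h0]; exact (hω ω₀).mpr rfl)
    have hneq : ∀ y, ℓ y = ℓ p → y ≠ q := fun y hly h0 => hlq (by rw [← h0]; exact hly)
    have hner : ∀ y, ℓ y = ℓ p → y ≠ r := fun y hly h0 => hlr (by rw [← h0]; exact hly)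
    have t' : swap p e * swap f g ∈ M :=
      hV p e f g (by simp [hef, heg, hfg, Ne.symm hep, Ne.symm hfp, Ne.symm hgp]) hℓp hle hlf hlg
    have ht'' : swap p ω₀ * swap q r ∈ M := by rwa [swap_comm p ω₀]
    have hnd : [p, ω₀, q, r, e, f, g].Nodup := by
      simp only [List.nodup_cons, List.mem_cons, List.not_mem_nil, or_false, not_or,
        List.nodup_nil, and_true, not_false_eq_true]
      exact ⟨⟨hp0, hpq, hpr, Ne.symm hep, Ne.symm hfp, Ne.symm hgp⟩,
        ⟨Ne.symm hq0, Ne.symm hr0, Ne.symm (hne0 e hle), Ne.symm (hne0 f hlf),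
          Ne.symm (hne0 g hlg)⟩,
        ⟨hqr, Ne.symm (hneq e hle), Ne.symm (hneq f hlf), Ne.symm (hneq g hlg)⟩,
        ⟨Ne.symm (hner e hle), Ne.symm (hner f hlf), Ne.symm (hner g hlg)⟩,
        ⟨hef, heg⟩, hfg⟩
    refine ⟨_, ?_, isThreeCycle_swap_mul_swap_same (Ne.symm hp0) (Ne.symm (hne0 e hle))
      (Ne.symm hep)⟩
    rw [← comm_dt_dt hnd]
    exact M.mul_mem (M.mul_mem (M.mul_mem ht'' t') (M.inv_mem ht'')) (M.inv_mem t')
  by_cases hlxy : ℓ y = ℓ x
  · by_cases hlxz : ℓ z = ℓ x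
    · -- all three in one block: use the fourth point
      have hFx := hfib x hℓx
      have hsub : ({x, y, z} : Finset α) ⊆ Finset.univ.filter (fun t => ℓ t = ℓ x) := by
        intro t ht
        simp only [Finset.mem_insert, Finset.mem_singleton] at ht
        rcases ht with rfl | rfl | rfl <;> simp [hlxy, hlxz]
      have hc3 : ({x, y, z} : Finset α).card = 3 := Finset.card_eq_three.mpr
        ⟨x, y, z, hxy, hxz, hyz, rfl⟩
      obtain ⟨w, hwF, hwn⟩ := Finset.exists_mem_notMem_of_card_lt_card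
        (s := ({x, y, z} : Finset α)) (t := Finset.univ.filter (fun t => ℓ t = ℓ x))
        (by rw [hc3, hFx]; norm_num)
      simp only [Finset.mem_insert, Finset.mem_singleton, not_or] at hwn
      obtain ⟨hwx, hwy, hwz⟩ := hwn
      have hlw : ℓ w = ℓ x := (Finset.mem_filter.mp hwF).2
      have hw0 : w ≠ ω₀ := fun h0 => hℓx (by rw [← hlw, h0]; exact (hω ω₀).mpr rfl)
      have t4 : swap x y * swap z w ∈ M :=
        hV x y z w (by simp [hxy, hxz, hyz, Ne.symm hwx, Ne.symm hwy, Ne.symm hwz]) hℓx hlxy hlxz hlw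
      have t5 : swap x y * swap z ω₀ ∈ M := by
        rw [swap_comm_of_ne hxz hx0 hyz hy0 hxy hz0, swap_comm z ω₀]
        exact t3
      refine ⟨_, ?_, isThreeCycle_swap_mul_swap_same (Ne.symm hwz) hz0 hw0⟩
      rw [← dt_mul_dt_same hxz (Ne.symm hwx) hyz (Ne.symm hwy) hxy (Ne.symm hwz)]
      exact M.mul_mem t4 t5
    · -- `z` alone
      exact key1 z x y hz0 hx0 hy0 (Ne.symm hxz) (Ne.symm hyz) hxy (fun e => hlxz e.symm)
        (fun e => hlxz (by rw [← hlxy]; exact e.symm)) t3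
  · by_cases hlxz : ℓ z = ℓ x
    · -- `y` alone
      exact key1 y x z hy0 hx0 hz0 (Ne.symm hxy) hyz hxz (fun e => hlxy e.symm)
        (fun e => hlxy (by rw [← hlxz]; exact e.symm)) t2
    · -- `x` alone
      exact key1 x y z hx0 hy0 hz0 hxy hxz hyz hlxy hlxz t1

end Cfsg.Agent.Helper8.SylMax
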