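import Mathlib
import Cfsg.Agent.Helper8.SylMaxC

set_option autoImplicit false

/-!
A transitive group containing the alternating groups of the two halves of a bisection and an
element mixing the halves while fixing a point contains the alternating group.
-/

namespace Cfsg.Agent.Helper8.SylMax

open Equiv Equiv.Perm MulAction
open scoped Pointwise

variable {α : Type*} [Fintype α] [DecidableEq α]

theorem alt_le_of_halves {M : Subgroup (Perm α)} (htr : ∀ x y : α, ∃ g ∈ M, g x = y)
    (s : Finset α) (hs : 2 * s.card = Fintype.card α) (hs4 : 4 ≤ s.card)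
    (h3s : ∀ a b c, a ∈ s → b ∈ s → c ∈ s → a ≠ b → a ≠ c → b ≠ c → swap a b * swap a c ∈ M)
    (h3c : ∀ a b c, a ∉ s → b ∉ s → c ∉ s → a ≠ b → a ≠ c → b ≠ c → swap a b * swap a c ∈ M)
    {σ : Perm α} (hσ : σ ∈ M) {x u : α} (hx : x ∈ s) (hu : u ∈ s) (hσu : σ u = u)
    (hσx : σ x ∉ s) : alternatingGroup α ≤ M := by
  have : IsPretransitive M α :=
    ⟨fun x y => by obtain ⟨g, hg, h⟩ := htr x y; exact ⟨⟨g, hg⟩, h⟩⟩
  have hxu : x ≠ u := by
    rintro rfl
    rw [hσu] at hσx
    exact hσx hu
  -- a third point of `s`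
  obtain ⟨w, hw, hwn⟩ := Finset.exists_mem_notMem_of_card_lt_card
    (s := ({x, u} : Finset α)) (t := s) (lt_of_le_of_lt Finset.card_le_two (by omega))
  simp only [Finset.mem_insert, Finset.mem_singleton, not_or] at hwn
  obtain ⟨hwx, hwu⟩ := hwn
  have h3 : (swap x u * swap x w).IsThreeCycle :=
    isThreeCycle_swap_mul_swap_same hxu (Ne.symm hwx) (Ne.symm hwu)
  refine alternatingGroup_le_of_isPreprimitive_of_isThreeCycle_mem ?_ h3
    (h3s x u w hx hu hw hxu (Ne.symm hwx) (Ne.symm hwu))
  apply IsPreprimitive.of_isTrivialBlock_base u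
  intro B huB hB
  by_contra htriv
  rw [IsTrivialBlock, not_or] at htriv
  obtain ⟨hsub, hne⟩ := htriv
  obtain ⟨v, hvB, hvu⟩ : ∃ v ∈ B, v ≠ u := by
    by_contra hcon
    push Not at hcon
    apply hsub
    intro p hp q hq
    rw [hcon p hp, hcon q hq]
  have hfix : ∀ g ∈ M, g u = u → ∀ y ∈ B, g y ∈ B := by
    intro g hg hgu y hy
    have h1 : (⟨g, hg⟩ : M) • B = B :=
      hB.smul_eq_of_mem huB (by change g u ∈ B; rw [hgu]; exact huB)
    rw [← h1]
    exact Set.smul_mem_smul_set (a := (⟨g, hg⟩ : M)) hy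
  apply hne
  apply hB.eq_univ_of_card_lt
  rw [Nat.card_eq_fintype_card, ← hs]
  by_cases hvs : v ∈ s
  · have hsB : ∀ y ∈ s, y ∈ B := by
      intro y hy
      by_cases hyu : y = u
      · rw [hyu]; exact huB
      by_cases hyv : y = v
      · rw [hyv]; exact hvB
      obtain ⟨c, hc, hcn⟩ := Finset.exists_mem_notMem_of_card_lt_card
        (s := ({u, v, y} : Finset α)) (t := s) (lt_of_le_of_lt Finset.card_le_three (by omega))
      simp only [Finset.mem_insert, Finset.mem_singleton, not_or] at hcn
      obtain ⟨hcu, hcv, hcy⟩ := hcn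
      have hmem := h3s v c y hvs hc hy (Ne.symm hcv) (Ne.symm hyv) hcy
      have hgu : (swap v c * swap v y) u = u := by
        rw [Perm.mul_apply, swap_apply_of_ne_of_ne (Ne.symm hvu) (Ne.symm hyu),
          swap_apply_of_ne_of_ne (Ne.symm hvu) (Ne.symm hcu)]
      have := hfix _ hmem hgu v hvB
      rwa [Perm.mul_apply, swap_apply_left, swap_apply_of_ne_of_ne hyv (Ne.symm hcy)] at this
    have hsub2 : ((insert (σ x) s : Finset α) : Set α) ⊆ B := by
      intro y hy
      rw [Finset.mem_coe, Finset.mem_insert] at hy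
      rcases hy with rfl | hy
      · exact hfix σ hσ hσu x (hsB x hx)
      · exact hsB y hy
    have hfinB : B.Finite := Set.toFinite B
    have h1 := Set.ncard_le_ncard hsub2 hfinB
    rw [Set.ncard_coe_finset, Finset.card_insert_of_notMem hσx] at h1
    omega
  · have hcB : ∀ y, y ∉ s → y ∈ B := by
      intro y hy
      by_cases hyv : y = v
      · rw [hyv]; exact hvB
      have hcard : (sᶜ : Finset α).card = s.card := by
        rw [Finset.card_compl]; omega
      obtain ⟨c, hc, hcn⟩ := Finset.exists_mem_notMem_of_card_lt_card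
        (s := ({v, y} : Finset α)) (t := sᶜ) (lt_of_le_of_lt Finset.card_le_two (by omega))
      simp only [Finset.mem_insert, Finset.mem_singleton, not_or] at hcn
      obtain ⟨hcv, hcy⟩ := hcn
      rw [Finset.mem_compl] at hc
      have hmem := h3c v c y hvs hc hy (Ne.symm hcv) (Ne.symm hyv) hcy
      have huv : u ≠ v := Ne.symm hvu
      have huy : u ≠ y := fun e => hy (e ▸ hu)
      have huc : u ≠ c := fun e => hc (e ▸ hu)
      have hgu : (swap v c * swap v y) u = u := by
        rw [Perm.mul_apply, swap_apply_of_ne_of_ne huv huy, swap_apply_of_ne_of_ne huv huc]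
      have := hfix _ hmem hgu v hvB
      rwa [Perm.mul_apply, swap_apply_left, swap_apply_of_ne_of_ne hyv (Ne.symm hcy)] at this
    have hsub2 : ((insert u sᶜ : Finset α) : Set α) ⊆ B := by
      intro y hy
      rw [Finset.mem_coe, Finset.mem_insert] at hy
      rcases hy with rfl | hy
      · exact huB
      · exact hcB y (Finset.mem_compl.mp hy)
    have hfinB : B.Finite := Set.toFinite B
    have h1 := Set.ncard_le_ncard hsub2 hfinB
    rw [Set.ncard_coe_finset, Finset.card_insert_of_notMem (by simpa using hu),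
      Finset.card_compl] at h1
    omega

end Cfsg.Agent.Helper8.SylMax
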