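import Mathlib
import Cfsg.Agent.Helper1.PGroup
import Cfsg.Agent.Helper8.SylMaxD

set_option autoImplicit false

/-!
A transitive `2`-group of permutations preserves a bisection of the points.
-/

namespace Cfsg.Agent.Helper8.SylMax

open Equiv Equiv.Perm MulAction

variable {α : Type*} [Fintype α] [DecidableEq α]

theorem exists_bisection {P : Subgroup (Perm α)} (hP : IsPGroup 2 P)
    (htr : ∀ x y : α, ∃ g ∈ P, g x = y) (hcard : 2 ≤ Fintype.card α) :
    ∃ s : Finset α, 2 * s.card = Fintype.card α ∧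
      ∀ g ∈ P, ∀ x y, (g x ∈ s ↔ g y ∈ s) ↔ (x ∈ s ↔ y ∈ s) := by
  classical
  have hnt : Nontrivial α := Fintype.one_lt_card_iff_nontrivial.mp (by omega)
  obtain ⟨ω, ω', hωω'⟩ := exists_pair_ne α
  set S : Subgroup ↥P := stabilizer ↥P ω with hS
  have hStop : S ≠ ⊤ := by
    intro htop
    obtain ⟨g, hg, hgω⟩ := htr ω ω'
    have : (⟨g, hg⟩ : ↥P) ∈ S := by rw [htop]; exact Subgroup.mem_top _
    rw [hS, mem_stabilizer_iff] at this
    change g ω = ω at this
    rw [hgω] at this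
    exact hωω' this.symm
  obtain ⟨N, hN, hSN⟩ := (eq_top_or_exists_le_coatom S).resolve_left hStop
  have hidx : N.index = 2 := Cfsg.Agent.Helper1.IsPGroup.coatom_index hP hN
  set s : Finset α := Finset.univ.filter (fun x => ∃ h : ↥P, h ∈ N ∧ (h : Perm α) ω = x) with hs
  have hmem : ∀ x, x ∈ s ↔ ∃ h : ↥P, h ∈ N ∧ (h : Perm α) ω = x := by
    intro x
    rw [hs, Finset.mem_filter]
    simp
  have claimA : ∀ g : ↥P, (g : Perm α) ω ∈ s ↔ g ∈ N := by
    intro g
    rw [hmem]
    constructor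
    · rintro ⟨h, hh, hhω⟩
      have h1 : h⁻¹ * g ∈ S := by
        rw [hS, mem_stabilizer_iff]
        change ((h⁻¹ * g : ↥P) : Perm α) ω = ω
        rw [Subgroup.coe_mul, Subgroup.coe_inv, Perm.mul_apply, ← hhω, Equiv.Perm.coe_inv,
          Equiv.symm_apply_apply]
      have h2 := N.mul_mem hh (hSN h1)
      rwa [mul_inv_cancel_left] at h2
    · intro hg
      exact ⟨g, hg, rfl⟩
  have claimB : ∀ g : ↥P, ∀ x, (g : Perm α) x ∈ s ↔ (g ∈ N ↔ x ∈ s) := by
    intro g x
    obtain ⟨t, ht, htx⟩ := htr ω x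
    have h1 := claimA ⟨t, ht⟩
    have h2 := claimA (g * ⟨t, ht⟩)
    rw [Subgroup.coe_mul, Perm.mul_apply] at h2
    change g.1 (t ω) ∈ s ↔ _ at h2
    change t ω ∈ s ↔ _ at h1
    rw [htx] at h1 h2
    rw [h2, Subgroup.mul_mem_iff_of_index_two hidx, h1]
  obtain ⟨g₀, hg₀⟩ : ∃ g₀ : ↥P, g₀ ∉ N := by
    by_contra hcon
    push Not at hcon
    exact hN.1 (eq_top_iff.mpr fun g _ => hcon g)
  refine ⟨s, ?_, ?_⟩
  · have hcompl : sᶜ = s.map (g₀ : Perm α).toEmbedding := by
      ext y
      rw [Finset.mem_compl, Finset.mem_map]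
      constructor
      · intro hy
        refine ⟨(g₀ : Perm α)⁻¹ y, ?_, by simp⟩
        by_contra hcon
        apply hy
        have := claimB g₀ ((g₀ : Perm α)⁻¹ y)
        rw [Equiv.Perm.coe_inv, Equiv.apply_symm_apply] at this
        rw [this]
        constructor
        · exact fun h => absurd h hg₀
        · exact fun h => absurd h hcon
      · rintro ⟨x, hx, rfl⟩ hy
        have := (claimB g₀ x).mp hy
        exact hg₀ (this.mpr hx)
    have h1 : (sᶜ).card = s.card := by rw [hcompl, Finset.card_map]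
    rw [Finset.card_compl] at h1
    have h2 := Finset.card_le_univ s
    omega
  · intro g hg x y
    have h1 := claimB ⟨g, hg⟩ x
    have h2 := claimB ⟨g, hg⟩ y
    change g x ∈ s ↔ _ at h1
    change g y ∈ s ↔ _ at h2
    rw [h1, h2]
    tauto

end Cfsg.Agent.Helper8.SylMax
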