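import Mathlib
import Cfsg.Agent.Helper8.SylMaxE

set_option autoImplicit false

/-!
A model elementary abelian `2`-group acting on `Option (ι × (ZMod 2 × ZMod 2))` by translations in
the fibres, containing all double transpositions supported in a single fibre.
-/

namespace Cfsg.Agent.Helper8.SylMax

open Equiv Equiv.Perm

/-- The Klein four-group. -/
abbrev V4 : Type := ZMod 2 × ZMod 2

theorem v4_card : Fintype.card V4 = 4 := by decide

set_option synthInstance.maxSize 2000 in
set_option synthInstance.maxHeartbeats 200000 in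
theorem v4_cover : ∀ a b c d : V4, a ≠ b → a ≠ c → a ≠ d → b ≠ c → b ≠ d → c ≠ d →
    ∀ y : V4, y = a ∨ y = b ∨ y = c ∨ y = d := by decide

set_option synthInstance.maxSize 2000 in
set_option synthInstance.maxHeartbeats 200000 in
theorem v4_sum : ∀ a b c d : V4, a ≠ b → a ≠ c → a ≠ d → b ≠ c → b ≠ d → c ≠ d →
    c + (a + b) = d ∧ d + (a + b) = c := by decide

theorem v4_char : ∀ a b : V4, a + (a + b) = b ∧ b + (a + b) = a ∧ a + a = 0 := by decide

variable {ι : Type*}

/-- Translation by `v i` in the fibre over `i`. -/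
def modelPerm (v : ι → V4) : Perm (Option (ι × V4)) :=
  Equiv.optionCongr (Equiv.prodShear (Equiv.refl ι) (fun i => Equiv.addRight (v i)))

@[simp] theorem modelPerm_none (v : ι → V4) : modelPerm v none = none := rfl

@[simp] theorem modelPerm_some (v : ι → V4) (i : ι) (b : V4) :
    modelPerm v (some (i, b)) = some (i, b + v i) := rfl

theorem modelPerm_add (v w : ι → V4) : modelPerm (v + w) = modelPerm v * modelPerm w := by
  refine Equiv.ext fun x => ?_
  rcases x with _ | ⟨i, b⟩
  · simp
  · rw [Perm.mul_apply, modelPerm_some, modelPerm_some, modelPerm_some, Pi.add_apply]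
    congr 2
    abel

theorem modelPerm_zero : modelPerm (0 : ι → V4) = 1 := by
  refine Equiv.ext fun x => ?_
  rcases x with _ | ⟨i, b⟩
  · simp
  · rw [modelPerm_some, Pi.zero_apply, add_zero, Perm.one_apply]

theorem modelPerm_mul_self (v : ι → V4) : modelPerm v * modelPerm v = 1 := by
  rw [← modelPerm_add, ← modelPerm_zero]
  congr 1
  funext i
  exact (v4_char (v i) (v i)).2.2

/-- The group of all fibrewise translations. -/
def modelGroup (ι : Type*) : Subgroup (Perm (Option (ι × V4))) where
  carrier := Set.range modelPerm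
  mul_mem' := by
    rintro _ _ ⟨v, rfl⟩ ⟨w, rfl⟩
    exact ⟨v + w, modelPerm_add v w⟩
  one_mem' := ⟨0, modelPerm_zero⟩
  inv_mem' := by
    rintro _ ⟨v, rfl⟩
    exact ⟨v, (inv_eq_of_mul_eq_one_right (modelPerm_mul_self v)).symm⟩

theorem modelGroup_isPGroup : IsPGroup 2 (modelGroup ι) := by
  rintro ⟨_, v, rfl⟩
  refine ⟨1, ?_⟩
  apply Subtype.ext
  rw [pow_one, pow_two]
  exact modelPerm_mul_self v

theorem swap_mul_swap_eq_modelPerm [DecidableEq ι] (i : ι) {a b c d : V4} (hab : a ≠ b)
    (hac : a ≠ c) (had : a ≠ d) (hbc : b ≠ c) (hbd : b ≠ d) (hcd : c ≠ d) :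
    swap (some (i, a)) (some (i, b)) * swap (some (i, c)) (some (i, d)) =
      modelPerm (Pi.single i (a + b)) := by
  have hsum := v4_sum a b c d hab hac had hbc hbd hcd
  have hch := v4_char a b
  refine Equiv.ext fun x => ?_
  rcases x with _ | ⟨j, y⟩
  · have h1 : swap (some (i, c)) (some (i, d)) none = none :=
      swap_apply_of_ne_of_ne (by simp) (by simp)
    have h2 : swap (some (i, a)) (some (i, b)) none = none :=
      swap_apply_of_ne_of_ne (by simp) (by simp)
    rw [Perm.mul_apply, h1, h2, modelPerm_none]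
  · by_cases hj : j = i
    · subst hj
      rw [modelPerm_some, Pi.single_eq_same, Perm.mul_apply]
      have ne : ∀ {u v : V4}, u ≠ v → (some (j, u) : Option (ι × V4)) ≠ some (j, v) := by
        intro u v huv h
        simp only [Option.some.injEq, Prod.mk.injEq, true_and] at h
        exact huv h
      rcases v4_cover a b c d hab hac had hbc hbd hcd y with rfl | rfl | rfl | rfl
      · rw [swap_apply_of_ne_of_ne (ne hac) (ne had), swap_apply_left, hch.1]
      · rw [swap_apply_of_ne_of_ne (ne hbc) (ne hbd), swap_apply_right, hch.2.1]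
      · rw [swap_apply_left, swap_apply_of_ne_of_ne (ne (Ne.symm had)) (ne (Ne.symm hbd)), hsum.1]
      · rw [swap_apply_right, swap_apply_of_ne_of_ne (ne (Ne.symm hac)) (ne (Ne.symm hbc)),
          hsum.2]
    · have ne : ∀ u : V4, (some (j, y) : Option (ι × V4)) ≠ some (i, u) := by
        intro u h
        simp only [Option.some.injEq, Prod.mk.injEq] at h
        exact hj h.1
      rw [modelPerm_some, Pi.single_eq_of_ne hj, add_zero, Perm.mul_apply,
        swap_apply_of_ne_of_ne (ne c) (ne d), swap_apply_of_ne_of_ne (ne a) (ne b)]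

/-- The label of a point of the model. -/
def modelLabel : Option (ι × V4) → Option ι := Option.map Prod.fst

theorem modelLabel_eq_some {x : Option (ι × V4)} {i : ι} (h : modelLabel x = some i) :
    ∃ b, x = some (i, b) := by
  rcases x with _ | ⟨j, b⟩
  · simp [modelLabel] at h
  · simp only [modelLabel, Option.map_some, Option.some.injEq] at h
    exact ⟨b, by rw [h]⟩

theorem modelLabel_eq_none {x : Option (ι × V4)} : modelLabel x = none ↔ x = none := by
  simp [modelLabel]

theorem modelLabel_card [Fintype ι] [DecidableEq ι] (i : ι) :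
    (Finset.univ.filter (fun z : Option (ι × V4) => modelLabel z = some i)).card = 4 := by
  have : Finset.univ.filter (fun z : Option (ι × V4) => modelLabel z = some i) =
      (Finset.univ : Finset V4).map
        ⟨fun b => some (i, b), fun b b' h => by simpa using h⟩ := by
    ext z
    rw [Finset.mem_filter, Finset.mem_map]
    constructor
    · rintro ⟨-, h⟩
      obtain ⟨b, rfl⟩ := modelLabel_eq_some h
      exact ⟨b, Finset.mem_univ _, rfl⟩
    · rintro ⟨b, -, rfl⟩
      exact ⟨Finset.mem_univ _, rfl⟩
  rw [this, Finset.card_map, Finset.card_univ, v4_card]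

theorem swap_mul_swap_mem_modelGroup [DecidableEq ι] {p q r t : Option (ι × V4)}
    (h : [p, q, r, t].Nodup) (hp : modelLabel p ≠ none) (hq : modelLabel q = modelLabel p)
    (hr : modelLabel r = modelLabel p) (ht : modelLabel t = modelLabel p) :
    swap p q * swap r t ∈ modelGroup ι := by
  obtain ⟨i, hi⟩ := Option.ne_none_iff_exists'.mp hp
  rw [hi] at hq hr ht
  obtain ⟨a, rfl⟩ := modelLabel_eq_some hi
  obtain ⟨b, rfl⟩ := modelLabel_eq_some hq
  obtain ⟨c, rfl⟩ := modelLabel_eq_some hr
  obtain ⟨d, rfl⟩ := modelLabel_eq_some ht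
  simp only [List.nodup_cons, List.mem_cons, List.not_mem_nil, or_false, not_or, List.nodup_nil,
    and_true, not_false_eq_true, Option.some.injEq, Prod.mk.injEq, true_and] at h
  obtain ⟨⟨hab, hac, had⟩, ⟨hbc, hbd⟩, hcd⟩ := h
  exact ⟨_, (swap_mul_swap_eq_modelPerm i hab hac had hbc hbd hcd).symm⟩

end Cfsg.Agent.Helper8.SylMax
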