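import Mathlib
import Cfsg.Agent.Helper8.SylMaxF

set_option autoImplicit false

/-!
The common setting for the symmetric and the alternating group: a finite group `G` embedded in
`Perm α` with image containing the alternating group, in which the set stabilizers are maximal.
-/

namespace Cfsg.Agent.Helper8.SylMax

open Equiv Equiv.Perm MulAction
open scoped Pointwise

variable {α : Type*} [Fintype α] [DecidableEq α] {G : Type*} [Group G]

/-- The hypotheses shared by the symmetric and the alternating group. -/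
structure Setup (ρ : G →* Perm α) : Prop where
  inj : Function.Injective ρ
  alt_le : alternatingGroup α ≤ ρ.range
  coatom : ∀ s : Set α, s.Nonempty → sᶜ.Nonempty → Nat.card α ≠ 2 * s.ncard →
    IsCoatom ((stabilizer (Perm α) s).comap ρ)
  five : 5 ≤ Fintype.card α

variable {ρ : G →* Perm α}

theorem Setup.exists_of_sign (h : Setup ρ) {σ : Perm α} (hσ : Perm.sign σ = 1) :
    ∃ g : G, ρ g = σ :=
  h.alt_le (Equiv.Perm.mem_alternatingGroup.mpr hσ)

theorem Setup.exists_dt (h : Setup ρ) {a b c d : α} (hab : a ≠ b) (hcd : c ≠ d) :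
    ∃ g : G, ρ g = swap a b * swap c d := by
  apply h.exists_of_sign
  rw [Perm.sign_mul, Perm.sign_swap hab, Perm.sign_swap hcd]
  rfl

theorem Setup.nontrivial (h : Setup ρ) : Nontrivial α :=
  Fintype.one_lt_card_iff_nontrivial.mp (lt_of_lt_of_le (by norm_num) h.five)

/-- A subgroup containing a Sylow `2`-subgroup and the alternating group is everything. -/
theorem Setup.eq_top_of_alt_le [Finite G] (h : Setup ρ) (R : Sylow 2 G) {M : Subgroup G}
    (hR : (R : Subgroup G) ≤ M) (hM : alternatingGroup α ≤ M.map ρ) : M = ⊤ := by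
  have := h.nontrivial
  have hA : (alternatingGroup α).comap ρ ≤ M := by
    intro g hg
    obtain ⟨m, hm, hmg⟩ := hM hg
    rw [← h.inj hmg]
    exact hm
  have h1 : ((alternatingGroup α).comap ρ).index ∣ 2 := by
    rw [Subgroup.index_comap, ← alternatingGroup.index_eq_two (α := α)]
    exact Subgroup.relIndex_dvd_index_of_normal _ _
  have h2 : M.index ∣ 2 := (Subgroup.index_dvd_of_le hA).trans h1
  have h3 : ¬ 2 ∣ M.index := fun hdvd =>
    R.not_dvd_index (hdvd.trans (Subgroup.index_dvd_of_le hR))
  rw [← Subgroup.index_eq_one]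
  rcases (Nat.dvd_prime Nat.prime_two).mp h2 with h4 | h4
  · exact h4
  · exact absurd (h4 ▸ dvd_refl _) h3

/-- For `|α| = 4m + 1`, a Sylow `2`-subgroup contains Klein four-groups acting on the blocks of
a partition of all points but one into sets of size four. -/
theorem Setup.exists_labelling [Finite G] (h : Setup ρ) (R : Sylow 2 G) (m : ℕ)
    (hcard : Fintype.card α = 4 * m + 1) :
    ∃ (ℓ : α → Option (Fin m)) (ω' : α), (∀ x, ℓ x = none ↔ x = ω') ∧
      (∀ x, ℓ x ≠ none → (Finset.univ.filter (fun y => ℓ y = ℓ x)).card = 4) ∧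
      (∀ a b c d, [a, b, c, d].Nodup → ℓ a ≠ none → ℓ b = ℓ a → ℓ c = ℓ a → ℓ d = ℓ a →
        swap a b * swap c d ∈ (R : Subgroup G).map ρ) := by
  classical
  have hX : Fintype.card (Option (Fin m × V4)) = Fintype.card α := by
    rw [Fintype.card_option, Fintype.card_prod, Fintype.card_fin, v4_card, hcard, mul_comm]
  let e : Option (Fin m × V4) ≃ α := Fintype.equivOfCardEq hX
  set E₁ : Subgroup (Perm α) := (modelGroup (Fin m)).map e.permCongrHom.toMonoidHom with hE₁
  have hE₁p : IsPGroup 2 E₁ := modelGroup_isPGroup.map _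
  set E₃ : Subgroup G := (E₁ ⊓ alternatingGroup α).comap ρ with hE₃
  have hE₃p : IsPGroup 2 E₃ :=
    (hE₁p.to_le inf_le_left).comap_of_injective ρ h.inj
  obtain ⟨Q, hQ⟩ := hE₃p.exists_le_sylow
  obtain ⟨g, hg⟩ := MulAction.exists_smul_eq G Q R
  have hconj : ∀ y ∈ E₃, g * y * g⁻¹ ∈ (R : Subgroup G) := by
    intro y hy
    rw [← hg, Sylow.coe_subgroup_smul]
    have := Subgroup.smul_mem_pointwise_smul y (MulAut.conj g) (Q : Subgroup G) (hQ hy)
    rwa [MulAut.smul_def, MulAut.conj_apply] at this
  refine ⟨fun x => modelLabel (e.symm ((ρ g)⁻¹ x)), ρ g (e none), ?_, ?_, ?_⟩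
  · intro x
    rw [modelLabel_eq_none, Equiv.symm_apply_eq, Perm.inv_eq_iff_eq]
  · intro x hx
    obtain ⟨i, hi⟩ := Option.ne_none_iff_exists'.mp hx
    rw [hi, ← modelLabel_card i]
    have : Finset.univ.filter (fun y => modelLabel (e.symm ((ρ g)⁻¹ y)) = some i) =
        (Finset.univ.filter (fun z : Option (Fin m × V4) => modelLabel z = some i)).map
          (e.trans (ρ g)).toEmbedding := by
      ext y
      rw [Finset.mem_filter, Finset.mem_map]
      constructor
      · rintro ⟨-, hy⟩
        refine ⟨e.symm ((ρ g)⁻¹ y), Finset.mem_filter.mpr ⟨Finset.mem_univ _, hy⟩, ?_⟩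
        simp
      · rintro ⟨z, hz, rfl⟩
        refine ⟨Finset.mem_univ _, ?_⟩
        rw [Finset.mem_filter] at hz
        simpa using hz.2
    rw [this, Finset.card_map]
  · intro a b c d hnd ha hb hc hd
    set π := (ρ g)⁻¹ with hπ
    -- the double transposition on the preimages lies in `E₁`
    have hnd' : [e.symm (π a), e.symm (π b), e.symm (π c), e.symm (π d)].Nodup := by
      have hinj : Function.Injective (fun x => e.symm (π x)) :=
        e.symm.injective.comp π.injective
      have := hnd.map hinj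
      simpa using this
    have hmem := swap_mul_swap_mem_modelGroup hnd' ha hb hc hd
    have hmem₁ : swap (π a) (π b) * swap (π c) (π d) ∈ E₁ := by
      refine ⟨_, hmem, ?_⟩
      change e.permCongr (swap (e.symm (π a)) (e.symm (π b)) *
        swap (e.symm (π c)) (e.symm (π d))) = _
      refine Equiv.ext fun x => ?_
      rw [Equiv.permCongr_apply, Perm.mul_apply, Perm.mul_apply, ← e.injective.swap_apply,
        ← e.injective.swap_apply]
      simp
    simp only [List.nodup_cons, List.mem_cons, List.not_mem_nil, or_false, not_or,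
      List.nodup_nil, and_true, not_false_eq_true] at hnd
    obtain ⟨⟨hab, hac, had⟩, ⟨hbc, hbd⟩, hcd⟩ := hnd
    have hab' : π a ≠ π b := fun e => hab (π.injective e)
    have hcd' : π c ≠ π d := fun e => hcd (π.injective e)
    obtain ⟨y, hy⟩ := h.exists_dt hab' hcd'
    have hyE : y ∈ E₃ := by
      rw [hE₃, Subgroup.mem_comap, hy, Subgroup.mem_inf]
      refine ⟨hmem₁, ?_⟩
      rw [Equiv.Perm.mem_alternatingGroup, Perm.sign_mul, Perm.sign_swap hab',
        Perm.sign_swap hcd']
      rfl
    refine ⟨g * y * g⁻¹, hconj y hyE, ?_⟩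
    rw [map_mul, map_mul, map_inv, hy]
    have e1 : ∀ x, ρ g (π x) = x := fun x => by rw [hπ]; simp
    calc ρ g * (swap (π a) (π b) * swap (π c) (π d)) * (ρ g)⁻¹
        = (ρ g * swap (π a) (π b) * (ρ g)⁻¹) * (ρ g * swap (π c) (π d) * (ρ g)⁻¹) := by group
      _ = swap a b * swap c d := by
          rw [← swap_apply_apply, ← swap_apply_apply, e1, e1, e1, e1]

end Cfsg.Agent.Helper8.SylMax
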