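import Mathlib
import Cfsg.Agent.Helper8.SylMaxG

set_option autoImplicit false

/-!
Orbits of `2`-subgroups in the common setting, and the case `|α| = 2 ^ k + 1`: the point
stabilizer is the only maximal subgroup containing a given Sylow `2`-subgroup.
-/

namespace Cfsg.Agent.Helper8.SylMax

open Equiv Equiv.Perm MulAction
open scoped Pointwise

variable {α : Type*} [Fintype α] [DecidableEq α] {G : Type*} [Group G]

theorem exists_ne3 (h : 4 ≤ Fintype.card α) (a b c : α) : ∃ w, w ≠ a ∧ w ≠ b ∧ w ≠ c := by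
  obtain ⟨w, -, hw⟩ := Finset.exists_mem_notMem_of_card_lt_card
    (s := ({a, b, c} : Finset α)) (t := Finset.univ)
    (lt_of_le_of_lt Finset.card_le_three (by rw [Finset.card_univ]; omega))
  simp only [Finset.mem_insert, Finset.mem_singleton, not_or] at hw
  exact ⟨w, hw⟩

theorem exists_ne4 (h : 5 ≤ Fintype.card α) (a b c d : α) :
    ∃ w, w ≠ a ∧ w ≠ b ∧ w ≠ c ∧ w ≠ d := by
  obtain ⟨w, -, hw⟩ := Finset.exists_mem_notMem_of_card_lt_card
    (s := ({a, b, c, d} : Finset α)) (t := Finset.univ)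
    (lt_of_le_of_lt Finset.card_le_four (by rw [Finset.card_univ]; omega))
  simp only [Finset.mem_insert, Finset.mem_singleton, not_or] at hw
  exact ⟨w, hw⟩

/-- A `2`-subgroup fixes a point of a set of odd size. -/
theorem exists_fixed (ρ : G →* Perm α) {P : Subgroup G} (hP : IsPGroup 2 P)
    (hodd : ¬ 2 ∣ Fintype.card α) : ∃ ω₀, ∀ g ∈ P, ρ g ω₀ = ω₀ := by
  let _ : MulAction ↥P α := MulAction.compHom α (ρ.comp P.subtype)
  obtain ⟨ω₀, hω₀⟩ := hP.nonempty_fixed_point_of_prime_not_dvd_card α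
    (by rwa [Nat.card_eq_fintype_card])
  exact ⟨ω₀, fun g hg => hω₀ ⟨g, hg⟩⟩

/-- The orbits of a `2`-subgroup have `2`-power size. -/
theorem orbit_card_pow (ρ : G →* Perm α) {P : Subgroup G} (hP : IsPGroup 2 P) (x : α) :
    ∃ j, {y | ∃ g ∈ P, ρ g x = y}.ncard = 2 ^ j := by
  let _ : MulAction ↥P α := MulAction.compHom α (ρ.comp P.subtype)
  obtain ⟨j, hj⟩ := hP.card_orbit x
  refine ⟨j, ?_⟩
  rw [← hj, Nat.card_coe_set_eq]
  congr 1
  ext y
  constructor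
  · rintro ⟨g, hg, rfl⟩
    exact ⟨⟨g, hg⟩, rfl⟩
  · rintro ⟨g, rfl⟩
    exact ⟨g.1, g.2, rfl⟩

/-- A Sylow `2`-subgroup of `G` inside `H` is transitive on the `H`-orbits of `2`-power size. -/
theorem sylow_trans [Finite G] (ρ : G →* Perm α) (R : Sylow 2 G) {H : Subgroup G}
    (hRH : (R : Subgroup G) ≤ H) (x : α) (k : ℕ)
    (hcard : {y | ∃ g ∈ H, ρ g x = y}.ncard = 2 ^ k) (y : α)
    (hy : ∃ g ∈ H, ρ g x = y) : ∃ g ∈ (R : Subgroup G), ρ g x = y := by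
  let _ : MulAction ↥H α := MulAction.compHom α (ρ.comp H.subtype)
  have horb : orbit ↥H x = {y | ∃ g ∈ H, ρ g x = y} := by
    ext y
    constructor
    · rintro ⟨g, rfl⟩
      exact ⟨g.1, g.2, rfl⟩
    · rintro ⟨g, hg, rfl⟩
      exact ⟨⟨g, hg⟩, rfl⟩
  have hc : Nat.card (orbit ↥H x) = 2 ^ k := by
    rw [horb, Nat.card_coe_set_eq, ← hcard]
  obtain ⟨g, hg, hgx⟩ := sylow_orbit (R.subtype hRH) x k hc y (by rw [horb]; exact hy)
  rw [Sylow.coe_subtype, Subgroup.mem_subgroupOf] at hg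
  exact ⟨g.1, hg, hgx⟩

variable {ρ : G →* Perm α}

theorem Setup.mem_stab_singleton (ω₀ : α) (g : G) :
    g ∈ (stabilizer (Perm α) ({ω₀} : Set α)).comap ρ ↔ ρ g ω₀ = ω₀ := by
  rw [Subgroup.mem_comap, stabilizer_singleton, mem_stabilizer_iff]
  rfl

theorem Setup.coatom_singleton (h : Setup ρ) (ω₀ : α) :
    IsCoatom ((stabilizer (Perm α) ({ω₀} : Set α)).comap ρ) := by
  have := h.nontrivial
  apply h.coatom
  · exact Set.singleton_nonempty _
  · obtain ⟨y, hy⟩ := exists_ne ω₀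
    exact ⟨y, hy⟩
  · rw [Set.ncard_singleton, Nat.card_eq_fintype_card]
    have := h.five
    omega

/-- The point stabilizer is transitive on the remaining points. -/
theorem Setup.stab_trans (h : Setup ρ) (ω₀ x y : α) (hx : x ≠ ω₀) (hy : y ≠ ω₀) :
    ∃ g : G, ρ g ω₀ = ω₀ ∧ ρ g x = y := by
  by_cases hxy : x = y
  · exact ⟨1, by simp, by simp [hxy]⟩
  · obtain ⟨w, hw0, hwx, hwy⟩ := exists_ne3 (by have := h.five; omega) ω₀ x y
    obtain ⟨g, hg⟩ := h.exists_dt hxy (Ne.symm hwy)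
    refine ⟨g, ?_, ?_⟩
    · rw [hg, Perm.mul_apply, swap_apply_of_ne_of_ne (Ne.symm hy) (Ne.symm hw0),
        swap_apply_of_ne_of_ne (Ne.symm hx) (Ne.symm hy)]
    · rw [hg, Perm.mul_apply, swap_apply_of_ne_of_ne hxy (Ne.symm hwx), swap_apply_left]

theorem fiber_three {ι : Type*} [DecidableEq ι] (ℓ : α → Option ι)
    (hfib : ∀ x, ℓ x ≠ none → (Finset.univ.filter (fun y => ℓ y = ℓ x)).card = 4) (x : α)
    (hx : ℓ x ≠ none) :
    ∃ b c d, [x, b, c, d].Nodup ∧ ℓ b = ℓ x ∧ ℓ c = ℓ x ∧ ℓ d = ℓ x := by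
  have hF := hfib x hx
  have hxF : x ∈ Finset.univ.filter (fun y => ℓ y = ℓ x) := by simp
  have hF3 : ((Finset.univ.filter (fun y => ℓ y = ℓ x)).erase x).card = 3 := by
    rw [Finset.card_erase_of_mem hxF, hF]
  obtain ⟨b, c, d, hbc, hbd, hcd, hE⟩ := Finset.card_eq_three.mp hF3
  have hmem : ∀ y, y ∈ ({b, c, d} : Finset α) → y ≠ x ∧ ℓ y = ℓ x := by
    intro y hy
    rw [← hE, Finset.mem_erase, Finset.mem_filter] at hy
    exact ⟨hy.1, hy.2.2⟩
  obtain ⟨hbx, hlb⟩ := hmem b (by simp)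
  obtain ⟨hcx, hlc⟩ := hmem c (by simp)
  obtain ⟨hdx, hld⟩ := hmem d (by simp)
  refine ⟨b, c, d, ?_, hlb, hlc, hld⟩
  simp [hbc, hbd, hcd, Ne.symm hbx, Ne.symm hcx, Ne.symm hdx]

/-- For `|α| = 2 ^ k + 1`, a Sylow `2`-subgroup lies in a unique maximal subgroup. -/
theorem Setup.unique_of_pow [Finite G] (h : Setup ρ) (R : Sylow 2 G) (k : ℕ) (hk : 2 ≤ k)
    (hcard : Fintype.card α = 2 ^ k + 1) :
    ∃! M : Subgroup G, IsCoatom M ∧ (R : Subgroup G) ≤ M := by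
  classical
  have hodd : ¬ 2 ∣ Fintype.card α := by
    rw [hcard]
    have : 2 ∣ 2 ^ k := dvd_pow_self 2 (by omega)
    omega
  obtain ⟨ω₀, hω₀⟩ := exists_fixed ρ R.isPGroup' hodd
  set H : Subgroup G := (stabilizer (Perm α) ({ω₀} : Set α)).comap ρ with hH
  have hHmem : ∀ g, g ∈ H ↔ ρ g ω₀ = ω₀ := Setup.mem_stab_singleton ω₀
  have hHco : IsCoatom H := h.coatom_singleton ω₀
  have hRH : (R : Subgroup G) ≤ H := fun g hg => (hHmem g).mpr (hω₀ g hg)
  have hRtr : ∀ x y, x ≠ ω₀ → y ≠ ω₀ → ∃ g ∈ (R : Subgroup G), ρ g x = y := by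
    intro x y hx hy
    have hHy : ∃ g ∈ H, ρ g x = y := by
      obtain ⟨g, hg0, hgx⟩ := h.stab_trans ω₀ x y hx hy
      exact ⟨g, (hHmem g).mpr hg0, hgx⟩
    refine sylow_trans ρ R hRH x k ?_ y hHy
    have : {y | ∃ g ∈ H, ρ g x = y} = ({ω₀} : Set α)ᶜ := by
      ext y
      rw [Set.mem_compl_iff, Set.mem_singleton_iff]
      constructor
      · rintro ⟨g, hg, rfl⟩
        intro he
        rw [← (hHmem g).mp hg] at he
        exact hx ((ρ g).injective he)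
      · intro hy
        obtain ⟨g, hg0, hgx⟩ := h.stab_trans ω₀ x y hx hy
        exact ⟨g, (hHmem g).mpr hg0, hgx⟩
    rw [this, Set.ncard_compl, Set.ncard_singleton, Nat.card_eq_fintype_card, hcard]
    rfl
  have hcard4 : Fintype.card α = 4 * 2 ^ (k - 2) + 1 := by
    rw [hcard]
    obtain ⟨j, rfl⟩ : ∃ j, k = j + 2 := ⟨k - 2, by omega⟩
    rw [Nat.add_sub_cancel, pow_add]
    ring
  obtain ⟨ℓ, ω', hω', hfib, hV⟩ := h.exists_labelling R (2 ^ (k - 2)) hcard4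
  have hωeq : ω' = ω₀ := by
    by_contra hne
    have hl : ℓ ω₀ ≠ none := fun h0 => hne ((hω' ω₀).mp h0).symm
    obtain ⟨b, c, d, hnd, hlb, hlc, hld⟩ := fiber_three ℓ hfib ω₀ hl
    obtain ⟨r, hr, hrρ⟩ := hV ω₀ b c d hnd hl hlb hlc hld
    have h1 := hω₀ r hr
    simp only [List.nodup_cons, List.mem_cons, List.not_mem_nil, or_false, not_or,
      List.nodup_nil, and_true, not_false_eq_true] at hnd
    obtain ⟨⟨h0b, h0c, h0d⟩, -, -⟩ := hnd
    rw [hrρ, Perm.mul_apply, swap_apply_of_ne_of_ne h0c h0d, swap_apply_left] at h1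
    exact h0b h1.symm
  rw [hωeq] at hω'
  refine ⟨H, ⟨hHco, hRH⟩, ?_⟩
  rintro M ⟨hMco, hRM⟩
  by_cases hMH : M ≤ H
  · by_contra hne
    exact hHco.1 (hMco.2 H (lt_of_le_of_ne hMH hne))
  · exfalso
    obtain ⟨h₀, hh₀M, hh₀⟩ : ∃ h₀ ∈ M, ρ h₀ ω₀ ≠ ω₀ := by
      by_contra hcon
      push Not at hcon
      exact hMH (fun g hg => (hHmem g).mpr (hcon g hg))
    apply hMco.1
    apply h.eq_top_of_alt_le R hRM
    set d₀ := (ρ h₀)⁻¹ ω₀ with hd₀def
    have hd₀' : ρ h₀ d₀ = ω₀ := by rw [hd₀def]; simp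
    have hd₀ : d₀ ≠ ω₀ := by
      intro he
      rw [he] at hd₀'
      exact hh₀ hd₀'
    have hprim : IsPreprimitive (M.map ρ) α := by
      apply isPreprimitive_of_stab_trans ω₀
      · intro x
        by_cases hx : x = ω₀
        · exact ⟨1, one_mem _, by rw [hx]; rfl⟩
        · obtain ⟨r, hr, hrx⟩ := hRtr x d₀ hx hd₀
          exact ⟨ρ (h₀ * r), Subgroup.mem_map_of_mem ρ (M.mul_mem hh₀M (hRM hr)),
            by rw [map_mul, Perm.mul_apply, hrx, hd₀']⟩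
      · intro x y hx hy
        obtain ⟨r, hr, hrx⟩ := hRtr x y hx hy
        exact ⟨ρ r, Subgroup.mem_map_of_mem ρ (hRM hr), hω₀ r hr, hrx⟩
    exact alt_le_of_blocks hprim ℓ ω₀ hω' hfib
      (fun a b c d hnd ha hb hc hd => Subgroup.map_mono hRM (hV a b c d hnd ha hb hc hd))
      ⟨ρ h₀, Subgroup.mem_map_of_mem ρ hh₀M, d₀, hd₀, hd₀'⟩

end Cfsg.Agent.Helper8.SylMax
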