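import Mathlib
import Cfsg.Agent.Helper8.SylMaxH

set_option autoImplicit false

/-!
Tools for the converse: set stabilizers, centralizers of fixed-point-free involutions and
stabilizers of bisections in the common setting.
-/

namespace Cfsg.Agent.Helper8.SylMax

open Equiv Equiv.Perm MulAction
open scoped Pointwise

variable {α : Type*} [Fintype α] [DecidableEq α] {G : Type*} [Group G]

omit [DecidableEq α] in
theorem mem_stab_iff (ρ : G →* Perm α) (s : Set α) (g : G) :
    g ∈ (stabilizer (Perm α) s).comap ρ ↔ ∀ y ∈ s, ρ g y ∈ s := by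
  rw [Subgroup.mem_comap, mem_stabilizer_set' s.toFinite]
  rfl

omit [DecidableEq α] in
theorem orbit_le_stab (ρ : G →* Perm α) (P : Subgroup G) (x : α) :
    P ≤ (stabilizer (Perm α) {y | ∃ g ∈ P, ρ g x = y}).comap ρ := by
  intro g hg
  rw [mem_stab_iff]
  rintro y ⟨r, hr, rfl⟩
  exact ⟨g * r, P.mul_mem hg hr, by rw [map_mul, Perm.mul_apply]⟩

omit [Fintype α] [DecidableEq α] in
theorem mem_cent_iff (ρ : G →* Perm α) (z : Perm α) (g : G) :
    g ∈ (Subgroup.centralizer {z}).comap ρ ↔ ρ g * z = z * ρ g := by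
  rw [Subgroup.mem_comap, Subgroup.mem_centralizer_iff]
  constructor
  · intro h
    exact (h z (Set.mem_singleton z)).symm
  · intro h y hy
    rw [Set.mem_singleton_iff.mp hy]
    exact h.symm

/-- The stabilizer of the partition `{s, sᶜ}`. -/
def partStab (ρ : G →* Perm α) (s : Finset α) : Subgroup G where
  carrier := {g | ∀ x y, (ρ g x ∈ s ↔ ρ g y ∈ s) ↔ (x ∈ s ↔ y ∈ s)}
  one_mem' := by
    intro x y
    simp
  mul_mem' := by
    intro a b ha hb x y
    rw [map_mul, Perm.mul_apply, Perm.mul_apply, ha, hb]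
  inv_mem' := by
    intro a ha x y
    have := ha ((ρ a)⁻¹ x) ((ρ a)⁻¹ y)
    rw [map_inv]
    simp only [Perm.coe_inv, Equiv.apply_symm_apply] at this ⊢
    exact this.symm

omit [Fintype α] [DecidableEq α] in
theorem mem_partStab (ρ : G →* Perm α) (s : Finset α) (g : G) :
    g ∈ partStab ρ s ↔ ∀ x y, (ρ g x ∈ s ↔ ρ g y ∈ s) ↔ (x ∈ s ↔ y ∈ s) := Iff.rfl

omit [Fintype α] in
theorem swap_mem_iff (s : Finset α) {a b : α} (hab : a ∈ s ↔ b ∈ s) (x : α) :
    swap a b x ∈ s ↔ x ∈ s := by
  by_cases hxa : x = a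
  · rw [hxa, swap_apply_left]
    exact hab.symm
  by_cases hxb : x = b
  · rw [hxb, swap_apply_right]
    exact hab
  rw [swap_apply_of_ne_of_ne hxa hxb]

omit [Fintype α] in
/-- A fixed-point-free involution commutes with `(x y)(zx zy)`. -/
theorem fpf_comm {z : Perm α} (hz : z * z = 1) {x y : α} (hxy : x ≠ y) (hzx : z x ≠ x)
    (hzy : z y ≠ y) (hyzx : y ≠ z x) :
    (swap x y * swap (z x) (z y)) * z = z * (swap x y * swap (z x) (z y)) := by
  have hzz : ∀ t, z (z t) = t := fun t => by
    rw [← Perm.mul_apply, hz, Perm.one_apply]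
  have hxzy : x ≠ z y := by
    intro e
    apply hyzx
    rw [e, hzz]
  have h1 : z * swap x y * z⁻¹ = swap (z x) (z y) := (swap_apply_apply z x y).symm
  have h2 : z * swap (z x) (z y) * z⁻¹ = swap x y := by
    rw [← swap_apply_apply, hzz, hzz]
  have h3 : z * (swap x y * swap (z x) (z y)) * z⁻¹ = swap x y * swap (z x) (z y) := by
    calc z * (swap x y * swap (z x) (z y)) * z⁻¹
        = (z * swap x y * z⁻¹) * (z * swap (z x) (z y) * z⁻¹) := by group
      _ = swap (z x) (z y) * swap x y := by rw [h1, h2]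
      _ = swap x y * swap (z x) (z y) :=
          swap_comm_of_ne hzx (Ne.symm hyzx) (Ne.symm hxzy) hzy
            (fun e => hxy (z.injective e)) hxy
  calc (swap x y * swap (z x) (z y)) * z
      = (z * (swap x y * swap (z x) (z y)) * z⁻¹) * z := by rw [h3]
    _ = z * (swap x y * swap (z x) (z y)) := by group

variable {ρ : G →* Perm α}

/-- The centralizer of a fixed-point-free involution is proper. -/
theorem Setup.cent_ne_top (h : Setup ρ) {z : Perm α} (hz : z * z = 1) (hfpf : ∀ x, z x ≠ x) :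
    (Subgroup.centralizer {z}).comap ρ ≠ ⊤ := by
  intro htop
  have := h.nontrivial
  obtain ⟨x⟩ : Nonempty α := inferInstance
  obtain ⟨w, hwx, hwzx, -⟩ := exists_ne3 (by have := h.five; omega) x (z x) x
  obtain ⟨g, hg⟩ := h.exists_dt (Ne.symm (hfpf x)) (Ne.symm hwzx)
  have hmem : g ∈ (Subgroup.centralizer {z}).comap ρ := by rw [htop]; exact Subgroup.mem_top g
  rw [mem_cent_iff, hg] at hmem
  have h1 := congrArg (fun π : Perm α => π x) hmem
  simp only [Perm.mul_apply] at h1
  have hzz : z (z x) = x := by rw [← Perm.mul_apply, hz, Perm.one_apply]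
  rw [swap_apply_left, swap_apply_of_ne_of_ne hwx hwzx,
    swap_apply_of_ne_of_ne (Ne.symm (hfpf x)) (Ne.symm hwx), swap_apply_left, hzz] at h1
  exact hwx h1

/-- The stabilizer of a bisection with parts of size at least two is proper. -/
theorem Setup.partStab_ne_top (h : Setup ρ) (s : Finset α) {a b c : α} (ha : a ∈ s)
    (hb : b ∈ s) (hab : a ≠ b) (hc : c ∉ s) : partStab ρ s ≠ ⊤ := by
  intro htop
  have hbc : b ≠ c := fun e => hc (e ▸ hb)
  have hac : a ≠ c := fun e => hc (e ▸ ha)
  obtain ⟨g, hg⟩ := h.exists_dt hab hbc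
  have hmem : g ∈ partStab ρ s := by rw [htop]; exact Subgroup.mem_top g
  have h1 := (mem_partStab ρ s g).mp hmem a b
  rw [hg, Perm.mul_apply, Perm.mul_apply, swap_apply_of_ne_of_ne hab hac, swap_apply_left,
    swap_apply_left, swap_apply_of_ne_of_ne (Ne.symm hac) (Ne.symm hbc)] at h1
  have h2 : (b ∈ s ↔ c ∈ s) := h1.mpr ⟨fun _ => hb, fun _ => ha⟩
  exact hc (h2.mp hb)

omit [Fintype α] [DecidableEq α] in
/-- Permutations preserving `s` lie in the stabilizer of the bisection. -/
theorem Setup.mem_partStab_of_preserve (s : Finset α) {g : G}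
    (hg : ∀ x, ρ g x ∈ s ↔ x ∈ s) : g ∈ partStab ρ s := by
  rw [mem_partStab]
  intro x y
  rw [hg, hg]

end Cfsg.Agent.Helper8.SylMax
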