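import Mathlib
import Cfsg.Agent.Helper8.SylMaxI

set_option autoImplicit false

/-!
The converse: if a Sylow `2`-subgroup lies in a unique maximal subgroup then `|α| = 2 ^ k + 1`.
-/

namespace Cfsg.Agent.Helper8.SylMax

open Equiv Equiv.Perm MulAction
open scoped Pointwise

variable {α : Type*} [Fintype α] [DecidableEq α] {G : Type*} [Group G] {ρ : G →* Perm α}

theorem Setup.pow_of_unique [Finite G] (h : Setup ρ) (R : Sylow 2 G)
    (huniq : ∃! M : Subgroup G, IsCoatom M ∧ (R : Subgroup G) ≤ M) :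
    ∃ k, 2 ≤ k ∧ Fintype.card α = 2 ^ k + 1 := by
  classical
  by_contra hno
  push Not at hno
  obtain ⟨M, ⟨hMco, hRM⟩, hMu⟩ := huniq
  have hle : ∀ K : Subgroup G, (R : Subgroup G) ≤ K → K ≠ ⊤ → K ≤ M := by
    intro K hRK hK
    obtain ⟨M', hM'co, hKM'⟩ := (eq_top_or_exists_le_coatom K).resolve_left hK
    rw [← hMu M' ⟨hM'co, hRK.trans hKM'⟩]
    exact hKM'
  have heq : ∀ K : Subgroup G, IsCoatom K → (R : Subgroup G) ≤ K → K = M :=
    fun K hK hRK => hMu K ⟨hK, hRK⟩
  have h5 := h.five
  have hnt := h.nontrivial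
  rcases Nat.even_or_odd (Fintype.card α) with hev | hodd
  · -- even degree
    obtain ⟨m, hm⟩ := hev
    have hm2 : Fintype.card α = 2 * m := by omega
    have hm1 : 1 ≤ m := by omega
    have hP' : IsPGroup 2 ((R : Subgroup G).map ρ) := R.isPGroup'.map ρ
    obtain ⟨z, hz, hfpf, hzc⟩ := exists_fpf_involution hP' hm1 hm2
    set K₂ : Subgroup G := (Subgroup.centralizer {z}).comap ρ with hK₂
    have hRK₂ : (R : Subgroup G) ≤ K₂ := by
      intro g hg
      rw [hK₂, mem_cent_iff]
      exact hzc (ρ g) (Subgroup.mem_map_of_mem ρ hg)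
    have hK₂M : K₂ ≤ M := hle K₂ hRK₂ (h.cent_ne_top hz hfpf)
    have hzz : ∀ t, z (z t) = t := fun t => by
      rw [← Perm.mul_apply, hz, Perm.one_apply]
    have hσ : ∀ x y, x ≠ y → y ≠ z x → ∃ g ∈ M, ρ g = swap x y * swap (z x) (z y) := by
      intro x y hxy hyzx
      obtain ⟨g, hg⟩ := h.exists_dt hxy (fun e => hxy (z.injective e))
      refine ⟨g, hK₂M ?_, hg⟩
      rw [hK₂, mem_cent_iff, hg]
      exact fpf_comm hz hxy (hfpf x) (hfpf y) hyzx
    by_cases hpow : ∃ k, Fintype.card α = 2 ^ k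
    · -- the degree is a power of two
      obtain ⟨k, hk⟩ := hpow
      have hk3 : 3 ≤ k := by
        by_contra hlt
        push Not at hlt
        interval_cases k <;> omega
      have h8 : 8 ≤ 2 ^ k := by
        calc 8 = 2 ^ 3 := rfl
          _ ≤ 2 ^ k := Nat.pow_le_pow_right (by norm_num) hk3
      have hGtr : ∀ x y : α, ∃ g : G, ρ g x = y := by
        intro x y
        by_cases hxy : x = y
        · exact ⟨1, by simp [hxy]⟩
        · obtain ⟨w, hwx, hwy, -⟩ := exists_ne3 (by omega) x y x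
          obtain ⟨g, hg⟩ := h.exists_dt hxy (Ne.symm hwy)
          exact ⟨g, by
            rw [hg, Perm.mul_apply, swap_apply_of_ne_of_ne hxy (Ne.symm hwx), swap_apply_left]⟩
      have hRtr : ∀ x y : α, ∃ g ∈ (R : Subgroup G), ρ g x = y := by
        intro x y
        obtain ⟨g, hg⟩ := hGtr x y
        refine sylow_trans ρ R (H := ⊤) le_top x k ?_ y ⟨g, Subgroup.mem_top g, hg⟩
        have : {y | ∃ g ∈ (⊤ : Subgroup G), ρ g x = y} = Set.univ := by
          ext y
          simp only [Set.mem_ofPred_eq, Set.mem_univ, iff_true]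
          obtain ⟨g, hg⟩ := hGtr x y
          exact ⟨g, Subgroup.mem_top g, hg⟩
        rw [this, Set.ncard_univ, Nat.card_eq_fintype_card, hk]
      have hP'tr : ∀ x y : α, ∃ π ∈ (R : Subgroup G).map ρ, π x = y := by
        intro x y
        obtain ⟨g, hg, hgx⟩ := hRtr x y
        exact ⟨ρ g, Subgroup.mem_map_of_mem ρ hg, hgx⟩
      obtain ⟨s, hs, hsinv⟩ := exists_bisection hP' hP'tr (by omega)
      have hs4 : 4 ≤ s.card := by omega
      have hRK₃ : (R : Subgroup G) ≤ partStab ρ s := by
        intro g hg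
        rw [mem_partStab]
        exact hsinv (ρ g) (Subgroup.mem_map_of_mem ρ hg)
      obtain ⟨a, ha, b, hb, hab⟩ : ∃ a ∈ s, ∃ b ∈ s, a ≠ b := Finset.one_lt_card.mp (by omega)
      have hcc : (sᶜ).card = s.card := by rw [Finset.card_compl]; omega
      obtain ⟨c, hc⟩ : ∃ c, c ∉ s := by
        have : 0 < (sᶜ).card := by omega
        obtain ⟨c, hc⟩ := Finset.card_pos.mp this
        exact ⟨c, Finset.mem_compl.mp hc⟩
      have hK₃M : partStab ρ s ≤ M := hle _ hRK₃ (h.partStab_ne_top s ha hb hab hc)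
      apply hMco.1
      apply h.eq_top_of_alt_le R hRM
      obtain ⟨y, hys, hyza⟩ : ∃ y, y ∉ s ∧ y ≠ z a := by
        obtain ⟨y, hy, hyn⟩ := Finset.exists_mem_notMem_of_card_lt_card
          (s := ({z a} : Finset α)) (t := sᶜ) (by rw [Finset.card_singleton]; omega)
        exact ⟨y, Finset.mem_compl.mp hy, by simpa using hyn⟩
      obtain ⟨u, hus, hun⟩ := Finset.exists_mem_notMem_of_card_lt_card
        (s := ({a, z a, z y} : Finset α)) (t := s)
        (lt_of_le_of_lt Finset.card_le_three (by omega))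
      simp only [Finset.mem_insert, Finset.mem_singleton, not_or] at hun
      obtain ⟨hua, huza, huzy⟩ := hun
      have hay : a ≠ y := fun e => hys (e ▸ ha)
      have huy : u ≠ y := fun e => hys (e ▸ hus)
      have hazy : a ≠ z y := by
        intro e
        apply hyza
        rw [e, hzz]
      obtain ⟨gσ, hgσM, hgσ⟩ := hσ a y hay hyza
      refine alt_le_of_halves (M := M.map ρ) ?_ s hs hs4 ?_ ?_
        (σ := swap a y * swap (z a) (z y)) ⟨gσ, hgσM, hgσ⟩ ha hus ?_ ?_
      · intro x y
        obtain ⟨g, hg, hgx⟩ := hRtr x y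
        exact ⟨ρ g, Subgroup.mem_map_of_mem ρ (hRM hg), hgx⟩
      · intro p q r hp hq hr hpq hpr hqr
        obtain ⟨g, hg⟩ := h.exists_dt hpq hpr
        refine ⟨g, hK₃M (Setup.mem_partStab_of_preserve s ?_), hg⟩
        intro t
        rw [hg, Perm.mul_apply, swap_mem_iff s (iff_of_true hp hq),
          swap_mem_iff s (iff_of_true hp hr)]
      · intro p q r hp hq hr hpq hpr hqr
        obtain ⟨g, hg⟩ := h.exists_dt hpq hpr
        refine ⟨g, hK₃M (Setup.mem_partStab_of_preserve s ?_), hg⟩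
        intro t
        rw [hg, Perm.mul_apply, swap_mem_iff s (iff_of_false hp hq),
          swap_mem_iff s (iff_of_false hp hr)]
      · rw [Perm.mul_apply, swap_apply_of_ne_of_ne huza huzy, swap_apply_of_ne_of_ne hua huy]
      · rw [Perm.mul_apply, swap_apply_of_ne_of_ne (Ne.symm (hfpf a)) hazy, swap_apply_left]
        exact hys
    · -- the degree is even but not a power of two
      push Not at hpow
      obtain ⟨x⟩ : Nonempty α := inferInstance
      set Δ : Set α := {y | ∃ g ∈ (R : Subgroup G), ρ g x = y} with hΔ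
      obtain ⟨j, hj⟩ := orbit_card_pow ρ R.isPGroup' x
      have hxΔ : x ∈ Δ := ⟨1, one_mem _, by simp⟩
      have hadd := Set.ncard_add_ncard_compl Δ
      rw [hj, Nat.card_eq_fintype_card] at hadd
      have hc0 : Δᶜ.ncard ≠ 0 := by
        intro h0
        rw [h0, add_zero] at hadd
        exact hpow j hadd.symm
      have hco1 : IsCoatom ((stabilizer (Perm α) Δ).comap ρ) := by
        apply h.coatom Δ ⟨x, hxΔ⟩
        · rw [← Set.ncard_pos]
          omega
        · rw [Nat.card_eq_fintype_card, hj]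
          intro he
          exact hpow (j + 1) (by rw [he, pow_succ]; ring)
      have e1 := heq _ hco1 (orbit_le_stab ρ R x)
      obtain ⟨y, hyΔ, hyzx⟩ : ∃ y, y ∉ Δ ∧ y ≠ z x := by
        by_contra hcon
        push Not at hcon
        have hsub : Δᶜ ⊆ {z x} := fun y hy => hcon y hy
        have h1 : Δᶜ.ncard ≤ 1 := by
          calc Δᶜ.ncard ≤ ({z x} : Set α).ncard := Set.ncard_le_ncard hsub (Set.toFinite _)
            _ = 1 := Set.ncard_singleton _
        have h2 : Δᶜ.ncard = 1 := by omega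
        rw [h2] at hadd
        rcases Nat.eq_zero_or_pos j with rfl | hjpos
        · simp at hadd
          omega
        · have : 2 ∣ 2 ^ j := dvd_pow_self 2 (by omega)
          omega
      have hxy : x ≠ y := fun e => hyΔ (e ▸ hxΔ)
      have hxzy : x ≠ z y := by
        intro e
        apply hyzx
        rw [e, hzz]
      obtain ⟨g, hgM, hg⟩ := hσ x y hxy hyzx
      rw [← e1, mem_stab_iff] at hgM
      have h2 := hgM x hxΔ
      rw [hg, Perm.mul_apply, swap_apply_of_ne_of_ne (Ne.symm (hfpf x)) hxzy,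
        swap_apply_left] at h2
      exact hyΔ h2
  · -- odd degree
    have hodd' : ¬ 2 ∣ Fintype.card α := by
      rw [← even_iff_two_dvd]
      exact Nat.not_even_iff_odd.mpr hodd
    obtain ⟨ω₀, hω₀⟩ := exists_fixed ρ R.isPGroup' hodd'
    obtain ⟨x, hx⟩ := exists_ne ω₀
    set Δ : Set α := {y | ∃ g ∈ (R : Subgroup G), ρ g x = y} with hΔ
    obtain ⟨j, hj⟩ := orbit_card_pow ρ R.isPGroup' x
    have hxΔ : x ∈ Δ := ⟨1, one_mem _, by simp⟩
    have hω₀Δ : ω₀ ∉ Δ := by
      rintro ⟨g, hg, hgx⟩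
      rw [← hω₀ g hg] at hgx
      exact hx ((ρ g).injective hgx)
    have hco1 : IsCoatom ((stabilizer (Perm α) Δ).comap ρ) := by
      apply h.coatom Δ ⟨x, hxΔ⟩ ⟨ω₀, hω₀Δ⟩
      rw [Nat.card_eq_fintype_card]
      intro he
      rw [he] at hodd'
      exact hodd' (dvd_mul_right 2 _)
    have hco2 := h.coatom_singleton ω₀
    have e1 := heq _ hco1 (orbit_le_stab ρ R x)
    have e2 := heq _ hco2 (fun g hg => (Setup.mem_stab_singleton ω₀ g).mpr (hω₀ g hg))
    obtain ⟨w, hwΔ, hw0⟩ : ∃ w, w ∉ Δ ∧ w ≠ ω₀ := by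
      by_contra hcon
      push Not at hcon
      have hc : Δᶜ = {ω₀} := by
        ext w
        constructor
        · intro hw
          exact hcon w hw
        · intro hw
          rw [Set.mem_singleton_iff] at hw
          rw [hw]
          exact hω₀Δ
      have h1 := Set.ncard_add_ncard_compl Δ
      rw [hc, Set.ncard_singleton, hj, Nat.card_eq_fintype_card] at h1
      have hj2 : 2 ≤ j := by
        by_contra hlt
        push Not at hlt
        interval_cases j <;> omega
      exact hno j hj2 h1.symm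
    obtain ⟨g, hg0, hgx⟩ := h.stab_trans ω₀ x w hx hw0
    have hgM : g ∈ M := by
      rw [← e2]
      exact (Setup.mem_stab_singleton ω₀ g).mpr hg0
    rw [← e1, mem_stab_iff] at hgM
    exact hwΔ (hgx ▸ hgM x hxΔ)

end Cfsg.Agent.Helper8.SylMax
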