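import Mathlib
import Cfsg.Agent.Helper8.SylMaxJ

set_option autoImplicit false

/-!
The symmetric and the alternating group satisfy the hypotheses of the common setting.
-/

namespace Cfsg.Agent.Helper8.SylMax

open Equiv Equiv.Perm MulAction
open scoped Pointwise

variable {α : Type*} [Fintype α] [DecidableEq α]

theorem setup_perm (h5 : 5 ≤ Fintype.card α) : Setup (MonoidHom.id (Perm α)) where
  inj := Function.injective_id
  alt_le := by
    intro g _
    exact ⟨g, rfl⟩
  coatom := fun s hs hsc hcard => by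
    rw [Subgroup.comap_id]
    exact Equiv.Perm.isCoatom_stabilizer hs hsc hcard
  five := h5

theorem setup_alt (h5 : 5 ≤ Fintype.card α) : Setup (alternatingGroup α).subtype where
  inj := Subtype.coe_injective
  alt_le := by rw [Subgroup.range_subtype]
  coatom := fun s hs hsc hcard => by
    have := alternatingGroup.isCoatom_stabilizer hs hsc hcard
    convert this using 1
    ext g
    rw [Subgroup.mem_comap, mem_stabilizer_iff, mem_stabilizer_iff]
    rfl
  five := h5

/-- For `|α| ≥ 5`, a Sylow `2`-subgroup of the alternating or symmetric group lies in a unique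
maximal subgroup iff `|α| = 2 ^ k + 1` for some `k ≥ 2`. -/
theorem sylow_two_unique_coatom_iff (h5 : 5 ≤ Fintype.card α) :
    (∀ R : Sylow 2 ↥(alternatingGroup α),
      (∃! M : Subgroup ↥(alternatingGroup α), IsCoatom M ∧
        (R : Subgroup ↥(alternatingGroup α)) ≤ M) ↔
        ∃ k : ℕ, 2 ≤ k ∧ Fintype.card α = 2 ^ k + 1) ∧
    (∀ R : Sylow 2 (Perm α),
      (∃! M : Subgroup (Perm α), IsCoatom M ∧ (R : Subgroup (Perm α)) ≤ M) ↔
        ∃ k : ℕ, 2 ≤ k ∧ Fintype.card α = 2 ^ k + 1) := by
  refine ⟨fun R => ⟨fun hu => ?_, ?_⟩, fun R => ⟨fun hu => ?_, ?_⟩⟩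
  · exact (setup_alt h5).pow_of_unique R hu
  · rintro ⟨k, hk, hc⟩
    exact (setup_alt h5).unique_of_pow R k hk hc
  · exact (setup_perm h5).pow_of_unique R hu
  · rintro ⟨k, hk, hc⟩
    exact (setup_perm h5).unique_of_pow R k hk hc

end Cfsg.Agent.Helper8.SylMax
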