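import Mathlib
import Cfsg.Agent.Helper8.SymOrth

set_option autoImplicit false

/-!
Counting the singular vectors of the form `Qs` over the field with two elements.
-/

namespace Cfsg.Agent.Helper8.SymOrth

open Matrix Cfsg Cfsg.Agent.Helper7.SymSp Cfsg.Agent.Helper8.E2Form

/-- the sign character of `ZMod 2`. -/
def chi2 (a : ZMod 2) : ℤ := if a = 0 then 1 else -1

theorem chi2_add (a b : ZMod 2) : chi2 (a + b) = chi2 a * chi2 b := by
  revert a b; decide

theorem chi2_zero : chi2 0 = 1 := rfl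

theorem chi2_sum {ι : Type*} (s : Finset ι) (f : ι → ZMod 2) :
    chi2 (∑ i ∈ s, f i) = ∏ i ∈ s, chi2 (f i) := by
  classical
  induction s using Finset.induction_on with
  | empty => simp [chi2_zero]
  | insert a s ha ih => rw [Finset.sum_insert ha, Finset.prod_insert ha, chi2_add, ih]

theorem plane_sum (c : ZMod 2) :
    ∑ p : ZMod 2 × ZMod 2, chi2 (p.1 * p.1 + p.1 * p.2 + c * (p.2 * p.2))
      = if c = 0 then 2 else -2 := by
  revert c; decide

/-- regrouping the coordinates. -/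
def pairEquiv (k : ℕ) : (Fin k → ZMod 2 × ZMod 2) ≃ (Fin k ⊕ Fin k → ZMod 2) where
  toFun p := Sum.elim (fun t => (p t).1) (fun t => (p t).2)
  invFun x := fun t => (x (Sum.inl t), x (Sum.inr t))
  left_inv p := by funext t; rfl
  right_inv x := by funext r; rcases r with t | t <;> rfl

theorem char_sum (k : ℕ) :
    ∑ x : Fin k ⊕ Fin k → ZMod 2, chi2 (Qd k x)
      = ∏ t : Fin k, (if ((t.val + 1 : ℕ) : ZMod 2) = 0 then (2 : ℤ) else -2) := by
  classical
  have h1 : ∑ x : Fin k ⊕ Fin k → ZMod 2, chi2 (Qd k x)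
      = ∑ p : Fin k → ZMod 2 × ZMod 2, ∏ t : Fin k,
        chi2 ((p t).1 * (p t).1 + (p t).1 * (p t).2 + ((t.val + 1 : ℕ) : ZMod 2) * ((p t).2 * (p t).2)) := by
    symm
    refine Fintype.sum_equiv (pairEquiv k) _ _ (fun p => ?_)
    rw [Qd_apply, chi2_sum]
    rfl
  rw [h1]
  have h2 := Fintype.prod_sum (ι := Fin k) (κ := fun _ => ZMod 2 × ZMod 2)
    (fun t (p : ZMod 2 × ZMod 2) =>
      chi2 (p.1 * p.1 + p.1 * p.2 + ((t.val + 1 : ℕ) : ZMod 2) * (p.2 * p.2)))
  rw [← h2]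
  refine Finset.prod_congr rfl (fun t _ => ?_)
  exact plane_sum _

theorem prod_signs (k : ℕ) :
    ∏ t : Fin (2 * k + 1), (if ((t.val + 1 : ℕ) : ZMod 2) = 0 then (2 : ℤ) else -2)
      = -2 * (-4) ^ k := by
  rw [Fin.prod_univ_eq_prod_range
    (fun t => if ((t + 1 : ℕ) : ZMod 2) = 0 then (2 : ℤ) else -2) (2 * k + 1)]
  induction k with
  | zero => simp
  | succ k ih =>
    have : 2 * (k + 1) + 1 = (2 * k + 1) + 1 + 1 := by ring
    rw [this, Finset.prod_range_succ, Finset.prod_range_succ, ih]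
    have h1 : ((2 * k + 1 + 1 : ℕ) : ZMod 2) = 0 := by
      rw [ZMod.natCast_eq_zero_iff]
      exact ⟨k + 1, by ring⟩
    have h2 : ((2 * k + 1 + 1 + 1 : ℕ) : ZMod 2) ≠ 0 := by
      rw [Ne, ZMod.natCast_eq_zero_iff]
      omega
    rw [if_pos h1, if_neg h2, pow_succ]
    ring

/-- the number of singular vectors. -/
theorem card_singular (k : ℕ) :
    (Nat.card {x : Fin (2 * k + 1) ⊕ Fin (2 * k + 1) → ZMod 2 // Qs (2 * k + 1) x = 0} : ℤ) * 2
      = 2 ^ (2 * (2 * k + 1)) + -2 * (-4) ^ k := by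
  classical
  rw [← prod_signs, ← char_sum, ← Qs_eq_Qd]
  have hsum : ∑ x : Fin (2 * k + 1) ⊕ Fin (2 * k + 1) → ZMod 2, chi2 (Qs (2 * k + 1) x)
      = ((Finset.univ.filter (fun x : Fin (2 * k + 1) ⊕ Fin (2 * k + 1) → ZMod 2 =>
          Qs (2 * k + 1) x = 0)).card : ℤ)
        - ((Finset.univ.filter (fun x : Fin (2 * k + 1) ⊕ Fin (2 * k + 1) → ZMod 2 =>
          ¬ Qs (2 * k + 1) x = 0)).card : ℤ) := by
    unfold chi2
    rw [Finset.sum_ite, Finset.sum_const, Finset.sum_const]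
    simp
    ring
  have htot := Finset.card_filter_add_card_filter_not
    (s := (Finset.univ : Finset (Fin (2 * k + 1) ⊕ Fin (2 * k + 1) → ZMod 2)))
    (fun x => Qs (2 * k + 1) x = 0)
  rw [Finset.card_univ, Fintype.card_fun, Fintype.card_sum, Fintype.card_fin, ZMod.card] at htot
  have hN : Nat.card {x : Fin (2 * k + 1) ⊕ Fin (2 * k + 1) → ZMod 2 // Qs (2 * k + 1) x = 0}
      = (Finset.univ.filter (fun x : Fin (2 * k + 1) ⊕ Fin (2 * k + 1) → ZMod 2 =>
          Qs (2 * k + 1) x = 0)).card := by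
    rw [Nat.card_eq_fintype_card, Fintype.card_subtype]
  rw [hN, hsum]
  have htot' : ((Finset.univ.filter (fun x : Fin (2 * k + 1) ⊕ Fin (2 * k + 1) → ZMod 2 =>
          Qs (2 * k + 1) x = 0)).card : ℤ)
        + ((Finset.univ.filter (fun x : Fin (2 * k + 1) ⊕ Fin (2 * k + 1) → ZMod 2 =>
          ¬ Qs (2 * k + 1) x = 0)).card : ℤ) = 2 ^ (2 * (2 * k + 1)) := by
    have := congrArg (fun n : ℕ => (n : ℤ)) htot
    simp only [Nat.cast_add, Nat.cast_pow, Nat.cast_ofNat] at this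
    rw [this]
    congr 1
    ring
  linarith

end Cfsg.Agent.Helper8.SymOrth
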