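import Mathlib
import Cfsg.Agent.Helper8.SymOrth
import Cfsg.Agent.Helper8.ReflMatrix

set_option autoImplicit false

/-!
The embedding of the symmetric group of degree `2m + 2` into the isometry group of any quadratic
form equivalent to `Qs m`.
-/

namespace Cfsg.Agent.Helper8.SymOrth

open Matrix Cfsg Cfsg.Agent.Helper7.SymSp Cfsg.Agent.Helper8.ReflMatrix
  Cfsg.Agent.Helper8.OrthOrder

variable {F : Type*} [Field F] [CharP F 2] (m : ℕ)

/-- the symmetric group in the general linear group. -/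
noncomputable def symGL : Equiv.Perm (Fin (2 * m + 2)) →* GL (Fin m ⊕ Fin m) F :=
  (Units.map (Matrix.symplecticGroup (Fin m) F).subtype).comp
    ((toUnits (G := ↥(Matrix.symplecticGroup (Fin m) F))).toMonoidHom.comp (symHom F m))

theorem symGL_val (σ : Equiv.Perm (Fin (2 * m + 2))) :
    ((symGL (F := F) m σ : GL (Fin m ⊕ Fin m) F) : Matrix (Fin m ⊕ Fin m) (Fin m ⊕ Fin m) F)
      = M F m σ := rfl

theorem symGL_injective (hm : 2 ≤ m) : Function.Injective (symGL (F := F) m) := by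
  intro σ τ h
  apply symHom_injective (F := F) m hm
  apply Subtype.ext
  have := congrArg (fun g : GL (Fin m ⊕ Fin m) F => (g : Matrix (Fin m ⊕ Fin m) (Fin m ⊕ Fin m) F)) h
  exact this

/-- conjugation by a linear equivalence. -/
def conjHom {V V' : Type*} [AddCommGroup V] [Module F V] [AddCommGroup V'] [Module F V']
    (P : V ≃ₗ[F] V') : (V ≃ₗ[F] V) →* (V' ≃ₗ[F] V') where
  toFun g := P.symm.trans (g.trans P)
  map_one' := by
    ext v
    simp
  map_mul' g h := by
    ext v
    simp [LinearEquiv.mul_apply]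

omit [CharP F 2] in
theorem conjHom_apply {V V' : Type*} [AddCommGroup V] [Module F V] [AddCommGroup V'] [Module F V']
    (P : V ≃ₗ[F] V') (g : V ≃ₗ[F] V) (v : V') : conjHom P g v = P (g (P.symm v)) := rfl

omit [CharP F 2] in
theorem conjHom_injective {V V' : Type*} [AddCommGroup V] [Module F V] [AddCommGroup V']
    [Module F V'] (P : V ≃ₗ[F] V') : Function.Injective (conjHom P) := by
  intro g h hgh
  ext v
  have := LinearEquiv.congr_fun hgh (P v)
  rw [conjHom_apply, conjHom_apply, LinearEquiv.symm_apply_apply] at this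
  exact P.injective this

theorem exists_embedding (hm : 2 ≤ m) (hn : (((2 * m + 2).choose 2 : ℕ) : F) = 0)
    {ι' : Type} [Fintype ι'] [DecidableEq ι'] (Q₀ : QuadraticForm F (ι' → F))
    (P : (Fin m ⊕ Fin m → F) ≃ₗ[F] (ι' → F)) (hP : ∀ v, Q₀ (P v) = Qs m v) :
    ∃ φ : Equiv.Perm (Fin (2 * m + 2)) →* ↥(Cfsg.isometryGroup F ⇑Q₀), Function.Injective φ := by
  let φ₀ : Equiv.Perm (Fin (2 * m + 2)) →* GL ι' F :=
    (glEquiv (F := F) (ι := ι')).symm.toMonoidHom.comp
      ((conjHom P).comp ((glEquiv (F := F) (ι := Fin m ⊕ Fin m)).toMonoidHom.comp (symGL m)))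
  have hφ₀ : ∀ σ, glEquiv (φ₀ σ) = conjHom P (glEquiv (symGL (F := F) m σ)) := by
    intro σ
    show glEquiv (glEquiv.symm _) = _
    rw [MulEquiv.apply_symm_apply]
    rfl
  have hmem : ∀ σ, φ₀ σ ∈ Cfsg.isometryGroup F ⇑Q₀ := by
    intro σ
    rw [mem_isometryGroup_iff, hφ₀]
    intro v
    rw [conjHom_apply, hP, glEquiv_apply, symGL_val, Qs_M m hn, ← hP, LinearEquiv.apply_symm_apply]
  refine ⟨φ₀.codRestrict _ hmem, ?_⟩
  intro σ τ h
  have h1 : φ₀ σ = φ₀ τ := congrArg Subtype.val h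
  have h2 : glEquiv (φ₀ σ) = glEquiv (φ₀ τ) := by rw [h1]
  rw [hφ₀, hφ₀] at h2
  exact symGL_injective m hm (glEquiv.injective (conjHom_injective P h2))

end Cfsg.Agent.Helper8.SymOrth
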