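import Mathlib
import Cfsg.Prelude.Def_Characters
import Cfsg.Agent.Helper8.SzPartB

set_option autoImplicit false

/-!
Sums of a class function over the union of the conjugates of a trivial-intersection subgroup.
-/

namespace Cfsg.Agent.Helper8.SzCh

open Cfsg.Agent.Helper8.SzPart

variable {G : Type*} [Group G]

/-- the number of elements conjugating `x` into `A` -/
theorem card_conjugators [Fintype G] [DecidableEq G] (A : Subgroup G)
    (hTI : ∀ g : G, ∀ u ∈ A, u ≠ 1 → g * u * g⁻¹ ∈ A → g ∈ Subgroup.normalizer (A : Set G))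
    {x : G} (hx : x ∈ conjSet A) [DecidablePred fun g : G => g⁻¹ * x * g ∈ A] :
    (Finset.univ.filter (fun g : G => g⁻¹ * x * g ∈ A)).card =
      Nat.card (Subgroup.normalizer (A : Set G)) := by
  classical
  obtain ⟨hx1, g₀, hg₀⟩ := hx
  have hu1 : g₀⁻¹ * x * g₀ ≠ 1 := by
    intro h
    apply hx1
    have : x = g₀ * (g₀⁻¹ * x * g₀) * g₀⁻¹ := by group
    rw [this, h]; group
  rw [Nat.card_eq_fintype_card, ← Fintype.card_coe]
  apply Fintype.card_congr
  refine ⟨fun g => ⟨g₀⁻¹ * g.1, ?_⟩, fun n => ⟨g₀ * n.1, ?_⟩, ?_, ?_⟩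
  · have hg := (Finset.mem_filter.1 g.2).2
    have h1 : (g₀⁻¹ * g.1)⁻¹ ∈ Subgroup.normalizer (A : Set G) := by
      apply hTI _ (g₀⁻¹ * x * g₀) hg₀ hu1
      have : (g₀⁻¹ * g.1)⁻¹ * (g₀⁻¹ * x * g₀) * (g₀⁻¹ * g.1)⁻¹⁻¹ = g.1⁻¹ * x * g.1 := by group
      rw [this]
      exact hg
    have := Subgroup.inv_mem _ h1
    rwa [inv_inv] at this
  · rw [Finset.mem_filter]
    refine ⟨Finset.mem_univ _, ?_⟩
    have hn : n.1⁻¹ ∈ Subgroup.normalizer (A : Set G) := Subgroup.inv_mem _ n.2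
    rw [Subgroup.mem_normalizer_iff] at hn
    have := (hn (g₀⁻¹ * x * g₀)).1 hg₀
    have e : (g₀ * n.1)⁻¹ * x * (g₀ * n.1) = n.1⁻¹ * (g₀⁻¹ * x * g₀) * n.1⁻¹⁻¹ := by group
    rw [e]
    exact this
  · intro g
    apply Subtype.ext
    show g₀ * (g₀⁻¹ * g.1) = g.1
    group
  · intro n
    apply Subtype.ext
    show g₀⁻¹ * (g₀ * n.1) = n.1
    group

/-- the sum of a class function over the nonidentity elements of the conjugates of a
trivial-intersection subgroup -/
theorem sum_conjSet [Fintype G] (A : Subgroup G)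
    (hTI : ∀ g : G, ∀ u ∈ A, u ≠ 1 → g * u * g⁻¹ ∈ A → g ∈ Subgroup.normalizer (A : Set G))
    (χ : G → ℂ) (hχ : Cfsg.IsClassFunction G χ) :
    (Nat.card (Subgroup.normalizer (A : Set G)) : ℂ) *
        ∑ x : G, Set.indicator (conjSet A) χ x =
      (Nat.card G : ℂ) * ∑ u : G, Set.indicator {u : G | u ∈ A ∧ u ≠ 1} χ u := by
  classical
  -- the count
  have hcount : ∀ x : G, (Nat.card (Subgroup.normalizer (A : Set G)) : ℂ) *
      Set.indicator (conjSet A) χ x =
      ∑ g : G, Set.indicator {u : G | u ∈ A ∧ u ≠ 1} χ (g⁻¹ * x * g) := by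
    intro x
    have hval : ∀ g : G, Set.indicator {u : G | u ∈ A ∧ u ≠ 1} χ (g⁻¹ * x * g) =
        if g⁻¹ * x * g ∈ A ∧ x ≠ 1 then χ x else 0 := by
      intro g
      have hcl : χ (g⁻¹ * x * g) = χ x := by
        have := hχ x g⁻¹
        rwa [inv_inv] at this
      have hiff : g⁻¹ * x * g ≠ 1 ↔ x ≠ 1 := by
        constructor
        · rintro h rfl
          apply h; group
        · intro h e
          apply h
          have : x = g * (g⁻¹ * x * g) * g⁻¹ := by group
          rw [this, e]; group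
      by_cases hm : g⁻¹ * x * g ∈ A ∧ x ≠ 1
      · rw [if_pos hm, Set.indicator_of_mem (show g⁻¹ * x * g ∈ {u : G | u ∈ A ∧ u ≠ 1} from
          ⟨hm.1, hiff.2 hm.2⟩), hcl]
      · rw [if_neg hm, Set.indicator_of_notMem]
        rintro ⟨h1, h2⟩
        exact hm ⟨h1, hiff.1 h2⟩
    rw [Finset.sum_congr rfl (fun g _ => hval g)]
    by_cases hx : x ∈ conjSet A
    · rw [Set.indicator_of_mem hx]
      have h1 : ∀ g : G, (if g⁻¹ * x * g ∈ A ∧ x ≠ 1 then χ x else 0) =
          if g⁻¹ * x * g ∈ A then χ x else 0 := by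
        intro g
        by_cases hm : g⁻¹ * x * g ∈ A
        · rw [if_pos hm, if_pos ⟨hm, hx.1⟩]
        · rw [if_neg hm, if_neg (fun h => hm h.1)]
      rw [Finset.sum_congr rfl (fun g _ => h1 g), ← Finset.sum_filter, Finset.sum_const,
        card_conjugators A hTI hx, nsmul_eq_mul]
    · rw [Set.indicator_of_notMem hx, mul_zero]
      symm
      apply Finset.sum_eq_zero
      intro g _
      rw [if_neg]
      rintro ⟨h1, h2⟩
      exact hx ⟨h2, g, h1⟩
  rw [Finset.mul_sum, Finset.sum_congr rfl (fun x _ => hcount x), Finset.sum_comm]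
  have hin : ∀ g : G, ∑ x : G, Set.indicator {u : G | u ∈ A ∧ u ≠ 1} χ (g⁻¹ * x * g) =
      ∑ u : G, Set.indicator {u : G | u ∈ A ∧ u ≠ 1} χ u := by
    intro g
    exact Fintype.sum_equiv (MulAut.conj g⁻¹).toEquiv _ _ (fun x => by
      simp)
  rw [Finset.sum_congr rfl (fun g _ => hin g), Finset.sum_const, Finset.card_univ, nsmul_eq_mul,
    Nat.card_eq_fintype_card]

end Cfsg.Agent.Helper8.SzCh
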