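import Mathlib
import Cfsg.Prelude.Def_Characters
import Cfsg.Agent.Helper8.SzPartE
import Cfsg.Agent.Helper8.SzPartF
import Cfsg.Agent.Helper8.SzPartI
import Cfsg.Agent.Helper2.Sh3SimA
import Cfsg.Agent.Helper6.Linear
import Cfsg.Agent.Helper6.IrrCrit
import Cfsg.Agent.Helper6.Induced

set_option autoImplicit false
set_option linter.unusedSectionVars false

/-!
Groups of Suzuki type: the principal series characters.
-/

namespace Cfsg.Agent.Helper8.SzCh

open MulAction Cfsg.Agent.Helper6 Cfsg.Agent.Helper8.SzPart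
open scoped ComplexConjugate

universe u v w

/-- the hypotheses: a doubly transitive group of Suzuki type, with the structure of the stabilizer
of the point `a` given by a homomorphism `τ` onto an abelian group `T` of order `q - 1` which is
bijective on the stabilizer of the two points `a` and `b`, and an element `w` interchanging `a`
and `b` and inverting the two point stabilizer -/
structure Hyp (G : Type u) (Ω : Type v) (T : Type w) [Group G] [Finite G] [MulAction G Ω]
    [CommGroup T] (q r : ℕ) (a b : Ω) where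
  act : Act G Ω q r
  ctx : Ctx G q r
  hab : a ≠ b
  τ : stabilizer G a →* T
  cardT : Nat.card T = q - 1
  hHsurj : ∀ t : T, ∃ h : stabilizer G a, (h : G) • b = b ∧ τ h = t
  hH : ∀ h : stabilizer G a, (h : G) • b = b → τ h = 1 → h = 1
  w : G
  hwa : w • a = b
  hwb : w • b = a
  hinv : ∀ (h : stabilizer G a) (_ : (h : G) • b = b) (hw : w⁻¹ * (h : G) * w ∈ stabilizer G a),
      τ ⟨w⁻¹ * (h : G) * w, hw⟩ = (τ h)⁻¹
  hfrob : ∀ x g : stabilizer G a, τ x = 1 → x ≠ 1 → g * x = x * g → τ g = 1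
  hfix : ∀ x : stabilizer G a, τ x = 1 → x ≠ 1 → ∀ c : Ω, (x : G) • c = c → c = a

variable {G : Type u} {Ω : Type v} {T : Type w} [Group G] [Fintype G] [MulAction G Ω] [Fintype Ω]
  [CommGroup T] [Fintype T] {q r : ℕ} {a b : Ω}

namespace Hyp

variable (D : Hyp G Ω T q r a b)

/-- the linear character of the point stabilizer attached to a character of `T` -/
noncomputable def lam (ν : T →* ℂˣ) : stabilizer G a → ℂ := fun x => ((ν (D.τ x) : ℂˣ) : ℂ)

theorem lam_apply (ν : T →* ℂˣ) (x : stabilizer G a) : D.lam ν x = ((ν (D.τ x) : ℂˣ) : ℂ) := rfl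

theorem isIrrCharacter_lam (ν : T →* ℂˣ) : Cfsg.IsIrrCharacter (stabilizer G a) (D.lam ν) :=
  isIrrCharacter_of_hom (ν.comp D.τ)

theorem τ_surj : Function.Surjective D.τ := by
  intro t
  obtain ⟨h, -, ht⟩ := D.hHsurj t
  exact ⟨h, ht⟩

theorem lam_injective {ν ν' : T →* ℂˣ} (h : D.lam ν = D.lam ν') : ν = ν' := by
  ext t
  obtain ⟨x, rfl⟩ := D.τ_surj t
  exact congrFun h x

theorem classInner_lam [Fintype (stabilizer G a)] (ν ν' : T →* ℂˣ) [Decidable (ν = ν')] :
    Cfsg.classInner (D.lam ν) (D.lam ν') = if ν = ν' then 1 else 0 := by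
  split_ifs with h
  · rw [h]
    exact classInner_irr_self (D.isIrrCharacter_lam ν')
  · exact classInner_irr_ne (D.isIrrCharacter_lam ν) (D.isIrrCharacter_lam ν')
      (fun e => h (D.lam_injective e))

theorem conj_hom (ν : T →* ℂˣ) (t : T) : conj ((ν t : ℂˣ) : ℂ) = ((ν t⁻¹ : ℂˣ) : ℂ) := by
  have h := IsCharacter.inv_eq_conj
    (IsIrrCharacter.isCharacter (isIrrCharacter_of_hom ν)) t
  exact h.symm

/-- the principal series -/
noncomputable def Rnu (ν : T →* ℂˣ) : G → ℂ := Cfsg.indFun (stabilizer G a) (D.lam ν)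

theorem isCharacter_Rnu (ν : T →* ℂˣ) : Cfsg.IsCharacter G (D.Rnu ν) :=
  isCharacter_indFun _ _ (IsIrrCharacter.isCharacter (D.isIrrCharacter_lam ν))

include D

theorem conj_mem_stabilizer (x : stabilizer G a) :
    D.w⁻¹ * (x : G) * D.w ∈ stabilizer G a ↔ (x : G) • b = b := by
  rw [mem_stabilizer_iff, mul_smul, mul_smul, D.hwa, inv_smul_eq_iff, D.hwa]

theorem card_stab : Nat.card (stabilizer G a) = q ^ 2 * (q - 1) := D.act.card_stabilizer a

theorem q_pos : 0 < q := by
  have := D.act.q_ge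
  omega

theorem q_sub_one_ne_zero : ((q - 1 : ℕ) : ℂ) ≠ 0 := by
  have := D.act.q_ge
  have : q - 1 ≠ 0 := by omega
  exact_mod_cast this

/-- the twisted sum in Mackey's formula -/
theorem mackey_sum (ν ν' : T →* ℂˣ) [Decidable (ν' = ν⁻¹)] [Fintype (stabilizer G a)] :
    ∑ x : stabilizer G a, D.lam ν x *
        conj (Cfsg.extendByZero (stabilizer G a) (D.lam ν') (D.w⁻¹ * (x : G) * D.w)) =
      if ν' = ν⁻¹ then ((q - 1 : ℕ) : ℂ) else 0 := by
  classical
  -- reduce to the two point stabilizer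
  have hterm : ∀ x : stabilizer G a, D.lam ν x *
      conj (Cfsg.extendByZero (stabilizer G a) (D.lam ν') (D.w⁻¹ * (x : G) * D.w)) =
      if (x : G) • b = b then (((ν * ν') (D.τ x) : ℂˣ) : ℂ) else 0 := by
    intro x
    by_cases hx : (x : G) • b = b
    · have hm := (D.conj_mem_stabilizer x).2 hx
      rw [if_pos hx, extendByZero_mem _ _ hm, lam_apply, lam_apply, D.hinv x hx hm, conj_hom,
        inv_inv, MonoidHom.mul_apply, Units.val_mul]
    · rw [if_neg hx, extendByZero_not_mem _ _ (fun hm => hx ((D.conj_mem_stabilizer x).1 hm)),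
        map_zero, mul_zero]
  rw [Finset.sum_congr rfl (fun x _ => hterm x), ← Finset.sum_filter]
  -- transport to `T`
  have hbij : ∑ x ∈ Finset.univ.filter (fun x : stabilizer G a => (x : G) • b = b),
      (((ν * ν') (D.τ x) : ℂˣ) : ℂ) = ∑ t : T, (((ν * ν') t : ℂˣ) : ℂ) := by
    apply Finset.sum_bij (fun x _ => D.τ x)
    · intro x _
      exact Finset.mem_univ _
    · intro x hx y hy hxy
      have hx' := (Finset.mem_filter.1 hx).2
      have hy' := (Finset.mem_filter.1 hy).2
      have h1 : ((x⁻¹ * y : stabilizer G a) : G) • b = b := by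
        rw [Subgroup.coe_mul, Subgroup.coe_inv, mul_smul, hy', inv_smul_eq_iff, hx']
      have h2 : D.τ (x⁻¹ * y) = 1 := by
        rw [map_mul, map_inv, hxy, inv_mul_cancel]
      have := D.hH _ h1 h2
      exact (inv_mul_eq_one.1 this)
    · intro t _
      obtain ⟨h, hb, ht⟩ := D.hHsurj t
      exact ⟨h, Finset.mem_filter.2 ⟨Finset.mem_univ _, hb⟩, ht⟩
    · intro x _
      rfl
  rw [hbij]
  have hsum := sum_hom_units ((Units.coeHom ℂ).comp (ν * ν'))
  simp only [MonoidHom.coe_comp, Function.comp_apply, Units.coeHom_apply] at hsum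
  rw [hsum]
  have hiff : ((Units.coeHom ℂ).comp (ν * ν') = 1) ↔ ν' = ν⁻¹ := by
    constructor
    · intro h
      ext t
      have h1 := DFunLike.congr_fun h t
      simp only [MonoidHom.coe_comp, Function.comp_apply, Units.coeHom_apply, MonoidHom.mul_apply,
        Units.val_mul, MonoidHom.one_apply] at h1
      have h2 : ν t * ν' t = 1 := Units.ext (by simpa using h1)
      rw [MonoidHom.inv_apply]
      exact congrArg Units.val (eq_inv_of_mul_eq_one_right h2)
    · intro h
      ext t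
      simp [h]
  have hcard : (Fintype.card T : ℂ) = ((q - 1 : ℕ) : ℂ) := by
    rw [← Nat.card_eq_fintype_card, D.cardT]
  by_cases h : ν' = ν⁻¹
  · rw [if_pos h, if_pos (hiff.2 h), hcard]
  · rw [if_neg h, if_neg (fun e => h (hiff.1 e)), Nat.cast_zero]

/-- the inner products of the principal series -/
theorem classInner_Rnu (ν ν' : T →* ℂˣ) [Decidable (ν = ν')] [Decidable (ν' = ν⁻¹)] :
    Cfsg.classInner (D.Rnu ν) (D.Rnu ν') =
      (if ν = ν' then 1 else 0) + (if ν' = ν⁻¹ then 1 else 0) := by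
  classical
  let _ : Fintype (stabilizer G a) := Fintype.ofFinite _
  have h2t := D.act.two
  rw [is_two_pretransitive_iff] at h2t
  have htr : ∀ c : Ω, c ≠ a → ∃ k : G, k • a = a ∧ k • b = c := by
    intro c hc
    exact h2t D.hab (Ne.symm hc)
  have hcf : ∀ ν : T →* ℂˣ, Cfsg.IsClassFunction _ (D.lam ν) := fun ν =>
    IsCharacter.isClassFunction (IsIrrCharacter.isCharacter (D.isIrrCharacter_lam ν))
  have hm := Cfsg.Agent.Helper2.Sh3Sim.mackey_two htr D.w D.hwa (D.lam ν) (D.lam ν') (hcf ν)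
    (hcf ν')
  unfold Rnu
  rw [hm, D.classInner_lam, D.mackey_sum, D.card_stab, D.act.card]
  have hq := D.q_pos
  have hq0 : (q : ℂ) ≠ 0 := by exact_mod_cast hq.ne'
  have hq1 := D.q_sub_one_ne_zero
  have hcoef : (((q ^ 2 * (q - 1) * (q ^ 2 + 1) : ℕ) : ℂ) - ((q ^ 2 * (q - 1) : ℕ) : ℂ)) /
      ((q ^ 2 * (q - 1) : ℕ) : ℂ) ^ 2 * ((q - 1 : ℕ) : ℂ) = 1 := by
    push_cast
    field_simp
    ring
  by_cases h : ν' = ν⁻¹
  · rw [if_pos h, if_pos h, hcoef]
  · rw [if_neg h, if_neg h, mul_zero]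

end Hyp

end Cfsg.Agent.Helper8.SzCh
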