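import Mathlib
import Cfsg.Agent.Helper8.SzChB
import Cfsg.Agent.Helper6.Degrees
import Cfsg.Agent.Helper6.SepClsB
import Cfsg.Agent.Helper6.Constituent
import Cfsg.Agent.Helper6.OddReal
import Cfsg.Agent.Helper6.CycM
import Cfsg.Agent.Helper6.Expansion
import Cfsg.Agent.Helper6.TIFrob

set_option autoImplicit false
set_option linter.unusedSectionVars false

/-!
Groups of Suzuki type: the Steinberg character, the classification of the characters in the
principal series, and the restriction of the other characters to the point stabilizer.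
-/

namespace Cfsg.Agent.Helper8.SzCh

open MulAction Cfsg.Agent.Helper6 Cfsg.Agent.Helper8.SzPart
open scoped ComplexConjugate

universe u v w

variable {G : Type u} {Ω : Type v} {T : Type w} [Group G] [Fintype G] [MulAction G Ω] [Fintype Ω]
  [CommGroup T] [Fintype T] {q r : ℕ} {a b : Ω}

namespace Hyp

variable (D : Hyp G Ω T q r a b)

include D

theorem odd_cardT : Odd (Nat.card T) := by
  rw [D.cardT]
  have h8 := D.act.q_ge
  have hq := D.act.hqr
  rw [Nat.odd_iff]
  have : q % 2 = 0 := by rw [hq]; omega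
  omega

/-- a character of `T` different from its inverse -/
theorem inv_ne_self {ν : T →* ℂˣ} (hν : ν ≠ 1) : ν⁻¹ ≠ ν := by
  intro h
  apply hν
  ext t
  have h1 : ν t * ν t = 1 := by
    have h0 : (ν t)⁻¹ = ν t := by
      have := DFunLike.congr_fun h t
      rwa [MonoidHom.inv_apply] at this
    calc ν t * ν t = (ν t)⁻¹ * ν t := by rw [h0]
      _ = 1 := inv_mul_cancel _
  have h2 : ν t ^ Nat.card T = 1 := by
    rw [← map_pow, pow_card_eq_one', map_one]
  obtain ⟨k, hk⟩ := D.odd_cardT
  rw [hk, pow_succ, pow_mul, pow_two, h1, one_pow, one_mul] at h2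
  rw [h2]
  rfl

theorem isIrrCharacter_Rnu {ν : T →* ℂˣ} (hν : ν ≠ 1) : Cfsg.IsIrrCharacter G (D.Rnu ν) := by
  classical
  apply isIrrCharacter_of_classInner_self (D.isCharacter_Rnu ν)
  rw [D.classInner_Rnu, if_pos rfl, if_neg (D.inv_ne_self hν).symm, add_zero]

theorem index_stab : (stabilizer G a).index = q ^ 2 + 1 := by
  have h1 := Subgroup.card_mul_index (stabilizer G a)
  rw [D.card_stab, D.act.card] at h1
  have hq := D.q_pos
  have : 0 < q ^ 2 * (q - 1) := by
    have h8 := D.act.q_ge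
    have h1 : 0 < q - 1 := by omega
    positivity
  exact Nat.eq_of_mul_eq_mul_left this h1

theorem Rnu_one_apply (ν : T →* ℂˣ) : D.Rnu ν 1 = ((q ^ 2 + 1 : ℕ) : ℂ) := by
  unfold Rnu
  rw [indFun_apply_one, D.index_stab, lam_apply, map_one, map_one]
  simp

/-- the principal series vanishes on the fixed point free elements -/
theorem Rnu_apply_fpf (ν : T →* ℂˣ) {x : G} (hx : ∀ c : Ω, x • c ≠ c) : D.Rnu ν x = 0 := by
  apply Cfsg.Agent.Helper6.SepCls.indFun_eq_zero_of_not_conj
  intro y hy
  rw [mem_stabilizer_iff, mul_smul, mul_smul, inv_smul_eq_iff] at hy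
  exact hx _ hy

theorem classInner_Rnu_one : Cfsg.classInner (D.Rnu 1) (fun _ : G => (1 : ℂ)) = 1 := by
  classical
  let _ : Fintype (stabilizer G a) := Fintype.ofFinite _
  unfold Rnu
  rw [frobenius_reciprocity _ _ _ (fun _ _ => rfl)]
  have h1 : D.lam 1 = fun _ => (1 : ℂ) := by
    ext x
    rw [lam_apply]
    simp
  rw [h1]
  exact classInner_irr_self isIrrCharacter_one

/-- the Steinberg character -/
noncomputable def St : G → ℂ := D.Rnu 1 - fun _ => (1 : ℂ)

theorem isCharacter_St : Cfsg.IsCharacter G D.St := by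
  apply sub_isCharacter_of_constituent (D.isCharacter_Rnu 1) isIrrCharacter_one
  rw [D.classInner_Rnu_one]
  exact one_ne_zero

theorem isIrrCharacter_St : Cfsg.IsIrrCharacter G D.St := by
  classical
  apply isIrrCharacter_of_classInner_self D.isCharacter_St
  have h1 := D.classInner_Rnu_one
  have h2 : Cfsg.classInner (fun _ : G => (1 : ℂ)) (D.Rnu 1) = 1 := by
    rw [classInner_conj_symm, h1, map_one]
  have h3 : Cfsg.classInner (D.Rnu 1) (D.Rnu 1) = 2 := by
    rw [D.classInner_Rnu, if_pos rfl]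
    have : (1 : T →* ℂˣ) = 1⁻¹ := by
      ext t
      simp
    rw [if_pos this]
    norm_num
  have h4 : Cfsg.classInner (fun _ : G => (1 : ℂ)) (fun _ => (1 : ℂ)) = 1 :=
    classInner_irr_self isIrrCharacter_one
  unfold St
  rw [classInner_sub_left, classInner_sub_right, classInner_sub_right, h1, h2, h3, h4]
  norm_num

theorem St_one : D.St 1 = ((q ^ 2 : ℕ) : ℂ) := by
  unfold St
  rw [Pi.sub_apply, D.Rnu_one_apply]
  push_cast
  ring

theorem St_apply_fpf {x : G} (hx : ∀ c : Ω, x • c ≠ c) : D.St x = -1 := by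
  unfold St
  rw [Pi.sub_apply, D.Rnu_apply_fpf 1 hx, zero_sub]

theorem Rnu_one_eq : D.Rnu 1 = (fun _ : G => (1 : ℂ)) + D.St := by
  unfold St
  ext x
  simp

/-- an irreducible character is cuspidal when it is orthogonal to the principal series -/
def IsCusp (χ : G → ℂ) : Prop :=
  Cfsg.IsIrrCharacter G χ ∧ ∀ ν : T →* ℂˣ, Cfsg.classInner χ (D.Rnu ν) = 0

/-- the irreducible characters which are not cuspidal -/
theorem not_cusp_cases {χ : G → ℂ} (hχ : Cfsg.IsIrrCharacter G χ) (hc : ¬ D.IsCusp χ) :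
    χ = (fun _ => (1 : ℂ)) ∨ χ = D.St ∨ ∃ ν : T →* ℂˣ, ν ≠ 1 ∧ χ = D.Rnu ν := by
  classical
  unfold IsCusp at hc
  push Not at hc
  obtain ⟨ν, hν⟩ := hc hχ
  by_cases h1 : ν = 1
  · subst h1
    rw [D.Rnu_one_eq, classInner_add_right] at hν
    by_cases h2 : χ = fun _ => (1 : ℂ)
    · exact Or.inl h2
    · rw [classInner_irr_ne hχ isIrrCharacter_one h2, zero_add] at hν
      right; left
      by_contra h3
      exact hν (classInner_irr_ne hχ D.isIrrCharacter_St h3)
  · right; right
    refine ⟨ν, h1, ?_⟩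
    by_contra h3
    exact hν (classInner_irr_ne hχ (D.isIrrCharacter_Rnu h1) h3)

end Hyp

end Cfsg.Agent.Helper8.SzCh
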