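import Mathlib
import Cfsg.Agent.Helper8.SzChC

set_option autoImplicit false
set_option linter.unusedSectionVars false

/-!
Groups of Suzuki type: the restriction of a cuspidal character to the point stabilizer.
-/

namespace Cfsg.Agent.Helper8.SzCh

open MulAction Cfsg.Agent.Helper6 Cfsg.Agent.Helper8.SzPart
open scoped ComplexConjugate

universe u v w

variable {G : Type u} {Ω : Type v} {T : Type w} [Group G] [Fintype G] [MulAction G Ω] [Fintype Ω]
  [CommGroup T] [Fintype T] {q r : ℕ} {a b : Ω}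

namespace Hyp

variable (D : Hyp G Ω T q r a b)

include D

theorem free : ∀ g : stabilizer G a, g ∉ D.τ.ker → ∀ k ∈ D.τ.ker, g * k = k * g → k = 1 := by
  intro g hg k hk hgk
  by_contra hk1
  exact hg (MonoidHom.mem_ker.2 (D.hfrob k g (MonoidHom.mem_ker.1 hk) hk1 hgk))

theorem index_ker : D.τ.ker.index = q - 1 := by
  rw [Subgroup.index_ker, ← D.cardT, MonoidHom.range_eq_top.2 D.τ_surj]
  exact Nat.card_congr Subgroup.topEquiv.toEquiv

theorem card_ker : Nat.card D.τ.ker = q ^ 2 := by
  have h1 := Subgroup.card_mul_index D.τ.ker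
  rw [D.index_ker, D.card_stab] at h1
  have h8 := D.act.q_ge
  have : 0 < q - 1 := by omega
  exact Nat.eq_of_mul_eq_mul_right this h1

/-- the sum of the linear characters -/
theorem sum_lam [Fintype (T →* ℂˣ)] [DecidableEq T] (x : stabilizer G a) :
    ∑ ν : T →* ℂˣ, D.lam ν x = if D.τ x = 1 then ((q - 1 : ℕ) : ℂ) else 0 := by
  have h := sum_hom_apply (A := T) (fun s t => mul_comm s t) (D.τ x)
  simp only [lam_apply]
  rw [h, D.cardT]

theorem card_filter_ker [Fintype (stabilizer G a)] [DecidableEq T] :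
    (Finset.univ.filter (fun x : stabilizer G a => D.τ x = 1)).card = q ^ 2 := by
  rw [← D.card_ker, Nat.card_eq_fintype_card, ← Fintype.card_subtype]
  apply Fintype.card_congr
  exact Equiv.subtypeEquivRight (fun x => (MonoidHom.mem_ker).symm)

/-- the inner product with the sum of the linear characters -/
theorem sum_classInner_lam [Fintype (stabilizer G a)] [Fintype (T →* ℂˣ)] [DecidableEq T]
    (ψ : stabilizer G a → ℂ) :
    ∑ ν : T →* ℂˣ, Cfsg.classInner ψ (D.lam ν) =
      ((q ^ 2 : ℕ) : ℂ)⁻¹ * ∑ x : stabilizer G a, if D.τ x = 1 then ψ x else 0 := by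
  rw [← classInner_sum_right, classInner_def, D.card_stab]
  have h1 : ∀ x : stabilizer G a, ψ x * conj ((∑ ν : T →* ℂˣ, D.lam ν) x) =
      ((q - 1 : ℕ) : ℂ) * if D.τ x = 1 then ψ x else 0 := by
    intro x
    rw [Finset.sum_apply, D.sum_lam]
    split_ifs
    · rw [Complex.conj_natCast, mul_comm]
    · rw [map_zero, mul_zero, mul_zero]
  rw [Finset.sum_congr rfl (fun x _ => h1 x), ← Finset.mul_sum]
  have hq := D.q_pos
  have hq0 : (q : ℂ) ≠ 0 := by exact_mod_cast hq.ne'
  have hq1 := D.q_sub_one_ne_zero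
  push_cast
  field_simp

/-- an irreducible character of the point stabilizer which is trivial on the kernel of `τ` is one
of the linear characters -/
theorem irr_const_eq_lam [Fintype (stabilizer G a)] {ψ : stabilizer G a → ℂ}
    (hψ : Cfsg.IsIrrCharacter (stabilizer G a) ψ) (hconst : ∀ k ∈ D.τ.ker, ψ k = ψ 1) :
    ∃ ν : T →* ℂˣ, ψ = D.lam ν := by
  classical
  have : Finite (T →* ℂˣ) := finite_hom_units
  let _ : Fintype (T →* ℂˣ) := Fintype.ofFinite _
  by_contra hcon
  push Not at hcon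
  have h0 : ∑ ν : T →* ℂˣ, Cfsg.classInner ψ (D.lam ν) = 0 :=
    Finset.sum_eq_zero (fun ν _ => classInner_irr_ne hψ (D.isIrrCharacter_lam ν) (hcon ν))
  rw [D.sum_classInner_lam] at h0
  have h1 : ∑ x : stabilizer G a, (if D.τ x = 1 then ψ x else 0) = ((q ^ 2 : ℕ) : ℂ) * ψ 1 := by
    have h2 : ∀ x : stabilizer G a, (if D.τ x = 1 then ψ x else 0) =
        if D.τ x = 1 then ψ 1 else 0 := by
      intro x
      split_ifs with hx
      · exact hconst x (MonoidHom.mem_ker.2 hx)
      · rfl
    rw [Finset.sum_congr rfl (fun x _ => h2 x), ← Finset.sum_filter, Finset.sum_const,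
      D.card_filter_ker, nsmul_eq_mul]
  rw [h1] at h0
  have hq := D.q_pos
  have hq0 : ((q ^ 2 : ℕ) : ℂ) ≠ 0 := by
    have : q ^ 2 ≠ 0 := by positivity
    exact_mod_cast this
  rw [inv_mul_cancel_left₀ hq0] at h0
  obtain ⟨n, hn, hn1⟩ := IsIrrCharacter.apply_one_pos hψ
  rw [hn1] at h0
  have : n = 0 := by exact_mod_cast h0
  omega

/-- a cuspidal character is orthogonal, on the point stabilizer, to the linear characters -/
theorem cusp_inner_lam [Fintype (stabilizer G a)] {χ : G → ℂ} (hχ : D.IsCusp χ) (ν : T →* ℂˣ) :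
    Cfsg.classInner (fun x : stabilizer G a => χ x) (D.lam ν) = 0 := by
  have h1 := hχ.2 ν
  unfold Rnu at h1
  rw [classInner_conj_symm, frobenius_reciprocity _ _ _
    (IsCharacter.isClassFunction (IsIrrCharacter.isCharacter hχ.1))] at h1
  rw [classInner_conj_symm]
  have := congrArg conj h1
  simpa using this

/-- the sum of a cuspidal character over the kernel of `τ` vanishes -/
theorem cusp_sum_ker [Fintype (stabilizer G a)] [DecidableEq T] {χ : G → ℂ} (hχ : D.IsCusp χ) :
    ∑ x : stabilizer G a, (if D.τ x = 1 then χ x else 0) = 0 := by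
  classical
  have : Finite (T →* ℂˣ) := finite_hom_units
  let _ : Fintype (T →* ℂˣ) := Fintype.ofFinite _
  have h0 : ∑ ν : T →* ℂˣ, Cfsg.classInner (fun x : stabilizer G a => χ x) (D.lam ν) = 0 :=
    Finset.sum_eq_zero (fun ν _ => D.cusp_inner_lam hχ ν)
  rw [D.sum_classInner_lam] at h0
  have hq := D.q_pos
  have hq0 : ((q ^ 2 : ℕ) : ℂ) ≠ 0 := by
    have : q ^ 2 ≠ 0 := by positivity
    exact_mod_cast this
  rcases mul_eq_zero.1 h0 with h | h
  · exact absurd h (inv_ne_zero hq0)
  · convert h using 2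

/-- the irreducible constituents of the restriction of a cuspidal character are induced from the
kernel of `τ` -/
theorem cusp_constituent [Fintype (stabilizer G a)] {χ : G → ℂ} (hχ : D.IsCusp χ)
    {ψ : stabilizer G a → ℂ} (hψ : Cfsg.IsIrrCharacter (stabilizer G a) ψ)
    (hne : Cfsg.classInner (fun x : stabilizer G a => χ x) ψ ≠ 0) :
    (∀ x : stabilizer G a, D.τ x ≠ 1 → ψ x = 0) ∧ ∃ k : ℕ, ψ 1 = ((q - 1 : ℕ) : ℂ) * k := by
  classical
  have hrel : ∃ k ∈ D.τ.ker, ψ k ≠ ψ 1 := by
    by_contra hcon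
    push Not at hcon
    obtain ⟨ν, rfl⟩ := D.irr_const_eq_lam hψ hcon
    exact hne (D.cusp_inner_lam hχ ν)
  obtain ⟨φ, hφ, -, rfl⟩ := irr_eq_ind_of_free D.τ.ker D.free ψ hψ hrel
  constructor
  · intro x hx
    exact indFun_normal_apply_off _ _ _ (fun h => hx (MonoidHom.mem_ker.1 h))
  · obtain ⟨n, -, hn⟩ := IsIrrCharacter.apply_one_pos hφ
    refine ⟨n, ?_⟩
    rw [indFun_apply_one, D.index_ker, hn]

/-- a cuspidal character vanishes on the elements of the point stabilizer outside the kernel of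
`τ` -/
theorem cusp_vanish {χ : G → ℂ} (hχ : D.IsCusp χ) (x : stabilizer G a) (hx : D.τ x ≠ 1) :
    χ x = 0 := by
  classical
  let _ : Fintype (stabilizer G a) := Fintype.ofFinite _
  have : Finite (Cfsg.IrrCharacter (stabilizer G a)) := irr_finite
  let _ : Fintype (Cfsg.IrrCharacter (stabilizer G a)) := Fintype.ofFinite _
  have hres : Cfsg.IsCharacter (stabilizer G a) (fun x : stabilizer G a => χ x) :=
    IsCharacter.restrict _ (IsIrrCharacter.isCharacter hχ.1)
  have hexp := classFunction_expansion _ (IsCharacter.isClassFunction hres)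
  have h1 := congrFun hexp x
  simp only [Finset.sum_apply, Pi.smul_apply, smul_eq_mul] at h1
  rw [h1]
  apply Finset.sum_eq_zero
  intro ψ _
  by_cases hne : Cfsg.classInner (fun x : stabilizer G a => χ x) (ψ : stabilizer G a → ℂ) = 0
  · rw [hne, zero_mul]
  · rw [(D.cusp_constituent hχ ψ.2 hne).1 x hx, mul_zero]

/-- the degree of a cuspidal character is divisible by `q - 1` -/
theorem cusp_degree {χ : G → ℂ} (hχ : D.IsCusp χ) : ∃ k : ℕ, χ 1 = (((q - 1) * k : ℕ) : ℂ) := by
  classical
  let _ : Fintype (stabilizer G a) := Fintype.ofFinite _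
  have : Finite (Cfsg.IrrCharacter (stabilizer G a)) := irr_finite
  let _ : Fintype (Cfsg.IrrCharacter (stabilizer G a)) := Fintype.ofFinite _
  have hres : Cfsg.IsCharacter (stabilizer G a) (fun x : stabilizer G a => χ x) :=
    IsCharacter.restrict _ (IsIrrCharacter.isCharacter hχ.1)
  have hexp := classFunction_expansion _ (IsCharacter.isClassFunction hres)
  have h1 := congrFun hexp 1
  simp only [Finset.sum_apply, Pi.smul_apply, smul_eq_mul] at h1
  have hterm : ∀ ψ : Cfsg.IrrCharacter (stabilizer G a), ∃ k : ℕ,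
      Cfsg.classInner (fun x : stabilizer G a => χ x) (ψ : stabilizer G a → ℂ) *
        (ψ : stabilizer G a → ℂ) 1 = (((q - 1) * k : ℕ) : ℂ) := by
    intro ψ
    by_cases hne : Cfsg.classInner (fun x : stabilizer G a => χ x) (ψ : stabilizer G a → ℂ) = 0
    · exact ⟨0, by rw [hne, zero_mul]; simp⟩
    · obtain ⟨n, hn⟩ := classInner_char_char_nat hres (IsIrrCharacter.isCharacter ψ.2)
      obtain ⟨k, hk⟩ := (D.cusp_constituent hχ ψ.2 hne).2
      refine ⟨n * k, ?_⟩
      rw [hn, hk]
      push_cast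
      ring
  choose kf hkf using hterm
  refine ⟨∑ ψ, kf ψ, ?_⟩
  have h2 : χ ((1 : stabilizer G a) : G) = χ 1 := rfl
  rw [← h2, h1, Finset.sum_congr rfl (fun ψ _ => hkf ψ)]
  push_cast
  rw [Finset.mul_sum]

end Hyp

end Cfsg.Agent.Helper8.SzCh
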