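import Mathlib
import Cfsg.Agent.Helper8.SzChA
import Cfsg.Agent.Helper8.SzChD
import Cfsg.Agent.Helper8.SzPartD
import Cfsg.Agent.Helper8.SzPartK
import Cfsg.Agent.Helper6.PermChar

set_option autoImplicit false
set_option linter.unusedSectionVars false

/-!
Groups of Suzuki type: the degree of a cuspidal character in terms of its values on the two
classes of cyclic Hall subgroups.
-/

namespace Cfsg.Agent.Helper8.SzCh

open MulAction Cfsg.Agent.Helper6 Cfsg.Agent.Helper8.SzPart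
open scoped ComplexConjugate

universe u v w

variable {G : Type u} {Ω : Type v} {T : Type w} [Group G] [Fintype G] [MulAction G Ω] [Fintype Ω]
  [CommGroup T] [Fintype T] {q r : ℕ} {a b : Ω}

namespace Hyp

variable (D : Hyp G Ω T q r a b)

include D

theorem Rnu_one_eq_fix : D.Rnu 1 = fun g : G => (Nat.card (fixedBy Ω g) : ℂ) := by
  have := D.act.two
  have : IsPretransitive G Ω := MulAction.isPretransitive_of_is_two_pretransitive
  rw [permChar_eq_indFun Ω a]
  unfold Rnu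
  congr 1

theorem cusp_ne_one {χ : G → ℂ} (hχ : D.IsCusp χ) : χ ≠ fun _ => (1 : ℂ) := by
  rintro rfl
  have h1 := hχ.2 1
  rw [classInner_conj_symm, D.classInner_Rnu_one] at h1
  simp at h1

theorem cusp_sum {χ : G → ℂ} (hχ : D.IsCusp χ) : ∑ g : G, χ g = 0 := by
  have h1 := classInner_irr_ne hχ.1 isIrrCharacter_one (D.cusp_ne_one hχ)
  rw [classInner_def] at h1
  have hG : (Nat.card G : ℂ)⁻¹ ≠ 0 := by
    apply inv_ne_zero
    have : 0 < Nat.card G := Nat.card_pos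
    exact_mod_cast this.ne'
  rcases mul_eq_zero.1 h1 with h | h
  · exact absurd h hG
  · simpa using h

theorem cusp_sum_fix {χ : G → ℂ} (hχ : D.IsCusp χ) :
    ∑ g : G, χ g * (Nat.card (fixedBy Ω g) : ℂ) = 0 := by
  have h1 := hχ.2 1
  rw [D.Rnu_one_eq_fix, classInner_def] at h1
  have hG : (Nat.card G : ℂ)⁻¹ ≠ 0 := by
    apply inv_ne_zero
    have : 0 < Nat.card G := Nat.card_pos
    exact_mod_cast this.ne'
  rcases mul_eq_zero.1 h1 with h | h
  · exact absurd h hG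
  · simpa using h

/-- at an element with a fixed point, either a cuspidal character vanishes or the fixed point is
unique -/
theorem cusp_fix_mul {χ : G → ℂ} (hχ : D.IsCusp χ) {g : G} (hg : g ≠ 1) {c : Ω} (hc : g • c = c) :
    χ g * (Nat.card (fixedBy Ω g) : ℂ) = χ g := by
  have := D.act.two
  have : IsPretransitive G Ω := MulAction.isPretransitive_of_is_two_pretransitive
  obtain ⟨y, hy⟩ := MulAction.exists_smul_eq G a c
  have hmem : y⁻¹ * g * y ∈ stabilizer G a := by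
    rw [mem_stabilizer_iff, mul_smul, mul_smul, hy, hc, ← hy, inv_smul_smul]
  have hcl : χ (y⁻¹ * g * y) = χ g := by
    have := IsCharacter.isClassFunction (IsIrrCharacter.isCharacter hχ.1) g y⁻¹
    rwa [inv_inv] at this
  by_cases hτ : D.τ ⟨y⁻¹ * g * y, hmem⟩ = 1
  · have hne : (⟨y⁻¹ * g * y, hmem⟩ : stabilizer G a) ≠ 1 := by
      intro e
      apply hg
      have e' : y⁻¹ * g * y = 1 := congrArg Subtype.val e
      have : g = y * (y⁻¹ * g * y) * y⁻¹ := by group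
      rw [this, e']; group
    have hfix : fixedBy Ω g = {c} := by
      ext c'
      rw [mem_fixedBy, Set.mem_singleton_iff]
      constructor
      · intro hc'
        have h1 : (y⁻¹ * g * y) • (y⁻¹ • c') = y⁻¹ • c' := by
          rw [mul_smul, mul_smul, smul_inv_smul, hc']
        have := D.hfix _ hτ hne _ h1
        rw [inv_smul_eq_iff, hy] at this
        exact this
      · rintro rfl
        exact hc
    rw [hfix]
    simp
  · have := D.cusp_vanish hχ ⟨y⁻¹ * g * y, hmem⟩ hτ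
    rw [← hcl]
    show χ (y⁻¹ * g * y) * _ = χ (y⁻¹ * g * y)
    have h0 : χ (y⁻¹ * g * y) = 0 := this
    rw [h0, zero_mul]

/-- the sum of a cuspidal character over the fixed point free elements -/
theorem cusp_sum_fpf {χ : G → ℂ} (hχ : D.IsCusp χ) :
    ∑ g : G, Set.indicator {g : G | ∀ c : Ω, g • c ≠ c} χ g = ((q ^ 2 : ℕ) : ℂ) * χ 1 := by
  classical
  have h1 := D.cusp_sum hχ
  have h2 := D.cusp_sum_fix hχ
  have hterm : ∀ g : G, χ g * (Nat.card (fixedBy Ω g) : ℂ) - χ g =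
      (if g = 1 then ((q ^ 2 : ℕ) : ℂ) * χ 1 else 0) -
        Set.indicator {g : G | ∀ c : Ω, g • c ≠ c} χ g := by
    intro g
    by_cases hg : g = 1
    · subst hg
      rw [if_pos rfl, Set.indicator_of_notMem, sub_zero]
      · have : fixedBy Ω (1 : G) = Set.univ := by
          ext c
          simp
        rw [this, Nat.card_coe_set_eq, Set.ncard_univ, D.act.cardΩ]
        push_cast
        ring
      · intro h
        exact h a (one_smul _ _)
    · rw [if_neg hg, zero_sub]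
      by_cases hf : ∀ c : Ω, g • c ≠ c
      · rw [Set.indicator_of_mem (show g ∈ {g : G | ∀ c : Ω, g • c ≠ c} from hf)]
        have : fixedBy Ω g = ∅ := by
          ext c
          simp only [mem_fixedBy, Set.mem_empty_iff_false, iff_false]
          exact hf c
        rw [this]
        simp
      · rw [Set.indicator_of_notMem (show g ∉ {g : G | ∀ c : Ω, g • c ≠ c} from hf), neg_zero]
        push Not at hf
        obtain ⟨c, hc⟩ := hf
        rw [D.cusp_fix_mul hχ hg hc, sub_self]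
  have h3 : ∑ g : G, (χ g * (Nat.card (fixedBy Ω g) : ℂ) - χ g) = 0 := by
    rw [Finset.sum_sub_distrib, h1, h2, sub_zero]
  rw [Finset.sum_congr rfl (fun g _ => hterm g), Finset.sum_sub_distrib,
    Finset.sum_ite_eq' Finset.univ (1 : G), if_pos (Finset.mem_univ _)] at h3
  exact (sub_eq_zero.1 h3).symm

theorem fpf_iff (g : G) : (∀ c : Ω, g • c ≠ c) ↔ g ∈ XX G q := by
  constructor
  · intro h
    refine ⟨?_, D.act.pow_eq_one_of_fpf h⟩
    rintro rfl
    exact h a (one_smul _ _)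
  · rintro ⟨h1, h2⟩
    exact D.act.fpf_of_pow h1 h2

/-- the fixed point free elements are the conjugates of the elements of two cyclic subgroups -/
theorem mem_XX_iff {x₁ x₂ : G} (hx₁ : x₁ ∈ XX G q) (hx₂ : x₂ ∈ XX G q)
    (h₁ : Nat.card (Cz x₁) = q + 2 * r + 1) (h₂ : Nat.card (Cz x₂) = q - 2 * r + 1) (y : G) :
    y ∈ XX G q ↔ (y ∈ conjSet (Cz x₁) ∨ y ∈ conjSet (Cz x₂)) := by
  constructor
  · intro hy
    have key : ∀ x : G, x ∈ XX G q → Nat.card (Cz y) = Nat.card (Cz x) → y ∈ conjSet (Cz x) := by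
      intro x hx he
      have h5 := D.ctx.five_le_card hx
      obtain ⟨p, hp, hpd⟩ := Nat.exists_prime_and_dvd (show Nat.card (Cz x) ≠ 1 by omega)
      obtain ⟨g, hg⟩ := D.ctx.exists_conj hx hy hp hpd (he ▸ hpd)
      exact ⟨hy.1, g, (hg y).1 (self_mem_Cz y)⟩
    rcases D.ctx.card_Cz hy with e | e
    · exact Or.inl (key x₁ hx₁ (e.trans h₁.symm))
    · exact Or.inr (key x₂ hx₂ (e.trans h₂.symm))
  · rintro (h | h)
    · exact D.ctx.conjSet_subset hx₁ h
    · exact D.ctx.conjSet_subset hx₂ h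

theorem conjSet_disjoint {x₁ x₂ : G}
    (h₁ : Nat.card (Cz x₁) = q + 2 * r + 1) (h₂ : Nat.card (Cz x₂) = q - 2 * r + 1) :
    Disjoint (conjSet (Cz x₁)) (conjSet (Cz x₂)) := by
  apply Ctx.disjoint_of_coprime
  rw [h₁, h₂]
  exact num_coprime D.act.hqr

/-- the sum of a function over the nonidentity elements of the centralizer of `x` -/
noncomputable def torSum (x : G) (χ : G → ℂ) : ℂ :=
  ∑ u : G, Set.indicator {u : G | u ∈ Cz x ∧ u ≠ 1} χ u

omit D in
theorem torSum_def (x : G) (χ : G → ℂ) :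
    torSum x χ = ∑ u : G, Set.indicator {u : G | u ∈ Cz x ∧ u ≠ 1} χ u := rfl

/-- the degree of a cuspidal character -/
theorem cusp_degree_formula {χ : G → ℂ} (hχ : D.IsCusp χ) {x₁ x₂ : G} (hx₁ : x₁ ∈ XX G q)
    (hx₂ : x₂ ∈ XX G q) (h₁ : Nat.card (Cz x₁) = q + 2 * r + 1)
    (h₂ : Nat.card (Cz x₂) = q - 2 * r + 1) :
    4 * χ 1 = ((q - 1 : ℕ) : ℂ) *
      (((q - 2 * r + 1 : ℕ) : ℂ) * torSum x₁ χ + ((q + 2 * r + 1 : ℕ) : ℂ) * torSum x₂ χ) := by
  classical
  have hcf := IsCharacter.isClassFunction (IsIrrCharacter.isCharacter hχ.1)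
  have hs1 := sum_conjSet (Cz x₁) (fun g u hu hu1 hgu => D.ctx.ti hx₁ g u hu hu1 hgu) χ hcf
  have hs2 := sum_conjSet (Cz x₂) (fun g u hu hu1 hgu => D.ctx.ti hx₂ g u hu hu1 hgu) χ hcf
  rw [D.ctx.card_normalizer hx₁, h₁, D.act.card, ← torSum_def] at hs1
  rw [D.ctx.card_normalizer hx₂, h₂, D.act.card, ← torSum_def] at hs2
  have hfpf := D.cusp_sum_fpf hχ
  have hsplit : ∀ g : G, Set.indicator {g : G | ∀ c : Ω, g • c ≠ c} χ g =
      Set.indicator (conjSet (Cz x₁)) χ g + Set.indicator (conjSet (Cz x₂)) χ g := by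
    intro g
    have hdis := Set.disjoint_left.1 (D.conjSet_disjoint h₁ h₂)
    by_cases hg : ∀ c : Ω, g • c ≠ c
    · rw [Set.indicator_of_mem (show g ∈ {g : G | ∀ c : Ω, g • c ≠ c} from hg)]
      rcases (D.mem_XX_iff hx₁ hx₂ h₁ h₂ g).1 ((D.fpf_iff g).1 hg) with h | h
      · rw [Set.indicator_of_mem h, Set.indicator_of_notMem (hdis h), add_zero]
      · rw [Set.indicator_of_mem h, Set.indicator_of_notMem (fun h' => hdis h' h), zero_add]
    · rw [Set.indicator_of_notMem (show g ∉ {g : G | ∀ c : Ω, g • c ≠ c} from hg)]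
      have hn : g ∉ XX G q := fun h => hg ((D.fpf_iff g).2 h)
      rw [D.mem_XX_iff hx₁ hx₂ h₁ h₂ g] at hn
      push Not at hn
      rw [Set.indicator_of_notMem hn.1, Set.indicator_of_notMem hn.2, add_zero]
  rw [Finset.sum_congr rfl (fun g _ => hsplit g), Finset.sum_add_distrib] at hfpf
  have hprod := num_prod D.act.hqr
  have h8 := D.act.q_ge
  have hq0 : (q : ℂ) ≠ 0 := by
    have : q ≠ 0 := by omega
    exact_mod_cast this
  have hn1 : ((q + 2 * r + 1 : ℕ) : ℂ) ≠ 0 := by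
    have : q + 2 * r + 1 ≠ 0 := by omega
    exact_mod_cast this
  have hn2 : ((q - 2 * r + 1 : ℕ) : ℂ) ≠ 0 := by
    have : q - 2 * r + 1 ≠ 0 := by omega
    exact_mod_cast this
  have hprodC : ((q + 2 * r + 1 : ℕ) : ℂ) * ((q - 2 * r + 1 : ℕ) : ℂ) = ((q ^ 2 + 1 : ℕ) : ℂ) := by
    rw [← Nat.cast_mul, hprod]
  have e1 : ((4 * (q + 2 * r + 1) : ℕ) : ℂ) = 4 * ((q + 2 * r + 1 : ℕ) : ℂ) := by
    rw [Nat.cast_mul]; norm_num
  have e2 : ((4 * (q - 2 * r + 1) : ℕ) : ℂ) = 4 * ((q - 2 * r + 1 : ℕ) : ℂ) := by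
    rw [Nat.cast_mul]; norm_num
  have e3 : ((q ^ 2 * (q - 1) * (q ^ 2 + 1) : ℕ) : ℂ) =
      (q : ℂ) ^ 2 * ((q - 1 : ℕ) : ℂ) *
        (((q + 2 * r + 1 : ℕ) : ℂ) * ((q - 2 * r + 1 : ℕ) : ℂ)) := by
    rw [hprodC, Nat.cast_mul, Nat.cast_mul, Nat.cast_pow]
  set n₁ : ℂ := ((q + 2 * r + 1 : ℕ) : ℂ) with hn₁def
  set n₂ : ℂ := ((q - 2 * r + 1 : ℕ) : ℂ) with hn₂def
  set Sg1 := ∑ g : G, Set.indicator (conjSet (Cz x₁)) χ g
  set Sg2 := ∑ g : G, Set.indicator (conjSet (Cz x₂)) χ g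
  rw [e1, e3] at hs1
  rw [e2, e3] at hs2
  have e4 : ((q ^ 2 : ℕ) : ℂ) = (q : ℂ) ^ 2 := by push_cast; ring
  rw [e4] at hfpf
  have hq2 : (q : ℂ) ^ 2 ≠ 0 := pow_ne_zero _ hq0
  have key : (q : ℂ) ^ 2 * n₁ * n₂ * (4 * χ 1) = (q : ℂ) ^ 2 * n₁ * n₂ *
      (((q - 1 : ℕ) : ℂ) * (n₂ * torSum x₁ χ + n₁ * torSum x₂ χ)) := by
    have : (q : ℂ) ^ 2 * χ 1 = Sg1 + Sg2 := hfpf.symm
    linear_combination (4 * n₁ * n₂) * this + n₂ * hs1 + n₁ * hs2
  exact mul_left_cancel₀ (mul_ne_zero (mul_ne_zero hq2 hn1) hn2) key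

end Hyp

end Cfsg.Agent.Helper8.SzCh
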