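import Mathlib
import Cfsg.Agent.Helper8.SzChF
import Cfsg.Agent.Helper8.SzPartB

set_option autoImplicit false
set_option linter.style.haveILetI false

/-!
Abelian T.I. subgroups with Frobenius normalizer: sums of character values over the nonidentity
elements, and criteria for being exceptional.
-/

namespace Cfsg.Agent.Helper8.SzCh

open Cfsg.Agent.Helper6 Cfsg.Agent.Helper2.BrTI Cfsg.Agent.Helper8.SzPart
open scoped ComplexConjugate

universe u

variable {G : Type u} [Group G] {K : Subgroup G}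

local notation "NK" => Subgroup.normalizer (K : Set G)

variable [Fintype G]

open Classical in
/-- a sum over the nonidentity elements of `K`, as a sum over the normalizer -/
theorem sum_indicator_eq [Fintype ↥NK] (F : G → ℂ) :
    ∑ u : G, Set.indicator {u : G | u ∈ K ∧ u ≠ 1} F u =
      ∑ k : ↥NK, if (k : G) ∈ K ∧ k ≠ 1 then F k else 0 := by
  classical
  have h1 : ∑ u : G, Set.indicator {u : G | u ∈ K ∧ u ≠ 1} F u =
      ∑ u ∈ Finset.univ.filter (fun u : G => u ∈ NK),
        Set.indicator {u : G | u ∈ K ∧ u ≠ 1} F u := by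
    symm
    apply Finset.sum_subset (Finset.filter_subset _ _)
    intro u _ hu
    rw [Finset.mem_filter] at hu
    apply Set.indicator_of_notMem
    rintro ⟨hk, -⟩
    exact hu ⟨Finset.mem_univ _, Subgroup.le_normalizer hk⟩
  rw [h1, Finset.sum_subtype (Finset.univ.filter (fun u : G => u ∈ NK)) (p := fun u : G => u ∈ NK)
    (fun u => by simp)]
  apply Finset.sum_congr rfl
  intro k _
  by_cases hk : (k : G) ∈ K ∧ k ≠ 1
  · rw [if_pos hk, Set.indicator_of_mem]
    exact ⟨hk.1, fun h => hk.2 (Subtype.ext h)⟩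
  · rw [if_neg hk, Set.indicator_of_notMem]
    rintro ⟨h1, h2⟩
    exact hk ⟨h1, fun h => h2 (by rw [h]; rfl)⟩

namespace DataX

variable (D : Data K)

include D

open Classical in
/-- the sum of a relevant character over the nonidentity elements of `K` -/
theorem rel_sum [Fintype ↥NK] (η : Rel K) :
    ∑ k : ↥NK, (if (k : G) ∈ K ∧ k ≠ 1 then (η.1 : ↥NK → ℂ) k else 0) =
      -((K.subgroupOf NK).index : ℂ) := by
  classical
  obtain ⟨hoff, hdeg⟩ := rel_data K D.hC D.hab _ η.1.2 η.2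
  have hne : (η.1 : ↥NK → ℂ) ≠ fun _ => 1 := by
    intro h
    obtain ⟨k, -, hk⟩ := η.2
    apply hk
    rw [h]
  have h0 := classInner_irr_ne η.1.2 isIrrCharacter_one hne
  rw [classInner_def] at h0
  have hN : (Nat.card ↥NK : ℂ)⁻¹ ≠ 0 := by
    apply inv_ne_zero
    have : 0 < Nat.card ↥NK := Nat.card_pos
    exact_mod_cast this.ne'
  have hsum : ∑ k : ↥NK, (η.1 : ↥NK → ℂ) k = 0 := by
    rcases mul_eq_zero.1 h0 with h | h
    · exact absurd h hN
    · simpa using h
  have hterm : ∀ k : ↥NK, (η.1 : ↥NK → ℂ) k =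
      (if (k : G) ∈ K ∧ k ≠ 1 then (η.1 : ↥NK → ℂ) k else 0) +
        if k = 1 then ((K.subgroupOf NK).index : ℂ) else 0 := by
    intro k
    by_cases hk1 : k = 1
    · subst hk1
      rw [if_neg (fun h => h.2 rfl), if_pos rfl, zero_add, hdeg]
    · rw [if_neg hk1, add_zero]
      by_cases hkK : (k : G) ∈ K
      · rw [if_pos ⟨hkK, hk1⟩]
      · rw [if_neg (fun h => hkK h.1), hoff k hkK]
  rw [Finset.sum_congr rfl (fun k _ => hterm k), Finset.sum_add_distrib,
    Finset.sum_ite_eq' Finset.univ (1 : ↥NK), if_pos (Finset.mem_univ _)] at hsum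
  linear_combination hsum

/-- the differences of exceptional characters vanish off the conjugates of `K` -/
theorem exc_same_off (η η' : Rel K) {g : G} (hg : g ∉ conjSet K) :
    (D.f η : G → ℂ) g = (D.f η' : G → ℂ) g := by
  classical
  have h1 := congrFun (D.hind η η') g
  have h2 : Cfsg.indFun NK ((η.1 : ↥NK → ℂ) - (η'.1 : ↥NK → ℂ)) g = 0 := by
    rw [indFun_apply]
    have hz : ∀ y : G, Cfsg.extendByZero NK ((η.1 : ↥NK → ℂ) - (η'.1 : ↥NK → ℂ))
        (y⁻¹ * g * y) = 0 := by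
      intro y
      by_cases hy : y⁻¹ * g * y ∈ NK
      · rw [extendByZero_mem _ _ hy, Pi.sub_apply]
        obtain ⟨hoff, hdeg⟩ := rel_data K D.hC D.hab _ η.1.2 η.2
        obtain ⟨hoff', hdeg'⟩ := rel_data K D.hC D.hab _ η'.1.2 η'.2
        by_cases hK : y⁻¹ * g * y ∈ K
        · have hg1 : g = 1 := by
            by_contra hne
            exact hg ⟨hne, y, hK⟩
          have e1 : (⟨y⁻¹ * g * y, hy⟩ : ↥NK) = 1 := by
            apply Subtype.ext
            show y⁻¹ * g * y = 1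
            rw [hg1]; group
          rw [e1, hdeg, hdeg', sub_self]
        · rw [hoff _ hK, hoff' _ hK, sub_self]
      · exact extendByZero_not_mem _ _ hy
    simp [hz]
  rw [h2] at h1
  simp only [Pi.smul_apply, Pi.sub_apply, smul_eq_mul] at h1
  have hε : D.ε ≠ 0 := by
    rcases D.hε with h | h <;> rw [h] <;> norm_num
  have := (mul_eq_zero.1 h1.symm).resolve_left hε
  exact sub_eq_zero.1 this

/-- distinct exceptional characters differ somewhere on `K` -/
theorem exc_dist [Fintype ↥NK] {η η' : Rel K} (hne : η ≠ η') :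
    ∃ k : ↥NK, (k : G) ∈ K ∧ k ≠ 1 ∧ (D.f η : G → ℂ) k ≠ (D.f η' : G → ℂ) k := by
  classical
  by_contra hcon
  push Not at hcon
  apply hne
  apply Subtype.ext
  apply Subtype.ext
  ext k
  obtain ⟨hoff, hdeg⟩ := rel_data K D.hC D.hab _ η.1.2 η.2
  obtain ⟨hoff', hdeg'⟩ := rel_data K D.hC D.hab _ η'.1.2 η'.2
  by_cases hk1 : k = 1
  · rw [hk1, hdeg, hdeg']
  by_cases hkK : (k : G) ∈ K
  · have h1 := D.diff_apply η η' k
    rw [hcon k hkK hk1, sub_self] at h1
    have hε : D.ε ≠ 0 := by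
      rcases D.hε with h | h <;> rw [h] <;> norm_num
    have := (mul_eq_zero.1 h1.symm).resolve_left hε
    exact sub_eq_zero.1 this
  · rw [hoff k hkK, hoff' k hkK]

/-- an irreducible character which is constant on the nonidentity elements of `K` is not
exceptional -/
theorem const_not_exc [Fintype ↥NK] (η₀ η₁ : Rel K) (hη01 : η₀ ≠ η₁) (χ : Cfsg.IrrCharacter G)
    (c : ℂ) (hc : ∀ k : ↥NK, (k : G) ∈ K → k ≠ 1 → (χ : G → ℂ) k = c) (η : Rel K) :
    D.f η ≠ χ := by
  classical
  intro hη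
  -- a second relevant character
  obtain ⟨η', hη'⟩ : ∃ η' : Rel K, η' ≠ η := by
    by_cases h : η = η₀
    · exact ⟨η₁, fun e => hη01 (h ▸ e).symm⟩
    · exact ⟨η₀, fun e => h e.symm⟩
  have h1 := D.hind η η'
  have h3 : Cfsg.classInner (D.f η : G → ℂ) (χ : G → ℂ) = 1 := by
    rw [hη]; exact classInner_irr_self χ.2
  have h4 : Cfsg.classInner (D.f η' : G → ℂ) (χ : G → ℂ) = 0 := by
    apply classInner_irr_ne (D.f η').2 χ.2
    intro e
    apply hη'
    apply D.hf
    rw [hη]
    exact Subtype.ext e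
  have hR : Cfsg.classInner (D.ε • ((D.f η : G → ℂ) - (D.f η' : G → ℂ))) (χ : G → ℂ) = D.ε := by
    rw [classInner_smul_left, classInner_sub_left, h3, h4, sub_zero, mul_one]
  -- the left side vanishes
  obtain ⟨hoff, hdeg⟩ := rel_data K D.hC D.hab _ η.1.2 η.2
  obtain ⟨hoff', hdeg'⟩ := rel_data K D.hC D.hab _ η'.1.2 η'.2
  have hterm : ∀ k : ↥NK, ((η.1 : ↥NK → ℂ) - (η'.1 : ↥NK → ℂ)) k * conj ((χ : G → ℂ) k) =
      conj c * ((if (k : G) ∈ K ∧ k ≠ 1 then (η.1 : ↥NK → ℂ) k else 0) -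
        (if (k : G) ∈ K ∧ k ≠ 1 then (η'.1 : ↥NK → ℂ) k else 0)) := by
    intro k
    rw [Pi.sub_apply]
    by_cases hk1 : k = 1
    · rw [hk1, hdeg, hdeg', sub_self, zero_mul, if_neg (fun h => h.2 rfl), sub_self, mul_zero]
    by_cases hkK : (k : G) ∈ K
    · rw [if_pos ⟨hkK, hk1⟩, if_pos ⟨hkK, hk1⟩, hc k hkK hk1]
      ring
    · rw [if_neg (fun h => hkK h.1), if_neg (fun h => hkK h.1), hoff k hkK, hoff' k hkK, sub_self,
        zero_mul, mul_zero]
  have hL : Cfsg.classInner (Cfsg.indFun NK ((η.1 : ↥NK → ℂ) - (η'.1 : ↥NK → ℂ)))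
      (χ : G → ℂ) = 0 := by
    rw [frobenius_reciprocity _ _ _
      (IsCharacter.isClassFunction (IsIrrCharacter.isCharacter χ.2)), classInner_def,
      Finset.sum_congr rfl (fun k _ => hterm k), ← Finset.mul_sum, Finset.sum_sub_distrib,
      rel_sum D η, rel_sum D η', sub_self, mul_zero, mul_zero]
  rw [h1, hR] at hL
  rcases D.hε with h | h <;> rw [h] at hL <;> norm_num at hL

end DataX

end Cfsg.Agent.Helper8.SzCh
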