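import Mathlib
import Cfsg.Agent.Helper8.SzChG
import Cfsg.Agent.Helper6.TIFrob3

set_option autoImplicit false
set_option linter.style.haveILetI false

/-!
Abelian T.I. subgroups with Frobenius normalizer of index four: a package of the facts on the
values of the irreducible characters.
-/

namespace Cfsg.Agent.Helper8.SzCh

open Cfsg.Agent.Helper6 Cfsg.Agent.Helper2.BrTI Cfsg.Agent.Helper8.SzPart
open scoped ComplexConjugate

universe u

variable {G : Type u} [Group G] [Fintype G]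

/-- the sum of a function over the nonidentity elements of a subgroup -/
noncomputable def subSum (K : Subgroup G) (F : G → ℂ) : ℂ :=
  ∑ u : G, Set.indicator {u : G | u ∈ K ∧ u ≠ 1} F u

theorem subSum_congr (K : Subgroup G) {F F' : G → ℂ} (h : ∀ u ∈ K, u ≠ 1 → F u = F' u) :
    subSum K F = subSum K F' := by
  unfold subSum
  apply Finset.sum_congr rfl
  intro u _
  by_cases hu : u ∈ {u : G | u ∈ K ∧ u ≠ 1}
  · rw [Set.indicator_of_mem hu, Set.indicator_of_mem hu, h u hu.1 hu.2]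
  · rw [Set.indicator_of_notMem hu, Set.indicator_of_notMem hu]

theorem subSum_const (K : Subgroup G) (c : ℂ) :
    subSum K (fun _ => c) = ((Nat.card K - 1 : ℕ) : ℂ) * c := by
  classical
  unfold subSum
  rw [← Finset.sum_filter_add_sum_filter_not Finset.univ (fun u : G => u ∈ K ∧ u ≠ 1)]
  have h1 : ∀ u ∈ Finset.univ.filter (fun u : G => u ∈ K ∧ u ≠ 1),
      Set.indicator {u : G | u ∈ K ∧ u ≠ 1} (fun _ => c) u = c := by
    intro u hu
    exact Set.indicator_of_mem (show u ∈ {u : G | u ∈ K ∧ u ≠ 1} from (Finset.mem_filter.1 hu).2)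
      (fun _ => c)
  have h2 : ∀ u ∈ Finset.univ.filter (fun u : G => ¬ (u ∈ K ∧ u ≠ 1)),
      Set.indicator {u : G | u ∈ K ∧ u ≠ 1} (fun _ => c) u = 0 := by
    intro u hu
    exact Set.indicator_of_notMem
      (show u ∉ {u : G | u ∈ K ∧ u ≠ 1} from (Finset.mem_filter.1 hu).2) (fun _ => c)
  rw [Finset.sum_congr rfl h1, Finset.sum_congr rfl h2, Finset.sum_const, Finset.sum_const_zero,
    add_zero, nsmul_eq_mul]
  congr 2
  rw [← card_ne_one K, Nat.card_eq_fintype_card, ← Fintype.card_coe]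
  apply Fintype.card_congr
  refine ⟨fun u => ⟨⟨u.1, (Finset.mem_filter.1 u.2).2.1⟩, fun h =>
    (Finset.mem_filter.1 u.2).2.2 (congrArg Subtype.val h)⟩,
    fun v => ⟨v.1.1, Finset.mem_filter.2 ⟨Finset.mem_univ _, v.1.2, fun h => v.2 (Subtype.ext h)⟩⟩,
    fun u => rfl, fun v => rfl⟩

/-- the package -/
structure TorPack [Fintype (Cfsg.IrrCharacter G)] (K : Subgroup G) (n : ℕ) where
  E : Finset (Cfsg.IrrCharacter G)
  εz : ℤ
  m : ℤ
  k : ℕ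
  c : Cfsg.IrrCharacter G → ℤ
  hε : εz = 1 ∨ εz = -1
  hn : 4 * k + 1 = n
  hcard : E.card = k
  hE : ∀ χ ∈ E, subSum K (χ : G → ℂ) = -4 * (εz : ℂ) + (m : ℂ) * ((n : ℂ) - 1)
  hnon : ∀ χ : Cfsg.IrrCharacter G, χ ∉ E → ∀ u ∈ K, u ≠ 1 → (χ : G → ℂ) u = c χ
  hcE : ∀ χ ∈ E, c χ = 0
  hconst : ∀ (χ : Cfsg.IrrCharacter G) (c' : ℂ), (∀ u ∈ K, u ≠ 1 → (χ : G → ℂ) u = c') → χ ∉ E
  hsq : ∑ χ, c χ ^ 2 = 4 + 2 * εz * m - (k : ℤ) * m ^ 2
  hlin : ∀ χ₀ ∈ E, ∑ χ, c χ * (Cfsg.charDegree (χ : G → ℂ) : ℤ) =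
    (Cfsg.charDegree (χ₀ : G → ℂ) : ℤ) * (εz - (k : ℤ) * m)
  hsame : ∀ χ ∈ E, ∀ χ' ∈ E, ∀ g : G, g ∉ conjSet K → (χ : G → ℂ) g = (χ' : G → ℂ) g
  hdist : ∀ χ ∈ E, ∀ χ' ∈ E, χ ≠ χ' → ∃ u ∈ K, u ≠ 1 ∧ (χ : G → ℂ) u ≠ (χ' : G → ℂ) u

end Cfsg.Agent.Helper8.SzCh
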