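import Mathlib
import Cfsg.Agent.Helper8.SzChH

set_option autoImplicit false
set_option linter.style.haveILetI false

/-!
The package of facts for an abelian T.I. subgroup with Frobenius normalizer of index four,
from the exceptional characters.
-/

namespace Cfsg.Agent.Helper8.SzCh

open Cfsg.Agent.Helper6 Cfsg.Agent.Helper2.BrTI Cfsg.Agent.Helper8.SzPart
open scoped ComplexConjugate

universe u

variable {G : Type u} [Group G] {K : Subgroup G}

local notation "NK" => Subgroup.normalizer (K : Set G)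

variable [Fintype G]

set_option maxHeartbeats 1600000 in
/-- the package, from the exceptional characters -/
theorem torPack_of_data (D : Data K) [Fintype (Cfsg.IrrCharacter G)] (n k : ℕ)
    (hidx : (K.subgroupOf NK).index = 4) (hn : Nat.card K = n) (hk : 4 * k + 1 = n)
    (hk2 : 2 ≤ k) : Nonempty (TorPack K n) := by
  classical
  haveI : Fintype ↥NK := Fintype.ofFinite _
  haveI : Finite (Cfsg.IrrCharacter ↥NK) := irr_finite
  haveI : Fintype (Cfsg.IrrCharacter ↥NK) := Fintype.ofFinite _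
  haveI : Fintype (Rel K) := Fintype.ofFinite _
  have hK2 : 2 ≤ Nat.card K := by omega
  obtain ⟨k₀, hk₀K, hk₀1⟩ : ∃ k₀ : ↥NK, (k₀ : G) ∈ K ∧ k₀ ≠ 1 := by
    have h1 : 1 < Nat.card (K.subgroupOf NK) := by rw [card_subgroupOf_normalizer]; omega
    haveI : Nontrivial (K.subgroupOf NK) := (Finite.one_lt_card_iff_nontrivial).mp h1
    obtain ⟨k, hk⟩ := exists_ne (1 : K.subgroupOf NK)
    exact ⟨k.1, Subgroup.mem_subgroupOf.mp k.2, fun h => hk (Subtype.ext h)⟩
  obtain ⟨-, -, hcard⟩ := nside K D.hC D.hab k₀ hk₀K hk₀1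
  rw [hidx, hn] at hcard
  have hrel : Nat.card (Rel K) = k := by omega
  obtain ⟨η₀, η₁, hη01⟩ : ∃ η₀ η₁ : Rel K, η₀ ≠ η₁ := by
    have h1 : 1 < Nat.card (Rel K) := by omega
    haveI : Nontrivial (Rel K) := (Finite.one_lt_card_iff_nontrivial).mp h1
    obtain ⟨a, b, hab⟩ := exists_pair_ne (Rel K)
    exact ⟨a, b, hab⟩
  obtain ⟨εz, m, c, hε, hεC, hexc, hnon, hcE, -, hsq, hlin, -⟩ :=
    data_values D 4 hidx hK2 η₀ η₁ hη01
  have hcount : ∑ k : ↥NK, (if (k : G) ∈ K ∧ k ≠ 1 then (1 : ℂ) else 0) = (n : ℂ) - 1 := by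
    rw [← sum_indicator_eq (K := K) (fun _ => (1 : ℂ))]
    have := subSum_const K (1 : ℂ)
    unfold subSum at this
    rw [this, hn, mul_one, Nat.cast_sub (by omega)]
    simp
  refine ⟨⟨Finset.univ.image D.f, εz, m, k, c, hε, hk, ?_, ?_, ?_, ?_, ?_, ?_, ?_, ?_, ?_⟩⟩
  · rw [Finset.card_image_of_injective _ D.hf, Finset.card_univ, ← Nat.card_eq_fintype_card, hrel]
  · intro χ hχ
    obtain ⟨η, -, rfl⟩ := Finset.mem_image.1 hχ
    unfold subSum
    rw [sum_indicator_eq]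
    have hterm : ∀ k : ↥NK, (if (k : G) ∈ K ∧ k ≠ 1 then (D.f η : G → ℂ) k else 0) =
        D.ε * (if (k : G) ∈ K ∧ k ≠ 1 then (η.1 : ↥NK → ℂ) k else 0) +
          (m : ℂ) * (if (k : G) ∈ K ∧ k ≠ 1 then (1 : ℂ) else 0) := by
      intro k
      by_cases hk : (k : G) ∈ K ∧ k ≠ 1
      · rw [if_pos hk, if_pos hk, if_pos hk, hexc η k hk.1 hk.2, mul_one]
      · rw [if_neg hk, if_neg hk, if_neg hk, mul_zero, mul_zero, add_zero]
    rw [Finset.sum_congr rfl (fun k _ => hterm k), Finset.sum_add_distrib, ← Finset.mul_sum,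
      ← Finset.mul_sum, DataX.rel_sum D η, hcount, hidx, ← hεC]
    push_cast
    ring
  · intro χ hχ u hu hu1
    have hχ' : ∀ η : Rel K, D.f η ≠ χ := by
      intro η h
      exact hχ (Finset.mem_image.2 ⟨η, Finset.mem_univ _, h⟩)
    exact hnon χ hχ' ⟨u, Subgroup.le_normalizer hu⟩ hu (fun h => hu1 (congrArg Subtype.val h))
  · intro χ hχ
    obtain ⟨η, -, rfl⟩ := Finset.mem_image.1 hχ
    exact hcE η
  · intro χ c' hc' hχ
    obtain ⟨η, -, hη⟩ := Finset.mem_image.1 hχ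
    refine DataX.const_not_exc D η₀ η₁ hη01 χ c' ?_ η hη
    intro k hk hk1
    exact hc' k hk (fun h => hk1 (Subtype.ext h))
  · rw [hsq, hrel]
    push_cast
    ring
  · intro χ₀ hχ₀
    obtain ⟨η, -, rfl⟩ := Finset.mem_image.1 hχ₀
    rw [hlin, hrel]
    congr 2
    have h1 := D.deg_eq η₀ η
    rw [← charDegree_cast_of_isCharacter (IsIrrCharacter.isCharacter (D.f η₀).2),
      ← charDegree_cast_of_isCharacter (IsIrrCharacter.isCharacter (D.f η).2)] at h1
    exact_mod_cast h1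
  · intro χ hχ χ' hχ' g hg
    obtain ⟨η, -, rfl⟩ := Finset.mem_image.1 hχ
    obtain ⟨η', -, rfl⟩ := Finset.mem_image.1 hχ'
    exact DataX.exc_same_off D η η' hg
  · intro χ hχ χ' hχ' hne
    obtain ⟨η, -, rfl⟩ := Finset.mem_image.1 hχ
    obtain ⟨η', -, rfl⟩ := Finset.mem_image.1 hχ'
    have hne' : η ≠ η' := fun h => hne (by rw [h])
    obtain ⟨k, hk, hk1, hd⟩ := DataX.exc_dist D hne'
    exact ⟨k, hk, fun h => hk1 (Subtype.ext h), hd⟩

end Cfsg.Agent.Helper8.SzCh
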