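import Mathlib
import Cfsg.Agent.Helper8.SzChI
import Cfsg.Agent.Helper8.SzChE

set_option autoImplicit false
set_option linter.style.haveILetI false
set_option linter.unusedSectionVars false

/-!
Groups of Suzuki type: the package of facts for a cyclic torus of order at least nine.
-/

namespace Cfsg.Agent.Helper8.SzCh

open MulAction Cfsg.Agent.Helper6 Cfsg.Agent.Helper2.BrTI Cfsg.Agent.Helper8.SzPart
open scoped ComplexConjugate

universe u

variable {G : Type u} [Group G] [Fintype G] {q r : ℕ}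

/-- the index of a torus in its normalizer -/
theorem index_Cz (h : Ctx G q r) {x : G} (hx : x ∈ XX G q) :
    ((Cz x).subgroupOf (Subgroup.normalizer ((Cz x : Subgroup G) : Set G))).index = 4 := by
  have h1 := Subgroup.card_mul_index
    ((Cz x).subgroupOf (Subgroup.normalizer ((Cz x : Subgroup G) : Set G)))
  rw [card_subgroupOf_normalizer, h.card_normalizer hx] at h1
  have hpos : 0 < Nat.card (Cz x) := Nat.card_pos
  have h2 : Nat.card (Cz x) * ((Cz x).subgroupOf
      (Subgroup.normalizer ((Cz x : Subgroup G) : Set G))).index = Nat.card (Cz x) * 4 := by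
    rw [h1]; ring
  exact Nat.eq_of_mul_eq_mul_left hpos h2

/-- the exceptional characters of a torus of order at least nine -/
theorem exists_data_Cz (h : Ctx G q r) {x : G} (hx : x ∈ XX G q) (h9 : 6 ≤ Nat.card (Cz x)) :
    Nonempty (Data (Cz x)) := by
  have hTI : ∀ g : G, g ∉ Subgroup.normalizer ((Cz x : Subgroup G) : Set G) →
      ∀ k ∈ Cz x, g * k * g⁻¹ ∈ Cz x → k = 1 := by
    intro g hg k hk hgk
    by_contra hk1
    exact hg (h.ti hx g k hk hk1 hgk)
  have hC : ∀ k ∈ Cz x, k ≠ 1 → Subgroup.centralizer ({k} : Set G) ≤ Cz x := by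
    intro k hk hk1
    exact le_of_eq (h.cent_eq hx hk hk1)
  have hab : ∀ a ∈ Cz x, ∀ b ∈ Cz x, a * b = b * a := by
    intro a ha b hb
    exact comm_of_cyclic (h.cyc x hx.1 hx.2) ha hb
  rcases tifrob_abelian (Cz x) hTI hC hab with h1 | h1
  · exfalso
    obtain ⟨-, p, -, -, h2⟩ := h1
    rw [index_Cz h hx] at h2
    omega
  · obtain ⟨ε, f, hε, hf, hind⟩ := h1
    exact ⟨⟨hTI, hC, hab, ε, hε, f, hf, hind⟩⟩

/-- the package for a torus of order at least nine -/
theorem exists_torPack (h : Ctx G q r) [Fintype (Cfsg.IrrCharacter G)] {x : G} (hx : x ∈ XX G q)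
    (n k : ℕ) (hn : Nat.card (Cz x) = n) (hk : 4 * k + 1 = n) (hk2 : 2 ≤ k) :
    Nonempty (TorPack (Cz x) n) := by
  obtain ⟨D⟩ := exists_data_Cz h hx (by omega)
  exact torPack_of_data D n k (index_Cz h hx) hn hk hk2

end Cfsg.Agent.Helper8.SzCh
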