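import Mathlib
import Cfsg.Agent.Helper8.SzChJ
import Cfsg.Agent.Helper6.ColumnOrth

set_option autoImplicit false
set_option linter.style.haveILetI false
set_option linter.unusedSectionVars false

/-!
Subgroups on whose nonidentity elements the normalizer is transitive: all class functions are
constant there.
-/

namespace Cfsg.Agent.Helper8.SzCh

open MulAction Cfsg.Agent.Helper6 Cfsg.Agent.Helper2.BrTI Cfsg.Agent.Helper8.SzPart
open scoped ComplexConjugate

universe u

variable {G : Type u} [Group G] [Fintype G]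

/-- if the normalizer of `K` has order `e (e + 1)` where `|K| = e + 1`, and the centralizers of the
nonidentity elements of `K` are in `K`, then the normalizer is transitive on the nonidentity
elements of `K` -/
theorem conj_transitive (K : Subgroup G) (e : ℕ)
    (hN : Nat.card (Subgroup.normalizer (K : Set G)) = e * Nat.card K)
    (hK : Nat.card K = e + 1)
    (hC : ∀ k ∈ K, k ≠ 1 → Subgroup.centralizer ({k} : Set G) ≤ K)
    {u v : G} (hu : u ∈ K) (hu1 : u ≠ 1) (hv : v ∈ K) (hv1 : v ≠ 1) :
    ∃ g : G, g * u * g⁻¹ = v := by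
  classical
  set s : Finset G := Finset.univ.filter (fun g => g ∈ Subgroup.normalizer (K : Set G)) with hs
  set t : Finset G := Finset.univ.filter (fun v => v ∈ K ∧ v ≠ 1) with ht
  set kk : Finset G := Finset.univ.filter (fun v => v ∈ K) with hkk
  have hscard : s.card = e * (e + 1) := by
    rw [← hK, ← hN, Nat.card_eq_fintype_card, Fintype.card_subtype]
  have hkcard : kk.card = e + 1 := by
    rw [← hK, Nat.card_eq_fintype_card, Fintype.card_subtype]
  have htcard : t.card = e := by
    have h1 := card_ne_one K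
    rw [hK, Nat.add_sub_cancel] at h1
    rw [← h1, Nat.card_eq_fintype_card, ← Fintype.card_coe]
    apply Fintype.card_congr
    exact ⟨fun w => ⟨⟨w.1, (Finset.mem_filter.1 w.2).2.1⟩, fun h =>
        (Finset.mem_filter.1 w.2).2.2 (congrArg Subtype.val h)⟩,
      fun w => ⟨w.1.1, Finset.mem_filter.2 ⟨Finset.mem_univ _, w.1.2,
        fun h => w.2 (Subtype.ext h)⟩⟩, fun w => rfl, fun w => rfl⟩
  set f : G → G := fun g => g * u * g⁻¹ with hf
  have himg : s.image f ⊆ t := by
    intro w hw
    obtain ⟨g, hg, rfl⟩ := Finset.mem_image.1 hw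
    rw [hs, Finset.mem_filter] at hg
    rw [ht, Finset.mem_filter]
    refine ⟨Finset.mem_univ _, (Subgroup.mem_normalizer_iff.1 hg.2 u).1 hu, ?_⟩
    intro h1
    apply hu1
    have h2 : g * u * g⁻¹ = 1 := h1
    have : u = g⁻¹ * (g * u * g⁻¹) * g := by group
    rw [this, h2]; group
  have hfib : ∀ w ∈ s.image f, (s.filter fun g => f g = w).card ≤ e + 1 := by
    intro w hw
    obtain ⟨g₀, -, rfl⟩ := Finset.mem_image.1 hw
    rw [← hkcard]
    have hsub : (s.filter fun g => f g = f g₀) ⊆ kk.image (fun k => g₀ * k) := by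
      intro g hg
      rw [Finset.mem_filter] at hg
      rw [Finset.mem_image]
      refine ⟨g₀⁻¹ * g, ?_, by group⟩
      rw [hkk, Finset.mem_filter]
      refine ⟨Finset.mem_univ _, hC u hu hu1 ?_⟩
      rw [Subgroup.mem_centralizer_singleton_iff]
      have h2 : g * u * g⁻¹ = g₀ * u * g₀⁻¹ := hg.2
      have h3 : u = g⁻¹ * (g₀ * u * g₀⁻¹) * g := by rw [← h2]; group
      calc g₀⁻¹ * g * u = g₀⁻¹ * (g * u * g⁻¹) * g := by group
        _ = g₀⁻¹ * (g₀ * u * g₀⁻¹) * g := by rw [h2]
        _ = u * (g₀⁻¹ * g) := by group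
    exact (Finset.card_le_card hsub).trans Finset.card_image_le
  have h1 := Finset.card_le_mul_card_image s (e + 1) hfib
  rw [hscard] at h1
  have h2 : e ≤ (s.image f).card := by
    have : (e + 1) * e ≤ (e + 1) * (s.image f).card := by
      calc (e + 1) * e = e * (e + 1) := by ring
        _ ≤ (e + 1) * (s.image f).card := h1
    exact Nat.le_of_mul_le_mul_left this (Nat.succ_pos e)
  have h3 : s.image f = t := Finset.eq_of_subset_of_card_le himg (by rw [htcard]; exact h2)
  have hvt : v ∈ t := by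
    rw [ht, Finset.mem_filter]
    exact ⟨Finset.mem_univ _, hv, hv1⟩
  rw [← h3] at hvt
  obtain ⟨g, -, hg⟩ := Finset.mem_image.1 hvt
  exact ⟨g, hg⟩

/-- a package of facts for a subgroup on whose nonidentity elements all the irreducible characters
are constant -/
structure ConstPack [Fintype (Cfsg.IrrCharacter G)] (K : Subgroup G) (n : ℕ) where
  c : Cfsg.IrrCharacter G → ℤ
  hval : ∀ χ : Cfsg.IrrCharacter G, ∀ u ∈ K, u ≠ 1 → (χ : G → ℂ) u = c χ
  hsq : ∑ χ, c χ ^ 2 = n

/-- the package for a cyclic torus of order five in a group of Suzuki type -/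
theorem exists_constPack {q r : ℕ} (h : Ctx G q r) [Fintype (Cfsg.IrrCharacter G)] {x : G}
    (hx : x ∈ XX G q) (hn : Nat.card (Cz x) = 5) : Nonempty (ConstPack (Cz x) 5) := by
  classical
  haveI : Fintype ↥(Subgroup.normalizer ((Cz x : Subgroup G) : Set G)) := Fintype.ofFinite _
  have hC : ∀ k ∈ Cz x, k ≠ 1 → Subgroup.centralizer ({k} : Set G) ≤ Cz x := by
    intro k hk hk1
    exact le_of_eq (h.cent_eq hx hk hk1)
  have hN : Nat.card (Subgroup.normalizer ((Cz x : Subgroup G) : Set G)) = 4 * Nat.card (Cz x) :=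
    h.card_normalizer hx
  have hxK : x ∈ Cz x := self_mem_Cz x
  -- every irreducible character is constant on the nonidentity elements
  have hconst : ∀ χ : Cfsg.IrrCharacter G, ∀ u ∈ Cz x, u ≠ 1 → (χ : G → ℂ) u = (χ : G → ℂ) x := by
    intro χ u hu hu1
    obtain ⟨g, hg⟩ := conj_transitive (Cz x) 4 hN hn hC hxK hx.1 hu hu1
    rw [← hg]
    exact IsCharacter.isClassFunction (IsIrrCharacter.isCharacter χ.2) x g
  -- the value is an integer
  have hint : ∀ χ : Cfsg.IrrCharacter G, ∃ z : ℤ, (χ : G → ℂ) x = z := by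
    intro χ
    obtain ⟨z, hz, -⟩ := const_int (Cz x) (by omega) (IsIrrCharacter.isCharacter χ.2)
      (IsIrrCharacter.isCharacter (isIrrCharacter_one
        (G := ↥(Subgroup.normalizer ((Cz x : Subgroup G) : Set G))))) 0 ((χ : G → ℂ) x) (by
        intro k hk hk1
        rw [Int.cast_zero, zero_mul, sub_zero]
        exact hconst χ k hk (fun h => hk1 (Subtype.ext h)))
    exact ⟨z, hz⟩
  choose c hc using hint
  refine ⟨⟨c, fun χ u hu hu1 => by rw [hconst χ u hu hu1, hc χ], ?_⟩⟩
  have h1 := column_orthogonality_aux (G := G) x x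
  rw [if_pos (IsConj.refl x)] at h1
  have h2 : Nat.card (Subgroup.centralizer ({x} : Set G)) = 5 := hn
  rw [h2] at h1
  have h3 : ∀ χ : Cfsg.IrrCharacter G, (χ : G → ℂ) x * conj ((χ : G → ℂ) x) =
      ((c χ ^ 2 : ℤ) : ℂ) := by
    intro χ
    have hcj : conj ((c χ : ℤ) : ℂ) = ((c χ : ℤ) : ℂ) := by
      rw [Complex.conj_eq_iff_re]
      simp
    rw [hc χ, hcj]
    push_cast
    ring
  rw [Finset.sum_congr rfl (fun χ _ => h3 χ), ← Int.cast_sum] at h1
  exact_mod_cast h1

end Cfsg.Agent.Helper8.SzCh
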