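import Mathlib
import Cfsg.Agent.Helper8.SzChK
import Cfsg.Prelude.Def_DegreeGraph

set_option autoImplicit false
set_option linter.style.haveILetI false
set_option linter.unusedSectionVars false

/-!
Groups of Suzuki type: the values of the principal series characters in the packages of the tori,
and the degree of a cuspidal character in terms of integers.
-/

namespace Cfsg.Agent.Helper8.SzCh

open MulAction Cfsg.Agent.Helper6 Cfsg.Agent.Helper2.BrTI Cfsg.Agent.Helper8.SzPart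
open scoped ComplexConjugate

universe u v w

theorem charDegree_of_natCast {G : Type*} [Group G] {χ : G → ℂ} {n : ℕ} (h : χ 1 = (n : ℂ)) :
    Cfsg.charDegree χ = n := by
  unfold Cfsg.charDegree
  rw [h, Complex.natCast_re, Nat.floor_natCast]

section General

variable {G : Type u} [Group G] [Fintype G] [Fintype (Cfsg.IrrCharacter G)] {K : Subgroup G}
  {n : ℕ}

theorem TorPack.c_eq_of_const (P : TorPack K n) {u₀ : G} (hu₀ : u₀ ∈ K) (hu₀1 : u₀ ≠ 1)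
    (χ : Cfsg.IrrCharacter G) (z : ℤ) (hz : ∀ u ∈ K, u ≠ 1 → (χ : G → ℂ) u = z) :
    χ ∉ P.E ∧ P.c χ = z := by
  have h1 : χ ∉ P.E := P.hconst χ z hz
  refine ⟨h1, ?_⟩
  have h2 := P.hnon χ h1 u₀ hu₀ hu₀1
  rw [hz u₀ hu₀ hu₀1] at h2
  exact_mod_cast h2.symm

theorem TorPack.subSum_exc (P : TorPack K n) {χ : Cfsg.IrrCharacter G} (hχ : χ ∈ P.E) :
    subSum K (χ : G → ℂ) = 4 * ((-P.εz + P.k * P.m : ℤ) : ℂ) := by
  rw [P.hE χ hχ]
  have h1 : (n : ℂ) = 4 * (P.k : ℂ) + 1 := by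
    have := P.hn
    exact_mod_cast this.symm
  rw [h1]
  push_cast
  ring

theorem TorPack.subSum_non (P : TorPack K n) (hK : Nat.card K = n) {χ : Cfsg.IrrCharacter G}
    (hχ : χ ∉ P.E) : subSum K (χ : G → ℂ) = 4 * ((P.k * P.c χ : ℤ) : ℂ) := by
  rw [subSum_congr K (P.hnon χ hχ), subSum_const, hK]
  have h1 : n - 1 = 4 * P.k := by
    have := P.hn
    omega
  rw [h1]
  push_cast
  ring

theorem ConstPack.c_eq_of_const (P : ConstPack K n) {u₀ : G} (hu₀ : u₀ ∈ K) (hu₀1 : u₀ ≠ 1)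
    (χ : Cfsg.IrrCharacter G) (z : ℤ) (hz : ∀ u ∈ K, u ≠ 1 → (χ : G → ℂ) u = z) :
    P.c χ = z := by
  have h2 := P.hval χ u₀ hu₀ hu₀1
  rw [hz u₀ hu₀ hu₀1] at h2
  exact_mod_cast h2.symm

theorem ConstPack.subSum_eq (P : ConstPack K n) (hK : Nat.card K = n) (hn : 1 ≤ n)
    (χ : Cfsg.IrrCharacter G) : subSum K (χ : G → ℂ) = ((n : ℂ) - 1) * (P.c χ : ℂ) := by
  rw [subSum_congr K (P.hval χ), subSum_const, hK, Nat.cast_sub hn]
  push_cast
  ring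

end General

variable {G : Type u} {Ω : Type v} {T : Type w} [Group G] [Fintype G] [MulAction G Ω] [Fintype Ω]
  [CommGroup T] [Fintype T] {q r : ℕ} {a b : Ω}

namespace Hyp

variable (D : Hyp G Ω T q r a b)

/-- the trivial character -/
noncomputable def irrOne (G : Type u) [Group G] : Cfsg.IrrCharacter G :=
  ⟨fun _ => 1, isIrrCharacter_one⟩

/-- the Steinberg character -/
noncomputable def irrSt : Cfsg.IrrCharacter G := ⟨D.St, D.isIrrCharacter_St⟩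

/-- the principal series characters -/
noncomputable def irrRnu (ν : T →* ℂˣ) (hν : ν ≠ 1) : Cfsg.IrrCharacter G :=
  ⟨D.Rnu ν, D.isIrrCharacter_Rnu hν⟩

include D

theorem fpf_of_mem {x u : G} (hx : x ∈ XX G q) (hu : u ∈ Cz x) (hu1 : u ≠ 1) :
    ∀ c : Ω, u • c ≠ c :=
  (D.fpf_iff u).2 (D.ctx.mem_XX_of_mem_Cz hx hu hu1)

theorem degree_irrOne : Cfsg.charDegree ((irrOne G : Cfsg.IrrCharacter G) : G → ℂ) = 1 :=
  charDegree_of_natCast (n := 1) (by simp [irrOne])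

theorem degree_irrSt : Cfsg.charDegree ((D.irrSt : Cfsg.IrrCharacter G) : G → ℂ) = q ^ 2 :=
  charDegree_of_natCast (n := q ^ 2) (D.St_one)

theorem degree_irrRnu (ν : T →* ℂˣ) (hν : ν ≠ 1) :
    Cfsg.charDegree ((D.irrRnu ν hν : Cfsg.IrrCharacter G) : G → ℂ) = q ^ 2 + 1 :=
  charDegree_of_natCast (n := q ^ 2 + 1) (D.Rnu_one_apply ν)

theorem irrOne_ne_irrSt : irrOne G ≠ D.irrSt := by
  intro h
  have h1 := D.degree_irrSt
  rw [← h, D.degree_irrOne] at h1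
  have := D.act.q_ge
  nlinarith

/-- the degree of a character which is not cuspidal -/
theorem degree_not_cusp (χ : Cfsg.IrrCharacter G) (hc : ¬ D.IsCusp (χ : G → ℂ)) :
    χ = irrOne G ∨ χ = D.irrSt ∨ ∃ (ν : T →* ℂˣ) (hν : ν ≠ 1), χ = D.irrRnu ν hν := by
  rcases D.not_cusp_cases χ.2 hc with h | h | ⟨ν, hν, h⟩
  · exact Or.inl (Subtype.ext h)
  · exact Or.inr (Or.inl (Subtype.ext h))
  · exact Or.inr (Or.inr ⟨ν, hν, Subtype.ext h⟩)

/-- there is a nontrivial character of the torus -/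
theorem exists_nu : ∃ ν : T →* ℂˣ, ν ≠ 1 := by
  have h1 : 1 < Nat.card T := by
    rw [D.cardT]
    have := D.act.q_ge
    omega
  haveI : Nontrivial T := (Finite.one_lt_card_iff_nontrivial).mp h1
  obtain ⟨t, ht⟩ := exists_ne (1 : T)
  obtain ⟨φ, hφ⟩ := CommGroup.exists_apply_ne_one_of_hasEnoughRootsOfUnity T ℂ ht
  exact ⟨φ, fun h => hφ (by rw [h]; rfl)⟩

variable [Fintype (Cfsg.IrrCharacter G)]

section Tor

variable {x : G} (hx : x ∈ XX G q) {n : ℕ} (P : TorPack (Cz x) n)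

include hx

theorem tor_one : irrOne G ∉ P.E ∧ P.c (irrOne G) = 1 :=
  P.c_eq_of_const (self_mem_Cz x) hx.1 (irrOne G) 1 (fun u _ _ => by simp [irrOne])

theorem tor_St : D.irrSt ∉ P.E ∧ P.c D.irrSt = -1 :=
  P.c_eq_of_const (self_mem_Cz x) hx.1 D.irrSt (-1) (fun u hu hu1 => by
    show D.St u = _
    rw [D.St_apply_fpf (D.fpf_of_mem hx hu hu1)]
    push_cast
    rfl)

theorem tor_Rnu (ν : T →* ℂˣ) (hν : ν ≠ 1) :
    D.irrRnu ν hν ∉ P.E ∧ P.c (D.irrRnu ν hν) = 0 :=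
  P.c_eq_of_const (self_mem_Cz x) hx.1 (D.irrRnu ν hν) 0 (fun u hu hu1 => by
    show D.Rnu ν u = _
    rw [D.Rnu_apply_fpf ν (D.fpf_of_mem hx hu hu1)]
    push_cast
    rfl)

theorem tor_cusp {χ : Cfsg.IrrCharacter G} (hχ : χ ∈ P.E) : D.IsCusp (χ : G → ℂ) := by
  by_contra hc
  rcases D.degree_not_cusp χ hc with h | h | ⟨ν, hν, h⟩
  · exact (D.tor_one hx P).1 (h ▸ hχ)
  · exact (D.tor_St hx P).1 (h ▸ hχ)
  · exact (D.tor_Rnu hx P ν hν).1 (h ▸ hχ)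

end Tor

section Con

variable {x : G} (hx : x ∈ XX G q) {n : ℕ} (P : ConstPack (Cz x) n)

include hx

theorem con_one : P.c (irrOne G) = 1 :=
  P.c_eq_of_const (self_mem_Cz x) hx.1 (irrOne G) 1 (fun u _ _ => by simp [irrOne])

theorem con_St : P.c D.irrSt = -1 :=
  P.c_eq_of_const (self_mem_Cz x) hx.1 D.irrSt (-1) (fun u hu hu1 => by
    show D.St u = _
    rw [D.St_apply_fpf (D.fpf_of_mem hx hu hu1)]
    push_cast
    rfl)

theorem con_Rnu (ν : T →* ℂˣ) (hν : ν ≠ 1) : P.c (D.irrRnu ν hν) = 0 :=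
  P.c_eq_of_const (self_mem_Cz x) hx.1 (D.irrRnu ν hν) 0 (fun u hu hu1 => by
    show D.Rnu ν u = _
    rw [D.Rnu_apply_fpf ν (D.fpf_of_mem hx hu hu1)]
    push_cast
    rfl)

end Con

/-- the degree of a cuspidal character, in integers -/
theorem cusp_degree_int {χ : Cfsg.IrrCharacter G} (hχ : D.IsCusp (χ : G → ℂ)) {x₁ x₂ : G}
    (hx₁ : x₁ ∈ XX G q) (hx₂ : x₂ ∈ XX G q) (h₁ : Nat.card (Cz x₁) = q + 2 * r + 1)
    (h₂ : Nat.card (Cz x₂) = q - 2 * r + 1) (s₁ s₂ : ℤ)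
    (hs₁ : subSum (Cz x₁) (χ : G → ℂ) = 4 * (s₁ : ℂ))
    (hs₂ : subSum (Cz x₂) (χ : G → ℂ) = 4 * (s₂ : ℂ)) :
    (Cfsg.charDegree (χ : G → ℂ) : ℤ) =
      ((q - 1 : ℕ) : ℤ) * (((q - 2 * r + 1 : ℕ) : ℤ) * s₁ + ((q + 2 * r + 1 : ℕ) : ℤ) * s₂) := by
  have h := D.cusp_degree_formula hχ hx₁ hx₂ h₁ h₂
  have e1 : torSum x₁ (χ : G → ℂ) = subSum (Cz x₁) (χ : G → ℂ) := rfl
  have e2 : torSum x₂ (χ : G → ℂ) = subSum (Cz x₂) (χ : G → ℂ) := rfl
  rw [e1, e2, hs₁, hs₂, ← charDegree_cast_of_isCharacter (IsIrrCharacter.isCharacter χ.2)] at h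
  have h' : (4 : ℂ) * ((Cfsg.charDegree (χ : G → ℂ) : ℤ) : ℂ) = 4 *
      ((((q - 1 : ℕ) : ℤ) * (((q - 2 * r + 1 : ℕ) : ℤ) * s₁ +
        ((q + 2 * r + 1 : ℕ) : ℤ) * s₂) : ℤ) : ℂ) := by
    push_cast
    push_cast at h
    linear_combination h
  have h4 : (4 : ℂ) ≠ 0 := by norm_num
  exact_mod_cast mul_left_cancel₀ h4 h'

theorem degree_pos (χ : Cfsg.IrrCharacter G) : (0 : ℤ) < Cfsg.charDegree (χ : G → ℂ) := by
  have h0 : Cfsg.charDegree (χ : G → ℂ) ≠ 0 := by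
    intro h0
    have h1 := charDegree_cast_of_isCharacter (IsIrrCharacter.isCharacter χ.2)
    rw [h0, Nat.cast_zero] at h1
    exact IsIrrCharacter.apply_one_ne_zero χ.2 h1.symm
  have : 0 < Cfsg.charDegree (χ : G → ℂ) := Nat.pos_of_ne_zero h0
  exact_mod_cast this

end Hyp

end Cfsg.Agent.Helper8.SzCh
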