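import Mathlib

set_option autoImplicit false

/-!
Arithmetic of the character table of a group of Suzuki type: the generic case.
-/

namespace Cfsg.Agent.Helper8.SzCh.Arith

variable {ι : Type*} [Fintype ι] [DecidableEq ι]

/-- the remaining indices -/
def rest (a b : ι) (E₁ E₂ : Finset ι) : Finset ι := (insert a (insert b (E₁ ∪ E₂)))ᶜ

theorem mem_rest {a b : ι} {E₁ E₂ : Finset ι} {i : ι} :
    i ∈ rest a b E₁ E₂ ↔ i ≠ a ∧ i ≠ b ∧ i ∉ E₁ ∧ i ∉ E₂ := by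
  unfold rest
  simp only [Finset.mem_compl, Finset.mem_insert, Finset.mem_union, not_or]

theorem sum_split (f : ι → ℤ) {a b : ι} {E₁ E₂ : Finset ι} (hab : a ≠ b) (ha₁ : a ∉ E₁)
    (ha₂ : a ∉ E₂) (hb₁ : b ∉ E₁) (hb₂ : b ∉ E₂) (hdis : Disjoint E₁ E₂) :
    ∑ i, f i = f a + f b + ∑ i ∈ E₁, f i + ∑ i ∈ E₂, f i + ∑ i ∈ rest a b E₁ E₂, f i := by
  unfold rest
  rw [← Finset.sum_add_sum_compl (insert a (insert b (E₁ ∪ E₂))) f, Finset.sum_insert,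
    Finset.sum_insert, Finset.sum_union hdis]
  · ring
  · simp [hb₁, hb₂]
  · simp [hab, ha₁, ha₂]

/-- the inequality for one character in the generic case -/
theorem type_generic (Q A B r c₁ c₂ deg : ℤ) (hQ : 0 < Q) (hB : 0 < B) (hr : 0 < r)
    (hAB : A - B = r) (h1 : c₁ ^ 2 ≤ 2) (h2 : c₂ ^ 2 ≤ 2) (hdeg : deg = Q * (A * c₁ + B * c₂))
    (hpos : 0 < deg) :
    0 ≤ c₁ * deg - Q * r * c₁ ^ 2 ∧ 0 ≤ c₂ * deg + Q * r * c₂ ^ 2 ∧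
      (c₁ * deg - Q * r * c₁ ^ 2 = 0 → c₂ * deg + Q * r * c₂ ^ 2 = 0 → deg = Q * r) := by
  have hc₁ : -1 ≤ c₁ ∧ c₁ ≤ 1 := by constructor <;> nlinarith
  have hc₂ : -1 ≤ c₂ ∧ c₂ ≤ 1 := by constructor <;> nlinarith
  have hQB : 0 < Q * B := mul_pos hQ hB
  have hQr : 0 < Q * r := mul_pos hQ hr
  have hQA : Q * A = Q * B + Q * r := by rw [← hAB]; ring
  obtain ⟨l1, u1⟩ := hc₁
  obtain ⟨l2, u2⟩ := hc₂
  interval_cases c₁ <;> interval_cases c₂ <;> subst hdeg <;> ring_nf at hpos ⊢ <;>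
    refine ⟨?_, ?_, ?_⟩ <;> (try intro _ _) <;> nlinarith

/-- first step: the integer `m` and the common value `γ` vanish -/
theorem first_step (c : ι → ℤ) (a b : ι) (E' : Finset ι) (k k' ε m γ : ℤ) (hk : 5 ≤ k)
    (hk' : 3 ≤ k') (hε : ε = 1 ∨ ε = -1) (hab : a ≠ b) (ha : a ∉ E') (hb : b ∉ E')
    (hcard : (E'.card : ℤ) = k') (hca : c a = 1) (hcb : c b = -1) (hγ : ∀ i ∈ E', c i = γ)
    (hsq : ∑ i, c i ^ 2 = 4 + 2 * ε * m - k * m ^ 2) : m = 0 ∧ γ = 0 := by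
  have h1 : c a ^ 2 + c b ^ 2 + ∑ i ∈ E', c i ^ 2 ≤ ∑ i, c i ^ 2 := by
    have : c a ^ 2 + c b ^ 2 + ∑ i ∈ E', c i ^ 2 = ∑ i ∈ insert a (insert b E'), c i ^ 2 := by
      rw [Finset.sum_insert, Finset.sum_insert hb]
      · ring
      · simp [hab, ha]
    rw [this]
    exact Finset.sum_le_sum_of_subset_of_nonneg (Finset.subset_univ _)
      (fun i _ _ => sq_nonneg _)
  have h2 : ∑ i ∈ E', c i ^ 2 = k' * γ ^ 2 := by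
    rw [Finset.sum_congr rfl (fun i hi => by rw [hγ i hi]), Finset.sum_const, nsmul_eq_mul, hcard]
  rw [h2, hca, hcb, hsq] at h1
  have hγ2 : 0 ≤ γ ^ 2 := sq_nonneg _
  have hm0 : m = 0 := by
    by_contra hne
    have hm2 : 1 ≤ m ^ 2 := by
      have : 0 < m ^ 2 := by positivity
      omega
    have hεm : 2 * ε * m ≤ 2 * m ^ 2 := by
      rcases hε with rfl | rfl <;> nlinarith [sq_nonneg (m - 1), sq_nonneg (m + 1)]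
    nlinarith
  refine ⟨hm0, ?_⟩
  subst hm0
  by_contra hne
  have : 1 ≤ γ ^ 2 := by
    have : 0 < γ ^ 2 := by positivity
    omega
  nlinarith

set_option maxHeartbeats 1600000 in
/-- the generic case -/
theorem generic_main (deg c₁ c₂ : ι → ℤ) (a b : ι) (E₁ E₂ : Finset ι)
    (Q P r k₁ k₂ ε₁ ε₂ m₁ m₂ γ₁ γ₂ : ℤ)
    (hQ : 0 < Q) (hr : 0 < r) (hk₁ : 5 ≤ k₁) (hk₂ : 5 ≤ k₂) (hN₂ : 0 < P - 2 * r)
    (hAB : (P - 2 * r) * k₁ - (P + 2 * r) * k₂ = r)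
    (hab : a ≠ b) (ha₁ : a ∉ E₁) (ha₂ : a ∉ E₂) (hb₁ : b ∉ E₁) (hb₂ : b ∉ E₂)
    (hdis : Disjoint E₁ E₂) (hcard₁ : (E₁.card : ℤ) = k₁) (hcard₂ : (E₂.card : ℤ) = k₂)
    (hε₁ : ε₁ = 1 ∨ ε₁ = -1) (hε₂ : ε₂ = 1 ∨ ε₂ = -1)
    (hdega : deg a = 1) (hdegb : deg b = Q * P + 1)
    (hc₁a : c₁ a = 1) (hc₂a : c₂ a = 1) (hc₁b : c₁ b = -1) (hc₂b : c₂ b = -1)
    (hc₁E : ∀ i ∈ E₁, c₁ i = 0) (hc₂E : ∀ i ∈ E₂, c₂ i = 0)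
    (hγ₁ : ∀ i ∈ E₂, c₁ i = γ₁) (hγ₂ : ∀ i ∈ E₁, c₂ i = γ₂)
    (hsq₁ : ∑ i, c₁ i ^ 2 = 4 + 2 * ε₁ * m₁ - k₁ * m₁ ^ 2)
    (hsq₂ : ∑ i, c₂ i ^ 2 = 4 + 2 * ε₂ * m₂ - k₂ * m₂ ^ 2)
    (hlin₁ : ∀ i₀ ∈ E₁, ∑ i, c₁ i * deg i = deg i₀ * (ε₁ - k₁ * m₁))
    (hlin₂ : ∀ i₀ ∈ E₂, ∑ i, c₂ i * deg i = deg i₀ * (ε₂ - k₂ * m₂))
    (hdegE₁ : ∀ i ∈ E₁, deg i = Q * ((P - 2 * r) * (-ε₁ + k₁ * m₁) + (P + 2 * r) * k₂ * γ₂))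
    (hdegE₂ : ∀ i ∈ E₂, deg i = Q * ((P - 2 * r) * k₁ * γ₁ + (P + 2 * r) * (-ε₂ + k₂ * m₂)))
    (hdegR : ∀ i, i ≠ a → i ≠ b → i ∉ E₁ → i ∉ E₂ →
      deg i = Q * ((P - 2 * r) * k₁ * c₁ i + (P + 2 * r) * k₂ * c₂ i) ∨ (c₁ i = 0 ∧ c₂ i = 0))
    (hpos : ∀ i, 0 < deg i) :
    (∀ i ∈ E₁, deg i = Q * (P - 2 * r)) ∧ (∀ i ∈ E₂, deg i = Q * (P + 2 * r)) ∧
      (∀ i, i ≠ a → i ≠ b → i ∉ E₁ → i ∉ E₂ → deg i = Q * r ∨ (c₁ i = 0 ∧ c₂ i = 0)) ∧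
      ∃ i, deg i = Q * r := by
  obtain ⟨hm₁, hγ₁0⟩ := first_step c₁ a b E₂ k₁ k₂ ε₁ m₁ γ₁ hk₁ (by omega) hε₁ hab ha₂ hb₂ hcard₂
    hc₁a hc₁b hγ₁ hsq₁
  obtain ⟨hm₂, hγ₂0⟩ := first_step c₂ a b E₁ k₂ k₁ ε₂ m₂ γ₂ hk₂ (by omega) hε₂ hab ha₁ hb₁ hcard₁
    hc₂a hc₂b hγ₂ hsq₂
  subst hm₁ hm₂ hγ₁0 hγ₂0
  have hN₁ : 0 < P + 2 * r := by omega
  -- nonempty
  obtain ⟨i₁, hi₁⟩ : E₁.Nonempty := by
    rw [← Finset.card_pos]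
    have : (0 : ℤ) < E₁.card := by omega
    exact_mod_cast this
  obtain ⟨i₂, hi₂⟩ : E₂.Nonempty := by
    rw [← Finset.card_pos]
    have : (0 : ℤ) < E₂.card := by omega
    exact_mod_cast this
  have hQN₂ : 0 < Q * (P - 2 * r) := mul_pos hQ hN₂
  have hQN₁ : 0 < Q * (P + 2 * r) := mul_pos hQ hN₁
  -- the signs
  have hε₁' : ε₁ = -1 := by
    rcases hε₁ with rfl | rfl
    · exfalso
      have h1 := hdegE₁ i₁ hi₁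
      have h2 := hpos i₁
      rw [h1] at h2
      nlinarith
    · rfl
  have hε₂' : ε₂ = -1 := by
    rcases hε₂ with rfl | rfl
    · exfalso
      have h1 := hdegE₂ i₂ hi₂
      have h2 := hpos i₂
      rw [h1] at h2
      nlinarith
    · rfl
  subst hε₁' hε₂'
  have hE₁ : ∀ i ∈ E₁, deg i = Q * (P - 2 * r) := by
    intro i hi
    rw [hdegE₁ i hi]; ring
  have hE₂ : ∀ i ∈ E₂, deg i = Q * (P + 2 * r) := by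
    intro i hi
    rw [hdegE₂ i hi]; ring
  refine ⟨hE₁, hE₂, ?_⟩
  -- the sums over the rest
  have hs₁ := sum_split (fun i => c₁ i ^ 2) hab ha₁ ha₂ hb₁ hb₂ hdis
  have hs₂ := sum_split (fun i => c₂ i ^ 2) hab ha₁ ha₂ hb₁ hb₂ hdis
  have hl₁ := sum_split (fun i => c₁ i * deg i) hab ha₁ ha₂ hb₁ hb₂ hdis
  have hl₂ := sum_split (fun i => c₂ i * deg i) hab ha₁ ha₂ hb₁ hb₂ hdis
  have e1 : ∑ i ∈ E₁, c₁ i ^ 2 = 0 := Finset.sum_eq_zero (fun i hi => by rw [hc₁E i hi]; ring)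
  have e2 : ∑ i ∈ E₂, c₁ i ^ 2 = 0 := Finset.sum_eq_zero (fun i hi => by rw [hγ₁ i hi]; ring)
  have e3 : ∑ i ∈ E₁, c₂ i ^ 2 = 0 := Finset.sum_eq_zero (fun i hi => by rw [hγ₂ i hi]; ring)
  have e4 : ∑ i ∈ E₂, c₂ i ^ 2 = 0 := Finset.sum_eq_zero (fun i hi => by rw [hc₂E i hi]; ring)
  have e5 : ∑ i ∈ E₁, c₁ i * deg i = 0 :=
    Finset.sum_eq_zero (fun i hi => by rw [hc₁E i hi]; ring)
  have e6 : ∑ i ∈ E₂, c₁ i * deg i = 0 :=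
    Finset.sum_eq_zero (fun i hi => by rw [hγ₁ i hi]; ring)
  have e7 : ∑ i ∈ E₁, c₂ i * deg i = 0 :=
    Finset.sum_eq_zero (fun i hi => by rw [hγ₂ i hi]; ring)
  have e8 : ∑ i ∈ E₂, c₂ i * deg i = 0 :=
    Finset.sum_eq_zero (fun i hi => by rw [hc₂E i hi]; ring)
  rw [hsq₁, hc₁a, hc₁b, e1, e2] at hs₁
  rw [hsq₂, hc₂a, hc₂b, e3, e4] at hs₂
  rw [hlin₁ i₁ hi₁, hE₁ i₁ hi₁, hc₁a, hc₁b, hdega, hdegb, e5, e6] at hl₁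
  rw [hlin₂ i₂ hi₂, hE₂ i₂ hi₂, hc₂a, hc₂b, hdega, hdegb, e7, e8] at hl₂
  have hR₁ : ∑ i ∈ rest a b E₁ E₂, c₁ i ^ 2 = 2 := by linarith
  have hR₂ : ∑ i ∈ rest a b E₁ E₂, c₂ i ^ 2 = 2 := by linarith
  have hL₁ : ∑ i ∈ rest a b E₁ E₂, c₁ i * deg i = Q * r * 2 := by linarith
  have hL₂ : ∑ i ∈ rest a b E₁ E₂, c₂ i * deg i = -(Q * r * 2) := by linarith
  have hle₁ : ∀ i ∈ rest a b E₁ E₂, c₁ i ^ 2 ≤ 2 := by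
    intro i hi
    rw [← hR₁]
    exact Finset.single_le_sum (f := fun i => c₁ i ^ 2) (fun j _ => sq_nonneg _) hi
  have hle₂ : ∀ i ∈ rest a b E₁ E₂, c₂ i ^ 2 ≤ 2 := by
    intro i hi
    rw [← hR₂]
    exact Finset.single_le_sum (f := fun i => c₂ i ^ 2) (fun j _ => sq_nonneg _) hi
  -- the characterwise inequalities
  have hB : 0 < (P + 2 * r) * k₂ := mul_pos hN₁ (by omega)
  have key : ∀ i ∈ rest a b E₁ E₂, 0 ≤ c₁ i * deg i - Q * r * c₁ i ^ 2 ∧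
      0 ≤ c₂ i * deg i + Q * r * c₂ i ^ 2 ∧
      (c₁ i * deg i - Q * r * c₁ i ^ 2 = 0 → c₂ i * deg i + Q * r * c₂ i ^ 2 = 0 →
        deg i = Q * r ∨ (c₁ i = 0 ∧ c₂ i = 0)) := by
    intro i hi
    obtain ⟨h1, h2, h3, h4⟩ := mem_rest.1 hi
    rcases hdegR i h1 h2 h3 h4 with h | ⟨h, h'⟩
    · obtain ⟨u1, u2, u3⟩ := type_generic Q ((P - 2 * r) * k₁) ((P + 2 * r) * k₂) r (c₁ i) (c₂ i)
        (deg i) hQ hB hr hAB (hle₁ i hi) (hle₂ i hi) h (hpos i)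
      exact ⟨u1, u2, fun e1 e2 => Or.inl (u3 e1 e2)⟩
    · rw [h, h']
      simp
  have hz₁ : ∑ i ∈ rest a b E₁ E₂, (c₁ i * deg i - Q * r * c₁ i ^ 2) = 0 := by
    rw [Finset.sum_sub_distrib, ← Finset.mul_sum, hR₁, hL₁]; ring
  have hz₂ : ∑ i ∈ rest a b E₁ E₂, (c₂ i * deg i + Q * r * c₂ i ^ 2) = 0 := by
    rw [Finset.sum_add_distrib, ← Finset.mul_sum, hR₂, hL₂]; ring
  have he₁ := (Finset.sum_eq_zero_iff_of_nonneg (fun i hi => (key i hi).1)).1 hz₁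
  have he₂ := (Finset.sum_eq_zero_iff_of_nonneg (fun i hi => (key i hi).2.1)).1 hz₂
  have hall : ∀ i ∈ rest a b E₁ E₂, deg i = Q * r ∨ (c₁ i = 0 ∧ c₂ i = 0) := fun i hi =>
    (key i hi).2.2 (he₁ i hi) (he₂ i hi)
  refine ⟨fun i h1 h2 h3 h4 => hall i (mem_rest.2 ⟨h1, h2, h3, h4⟩), ?_⟩
  -- existence
  by_contra hcon
  push Not at hcon
  have : ∑ i ∈ rest a b E₁ E₂, c₁ i ^ 2 = 0 := by
    apply Finset.sum_eq_zero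
    intro i hi
    rcases hall i hi with h | ⟨h, -⟩
    · exact absurd h (hcon i)
    · rw [h]; ring
  rw [hR₁] at this
  norm_num at this

end Cfsg.Agent.Helper8.SzCh.Arith
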