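import Mathlib
import Cfsg.Agent.Helper8.SzChM

set_option autoImplicit false

/-!
Arithmetic of the character table of a group of Suzuki type: the case `q = 8`.
-/

namespace Cfsg.Agent.Helper8.SzCh.Arith

variable {ι : Type*} [Fintype ι] [DecidableEq ι]

/-- the determination of the parameters -/
theorem small_params (ε m γ y b d De : ℤ) (hε : ε = 1 ∨ ε = -1)
    (hy : y = 2 + 2 * ε * m - 3 * m ^ 2) (hy0 : 0 ≤ y) (hd : 3 * γ ^ 2 + d = 3) (hd0 : 0 ≤ d)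
    (hcs : b ^ 2 ≤ y * d)
    (hDe : De = 7 * (5 * (-ε + 3 * m) + 13 * γ))
    (hlin : -63 + 7 * (15 * y + 13 * b) = De * (ε - 3 * m))
    (hpos : 0 < De) (hdvd : De ∣ 29120) : m = 0 ∧ ε = -1 ∧ γ = 0 := by
  have hm : -1 ≤ m ∧ m ≤ 1 := by
    rcases hε with rfl | rfl <;> constructor <;> nlinarith
  have hγ : -1 ≤ γ ∧ γ ≤ 1 := by constructor <;> nlinarith
  obtain ⟨l1, u1⟩ := hm
  obtain ⟨l2, u2⟩ := hγ
  rcases hε with rfl | rfl <;> interval_cases m <;> interval_cases γ <;> subst hDe <;>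
    first
    | omega
    | (exfalso; subst hy; have hb : b = 0 := by nlinarith
       subst hb; omega)
    | (exfalso; norm_num at hdvd)

/-- the possible types of a character in the case `q = 8` -/
theorem type_small (c₁ c₂ deg : ℤ) (h1 : c₁ ^ 2 ≤ 2) (h2 : c₂ ^ 2 ≤ 3)
    (hdeg : deg = 7 * (15 * c₁ + 13 * c₂)) (hpos : 0 < deg) (hdvd : deg ∣ 29120) :
    (c₁ = 1 ∧ c₂ = -1 ∧ deg = 14) ∨ (c₁ = 0 ∧ c₂ = 1 ∧ deg = 91) := by
  have hc₁ : -1 ≤ c₁ ∧ c₁ ≤ 1 := by constructor <;> nlinarith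
  have hc₂ : -1 ≤ c₂ ∧ c₂ ≤ 1 := by constructor <;> nlinarith
  obtain ⟨l1, u1⟩ := hc₁
  obtain ⟨l2, u2⟩ := hc₂
  interval_cases c₁ <;> interval_cases c₂ <;> subst hdeg <;> omega

set_option maxHeartbeats 1600000 in
/-- the case `q = 8` -/
theorem small_main (deg c₁ c₂ : ι → ℤ) (a b : ι) (E₁ : Finset ι) (ε₁ m₁ γ₂ : ℤ)
    (hab : a ≠ b) (ha₁ : a ∉ E₁) (hb₁ : b ∉ E₁) (hcard₁ : E₁.card = 3)
    (hε₁ : ε₁ = 1 ∨ ε₁ = -1)
    (hdega : deg a = 1) (hdegb : deg b = 64)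
    (hc₁a : c₁ a = 1) (hc₂a : c₂ a = 1) (hc₁b : c₁ b = -1) (hc₂b : c₂ b = -1)
    (hc₁E : ∀ i ∈ E₁, c₁ i = 0) (hγ₂ : ∀ i ∈ E₁, c₂ i = γ₂)
    (hsq₁ : ∑ i, c₁ i ^ 2 = 4 + 2 * ε₁ * m₁ - 3 * m₁ ^ 2)
    (hsq₂ : ∑ i, c₂ i ^ 2 = 5)
    (hlin₁ : ∀ i₀ ∈ E₁, ∑ i, c₁ i * deg i = deg i₀ * (ε₁ - 3 * m₁))
    (hdegE₁ : ∀ i ∈ E₁, deg i = 7 * (5 * (-ε₁ + 3 * m₁) + 13 * γ₂))
    (hdegR : ∀ i, i ≠ a → i ≠ b → i ∉ E₁ →
      deg i = 7 * (15 * c₁ i + 13 * c₂ i) ∨ (c₁ i = 0 ∧ c₂ i = 0))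
    (hpos : ∀ i, 0 < deg i) (hdvd : ∀ i, deg i ∣ 29120) :
    (∀ i ∈ E₁, deg i = 35) ∧
      (∀ i, i ≠ a → i ≠ b → i ∉ E₁ → deg i = 14 ∨ deg i = 91 ∨ (c₁ i = 0 ∧ c₂ i = 0)) ∧
      (∃ i, deg i = 14) ∧ ∃ i, deg i = 91 := by
  have hem : ∀ i : ι, i ∉ (∅ : Finset ι) := fun i => Finset.notMem_empty i
  have hdis : Disjoint E₁ (∅ : Finset ι) := Finset.disjoint_empty_right _
  obtain ⟨i₁, hi₁⟩ : E₁.Nonempty := by
    rw [← Finset.card_pos, hcard₁]; norm_num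
  have hs₁ := sum_split (fun i => c₁ i ^ 2) hab ha₁ (hem a) hb₁ (hem b) hdis
  have hs₂ := sum_split (fun i => c₂ i ^ 2) hab ha₁ (hem a) hb₁ (hem b) hdis
  have hl₁ := sum_split (fun i => c₁ i * deg i) hab ha₁ (hem a) hb₁ (hem b) hdis
  have e1 : ∑ i ∈ E₁, c₁ i ^ 2 = 0 := Finset.sum_eq_zero (fun i hi => by rw [hc₁E i hi]; ring)
  have e3 : ∑ i ∈ E₁, c₂ i ^ 2 = 3 * γ₂ ^ 2 := by
    rw [Finset.sum_congr rfl (fun i hi => by rw [hγ₂ i hi]), Finset.sum_const, hcard₁]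
    simp
  have e5 : ∑ i ∈ E₁, c₁ i * deg i = 0 :=
    Finset.sum_eq_zero (fun i hi => by rw [hc₁E i hi]; ring)
  set R := rest a b E₁ (∅ : Finset ι) with hR
  have hRmem : ∀ i, i ∈ R ↔ i ≠ a ∧ i ≠ b ∧ i ∉ E₁ := by
    intro i
    rw [hR, mem_rest]
    simp
  rw [hsq₁, hc₁a, hc₁b, e1, Finset.sum_empty] at hs₁
  rw [hsq₂, hc₂a, hc₂b, e3, Finset.sum_empty] at hs₂
  rw [hlin₁ i₁ hi₁, hc₁a, hc₁b, hdega, hdegb, e5, Finset.sum_empty] at hl₁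
  -- the products
  have hprod : ∀ i ∈ R, c₁ i * deg i = 7 * (15 * c₁ i ^ 2 + 13 * (c₁ i * c₂ i)) := by
    intro i hi
    obtain ⟨h1, h2, h3⟩ := (hRmem i).1 hi
    rcases hdegR i h1 h2 h3 with h | ⟨h, h'⟩
    · rw [h]; ring
    · rw [h, h']; ring
  rw [Finset.sum_congr rfl hprod, ← Finset.mul_sum, Finset.sum_add_distrib, ← Finset.mul_sum,
    ← Finset.mul_sum] at hl₁
  have hcs := Finset.sum_mul_sq_le_sq_mul_sq R c₁ c₂
  set y := ∑ i ∈ R, c₁ i ^ 2 with hy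
  set bb := ∑ i ∈ R, c₁ i * c₂ i with hbb
  set d := ∑ i ∈ R, c₂ i ^ 2 with hd
  have hy0 : 0 ≤ y := Finset.sum_nonneg (fun i _ => sq_nonneg _)
  have hd0 : 0 ≤ d := Finset.sum_nonneg (fun i _ => sq_nonneg _)
  obtain ⟨hm, hε, hγ⟩ := small_params ε₁ m₁ γ₂ y bb d (deg i₁) hε₁ (by linarith) hy0
    (by linarith) hd0 hcs (hdegE₁ i₁ hi₁) (by linarith) (hpos i₁) (hdvd i₁)
  subst hm hε hγ
  have hy2 : y = 2 := by linarith
  have hd3 : d = 3 := by linarith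
  have hle₁ : ∀ i ∈ R, c₁ i ^ 2 ≤ 2 := by
    intro i hi
    rw [← hy2, hy]
    exact Finset.single_le_sum (f := fun i => c₁ i ^ 2) (fun j _ => sq_nonneg _) hi
  have hle₂ : ∀ i ∈ R, c₂ i ^ 2 ≤ 3 := by
    intro i hi
    rw [← hd3, hd]
    exact Finset.single_le_sum (f := fun i => c₂ i ^ 2) (fun j _ => sq_nonneg _) hi
  have hall : ∀ i ∈ R, (c₁ i = 1 ∧ c₂ i = -1 ∧ deg i = 14) ∨ (c₁ i = 0 ∧ c₂ i = 1 ∧ deg i = 91) ∨
      (c₁ i = 0 ∧ c₂ i = 0) := by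
    intro i hi
    obtain ⟨h1, h2, h3⟩ := (hRmem i).1 hi
    rcases hdegR i h1 h2 h3 with h | h
    · rcases type_small (c₁ i) (c₂ i) (deg i) (hle₁ i hi) (hle₂ i hi) h (hpos i) (hdvd i) with
        h' | h'
      · exact Or.inl h'
      · exact Or.inr (Or.inl h')
    · exact Or.inr (Or.inr h)
  refine ⟨?_, ?_, ?_, ?_⟩
  · intro i hi
    rw [hdegE₁ i hi]; norm_num
  · intro i h1 h2 h3
    rcases hall i ((hRmem i).2 ⟨h1, h2, h3⟩) with h | h | h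
    · exact Or.inl h.2.2
    · exact Or.inr (Or.inl h.2.2)
    · exact Or.inr (Or.inr h)
  · by_contra hcon
    push Not at hcon
    have : y = 0 := by
      rw [hy]
      apply Finset.sum_eq_zero
      intro i hi
      rcases hall i hi with h | h | h
      · exact absurd h.2.2 (hcon i)
      · rw [h.1]; ring
      · rw [h.1]; ring
    omega
  · by_contra hcon
    push Not at hcon
    have : d = y := by
      rw [hd, hy]
      apply Finset.sum_congr rfl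
      intro i hi
      rcases hall i hi with h | h | h
      · rw [h.1, h.2.1]; ring
      · exact absurd h.2.2 (hcon i)
      · rw [h.1, h.2]
    omega

end Cfsg.Agent.Helper8.SzCh.Arith
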