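import Mathlib
import Cfsg.Agent.Helper8.SzChL
import Cfsg.Agent.Helper8.SzChM

set_option autoImplicit false
set_option linter.style.haveILetI false
set_option linter.unusedSectionVars false

/-!
Groups of Suzuki type: the degrees of the irreducible characters, the generic case.
-/

namespace Cfsg.Agent.Helper8.SzCh

open MulAction Cfsg.Agent.Helper6 Cfsg.Agent.Helper2.BrTI Cfsg.Agent.Helper8.SzPart
open scoped ComplexConjugate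

universe u v w

section General

variable {G : Type u} [Group G] [Fintype G] [Fintype (Cfsg.IrrCharacter G)] {x x' : G} {n n' : ℕ}

theorem not_mem_conjSet_of_disjoint (hd : Disjoint (conjSet (Cz x)) (conjSet (Cz x'))) {u : G}
    (hu : u ∈ Cz x) (hu1 : u ≠ 1) : u ∉ conjSet (Cz x') := fun h =>
  (Set.disjoint_left.1 hd) (mem_conjSet_self hu hu1) h

/-- the sets of exceptional characters of two tori are disjoint -/
theorem tor_disjoint (hd : Disjoint (conjSet (Cz x)) (conjSet (Cz x')))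
    (P : TorPack (Cz x) n) (P' : TorPack (Cz x') n') (hk' : 2 ≤ P'.k) : Disjoint P.E P'.E := by
  classical
  rw [Finset.disjoint_left]
  intro χ hχ hχ'
  obtain ⟨ψ, hψ, hne⟩ := Finset.exists_mem_ne (by rw [P'.hcard]; omega) χ
  have hsame : ∀ u ∈ Cz x, u ≠ 1 → (χ : G → ℂ) u = (ψ : G → ℂ) u := fun u hu hu1 =>
    P'.hsame χ hχ' ψ hψ u (not_mem_conjSet_of_disjoint hd hu hu1)
  by_cases hψE : ψ ∈ P.E
  · obtain ⟨u, hu, hu1, hd'⟩ := P.hdist χ hχ ψ hψE hne.symm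
    exact hd' (hsame u hu hu1)
  · refine P.hconst χ (P.c ψ) ?_ hχ
    intro u hu hu1
    rw [hsame u hu hu1, P.hnon ψ hψE u hu hu1]

/-- the exceptional characters of a torus take a common value on another torus -/
theorem tor_common (hx1 : x ≠ 1) (hd : Disjoint (conjSet (Cz x)) (conjSet (Cz x')))
    (P : TorPack (Cz x) n) (P' : TorPack (Cz x') n') (hdis : Disjoint P.E P'.E) :
    ∀ χ ∈ P'.E, ∀ ψ ∈ P'.E, P.c χ = P.c ψ := by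
  intro χ hχ ψ hψ
  have h1 := P.hnon χ (Finset.disjoint_right.1 hdis hχ) x (self_mem_Cz x) hx1
  have h2 := P.hnon ψ (Finset.disjoint_right.1 hdis hψ) x (self_mem_Cz x) hx1
  have h3 := P'.hsame χ hχ ψ hψ x (not_mem_conjSet_of_disjoint hd (self_mem_Cz x) hx1)
  rw [h1, h2] at h3
  exact_mod_cast h3

/-- the exceptional characters of a torus take a common value on another torus -/
theorem con_common (hx1 : x ≠ 1) (hd : Disjoint (conjSet (Cz x)) (conjSet (Cz x')))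
    (P : ConstPack (Cz x) n) (P' : TorPack (Cz x') n') :
    ∀ χ ∈ P'.E, ∀ ψ ∈ P'.E, P.c χ = P.c ψ := by
  intro χ hχ ψ hψ
  have h1 := P.hval χ x (self_mem_Cz x) hx1
  have h2 := P.hval ψ x (self_mem_Cz x) hx1
  have h3 := P'.hsame χ hχ ψ hψ x (not_mem_conjSet_of_disjoint hd (self_mem_Cz x) hx1)
  rw [h1, h2] at h3
  exact_mod_cast h3

end General

variable {G : Type u} {Ω : Type v} {T : Type w} [Group G] [Fintype G] [MulAction G Ω] [Fintype Ω]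
  [CommGroup T] [Fintype T] {q r : ℕ} {a b : Ω}

namespace Hyp

variable (D : Hyp G Ω T q r a b)

include D

set_option maxHeartbeats 3200000 in
/-- the degrees of the irreducible characters, generic case -/
theorem degrees_generic [Fintype (Cfsg.IrrCharacter G)] (h4 : 4 ≤ r) :
    (∀ χ : Cfsg.IrrCharacter G, Cfsg.charDegree (χ : G → ℂ) = 1 ∨
      Cfsg.charDegree (χ : G → ℂ) = q ^ 2 ∨ Cfsg.charDegree (χ : G → ℂ) = q ^ 2 + 1 ∨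
      Cfsg.charDegree (χ : G → ℂ) = (q - 1) * (q - 2 * r + 1) ∨
      Cfsg.charDegree (χ : G → ℂ) = (q - 1) * (q + 2 * r + 1) ∨
      Cfsg.charDegree (χ : G → ℂ) = (q - 1) * r) ∧
    (∃ χ : Cfsg.IrrCharacter G, Cfsg.charDegree (χ : G → ℂ) = q ^ 2) ∧
    (∃ χ : Cfsg.IrrCharacter G, Cfsg.charDegree (χ : G → ℂ) = q ^ 2 + 1) ∧
    (∃ χ : Cfsg.IrrCharacter G, Cfsg.charDegree (χ : G → ℂ) = (q - 1) * (q - 2 * r + 1)) ∧
    (∃ χ : Cfsg.IrrCharacter G, Cfsg.charDegree (χ : G → ℂ) = (q - 1) * (q + 2 * r + 1)) ∧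
    (∃ χ : Cfsg.IrrCharacter G, Cfsg.charDegree (χ : G → ℂ) = (q - 1) * r) := by
  classical
  have hqr := D.act.hqr
  have hq8 := D.act.q_ge
  -- the tori
  obtain ⟨x₁, hx₁, h₁⟩ := D.ctx.exists_card (q + 2 * r + 1) (Or.inl rfl)
  obtain ⟨x₂, hx₂, h₂⟩ := D.ctx.exists_card (q - 2 * r + 1) (Or.inr rfl)
  have h2r : 2 * r ≤ q := by rw [hqr]; nlinarith
  obtain ⟨k₁, hk₁⟩ : ∃ k₁, r * (r + 1) = 2 * k₁ := by
    obtain ⟨t, ht⟩ := Nat.even_mul_succ_self r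
    exact ⟨t, by rw [ht]; ring⟩
  obtain ⟨k₂, hk₂⟩ : ∃ k₂, r * (r - 1) = 2 * k₂ := by
    obtain ⟨t, ht⟩ := Nat.even_mul_pred_self r
    exact ⟨t, by rw [ht]; ring⟩
  have hk₁' : 4 * k₁ + 1 = q + 2 * r + 1 := by rw [hqr]; nlinarith
  have hk₂' : 4 * k₂ + 1 = q - 2 * r + 1 := by
    obtain ⟨s, rfl⟩ : ∃ s, r = s + 1 := ⟨r - 1, by omega⟩
    simp only [Nat.add_sub_cancel] at hk₂
    have : q = 2 * (s + 1) + (4 * k₂) := by rw [hqr]; nlinarith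
    omega
  have hk₁5 : 10 ≤ k₁ := by nlinarith
  have hk₂5 : 6 ≤ k₂ := by
    obtain ⟨s, rfl⟩ : ∃ s, r = s + 1 := ⟨r - 1, by omega⟩
    simp only [Nat.add_sub_cancel] at hk₂
    nlinarith
  obtain ⟨P₁⟩ := exists_torPack D.ctx hx₁ (q + 2 * r + 1) k₁ h₁ hk₁' (by omega)
  obtain ⟨P₂⟩ := exists_torPack D.ctx hx₂ (q - 2 * r + 1) k₂ h₂ hk₂' (by omega)
  have hP₁k : P₁.k = k₁ := by have := P₁.hn; omega
  have hP₂k : P₂.k = k₂ := by have := P₂.hn; omega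
  have hd := D.conjSet_disjoint h₁ h₂
  have hdis : Disjoint P₁.E P₂.E := tor_disjoint hd P₁ P₂ (by omega)
  -- common values
  obtain ⟨ψ₁, hψ₁⟩ : P₁.E.Nonempty := by
    rw [← Finset.card_pos, P₁.hcard]; omega
  obtain ⟨ψ₂, hψ₂⟩ : P₂.E.Nonempty := by
    rw [← Finset.card_pos, P₂.hcard]; omega
  have hγ₁ : ∀ χ ∈ P₂.E, P₁.c χ = P₁.c ψ₂ := fun χ hχ =>
    tor_common hx₁.1 hd P₁ P₂ hdis χ hχ ψ₂ hψ₂
  have hγ₂ : ∀ χ ∈ P₁.E, P₂.c χ = P₂.c ψ₁ := fun χ hχ =>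
    tor_common hx₂.1 hd.symm P₂ P₁ hdis.symm χ hχ ψ₁ hψ₁
  -- casts
  have hc1 : ((q - 2 * r + 1 : ℕ) : ℤ) = (q : ℤ) + 1 - 2 * r := by
    rw [Nat.cast_add, Nat.cast_sub h2r]; push_cast; ring
  have hc2 : ((q + 2 * r + 1 : ℕ) : ℤ) = (q : ℤ) + 1 + 2 * r := by push_cast; ring
  have hc3 : ((q - 1 : ℕ) : ℤ) = (q : ℤ) - 1 := by
    rw [Nat.cast_sub (by omega)]; simp
  have hk₁z : (4 : ℤ) * k₁ = q + 2 * r := by
    have : ((4 * k₁ + 1 : ℕ) : ℤ) = ((q + 2 * r + 1 : ℕ) : ℤ) := by rw [hk₁']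
    push_cast at this
    linarith
  have hk₂z : (4 : ℤ) * k₂ = q - 2 * r := by
    have : ((4 * k₂ + 1 : ℕ) : ℤ) = ((q - 2 * r + 1 : ℕ) : ℤ) := by rw [hk₂']
    rw [hc1] at this
    push_cast at this
    linarith
  have hAB : ((q : ℤ) + 1 - 2 * r) * k₁ - ((q : ℤ) + 1 + 2 * r) * k₂ = r := by
    have : (4 : ℤ) * (((q : ℤ) + 1 - 2 * r) * k₁ - ((q : ℤ) + 1 + 2 * r) * k₂) = 4 * r := by
      linear_combination ((q : ℤ) + 1 - 2 * r) * hk₁z - ((q : ℤ) + 1 + 2 * r) * hk₂z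
    linarith
  -- the degrees of the exceptional characters
  have hdegE₁ : ∀ χ ∈ P₁.E, (Cfsg.charDegree (χ : G → ℂ) : ℤ) = ((q - 1 : ℕ) : ℤ) *
      (((q : ℤ) + 1 - 2 * r) * (-P₁.εz + k₁ * P₁.m) + ((q : ℤ) + 1 + 2 * r) * k₂ * P₂.c ψ₁) := by
    intro χ hχ
    have h := D.cusp_degree_int (D.tor_cusp hx₁ P₁ hχ) hx₁ hx₂ h₁ h₂ _ _ (P₁.subSum_exc hχ)
      (P₂.subSum_non h₂ (Finset.disjoint_left.1 hdis hχ))
    rw [h, hc1, hc2, hP₁k, hP₂k, hγ₂ χ hχ]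
    ring
  have hdegE₂ : ∀ χ ∈ P₂.E, (Cfsg.charDegree (χ : G → ℂ) : ℤ) = ((q - 1 : ℕ) : ℤ) *
      (((q : ℤ) + 1 - 2 * r) * k₁ * P₁.c ψ₂ + ((q : ℤ) + 1 + 2 * r) * (-P₂.εz + k₂ * P₂.m)) := by
    intro χ hχ
    have h := D.cusp_degree_int (D.tor_cusp hx₂ P₂ hχ) hx₁ hx₂ h₁ h₂ _ _
      (P₁.subSum_non h₁ (Finset.disjoint_right.1 hdis hχ)) (P₂.subSum_exc hχ)
    rw [h, hc1, hc2, hP₁k, hP₂k, hγ₁ χ hχ]
    ring
  have hdegR : ∀ χ : Cfsg.IrrCharacter G, χ ≠ irrOne G → χ ≠ D.irrSt → χ ∉ P₁.E → χ ∉ P₂.E →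
      (Cfsg.charDegree (χ : G → ℂ) : ℤ) = ((q - 1 : ℕ) : ℤ) *
        (((q : ℤ) + 1 - 2 * r) * k₁ * P₁.c χ + ((q : ℤ) + 1 + 2 * r) * k₂ * P₂.c χ) ∨
      (P₁.c χ = 0 ∧ P₂.c χ = 0) := by
    intro χ hne1 hneSt hχ₁ hχ₂
    by_cases hc : D.IsCusp (χ : G → ℂ)
    · left
      have h := D.cusp_degree_int hc hx₁ hx₂ h₁ h₂ _ _ (P₁.subSum_non h₁ hχ₁)
        (P₂.subSum_non h₂ hχ₂)
      rw [h, hc1, hc2, hP₁k, hP₂k]
      ring
    · right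
      rcases D.degree_not_cusp χ hc with h | h | ⟨ν, hν, h⟩
      · exact absurd h hne1
      · exact absurd h hneSt
      · rw [h]
        exact ⟨(D.tor_Rnu hx₁ P₁ ν hν).2, (D.tor_Rnu hx₂ P₂ ν hν).2⟩
  have hdegb : (Cfsg.charDegree ((D.irrSt : Cfsg.IrrCharacter G) : G → ℂ) : ℤ) =
      ((q - 1 : ℕ) : ℤ) * ((q : ℤ) + 1) + 1 := by
    rw [D.degree_irrSt, hc3]
    push_cast
    ring
  obtain ⟨r1, r2, r3, r4⟩ := Arith.generic_main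
    (fun χ : Cfsg.IrrCharacter G => (Cfsg.charDegree (χ : G → ℂ) : ℤ)) P₁.c P₂.c (irrOne G)
    D.irrSt P₁.E P₂.E ((q - 1 : ℕ) : ℤ) ((q : ℤ) + 1) r k₁ k₂ P₁.εz P₂.εz P₁.m P₂.m (P₁.c ψ₂)
    (P₂.c ψ₁) (by rw [hc3]; omega) (by omega) (by omega) (by omega) (by omega) hAB
    D.irrOne_ne_irrSt (D.tor_one hx₁ P₁).1 (D.tor_one hx₂ P₂).1 (D.tor_St hx₁ P₁).1
    (D.tor_St hx₂ P₂).1 hdis (by rw [P₁.hcard, hP₁k]) (by rw [P₂.hcard, hP₂k]) P₁.hε P₂.hε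
    (by rw [D.degree_irrOne]; simp) hdegb (D.tor_one hx₁ P₁).2 (D.tor_one hx₂ P₂).2
    (D.tor_St hx₁ P₁).2 (D.tor_St hx₂ P₂).2 P₁.hcE P₂.hcE hγ₁ hγ₂
    (by rw [P₁.hsq, hP₁k]) (by rw [P₂.hsq, hP₂k])
    (fun χ₀ hχ₀ => by rw [P₁.hlin χ₀ hχ₀, hP₁k]) (fun χ₀ hχ₀ => by rw [P₂.hlin χ₀ hχ₀, hP₂k])
    hdegE₁ hdegE₂ hdegR D.degree_pos
  -- back to natural numbers
  have cast1 : ∀ χ : Cfsg.IrrCharacter G, (Cfsg.charDegree (χ : G → ℂ) : ℤ) =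
      ((q - 1 : ℕ) : ℤ) * ((q : ℤ) + 1 - 2 * r) →
      Cfsg.charDegree (χ : G → ℂ) = (q - 1) * (q - 2 * r + 1) := by
    intro χ h
    rw [← hc1] at h
    exact_mod_cast h
  have cast2 : ∀ χ : Cfsg.IrrCharacter G, (Cfsg.charDegree (χ : G → ℂ) : ℤ) =
      ((q - 1 : ℕ) : ℤ) * ((q : ℤ) + 1 + 2 * r) →
      Cfsg.charDegree (χ : G → ℂ) = (q - 1) * (q + 2 * r + 1) := by
    intro χ h
    rw [← hc2] at h
    exact_mod_cast h
  have cast3 : ∀ χ : Cfsg.IrrCharacter G, (Cfsg.charDegree (χ : G → ℂ) : ℤ) =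
      ((q - 1 : ℕ) : ℤ) * (r : ℤ) → Cfsg.charDegree (χ : G → ℂ) = (q - 1) * r := by
    intro χ h
    exact_mod_cast h
  refine ⟨?_, ⟨D.irrSt, D.degree_irrSt⟩, ?_, ⟨ψ₁, cast1 ψ₁ (r1 ψ₁ hψ₁)⟩,
    ⟨ψ₂, cast2 ψ₂ (r2 ψ₂ hψ₂)⟩, ?_⟩
  · intro χ
    by_cases hne1 : χ = irrOne G
    · left; rw [hne1]; exact D.degree_irrOne
    by_cases hneSt : χ = D.irrSt
    · right; left; rw [hneSt]; exact D.degree_irrSt
    by_cases hχ₁ : χ ∈ P₁.E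
    · right; right; right; left; exact cast1 χ (r1 χ hχ₁)
    by_cases hχ₂ : χ ∈ P₂.E
    · right; right; right; right; left; exact cast2 χ (r2 χ hχ₂)
    rcases r3 χ hne1 hneSt hχ₁ hχ₂ with h | ⟨h, h'⟩
    · right; right; right; right; right; exact cast3 χ h
    · by_cases hc : D.IsCusp (χ : G → ℂ)
      · exfalso
        have h5 := D.cusp_degree_int hc hx₁ hx₂ h₁ h₂ _ _ (P₁.subSum_non h₁ hχ₁)
          (P₂.subSum_non h₂ hχ₂)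
        rw [h, h'] at h5
        have h6 := D.degree_pos χ
        rw [h5] at h6
        simp at h6
      · rcases D.degree_not_cusp χ hc with h5 | h5 | ⟨ν, hν, h5⟩
        · exact absurd h5 hne1
        · exact absurd h5 hneSt
        · right; right; left; rw [h5]; exact D.degree_irrRnu ν hν
  · obtain ⟨ν, hν⟩ := D.exists_nu
    exact ⟨D.irrRnu ν hν, D.degree_irrRnu ν hν⟩
  · obtain ⟨χ, hχ⟩ := r4
    exact ⟨χ, cast3 χ hχ⟩

end Hyp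

end Cfsg.Agent.Helper8.SzCh
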