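import Mathlib
import Cfsg.Agent.Helper8.SzChO
import Cfsg.Agent.Helper8.SzChN
import Cfsg.Agent.Helper6.DefectZeroBlock

set_option autoImplicit false
set_option linter.style.haveILetI false
set_option linter.unusedSectionVars false

/-!
Groups of Suzuki type: the degrees of the irreducible characters, the case `q = 8`.
-/

namespace Cfsg.Agent.Helper8.SzCh

open MulAction Cfsg.Agent.Helper6 Cfsg.Agent.Helper2.BrTI Cfsg.Agent.Helper8.SzPart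
open scoped ComplexConjugate

universe u v w

variable {G : Type u} {Ω : Type v} {T : Type w} [Group G] [Fintype G] [MulAction G Ω] [Fintype Ω]
  [CommGroup T] [Fintype T] {q r : ℕ} {a b : Ω}

namespace Hyp

variable (D : Hyp G Ω T q r a b)

include D

set_option maxHeartbeats 3200000 in
/-- the degrees of the irreducible characters, the case `q = 8` -/
theorem degrees_small [Fintype (Cfsg.IrrCharacter G)] (hr2 : r = 2) :
    (∀ χ : Cfsg.IrrCharacter G, Cfsg.charDegree (χ : G → ℂ) = 1 ∨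
      Cfsg.charDegree (χ : G → ℂ) = q ^ 2 ∨ Cfsg.charDegree (χ : G → ℂ) = q ^ 2 + 1 ∨
      Cfsg.charDegree (χ : G → ℂ) = (q - 1) * (q - 2 * r + 1) ∨
      Cfsg.charDegree (χ : G → ℂ) = (q - 1) * (q + 2 * r + 1) ∨
      Cfsg.charDegree (χ : G → ℂ) = (q - 1) * r) ∧
    (∃ χ : Cfsg.IrrCharacter G, Cfsg.charDegree (χ : G → ℂ) = q ^ 2) ∧
    (∃ χ : Cfsg.IrrCharacter G, Cfsg.charDegree (χ : G → ℂ) = q ^ 2 + 1) ∧
    (∃ χ : Cfsg.IrrCharacter G, Cfsg.charDegree (χ : G → ℂ) = (q - 1) * (q - 2 * r + 1)) ∧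
    (∃ χ : Cfsg.IrrCharacter G, Cfsg.charDegree (χ : G → ℂ) = (q - 1) * (q + 2 * r + 1)) ∧
    (∃ χ : Cfsg.IrrCharacter G, Cfsg.charDegree (χ : G → ℂ) = (q - 1) * r) := by
  classical
  have hqr := D.act.hqr
  subst hr2
  have hq8 : q = 8 := by rw [hqr]; norm_num
  subst hq8
  -- the tori
  obtain ⟨x₁, hx₁, h₁⟩ := D.ctx.exists_card (8 + 2 * 2 + 1) (Or.inl rfl)
  obtain ⟨x₂, hx₂, h₂⟩ := D.ctx.exists_card (8 - 2 * 2 + 1) (Or.inr rfl)
  obtain ⟨P₁⟩ := exists_torPack D.ctx hx₁ 13 3 h₁ (by norm_num) (by norm_num)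
  obtain ⟨P₂⟩ := exists_constPack D.ctx hx₂ h₂
  have hP₁k : P₁.k = 3 := by have := P₁.hn; omega
  have hd := D.conjSet_disjoint h₁ h₂
  obtain ⟨ψ₁, hψ₁⟩ : P₁.E.Nonempty := by
    rw [← Finset.card_pos, P₁.hcard]; omega
  have hγ₂ : ∀ χ ∈ P₁.E, P₂.c χ = P₂.c ψ₁ := fun χ hχ =>
    con_common hx₂.1 hd.symm P₂ P₁ χ hχ ψ₁ hψ₁
  have hsub₂ : ∀ χ : Cfsg.IrrCharacter G,
      subSum (Cz x₂) (χ : G → ℂ) = 4 * ((P₂.c χ : ℤ) : ℂ) := by
    intro χ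
    rw [P₂.subSum_eq h₂ (by norm_num) χ]
    norm_num
  have hdegE₁ : ∀ χ ∈ P₁.E, (Cfsg.charDegree (χ : G → ℂ) : ℤ) =
      7 * (5 * (-P₁.εz + 3 * P₁.m) + 13 * P₂.c ψ₁) := by
    intro χ hχ
    have h := D.cusp_degree_int (D.tor_cusp hx₁ P₁ hχ) hx₁ hx₂ h₁ h₂ _ _ (P₁.subSum_exc hχ)
      (hsub₂ χ)
    rw [h, hP₁k, hγ₂ χ hχ]
    norm_num
  have hdegR : ∀ χ : Cfsg.IrrCharacter G, χ ≠ irrOne G → χ ≠ D.irrSt → χ ∉ P₁.E →
      (Cfsg.charDegree (χ : G → ℂ) : ℤ) = 7 * (15 * P₁.c χ + 13 * P₂.c χ) ∨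
      (P₁.c χ = 0 ∧ P₂.c χ = 0) := by
    intro χ hne1 hneSt hχ₁
    by_cases hc : D.IsCusp (χ : G → ℂ)
    · left
      have h := D.cusp_degree_int hc hx₁ hx₂ h₁ h₂ _ _ (P₁.subSum_non h₁ hχ₁) (hsub₂ χ)
      rw [h, hP₁k]
      norm_num
      ring
    · right
      rcases D.degree_not_cusp χ hc with h | h | ⟨ν, hν, h⟩
      · exact absurd h hne1
      · exact absurd h hneSt
      · rw [h]
        exact ⟨(D.tor_Rnu hx₁ P₁ ν hν).2, D.con_Rnu hx₂ P₂ ν hν⟩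
  have hdvd : ∀ χ : Cfsg.IrrCharacter G, (Cfsg.charDegree (χ : G → ℂ) : ℤ) ∣ 29120 := by
    intro χ
    have h := charDegree_dvd_card χ.2
    rw [D.act.card] at h
    have : (Cfsg.charDegree (χ : G → ℂ) : ℤ) ∣ ((8 ^ 2 * (8 - 1) * (8 ^ 2 + 1) : ℕ) : ℤ) :=
      Int.natCast_dvd_natCast.2 h
    norm_num at this
    exact this
  obtain ⟨r1, r2, ⟨χ14, h14⟩, ⟨χ91, h91⟩⟩ := Arith.small_main
    (fun χ : Cfsg.IrrCharacter G => (Cfsg.charDegree (χ : G → ℂ) : ℤ)) P₁.c P₂.c (irrOne G)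
    D.irrSt P₁.E P₁.εz P₁.m (P₂.c ψ₁) D.irrOne_ne_irrSt (D.tor_one hx₁ P₁).1
    (D.tor_St hx₁ P₁).1 (by rw [P₁.hcard, hP₁k]) P₁.hε
    (by rw [D.degree_irrOne]; simp) (by rw [D.degree_irrSt]; norm_num) (D.tor_one hx₁ P₁).2
    (D.con_one hx₂ P₂) (D.tor_St hx₁ P₁).2 (D.con_St hx₂ P₂) P₁.hcE hγ₂
    (by rw [P₁.hsq, hP₁k]; norm_num) (by rw [P₂.hsq]; norm_num)
    (fun χ₀ hχ₀ => by rw [P₁.hlin χ₀ hχ₀, hP₁k]; norm_num)
    hdegE₁ hdegR D.degree_pos hdvd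
  refine ⟨?_, ⟨D.irrSt, D.degree_irrSt⟩, ?_, ⟨ψ₁, ?_⟩, ⟨χ91, ?_⟩, ⟨χ14, ?_⟩⟩
  · intro χ
    by_cases hne1 : χ = irrOne G
    · left; rw [hne1]; exact D.degree_irrOne
    by_cases hneSt : χ = D.irrSt
    · right; left; rw [hneSt]; exact D.degree_irrSt
    by_cases hχ₁ : χ ∈ P₁.E
    · right; right; right; left
      have := r1 χ hχ₁
      norm_num
      exact_mod_cast this
    rcases r2 χ hne1 hneSt hχ₁ with h | h | ⟨h, h'⟩
    · right; right; right; right; right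
      norm_num
      exact_mod_cast h
    · right; right; right; right; left
      norm_num
      exact_mod_cast h
    · by_cases hc : D.IsCusp (χ : G → ℂ)
      · exfalso
        have h5 := D.cusp_degree_int hc hx₁ hx₂ h₁ h₂ _ _ (P₁.subSum_non h₁ hχ₁) (hsub₂ χ)
        rw [h, h'] at h5
        have h6 := D.degree_pos χ
        rw [h5] at h6
        simp at h6
      · rcases D.degree_not_cusp χ hc with h5 | h5 | ⟨ν, hν, h5⟩
        · exact absurd h5 hne1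
        · exact absurd h5 hneSt
        · right; right; left; rw [h5]; exact D.degree_irrRnu ν hν
  · obtain ⟨ν, hν⟩ := D.exists_nu
    exact ⟨D.irrRnu ν hν, D.degree_irrRnu ν hν⟩
  · have := r1 ψ₁ hψ₁
    norm_num
    exact_mod_cast this
  · norm_num
    exact_mod_cast h91
  · norm_num
    exact_mod_cast h14

/-- the degrees of the irreducible characters -/
theorem degrees [Fintype (Cfsg.IrrCharacter G)] (hr : r = 2 ∨ 4 ≤ r) :
    (∀ χ : Cfsg.IrrCharacter G, Cfsg.charDegree (χ : G → ℂ) = 1 ∨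
      Cfsg.charDegree (χ : G → ℂ) = q ^ 2 ∨ Cfsg.charDegree (χ : G → ℂ) = q ^ 2 + 1 ∨
      Cfsg.charDegree (χ : G → ℂ) = (q - 1) * (q - 2 * r + 1) ∨
      Cfsg.charDegree (χ : G → ℂ) = (q - 1) * (q + 2 * r + 1) ∨
      Cfsg.charDegree (χ : G → ℂ) = (q - 1) * r) ∧
    (∃ χ : Cfsg.IrrCharacter G, Cfsg.charDegree (χ : G → ℂ) = q ^ 2) ∧
    (∃ χ : Cfsg.IrrCharacter G, Cfsg.charDegree (χ : G → ℂ) = q ^ 2 + 1) ∧
    (∃ χ : Cfsg.IrrCharacter G, Cfsg.charDegree (χ : G → ℂ) = (q - 1) * (q - 2 * r + 1)) ∧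
    (∃ χ : Cfsg.IrrCharacter G, Cfsg.charDegree (χ : G → ℂ) = (q - 1) * (q + 2 * r + 1)) ∧
    (∃ χ : Cfsg.IrrCharacter G, Cfsg.charDegree (χ : G → ℂ) = (q - 1) * r) := by
  rcases hr with h | h
  · exact D.degrees_small h
  · exact D.degrees_generic h

end Hyp

end Cfsg.Agent.Helper8.SzCh
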