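import Mathlib
import Cfsg.Agent.Helper8.SzChP
import Cfsg.Agent.Helper8.SzSolA

set_option autoImplicit false
set_option linter.style.haveILetI false
set_option linter.unusedSectionVars false

/-!
The Suzuki groups are groups of Suzuki type in the sense of `SzCh.Hyp`.
-/

namespace Cfsg.Agent.Helper8.SzCh

open Cfsg.Agent.Helper7.Sz Cfsg.Agent.Helper7 MulAction Cfsg.Agent.Helper8.SzPart
  Cfsg.Agent.Helper8.SzSub Cfsg.Agent.Helper8.SzTI Cfsg.Agent.Helper8.LS Cfsg.Agent.Helper8.SzMax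
  Cfsg.Agent.Helper8.SzSol

variable {F : Type*} [Field F] [Fintype F] {m : ℕ}

/-- the elements of the kernel of the torus part are `2`-elements -/
theorem ker_two_elt (h : FH F m)
    (x : stabilizer (Cfsg.Sz F m) (ωinf m : Cfsg.suzukiOvoid F m)) (hx : torusHom h x = 1) :
    (x : Cfsg.Sz F m) ^ 2 ^ 2 = 1 := by
  have h1 : x ∈ (torusHom h).ker := MonoidHom.mem_ker.2 hx
  rw [torusHom_ker] at h1
  obtain ⟨c, d, e⟩ := h1
  rw [e]
  exact TelS_pow_four h c d

theorem torusHom_HelS (h : FH F m) (t : Fˣ)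
    (ht : HelS h t ∈ stabilizer (Cfsg.Sz F m) (ωinf m : Cfsg.suzukiOvoid F m)) :
    torusHom h ⟨HelS h t, ht⟩ = t := by
  apply torusFun_eq h ⟨HelS h t, ht⟩ (c := 0) (d := 0)
  rw [TelS_zero, one_mul]

theorem card_units_F (h : FH F m) : Nat.card Fˣ = 2 ^ (2 * m + 1) - 1 := by
  classical
  rw [Nat.card_eq_fintype_card, Fintype.card_units, h.card]

theorem frob_aux (h : FH F m) (x g : stabilizer (Cfsg.Sz F m) (ωinf m : Cfsg.suzukiOvoid F m))
    (hx : torusHom h x = 1) (hx1 : x ≠ 1) (hc : g * x = x * g) : torusHom h g = 1 := by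
  by_contra ht
  have A := act h
  have hq8 := A.q_ge
  set q := 2 ^ (2 * m + 1) with hq
  -- the power
  have hτ' : torusHom h (g ^ q ^ 2) ≠ 1 := by
    rw [map_pow]
    intro e
    have h1 : (torusHom h g) ^ (q - 1) = 1 := by
      rw [← card_units_F h]
      exact pow_card_eq_one'
    have hcop : Nat.Coprime (q ^ 2) (q - 1) := by
      rw [hq, ← pow_mul]
      apply Nat.Coprime.pow_left
      rw [Nat.coprime_two_left, Nat.odd_iff]
      have : 2 ^ (2 * m + 1) = 2 * 2 ^ (2 * m) := by rw [pow_succ]; ring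
      have hpos : 0 < 2 ^ (2 * m) := by positivity
      omega
    have h2 : (torusHom h g) ^ Nat.gcd (q ^ 2) (q - 1) = 1 := pow_gcd_eq_one.2 ⟨e, h1⟩
    rw [hcop.gcd_eq_one, pow_one] at h2
    exact ht h2
  have hg'1 : g ^ q ^ 2 ≠ 1 := by
    intro e
    rw [e, map_one] at hτ'
    exact hτ' rfl
  have hg'pow : (g ^ q ^ 2) ^ (q - 1) = 1 := by
    rw [← pow_mul, ← A.card_stabilizer (ωinf m : Cfsg.suzukiOvoid F m)]
    exact pow_card_eq_one'
  have hord : orderOf (g ^ q ^ 2) ∣ q - 1 := orderOf_dvd_of_pow_eq_one hg'pow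
  have hord1 : orderOf (g ^ q ^ 2) ≠ 1 := by
    rw [Ne, orderOf_eq_one_iff]
    exact hg'1
  set s := (orderOf (g ^ q ^ 2)).minFac with hs
  have hsp : s.Prime := Nat.minFac_prime hord1
  have hsd : s ∣ orderOf (g ^ q ^ 2) := Nat.minFac_dvd _
  have hfixa : ((g ^ q ^ 2 : stabilizer (Cfsg.Sz F m) (ωinf m : Cfsg.suzukiOvoid F m)) :
      Cfsg.Sz F m) • (ωinf m : Cfsg.suzukiOvoid F m) = ωinf m :=
    mem_stabilizer_iff.1 (g ^ q ^ 2).2
  obtain ⟨b, hba, hb⟩ := A.exists_two_fixed hsp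
    (by rw [Subgroup.orderOf_coe]; exact hsd) (hsd.trans hord) hfixa
  -- `x` commutes with the power
  have hcomm : ((g ^ q ^ 2 : stabilizer (Cfsg.Sz F m) (ωinf m : Cfsg.suzukiOvoid F m)) :
      Cfsg.Sz F m) * (x : Cfsg.Sz F m) = (x : Cfsg.Sz F m) *
      ((g ^ q ^ 2 : stabilizer (Cfsg.Sz F m) (ωinf m : Cfsg.suzukiOvoid F m)) : Cfsg.Sz F m) := by
    have h1 : Commute g x := hc
    have h2 : Commute (g ^ q ^ 2) x := h1.pow_left _
    exact congrArg Subtype.val h2.eq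
  have hxb : ((g ^ q ^ 2 : stabilizer (Cfsg.Sz F m) (ωinf m : Cfsg.suzukiOvoid F m)) :
      Cfsg.Sz F m) • ((x : Cfsg.Sz F m) • b) = (x : Cfsg.Sz F m) • b := by
    rw [← mul_smul, hcomm, mul_smul, hb]
  have hxa : (x : Cfsg.Sz F m) • (ωinf m : Cfsg.suzukiOvoid F m) = ωinf m :=
    mem_stabilizer_iff.1 x.2
  have hx1' : (x : Cfsg.Sz F m) ≠ 1 := fun e => hx1 (Subtype.ext e)
  have hx4 := ker_two_elt h x hx
  by_cases h1 : (x : Cfsg.Sz F m) • b = b
  · exact hba (fix_unique h hx1' hx4 h1 hxa)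
  · by_cases h2 : (x : Cfsg.Sz F m) • b = ωinf m
    · apply hba
      have : (x : Cfsg.Sz F m) • b = (x : Cfsg.Sz F m) • (ωinf m : Cfsg.suzukiOvoid F m) := by
        rw [h2, hxa]
      exact smul_left_cancel _ this
    · apply hg'1
      apply Subtype.ext
      exact A.three _ (ωinf m) b ((x : Cfsg.Sz F m) • b) (Ne.symm hba) (Ne.symm h1) (Ne.symm h2)
        hfixa hb hxb

/-- the Suzuki groups are of Suzuki type -/
noncomputable def szHyp (h : FH F m) :
    Hyp (Cfsg.Sz F m) (Cfsg.suzukiOvoid F m) Fˣ (2 ^ (2 * m + 1)) (2 ^ m)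
      (ωinf m : Cfsg.suzukiOvoid F m) (pt m (0 : F) 0) where
  act := act h
  ctx := ctx h
  hab := (pt_ne_inf (m := m) (0 : F) 0).symm
  τ := torusHom h
  cardT := card_units_F h
  hHsurj := by
    intro t
    have ht : HelS h t ∈ stabilizer (Cfsg.Sz F m) (ωinf m : Cfsg.suzukiOvoid F m) :=
      mem_stabilizer_iff.2 (HelS_smul_inf h t)
    refine ⟨⟨HelS h t, ht⟩, ?_, torusHom_HelS h t ht⟩
    show HelS h t • pt m (0 : F) 0 = pt m 0 0
    rw [HelS_smul_pt, mul_zero, mul_zero]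
  hH := by
    intro g hg hτ
    obtain ⟨t, c, d, e⟩ := exists_torus h g
    have e1 : torusHom h g = t := torusFun_eq h g e
    rw [hτ] at e1
    subst e1
    rw [HelS_one, mul_one] at e
    rw [e, TelS_smul_pt] at hg
    obtain ⟨h1, h2⟩ := pt_injective hg
    rw [zero_add] at h1
    rw [h1, zero_add, mul_zero, add_zero] at h2
    apply Subtype.ext
    rw [e, h1, h2, TelS_zero]
    rfl
  w := WelS h
  hwa := WelS_smul_inf h
  hwb := WelS_smul_zero h
  hinv := by
    intro g hg hw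
    obtain ⟨t, ht⟩ := eq_HelS_of_fix h (mem_stabilizer_iff.1 g.2) hg
    have hwinv : (WelS h)⁻¹ = WelS h := inv_eq_of_mul_eq_one_right (WelS_mul_WelS h)
    have e1 : (WelS h)⁻¹ * (g : Cfsg.Sz F m) * WelS h = HelS h t⁻¹ := by
      rw [hwinv, ht, WelS_HelS_WelS]
    have e2 : torusHom h g = t := by
      apply torusFun_eq h g (c := 0) (d := 0)
      rw [TelS_zero, one_mul, ht]
    rw [e2]
    apply torusFun_eq h _ (c := 0) (d := 0)
    rw [TelS_zero, one_mul]
    exact e1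
  hfrob := frob_aux h
  hfix := by
    intro x hx hx1 c hc
    have hx1' : (x : Cfsg.Sz F m) ≠ 1 := fun e => hx1 (Subtype.ext e)
    exact fix_unique h hx1' (ker_two_elt h x hx) hc (mem_stabilizer_iff.1 x.2)

end Cfsg.Agent.Helper8.SzCh
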