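import Mathlib
import Cfsg.Prelude.Def_DegreeGraph
import Cfsg.Agent.Helper6.BrauerPerm2

set_option autoImplicit false

/-!
The character degree graph of a group whose character degrees are those of a Suzuki group.
-/

namespace Cfsg.Agent.Helper8.SzCh

open Cfsg.Agent.Helper6

theorem charDegrees_subset_mulEquiv {S : Type*} {G : Type*} [Group S] [Group G] [Finite S]
    [Finite G] (e : S ≃* G) : Cfsg.charDegrees G ⊆ Cfsg.charDegrees S := by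
  rintro d ⟨χ, hχ⟩
  refine ⟨⟨(χ : G → ℂ) ∘ e, IsIrrCharacter.comp_mulEquiv e χ.2⟩, ?_⟩
  rw [← hχ]
  unfold Cfsg.charDegree
  simp only [Function.comp_apply, map_one]

theorem charDegrees_eq_mulEquiv {S : Type*} {G : Type*} [Group S] [Group G] [Finite S]
    [Finite G] (e : S ≃* G) : Cfsg.charDegrees S = Cfsg.charDegrees G :=
  Set.Subset.antisymm (charDegrees_subset_mulEquiv e.symm) (charDegrees_subset_mulEquiv e)

theorem prime_eq_two_of_dvd_two_pow {p k : ℕ} (hp : p.Prime) (h : p ∣ 2 ^ k) : p = 2 :=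
  (Nat.prime_dvd_prime_iff_eq hp Nat.prime_two).1 (hp.dvd_of_dvd_pow h)

/-- the degree graph from the degree set -/
theorem graph_of_degrees {S : Type*} [Group S] {q r n₁ n₂ m : ℕ} (hr : r = 2 ^ m) (hm : 1 ≤ m)
    (hq : q = 2 ^ (2 * m + 1)) (hn : n₁ * n₂ = q ^ 2 + 1)
    (H : ∀ d ∈ Cfsg.charDegrees S, d = 1 ∨ d = q ^ 2 ∨ d = q ^ 2 + 1 ∨ d = (q - 1) * n₂ ∨
      d = (q - 1) * n₁ ∨ d = (q - 1) * r)
    (h1 : q ^ 2 ∈ Cfsg.charDegrees S) (h2 : q ^ 2 + 1 ∈ Cfsg.charDegrees S)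
    (h3 : (q - 1) * n₂ ∈ Cfsg.charDegrees S) (h4 : (q - 1) * n₁ ∈ Cfsg.charDegrees S)
    (h5 : (q - 1) * r ∈ Cfsg.charDegrees S) :
    Cfsg.degreePrimes S = {p : ℕ | p.Prime ∧ (p = 2 ∨ p ∣ (q - 1) * (q ^ 2 + 1))} ∧
      ∀ p₁ p₂ : ℕ, (Cfsg.degreeGraph S).Adj p₁ p₂ ↔
        (p₁ ≠ p₂ ∧ p₁.Prime ∧ p₂.Prime ∧
          ((p₁ ∣ (q - 1) * (q ^ 2 + 1) ∧ p₂ ∣ (q - 1) * (q ^ 2 + 1)) ∨
            (p₁ = 2 ∧ p₂ ∣ q - 1) ∨ (p₂ = 2 ∧ p₁ ∣ q - 1))) := by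
  have hq2 : q ^ 2 = 2 ^ (2 * (2 * m + 1)) := by rw [hq, ← pow_mul]; ring_nf
  have h2r : 2 ∣ r := by
    rw [hr]
    exact dvd_pow_self 2 (by omega)
  -- a prime dividing a degree
  have key : ∀ p : ℕ, p.Prime → ∀ d ∈ Cfsg.charDegrees S, p ∣ d →
      (p = 2 ∧ (d = q ^ 2 ∨ d = (q - 1) * r)) ∨ (p ∣ q - 1 ∧ d ∣ (q - 1) * (q ^ 2 + 1)) ∨
      (p ∣ q - 1 ∧ d = (q - 1) * r) ∨ (p ∣ q ^ 2 + 1 ∧ d ∣ (q - 1) * (q ^ 2 + 1)) := by
    intro p hp d hd hpd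
    rcases H d hd with rfl | rfl | rfl | rfl | rfl | rfl
    · exact absurd (Nat.dvd_one.1 hpd) hp.one_lt.ne'
    · left
      rw [hq2] at hpd
      exact ⟨prime_eq_two_of_dvd_two_pow hp hpd, Or.inl rfl⟩
    · right; right; right
      exact ⟨hpd, Dvd.intro_left _ rfl⟩
    · have hdd : (q - 1) * n₂ ∣ (q - 1) * (q ^ 2 + 1) :=
        mul_dvd_mul_left _ (by rw [← hn]; exact Dvd.intro_left _ rfl)
      rcases (Nat.Prime.dvd_mul hp).1 hpd with h | h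
      · right; left; exact ⟨h, hdd⟩
      · right; right; right
        exact ⟨h.trans (by rw [← hn]; exact Dvd.intro_left _ rfl), hdd⟩
    · have hdd : (q - 1) * n₁ ∣ (q - 1) * (q ^ 2 + 1) :=
        mul_dvd_mul_left _ (by rw [← hn]; exact Dvd.intro _ rfl)
      rcases (Nat.Prime.dvd_mul hp).1 hpd with h | h
      · right; left; exact ⟨h, hdd⟩
      · right; right; right
        exact ⟨h.trans (by rw [← hn]; exact Dvd.intro _ rfl), hdd⟩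
    · rcases (Nat.Prime.dvd_mul hp).1 hpd with h | h
      · right; right; left; exact ⟨h, rfl⟩
      · left
        rw [hr] at h
        exact ⟨prime_eq_two_of_dvd_two_pow hp h, Or.inr rfl⟩
  -- a prime dividing `(q - 1) (q² + 1)`
  have key2 : ∀ p : ℕ, p.Prime → p ∣ (q - 1) * (q ^ 2 + 1) → p ∣ q - 1 ∨ p ∣ n₁ ∨ p ∣ n₂ := by
    intro p hp h
    rcases (Nat.Prime.dvd_mul hp).1 h with h | h
    · exact Or.inl h
    · rw [← hn] at h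
      rcases (Nat.Prime.dvd_mul hp).1 h with h | h
      · exact Or.inr (Or.inl h)
      · exact Or.inr (Or.inr h)
  constructor
  · ext p
    simp only [Cfsg.degreePrimes, Set.mem_ofPred_eq]
    constructor
    · rintro ⟨hp, d, hd, hpd⟩
      refine ⟨hp, ?_⟩
      rcases key p hp d hd hpd with ⟨h, -⟩ | ⟨h, -⟩ | ⟨h, -⟩ | ⟨h, -⟩
      · exact Or.inl h
      · exact Or.inr (Dvd.dvd.mul_right h _)
      · exact Or.inr (Dvd.dvd.mul_right h _)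
      · exact Or.inr (Dvd.dvd.mul_left h _)
    · rintro ⟨hp, h | h⟩
      · refine ⟨hp, q ^ 2, h1, ?_⟩
        rw [h, hq2]
        exact dvd_pow_self 2 (by omega)
      · refine ⟨hp, ?_⟩
        rcases (Nat.Prime.dvd_mul hp).1 h with h' | h'
        · exact ⟨(q - 1) * r, h5, Dvd.dvd.mul_right h' _⟩
        · exact ⟨q ^ 2 + 1, h2, h'⟩
  · intro p₁ p₂
    simp only [Cfsg.degreeGraph]
    constructor
    · rintro ⟨hne, hp₁, hp₂, d, hd, hdvd⟩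
      refine ⟨hne, hp₁, hp₂, ?_⟩
      have hd₁ : p₁ ∣ d := (Dvd.intro _ rfl).trans hdvd
      have hd₂ : p₂ ∣ d := (Dvd.intro_left _ rfl).trans hdvd
      have k₁ := key p₁ hp₁ d hd hd₁
      have k₂ := key p₂ hp₂ d hd hd₂
      -- the case of a degree dividing `(q - 1) (q² + 1)`
      by_cases hdd : d ∣ (q - 1) * (q ^ 2 + 1)
      · exact Or.inl ⟨hd₁.trans hdd, hd₂.trans hdd⟩
      · rcases k₁ with ⟨e₁, -⟩ | ⟨-, h⟩ | ⟨e₁, -⟩ | ⟨-, h⟩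
        · rcases k₂ with ⟨e₂, -⟩ | ⟨-, h⟩ | ⟨e₂, -⟩ | ⟨-, h⟩
          · exact absurd (e₁.trans e₂.symm) hne
          · exact absurd h hdd
          · exact Or.inr (Or.inl ⟨e₁, e₂⟩)
          · exact absurd h hdd
        · exact absurd h hdd
        · rcases k₂ with ⟨e₂, -⟩ | ⟨-, h⟩ | ⟨e₂, -⟩ | ⟨-, h⟩
          · exact Or.inr (Or.inr ⟨e₂, e₁⟩)
          · exact absurd h hdd
          · exact Or.inl ⟨Dvd.dvd.mul_right e₁ _, Dvd.dvd.mul_right e₂ _⟩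
          · exact absurd h hdd
        · exact absurd h hdd
    · rintro ⟨hne, hp₁, hp₂, h⟩
      refine ⟨hne, hp₁, hp₂, ?_⟩
      have hcop : Nat.Coprime p₁ p₂ := (Nat.coprime_primes hp₁ hp₂).mpr hne
      rcases h with ⟨u₁, u₂⟩ | ⟨e, u⟩ | ⟨e, u⟩
      · rcases key2 p₁ hp₁ u₁ with a₁ | a₁ | a₁ <;> rcases key2 p₂ hp₂ u₂ with a₂ | a₂ | a₂
        · exact ⟨(q - 1) * r, h5, Dvd.dvd.mul_right (hcop.mul_dvd_of_dvd_of_dvd a₁ a₂) _⟩
        · exact ⟨(q - 1) * n₁, h4, mul_dvd_mul a₁ a₂⟩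
        · exact ⟨(q - 1) * n₂, h3, mul_dvd_mul a₁ a₂⟩
        · exact ⟨(q - 1) * n₁, h4, by rw [mul_comm p₁ p₂]; exact mul_dvd_mul a₂ a₁⟩
        · exact ⟨(q - 1) * n₁, h4, Dvd.dvd.mul_left (hcop.mul_dvd_of_dvd_of_dvd a₁ a₂) _⟩
        · exact ⟨q ^ 2 + 1, h2, by rw [← hn]; exact mul_dvd_mul a₁ a₂⟩
        · exact ⟨(q - 1) * n₂, h3, by rw [mul_comm p₁ p₂]; exact mul_dvd_mul a₂ a₁⟩
        · exact ⟨q ^ 2 + 1, h2, by rw [← hn, mul_comm p₁ p₂]; exact mul_dvd_mul a₂ a₁⟩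
        · exact ⟨(q - 1) * n₂, h3, Dvd.dvd.mul_left (hcop.mul_dvd_of_dvd_of_dvd a₁ a₂) _⟩
      · refine ⟨(q - 1) * r, h5, ?_⟩
        rw [e, mul_comm 2 p₂]
        exact mul_dvd_mul u h2r
      · refine ⟨(q - 1) * r, h5, ?_⟩
        rw [e]
        exact mul_dvd_mul u h2r

end Cfsg.Agent.Helper8.SzCh
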