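import Mathlib
import Cfsg.Agent.Helper8.SzSolJ

set_option autoImplicit false

/-!
Covers of the Suzuki groups by proper subgroups: a minimal cover is never made of nilpotent
subgroups.
-/

namespace Cfsg.Agent.Helper8.SzCov

open Cfsg.Agent.Helper7.Sz Cfsg.Agent.Helper7 MulAction Cfsg.Agent.Helper8.SzPart
  Cfsg.Agent.Helper8.SzSub Cfsg.Agent.Helper8.SzTI Cfsg.Agent.Helper8.LS Cfsg.Agent.Helper8.SzMax
  Cfsg.Agent.Helper8.SzSol

/-! ### Covers and their transport -/

/-- a cover by proper subgroups -/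
def IsCover {G : Type*} [Group G] (𝓐 : Finset (Subgroup G)) : Prop :=
  (∀ A ∈ 𝓐, A ≠ ⊤) ∧ ∀ g : G, ∃ A ∈ 𝓐, g ∈ A

/-- a minimal cover all of whose members are nilpotent -/
def NilMinCover {G : Type*} [Group G] (𝓐 : Finset (Subgroup G)) : Prop :=
  IsCover 𝓐 ∧ (∀ 𝓑 : Finset (Subgroup G), IsCover 𝓑 → 𝓐.card ≤ 𝓑.card) ∧
    ∀ A ∈ 𝓐, Group.IsNilpotent ↥A

section transport

variable {G G' : Type*} [Group G] [Group G']

open Classical in
theorem IsCover.map (e : G ≃* G') {𝓐 : Finset (Subgroup G)} (h : IsCover 𝓐) :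
    IsCover (𝓐.image (Subgroup.map e.toMonoidHom)) := by
  constructor
  · intro B hB
    obtain ⟨A, hA, rfl⟩ := Finset.mem_image.1 hB
    intro htop
    apply h.1 A hA
    rw [eq_top_iff]
    intro g _
    have : e g ∈ Subgroup.map e.toMonoidHom A := by
      rw [htop]
      exact Subgroup.mem_top _
    rw [Subgroup.mem_map_equiv, MulEquiv.symm_apply_apply] at this
    exact this
  · intro g'
    obtain ⟨A, hA, hg⟩ := h.2 (e.symm g')
    exact ⟨Subgroup.map e.toMonoidHom A, Finset.mem_image_of_mem _ hA, Subgroup.mem_map_equiv.2 hg⟩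

open Classical in
theorem card_image_map (e : G ≃* G') (𝓐 : Finset (Subgroup G)) :
    (𝓐.image (Subgroup.map e.toMonoidHom)).card = 𝓐.card :=
  Finset.card_image_of_injective _ (Subgroup.map_injective e.injective)

open Classical in
theorem NilMinCover.map (e : G ≃* G') {𝓐 : Finset (Subgroup G)} (h : NilMinCover 𝓐) :
    NilMinCover (𝓐.image (Subgroup.map e.toMonoidHom)) := by
  refine ⟨h.1.map e, ?_, ?_⟩
  · intro 𝓑 h𝓑
    have h1 := h.2.1 _ (h𝓑.map e.symm)
    rw [card_image_map] at h1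
    rw [card_image_map]
    exact h1
  · intro B hB
    obtain ⟨A, hA, rfl⟩ := Finset.mem_image.1 hB
    have := h.2.2 A hA
    exact Group.nilpotent_of_mulEquiv (e.subgroupMap A)

end transport

variable {F : Type*} [Field F] [Fintype F] {m : ℕ}

/-! ### Nilpotent subgroups of the Suzuki group -/

/-- a nilpotent subgroup meeting a cyclic member of the partition lies in it -/
theorem nilpotent_le_cyc (h : FH F m) {A U : Subgroup (Cfsg.Sz F m)} (hA : Group.IsNilpotent ↥A)
    (hU : IsCyc m U) {u : Cfsg.Sz F m} (hu : u ∈ U) (hu1 : u ≠ 1) (huA : u ∈ A) : A ≤ U := by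
  have hnt : Nontrivial ↥A := ⟨⟨⟨u, huA⟩, 1, fun e => hu1 (congrArg Subtype.val e)⟩⟩
  have hc := Group.IsNilpotent.center_ne_bot ↥A
  obtain ⟨⟨z, hz⟩, hz1⟩ := Subgroup.ne_bot_iff_exists_ne_one.1 hc
  have hz1' : (z : Cfsg.Sz F m) ≠ 1 := by
    intro e
    apply hz1
    apply Subtype.ext
    apply Subtype.ext
    exact e
  have hcomm : ∀ a ∈ A, a * (z : Cfsg.Sz F m) = (z : Cfsg.Sz F m) * a := by
    intro a ha
    have := Subgroup.mem_center_iff.1 hz ⟨a, ha⟩
    exact congrArg Subtype.val this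
  have hzU : (z : Cfsg.Sz F m) ∈ U := cyc_centralizer h hU hu hu1 (hcomm u huA).symm
  intro a ha
  exact cyc_centralizer h hU hzU hz1' (hcomm a ha)

/-- every cyclic member of the partition belongs to a nilpotent cover -/
theorem cyc_mem_cover (h : FH F m) {𝓐 : Finset (Subgroup (Cfsg.Sz F m))} (hcov : IsCover 𝓐)
    (hnil : ∀ A ∈ 𝓐, Group.IsNilpotent ↥A) {U : Subgroup (Cfsg.Sz F m)} (hU : IsCyc m U) :
    U ∈ 𝓐 := by
  have := hU.1
  obtain ⟨g, hg⟩ := IsCyclic.exists_generator (α := U)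
  have h1c := (list_facts h.hm hU.2).2
  have hord : orderOf (g : Cfsg.Sz F m) = Nat.card U := by
    rw [Subgroup.orderOf_coe]
    exact orderOf_eq_card_of_forall_mem_zpowers hg
  have hg1 : (g : Cfsg.Sz F m) ≠ 1 := by
    intro e
    rw [e, orderOf_one] at hord
    omega
  obtain ⟨A, hA, hgA⟩ := hcov.2 (g : Cfsg.Sz F m)
  have hle : A ≤ U := nilpotent_le_cyc h (hnil A hA) hU g.2 hg1 hgA
  have hge : U ≤ A := by
    intro v hv
    obtain ⟨k, hk⟩ := Subgroup.mem_zpowers_iff.1 (hg ⟨v, hv⟩)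
    have : v = (g : Cfsg.Sz F m) ^ k := by
      have := congrArg Subtype.val hk
      rw [Subgroup.coe_zpow] at this
      exact this.symm
    rw [this]
    exact Subgroup.zpow_mem _ hgA k
  rw [← le_antisymm hle hge]
  exact hA

/-- an involution with a given fixed point -/
theorem exists_involution_fix (h : FH F m) (a : Cfsg.suzukiOvoid F m) :
    ∃ t : Cfsg.Sz F m, t ≠ 1 ∧ t * t = 1 ∧ t • a = a ∧
      ∀ b : Cfsg.suzukiOvoid F m, t • b = b → b = a := by
  obtain ⟨k, hk⟩ := exists_smul_inf h a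
  have hka : k⁻¹ • (ωinf m : Cfsg.suzukiOvoid F m) = a := by rw [← hk, inv_smul_smul]
  refine ⟨k⁻¹ * tau h * k⁻¹⁻¹, conj_ne_one (tau_ne_one h) k⁻¹, ?_, ?_, ?_⟩
  · have : k⁻¹ * tau h * k⁻¹⁻¹ * (k⁻¹ * tau h * k⁻¹⁻¹) = k⁻¹ * (tau h * tau h) * k := by group
    rw [this, tau_sq]
    group
  · rw [← hka]
    exact conj_smul (tau_smul_inf h)
  · intro b hb
    have h1 : tau h • (k • b) = k • b := by
      have : tau h • (k • b) = k • ((k⁻¹ * tau h * k⁻¹⁻¹) • b) := by
        rw [← mul_smul, ← mul_smul]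
        congr 1
        group
      rw [this, hb]
    have h2 := tau_fix h _ h1
    rw [← hka, ← h2, inv_smul_smul]

/-- a nilpotent subgroup containing an involution fixes the fixed point of the involution -/
theorem nilpotent_le_stabilizer (h : FH F m) {A : Subgroup (Cfsg.Sz F m)}
    (hA : Group.IsNilpotent ↥A) {t : Cfsg.Sz F m} (ht1 : t ≠ 1) (ht2 : t * t = 1)
    {a : Cfsg.suzukiOvoid F m} (hta : t • a = a)
    (huniq : ∀ b : Cfsg.suzukiOvoid F m, t • b = b → b = a) (htA : t ∈ A) :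
    A ≤ stabilizer (Cfsg.Sz F m) a := by
  have hnt : Nontrivial ↥A := ⟨⟨⟨t, htA⟩, 1, fun e => ht1 (congrArg Subtype.val e)⟩⟩
  have hc := Group.IsNilpotent.center_ne_bot ↥A
  obtain ⟨⟨z, hz⟩, hz1⟩ := Subgroup.ne_bot_iff_exists_ne_one.1 hc
  have hz1' : (z : Cfsg.Sz F m) ≠ 1 := by
    intro e
    apply hz1
    apply Subtype.ext
    apply Subtype.ext
    exact e
  have hcomm : ∀ y ∈ A, y * (z : Cfsg.Sz F m) = (z : Cfsg.Sz F m) * y := by
    intro y hy
    have := Subgroup.mem_center_iff.1 hz ⟨y, hy⟩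
    exact congrArg Subtype.val this
  -- `z` fixes `a`, and only `a`
  have hza : (z : Cfsg.Sz F m) • a = a :=
    fix_of_commute h ht1 (sq_pow ht2) (hcomm t htA).symm hta
  have hzuniq : ∀ b : Cfsg.suzukiOvoid F m, (z : Cfsg.Sz F m) • b = b → b = a := by
    intro b hb
    by_contra hne
    have htb : (z : Cfsg.Sz F m) • (t • b) = t • b := by
      rw [← mul_smul, ← hcomm t htA, mul_smul, hb]
    rcases fix_subset h hz1' (Ne.symm hne) hza hb htb with e | e
    · apply hne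
      have : t • b = t • a := by rw [e, hta]
      exact MulAction.injective t this
    · exact hne (huniq b e)
  intro y hy
  rw [mem_stabilizer_iff]
  apply hzuniq
  rw [← mul_smul, ← hcomm y hy, mul_smul, hza]

/-! ### The main theorem -/

open Classical in
theorem no_nilMinCover (h : FH F m) :
    ¬ ∃ 𝓐 : Finset (Subgroup (Cfsg.Sz F m)), NilMinCover 𝓐 := by
  rintro ⟨𝓐, hcov, hmin, hnil⟩
  have hfin : Fintype (Cfsg.suzukiOvoid F m) := Fintype.ofFinite _
  -- the subgroups of the cover through the involutions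
  have hch : ∀ a : Cfsg.suzukiOvoid F m, ∃ A : Subgroup (Cfsg.Sz F m), A ∈ 𝓐 ∧
      ∃ t : Cfsg.Sz F m, t ≠ 1 ∧ t * t = 1 ∧ t • a = a ∧
        (∀ b : Cfsg.suzukiOvoid F m, t • b = b → b = a) ∧ t ∈ A := by
    intro a
    obtain ⟨t, h1, h2, h3, h4⟩ := exists_involution_fix h a
    obtain ⟨A, hA, htA⟩ := hcov.2 t
    exact ⟨A, hA, t, h1, h2, h3, h4, htA⟩
  choose f hf𝓐 hft using hch
  have hfstab : ∀ a, f a ≤ stabilizer (Cfsg.Sz F m) a := by
    intro a
    obtain ⟨t, h1, h2, h3, h4, h5⟩ := hft a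
    exact nilpotent_le_stabilizer h (hnil _ (hf𝓐 a)) h1 h2 h3 h4 h5
  have hfinj : Function.Injective f := by
    intro a b hab
    obtain ⟨t, h1, h2, h3, h4, h5⟩ := hft b
    rw [← hab] at h5
    exact h4 a (mem_stabilizer_iff.1 (hfstab a h5))
  have hfcyc : ∀ a, ¬ IsCyc m (f a) := by
    intro a hU
    obtain ⟨t, h1, h2, h3, h4, h5⟩ := hft a
    have hodd := odd_orderOf_of_mem_cyc h hU h5
    have hd : orderOf t ∣ 2 := orderOf_dvd_of_pow_eq_one (by rw [pow_two, h2])
    rcases (Nat.dvd_prime Nat.prime_two).1 hd with e | e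
    · exact h1 (orderOf_eq_one_iff.1 e)
    · rw [e] at hodd
      exact absurd hodd (by decide)
  -- the pieces of the cover
  set p : Subgroup (Cfsg.Sz F m) → Prop :=
    fun U => IsCyc m U ∧ Nat.card U ≠ 2 ^ (2 * m + 1) - 1 with hp
  set 𝓒 := 𝓐.filter p with h𝓒
  set 𝓔 := (Finset.univ : Finset (Cfsg.suzukiOvoid F m)).image f with h𝓔
  obtain ⟨U₀, hU₀, hcU₀⟩ := exists_isCyc_split h
  have hU₀𝓐 : U₀ ∈ 𝓐 := cyc_mem_cover h hcov hnil hU₀
  have hcard𝓔 : 𝓔.card = Fintype.card (Cfsg.suzukiOvoid F m) := by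
    rw [h𝓔, Finset.card_image_of_injective _ hfinj, Finset.card_univ]
  have hdisj : Disjoint 𝓒 𝓔 := by
    rw [Finset.disjoint_left]
    intro U hU hU'
    obtain ⟨a, -, rfl⟩ := Finset.mem_image.1 hU'
    exact hfcyc a (Finset.mem_filter.1 hU).2.1
  have hU₀not : U₀ ∉ 𝓒 ∪ 𝓔 := by
    intro hmem
    rcases Finset.mem_union.1 hmem with hU | hU
    · exact (Finset.mem_filter.1 hU).2.2 hcU₀
    · obtain ⟨a, -, e⟩ := Finset.mem_image.1 hU
      exact hfcyc a (e ▸ hU₀)
  have hsub : insert U₀ (𝓒 ∪ 𝓔) ⊆ 𝓐 := by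
    intro U hU
    rcases Finset.mem_insert.1 hU with rfl | hU
    · exact hU₀𝓐
    · rcases Finset.mem_union.1 hU with hU | hU
      · exact (Finset.mem_filter.1 hU).1
      · obtain ⟨a, -, rfl⟩ := Finset.mem_image.1 hU
        exact hf𝓐 a
  have hlow : 𝓒.card + Fintype.card (Cfsg.suzukiOvoid F m) + 1 ≤ 𝓐.card := by
    have := Finset.card_le_card hsub
    rw [Finset.card_insert_of_notMem hU₀not, Finset.card_union_of_disjoint hdisj, hcard𝓔] at this
    exact this
  -- the smaller cover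
  set 𝓑 := (Finset.univ : Finset (Cfsg.suzukiOvoid F m)).image
    (fun a => stabilizer (Cfsg.Sz F m) a) ∪ 𝓒 with h𝓑
  have h𝓑cov : IsCover 𝓑 := by
    constructor
    · intro B hB
      rcases Finset.mem_union.1 hB with hB | hB
      · obtain ⟨a, -, rfl⟩ := Finset.mem_image.1 hB
        exact stabilizer_ne_top h a
      · exact hcov.1 B (Finset.mem_filter.1 hB).1
    · intro g
      by_cases hfix : ∃ a : Cfsg.suzukiOvoid F m, g • a = a
      · obtain ⟨a, ha⟩ := hfix
        refine ⟨stabilizer (Cfsg.Sz F m) a, Finset.mem_union_left _ ?_, mem_stabilizer_iff.2 ha⟩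
        exact Finset.mem_image_of_mem _ (Finset.mem_univ a)
      · push Not at hfix
        have hg1 : g ≠ 1 := by
          rintro rfl
          exact hfix (ωinf m) (one_smul _ _)
        have hgX : g ∈ XX (Cfsg.Sz F m) (2 ^ (2 * m + 1)) :=
          ⟨hg1, (act h).pow_eq_one_of_fpf hfix⟩
        have hcz := isCyc_Cz h hgX
        refine ⟨Cz g, Finset.mem_union_right _ ?_, self_mem_Cz g⟩
        exact Finset.mem_filter.2 ⟨cyc_mem_cover h hcov hnil hcz, hcz, card_Cz_ne h hgX⟩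
  have hup : 𝓑.card ≤ Fintype.card (Cfsg.suzukiOvoid F m) + 𝓒.card := by
    refine (Finset.card_union_le _ _).trans ?_
    have := Finset.card_image_le (s := (Finset.univ : Finset (Cfsg.suzukiOvoid F m)))
      (f := fun a => stabilizer (Cfsg.Sz F m) a)
    rw [Finset.card_univ] at this
    omega
  have := hmin 𝓑 h𝓑cov
  omega

end Cfsg.Agent.Helper8.SzCov
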