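import Mathlib
import Cfsg.Agent.Helper8.SzSolC

set_option autoImplicit false

/-!
Counting fixed points in a transitive action of a finite group, and transport of double
transitivity between two actions with a common point stabilizer.
-/

namespace Cfsg.Agent.Helper8.SzFix

open MulAction Cfsg.Agent.Helper8.SzSol

section abstract

variable {G : Type*} [Group G] {Ω : Type*} [MulAction G Ω]

theorem conj_mem_stabilizer_iff (α : Ω) (g x : G) :
    x⁻¹ * g * x ∈ stabilizer G α ↔ g • x • α = x • α := by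
  rw [mem_stabilizer_iff, mul_smul, mul_smul, inv_smul_eq_iff]

/-- the number of fixed points of an element of a transitive group -/
theorem fix_formula [Finite G] [Finite Ω] [IsPretransitive G Ω] (α : Ω) (g : G) :
    Nat.card {x : G // x⁻¹ * g * x ∈ stabilizer G α} =
      (fixedBy Ω g).ncard * Nat.card (stabilizer G α) := by
  classical
  let f : {x : G // x⁻¹ * g * x ∈ stabilizer G α} → fixedBy Ω g :=
    fun x => ⟨x.1 • α, (conj_mem_stabilizer_iff α g x.1).1 x.2⟩
  rw [← Nat.card_coe_set_eq]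
  apply card_eq_mul_of_fibers f
  rintro ⟨β, hβ⟩
  obtain ⟨x₀, hx₀⟩ := exists_smul_eq G α β
  apply Nat.card_congr
  refine ⟨fun x => ⟨x₀⁻¹ * x.1.1, ?_⟩, fun k => ⟨⟨x₀ * k.1, ?_⟩, ?_⟩, ?_, ?_⟩
  · have h1 : x.1.1 • α = β := congrArg Subtype.val x.2
    rw [mem_stabilizer_iff, mul_smul, h1, inv_smul_eq_iff, hx₀]
  · rw [conj_mem_stabilizer_iff, mul_smul, mem_stabilizer_iff.1 k.2, hx₀]
    exact hβ
  · apply Subtype.ext
    show (x₀ * k.1) • α = β
    rw [mul_smul, mem_stabilizer_iff.1 k.2, hx₀]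
  · intro x
    apply Subtype.ext
    apply Subtype.ext
    show x₀ * (x₀⁻¹ * x.1.1) = x.1.1
    group
  · intro k
    apply Subtype.ext
    show x₀⁻¹ * (x₀ * k.1) = k.1
    group

/-- the fixed point formula: `|Fix(g)| |G_α| = |g^G ∩ G_α| |C(g)|` -/
theorem fix_formula' [Finite G] [Finite Ω] [IsPretransitive G Ω] (α : Ω) (g : G) :
    (fixedBy Ω g).ncard * Nat.card (stabilizer G α) =
      Nat.card {z : G // z ∈ stabilizer G α ∧ ∃ x : G, x⁻¹ * g * x = z} *
        Nat.card (Subgroup.centralizer ({g} : Set G)) := by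
  rw [← fix_formula]
  exact card_conj_mem ((stabilizer G α : Subgroup G) : Set G) g

/-- an element commuting with `t` permutes the fixed points of `t`; if there are at most two of them,
its square fixes them -/
theorem sq_smul_of_commute [Finite Ω] {t v : G} (hc : v * t = t * v)
    (h2 : (fixedBy Ω t).ncard ≤ 2) {α : Ω} (hα : t • α = α) : (v * v) • α = α := by
  by_contra hne
  have hv : ∀ β : Ω, t • β = β → t • v • β = v • β := by
    intro β hβ
    rw [← mul_smul, ← hc, mul_smul, hβ]
  have h1 : v • α ∈ fixedBy Ω t := hv α hα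
  have h2' : v • v • α ∈ fixedBy Ω t := hv _ h1
  have hne' : v • v • α ≠ α := by rwa [← mul_smul]
  have hab : α ≠ v • α := by
    intro e
    apply hne'
    rw [← e, ← e]
  have hbc : v • α ≠ v • v • α := by
    intro e
    exact hab (smul_left_cancel v e)
  have : 2 < (fixedBy Ω t).ncard :=
    (Set.two_lt_ncard_iff).2 ⟨α, v • α, v • v • α, hα, h1, h2', hab, hne'.symm, hbc⟩
  omega

theorem smul_eq_iff_of_stabilizer_eq {Ω' : Type*} [MulAction G Ω'] {α : Ω} {a : Ω'}
    (hst : stabilizer G α = stabilizer G a) (x y : G) : x • α = y • α ↔ x • a = y • a := by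
  have h1 : x • α = y • α ↔ y⁻¹ * x ∈ stabilizer G α := by
    rw [mem_stabilizer_iff, mul_smul, inv_smul_eq_iff]
  have h2 : x • a = y • a ↔ y⁻¹ * x ∈ stabilizer G a := by
    rw [mem_stabilizer_iff, mul_smul, inv_smul_eq_iff]
  rw [h1, h2, hst]

/-- double transitivity only depends on the point stabilizer -/
theorem two_trans_of_stabilizer_eq [IsPretransitive G Ω] {Ω' : Type*} [MulAction G Ω']
    (h2 : IsMultiplyPretransitive G Ω' 2) {α : Ω} {a : Ω'}
    (hst : stabilizer G α = stabilizer G a) : IsMultiplyPretransitive G Ω 2 := by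
  rw [is_two_pretransitive_iff] at h2 ⊢
  intro ω₁ ω₂ ω₃ ω₄ h12 h34
  obtain ⟨g₁, rfl⟩ := exists_smul_eq G α ω₁
  obtain ⟨g₂, rfl⟩ := exists_smul_eq G α ω₂
  obtain ⟨g₃, rfl⟩ := exists_smul_eq G α ω₃
  obtain ⟨g₄, rfl⟩ := exists_smul_eq G α ω₄
  have h12' : g₁ • a ≠ g₂ • a := fun e => h12 ((smul_eq_iff_of_stabilizer_eq hst g₁ g₂).2 e)
  have h34' : g₃ • a ≠ g₄ • a := fun e => h34 ((smul_eq_iff_of_stabilizer_eq hst g₃ g₄).2 e)
  obtain ⟨g, hg1, hg2⟩ := h2 h12' h34'
  refine ⟨g, ?_, ?_⟩
  · rw [← mul_smul] at hg1 ⊢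
    exact (smul_eq_iff_of_stabilizer_eq hst _ _).2 hg1
  · rw [← mul_smul] at hg2 ⊢
    exact (smul_eq_iff_of_stabilizer_eq hst _ _).2 hg2

theorem card_eq_of_stabilizer_eq [IsPretransitive G Ω] {Ω' : Type*} [MulAction G Ω']
    [IsPretransitive G Ω'] {α : Ω} {a : Ω'}
    (hst : stabilizer G α = stabilizer G a) : Nat.card Ω = Nat.card Ω' := by
  rw [← index_stabilizer_of_transitive G α, ← index_stabilizer_of_transitive G a, hst]

/-- all point stabilizers of a transitive action have the same order -/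
theorem card_stabilizer_eq [IsPretransitive G Ω] (α β : Ω) :
    Nat.card (stabilizer G β) = Nat.card (stabilizer G α) := by
  obtain ⟨g, rfl⟩ := exists_smul_eq G α β
  rw [stabilizer_smul_eq_stabilizer_map_conj]
  exact Subgroup.card_map_of_injective (MulAut.conj g).injective

/-- `|Ω| |G_α| = |G|` -/
theorem card_mul_card_stabilizer [IsPretransitive G Ω] (α : Ω) :
    Nat.card Ω * Nat.card (stabilizer G α) = Nat.card G := by
  rw [← index_stabilizer_of_transitive G α]
  exact Subgroup.index_mul_card _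

end abstract

end Cfsg.Agent.Helper8.SzFix
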