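import Mathlib
import Cfsg.Agent.Helper8.SzFixA
import Cfsg.Agent.Helper8.SzSolJ

set_option autoImplicit false

/-!
Transitive actions of the Suzuki group in which every nonidentity element has at most two fixed
points: a point stabilizer of even order is the stabilizer of a point of the ovoid.
-/

namespace Cfsg.Agent.Helper8.SzFix

open Cfsg.Agent.Helper7.Sz Cfsg.Agent.Helper7 MulAction Cfsg.Agent.Helper8.SzPart
  Cfsg.Agent.Helper8.SzSub Cfsg.Agent.Helper8.SzTI Cfsg.Agent.Helper8.LS Cfsg.Agent.Helper8.SzMax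
  Cfsg.Agent.Helper8.SzSol

variable {F : Type*} [Field F] [Fintype F] {m : ℕ}

theorem TelS_commute_tau (h : FH F m) (a b : F) : TelS h a b * tau h = tau h * TelS h a b := by
  unfold tau
  rw [TelS_mul, TelS_mul, sg_zero]
  congr 1 <;> ring

section action

variable {Ω : Type*} [MulAction (Cfsg.Sz F m) Ω] [Finite Ω]

/-- if the standard involution has at most two fixed points, one of which is `α`, then the whole
centre of the Sylow subgroup fixes `α` -/
theorem TelS_zero_mem (h : FH F m) {α : Ω} (h2 : (fixedBy Ω (tau h)).ncard ≤ 2)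
    (hα : tau h • α = α) (y : F) : TelS h 0 y ∈ stabilizer (Cfsg.Sz F m) α := by
  by_cases hy : y = 0
  · rw [hy, TelS_zero]
    exact Subgroup.one_mem _
  · obtain ⟨k, -, hk⟩ := h.exists_sg_mul_self hy
    rw [← hk, ← SzMax.TelS_sq h k 0, mem_stabilizer_iff]
    exact sq_smul_of_commute (TelS_commute_tau h k 0) h2 hα

theorem card_ge_of_tau (h : FH F m) [IsPretransitive (Cfsg.Sz F m) Ω] {α : Ω}
    (h2 : (fixedBy Ω (tau h)).ncard ≤ 2) (hα : tau h • α = α) :
    (2 ^ (2 * m + 1)) ^ 2 * (2 ^ (2 * m + 1) - 1) ≤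
      2 * Nat.card (stabilizer (Cfsg.Sz F m) α) := by
  classical
  have hform := fix_formula' (G := Cfsg.Sz F m) α (tau h)
  rw [card_centralizer_tau] at hform
  have hN : 2 ^ (2 * m + 1) - 1 ≤ Nat.card {z : Cfsg.Sz F m //
      z ∈ stabilizer (Cfsg.Sz F m) α ∧ ∃ x, x⁻¹ * tau h * x = z} := by
    have hcu : Nat.card Fˣ = 2 ^ (2 * m + 1) - 1 := by
      rw [Nat.card_eq_fintype_card, Fintype.card_units, h.card]
    have hex : ∀ t : Fˣ, ∃ x, x⁻¹ * tau h * x = TelS h 0 (t : F) := by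
      intro t
      obtain ⟨g, hg⟩ := exists_conj_tau h (TelS_zero_ne_one h t.ne_zero) (TelS_zero_sq h _)
      refine ⟨g, ?_⟩
      rw [← hg]
      group
    rw [← hcu]
    apply Nat.card_le_card_of_injective
      (fun t : Fˣ => (⟨TelS h 0 (t : F), TelS_zero_mem h h2 hα _, hex t⟩ :
        {z : Cfsg.Sz F m // z ∈ stabilizer (Cfsg.Sz F m) α ∧ ∃ x, x⁻¹ * tau h * x = z}))
    intro t u e
    have := (TelS_injective h (congrArg Subtype.val e)).2
    exact Units.ext this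
  calc (2 ^ (2 * m + 1)) ^ 2 * (2 ^ (2 * m + 1) - 1)
      = (2 ^ (2 * m + 1) - 1) * (2 ^ (2 * m + 1)) ^ 2 := mul_comm _ _
    _ ≤ _ := Nat.mul_le_mul_right _ hN
    _ = _ := hform.symm
    _ ≤ 2 * Nat.card (stabilizer (Cfsg.Sz F m) α) := Nat.mul_le_mul_right _ h2

end action

/-! ### Arithmetic -/

theorem arith_cyc (r n : ℕ) (hr : 2 ≤ r) (hn : n ≤ 4 * (2 * r * r + 2 * r + 1))
    (hc : (2 * r * r) ^ 2 * (2 * r * r - 1) ≤ 2 * n) : False := by
  have hs : 4 ≤ r * r := by nlinarith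
  have hrs : r ≤ r * r := by nlinarith
  have h7 : 7 ≤ 2 * r * r - 1 := by
    have : 8 ≤ 2 * r * r := by nlinarith
    omega
  have h1 : (2 * r * r) ^ 2 * 7 ≤ 2 * n := le_trans (Nat.mul_le_mul_left _ h7) hc
  nlinarith

theorem arith_sub (a q n : ℕ) (ha : 1 ≤ a) (haq : a ^ 3 ≤ q) (hq : 8 ≤ q)
    (hn : n ≤ a * (a * (a - 1)) * (a ^ 2 + 1)) (hc : q ^ 2 * (q - 1) ≤ 2 * n) : False := by
  have h7 : 7 ≤ q - 1 := by omega
  have h1 : q ^ 2 * 7 ≤ 2 * n := le_trans (Nat.mul_le_mul_left _ h7) hc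
  have h2 : a * (a * (a - 1)) * (a ^ 2 + 1) ≤ a ^ 3 * (2 * a ^ 3) := by
    have e1 : a * (a * (a - 1)) ≤ a ^ 3 := by
      have : a - 1 ≤ a := Nat.sub_le _ _
      calc a * (a * (a - 1)) ≤ a * (a * a) := Nat.mul_le_mul_left _ (Nat.mul_le_mul_left _ this)
        _ = a ^ 3 := by ring
    have e2 : a ^ 2 + 1 ≤ 2 * a ^ 3 := by
      have h3 : a ^ 2 ≤ a ^ 3 := Nat.pow_le_pow_right ha (by norm_num)
      have h4 : 1 ≤ a ^ 3 := Nat.one_le_pow _ _ ha
      omega
    exact Nat.mul_le_mul e1 e2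
  have h3 : a ^ 3 * (2 * a ^ 3) ≤ q * (2 * q) := Nat.mul_le_mul haq (Nat.mul_le_mul_left _ haq)
  nlinarith

theorem three_mul_le {k m : ℕ} (hkm : k < m) (hd : 2 * k + 1 ∣ 2 * m + 1) :
    3 * (2 * k + 1) ≤ 2 * m + 1 := by
  obtain ⟨c, hc⟩ := hd
  rcases c with _ | _ | _ | c
  · omega
  · omega
  · omega
  · rw [hc]
    nlinarith

/-! ### A large subgroup containing the standard involution -/

theorem le_stabilizer_of_card (h : FH F m) (K : Subgroup (Cfsg.Sz F m)) (hK : K ≠ ⊤)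
    (hτ : tau h ∈ K)
    (hcard : (2 ^ (2 * m + 1)) ^ 2 * (2 ^ (2 * m + 1) - 1) ≤ 2 * Nat.card K) :
    K ≤ stabilizer (Cfsg.Sz F m) (ωinf m : Cfsg.suzukiOvoid F m) := by
  have hr : 2 ≤ 2 ^ m := (act h).hr
  have e1 : 2 ^ (2 * m + 1) = 2 * 2 ^ m * 2 ^ m := by
    rw [pow_succ, two_mul, pow_add]; ring
  have e2 : 2 ^ (m + 1) = 2 * 2 ^ m := by rw [pow_succ]; ring
  rcases suzuki_subgroups h K hK with ⟨P, hP⟩ | ⟨U, hU, hle⟩ |
    ⟨K', iK, iK', k, h1, h2, h3, h4, S, ⟨e⟩, hle⟩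
  · obtain ⟨a, ha⟩ := normalizer_sylow h P
    rw [ha] at hP
    have : a = ωinf m := tau_fix h a (mem_stabilizer_iff.1 (hP hτ))
    rw [← this]
    exact hP
  · exfalso
    obtain ⟨w, hw, hc⟩ := card_normalizer_cyc h hU
    have hle' : Nat.card K ≤ Nat.card (Subgroup.normalizer (U : Set (Cfsg.Sz F m))) :=
      Subgroup.card_le_of_le hle
    have hUc := hU.2
    rw [e1, e2] at hUc
    rw [e1] at hcard
    simp only [Set.mem_insert_iff, Set.mem_singleton_iff] at hUc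
    apply arith_cyc (2 ^ m) (Nat.card K) hr _ hcard
    rw [hc] at hle'
    have hU4 : Nat.card U ≤ 2 * 2 ^ m * 2 ^ m + 2 * 2 ^ m + 1 := by
      rcases hUc with e | e | e <;> omega
    calc Nat.card K ≤ w * Nat.card U := hle'
      _ ≤ 4 * Nat.card U := Nat.mul_le_mul_right _ (by rcases hw with rfl | rfl <;> norm_num)
      _ ≤ _ := Nat.mul_le_mul_left _ hU4
  · exfalso
    have hK' : FH K' k := ⟨h1, h3⟩
    have hS : Nat.card S = Fintype.card K' * (Fintype.card K' * (Fintype.card K' - 1)) *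
        (Fintype.card K' ^ 2 + 1) := by
      rw [Nat.card_congr e.toEquiv, card_Sz hK']
    have hle' : Nat.card K ≤ Nat.card S := Subgroup.card_le_of_le hle
    rw [hS, h3] at hle'
    have h3k := three_mul_le h2 h4
    apply arith_sub (2 ^ (2 * k + 1)) (2 ^ (2 * m + 1)) (Nat.card K) (Nat.one_le_two_pow) _ _
      hle' hcard
    · rw [← pow_mul]
      apply Nat.pow_le_pow_right (by norm_num)
      omega
    · rw [e1]
      nlinarith

end Cfsg.Agent.Helper8.SzFix
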