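import Mathlib
import Cfsg.Agent.Helper8.SzFixB

set_option autoImplicit false

/-!
Transitive actions of the Suzuki group in which every nonidentity element has at most two fixed
points: the classification.
-/

namespace Cfsg.Agent.Helper8.SzFix

open Cfsg.Agent.Helper7.Sz Cfsg.Agent.Helper7 MulAction Cfsg.Agent.Helper8.SzPart
  Cfsg.Agent.Helper8.SzSub Cfsg.Agent.Helper8.SzTI Cfsg.Agent.Helper8.LS Cfsg.Agent.Helper8.SzMax
  Cfsg.Agent.Helper8.SzSol

variable {F : Type*} [Field F] [Fintype F] {m : ℕ}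

/-- the stabilizer of the point at infinity -/
def Binf (F : Type*) [Field F] [Fintype F] (m : ℕ) : Subgroup (Cfsg.Sz F m) :=
  stabilizer (Cfsg.Sz F m) (ωinf m : Cfsg.suzukiOvoid F m)

theorem mem_Binf {x : Cfsg.Sz F m} :
    x ∈ Binf F m ↔ x • (ωinf m : Cfsg.suzukiOvoid F m) = ωinf m := mem_stabilizer_iff

theorem TelS_mem_Binf (h : FH F m) (a b : F) : TelS h a b ∈ Binf F m :=
  mem_Binf.2 (TelS_smul_inf h a b)

theorem HelS_mem_Binf (h : FH F m) (t : Fˣ) : HelS h t ∈ Binf F m :=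
  mem_Binf.2 (HelS_smul_inf h t)

/-- a subgroup containing the torus, the centre of the Sylow subgroup and one element outside the
centre contains the whole stabilizer of the point at infinity -/
theorem Binf_le_of_mem (h : FH F m) (K : Subgroup (Cfsg.Sz F m)) (hH : ∀ t : Fˣ, HelS h t ∈ K)
    (hZ : ∀ y : F, TelS h 0 y ∈ K) {a₀ b₀ : F} (ha₀ : a₀ ≠ 0) (hT : TelS h a₀ b₀ ∈ K) :
    Binf F m ≤ K := by
  have hall : ∀ c d : F, TelS h c d ∈ K := by
    intro c d
    by_cases hc : c = 0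
    · rw [hc]
      exact hZ d
    · obtain ⟨t, ht⟩ := SzSub.exists_unit_sg h (div_ne_zero hc ha₀)
      have h1 : HelS h t * TelS h a₀ b₀ * (HelS h t)⁻¹ ∈ K :=
        K.mul_mem (K.mul_mem (hH t) hT) (K.inv_mem (hH t))
      rw [HelS_TelS, ht, div_mul_cancel₀ c ha₀] at h1
      have h2 := K.mul_mem h1 (hZ (d - (t : F) * t * (c / a₀) * b₀))
      rw [TelS_mul] at h2
      have e1 : c + 0 = c := add_zero c
      have e2 : (t : F) * t * (c / a₀) * b₀ + (d - (t : F) * t * (c / a₀) * b₀) + sg m c * 0 = d := by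
        ring
      rwa [e1, e2] at h2
  intro x hx
  obtain ⟨c, d, t, rfl⟩ := SzTI.eq_TelS_mul_HelS h (mem_Binf.1 hx)
  exact K.mul_mem (hall c d) (hH t)

theorem HelS_pow_card (h : FH F m) (t : Fˣ) : HelS h t ^ (2 ^ (2 * m + 1) - 1) = 1 := by
  classical
  rw [SzSub.HelS_pow, ← h.card, ← Fintype.card_units, pow_card_eq_one, HelS_one]

theorem HelS_eq_sq (h : FH F m) (t : Fˣ) :
    HelS h t = (HelS h t ^ 2 ^ (2 * m)) * (HelS h t ^ 2 ^ (2 * m)) := by
  rw [← pow_add, ← two_mul, ← pow_succ']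
  have hq1 : 2 ^ (2 * m + 1) = (2 ^ (2 * m + 1) - 1) + 1 := by
    have := Nat.one_le_two_pow (n := 2 * m + 1)
    omega
  rw [hq1, pow_succ, HelS_pow_card, one_mul]

/-- a subgroup of the stabilizer of the point at infinity of index at most two is the whole
stabilizer -/
theorem Binf_le_of_card (h : FH F m) (K : Subgroup (Cfsg.Sz F m)) (hle : K ≤ Binf F m)
    (hcard : (2 ^ (2 * m + 1)) ^ 2 * (2 ^ (2 * m + 1) - 1) ≤ 2 * Nat.card K) :
    Binf F m ≤ K := by
  have hBc : Nat.card (Binf F m) = (2 ^ (2 * m + 1)) ^ 2 * (2 ^ (2 * m + 1) - 1) :=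
    (act h).card_stabilizer _
  have hK'c : Nat.card (K.subgroupOf (Binf F m)) = Nat.card K :=
    Nat.card_congr (Subgroup.subgroupOfEquivOfLe hle).toEquiv
  have hidx := Subgroup.index_mul_card (K.subgroupOf (Binf F m))
  rw [hK'c, hBc] at hidx
  have hpos : 0 < Nat.card K := Nat.card_pos
  have hi2 : (K.subgroupOf (Binf F m)).index ≤ 2 := by
    by_contra hcon
    push Not at hcon
    have : 3 * Nat.card K ≤ (K.subgroupOf (Binf F m)).index * Nat.card K :=
      Nat.mul_le_mul_right _ hcon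
    omega
  have hi0 : (K.subgroupOf (Binf F m)).index ≠ 0 := Subgroup.index_ne_zero_of_finite
  have hi : (K.subgroupOf (Binf F m)).index = 1 ∨ (K.subgroupOf (Binf F m)).index = 2 := by
    omega
  rcases hi with hi | hi
  · rw [Subgroup.index_eq_one, Subgroup.subgroupOf_eq_top] at hi
    exact hi
  · have hsq : ∀ x : Cfsg.Sz F m, x ∈ Binf F m → x * x ∈ K := by
      intro x hx
      have := Subgroup.mul_self_mem_of_index_two hi (⟨x, hx⟩ : Binf F m)
      exact Subgroup.mem_subgroupOf.1 this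
    have hmul : ∀ x y : Cfsg.Sz F m, x ∈ Binf F m → y ∈ Binf F m → x ∉ K → y ∉ K →
        x * y ∈ K := by
      intro x y hx hy hxK hyK
      have := (Subgroup.mul_mem_iff_of_index_two hi (a := (⟨x, hx⟩ : Binf F m))
        (b := ⟨y, hy⟩)).2 ⟨fun h' => absurd (Subgroup.mem_subgroupOf.1 h') hxK,
          fun h' => absurd (Subgroup.mem_subgroupOf.1 h') hyK⟩
      exact Subgroup.mem_subgroupOf.1 this
    have hH : ∀ t : Fˣ, HelS h t ∈ K := by
      intro t
      rw [HelS_eq_sq h t]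
      exact hsq _ (Subgroup.pow_mem _ (HelS_mem_Binf h t) _)
    have hZ : ∀ y : F, TelS h 0 y ∈ K := by
      intro y
      by_cases hy : y = 0
      · rw [hy, TelS_zero]
        exact K.one_mem
      · obtain ⟨k, -, hk⟩ := h.exists_sg_mul_self hy
        rw [← hk, ← SzMax.TelS_sq h k 0]
        exact hsq _ (TelS_mem_Binf h k 0)
    -- an element outside the centre
    have hex : ∃ a₀ b₀ : F, a₀ ≠ 0 ∧ TelS h a₀ b₀ ∈ K := by
      have hcardF : 2 < Fintype.card F := by
        rw [h.card]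
        calc 2 = 2 ^ 1 := rfl
          _ < 2 ^ (2 * m + 1) := Nat.pow_lt_pow_right (by norm_num) (by have := h.hm; omega)
      obtain ⟨c, hc0, hc1⟩ : ∃ c : F, c ≠ 0 ∧ c ≠ 1 := by
        classical
        by_contra hcon
        push Not at hcon
        have hsub : (Finset.univ : Finset F) ⊆ {0, 1} := by
          intro x _
          by_cases hx : x = 0
          · simp [hx]
          · simp [hcon x hx]
        have := Finset.card_le_card hsub
        rw [Finset.card_univ] at this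
        have h2 : ({0, 1} : Finset F).card ≤ 2 := Finset.card_le_two
        omega
      by_cases h1 : TelS h 1 0 ∈ K
      · exact ⟨1, 0, one_ne_zero, h1⟩
      by_cases h2 : TelS h c 0 ∈ K
      · exact ⟨c, 0, hc0, h2⟩
      have h3 := hmul _ _ (TelS_mem_Binf h 1 0) (TelS_mem_Binf h c 0) h1 h2
      rw [TelS_mul] at h3
      refine ⟨1 + c, _, ?_, h3⟩
      intro e
      exact hc1 (h.eq_of_add_eq_zero e).symm
    obtain ⟨a₀, b₀, ha₀, hT⟩ := hex
    exact Binf_le_of_mem h K hH hZ ha₀ hT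

section action

variable {Ω : Type*} [MulAction (Cfsg.Sz F m) Ω] [Finite Ω] [IsPretransitive (Cfsg.Sz F m) Ω]

/-- if a point stabilizer has even order, the action is the natural one -/
theorem even_case (h : FH F m)
    (hfix : ∀ g : Cfsg.Sz F m, g ≠ 1 → (fixedBy Ω g).ncard ≤ 2)
    (hK : ∀ ω : Ω, stabilizer (Cfsg.Sz F m) ω ≠ ⊤) {α : Ω}
    (hev : 2 ∣ Nat.card (stabilizer (Cfsg.Sz F m) α)) :
    Nat.card Ω = (2 ^ (2 * m + 1)) ^ 2 + 1 ∧ IsMultiplyPretransitive (Cfsg.Sz F m) Ω 2 := by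
  have : Fact (Nat.Prime 2) := ⟨Nat.prime_two⟩
  obtain ⟨t, ht⟩ := exists_prime_orderOf_dvd_card' 2 hev
  have ht1 : (t : Cfsg.Sz F m) ≠ 1 := by
    intro e
    have : t = 1 := Subtype.ext e
    rw [this, orderOf_one] at ht
    omega
  have ht2 : (t : Cfsg.Sz F m) * t = 1 := by
    have := pow_orderOf_eq_one t
    rw [ht, pow_two] at this
    exact congrArg Subtype.val this
  obtain ⟨g, hg⟩ := exists_conj_tau h ht1 ht2
  have hα' : tau h • (g • α) = g • α := by
    rw [← hg, ← mul_smul, inv_mul_cancel_right, mul_smul, mem_stabilizer_iff.1 t.2]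
  have h2 := hfix (tau h) (tau_ne_one h)
  have hc := card_ge_of_tau h h2 hα'
  have hle := le_stabilizer_of_card h _ (hK (g • α)) (mem_stabilizer_iff.2 hα') hc
  have hge := Binf_le_of_card h _ hle hc
  have hst : stabilizer (Cfsg.Sz F m) (g • α) =
      stabilizer (Cfsg.Sz F m) (ωinf m : Cfsg.suzukiOvoid F m) := le_antisymm hle hge
  have h2t := (act h).two
  have : IsPretransitive (Cfsg.Sz F m) (Cfsg.suzukiOvoid F m) :=
    MulAction.isPretransitive_of_is_two_pretransitive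
  refine ⟨?_, two_trans_of_stabilizer_eq h2t hst⟩
  rw [card_eq_of_stabilizer_eq hst, (act h).cardΩ]

/-- if a nontrivial point stabilizer has odd order, it has order `q - 1` -/
theorem odd_case (h : FH F m)
    (hfix : ∀ g : Cfsg.Sz F m, g ≠ 1 → (fixedBy Ω g).ncard ≤ 2) {α : Ω}
    (hne : stabilizer (Cfsg.Sz F m) α ≠ ⊥)
    (hodd : ¬ 2 ∣ Nat.card (stabilizer (Cfsg.Sz F m) α)) :
    Nat.card (stabilizer (Cfsg.Sz F m) α) = 2 ^ (2 * m + 1) - 1 := by
  obtain ⟨X, hX, hKX⟩ := exists_cyc_ge_of_odd h _ hodd hne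
  obtain ⟨⟨u, huK⟩, hu1⟩ := (Subgroup.ne_bot_iff_exists_ne_one).1 hne
  have hu1' : u ≠ 1 := fun e => hu1 (Subtype.ext e)
  have huX : u ∈ X := hKX huK
  have hCX : Subgroup.centralizer ({u} : Set (Cfsg.Sz F m)) = X := by
    ext c
    rw [Subgroup.mem_centralizer_singleton_iff]
    constructor
    · intro hc
      exact cyc_centralizer h hX huX hu1' hc
    · intro hc
      exact comm_of_cyclic hX.1 hc huX
  have h2 := hfix _ hu1'
  have hpos : 0 < Nat.card (stabilizer (Cfsg.Sz F m) α) := Nat.card_pos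
  -- the stabilizer is `X`
  have hKeq : stabilizer (Cfsg.Sz F m) α = X := by
    apply Subgroup.eq_of_le_of_card_ge hKX
    have hform := fix_formula' (G := Cfsg.Sz F m) α u
    rw [hCX] at hform
    obtain ⟨s, hs, hsX, hs2⟩ := exists_mem_invSet h hX
    have hinv : s * u * s⁻¹ = u⁻¹ :=
      inverts_of_sq_mem h hX hs hsX hs2 huX
    have hne' : u ≠ u⁻¹ := by
      intro e
      have h3 : u ^ 2 = 1 := by
        rw [pow_two]
        nth_rewrite 2 [e]
        exact mul_inv_cancel _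
      have h4 : orderOf u ∣ 2 := orderOf_dvd_of_pow_eq_one h3
      have h5 := odd_orderOf_of_mem_cyc h hX huX
      rcases (Nat.dvd_prime Nat.prime_two).1 h4 with h6 | h6
      · exact hu1' (orderOf_eq_one_iff.1 h6)
      · rw [h6] at h5
        exact absurd h5 (by decide)
    have hN : 2 ≤ Nat.card {z : Cfsg.Sz F m // z ∈ stabilizer (Cfsg.Sz F m) α ∧
        ∃ x, x⁻¹ * u * x = z} := by
      have : Nontrivial {z : Cfsg.Sz F m // z ∈ stabilizer (Cfsg.Sz F m) α ∧
          ∃ x, x⁻¹ * u * x = z} := by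
        refine ⟨⟨⟨u, huK, 1, by group⟩, ⟨u⁻¹, Subgroup.inv_mem _ huK, s⁻¹, ?_⟩, ?_⟩⟩
        · rw [inv_inv]
          exact hinv
        · intro e
          exact hne' (congrArg Subtype.val e)
      exact Finite.one_lt_card_iff_nontrivial.2 this
    have h3 : 2 * Nat.card X ≤ 2 * Nat.card (stabilizer (Cfsg.Sz F m) α) :=
      calc 2 * Nat.card X ≤ _ := Nat.mul_le_mul_right _ hN
        _ = _ := hform.symm
        _ ≤ _ := Nat.mul_le_mul_right _ h2
    omega
  rcases cyc_cases h hX with ⟨x, hx, rfl⟩ | ⟨a, b, hab, rfl⟩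
  · exfalso
    have hcn := (ctx h).card_normalizer hx
    have hform := fix_formula (G := Cfsg.Sz F m) α u
    have hle : Nat.card (Subgroup.normalizer ((Cz x : Subgroup (Cfsg.Sz F m)) : Set (Cfsg.Sz F m))) ≤
        Nat.card {y : Cfsg.Sz F m // y⁻¹ * u * y ∈ stabilizer (Cfsg.Sz F m) α} := by
      have hmem : ∀ n : Subgroup.normalizer ((Cz x : Subgroup (Cfsg.Sz F m)) : Set (Cfsg.Sz F m)),
          (n : Cfsg.Sz F m)⁻¹ * u * n ∈ stabilizer (Cfsg.Sz F m) α := by
        intro n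
        rw [hKeq]
        have := (Subgroup.mem_normalizer_iff.1 (Subgroup.inv_mem _ n.2) u).1 huX
        rwa [inv_inv] at this
      apply Nat.card_le_card_of_injective (fun n : Subgroup.normalizer
          ((Cz x : Subgroup (Cfsg.Sz F m)) : Set (Cfsg.Sz F m)) => (⟨(n : Cfsg.Sz F m), hmem n⟩ :
        {y : Cfsg.Sz F m // y⁻¹ * u * y ∈ stabilizer (Cfsg.Sz F m) α}))
      intro n n' e
      have e' := congrArg Subtype.val e
      exact Subtype.ext e'
    rw [hcn, hform, hKeq] at hle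
    have hposX : 0 < Nat.card (Cz x) := Nat.card_pos
    have : (fixedBy Ω u).ncard * Nat.card (Cz x) ≤ 2 * Nat.card (Cz x) :=
      Nat.mul_le_mul_right _ h2
    omega
  · rw [hKeq]
    exact (twoStab_cyclic h hab).2

/-- Transitive actions of `Sz(q)` of fixity two. -/
theorem fixity_two (h : FH F m)
    (hfix : ∀ g : Cfsg.Sz F m, g ≠ 1 → (fixedBy Ω g).ncard ≤ 2)
    (hex : ∃ g : Cfsg.Sz F m, g ≠ 1 ∧ (fixedBy Ω g).ncard = 2) :
    (Nat.card Ω = (2 ^ (2 * m + 1)) ^ 2 + 1 ∧ IsMultiplyPretransitive (Cfsg.Sz F m) Ω 2) ∨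
    (Nat.card Ω = (2 ^ (2 * m + 1)) ^ 2 * ((2 ^ (2 * m + 1)) ^ 2 + 1) ∧
      ∀ α : Ω, Nat.card (stabilizer (Cfsg.Sz F m) α) = 2 ^ (2 * m + 1) - 1) := by
  obtain ⟨g, hg1, hg2⟩ := hex
  obtain ⟨α, β, hαβ, hset⟩ := Set.ncard_eq_two.1 hg2
  have hα : g • α = α := by
    have : α ∈ fixedBy Ω g := by rw [hset]; exact Set.mem_insert _ _
    exact this
  have hK : ∀ ω : Ω, stabilizer (Cfsg.Sz F m) ω ≠ ⊤ := by
    intro ω e
    obtain ⟨ω', hω'⟩ : ∃ ω' : Ω, ω' ≠ ω := by
      by_cases hc : α = ω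
      · exact ⟨β, fun e' => hαβ (hc.trans e'.symm)⟩
      · exact ⟨α, hc⟩
    obtain ⟨x, hx⟩ := exists_smul_eq (Cfsg.Sz F m) ω ω'
    have : x ∈ stabilizer (Cfsg.Sz F m) ω := by rw [e]; exact Subgroup.mem_top _
    exact hω' (hx.symm.trans (mem_stabilizer_iff.1 this))
  by_cases hev : 2 ∣ Nat.card (stabilizer (Cfsg.Sz F m) α)
  · exact Or.inl (even_case h hfix hK hev)
  · right
    have hne : stabilizer (Cfsg.Sz F m) α ≠ ⊥ := by
      intro e
      have : g ∈ stabilizer (Cfsg.Sz F m) α := mem_stabilizer_iff.2 hα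
      rw [e, Subgroup.mem_bot] at this
      exact hg1 this
    have hc := odd_case h hfix hne hev
    refine ⟨?_, fun ω => (card_stabilizer_eq α ω).trans hc⟩
    have h1 := card_mul_card_stabilizer (G := Cfsg.Sz F m) α
    rw [hc, (act h).card] at h1
    have hpos : 0 < 2 ^ (2 * m + 1) - 1 := by
      have : 2 ≤ 2 ^ (2 * m + 1) := by
        calc 2 = 2 ^ 1 := rfl
          _ ≤ 2 ^ (2 * m + 1) := Nat.pow_le_pow_right (by norm_num) (by omega)
      omega
    apply Nat.eq_of_mul_eq_mul_right hpos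
    rw [h1]
    ring

end action

end Cfsg.Agent.Helper8.SzFix
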