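import Cfsg.Agent.Helper8.SzSylA
import Cfsg.Agent.Helper7.SzField
set_option autoImplicit false
set_option linter.unusedSectionVars false

/-!
The Suzuki 2-group in coordinates: a group `S` with a bijection `s : F × F → S` satisfying
`s a b * s c d = s (a + c) (b + d + σ a * c)`, and the coordinates of an automorphism.
-/

namespace Cfsg.Agent.Helper8.SzSyl

open Cfsg.Agent.Helper7.Sz

variable {F : Type*} [Field F] [Fintype F] {m : ℕ}
variable {S : Type*} [Group S]

/-- a coordinatisation of the Suzuki 2-group -/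
structure Coord (F : Type*) [Field F] [Fintype F] (m : ℕ) (S : Type*) [Group S] where
  s : F → F → S
  fh : FH F m
  mul : ∀ a b c d, s a b * s c d = s (a + c) (b + d + sg m a * c)
  bij : Function.Bijective (fun p : F × F => s p.1 p.2)

namespace Coord

variable (C : Coord F m S)

theorem inj {a b c d : F} (h : C.s a b = C.s c d) : a = c ∧ b = d := by
  have := C.bij.1 (a₁ := (a, b)) (a₂ := (c, d)) h
  exact ⟨congrArg Prod.fst this, congrArg Prod.snd this⟩

theorem surj (x : S) : ∃ a b, x = C.s a b := by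
  obtain ⟨⟨a, b⟩, h⟩ := C.bij.2 x
  exact ⟨a, b, h.symm⟩

/-- the first coordinate -/
noncomputable def co1 (x : S) : F := (C.surj x).choose

/-- the second coordinate -/
noncomputable def co2 (x : S) : F := (C.surj x).choose_spec.choose

theorem eq_s (x : S) : x = C.s (C.co1 x) (C.co2 x) := (C.surj x).choose_spec.choose_spec

theorem co1_s (a b : F) : C.co1 (C.s a b) = a := (C.inj (C.eq_s (C.s a b))).1.symm

theorem co2_s (a b : F) : C.co2 (C.s a b) = b := (C.inj (C.eq_s (C.s a b))).2.symm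

theorem s_zero : C.s 0 0 = 1 := by
  have h := C.mul 0 0 0 0
  rw [add_zero, mul_zero, add_zero] at h
  exact mul_eq_left.mp h

theorem co1_one : C.co1 1 = 0 := by rw [← C.s_zero, co1_s]

theorem co2_one : C.co2 1 = 0 := by rw [← C.s_zero, co2_s]

theorem co1_mul (x y : S) : C.co1 (x * y) = C.co1 x + C.co1 y := by
  conv_lhs => rw [C.eq_s x, C.eq_s y, C.mul, co1_s]

theorem co2_mul (x y : S) :
    C.co2 (x * y) = C.co2 x + C.co2 y + sg m (C.co1 x) * C.co1 y := by
  conv_lhs => rw [C.eq_s x, C.eq_s y, C.mul, co2_s]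

theorem ext {x y : S} (h1 : C.co1 x = C.co1 y) (h2 : C.co2 x = C.co2 y) : x = y := by
  rw [C.eq_s x, C.eq_s y, h1, h2]

theorem s_split (a b : F) : C.s a b = C.s a 0 * C.s 0 b := by
  rw [C.mul, add_zero, zero_add, mul_zero, add_zero]

theorem sq (x : S) : x * x = C.s 0 (sg m (C.co1 x) * C.co1 x) := by
  apply C.ext
  · rw [co1_mul, co1_s, C.fh.add_self]
  · rw [co2_mul, co2_s, C.fh.add_self, zero_add]

theorem sq_eq_one_iff (x : S) : x * x = 1 ↔ C.co1 x = 0 := by
  rw [C.sq, ← C.s_zero]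
  constructor
  · intro h
    have := (C.inj h).2
    rcases mul_eq_zero.mp this with h1 | h1
    · exact sg_eq_zero.mp h1
    · exact h1
  · intro h
    rw [h, mul_zero]

variable (φ : S ≃* S)

/-- the action on the Frattini quotient -/
noncomputable def al (a : F) : F := C.co1 (φ (C.s a 0))

/-- the action on the centre -/
noncomputable def be (b : F) : F := C.co2 (φ (C.s 0 b))

/-- the twisting term -/
noncomputable def ga (a : F) : F := C.co2 (φ (C.s a 0))

theorem co1_phi_center (b : F) : C.co1 (φ (C.s 0 b)) = 0 := by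
  rw [← C.sq_eq_one_iff, ← map_mul, (C.sq_eq_one_iff _).mpr (C.co1_s 0 b), map_one]

theorem phi_s (a b : F) : φ (C.s a b) = C.s (C.al φ a) (C.ga φ a + C.be φ b) := by
  rw [C.s_split a b, map_mul]
  apply C.ext
  · rw [co1_mul, co1_phi_center, add_zero, co1_s]
    rfl
  · rw [co2_mul, co1_phi_center, mul_zero, add_zero, co2_s]
    rfl

theorem co1_phi (x : S) : C.co1 (φ x) = C.al φ (C.co1 x) := by
  conv_lhs => rw [C.eq_s x, phi_s, co1_s]

theorem co2_phi (x : S) : C.co2 (φ x) = C.ga φ (C.co1 x) + C.be φ (C.co2 x) := by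
  conv_lhs => rw [C.eq_s x, phi_s, co2_s]

theorem al_add (a c : F) : C.al φ (a + c) = C.al φ a + C.al φ c := by
  have h : C.co1 (φ (C.s a 0 * C.s c 0)) = C.co1 (φ (C.s (a + c) (0 + 0 + sg m a * c))) :=
    congrArg (fun x => C.co1 (φ x)) (C.mul a 0 c 0)
  rw [map_mul, co1_mul, co1_phi, co1_phi, co1_phi, co1_s, co1_s, co1_s] at h
  exact h.symm

theorem be_add (b d : F) : C.be φ (b + d) = C.be φ b + C.be φ d := by
  have h : C.co2 (φ (C.s 0 b * C.s 0 d)) = C.co2 (φ (C.s (0 + 0) (b + d + sg m 0 * 0))) :=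
    congrArg (fun x => C.co2 (φ x)) (C.mul 0 b 0 d)
  rw [map_mul, co2_mul, co1_phi_center, mul_zero, add_zero, sg_zero, zero_mul, add_zero,
    add_zero] at h
  exact h.symm

theorem ga_zero : C.ga φ 0 = 0 := by
  unfold ga
  rw [C.s_zero, map_one, co2_one]

theorem al_zero : C.al φ 0 = 0 := by
  unfold al
  rw [C.s_zero, map_one, co1_one]

theorem be_zero : C.be φ 0 = 0 := by
  unfold be
  rw [C.s_zero, map_one, co2_one]

/-- the cocycle relation -/
theorem ga_rel (a c : F) :
    C.ga φ a + C.ga φ c + sg m (C.al φ a) * C.al φ c =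
      C.ga φ (a + c) + C.be φ (sg m a * c) := by
  have h : C.co2 (φ (C.s a 0 * C.s c 0)) = C.co2 (φ (C.s (a + c) (0 + 0 + sg m a * c))) :=
    congrArg (fun x => C.co2 (φ x)) (C.mul a 0 c 0)
  rw [map_mul, co2_mul, co1_phi, co1_phi, co2_phi, co2_phi, co2_phi, co1_s, co1_s, co2_s, co2_s,
    co1_s, co2_s, C.be_zero, add_zero, add_zero, add_zero, zero_add] at h
  exact h

/-- the norm relation -/
theorem be_norm (a : F) : C.be φ (sg m a * a) = sg m (C.al φ a) * C.al φ a := by
  have h := C.ga_rel φ a a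
  rw [C.fh.add_self, C.fh.add_self, ga_zero, zero_add, zero_add] at h
  exact h.symm

/-- the polarisation of the norm relation -/
theorem be_polar (a c : F) :
    C.be φ (sg m a * c + sg m c * a) =
      sg m (C.al φ a) * C.al φ c + sg m (C.al φ c) * C.al φ a := by
  have h1 := C.ga_rel φ a c
  have h2 := C.ga_rel φ c a
  rw [be_add]
  have e : C.be φ (sg m a * c) + C.be φ (sg m c * a) =
      (C.ga φ (a + c) + C.be φ (sg m a * c)) + (C.ga φ (c + a) + C.be φ (sg m c * a)) := by
    rw [add_comm c a]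
    have := C.fh.add_self (C.ga φ (a + c))
    calc C.be φ (sg m a * c) + C.be φ (sg m c * a)
        = (C.ga φ (a + c) + C.ga φ (a + c)) + (C.be φ (sg m a * c) + C.be φ (sg m c * a)) := by
          rw [this, zero_add]
      _ = _ := by ring
  rw [e, ← h1, ← h2]
  have := C.fh.add_self (C.ga φ a + C.ga φ c)
  calc C.ga φ a + C.ga φ c + sg m (C.al φ a) * C.al φ c +
        (C.ga φ c + C.ga φ a + sg m (C.al φ c) * C.al φ a)
      = ((C.ga φ a + C.ga φ c) + (C.ga φ a + C.ga φ c)) +
          (sg m (C.al φ a) * C.al φ c + sg m (C.al φ c) * C.al φ a) := by ring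
    _ = _ := by rw [this, zero_add]

theorem al_comp (φ₁ φ₂ : S ≃* S) (a : F) :
    C.al (φ₁ * φ₂) a = C.al φ₁ (C.al φ₂ a) := by
  unfold al
  rw [MulAut.mul_apply, C.co1_phi φ₁]
  rfl

theorem be_comp (φ₁ φ₂ : S ≃* S) (b : F) :
    C.be (φ₁ * φ₂) b = C.be φ₁ (C.be φ₂ b) := by
  show C.co2 ((φ₁ * φ₂) (C.s 0 b)) = _
  rw [MulAut.mul_apply, C.co2_phi φ₁, C.co1_phi_center, ga_zero, zero_add]
  rfl

theorem al_one (a : F) : C.al (1 : S ≃* S) a = a := by
  unfold al
  rw [MulAut.one_apply, co1_s]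

theorem be_one (b : F) : C.be (1 : S ≃* S) b = b := by
  unfold be
  rw [MulAut.one_apply, co2_s]

theorem al_bijective : Function.Bijective (C.al φ) := by
  have h1 : Function.LeftInverse (C.al φ⁻¹) (C.al φ) := by
    intro a
    rw [← al_comp, inv_mul_cancel, al_one]
  have h2 : Function.RightInverse (C.al φ⁻¹) (C.al φ) := by
    intro a
    rw [← al_comp, mul_inv_cancel, al_one]
  exact ⟨h1.injective, h2.surjective⟩

theorem be_bijective : Function.Bijective (C.be φ) := by
  have h1 : Function.LeftInverse (C.be φ⁻¹) (C.be φ) := by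
    intro a
    rw [← be_comp, inv_mul_cancel, be_one]
  have h2 : Function.RightInverse (C.be φ⁻¹) (C.be φ) := by
    intro a
    rw [← be_comp, mul_inv_cancel, be_one]
  exact ⟨h1.injective, h2.surjective⟩

end Coord

end Cfsg.Agent.Helper8.SzSyl
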