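import Cfsg.Agent.Helper8.SzSylB
set_option autoImplicit false
set_option linter.unusedSectionVars false

/-!
The Suzuki 2-group: the field-theoretic part. Additive bijections `α`, `β` of the field with
`β (N a) = N (α a)` and `β (B a c) = B (α a) (α c)`, where `N a = σ a * a` and `B` is its
polarisation, are semilinear.
-/

namespace Cfsg.Agent.Helper8.SzSyl

open Cfsg.Agent.Helper7.Sz

variable {F : Type*} [Field F] [Fintype F] {m : ℕ}

/-- the norm `σ x * x` -/
def Nm (m : ℕ) (x : F) : F := sg m x * x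

/-- the polarisation of the norm -/
def Bf (m : ℕ) (x y : F) : F := sg m x * y + sg m y * x

omit [Fintype F] in
theorem Nm_mul (x y : F) : Nm m (x * y) = Nm m x * Nm m y := by
  unfold Nm
  rw [sg_mul]
  ring

omit [Fintype F] in
theorem Nm_one : Nm m (1 : F) = 1 := by
  unfold Nm
  rw [sg_one, one_mul]

omit [Fintype F] in
theorem Nm_eq_zero {x : F} : Nm m x = 0 ↔ x = 0 := by
  unfold Nm
  constructor
  · intro h
    rcases mul_eq_zero.mp h with h1 | h1
    · exact sg_eq_zero.mp h1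
    · exact h1
  · intro h
    rw [h, mul_zero]

omit [Fintype F] in
theorem Nm_inv (x : F) : Nm m x⁻¹ = (Nm m x)⁻¹ := by
  unfold Nm
  rw [sg_inv, mul_inv]

theorem Nm_injective (h : FH F m) : Function.Injective (Nm (F := F) m) := by
  intro x y hxy
  by_cases hx : x = 0
  · rw [hx, (Nm_eq_zero (m := m)).mpr rfl] at hxy
    rw [hx, (Nm_eq_zero (m := m)).mp hxy.symm]
  · have hy : y ≠ 0 := by
      intro hy
      rw [hy, (Nm_eq_zero (m := m)).mpr rfl] at hxy
      exact hx (Nm_eq_zero.mp hxy)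
    have e : Nm m (x * y⁻¹) = 1 := by
      rw [Nm_mul, Nm_inv, hxy, mul_inv_cancel₀ (fun h0 => hy (Nm_eq_zero.mp h0))]
    have := h.eq_one_of_sg_mul_self e
    field_simp at this
    exact this

theorem Nm_surjective (h : FH F m) : Function.Surjective (Nm (F := F) m) :=
  Finite.surjective_of_injective (Nm_injective h)

/-- the additive map `x ↦ σ x + x` -/
def Lf (h : FH F m) : F →+ F where
  toFun x := sg m x + x
  map_zero' := by rw [sg_zero, add_zero]
  map_add' x y := by rw [h.sg_add]; ring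

theorem Lf_apply (h : FH F m) (x : F) : Lf h x = sg m x + x := rfl

omit [Fintype F] in
theorem Bf_eq {a : F} (ha : a ≠ 0) (c : F) : Bf m a c = Nm m a * (sg m (c / a) + c / a) := by
  unfold Bf Nm
  have hs : sg m a ≠ 0 := sg_ne_zero ha
  rw [div_eq_mul_inv, sg_mul, sg_inv]
  field_simp
  ring

omit [Fintype F] in
theorem Bf_mul (u x y : F) : Bf m (u * x) (u * y) = Nm m u * Bf m x y := by
  unfold Bf Nm
  rw [sg_mul, sg_mul]
  ring

/-- the hyperplane `{σ x + x}` -/
def H0 (h : FH F m) : AddSubgroup F := (Lf h).range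

theorem H0_index (h : FH F m) : (H0 h).index = 2 := by
  classical
  have hker : Nat.card (Lf h).ker = 2 := by
    have e : ((Lf h).ker : Set F) = {0, 1} := by
      ext x
      simp only [SetLike.mem_coe, AddMonoidHom.mem_ker, Lf_apply, Set.mem_insert_iff,
        Set.mem_singleton_iff]
      constructor
      · intro hx
        exact h.sg_eq_self (h.eq_of_add_eq_zero hx)
      · rintro (rfl | rfl)
        · rw [sg_zero, add_zero]
        · rw [sg_one, h.add_self]
    have : Nat.card (Lf h).ker = Nat.card ((Lf h).ker : Set F) := rfl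
    rw [this, e, Nat.card_eq_fintype_card, Fintype.card_ofFinset]
    simp
  have h1 := AddSubgroup.card_eq_card_quotient_mul_card_addSubgroup (Lf h).ker
  have h2 : Nat.card (F ⧸ (Lf h).ker) = Nat.card (H0 h) :=
    Nat.card_congr (QuotientAddGroup.quotientKerEquivRange (Lf h)).toEquiv
  have h3 := (H0 h).card_mul_index
  rw [h2, hker] at h1
  have hpos : 0 < Nat.card (H0 h) := Nat.card_pos
  rw [h1] at h3
  exact Nat.eq_of_mul_eq_mul_left hpos h3

theorem H0_add_mem_iff (h : FH F m) {p q : F} : p + q ∈ H0 h ↔ (p ∈ H0 h ↔ q ∈ H0 h) :=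
  AddSubgroup.add_mem_iff_of_index_two (H0_index h)

theorem H0_ne_top (h : FH F m) : ∃ z : F, z ∉ H0 h := by
  by_contra hcon
  push Not at hcon
  have : H0 h = ⊤ := (AddSubgroup.eq_top_iff' _).mpr hcon
  have h2 := H0_index h
  rw [this, AddSubgroup.index_top] at h2
  omega

theorem exists_sq (h : FH F m) (x : F) : ∃ a : F, a * a = x := by
  have hinj : Function.Injective (fun a : F => a * a) := fun a b hab => h.sq_injective hab
  exact Finite.surjective_of_injective hinj x

/-- the normalised case -/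
theorem ring_of_normalized (h : FH F m) (α β : F →+ F) (hα : Function.Bijective α)
    (hβ : Function.Bijective β) (h1 : α 1 = 1) (hN : ∀ a, β (Nm m a) = Nm m (α a))
    (hB : ∀ a c, β (Bf m a c) = Bf m (α a) (α c)) :
    ∃ ρ : F ≃+* F, (∀ a, α a = ρ a) ∧ ∀ a, β a = ρ a := by
  classical
  have hβ1 : β 1 = 1 := by
    have := hN 1
    rw [Nm_one, h1, Nm_one] at this
    exact this
  have hα0 : ∀ a, a ≠ 0 → α a ≠ 0 := by
    intro a ha h0
    apply ha
    apply hα.1
    rw [h0, map_zero]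
  have hβ0 : ∀ a, a ≠ 0 → β a ≠ 0 := by
    intro a ha h0
    apply ha
    apply hβ.1
    rw [h0, map_zero]
  -- the hyperplanes `c H₀` are permuted
  have hplane : ∀ c x : F, c ≠ 0 → (x / c ∈ H0 h ↔ β x / β c ∈ H0 h) := by
    intro c x hc
    obtain ⟨a, ha⟩ := Nm_surjective h c
    have ha0 : a ≠ 0 := by
      intro h0
      rw [h0, (Nm_eq_zero (m := m)).mpr rfl] at ha
      exact hc ha.symm
    have hβc : β c = Nm m (α a) := by rw [← ha, hN]
    have hNα : Nm m (α a) ≠ 0 := fun h0 => hα0 a ha0 (Nm_eq_zero.mp h0)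
    constructor
    · rintro ⟨t, ht⟩
      have hx : x = Bf m a (a * t) := by
        rw [Bf_eq ha0, mul_div_cancel_left₀ t ha0, ← Lf_apply h, ht, ha]
        field_simp
      rw [hx, hB, Bf_eq (hα0 a ha0), hβc, mul_div_cancel_left₀ _ hNα]
      exact ⟨_, rfl⟩
    · rintro ⟨t', ht'⟩
      obtain ⟨y, hy⟩ := hα.2 (α a * t')
      have hx : β x = β (Bf m a y) := by
        rw [hB, hy, Bf_eq (hα0 a ha0), mul_div_cancel_left₀ t' (hα0 a ha0), ← Lf_apply h, ht', hβc]
        field_simp
      have hx' := hβ.1 hx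
      rw [hx', Bf_eq ha0, ha, mul_div_cancel_left₀ _ hc]
      exact ⟨_, rfl⟩
  -- the dual map
  set ψf : F → F := fun y => if y = 0 then 0 else (β y⁻¹)⁻¹ with hψf
  have hψmem : ∀ y x : F, (y * x ∈ H0 h ↔ ψf y * β x ∈ H0 h) := by
    intro y x
    by_cases hy : y = 0
    · rw [hψf]
      simp only [hy, if_true, zero_mul]
    · have := hplane y⁻¹ x (inv_ne_zero hy)
      rw [div_eq_mul_inv, inv_inv, mul_comm] at this
      rw [this, hψf]
      simp only [hy, if_false]
      rw [div_eq_mul_inv, mul_comm]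
  have hψadd : ∀ y₁ y₂ : F, ψf (y₁ + y₂) = ψf y₁ + ψf y₂ := by
    intro y₁ y₂
    set δ := ψf (y₁ + y₂) + (ψf y₁ + ψf y₂) with hδ
    have hδmem : ∀ x : F, δ * β x ∈ H0 h := by
      intro x
      rw [hδ, add_mul, H0_add_mem_iff h, ← hψmem, add_mul, add_mul, H0_add_mem_iff h,
        H0_add_mem_iff h, ← hψmem, ← hψmem]
    have hδ0 : δ = 0 := by
      by_contra hne
      obtain ⟨z, hz⟩ := H0_ne_top h
      obtain ⟨x, hx⟩ := hβ.2 (z / δ)
      apply hz
      have := hδmem x
      rw [hx, mul_div_cancel₀ z hne] at this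
      exact this
    exact h.eq_of_add_eq_zero hδ0
  set ψ : F →+ F := AddMonoidHom.mk' ψf hψadd with hψ
  have hψφ : ∀ x : F, x ≠ 0 → ψ x * β x⁻¹ = 1 := by
    intro x hx
    show ψf x * β x⁻¹ = 1
    rw [hψf]
    simp only [hx, if_false]
    exact inv_mul_cancel₀ (hβ0 _ (inv_ne_zero hx))
  have hmul : ∀ x y : F, β (x * y) = β x * β y := by
    intro x y
    obtain ⟨a, ha⟩ := exists_sq h x
    rw [← ha]
    exact hua_mul β ψ hβ.1 hβ1 hψφ a y
  let ρ₀ : F →+* F :=
    { toFun := β
      map_one' := hβ1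
      map_mul' := hmul
      map_zero' := map_zero β
      map_add' := map_add β }
  let ρ : F ≃+* F := RingEquiv.ofBijective ρ₀ hβ
  refine ⟨ρ, ?_, fun a => rfl⟩
  intro a
  apply Nm_injective h
  rw [← hN]
  show ρ (Nm m a) = Nm m (ρ a)
  unfold Nm sg
  rw [map_mul, map_pow]

/-- **semilinearity** -/
theorem semilinear (h : FH F m) (α β : F →+ F) (hα : Function.Bijective α)
    (hβ : Function.Bijective β) (hN : ∀ a, β (Nm m a) = Nm m (α a))
    (hB : ∀ a c, β (Bf m a c) = Bf m (α a) (α c)) :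
    ∃ ρ : F ≃+* F, (∀ a, α a = α 1 * ρ a) ∧ ∀ a, β a = Nm m (α 1) * ρ a := by
  have hu : α 1 ≠ 0 := by
    intro h0
    have := hα.1 (h0.trans (map_zero α).symm)
    exact one_ne_zero this
  have hNu : Nm m (α 1) ≠ 0 := fun h0 => hu (Nm_eq_zero.mp h0)
  set α' : F →+ F := (AddMonoidHom.mulLeft (α 1)⁻¹).comp α with hα'
  set β' : F →+ F := (AddMonoidHom.mulLeft (Nm m (α 1))⁻¹).comp β with hβ'
  have eα : ∀ a, α' a = (α 1)⁻¹ * α a := fun a => rfl
  have eβ : ∀ a, β' a = (Nm m (α 1))⁻¹ * β a := fun a => rfl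
  have hα'b : Function.Bijective α' := by
    constructor
    · intro a b hab
      rw [eα, eα] at hab
      exact hα.1 (mul_left_cancel₀ (inv_ne_zero hu) hab)
    · intro y
      obtain ⟨x, hx⟩ := hα.2 (α 1 * y)
      exact ⟨x, by rw [eα, hx, inv_mul_cancel_left₀ hu]⟩
  have hβ'b : Function.Bijective β' := by
    constructor
    · intro a b hab
      rw [eβ, eβ] at hab
      exact hβ.1 (mul_left_cancel₀ (inv_ne_zero hNu) hab)
    · intro y
      obtain ⟨x, hx⟩ := hβ.2 (Nm m (α 1) * y)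
      exact ⟨x, by rw [eβ, hx, inv_mul_cancel_left₀ hNu]⟩
  obtain ⟨ρ, hρ1, hρ2⟩ := ring_of_normalized h α' β' hα'b hβ'b
    (by rw [eα, inv_mul_cancel₀ hu])
    (by
      intro a
      rw [eβ, eα, hN, Nm_mul, Nm_inv])
    (by
      intro a c
      rw [eβ, eα, eα, hB, Bf_mul, Nm_inv])
  refine ⟨ρ, fun a => ?_, fun a => ?_⟩
  · rw [← hρ1, eα, mul_inv_cancel_left₀ hu]
  · rw [← hρ2, eβ, mul_inv_cancel_left₀ hNu]

end Cfsg.Agent.Helper8.SzSyl
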