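import Cfsg.Agent.Helper8.SzSylC
import Cfsg.Prelude.Def_Transfer
set_option autoImplicit false
set_option linter.unusedSectionVars false

/-!
The Suzuki 2-group: the parametrisation of the automorphism group by triples `(u, ρ, γ)`.
-/

namespace Cfsg.Agent.Helper8.SzSyl

open Cfsg.Agent.Helper7.Sz

variable {F : Type*} [Field F] [Fintype F] {m : ℕ}
variable {S : Type*} [Group S]

omit [Fintype F] in
theorem sg_ringEquiv (ρ : F ≃+* F) (a : F) : sg m (ρ a) = ρ (sg m a) := by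
  unfold sg
  rw [map_pow]

namespace Coord

variable (C : Coord F m S)

theorem finite (C : Coord F m S) : Finite S := Finite.of_surjective _ C.bij.2

/-- the function underlying the automorphism with parameters `(u, ρ, γ)` -/
noncomputable def psiFun (u : Fˣ) (ρ : F ≃+* F) (γ : F →+ F) (x : S) : S :=
  C.s ((u : F) * ρ (C.co1 x)) (γ (C.co1 x) + Nm m (u : F) * ρ (C.co2 x))

theorem psiFun_mul (u : Fˣ) (ρ : F ≃+* F) (γ : F →+ F) (x y : S) :
    C.psiFun u ρ γ (x * y) = C.psiFun u ρ γ x * C.psiFun u ρ γ y := by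
  unfold psiFun
  rw [C.mul, co1_mul, co2_mul]
  congr 1
  · rw [map_add]
    ring
  · rw [map_add, map_add, map_add, map_mul, sg_mul, sg_ringEquiv]
    unfold Nm
    ring

theorem psiFun_injective (u : Fˣ) (ρ : F ≃+* F) (γ : F →+ F) :
    Function.Injective (C.psiFun u ρ γ) := by
  intro x y hxy
  unfold psiFun at hxy
  obtain ⟨h1, h2⟩ := C.inj hxy
  have e1 : C.co1 x = C.co1 y := ρ.injective (mul_left_cancel₀ u.ne_zero h1)
  rw [e1] at h2
  have hNu : Nm m (u : F) ≠ 0 := fun h0 => u.ne_zero (Nm_eq_zero.mp h0)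
  have e2 : C.co2 x = C.co2 y := ρ.injective (mul_left_cancel₀ hNu (add_left_cancel h2))
  exact C.ext e1 e2

/-- the automorphism with parameters `(u, ρ, γ)` -/
noncomputable def psi (u : Fˣ) (ρ : F ≃+* F) (γ : F →+ F) : S ≃* S :=
  haveI := C.finite
  MulEquiv.ofBijective (MonoidHom.mk' (C.psiFun u ρ γ) (C.psiFun_mul u ρ γ))
    (Finite.injective_iff_bijective.mp (C.psiFun_injective u ρ γ))

theorem psi_apply (u : Fˣ) (ρ : F ≃+* F) (γ : F →+ F) (x : S) :
    C.psi u ρ γ x = C.s ((u : F) * ρ (C.co1 x)) (γ (C.co1 x) + Nm m (u : F) * ρ (C.co2 x)) := rfl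

theorem al_psi (u : Fˣ) (ρ : F ≃+* F) (γ : F →+ F) (a : F) :
    C.al (C.psi u ρ γ) a = (u : F) * ρ a := by
  unfold al
  rw [psi_apply, co1_s, co1_s]

theorem ga_psi (u : Fˣ) (ρ : F ≃+* F) (γ : F →+ F) (a : F) :
    C.ga (C.psi u ρ γ) a = γ a := by
  unfold ga
  rw [psi_apply, co2_s, co1_s, co2_s, map_zero, mul_zero, add_zero]

theorem be_psi (u : Fˣ) (ρ : F ≃+* F) (γ : F →+ F) (b : F) :
    C.be (C.psi u ρ γ) b = Nm m (u : F) * ρ b := by
  unfold be
  rw [psi_apply, co2_s, co1_s, co2_s, map_zero, zero_add]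

/-- the parametrisation -/
noncomputable def Psi (t : Fˣ × (F ≃+* F) × (F →+ F)) : S ≃* S := C.psi t.1 t.2.1 t.2.2

theorem Psi_injective : Function.Injective C.Psi := by
  rintro ⟨u, ρ, γ⟩ ⟨u', ρ', γ'⟩ h
  unfold Psi at h
  simp only at h
  have hal : ∀ a, (u : F) * ρ a = (u' : F) * ρ' a := by
    intro a
    rw [← C.al_psi u ρ γ, ← C.al_psi u' ρ' γ', h]
  have hu : u = u' := by
    have := hal 1
    rw [map_one, map_one, mul_one, mul_one] at this
    exact Units.ext this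
  subst hu
  have hρ : ρ = ρ' := by
    apply RingEquiv.ext
    intro a
    exact mul_left_cancel₀ u.ne_zero (hal a)
  subst hρ
  have hγ : γ = γ' := by
    apply AddMonoidHom.ext
    intro a
    rw [← C.ga_psi u ρ γ, ← C.ga_psi u ρ γ', h]
  subst hγ
  rfl

theorem Psi_surjective : Function.Surjective C.Psi := by
  intro φ
  set α : F →+ F := AddMonoidHom.mk' (C.al φ) (C.al_add φ) with hα
  set β : F →+ F := AddMonoidHom.mk' (C.be φ) (C.be_add φ) with hβ
  obtain ⟨ρ, h1, h2⟩ := semilinear C.fh α β (C.al_bijective φ) (C.be_bijective φ)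
    (fun a => C.be_norm φ a) (fun a c => C.be_polar φ a c)
  have h1' : ∀ a, C.al φ a = C.al φ 1 * ρ a := h1
  have h2' : ∀ a, C.be φ a = Nm m (C.al φ 1) * ρ a := h2
  have hu : C.al φ 1 ≠ 0 := by
    intro h0
    have := (C.al_bijective φ).1 (h0.trans (C.al_zero φ).symm)
    exact one_ne_zero this
  have hga : ∀ a c, C.ga φ (a + c) = C.ga φ a + C.ga φ c := by
    intro a c
    have h := C.ga_rel φ a c
    have e : sg m (C.al φ a) * C.al φ c = C.be φ (sg m a * c) := by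
      rw [h1' a, h1' c, h2', sg_mul, sg_ringEquiv, map_mul]
      unfold Nm
      ring
    rw [e] at h
    exact (add_right_cancel h).symm
  refine ⟨⟨Units.mk0 _ hu, ρ, AddMonoidHom.mk' (C.ga φ) hga⟩, ?_⟩
  apply MulEquiv.ext
  intro x
  unfold Psi
  rw [psi_apply]
  apply C.ext
  · rw [co1_s, co1_phi]
    exact (h1' _).symm
  · rw [co2_s, co2_phi]
    exact congrArg (fun t => C.ga φ (C.co1 x) + t) (h2' _).symm

theorem card_mulAut (C : Coord F m S) :
    Nat.card (S ≃* S) = Nat.card (Fˣ × (F ≃+* F) × (F →+ F)) :=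
  (Nat.card_congr (Equiv.ofBijective C.Psi ⟨C.Psi_injective, C.Psi_surjective⟩)).symm

/-- the automorphisms acting trivially on the Frattini quotient -/
def C0 : Subgroup (S ≃* S) where
  carrier := {φ | ∀ a, C.al φ a = a}
  mul_mem' := by
    intro φ₁ φ₂ h1 h2 a
    rw [al_comp, h2, h1]
  one_mem' := fun a => C.al_one a
  inv_mem' := by
    intro φ h a
    have := C.al_comp φ⁻¹ φ a
    rw [inv_mul_cancel, al_one, h] at this
    exact this.symm

theorem mem_C0 (φ : S ≃* S) : φ ∈ C.C0 ↔ ∀ a, C.al φ a = a := Iff.rfl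

instance C0_normal : C.C0.Normal := by
  constructor
  intro φ hφ ψ a
  rw [al_comp, al_comp, hφ, ← al_comp, mul_inv_cancel, al_one]

theorem be_of_mem_C0 {φ : S ≃* S} (hφ : φ ∈ C.C0) (b : F) : C.be φ b = b := by
  obtain ⟨a, rfl⟩ := Nm_surjective C.fh b
  have := C.be_norm φ a
  rw [hφ a] at this
  exact this

theorem co1_of_mem_C0 {φ : S ≃* S} (hφ : φ ∈ C.C0) (x : S) : C.co1 (φ x) = C.co1 x := by
  rw [co1_phi, hφ]

theorem co2_of_mem_C0 {φ : S ≃* S} (hφ : φ ∈ C.C0) (x : S) :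
    C.co2 (φ x) = C.ga φ (C.co1 x) + C.co2 x := by
  rw [co2_phi, C.be_of_mem_C0 hφ]

theorem C0_comm {φ₁ φ₂ : S ≃* S} (h1 : φ₁ ∈ C.C0) (h2 : φ₂ ∈ C.C0) : φ₁ * φ₂ = φ₂ * φ₁ := by
  apply MulEquiv.ext
  intro x
  rw [MulAut.mul_apply, MulAut.mul_apply]
  apply C.ext
  · rw [C.co1_of_mem_C0 h1, C.co1_of_mem_C0 h2, C.co1_of_mem_C0 h2, C.co1_of_mem_C0 h1]
  · rw [C.co2_of_mem_C0 h1, C.co2_of_mem_C0 h2, C.co2_of_mem_C0 h2, C.co2_of_mem_C0 h1,
      C.co1_of_mem_C0 h1, C.co1_of_mem_C0 h2]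
    ring

theorem C0_sq {φ : S ≃* S} (h : φ ∈ C.C0) : φ ^ 2 = 1 := by
  rw [pow_two]
  apply MulEquiv.ext
  intro x
  rw [MulAut.mul_apply, MulAut.one_apply]
  apply C.ext
  · rw [C.co1_of_mem_C0 h, C.co1_of_mem_C0 h]
  · rw [C.co2_of_mem_C0 h, C.co2_of_mem_C0 h, C.co1_of_mem_C0 h, ← add_assoc, C.fh.add_self,
      zero_add]

theorem C0_elementary : Cfsg.IsElementaryAbelian 2 C.C0 := by
  refine ⟨⟨⟨?_⟩⟩, fun a ha => C.C0_sq ha⟩
  rintro ⟨a, ha⟩ ⟨b, hb⟩
  exact Subtype.ext (C.C0_comm ha hb)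

theorem psi_mem_C0 (γ : F →+ F) : C.psi 1 (RingEquiv.refl F) γ ∈ C.C0 := by
  intro a
  rw [al_psi]
  simp

theorem card_C0 : Nat.card C.C0 = Nat.card (F →+ F) := by
  symm
  apply Nat.card_eq_of_bijective (fun γ : F →+ F => (⟨_, C.psi_mem_C0 γ⟩ : C.C0))
  constructor
  · intro γ γ' h
    have h' : C.Psi (1, RingEquiv.refl F, γ) = C.Psi (1, RingEquiv.refl F, γ') :=
      congrArg Subtype.val h
    have := C.Psi_injective h'
    exact congrArg (fun t => t.2.2) this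
  · rintro ⟨φ, hφ⟩
    obtain ⟨⟨u, ρ, γ⟩, rfl⟩ := C.Psi_surjective φ
    have hal : ∀ a, (u : F) * ρ a = a := by
      intro a
      rw [← C.al_psi u ρ γ]
      exact hφ a
    have hu : u = 1 := by
      have := hal 1
      rw [map_one, mul_one] at this
      exact Units.ext this
    subst hu
    have hρ : ρ = RingEquiv.refl F := by
      apply RingEquiv.ext
      intro a
      have := hal a
      rw [Units.val_one, one_mul] at this
      exact this
    subst hρ
    exact ⟨γ, rfl⟩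

end Coord

end Cfsg.Agent.Helper8.SzSyl
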