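import Cfsg.Agent.Helper8.SzSylD
import Cfsg.Agent.Helper7.FieldAutCard
import Cfsg.Agent.Helper7.SzLie
import Cfsg.Agent.Helper7.SzAutC
import Cfsg.Agent.Helper4.PCore
set_option autoImplicit false
set_option linter.unusedSectionVars false

/-!
The Suzuki 2-group: the order of the automorphism group and its largest normal 2-subgroup.
-/

namespace Cfsg.Agent.Helper8.SzSyl

open Cfsg.Agent.Helper7.Sz

variable {F : Type*} [Field F] [Fintype F] {m : ℕ}
variable {S : Type*} [Group S]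

theorem card_addHom (h : FH F m) : Nat.card (F →+ F) = 2 ^ ((2 * m + 1) ^ 2) := by
  classical
  have := h.charP
  let _ := ZMod.algebra F 2
  have : Fact (Nat.Prime 2) := ⟨Nat.prime_two⟩
  have e1 := (AddMonoidHom.toZModLinearMapEquiv 2 (M := F) (M₁ := F)).toEquiv
  rw [Nat.card_congr e1]
  let b := Module.finBasis (ZMod 2) F
  have e2 := (b.constr ℕ (M' := F)).toEquiv
  rw [← Nat.card_congr e2, Nat.card_fun, Nat.card_eq_fintype_card, Nat.card_eq_fintype_card,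
    Fintype.card_fin]
  have hd : Module.finrank (ZMod 2) F = 2 * m + 1 := by
    have := Module.card_eq_pow_finrank (K := ZMod 2) (V := F)
    rw [h.card, ZMod.card] at this
    exact (Nat.pow_right_injective (le_refl 2) this).symm
  rw [hd, h.card, ← pow_mul, pow_two]

theorem card_units' (h : FH F m) : Nat.card Fˣ = 2 ^ (2 * m + 1) - 1 := by
  classical
  rw [Nat.card_eq_fintype_card, Fintype.card_units, h.card]

theorem card_ringAut' (h : FH F m) : Nat.card (F ≃+* F) = 2 * m + 1 := by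
  have := h.charP
  have : Fact (Nat.Prime 2) := ⟨Nat.prime_two⟩
  exact Cfsg.Agent.Helper7.FieldAutCard.card_ringAut 2 (2 * m + 1) h.card

theorem pCore_eq_of_normal {G : Type*} [Group G] (p : ℕ) [Fact p.Prime] (N : Subgroup G)
    [N.Normal] (hN : IsPGroup p N) (hidx : ¬ p ∣ N.index) : Cfsg.pCore p G = N := by
  apply le_antisymm
  · exact Cfsg.Agent.Helper4.pCore_le_sylow (hN.toSylow hidx)
  · exact Cfsg.Agent.Helper4.le_pCore N inferInstance hN

theorem Coord.card_aut (C : Coord F m S) :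
    Nat.card (MulAut S) = 2 ^ ((2 * m + 1) ^ 2) * ((2 * m + 1) * (2 ^ (2 * m + 1) - 1)) := by
  show Nat.card (S ≃* S) = _
  rw [C.card_mulAut, Nat.card_prod, Nat.card_prod, card_addHom C.fh, card_units' C.fh,
    card_ringAut' C.fh]
  ring

theorem Coord.pCore_eq (C : Coord F m S) : Cfsg.pCore 2 (MulAut S) = C.C0 := by
  have : Fact (Nat.Prime 2) := ⟨Nat.prime_two⟩
  have hc : Nat.card C.C0 = 2 ^ ((2 * m + 1) ^ 2) := by rw [C.card_C0, card_addHom C.fh]
  have hp : IsPGroup 2 C.C0 := IsPGroup.of_card hc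
  have hidx : C.C0.index = (2 * m + 1) * (2 ^ (2 * m + 1) - 1) := by
    have h1 := C.C0.card_mul_index
    have h2 : Nat.card (S ≃* S) = _ := C.card_aut
    rw [hc, h2] at h1
    exact Nat.eq_of_mul_eq_mul_left (by positivity) h1
  apply pCore_eq_of_normal 2 C.C0 hp
  rw [hidx]
  intro hdvd
  rcases (Nat.Prime.dvd_mul Nat.prime_two).mp hdvd with h1 | h1
  · omega
  · have e : 2 ^ (2 * m + 1) = 2 * 2 ^ (2 * m) := by rw [pow_succ]; ring
    have hpos : 0 < 2 ^ (2 * m) := by positivity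
    rw [e] at h1
    omega

theorem Coord.main (C : Coord F m S) :
    Cfsg.IsElementaryAbelian 2 (Cfsg.pCore 2 (MulAut S)) ∧
      Nat.card ↥(Cfsg.pCore 2 (MulAut S)) = 2 ^ ((2 * m + 1) ^ 2) ∧
      Nat.card (MulAut S) = 2 ^ ((2 * m + 1) ^ 2) * ((2 * m + 1) * (2 ^ (2 * m + 1) - 1)) := by
  rw [C.pCore_eq]
  refine ⟨C.C0_elementary, ?_, C.card_aut⟩
  rw [C.card_C0, card_addHom C.fh]

theorem exists_coord (hm : 1 ≤ m) (hF : Fintype.card F = 2 ^ (2 * m + 1))
    (P : Sylow 2 ↥(Cfsg.Lie.Sz F (2 ^ (m + 1)))) (hS : Nonempty (S ≃* ↥P)) :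
    Nonempty (Coord F m S) := by
  classical
  have h : FH F m := ⟨hm, hF⟩
  have : Fact (Nat.Prime 2) := ⟨Nat.prime_two⟩
  let e := Cfsg.Agent.Helper7.SzLie.lieEquiv h
  have hfin : Finite (Cfsg.Sz F m) := inferInstance
  have hfin' : Finite ↥(Cfsg.Lie.Sz F (2 ^ (m + 1))) := Finite.of_equiv _ e.toEquiv
  have hcard : Nat.card ((Usub h).map
      (e : ↥(Cfsg.Sz F m) →* ↥(Cfsg.Lie.Sz F (2 ^ (m + 1))))) =
      2 ^ (Nat.card ↥(Cfsg.Lie.Sz F (2 ^ (m + 1)))).factorization 2 := by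
    rw [← Nat.card_congr (e.subgroupMap (Usub h)).toEquiv, card_Usub_eq h,
      Nat.card_congr e.toEquiv]
  let Q : Sylow 2 ↥(Cfsg.Lie.Sz F (2 ^ (m + 1))) := Sylow.ofCard _ hcard
  let ψ : S ≃* Usub h := hS.some.trans ((Sylow.equiv P Q).trans (e.subgroupMap (Usub h)).symm)
  refine ⟨⟨fun a b => ψ.symm (UsubMap h (a, b)), h, ?_, ?_⟩⟩
  · intro a b c d
    rw [← map_mul]
    congr 1
    exact Subtype.ext (TelS_mul h a b c d)
  · exact ψ.symm.bijective.comp (UsubMap_bijective h)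

/-- the automorphism group of a Sylow 2-subgroup of a Suzuki group -/
theorem main (hm : 1 ≤ m) (hF : Fintype.card F = 2 ^ (2 * m + 1))
    (P : Sylow 2 ↥(Cfsg.Lie.Sz F (2 ^ (m + 1)))) (hS : Nonempty (S ≃* ↥P)) :
    Cfsg.IsElementaryAbelian 2 (Cfsg.pCore 2 (MulAut S)) ∧
      Nat.card ↥(Cfsg.pCore 2 (MulAut S)) = 2 ^ ((2 * m + 1) ^ 2) ∧
      Nat.card (MulAut S) = 2 ^ ((2 * m + 1) ^ 2) * ((2 * m + 1) * (2 ^ (2 * m + 1) - 1)) := by
  obtain ⟨C⟩ := exists_coord hm hF P hS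
  exact C.main

end Cfsg.Agent.Helper8.SzSyl
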