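import Cfsg.Agent.Helper7.ExtFH

set_option autoImplicit false
set_option linter.unusedSectionVars false
set_option linter.unusedVariables false

/-! Tensor decompositions (helper8), part A: the abstract model.  `t : U →ₗ W →ₗ V` is a bilinear map
making `V` the tensor product of `U` and `W`; evaluations `ev l : V → U` and `evU a : V → W`, fibres
`fib t w = U ⊗ w`, tensor maps `tmap A B`, root elements `xB w l = 1 ⊗ (1 + w l)` and
`xA u a = (1 + u a) ⊗ 1`. -/

namespace Cfsg.Agent.Helper8.Tens

open Module Cfsg.Agent.Helper7.ExtF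

variable {F : Type*} [Field F] {U W V : Type*} [AddCommGroup U] [Module F U]
  [AddCommGroup W] [Module F W] [AddCommGroup V] [Module F V]
  {t : U →ₗ[F] W →ₗ[F] V}

/-- two linear maps agreeing on pure tensors are equal. -/
theorem ext_pure (ht : IsTensorProduct t) {V' : Type*} [AddCommGroup V'] [Module F V']
    {f g : V →ₗ[F] V'} (h : ∀ u w, f (t u w) = g (t u w)) : f = g := by
  apply LinearMap.ext; intro v
  exact ht.inductionOn v (by simp) h (fun x y hx hy => by rw [map_add, map_add, hx, hy])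

/-- the pure tensors span. -/
theorem span_pure (ht : IsTensorProduct t) :
    Submodule.span F {v : V | ∃ u w, t u w = v} = ⊤ := by
  rw [eq_top_iff]; intro v _
  exact ht.inductionOn v (Submodule.zero_mem _) (fun u w => Submodule.subset_span ⟨u, w, rfl⟩)
    (fun x y hx hy => Submodule.add_mem _ hx hy)

/-- the bilinear map `(u, w) ↦ l w • u`. -/
def evB (l : Module.Dual F W) : U →ₗ[F] W →ₗ[F] U :=
  LinearMap.mk₂ F (fun u w => l w • u) (fun _ _ _ => smul_add _ _ _)
    (fun _ _ _ => smul_comm _ _ _) (fun _ _ _ => by rw [map_add, add_smul])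
    (fun _ _ _ => by rw [map_smul, smul_eq_mul, mul_smul])

/-- the bilinear map `(u, w) ↦ a u • w`. -/
def evUB (a : Module.Dual F U) : U →ₗ[F] W →ₗ[F] W :=
  LinearMap.mk₂ F (fun u w => a u • w) (fun _ _ _ => by rw [map_add, add_smul])
    (fun _ _ _ => by rw [map_smul, smul_eq_mul, mul_smul]) (fun _ _ _ => smul_add _ _ _)
    (fun _ _ _ => smul_comm _ _ _)

/-- evaluation of the second factor: `t u w ↦ l w • u`. -/
noncomputable def ev (ht : IsTensorProduct t) (l : Module.Dual F W) : V →ₗ[F] U := ht.lift (evB l)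

/-- evaluation of the first factor: `t u w ↦ a u • w`. -/
noncomputable def evU (ht : IsTensorProduct t) (a : Module.Dual F U) : V →ₗ[F] W :=
  ht.lift (evUB a)

@[simp] theorem ev_t (ht : IsTensorProduct t) (l : Module.Dual F W) (u : U) (w : W) :
    ev ht l (t u w) = l w • u := by
  rw [ev, ht.lift_eq]; rfl

@[simp] theorem evU_t (ht : IsTensorProduct t) (a : Module.Dual F U) (u : U) (w : W) :
    evU ht a (t u w) = a u • w := by
  rw [evU, ht.lift_eq]; rfl

theorem ev_add (ht : IsTensorProduct t) (l l' : Module.Dual F W) :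
    ev ht (l + l') = ev ht l + ev ht l' := by
  apply ext_pure ht; intro u w
  simp [add_smul]

theorem ev_smul (ht : IsTensorProduct t) (c : F) (l : Module.Dual F W) :
    ev ht (c • l) = c • ev ht l := by
  apply ext_pure ht; intro u w
  simp [mul_smul]

theorem ev_zero (ht : IsTensorProduct t) : ev ht (0 : Module.Dual F W) = 0 := by
  apply ext_pure ht; intro u w
  simp

theorem evU_add (ht : IsTensorProduct t) (a a' : Module.Dual F U) :
    evU ht (a + a') = evU ht a + evU ht a' := by
  apply ext_pure ht; intro u w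
  simp [add_smul]

theorem evU_smul (ht : IsTensorProduct t) (c : F) (a : Module.Dual F U) :
    evU ht (c • a) = c • evU ht a := by
  apply ext_pure ht; intro u w
  simp [mul_smul]

/-- evaluation at a fixed vector, as a linear map in the functional. -/
noncomputable def evAt (ht : IsTensorProduct t) (v : V) : Module.Dual F W →ₗ[F] U where
  toFun l := ev ht l v
  map_add' l l' := by rw [ev_add]; rfl
  map_smul' c l := by rw [ev_smul]; rfl

@[simp] theorem evAt_apply (ht : IsTensorProduct t) (v : V) (l : Module.Dual F W) :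
    evAt ht v l = ev ht l v := rfl

/-- the two evaluations commute. -/
theorem ev_evU (ht : IsTensorProduct t) (l : Module.Dual F W) (a : Module.Dual F U) (v : V) :
    a (ev ht l v) = l (evU ht a v) := by
  have : (a : U →ₗ[F] F).comp (ev ht l) = (l : W →ₗ[F] F).comp (evU ht a) := by
    apply ext_pure ht; intro u w
    simp [mul_comm]
  exact LinearMap.congr_fun this v

/-- the fibre `U ⊗ w`. -/
def fib (t : U →ₗ[F] W →ₗ[F] V) (w : W) : Submodule F V := LinearMap.range (t.flip w)

theorem mem_fib {w : W} {v : V} : v ∈ fib t w ↔ ∃ u, t u w = v := by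
  rw [fib, LinearMap.mem_range]; rfl

theorem t_mem_fib (u : U) (w : W) : t u w ∈ fib t w := mem_fib.mpr ⟨u, rfl⟩

theorem exists_dual_eq_one {M : Type*} [AddCommGroup M] [Module F M] {w : M} (hw : w ≠ 0) :
    ∃ l : Module.Dual F M, l w = 1 := by
  have hnot : w ∉ (⊥ : Submodule F M) := by simpa using hw
  obtain ⟨l, -, hl⟩ := exists_kfunc (K := F) (⊥ : Submodule F M) hnot
  exact ⟨l, hl⟩

theorem t_left_injective (ht : IsTensorProduct t) {w : W} (hw : w ≠ 0) :
    Function.Injective (t.flip w) := by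
  obtain ⟨l, hl⟩ := exists_dual_eq_one (F := F) hw
  intro u u' h
  have := congrArg (ev ht l) h
  simpa [hl] using this

theorem t_right_injective (ht : IsTensorProduct t) {u : U} (hu : u ≠ 0) :
    Function.Injective (t u) := by
  obtain ⟨a, ha⟩ := exists_dual_eq_one (F := F) hu
  intro w w' h
  have := congrArg (evU ht a) h
  simpa [ha] using this

theorem t_eq_zero_iff (ht : IsTensorProduct t) {u : U} {w : W} : t u w = 0 ↔ u = 0 ∨ w = 0 := by
  constructor
  · intro h
    by_contra hcon
    push Not at hcon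
    have := t_left_injective ht hcon.2 (a₁ := u) (a₂ := 0) (by simpa using h)
    exact hcon.1 this
  · rintro (h | h) <;> simp [h]

theorem finrank_fib (ht : IsTensorProduct t) {w : W} (hw : w ≠ 0) :
    finrank F ↥(fib t w) = finrank F U :=
  LinearMap.finrank_range_of_inj (t_left_injective ht hw)

theorem fib_smul {c : F} (hc : c ≠ 0) (w : W) : fib t (c • w) = fib t w := by
  ext v
  rw [mem_fib, mem_fib]
  constructor
  · rintro ⟨u, rfl⟩; exact ⟨c • u, by simp⟩
  · rintro ⟨u, rfl⟩
    exact ⟨c⁻¹ • u, by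
      rw [map_smul, map_smul, LinearMap.smul_apply, smul_smul, mul_inv_cancel₀ hc, one_smul]⟩

/-- the kernel of `ev l` restricted to a fibre. -/
theorem ev_eq_zero_of_mem_fib (ht : IsTensorProduct t) {l : Module.Dual F W} {w : W} (h : l w = 0)
    {v : V} (hv : v ∈ fib t w) : ev ht l v = 0 := by
  obtain ⟨u, rfl⟩ := mem_fib.mp hv
  simp [h]

/-- the tensor product of two automorphisms. -/
noncomputable def tmap (ht : IsTensorProduct t) (A : U ≃ₗ[F] U) (B : W ≃ₗ[F] W) : V ≃ₗ[F] V :=
  LinearEquiv.ofLinearMap (ht.map ht A.toLinearMap B.toLinearMap)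
    (ht.map ht A.symm.toLinearMap B.symm.toLinearMap)
    (by apply ext_pure ht; intro u w; simp)
    (by apply ext_pure ht; intro u w; simp)

@[simp] theorem tmap_t (ht : IsTensorProduct t) (A : U ≃ₗ[F] U) (B : W ≃ₗ[F] W) (u : U) (w : W) :
    tmap ht A B (t u w) = t (A u) (B w) := by
  simp [tmap]

/-- an automorphism determined on pure tensors. -/
theorem equiv_ext_pure (ht : IsTensorProduct t) {g h : V ≃ₗ[F] V}
    (hgh : ∀ u w, g (t u w) = h (t u w)) : g = h := by
  apply LinearEquiv.toLinearMap_injective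
  exact ext_pure ht hgh

theorem tmap_mul (ht : IsTensorProduct t) (A A' : U ≃ₗ[F] U) (B B' : W ≃ₗ[F] W) :
    tmap ht A B * tmap ht A' B' = tmap ht (A * A') (B * B') := by
  apply equiv_ext_pure ht; intro u w
  simp [LinearEquiv.mul_apply]

theorem tmap_one (ht : IsTensorProduct t) : tmap ht (1 : U ≃ₗ[F] U) (1 : W ≃ₗ[F] W) = 1 := by
  apply equiv_ext_pure ht; intro u w
  simp

theorem tmap_inv (ht : IsTensorProduct t) (A : U ≃ₗ[F] U) (B : W ≃ₗ[F] W) :
    (tmap ht A B)⁻¹ = tmap ht A⁻¹ B⁻¹ := by
  apply inv_eq_of_mul_eq_one_right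
  rw [tmap_mul, mul_inv_cancel, mul_inv_cancel, tmap_one]

/-- the automorphisms preserving the tensor decomposition. -/
def IsTens (t : U →ₗ[F] W →ₗ[F] V) (g : V ≃ₗ[F] V) : Prop :=
  ∃ (A : U ≃ₗ[F] U) (B : W ≃ₗ[F] W), ∀ u w, g (t u w) = t (A u) (B w)

theorem isTens_tmap (ht : IsTensorProduct t) (A : U ≃ₗ[F] U) (B : W ≃ₗ[F] W) :
    IsTens t (tmap ht A B) := ⟨A, B, tmap_t ht A B⟩

theorem IsTens.eq_tmap (ht : IsTensorProduct t) {g : V ≃ₗ[F] V} (hg : IsTens t g) :
    ∃ A B, g = tmap ht A B := by
  obtain ⟨A, B, h⟩ := hg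
  exact ⟨A, B, equiv_ext_pure ht (fun u w => by rw [h, tmap_t])⟩

theorem IsTens.mul (ht : IsTensorProduct t) {g h : V ≃ₗ[F] V} (hg : IsTens t g) (hh : IsTens t h) :
    IsTens t (g * h) := by
  obtain ⟨A, B, rfl⟩ := hg.eq_tmap ht
  obtain ⟨A', B', rfl⟩ := hh.eq_tmap ht
  rw [tmap_mul]; exact isTens_tmap ht _ _

theorem IsTens.inv (ht : IsTensorProduct t) {g : V ≃ₗ[F] V} (hg : IsTens t g) : IsTens t g⁻¹ := by
  obtain ⟨A, B, rfl⟩ := hg.eq_tmap ht
  rw [tmap_inv]; exact isTens_tmap ht _ _

theorem ev_tmap (ht : IsTensorProduct t) (A : U ≃ₗ[F] U) (B : W ≃ₗ[F] W) (l : Module.Dual F W)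
    (v : V) : ev ht l (tmap ht A B v) = A (ev ht (l.comp B.toLinearMap) v) := by
  have : (ev ht l).comp (tmap ht A B).toLinearMap =
      A.toLinearMap.comp (ev ht (l.comp B.toLinearMap)) := by
    apply ext_pure ht; intro u w
    simp
  exact LinearMap.congr_fun this v

/-- the image of a fibre under a tensor map. -/
theorem map_fib_tmap (ht : IsTensorProduct t) (A : U ≃ₗ[F] U) (B : W ≃ₗ[F] W) (w : W) :
    (fib t w).map (tmap ht A B).toLinearMap = fib t (B w) := by
  ext v
  rw [Submodule.mem_map, mem_fib]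
  constructor
  · rintro ⟨y, hy, rfl⟩
    obtain ⟨u, rfl⟩ := mem_fib.mp hy
    exact ⟨A u, by simp⟩
  · rintro ⟨u, rfl⟩
    exact ⟨t (A.symm u) w, t_mem_fib _ _, by simp⟩

/-- the square-zero endomorphism `v ↦ t (ev l v) w`. -/
noncomputable def NB (ht : IsTensorProduct t) (w : W) (l : Module.Dual F W) : Module.End F V :=
  (t.flip w).comp (ev ht l)

@[simp] theorem NB_apply (ht : IsTensorProduct t) (w : W) (l : Module.Dual F W) (v : V) :
    NB ht w l v = t (ev ht l v) w := rfl

theorem NB_sq (ht : IsTensorProduct t) {w : W} {l : Module.Dual F W} (h : l w = 0) :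
    NB ht w l * NB ht w l = 0 := by
  apply LinearMap.ext; intro v
  simp [h]

/-- the root element `1 ⊗ (1 + w l)` of the second factor. -/
noncomputable def xB (ht : IsTensorProduct t) (w : W) (l : Module.Dual F W) (h : l w = 0) :
    V ≃ₗ[F] V := uni (NB ht w l) (NB_sq ht h)

@[simp] theorem xB_apply (ht : IsTensorProduct t) (w : W) (l : Module.Dual F W) (h : l w = 0)
    (v : V) : xB ht w l h v = v + t (ev ht l v) w := rfl

theorem xB_inv_apply (ht : IsTensorProduct t) (w : W) (l : Module.Dual F W) (h : l w = 0)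
    (v : V) : (xB ht w l h)⁻¹ v = v - t (ev ht l v) w := by
  rw [xB, uni_inv_apply]; rfl

theorem xB_t (ht : IsTensorProduct t) (w : W) (l : Module.Dual F W) (h : l w = 0) (u : U)
    (w' : W) : xB ht w l h (t u w') = t u (w' + l w' • w) := by
  simp

theorem xB_eq_tmap (ht : IsTensorProduct t) (w : W) (l : Module.Dual F W) (h : l w = 0) :
    xB ht w l h = tmap ht (LinearEquiv.refl F U) (LinearEquiv.transvection h) := by
  apply equiv_ext_pure ht; intro u w'
  rw [xB_t, tmap_t, LinearEquiv.transvection.apply]; rfl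

/-- the square-zero endomorphism `v ↦ t u (evU a v)`. -/
noncomputable def NA (ht : IsTensorProduct t) (u : U) (a : Module.Dual F U) : Module.End F V :=
  (t u).comp (evU ht a)

@[simp] theorem NA_apply (ht : IsTensorProduct t) (u : U) (a : Module.Dual F U) (v : V) :
    NA ht u a v = t u (evU ht a v) := rfl

theorem NA_sq (ht : IsTensorProduct t) {u : U} {a : Module.Dual F U} (h : a u = 0) :
    NA ht u a * NA ht u a = 0 := by
  apply LinearMap.ext; intro v
  simp [h]

/-- the root element `(1 + u a) ⊗ 1` of the first factor. -/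
noncomputable def xA (ht : IsTensorProduct t) (u : U) (a : Module.Dual F U) (h : a u = 0) :
    V ≃ₗ[F] V := uni (NA ht u a) (NA_sq ht h)

@[simp] theorem xA_apply (ht : IsTensorProduct t) (u : U) (a : Module.Dual F U) (h : a u = 0)
    (v : V) : xA ht u a h v = v + t u (evU ht a v) := rfl

theorem xA_inv_apply (ht : IsTensorProduct t) (u : U) (a : Module.Dual F U) (h : a u = 0)
    (v : V) : (xA ht u a h)⁻¹ v = v - t u (evU ht a v) := by
  rw [xA, uni_inv_apply]; rfl

theorem xA_t (ht : IsTensorProduct t) (u : U) (a : Module.Dual F U) (h : a u = 0) (u' : U)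
    (w : W) : xA ht u a h (t u' w) = t (u' + a u' • u) w := by
  simp

theorem xA_eq_tmap (ht : IsTensorProduct t) (u : U) (a : Module.Dual F U) (h : a u = 0) :
    xA ht u a h = tmap ht (LinearEquiv.transvection h) (LinearEquiv.refl F W) := by
  apply equiv_ext_pure ht; intro u' w
  rw [xA_t, tmap_t, LinearEquiv.transvection.apply]; rfl

/-- the range of `xB - 1`. -/
theorem range_NB (ht : IsTensorProduct t) {w : W} {l : Module.Dual F W} (hl : l ≠ 0) :
    LinearMap.range (NB ht w l) = fib t w := by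
  apply le_antisymm
  · rintro _ ⟨v, rfl⟩; exact t_mem_fib _ _
  · intro v hv
    obtain ⟨u, rfl⟩ := mem_fib.mp hv
    have : ∃ w', l w' ≠ 0 := by
      by_contra hcon
      push Not at hcon
      exact hl (LinearMap.ext hcon)
    obtain ⟨w', hw'⟩ := this
    refine ⟨t ((l w')⁻¹ • u) w', ?_⟩
    rw [NB_apply, ev_t, smul_smul, mul_inv_cancel₀ hw', one_smul]

/-- the kernel of `xB - 1`. -/
theorem ker_NB (ht : IsTensorProduct t) {w : W} (hw : w ≠ 0) (l : Module.Dual F W) :
    LinearMap.ker (NB ht w l) = LinearMap.ker (ev ht l) := by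
  ext v
  rw [LinearMap.mem_ker, LinearMap.mem_ker, NB_apply]
  constructor
  · intro h
    rcases (t_eq_zero_iff ht).mp h with h | h
    · exact h
    · exact absurd h hw
  · intro h; rw [h]; simp

end Cfsg.Agent.Helper8.Tens
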