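import Cfsg.Agent.Helper8.TensA

set_option autoImplicit false
set_option linter.unusedSectionVars false
set_option linter.unusedVariables false

/-! Tensor decompositions (helper8), part B: root elements, displacement spaces, small geometric
lemmas on fibres, and the key "no stabiliser" lemma of the max-intersection argument. -/

namespace Cfsg.Agent.Helper8.Tens

open Module Cfsg.Agent.Helper7.ExtF

variable {F : Type*} [Field F] {U W V : Type*} [AddCommGroup U] [Module F U]
  [AddCommGroup W] [Module F W] [AddCommGroup V] [Module F V]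
  {t : U →ₗ[F] W →ₗ[F] V}

/-- a (non-trivial) root element of the second factor. -/
def IsRootB (ht : IsTensorProduct t) (x : V ≃ₗ[F] V) : Prop :=
  ∃ (w : W) (l : Module.Dual F W) (h : l w = 0), w ≠ 0 ∧ l ≠ 0 ∧ x = xB ht w l h

/-- the displacement space `im (y - 1)`. -/
def disp (y : V ≃ₗ[F] V) : Submodule F V := LinearMap.range ((y : V →ₗ[F] V) - 1)

theorem mem_disp {y : V ≃ₗ[F] V} {v : V} : v ∈ disp y ↔ ∃ r, y r - r = v := by
  rw [disp, LinearMap.mem_range]; rfl

theorem disp_xB (ht : IsTensorProduct t) {w : W} {l : Module.Dual F W} (h : l w = 0) (hl : l ≠ 0) :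
    disp (xB ht w l h) = fib t w := by
  rw [← range_NB ht hl]
  ext v
  rw [mem_disp, LinearMap.mem_range]
  constructor
  · rintro ⟨r, rfl⟩; exact ⟨r, by simp⟩
  · rintro ⟨r, rfl⟩; exact ⟨r, by simp⟩

theorem disp_conj (g y : V ≃ₗ[F] V) : disp (g * y * g⁻¹) = img g (disp y) := by
  ext v
  rw [mem_disp, mem_img]
  constructor
  · rintro ⟨r, rfl⟩
    refine ⟨y (g⁻¹ r) - g⁻¹ r, mem_disp.mpr ⟨_, rfl⟩, ?_⟩
    rw [map_sub]
    have e : g (g⁻¹ r) = r := by
      rw [← LinearEquiv.mul_apply g g⁻¹, mul_inv_cancel]; rfl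
    simp only [LinearEquiv.mul_apply, e]
  · rintro ⟨z, hz, rfl⟩
    obtain ⟨r, rfl⟩ := mem_disp.mp hz
    refine ⟨g r, ?_⟩
    rw [map_sub]
    have e : g⁻¹ (g r) = r := by
      rw [← LinearEquiv.mul_apply g⁻¹ g, inv_mul_cancel]; rfl
    simp only [LinearEquiv.mul_apply, e]

/-- a pure tensor in a fibre. -/
theorem span_of_t_mem_fib (ht : IsTensorProduct t) {u : U} (hu : u ≠ 0) {w₁ w₀ : W}
    (h : t u w₁ ∈ fib t w₀) : ∃ c : F, w₁ = c • w₀ := by
  obtain ⟨u', hu'⟩ := mem_fib.mp h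
  obtain ⟨a, ha⟩ := exists_dual_eq_one (F := F) hu
  have := congrArg (evU ht a) hu'
  rw [evU_t, evU_t, ha, one_smul] at this
  exact ⟨a u', this.symm⟩

/-- distinct fibres meet trivially. -/
theorem fib_inf_fib (ht : IsTensorProduct t) {w w' : W} (hw : w ≠ 0) (hw' : w' ≠ 0)
    (hne : fib t w ≠ fib t w') : fib t w ⊓ fib t w' = ⊥ := by
  rw [eq_bot_iff]
  rintro v ⟨h1, h2⟩
  rw [Submodule.mem_bot]
  by_contra hv
  obtain ⟨u, rfl⟩ := mem_fib.mp h1
  have hu : u ≠ 0 := by
    rintro rfl; apply hv; simp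
  obtain ⟨c, hc⟩ := span_of_t_mem_fib ht hu h2
  have hc0 : c ≠ 0 := by
    rintro rfl; rw [zero_smul] at hc; exact hw hc
  apply hne
  rw [hc, fib_smul hc0]

/-- a non-zero vector in a space of positive dimension. -/
theorem exists_ne_zero_of_one_le {M : Type*} [AddCommGroup M] [Module F M] [FiniteDimensional F M]
    (h : 1 ≤ finrank F M) : ∃ m : M, m ≠ 0 := by
  have : 0 < finrank F M := by omega
  rw [Module.finrank_pos_iff_exists_ne_zero] at this
  exact this

/-- a non-zero functional vanishing at two given vectors. -/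
theorem exists_dual_two [FiniteDimensional F W] (h3 : 3 ≤ finrank F W) (w₁ w₂ : W) :
    ∃ l : Module.Dual F W, l ≠ 0 ∧ l w₁ = 0 ∧ l w₂ = 0 := by
  obtain ⟨w₃, hw₃⟩ := exists_notMem_span_pair (K := F) h3 w₁ w₂
  obtain ⟨l, hl, hl1⟩ := exists_kfunc (K := F) (Submodule.span F {w₁, w₂}) hw₃
  refine ⟨l, ?_, hl _ (Submodule.subset_span (by simp)), hl _ (Submodule.subset_span (by simp))⟩
  rintro rfl
  simp at hl1

/-- a non-zero vector in the kernel of a functional. -/
theorem exists_ker_ne_zero [FiniteDimensional F W] (h2 : 2 ≤ finrank F W) (l : Module.Dual F W) :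
    ∃ w : W, w ≠ 0 ∧ l w = 0 := by
  by_contra hcon
  push Not at hcon
  have hinj : Function.Injective l := by
    rw [← LinearMap.ker_eq_bot, eq_bot_iff]
    intro w hw
    rw [Submodule.mem_bot]
    by_contra hw0
    exact hcon w hw0 (LinearMap.mem_ker.mp hw)
  have := LinearMap.finrank_le_finrank_of_injective hinj
  rw [finrank_self] at this
  omega

/-- the functionals vanishing at `w`. -/
def annih (F : Type*) [Field F] {W : Type*} [AddCommGroup W] [Module F W] (w : W) :
    Submodule F (Module.Dual F W) := LinearMap.ker (Module.Dual.eval F W w)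

theorem mem_annih {w : W} {l : Module.Dual F W} : l ∈ annih F w ↔ l w = 0 := by
  rw [annih, LinearMap.mem_ker]; rfl

theorem finrank_annih [FiniteDimensional F W] {w : W} (hw : w ≠ 0) :
    finrank F ↥(annih F w) + 1 = finrank F W := by
  have hsurj : Function.Surjective (Module.Dual.eval F W w) := by
    obtain ⟨l, hl⟩ := exists_dual_eq_one (F := F) hw
    intro c
    exact ⟨c • l, by simp [hl]⟩
  have h1 := LinearMap.finrank_range_add_finrank_ker (Module.Dual.eval F W w)
  rw [LinearMap.range_eq_top.mpr hsurj, finrank_top, finrank_self, Subspace.dual_finrank_eq] at h1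
  rw [annih]; omega

/-- conjugates of commuting elements commute. -/
theorem conj_commute {G : Type*} [Group G] (g a b : G) (h : a * b = b * a) :
    (g * a * g⁻¹) * (g * b * g⁻¹) = (g * b * g⁻¹) * (g * a * g⁻¹) := by
  have e1 : (g * a * g⁻¹) * (g * b * g⁻¹) = g * (a * b) * g⁻¹ := by group
  have e2 : (g * b * g⁻¹) * (g * a * g⁻¹) = g * (b * a) * g⁻¹ := by group
  rw [e1, e2, h]

/-- two root elements of the second factor commute when the functional of each kills the centre
of the other. -/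
theorem xB_commute (ht : IsTensorProduct t) {w w' : W} {l l' : Module.Dual F W} (h : l w = 0)
    (h' : l' w' = 0) (h1 : l w' = 0) (h2 : l' w = 0) :
    xB ht w l h * xB ht w' l' h' = xB ht w' l' h' * xB ht w l h := by
  apply equiv_ext_pure ht; intro u w''
  rw [LinearEquiv.mul_apply, LinearEquiv.mul_apply, xB_t, xB_t, xB_t, xB_t]
  congr 1
  simp only [map_add, map_smul, h1, h2, smul_eq_mul, mul_zero, add_zero]
  abel

/-- an automorphism commuting with `x` preserves the displacement space of `x`. -/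
theorem img_disp_of_commute [FiniteDimensional F V] {x y : V ≃ₗ[F] V} (h : y * x = x * y) :
    img y (disp x) = disp x := by
  apply eq_of_le_of_finrank
  · intro v hv
    obtain ⟨z, hz, rfl⟩ := mem_img.mp hv
    obtain ⟨r, rfl⟩ := mem_disp.mp hz
    refine mem_disp.mpr ⟨y r, ?_⟩
    rw [map_sub]
    have := LinearEquiv.congr_fun h r
    simp only [LinearEquiv.mul_apply] at this
    rw [this]
  · rw [finrank_img]

section nostab

variable [FiniteDimensional F U] [FiniteDimensional F W] [FiniteDimensional F V]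

/-- the hypothesis of the max-intersection argument: a conjugate (in `X`) of a root element that
stabilises a fibre is a root element. -/
def RootHyp (ht : IsTensorProduct t) (X : Subgroup (V ≃ₗ[F] V)) : Prop :=
  ∀ g ∈ X, ∀ x, IsRootB ht x → ∀ w : W, w ≠ 0 → img (g * x * g⁻¹) (fib t w) = fib t w →
    IsRootB ht (g * x * g⁻¹)

/-- a root element stabilising a fibre kills its direction. -/
theorem dual_eq_zero_of_stab (ht : IsTensorProduct t) (hU : 1 ≤ finrank F U) {w'' w₀ : W}
    {l'' : Module.Dual F W} (h : l'' w'' = 0) (hw'' : w'' ≠ 0) (hw₀ : w₀ ≠ 0)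
    (hst : img (xB ht w'' l'' h) (fib t w₀) = fib t w₀) : l'' w₀ = 0 := by
  by_contra hc
  obtain ⟨u, hu⟩ := exists_ne_zero_of_one_le (F := F) (M := U) hU
  have h1 : xB ht w'' l'' h (t u w₀) ∈ fib t w₀ := by
    rw [← hst]; exact apply_mem_img (t_mem_fib u w₀)
  rw [xB_t] at h1
  obtain ⟨c, hc'⟩ := span_of_t_mem_fib ht hu h1
  -- `l'' w₀ • w'' = (c - 1) • w₀`
  have h2 : l'' w₀ • w'' = (c - 1) • w₀ := by
    rw [sub_smul, one_smul, ← hc']; abel
  have h3 := congrArg l'' h2
  rw [map_smul, map_smul, h, smul_eq_mul, mul_zero, smul_eq_mul] at h3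
  rcases mul_eq_zero.mp h3.symm with h4 | h4
  · rw [h4, zero_smul] at h2
    rcases smul_eq_zero.mp h2 with h5 | h5
    · exact hc h5
    · exact hw'' h5
  · exact hc h4

/-- the key lemma: a root element with centre `w` cannot stabilise a non-fibre `R` of the orbit. -/
theorem no_stab (ht : IsTensorProduct t) (hU : 1 ≤ finrank F U) (h3 : 3 ≤ finrank F W)
    (X : Subgroup (V ≃ₗ[F] V)) (hXB : ∀ w l h, xB ht w l h ∈ X) (hyp : RootHyp ht X)
    {g : V ≃ₗ[F] V} (hg : g ∈ X) {w₀ : W} (hw₀ : w₀ ≠ 0)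
    (hR : ∀ w' : W, w' ≠ 0 → img g (fib t w₀) ≠ fib t w')
    {w : W} {l : Module.Dual F W} (h : l w = 0) (hw : w ≠ 0) (hl : l ≠ 0)
    (hst : img (xB ht w l h) (img g (fib t w₀)) = img g (fib t w₀)) : False := by
  set x := xB ht w l h with hx
  have hxr : IsRootB ht x := ⟨w, l, h, hw, hl, rfl⟩
  -- the conjugate `x' = g⁻¹ x g` stabilises the fibre of `w₀`
  have hx'st : img (g⁻¹ * x * g⁻¹⁻¹) (fib t w₀) = fib t w₀ := by
    rw [inv_inv, img_mul, img_mul, hst, img_inv_img]
  obtain ⟨w'', l'', h'', hw'', hl'', hx'⟩ := hyp g⁻¹ (X.inv_mem hg) x hxr w₀ hw₀ hx'st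
  rw [hx'] at hx'st
  have hl''w₀ : l'' w₀ = 0 := dual_eq_zero_of_stab ht hU h'' hw'' hw₀ hx'st
  obtain ⟨l₀, hl₀, hl₀w₀, hl₀w''⟩ := exists_dual_two h3 w₀ w''
  set x₀ := xB ht w₀ l₀ hl₀w₀ with hx₀
  have hcomm : x₀ * xB ht w'' l'' h'' = xB ht w'' l'' h'' * x₀ :=
    xB_commute ht hl₀w₀ h'' hl₀w'' hl''w₀
  set y := g * x₀ * g⁻¹ with hy
  have hxg : x = g * xB ht w'' l'' h'' * g⁻¹ := by
    rw [← hx']; group
  have hyx : y * x = x * y := by
    rw [hxg, hy]; exact conj_commute g _ _ hcomm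
  have hyst : img y (fib t w) = fib t w := by
    have := img_disp_of_commute hyx
    rwa [hx, disp_xB ht h hl] at this
  have hx₀r : IsRootB ht x₀ := ⟨w₀, l₀, hl₀w₀, hw₀, hl₀, rfl⟩
  obtain ⟨w₃, l₃, h₃, hw₃, hl₃, hy₃⟩ := hyp g hg x₀ hx₀r w hw hyst
  have hd : disp y = img g (fib t w₀) := by
    rw [hy, disp_conj, hx₀, disp_xB ht hl₀w₀ hl₀]
  have hy₃' : y = xB ht w₃ l₃ h₃ := hy₃
  rw [hy₃', disp_xB ht h₃ hl₃] at hd
  exact hR w₃ hw₃ hd.symm

end nostab

end Cfsg.Agent.Helper8.Tens
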