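import Cfsg.Agent.Helper8.TensC

set_option autoImplicit false
set_option linter.unusedSectionVars false
set_option linter.unusedVariables false

/-! Tensor decompositions (helper8), part D: recognition of root elements among the elements
`A ⊗ B` (a quadratic element `A ⊗ B` whose displacement space has the dimension of `U` is a root
element of the second factor when `dim U < dim W`), and the resulting form of the main theorem. -/

namespace Cfsg.Agent.Helper8.Tens

open Module Cfsg.Agent.Helper7.ExtF

variable {F : Type*} [Field F] {U W V : Type*} [AddCommGroup U] [Module F U]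
  [AddCommGroup W] [Module F W] [AddCommGroup V] [Module F V]
  {t : U →ₗ[F] W →ₗ[F] V}

/-- quadratic: `(y - 1)² = 0`. -/
def Quad (y : V ≃ₗ[F] V) : Prop := ∀ v, y (y v) + v = y v + y v

theorem quad_xB (ht : IsTensorProduct t) (w : W) (l : Module.Dual F W) (h : l w = 0) :
    Quad (xB ht w l h) := by
  intro v
  simp only [xB_apply, map_add, ev_t, h, zero_smul, LinearMap.map_zero₂, LinearMap.add_apply]
  abel

theorem quad_conj {x : V ≃ₗ[F] V} (hx : Quad x) (g : V ≃ₗ[F] V) : Quad (g * x * g⁻¹) := by
  intro v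
  have e : g⁻¹ (g (x (g⁻¹ v))) = x (g⁻¹ v) := by
    rw [← LinearEquiv.mul_apply g⁻¹ g, inv_mul_cancel]; rfl
  have e2 : g (g⁻¹ v) = v := by
    rw [← LinearEquiv.mul_apply g g⁻¹, mul_inv_cancel]; rfl
  simp only [LinearEquiv.mul_apply, e]
  have := congrArg g (hx (g⁻¹ v))
  rw [map_add, map_add, e2] at this
  exact this

theorem sub_mem_disp (y : V ≃ₗ[F] V) (v : V) : y v - v ∈ disp y := mem_disp.mpr ⟨v, rfl⟩

section

variable [FiniteDimensional F U] [FiniteDimensional F W] [FiniteDimensional F V]

/-- L3: a quadratic element `A ⊗ B` with displacement space of dimension `dim U` is a root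
element of the second factor. -/
theorem isRootB_of_isTens (ht : IsTensorProduct t) (hU : 1 ≤ finrank F U)
    (hab : finrank F U < finrank F W) {g : V ≃ₗ[F] V} (hg : IsTens t g) (hq : Quad g)
    (hr : finrank F ↥(disp g) = finrank F U) : IsRootB ht g := by
  obtain ⟨A, B, hAB⟩ := hg
  -- `A` is a scalar
  have hAsc : ∃ c : F, (A : U →ₗ[F] U) = c • 1 := by
    apply LinearMap.exists_eq_smul_id_of_forall_notLinearIndependent
    intro u hli
    have hu : A u ∉ Submodule.span F {u} := by
      intro hmem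
      obtain ⟨c, hc⟩ := Submodule.mem_span_singleton.mp hmem
      have := (LinearIndependent.pair_iff.mp hli) c (-1) (by
        simp only [LinearEquiv.coe_coe]; rw [hc]; simp)
      exact one_ne_zero (neg_eq_zero.mp this.2)
    obtain ⟨a, ha0, ha1⟩ := exists_kfunc (K := F) (Submodule.span F {u}) hu
    have hau : a u = 0 := ha0 u (Submodule.mem_span_singleton_self u)
    set φ : W →ₗ[F] V := ((g : V →ₗ[F] V) - 1).comp (t u) with hφ
    have hφB : ∀ w, evU ht a (φ w) = B w := by
      intro w
      rw [hφ, LinearMap.comp_apply, LinearMap.sub_apply, LinearEquiv.coe_coe, hAB,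
        Module.End.one_apply, map_sub, evU_t, evU_t, ha1, hau, one_smul, zero_smul, sub_zero]
    have hφinj : Function.Injective φ := by
      intro w w' hww
      have := congrArg (evU ht a) hww
      rw [hφB, hφB] at this
      exact B.injective this
    have hle : LinearMap.range φ ≤ disp g := by
      rintro _ ⟨w, rfl⟩
      exact mem_disp.mpr ⟨t u w, rfl⟩
    have h1 := Submodule.finrank_mono hle
    rw [LinearMap.finrank_range_of_inj hφinj, hr] at h1
    omega
  obtain ⟨c, hc⟩ := hAsc
  have hAu : ∀ u, A u = c • u := by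
    intro u
    have := LinearMap.congr_fun hc u
    simpa using this
  -- the second factor
  set C : W →ₗ[F] W := c • (B : W →ₗ[F] W) - 1 with hC
  have hgC : ∀ u w, g (t u w) - t u w = t u (C w) := by
    intro u w
    rw [hAB, hAu, hC, LinearMap.sub_apply, LinearMap.smul_apply, Module.End.one_apply,
      LinearEquiv.coe_coe, map_sub, map_smul, map_smul, LinearMap.smul_apply]
  have hCne : C ≠ 0 := by
    intro hC0
    have hg1 : g = 1 := by
      apply equiv_ext_pure ht; intro u w
      have := hgC u w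
      rw [hC0, LinearMap.zero_apply, map_zero, sub_eq_zero] at this
      rw [this]; rfl
    have : disp g = ⊥ := by
      rw [eq_bot_iff]; intro v hv
      obtain ⟨r, rfl⟩ := mem_disp.mp hv
      rw [hg1]; simp
    rw [this, finrank_bot] at hr
    omega
  obtain ⟨w₁, hw₁⟩ : ∃ w₁, C w₁ ≠ 0 := by
    by_contra hcon
    push Not at hcon
    exact hCne (LinearMap.ext hcon)
  set w₀ := C w₁ with hw₀
  have hfibC : ∀ w, fib t (C w) ≤ disp g := by
    intro w v hv
    obtain ⟨u, rfl⟩ := mem_fib.mp hv
    rw [← hgC]; exact sub_mem_disp g _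
  have hCspan : ∀ w, ∃ k : F, C w = k • w₀ := by
    intro w
    by_contra hcon
    push Not at hcon
    have hCw0 : C w ≠ 0 := by
      intro h0; exact hcon 0 (by rw [h0, zero_smul])
    have hne : fib t (C w) ≠ fib t w₀ := by
      intro heq
      obtain ⟨u, hu⟩ := exists_ne_zero_of_one_le (F := F) (M := U) hU
      have : t u (C w) ∈ fib t w₀ := by rw [← heq]; exact t_mem_fib _ _
      obtain ⟨k, hk⟩ := span_of_t_mem_fib ht hu this
      exact hcon k hk
    have hdisj := fib_inf_fib ht hCw0 hw₁ hne
    have hsup : fib t (C w) ⊔ fib t w₀ ≤ disp g := sup_le (hfibC w) (hfibC w₁)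
    have h1 := Submodule.finrank_mono hsup
    have h2 := Submodule.finrank_sup_add_finrank_inf_eq (fib t (C w)) (fib t w₀)
    rw [hdisj, finrank_bot, add_zero, finrank_fib ht hCw0, finrank_fib ht hw₁] at h2
    omega
  obtain ⟨l₀, hl₀⟩ := exists_dual_eq_one (F := F) hw₁
  set l : Module.Dual F W := l₀.comp C with hl
  have hCl : ∀ w, C w = l w • w₀ := by
    intro w
    obtain ⟨k, hk⟩ := hCspan w
    have : l w = k := by
      rw [hl, LinearMap.comp_apply, hk, map_smul, hl₀, smul_eq_mul, mul_one]
    rw [this, hk]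
  have hl0 : l ≠ 0 := by
    intro h0
    apply hw₁
    have := hCl w₁
    rw [h0, LinearMap.zero_apply, zero_smul] at this
    exact this
  have hgt : ∀ u w, g (t u w) = t u (w + l w • w₀) := by
    intro u w
    have := hgC u w
    rw [hCl] at this
    rw [map_add, ← this]; abel
  have hlw₀ : l w₀ = 0 := by
    obtain ⟨u, hu⟩ := exists_ne_zero_of_one_le (F := F) (M := U) hU
    have hq1 := hq (t u w₁)
    rw [hgt, hgt] at hq1
    have hinj := t_right_injective ht hu
    have e : t u (w₁ + l w₁ • w₀ + l (w₁ + l w₁ • w₀) • w₀) + t u w₁ =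
        t u (w₁ + l w₁ • w₀ + l (w₁ + l w₁ • w₀) • w₀ + w₁) := by rw [← map_add]
    have e' : t u (w₁ + l w₁ • w₀) + t u (w₁ + l w₁ • w₀) =
        t u (w₁ + l w₁ • w₀ + (w₁ + l w₁ • w₀)) := by rw [← map_add]
    rw [e, e'] at hq1
    have h3 := hinj hq1
    have h4 : (l w₁ * l w₀) • w₀ = 0 := by
      have : l (w₁ + l w₁ • w₀) • w₀ = l w₁ • w₀ + (l w₁ * l w₀) • w₀ := by
        rw [map_add, map_smul, smul_eq_mul, add_smul]
      rw [this] at h3
      have h5 : w₁ + l w₁ • w₀ + (l w₁ • w₀ + (l w₁ * l w₀) • w₀) + w₁ =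
          (w₁ + l w₁ • w₀ + (w₁ + l w₁ • w₀)) + (l w₁ * l w₀) • w₀ := by abel
      rw [h5] at h3
      exact add_eq_left.mp h3
    have hlw₁ : l w₁ = 1 := by
      rw [hl, LinearMap.comp_apply, hl₀]
    rw [hlw₁, one_mul] at h4
    rcases smul_eq_zero.mp h4 with h5 | h5
    · exact h5
    · exact absurd h5 hw₁
  refine ⟨w₀, l, hlw₀, hw₁, hl0, ?_⟩
  apply equiv_ext_pure ht; intro u w
  rw [hgt, xB_t]

/-- the hypothesis of the max-intersection theorem follows from "stabilisers of fibres preserve
the tensor decomposition". -/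
theorem rootHyp_of_stab (ht : IsTensorProduct t) (hU : 1 ≤ finrank F U)
    (hab : finrank F U < finrank F W) (X : Subgroup (V ≃ₗ[F] V))
    (hXB : ∀ w l h, xB ht w l h ∈ X)
    (hstab : ∀ g ∈ X, ∀ w : W, w ≠ 0 → img g (fib t w) = fib t w → IsTens t g) :
    RootHyp ht X := by
  rintro g hg x ⟨w₀, l₀, h₀, hw₀, hl₀, rfl⟩ w hw hst
  set x := xB ht w₀ l₀ h₀ with hx
  have hyX : g * x * g⁻¹ ∈ X := X.mul_mem (X.mul_mem hg (hXB _ _ _)) (X.inv_mem hg)
  have hT := hstab _ hyX w hw hst
  apply isRootB_of_isTens ht hU hab hT (quad_conj (quad_xB ht w₀ l₀ h₀) g)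
  rw [disp_conj, finrank_img, hx, disp_xB ht h₀ hl₀, finrank_fib ht hw₀]

/-- the main theorem in its final abstract form: if `X` contains the root elements of the second
factor and the stabiliser in `X` of every fibre preserves the tensor decomposition, then `X`
permutes the fibres. -/
theorem fibres_permuted_of_stab (ht : IsTensorProduct t) (hU : 1 ≤ finrank F U)
    (hab : finrank F U < finrank F W) (h3 : 3 ≤ finrank F W)
    (X : Subgroup (V ≃ₗ[F] V)) (hXB : ∀ w l h, xB ht w l h ∈ X)
    (hstab : ∀ g ∈ X, ∀ w : W, w ≠ 0 → img g (fib t w) = fib t w → IsTens t g) :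
    ∀ g ∈ X, ∀ w : W, w ≠ 0 → ∃ w' : W, w' ≠ 0 ∧ img g (fib t w) = fib t w' :=
  fibres_permuted ht hU hab h3 X hXB (rootHyp_of_stab ht hU hab X hXB hstab)

end

end Cfsg.Agent.Helper8.Tens
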