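import Cfsg.Agent.Helper8.TensSC

set_option autoImplicit false
set_option linter.unusedSectionVars false
set_option linter.unusedVariables false

/-! Tensor decompositions with forms (helper8), part SD: the unipotent radical at a fibre.
`InRS t f₂ w₀ q`: `q` fixes the fibre of `w₀` pointwise and is trivial on `S^⊥ / S` (on pure
tensors); the component `Cz`; the explicit isometries `Xi`; the **pure reduction**: the commutator
of a root element `1 ⊗ t_z(c)`, `z ⊥ w₀`, with `q` is `Xi (-c)`. -/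

namespace Cfsg.Agent.Helper8.Tens

open Module Cfsg.Agent.Helper7.ExtF Cfsg.Agent.Helper8.OrthOrder Cfsg.Agent.Helper3.TensOm

variable {F : Type*} [Field F] {U W V : Type*} [AddCommGroup U] [Module F U]
  [AddCommGroup W] [Module F W] [AddCommGroup V] [Module F V]
  {t : U →ₗ[F] W →ₗ[F] V} {Q : QuadraticForm F V} {f₁ : LinearMap.BilinForm F U}
  {f₂ : LinearMap.BilinForm F W} {M : Subgroup ↥(Isom Q)}

/-- membership in the unipotent radical at the fibre of `w₀`, on pure tensors. -/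
def InRS (t : U →ₗ[F] W →ₗ[F] V) (f₂ : LinearMap.BilinForm F W) (w₀ : W) (q : V ≃ₗ[F] V) :
    Prop :=
  (∀ u, q (t u w₀) = t u w₀) ∧ ∀ u z, f₂ z w₀ = 0 → q (t u z) - t u z ∈ fib t w₀

theorem InRS.fix_fib {w₀ : W} {q : V ≃ₗ[F] V} (hq : InRS t f₂ w₀ q) {x : V}
    (hx : x ∈ fib t w₀) : q x = x := by
  obtain ⟨u, rfl⟩ := mem_fib.mp hx
  exact hq.1 u

theorem InRS.one (w₀ : W) : InRS t f₂ w₀ (1 : V ≃ₗ[F] V) :=
  ⟨fun u => rfl, fun u z _ => by
    show t u z - t u z ∈ fib t w₀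
    rw [sub_self]; exact Submodule.zero_mem _⟩

theorem InRS.mul {w₀ : W} {q q' : V ≃ₗ[F] V} (hq : InRS t f₂ w₀ q) (hq' : InRS t f₂ w₀ q') :
    InRS t f₂ w₀ (q * q') := by
  refine ⟨fun u => ?_, fun u z hz => ?_⟩
  · rw [LinearEquiv.mul_apply, hq'.1, hq.1]
  · have h1 := hq'.2 u z hz
    have h2 := hq.2 u z hz
    have e : (q * q') (t u z) - t u z = q (q' (t u z) - t u z) + (q (t u z) - t u z) := by
      rw [LinearEquiv.mul_apply, map_sub]; abel
    rw [e, hq.fix_fib h1]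
    exact Submodule.add_mem _ h1 h2

theorem InRS.inv {w₀ : W} {q : V ≃ₗ[F] V} (hq : InRS t f₂ w₀ q) : InRS t f₂ w₀ q⁻¹ := by
  have hfix : ∀ x ∈ fib t w₀, q⁻¹ x = x := by
    intro x hx
    have := hq.fix_fib hx
    conv_lhs => rw [← this]
    exact inv_apply_self q x
  refine ⟨fun u => hfix _ (t_mem_fib u w₀), fun u z hz => ?_⟩
  have h2 := hq.2 u z hz
  have e : q⁻¹ (t u z) - t u z = -(q (t u z) - t u z) := by
    have h3 : q⁻¹ (q (t u z) - t u z) = q (t u z) - t u z := hfix _ h2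
    rw [map_sub, inv_apply_self] at h3
    rw [← h3, neg_sub]
  rw [e]
  exact Submodule.neg_mem _ h2

/-- the component of an element of the radical at `z ⊥ w₀`: `q (t u z) = t u z + t (C u) w₀`. -/
noncomputable def Cz (ht : IsTensorProduct t) (l₀ : Module.Dual F W) (q : V ≃ₗ[F] V) (z : W) :
    Module.End F U := (ev ht l₀).comp (((q : V →ₗ[F] V) - 1).comp (t.flip z))

theorem Cz_spec (ht : IsTensorProduct t) {l₀ : Module.Dual F W} {w₀ : W} (hl₀ : l₀ w₀ = 1)
    {q : V ≃ₗ[F] V} (hq : InRS t f₂ w₀ q) {z : W} (hz : f₂ z w₀ = 0) (u : U) :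
    q (t u z) = t u z + t (Cz ht l₀ q z u) w₀ := by
  obtain ⟨u', hu'⟩ := mem_fib.mp (hq.2 u z hz)
  have : Cz ht l₀ q z u = u' := by
    show ev ht l₀ (q (t u z) - t u z) = u'
    rw [← hu', ev_t, hl₀, one_smul]
  rw [this, hu']; abel

/-- `tl C (P a b)` in terms of the evaluation. -/
theorem tl_P (ht : IsTensorProduct t) (C : Module.End F U) (a b : W) (v : V) :
    tl ht C (P f₂ a b) v = t (C (ev ht (f₂.flip b) v)) a := by
  have : tl ht C (P f₂ a b) = (t.flip a).comp (C.comp (ev ht (f₂.flip b))) := by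
    apply ext_pure ht
    intro u w
    rw [tl_t, P_apply, LinearMap.comp_apply, LinearMap.comp_apply, ev_t, map_smul, map_smul,
      map_smul]
    rfl
  rw [this]; rfl

/-- the nilpotent part of the explicit elements of the radical. -/
noncomputable def MC (ht : IsTensorProduct t) (f₂ : LinearMap.BilinForm F W)
    (C C' : Module.End F U) (w₀ z : W) : Module.End F V :=
  tl ht C (P f₂ w₀ z) + tl ht C' (P f₂ z w₀) + tl ht (C * C') (P f₂ w₀ w₀)

theorem MC_apply (ht : IsTensorProduct t) (C C' : Module.End F U) (w₀ z : W) (v : V) :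
    MC ht f₂ C C' w₀ z v = t (C (ev ht (f₂.flip z) v)) w₀ + t (C' (ev ht (f₂.flip w₀) v)) z
      + t (C (C' (ev ht (f₂.flip w₀) v))) w₀ := by
  rw [MC, LinearMap.add_apply, LinearMap.add_apply, tl_P, tl_P, tl_P]
  rfl

theorem MC_t (ht : IsTensorProduct t) (C C' : Module.End F U) (w₀ z : W) (u : U) (w : W) :
    MC ht f₂ C C' w₀ z (t u w) = f₂ w z • t (C u) w₀ + f₂ w w₀ • t (C' u) z
      + f₂ w w₀ • t (C (C' u)) w₀ := by
  rw [MC_apply, ev_t, ev_t]
  simp only [map_smul, LinearMap.smul_apply]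
  rfl

theorem MC_sq (ht : IsTensorProduct t) (halt₂ : ∀ w, f₂ w w = 0) (C C' : Module.End F U)
    {w₀ z : W} (hz : f₂ z w₀ = 0) : MC ht f₂ C C' w₀ z * MC ht f₂ C C' w₀ z = 0 := by
  have hz' : f₂ w₀ z = 0 := alt_perp_symm f₂ halt₂ hz
  apply ext_pure ht
  intro u w
  rw [Module.End.mul_apply, MC_t]
  simp only [map_add, map_smul, MC_t, hz, hz', halt₂, zero_smul, smul_zero, add_zero,
    LinearMap.zero_apply]

/-- the explicit element `1 + c • MC` of the radical. -/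
noncomputable def Xi (ht : IsTensorProduct t) (halt₂ : ∀ w, f₂ w w = 0) (C C' : Module.End F U)
    {w₀ z : W} (hz : f₂ z w₀ = 0) (c : F) : V ≃ₗ[F] V :=
  uni (c • MC ht f₂ C C' w₀ z) (by
    rw [smul_mul_smul_comm, MC_sq ht halt₂ C C' hz, smul_zero])

theorem Xi_apply (ht : IsTensorProduct t) (halt₂ : ∀ w, f₂ w w = 0) (C C' : Module.End F U)
    {w₀ z : W} (hz : f₂ z w₀ = 0) (c : F) (v : V) :
    Xi ht halt₂ C C' hz c v = v + c • MC ht f₂ C C' w₀ z v := rfl

/-- the evaluation at `w₀^⊥`-functionals of the image under an element of the radical. -/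
theorem ev_lam_q (ht : IsTensorProduct t) (h : Hyp t Q f₁ f₂ M) {w₀ : W} {q : V ≃ₗ[F] V}
    (hqM : q ∈ XM M) (hq : InRS t f₂ w₀ q) (x : V) :
    ev ht (f₂.flip w₀) (q x) = ev ht (f₂.flip w₀) x := by
  have hsub : ev ht (f₂.flip w₀) (q x) - ev ht (f₂.flip w₀) x = 0 := by
    apply h.nd₁
    intro u
    rw [map_sub, LinearMap.sub_apply, ← polar_pure ht h, ← polar_pure ht h]
    have := polar_of_mem_XM hqM x (t u w₀)
    rw [hq.1] at this
    rw [this, sub_self]
  exact sub_eq_zero.mp hsub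

theorem ev_z_q (ht : IsTensorProduct t) (h : Hyp t Q f₁ f₂ M) {w₀ z : W} {q : V ≃ₗ[F] V}
    (hqM : q ∈ XM M) (hq : InRS t f₂ w₀ q) {C C' : Module.End F U}
    (hC : ∀ u, q (t u z) = t u z + t (C u) w₀) (hadj : IsAdj f₁ C C') (x : V) :
    ev ht (f₂.flip z) (q x) = ev ht (f₂.flip z) x - C' (ev ht (f₂.flip w₀) x) := by
  have hsub : ev ht (f₂.flip z) (q x) - (ev ht (f₂.flip z) x - C' (ev ht (f₂.flip w₀) x)) = 0 := by
    apply h.nd₁
    intro u
    rw [map_sub, LinearMap.sub_apply, map_sub, LinearMap.sub_apply, ← polar_pure ht h,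
      ← polar_pure ht h, ← hadj.symm' h.alt₁, ← polar_pure ht h]
    have h1 := polar_of_mem_XM hqM x (t u z)
    rw [hC, QuadraticMap.polar_add_right] at h1
    have h2 := polar_of_mem_XM hqM x (t (C u) w₀)
    rw [hq.1] at h2
    rw [h2] at h1
    linear_combination h1
  exact sub_eq_zero.mp hsub

/-- **pure reduction**: the commutator of the root element `1 ⊗ t_z(c)` with an element of the
radical is the explicit element `Xi (-c)`. -/
theorem pure_red (ht : IsTensorProduct t) (h : Hyp t Q f₁ f₂ M) {w₀ z : W} {q : V ≃ₗ[F] V}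
    (hqM : q ∈ XM M) (hq : InRS t f₂ w₀ q) (hz : f₂ z w₀ = 0) {C C' : Module.End F U}
    (hC : ∀ u, q (t u z) = t u z + t (C u) w₀) (hadj : IsAdj f₁ C C') (c : F) :
    yB ht f₂ h.alt₂ z c * q * (yB ht f₂ h.alt₂ z c)⁻¹ * q⁻¹ = Xi ht h.alt₂ C C' hz (-c) := by
  have hz' : f₂ w₀ z = 0 := alt_perp_symm f₂ h.alt₂ hz
  -- the key identity
  have key : ∀ x, q (t (ev ht (f₂.flip z) x) z)
      = t (ev ht (f₂.flip z) (q x)) z + MC ht f₂ C C' w₀ z (q x) := by
    intro x
    rw [MC_apply, ev_z_q ht h hqM hq hC hadj, ev_lam_q ht h hqM hq, hC]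
    simp only [map_sub, LinearMap.sub_apply]
    abel
  have hyinv : ∀ v, (yB ht f₂ h.alt₂ z c)⁻¹ v = v - c • t (ev ht (f₂.flip z) v) z := by
    intro v
    rw [yB, xB_inv_apply, lw, ev_smul, LinearMap.smul_apply, map_smul, LinearMap.smul_apply]
  have hNM : ∀ v, ev ht (f₂.flip z) (MC ht f₂ C C' w₀ z v) = 0 := by
    intro v
    rw [MC_apply]
    simp only [map_add, ev_t]
    have e1 : (f₂.flip z) w₀ = 0 := hz'
    have e2 : (f₂.flip z) z = 0 := h.alt₂ z
    rw [e1, e2]; simp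
  have e : q * (yB ht f₂ h.alt₂ z c)⁻¹ = (yB ht f₂ h.alt₂ z c)⁻¹ * Xi ht h.alt₂ C C' hz (-c) * q := by
    apply LinearEquiv.ext
    intro x
    rw [LinearEquiv.mul_apply, LinearEquiv.mul_apply, LinearEquiv.mul_apply, hyinv, hyinv,
      Xi_apply, map_sub, map_smul, key, map_add, map_smul, hNM]
    simp only [smul_zero, add_zero, neg_smul, smul_add]
    abel
  calc yB ht f₂ h.alt₂ z c * q * (yB ht f₂ h.alt₂ z c)⁻¹ * q⁻¹
      = yB ht f₂ h.alt₂ z c * (q * (yB ht f₂ h.alt₂ z c)⁻¹) * q⁻¹ := by group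
    _ = Xi ht h.alt₂ C C' hz (-c) := by rw [e]; group

/-- the explicit elements obtained by pure reduction lie in `M`. -/
theorem Xi_mem (ht : IsTensorProduct t) (h : Hyp t Q f₁ f₂ M) {w₀ z : W} {q : V ≃ₗ[F] V}
    (hqM : q ∈ XM M) (hq : InRS t f₂ w₀ q) (hz : f₂ z w₀ = 0) {C C' : Module.End F U}
    (hC : ∀ u, q (t u z) = t u z + t (C u) w₀) (hadj : IsAdj f₁ C C') (c : F) :
    Xi ht h.alt₂ C C' hz c ∈ XM M := by
  have := pure_red ht h hqM hq hz hC hadj (-c)
  rw [neg_neg] at this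
  rw [← this]
  have hy := yB_mem ht h z (-c)
  exact (XM M).mul_mem ((XM M).mul_mem ((XM M).mul_mem hy hqM) ((XM M).inv_mem hy))
    ((XM M).inv_mem hqM)

end Cfsg.Agent.Helper8.Tens
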