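import Cfsg.Agent.Helper8.TensSD

set_option autoImplicit false
set_option linter.unusedSectionVars false
set_option linter.unusedVariables false

/-! Tensor decompositions with forms (helper8), part SE: central elements of the radical, the
elements `ζ` of `H` in the radical, and the pairing: the commutator of `Xi C C'` (at `z`) with
`ζ` (at `z'`) is the central element with parameter `-(c c' f₂ z z') (C + C')`. -/

namespace Cfsg.Agent.Helper8.Tens

open Module Cfsg.Agent.Helper7.ExtF Cfsg.Agent.Helper8.OrthOrder Cfsg.Agent.Helper3.TensOm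
  Cfsg.Agent.Helper8.SiegelGroup

variable {F : Type*} [Field F] {U W V : Type*} [AddCommGroup U] [Module F U]
  [AddCommGroup W] [Module F W] [AddCommGroup V] [Module F V]
  {t : U →ₗ[F] W →ₗ[F] V} {Q : QuadraticForm F V} {f₁ : LinearMap.BilinForm F U}
  {f₂ : LinearMap.BilinForm F W} {M : Subgroup ↥(Isom Q)}

theorem tl_n0_sq (ht : IsTensorProduct t) (halt₂ : ∀ w, f₂ w w = 0) (N : Module.End F U)
    (w₀ : W) : tl ht N (P f₂ w₀ w₀) * tl ht N (P f₂ w₀ w₀) = 0 := by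
  rw [tl_mul, P_sq halt₂, tl_zero_right]

/-- the central element of the radical with parameter `N`. -/
noncomputable def nN (ht : IsTensorProduct t) (halt₂ : ∀ w, f₂ w w = 0) (N : Module.End F U)
    (w₀ : W) : V ≃ₗ[F] V := uni (tl ht N (P f₂ w₀ w₀)) (tl_n0_sq ht halt₂ N w₀)

theorem nN_t (ht : IsTensorProduct t) (halt₂ : ∀ w, f₂ w w = 0) (N : Module.End F U)
    (w₀ : W) (u : U) (w : W) :
    nN ht halt₂ N w₀ (t u w) = t u w + f₂ w w₀ • t (N u) w₀ := by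
  rw [nN, uni_apply, tl_t, P_apply, map_smul]

theorem Xi_t (ht : IsTensorProduct t) (halt₂ : ∀ w, f₂ w w = 0) (C C' : Module.End F U)
    {w₀ z : W} (hz : f₂ z w₀ = 0) (c : F) (u : U) (w : W) :
    Xi ht halt₂ C C' hz c (t u w) = t u w + c • (f₂ w z • t (C u) w₀ + f₂ w w₀ • t (C' u) z
      + f₂ w w₀ • t (C (C' u)) w₀) := by
  rw [Xi_apply, MC_t]

/-- the element `ζ` of `H` in the radical as a product of two root elements. -/
theorem zeta_eq (ht : IsTensorProduct t) (halt₂ : ∀ w, f₂ w w = 0) {w₀ z' : W}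
    (hz' : f₂ z' w₀ = 0) (c : F) :
    yB ht f₂ halt₂ (w₀ + z') c * yB ht f₂ halt₂ z' (-c) = Xi ht halt₂ 1 1 hz' c := by
  apply equiv_ext_pure ht
  intro u w
  rw [LinearEquiv.mul_apply, yB_t, yB_t, Xi_t]
  have e1 : f₂ (w + (-c * f₂ w z') • z') (w₀ + z') = f₂ w w₀ + f₂ w z' := by
    simp only [map_add, map_smul, LinearMap.add_apply, LinearMap.smul_apply, halt₂, hz',
      smul_eq_mul, mul_zero, add_zero]
  rw [e1]
  simp only [map_add, map_smul, Module.End.one_apply, smul_add, smul_smul]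
  module

theorem zeta_mem (ht : IsTensorProduct t) (h : Hyp t Q f₁ f₂ M) {w₀ z' : W}
    (hz' : f₂ z' w₀ = 0) (c : F) : Xi ht h.alt₂ 1 1 hz' c ∈ XM M := by
  rw [← zeta_eq ht h.alt₂ hz' c]
  exact (XM M).mul_mem (yB_mem ht h _ _) (yB_mem ht h _ _)

/-- products of the nilpotent parts at `z` and `z'`. -/
theorem MC_mul_MC (ht : IsTensorProduct t) (halt₂ : ∀ w, f₂ w w = 0)
    (C C' D D' : Module.End F U) {w₀ z z' : W} (hz : f₂ z w₀ = 0) (hz' : f₂ z' w₀ = 0) :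
    MC ht f₂ C C' w₀ z * MC ht f₂ D D' w₀ z' = tl ht (f₂ z' z • (C * D')) (P f₂ w₀ w₀) := by
  have hzw : f₂ w₀ z = 0 := alt_perp_symm f₂ halt₂ hz
  have hzw' : f₂ w₀ z' = 0 := alt_perp_symm f₂ halt₂ hz'
  apply ext_pure ht
  intro u w
  rw [Module.End.mul_apply, MC_t]
  simp only [map_add, map_smul, MC_t, hz, hz', hzw, hzw', halt₂, zero_smul, smul_zero, add_zero,
    zero_add, tl_t, P_apply, LinearMap.smul_apply, Module.End.mul_apply, LinearMap.map_smul₂,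
    smul_smul]

theorem MC_mul_n0 (ht : IsTensorProduct t) (halt₂ : ∀ w, f₂ w w = 0)
    (C C' N : Module.End F U) {w₀ z : W} (hz : f₂ z w₀ = 0) :
    MC ht f₂ C C' w₀ z * tl ht N (P f₂ w₀ w₀) = 0 := by
  have hzw : f₂ w₀ z = 0 := alt_perp_symm f₂ halt₂ hz
  apply ext_pure ht
  intro u w
  rw [Module.End.mul_apply, tl_t, P_apply, map_smul, map_smul, MC_t]
  simp [hzw, halt₂]

theorem n0_mul_MC (ht : IsTensorProduct t) (halt₂ : ∀ w, f₂ w w = 0)
    (C C' N : Module.End F U) {w₀ z : W} (hz : f₂ z w₀ = 0) :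
    tl ht N (P f₂ w₀ w₀) * MC ht f₂ C C' w₀ z = 0 := by
  have hzw : f₂ w₀ z = 0 := alt_perp_symm f₂ halt₂ hz
  apply ext_pure ht
  intro u w
  rw [Module.End.mul_apply, MC_t]
  simp [hz, halt₂, tl_t]

/-- **the pairing**: the commutator of `Xi C C'` at `z` with `ζ` at `z'` is central. -/
theorem pairing (ht : IsTensorProduct t) (halt₂ : ∀ w, f₂ w w = 0) (C C' : Module.End F U)
    {w₀ z z' : W} (hz : f₂ z w₀ = 0) (hz' : f₂ z' w₀ = 0) (c c' : F) :
    Xi ht halt₂ C C' hz c * Xi ht halt₂ 1 1 hz' c' * (Xi ht halt₂ C C' hz c)⁻¹ *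
        (Xi ht halt₂ 1 1 hz' c')⁻¹ = nN ht halt₂ ((-(c * c' * f₂ z z')) • (C + C')) w₀ := by
  unfold Xi nN
  apply uni_comm
  have hAB : (c • MC ht f₂ C C' w₀ z) * (c' • MC ht f₂ 1 1 w₀ z')
      = tl ht ((c * c' * f₂ z' z) • C) (P f₂ w₀ w₀) := by
    rw [smul_mul_smul_comm, MC_mul_MC ht halt₂ C C' 1 1 hz hz', mul_one, ← tl_smul_left, smul_smul]
  have hBA : (c' • MC ht f₂ 1 1 w₀ z') * (c • MC ht f₂ C C' w₀ z)
      = tl ht ((c * c' * f₂ z z') • C') (P f₂ w₀ w₀) := by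
    rw [smul_mul_smul_comm, MC_mul_MC ht halt₂ 1 1 C C' hz' hz, one_mul, ← tl_smul_left, smul_smul,
      mul_comm c' c]
  have h3 : (c' • MC ht f₂ 1 1 w₀ z') * (c • MC ht f₂ C C' w₀ z) * (c' • MC ht f₂ 1 1 w₀ z') = 0 := by
    rw [hBA, mul_smul_comm, n0_mul_MC ht halt₂ 1 1 _ hz', smul_zero]
  have h4 : (c • MC ht f₂ C C' w₀ z) * (c' • MC ht f₂ 1 1 w₀ z') * (c • MC ht f₂ C C' w₀ z) = 0 := by
    rw [hAB, mul_smul_comm, n0_mul_MC ht halt₂ C C' _ hz, smul_zero]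
  rw [h3, h4, zero_mul, hAB, hBA, alt_skew f₂ halt₂ z' z]
  simp only [add_zero, sub_zero, tl_smul_left, mul_neg, neg_smul, tl_neg_left, tl_add_left,
    smul_add]
  abel

end Cfsg.Agent.Helper8.Tens
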