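import Cfsg.Agent.Helper8.TensSF

set_option autoImplicit false
set_option linter.unusedSectionVars false
set_option linter.unusedVariables false

/-! Tensor decompositions with forms (helper8), part SG: the elements
`θ = 1 + κ (u ∨ u') ⊗ (w ∧ z)` (`u ⊥ u'`, `w ⊥ z`). -/

namespace Cfsg.Agent.Helper8.Tens

open Module Cfsg.Agent.Helper7.ExtF Cfsg.Agent.Helper8.OrthOrder Cfsg.Agent.Helper3.TensOm
  Cfsg.Agent.Helper8.SiegelGroup

variable {F : Type*} [Field F] {U W V : Type*} [AddCommGroup U] [Module F U]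
  [AddCommGroup W] [Module F W] [AddCommGroup V] [Module F V]
  {t : U →ₗ[F] W →ₗ[F] V} {Q : QuadraticForm F V} {f₁ : LinearMap.BilinForm F U}
  {f₂ : LinearMap.BilinForm F W} {M : Subgroup ↥(Isom Q)}

theorem theta_sq (ht : IsTensorProduct t) (halt₁ : ∀ u, f₁ u u = 0) (halt₂ : ∀ w, f₂ w w = 0)
    {u u' : U} {w z : W} (hu : f₁ u u' = 0) (hw : f₂ w z = 0) (κ : F) :
    (κ • tl ht (sv f₁ u u') (av f₂ w z)) * (κ • tl ht (sv f₁ u u') (av f₂ w z)) = 0 := by
  rw [smul_mul_smul_comm, tl_mul, sv_sq halt₁ hu, tl_zero_left, smul_zero]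

/-- the element `1 + κ (u ∨ u') ⊗ (w ∧ z)`. -/
noncomputable def theta (ht : IsTensorProduct t) (halt₁ : ∀ u, f₁ u u = 0)
    (halt₂ : ∀ w, f₂ w w = 0) {u u' : U} {w z : W} (hu : f₁ u u' = 0) (hw : f₂ w z = 0)
    (κ : F) : V ≃ₗ[F] V :=
  uni (κ • tl ht (sv f₁ u u') (av f₂ w z)) (theta_sq ht halt₁ halt₂ hu hw κ)

theorem theta_t (ht : IsTensorProduct t) (halt₁ : ∀ u, f₁ u u = 0) (halt₂ : ∀ w, f₂ w w = 0)
    {u u' : U} {w z : W} (hu : f₁ u u' = 0) (hw : f₂ w z = 0) (κ : F) (e : U) (x : W) :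
    theta ht halt₁ halt₂ hu hw κ (t e x) = t e x + κ • t (sv f₁ u u' e) (av f₂ w z x) := by
  rw [theta, uni_apply, LinearMap.smul_apply, tl_t]

/-- `Xi` for a skew-adjoint component of square zero is a `θ`. -/
theorem Xi_sv (ht : IsTensorProduct t) (halt₁ : ∀ u, f₁ u u = 0) (halt₂ : ∀ w, f₂ w w = 0)
    {u u' : U} {w₀ z : W} (hu : f₁ u u' = 0) (hz : f₂ z w₀ = 0) (c κ : F) :
    Xi ht halt₂ (c • sv f₁ u u') (-(c • sv f₁ u u')) hz κ
      = theta ht halt₁ halt₂ hu (alt_perp_symm f₂ halt₂ hz) (κ * c) := by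
  apply equiv_ext_pure ht
  intro e x
  have hsq : sv f₁ u u' (sv f₁ u u' e) = 0 := by
    have := LinearMap.congr_fun (sv_sq halt₁ hu) e
    simpa using this
  rw [Xi_t, theta_t]
  simp only [LinearMap.smul_apply, LinearMap.neg_apply, map_neg, map_smul, hsq, smul_zero,
    neg_zero, add_zero, av_apply, LinearMap.map_smul₂, map_sub, smul_sub, smul_smul,
    LinearMap.map_neg₂, smul_neg, map_zero, LinearMap.zero_apply]
  module

end Cfsg.Agent.Helper8.Tens
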