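import Cfsg.Agent.Helper8.TensSH
import Cfsg.Agent.Helper3.TensOmA1W

set_option autoImplicit false
set_option linter.unusedSectionVars false
set_option linter.unusedVariables false

/-! Tensor decompositions with forms (helper8), part SMu: a component `C` of an element of the
radical with `f₁ (C u) u ≠ 0` gives all Siegel transformations (fields with more than two
elements). -/

namespace Cfsg.Agent.Helper8.Tens

open Module Cfsg.Agent.Helper7.ExtF Cfsg.Agent.Helper8.OrthOrder Cfsg.Agent.Helper3.TensOm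
  Cfsg.Agent.Helper8.SiegelGroup

variable {F : Type*} [Field F] {U W V : Type*} [AddCommGroup U] [Module F U]
  [AddCommGroup W] [Module F W] [AddCommGroup V] [Module F V]
  {t : U →ₗ[F] W →ₗ[F] V} {Q : QuadraticForm F V} {f₁ : LinearMap.BilinForm F U}
  {f₂ : LinearMap.BilinForm F W} {M : Subgroup ↥(Isom Q)}

/-- the first commutator, explicitly. -/
theorem Tv_comm_eq {X : Type*} [AddCommGroup X] [Module F X] {f : LinearMap.BilinForm F X}
    {C C' : Module.End F X} (hadj : IsAdj f C C') (u : X) (c : F) :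
    Tv f u c * C * Tv f u (-c) - C
      = c • (P f u (C' u) - P f (C u) u) - (c * c * f (C u) u) • P f u u := by
  apply LinearMap.ext; intro x
  simp only [LinearMap.sub_apply, Module.End.mul_apply, Tv_apply, map_add, map_smul,
    LinearMap.smul_apply, P_apply, map_neg, neg_mul, neg_smul]
  rw [hadj x u]
  module

/-- the action of `Xi` on a pure tensor with second factor perpendicular to `w₀`. -/
theorem Xi_t_perp (ht : IsTensorProduct t) (halt₂ : ∀ w, f₂ w w = 0) (C C' : Module.End F U)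
    {w₀ z : W} (hz : f₂ z w₀ = 0) (c : F) {y : W} (hy : f₂ y w₀ = 0) (x : U) :
    Xi ht halt₂ C C' hz c (t x y) = t x y + t (((c * f₂ y z) • C) x) w₀ := by
  rw [Xi_t, hy, zero_smul, zero_smul, add_zero, add_zero, smul_smul, LinearMap.smul_apply,
    map_smul, LinearMap.smul_apply]

/-- the elements `Xi` lie in the radical. -/
theorem Xi_inRS (ht : IsTensorProduct t) (halt₂ : ∀ w, f₂ w w = 0) (C C' : Module.End F U)
    {w₀ z : W} (hz : f₂ z w₀ = 0) (c : F) : InRS t f₂ w₀ (Xi ht halt₂ C C' hz c) := by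
  refine ⟨fun u => ?_, fun u y hy => ?_⟩
  · rw [Xi_t_perp ht halt₂ C C' hz c (halt₂ w₀), alt_perp_symm f₂ halt₂ hz, mul_zero, zero_smul,
      LinearMap.zero_apply, map_zero, LinearMap.zero_apply, add_zero]
  · rw [Xi_t_perp ht halt₂ C C' hz c hy, add_sub_cancel_left]
    exact t_mem_fib _ _

/-- **(F-a)**: a component with `f₁ (C u) u ≠ 0`. -/
theorem SG_le_of_mu8 [FiniteDimensional F U] (ht : IsTensorProduct t) (h : Hyp t Q f₁ f₂ M)
    (hF : ∃ c : F, c ≠ 0 ∧ c ≠ 1) {w₀ z : W} (hw₀ : w₀ ≠ 0) {q : V ≃ₗ[F] V} (hqM : q ∈ XM M)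
    (hq : InRS t f₂ w₀ q) (hz : f₂ z w₀ = 0) (hzw : ∀ a : F, z ≠ a • w₀)
    {C C' : Module.End F U} (hC : ∀ u, q (t u z) = t u z + t (C u) w₀) (hadj : IsAdj f₁ C C')
    {u : U} (hμ : f₁ (C u) u ≠ 0) : SG Q ≤ M := by
  obtain ⟨c, hc0, hc1⟩ := hF
  have hu0 : u ≠ 0 := by
    rintro rfl
    exact hμ (by simp)
  obtain ⟨z', hz'1, hz'2⟩ := exists_perp_not_perp f₂ h.nd₂ hw₀ hzw
  have hz' : f₂ z' w₀ = 0 := alt_perp_symm f₂ h.alt₂ hz'1
  have hz'z : f₂ z' z ≠ 0 := by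
    rw [alt_skew f₂ h.alt₂]
    exact neg_ne_zero.mpr hz'2
  -- the two commutators with root elements of the first factor
  obtain ⟨hq₁M, hq₁, hC₁⟩ := conj_step ht h hqM hq hz hC u c
  obtain ⟨hq₂M, hq₂, hC₂⟩ := conj_step ht h hqM hq hz hC u 1
  obtain ⟨D₁', hD₁'⟩ := exists_adj h.alt₁ h.nd₁ (Tv f₁ u c * C * Tv f₁ u (-c) - C)
  obtain ⟨D₂', hD₂'⟩ := exists_adj h.alt₁ h.nd₁ (Tv f₁ u 1 * C * Tv f₁ u (-1) - C)
  have hr₁ := Xi_mem ht h hq₁M hq₁ hz hC₁ hD₁' 1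
  have hr₂ := Xi_mem ht h hq₂M hq₂ hz hC₂ hD₂' (-c)
  have hi₁ := Xi_inRS ht h.alt₂ (Tv f₁ u c * C * Tv f₁ u (-c) - C) D₁' hz 1
  have hi₂ := Xi_inRS ht h.alt₂ (Tv f₁ u 1 * C * Tv f₁ u (-1) - C) D₂' hz (-c)
  have hq₃M := (XM M).mul_mem hr₁ hr₂
  have hq₃ := hi₁.mul hi₂
  obtain ⟨κ, hκdef⟩ : ∃ κ : F, κ = f₂ z' z * (c * f₁ (C u) u * (1 - c)) := ⟨_, rfl⟩
  have hκ : κ ≠ 0 := by
    rw [hκdef]
    exact mul_ne_zero hz'z (mul_ne_zero (mul_ne_zero hc0 hμ) (sub_ne_zero.mpr hc1.symm))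
  have hC₃ : ∀ x, (Xi ht h.alt₂ (Tv f₁ u c * C * Tv f₁ u (-c) - C) D₁' hz 1
      * Xi ht h.alt₂ (Tv f₁ u 1 * C * Tv f₁ u (-1) - C) D₂' hz (-c)) (t x z')
      = t x z' + t ((κ • P f₁ u u) x) w₀ := by
    intro x
    rw [LinearEquiv.mul_apply, Xi_t_perp ht h.alt₂ _ _ hz (-c) hz', map_add, hi₁.1,
      Xi_t_perp ht h.alt₂ _ _ hz 1 hz', add_assoc, ← LinearMap.add_apply, ← map_add,
      Tv_comm_eq hadj, Tv_comm_eq hadj, hκdef]
    congr 3
    simp only [LinearMap.smul_apply, LinearMap.sub_apply, P_apply]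
    module
  have hadj₃ : IsAdj f₁ (κ • P f₁ u u) (κ • (- P f₁ u u)) := (isAdj_P h.alt₁ u u).smul κ
  have hg := Xi_mem ht h hq₃M hq₃ hz' hC₃ hadj₃ 1
  obtain ⟨hi, hm⟩ := mem_XM.mp hg
  refine h.SG_le_of_centreW hu0 (κ • av f₂ w₀ z') hm ?_ (w := z) ?_
  · intro x y
    change Xi ht h.alt₂ (κ • P f₁ u u) (κ • (- P f₁ u u)) hz' 1 (t x y) = _
    rw [Xi_t]
    simp only [LinearMap.smul_apply, LinearMap.neg_apply, P_apply, av_apply, map_smul, map_neg,
      map_sub, h.alt₁, smul_zero, zero_smul, neg_zero, add_zero, one_smul, smul_neg,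
      map_zero, LinearMap.zero_apply, smul_sub]
    module
  · intro a ha
    rw [LinearMap.smul_apply, av_apply, hz, zero_smul, sub_zero, smul_smul] at ha
    by_cases ha0 : a = 0
    · rw [ha0, zero_smul] at ha
      rcases smul_eq_zero.mp ha with h1 | h1
      · exact (mul_ne_zero hκ hz'2) h1
      · exact hw₀ h1
    · apply hzw (a⁻¹ * (κ * f₂ z z'))
      rw [mul_smul, ha, smul_smul, inv_mul_cancel₀ ha0, one_smul]

end Cfsg.Agent.Helper8.Tens
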