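import Cfsg.Agent.Helper8.TensSI
import Cfsg.Agent.Helper8.TensSMu
import Cfsg.Agent.Helper5.TensSX
import Cfsg.Agent.Helper3.TensSAsm
import Cfsg.Agent.Helper3.TensSThetaC
import Cfsg.Agent.Helper9.TensSD5

set_option autoImplicit false
set_option linter.unusedSectionVars false
set_option linter.unusedVariables false

/-! Tensor decompositions with forms (helper8), part SJ: the statement (Q-S) (an element of the
radical of the stabiliser of a fibre preserves the tensor decomposition, unless `SG Q ≤ M`) and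
the abstract maximality theorem `mainS` for `Sp ⊗ Sp`. -/

namespace Cfsg.Agent.Helper8.Tens

open Module Cfsg.Agent.Helper7.ExtF Cfsg.Agent.Helper8.OrthOrder Cfsg.Agent.Helper3.TensOm
  Cfsg.Agent.Helper8.SiegelGroup

variable {F : Type*} [Field F] {U W V : Type*} [AddCommGroup U] [Module F U]
  [AddCommGroup W] [Module F W] [AddCommGroup V] [Module F V]
  {t : U →ₗ[F] W →ₗ[F] V} {Q : QuadraticForm F V} {f₁ : LinearMap.BilinForm F U}
  {f₂ : LinearMap.BilinForm F W} {M : Subgroup ↥(Isom Q)}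

/-- in dimension two, independent vectors are not perpendicular. -/
theorem ne_zero_of_finrank_two {X : Type*} [AddCommGroup X] [Module F X] [FiniteDimensional F X]
    {f : LinearMap.BilinForm F X} (halt : ∀ x, f x x = 0)
    (hnd : ∀ x, (∀ y, f x y = 0) → x = 0) (h2 : finrank F X = 2) {u y : X} (hu : u ≠ 0)
    (hy : ∀ a : F, y ≠ a • u) : f u y ≠ 0 := by
  intro h0
  apply hu
  apply hnd
  have hli : LinearIndependent F ![u, y] :=
    (LinearIndependent.pair_iff' hu).mpr (fun a ha => hy a ha.symm)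
  have hspan := hli.span_eq_top_of_card_eq_finrank' (by simp [h2])
  intro x
  have hx : x ∈ Submodule.span F (Set.range ![u, y]) := by rw [hspan]; trivial
  rw [Matrix.range_cons, Matrix.range_cons, Matrix.range_empty, Set.union_empty] at hx
  obtain ⟨a, b, rfl⟩ := Submodule.mem_span_pair.mp hx
  simp [halt, h0]

section

variable [FiniteDimensional F U] [FiniteDimensional F W] [FiniteDimensional F V]

/-- **Leaf F: the statement (Q-S)**. -/
theorem QS_proof (ht : IsTensorProduct t) (h : Hyp t Q f₁ f₂ M) (ha : 2 ≤ finrank F U)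
    (hab : finrank F U + 2 ≤ finrank F W) (hno : ¬ SG Q ≤ M)
    (hF : finrank F U = 2 → ∃ c : F, c ≠ 0 ∧ c ≠ 1) :
    Cfsg.Agent.Helper3.TensS.QS ht f₂ M := by
  intro q hqM w₀ hw₀ hfix hS
  have hq : InRS t f₂ w₀ q :=
    ⟨fun u => hfix _ (mem_fib.mpr ⟨u, rfl⟩), fun u z hz => hS _ (t_mem_Sperp ht hz u)⟩
  obtain ⟨l₀, hl₀⟩ := exists_dual_eq_one (F := F) hw₀
  by_cases hsc : ∀ z, f₂ z w₀ = 0 → ∀ u, ∃ a : F, Cz ht l₀ q z u = a • u
  · exact isTens_of_scalar ht h hno (by omega) hw₀ hqM hq hl₀ hsc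
  · exfalso
    push Not at hsc
    obtain ⟨z, hz, u, hu⟩ := hsc
    obtain ⟨C, hCdef⟩ : ∃ C : Module.End F U, C = Cz ht l₀ q z := ⟨_, rfl⟩
    rw [← hCdef] at hu
    have hC : ∀ u, q (t u z) = t u z + t (C u) w₀ := by
      rw [hCdef]; exact Cz_spec ht hl₀ hq hz
    have hu0 : u ≠ 0 := by
      rintro rfl
      exact hu 0 (by rw [map_zero, smul_zero])
    have hzw : ∀ a : F, z ≠ a • w₀ := by
      intro a hza
      apply hu 0
      rw [zero_smul]
      have h1 := hC u
      have h2 : t u z = a • t u w₀ := by rw [hza, map_smul]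
      rw [h2, map_smul, hq.1] at h1
      have h3 : t (C u) w₀ = 0 := by
        have := h1
        rwa [left_eq_add] at this
      have h4 := congrArg (ev ht l₀) h3
      rwa [ev_t, hl₀, one_smul, map_zero] at h4
    obtain ⟨C', hadj⟩ := exists_adj h.alt₁ h.nd₁ C
    apply hno
    by_cases h2 : finrank F U = 2
    · have hμ : f₁ (C u) u ≠ 0 := by
        rw [alt_skew f₁ h.alt₁]
        exact neg_ne_zero.mpr (ne_zero_of_finrank_two h.alt₁ h.nd₁ h2 hu0 hu)
      exact SG_le_of_mu8 ht h (hF h2) hw₀ hqM hq hz hzw hC hadj hμ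
    · have h3 : 3 ≤ finrank F U := by omega
      obtain ⟨u', hu1, hu2, hu3⟩ := Cfsg.Agent.Helper5.TensSX.x2 f₁ h.alt₁ h.nd₁ h3 hu0 hu
      have hθ := exists_theta ht h hno hw₀ hqM hq hz hzw hC hu1 hu2 1
      exact SG_le_of_theta_mem ht h (by omega) hu0 hu1 hu3 (alt_perp_symm f₂ h.alt₂ hz) hw₀ hzw
        one_ne_zero hθ

/-- **the abstract maximality theorem for `Sp ⊗ Sp`**. -/
theorem mainS (ht : IsTensorProduct t) (h : Hyp t Q f₁ f₂ M) (ha : 2 ≤ finrank F U)
    (hab : finrank F U + 2 ≤ finrank F W) (hF : finrank F U = 2 → ∃ c : F, c ≠ 0 ∧ c ≠ 1) :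
    SG Q ≤ M ∨ ∀ g ∈ M, IsTens t ((g : ↥(Isom Q)) : V ≃ₗ[F] V) :=
  Cfsg.Agent.Helper3.TensS.mainS_of_leaves ht h ha hab (fun hno => QS_proof ht h ha hab hno hF)
    (fun hno hQS => Cfsg.Agent.Helper9.TensSD.rootHypS_of_QS ht h ha hab hno hQS)

end

end Cfsg.Agent.Helper8.Tens
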