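import Mathlib
import Cfsg.Agent.Helper8.QuadForm
import Cfsg.Agent.S2624

/-!
# Tensor products of symmetric bilinear forms over finite fields of odd characteristic (helper8)
-/

set_option autoImplicit false

namespace Cfsg.Agent.Helper8.TensorForms

open Module TensorProduct Cfsg.Agent.Helper8.QuadForm

variable {F U W : Type*} [Field F] [AddCommGroup U] [Module F U] [AddCommGroup W] [Module F W]

theorem tmul_apply_tmul (B₁ : LinearMap.BilinForm F U) (B₂ : LinearMap.BilinForm F W) (u u' : U)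
    (w w' : W) : (B₁.tmul B₂) (u ⊗ₜ w) (u' ⊗ₜ w') = B₁ u u' * B₂ w w' := by
  rw [LinearMap.BilinForm.tmul, LinearMap.BilinForm.tensorDistrib_tmul, smul_eq_mul, mul_comm]

/-- polarisation for symmetric bilinear forms. -/
theorem two_mul_bilin {B : LinearMap.BilinForm F U} (hS : B.IsSymm) (x y : U) :
    2 * B x y = B (x + y) (x + y) - B x x - B y y := by
  have : B y x = B x y := hS.eq y x
  simp only [map_add, LinearMap.add_apply, this]
  ring

/-- Over a finite field of odd characteristic every nonzero scalar is the multiplier of a similarity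
of an even-dimensional nondegenerate symmetric bilinear form. -/
theorem exists_similarity_bilin [Fintype F] [FiniteDimensional F U] (h2 : (2 : F) ≠ 0)
    (B : LinearMap.BilinForm F U) (hB : B.Nondegenerate) (hS : B.IsSymm) {k : ℕ} (hk : 1 ≤ k)
    (hU : finrank F U = 2 * k) {μ : F} (hμ : μ ≠ 0) :
    ∃ φ : U ≃ₗ[F] U, ∀ u u', B (φ u) (φ u') = μ * B u u' := by
  obtain ⟨e⟩ : Nonempty (U ≃ₗ[F] (Fin (2 * k) → F)) :=
    ⟨(Module.finBasisOfFinrankEq F U hU).equivFun⟩
  obtain ⟨Q', hQ'⟩ : ∃ Q' : QuadraticForm F (Fin (2 * k) → F),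
      Q' = (LinearMap.BilinMap.toQuadraticMap B).comp (e.symm : (Fin (2 * k) → F) →ₗ[F] U) :=
    ⟨_, rfl⟩
  have hQ'app : ∀ v, Q' v = B (e.symm v) (e.symm v) := by
    intro v
    rw [hQ']
    rfl
  have hpolar : ∀ v w, QuadraticMap.polar Q' v w = 2 * B (e.symm v) (e.symm w) := by
    intro v w
    unfold QuadraticMap.polar
    rw [hQ'app, hQ'app, hQ'app, two_mul_bilin hS, map_add]
  have hnd : (QuadraticMap.polarBilin Q').Nondegenerate := by
    rw [nondeg_iff]
    intro v hv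
    have h1 : e.symm v = 0 := by
      apply hB.1
      intro y
      have := hv (e y)
      rw [hpolar, e.symm_apply_apply] at this
      rcases mul_eq_zero.1 this with h | h
      · exact absurd h h2
      · exact h
    exact e.symm.map_eq_zero_iff.1 h1
  obtain ⟨g, hg⟩ := Cfsg.Agent.S2624.result (by omega) ⟨k, by ring⟩ Q' hnd μ hμ
  refine ⟨e.trans (g.trans e.symm), ?_⟩
  have hq : ∀ u, B ((e.trans (g.trans e.symm)) u) ((e.trans (g.trans e.symm)) u) = μ * B u u := by
    intro u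
    have := hg (e u)
    rw [hQ'app, hQ'app, e.symm_apply_apply] at this
    exact this
  intro u u'
  have h3 := two_mul_bilin hS ((e.trans (g.trans e.symm)) u) ((e.trans (g.trans e.symm)) u')
  rw [← map_add, hq, hq, hq] at h3
  have h4 := two_mul_bilin hS u u'
  have : 2 * B ((e.trans (g.trans e.symm)) u) ((e.trans (g.trans e.symm)) u')
      = 2 * (μ * B u u') := by
    rw [h3]
    linear_combination (-μ) * h4
  exact mul_left_cancel₀ h2 this

section construction

variable {κ ι : Type*} [Fintype ι] [DecidableEq ι] [DecidableEq κ]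
  (B₁ : LinearMap.BilinForm F U) (B₂ : LinearMap.BilinForm F W) (v : Basis κ F W)
  (p p' : ι → κ) (φ : ι → (U ≃ₗ[F] U))

/-- the `j`-th building block `u ↦ u ⊗ v (p j) + φ_j u ⊗ v (p' j)`. -/
noncomputable def blk (j : ι) : U →ₗ[F] U ⊗[F] W :=
  (TensorProduct.mk F U W).flip (v (p j))
    + ((TensorProduct.mk F U W).flip (v (p' j))) ∘ₗ ((φ j : U ≃ₗ[F] U) : U →ₗ[F] U)

theorem blk_apply (j : ι) (u : U) :
    blk v p p' φ j u = u ⊗ₜ[F] v (p j) + (φ j u) ⊗ₜ[F] v (p' j) := rfl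

/-- the map `(u_j) ↦ Σ_j (u_j ⊗ v (p j) + φ_j u_j ⊗ v (p' j))`. -/
noncomputable def Psi : (ι → U) →ₗ[F] U ⊗[F] W :=
  ∑ j, (blk v p p' φ j) ∘ₗ (LinearMap.proj j)

theorem Psi_apply (u : ι → U) : Psi v p p' φ u = ∑ j, blk v p p' φ j (u j) := by
  unfold Psi
  rw [LinearMap.sum_apply]
  rfl

/-- coordinate projection `U ⊗ W → U` along the basis vector `v c`. -/
noncomputable def coordProj (c : κ) : U ⊗[F] W →ₗ[F] U :=
  (TensorProduct.rid F U : U ⊗[F] F →ₗ[F] U) ∘ₗ (LinearMap.lTensor U (v.coord c))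

theorem coordProj_tmul (c : κ) (u : U) (w : W) :
    coordProj v c (u ⊗ₜ[F] w) = (v.coord c w) • u := by
  unfold coordProj
  rw [LinearMap.comp_apply, LinearMap.lTensor_tmul]
  exact TensorProduct.rid_tmul _ _

theorem coordProj_blk (hp : Function.Injective p) (hpp' : ∀ i j, p i ≠ p' j) (j j' : ι) (u : U) :
    coordProj v (p j) (blk v p p' φ j' u) = if j = j' then u else 0 := by
  rw [blk_apply, map_add, coordProj_tmul, coordProj_tmul, Basis.coord_apply, Basis.coord_apply,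
    Basis.repr_self, Basis.repr_self, Finsupp.single_apply, Finsupp.single_apply]
  have h1 : ¬ (p' j' = p j) := fun h => hpp' j j' h.symm
  rw [if_neg h1, zero_smul, add_zero]
  by_cases h : j = j'
  · subst h
    rw [if_pos rfl, if_pos rfl, one_smul]
  · have h3 : ¬ (p j' = p j) := fun h' => h (hp h').symm
    rw [if_neg h, if_neg h3, zero_smul]

theorem Psi_injective (hp : Function.Injective p) (hpp' : ∀ i j, p i ≠ p' j) :
    Function.Injective (Psi v p p' φ) := by
  rw [← LinearMap.ker_eq_bot, LinearMap.ker_eq_bot']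
  intro u hu
  funext j
  have := congrArg (coordProj v (p j)) hu
  rw [Psi_apply, map_sum, map_zero] at this
  simp only [coordProj_blk v p p' φ hp hpp'] at this
  rw [Finset.sum_ite_eq Finset.univ j (fun j' => u j'), if_pos (Finset.mem_univ _)] at this
  exact this

theorem tmul_blk_blk (hp : Function.Injective p) (hp' : Function.Injective p')
    (hpp' : ∀ i j, p i ≠ p' j) (hv : ∀ c d, c ≠ d → B₂ (v c) (v d) = 0)
    (hφ : ∀ j u u', B₁ (φ j u) (φ j u') * B₂ (v (p' j)) (v (p' j))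
      = - (B₁ u u' * B₂ (v (p j)) (v (p j))))
    (j j' : ι) (u u' : U) :
    (B₁.tmul B₂) (blk v p p' φ j u) (blk v p p' φ j' u') = 0 := by
  simp only [blk_apply, map_add, LinearMap.add_apply, tmul_apply_tmul]
  rw [hv _ _ (hpp' j j'), hv _ _ (fun h => hpp' j' j h.symm)]
  by_cases h : j = j'
  · subst h
    rw [hφ]
    ring
  · rw [hv _ _ (fun h' => h (hp h')), hv _ _ (fun h' => h (hp' h'))]
    ring

theorem tmul_Psi_Psi (hp : Function.Injective p) (hp' : Function.Injective p')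
    (hpp' : ∀ i j, p i ≠ p' j) (hv : ∀ c d, c ≠ d → B₂ (v c) (v d) = 0)
    (hφ : ∀ j u u', B₁ (φ j u) (φ j u') * B₂ (v (p' j)) (v (p' j))
      = - (B₁ u u' * B₂ (v (p j)) (v (p j))))
    (u u' : ι → U) :
    (B₁.tmul B₂) (Psi v p p' φ u) (Psi v p p' φ u') = 0 := by
  simp only [Psi_apply, map_sum, LinearMap.sum_apply]
  apply Finset.sum_eq_zero
  intro j _
  apply Finset.sum_eq_zero
  intro j' _
  exact tmul_blk_blk B₁ B₂ v p p' φ hp hp' hpp' hv hφ j' j (u j') (u' j)

theorem tmul_Psi_other (hv : ∀ c d, c ≠ d → B₂ (v c) (v d) = 0) (c : κ)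
    (hc : ∀ i, p i ≠ c ∧ p' i ≠ c) (u : ι → U) (u' : U) :
    (B₁.tmul B₂) (Psi v p p' φ u) (u' ⊗ₜ[F] v c) = 0 := by
  simp only [Psi_apply, map_sum, LinearMap.sum_apply]
  apply Finset.sum_eq_zero
  intro j _
  simp only [blk_apply, map_add, LinearMap.add_apply, tmul_apply_tmul]
  rw [hv _ _ (hc j).1, hv _ _ (hc j).2]
  ring

end construction

/-- **Main construction**: given an orthogonal basis `v` of `W` and `card ι` disjoint pairs
`(p j, p' j)` of basis vectors, `U ⊗ W` has a totally isotropic subspace of dimension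
`card ι * dim U` orthogonal to `U ⊗ v c` for all unused `c`. -/
theorem exists_ti [Fintype F] [FiniteDimensional F U] (h2 : (2 : F) ≠ 0)
    (B₁ : LinearMap.BilinForm F U) (h₁ : B₁.Nondegenerate) (hS₁ : B₁.IsSymm) {k : ℕ} (hk : 1 ≤ k)
    (hU : finrank F U = 2 * k)
    {κ ι : Type*} [Fintype ι] [DecidableEq ι] [DecidableEq κ]
    (B₂ : LinearMap.BilinForm F W) (v : Basis κ F W)
    (hv : ∀ c d, c ≠ d → B₂ (v c) (v d) = 0) (hv0 : ∀ c, B₂ (v c) (v c) ≠ 0)
    (p p' : ι → κ) (hp : Function.Injective p) (hp' : Function.Injective p')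
    (hpp' : ∀ i j, p i ≠ p' j) :
    ∃ X : Submodule F (U ⊗[F] W), finrank F X = Fintype.card ι * (2 * k) ∧
      (∀ x ∈ X, ∀ y ∈ X, (B₁.tmul B₂) x y = 0) ∧
      ∀ c, (∀ i, p i ≠ c ∧ p' i ≠ c) → ∀ x ∈ X, ∀ u : U, (B₁.tmul B₂) x (u ⊗ₜ[F] v c) = 0 := by
  have hex : ∀ j : ι, ∃ φ : U ≃ₗ[F] U, ∀ u u', B₁ (φ u) (φ u')
      = (-(B₂ (v (p j)) (v (p j)) / B₂ (v (p' j)) (v (p' j)))) * B₁ u u' := by
    intro j
    apply exists_similarity_bilin h2 B₁ h₁ hS₁ hk hU
    exact neg_ne_zero.2 (div_ne_zero (hv0 _) (hv0 _))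
  choose φ hφ using hex
  have hφ' : ∀ j u u', B₁ (φ j u) (φ j u') * B₂ (v (p' j)) (v (p' j))
      = - (B₁ u u' * B₂ (v (p j)) (v (p j))) := by
    intro j u u'
    rw [hφ]
    have := hv0 (p' j)
    field_simp
  refine ⟨LinearMap.range (Psi v p p' φ), ?_, ?_, ?_⟩
  · rw [LinearMap.finrank_range_of_inj (Psi_injective v p p' φ hp hpp'), Module.finrank_pi_fintype]
    simp only [hU, Finset.sum_const, Finset.card_univ, smul_eq_mul]
  · rintro _ ⟨u, rfl⟩ _ ⟨u', rfl⟩
    exact tmul_Psi_Psi B₁ B₂ v p p' φ hp hp' hpp' hv hφ' u u'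
  · rintro c hc _ ⟨u, rfl⟩ u'
    exact tmul_Psi_other B₁ B₂ v p p' φ hv c hc u u'


end Cfsg.Agent.Helper8.TensorForms
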