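import Mathlib
import Cfsg.Agent.Helper8.TensorForms
import Cfsg.Agent.S0833

/-!
# Totally isotropic subspaces: exchange argument (helper8)
-/

set_option autoImplicit false

namespace Cfsg.Agent.Helper8.TensorForms

open Module TensorProduct LinearMap.BilinForm

variable {F T : Type*} [Field F] [AddCommGroup T] [Module F T]

/-- a subspace of dimension at least `k` contains a subspace of dimension exactly `k`. -/
theorem exists_le_finrank_eq [FiniteDimensional F T] (K : Submodule F T) {k : ℕ}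
    (hk : k ≤ finrank F K) : ∃ K' : Submodule F T, K' ≤ K ∧ finrank F K' = k := by
  let b := Module.finBasis F K
  have hli : LinearIndependent F (fun i : Fin k => ((b (Fin.castLE hk i) : K) : T)) := by
    have h1 : LinearIndependent F (fun i : Fin k => b (Fin.castLE hk i)) :=
      b.linearIndependent.comp _ (Fin.castLE_injective hk)
    exact h1.map' K.subtype (Submodule.ker_subtype K)
  refine ⟨Submodule.span F (Set.range (fun i : Fin k => ((b (Fin.castLE hk i) : K) : T))), ?_, ?_⟩
  · rw [Submodule.span_le]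
    rintro _ ⟨i, rfl⟩
    exact (b (Fin.castLE hk i)).2
  · rw [finrank_span_eq_card hli, Fintype.card_fin]

theorem orthogonal_sup' (B : LinearMap.BilinForm F T) (A C : Submodule F T) :
    B.orthogonal (A ⊔ C) = B.orthogonal A ⊓ B.orthogonal C := by
  apply le_antisymm
  · exact le_inf (orthogonal_le le_sup_left) (orthogonal_le le_sup_right)
  · intro x hx
    rw [mem_orthogonal_iff]
    intro y hy
    obtain ⟨a, ha, c, hc, rfl⟩ := Submodule.mem_sup.1 hy
    have h1 := (mem_orthogonal_iff.1 hx.1) a ha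
    have h2 := (mem_orthogonal_iff.1 hx.2) c hc
    rw [map_add, LinearMap.add_apply, h1, h2, add_zero]

variable [FiniteDimensional F T] (B : LinearMap.BilinForm F T)

theorem finrank_inf_orthogonal_ge (hB : B.Nondegenerate) (hR : B.IsRefl) {X : Submodule F T}
    (Y : Submodule F T) (hX : X ≤ B.orthogonal X) :
    finrank F X + finrank F ↥(X ⊓ Y) ≤ finrank F ↥(X ⊓ B.orthogonal Y) + finrank F Y := by
  have h1 : X ⊓ B.orthogonal Y = B.orthogonal (B.orthogonal X ⊔ Y) := by
    rw [orthogonal_sup', orthogonal_orthogonal hB hR]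
  rw [h1, finrank_orthogonal hB]
  have h2 := Submodule.finrank_sup_add_finrank_inf_eq (B.orthogonal X) Y
  have h3 := finrank_orthogonal hB X
  have h4 : finrank F ↥(X ⊓ Y) ≤ finrank F ↥(B.orthogonal X ⊓ Y) :=
    Submodule.finrank_mono (inf_le_inf_right Y hX)
  have h5 := Submodule.finrank_le (B.orthogonal X ⊔ Y)
  have h6 := Submodule.finrank_le X
  omega

/-- **Exchange argument**: if `Y` is totally isotropic, `M ⊥ Y` and `Y ⊕ M` fills `Y^⊥`, then any
totally isotropic `X` yields a totally isotropic subspace of `M` of dimension at least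
`dim X - dim Y`. -/
theorem exists_ti_in_complement (hB : B.Nondegenerate) (hS : B.IsSymm) {X Y M : Submodule F T}
    (hX : ∀ x ∈ X, ∀ y ∈ X, B x y = 0) (hY : ∀ x ∈ Y, ∀ y ∈ Y, B x y = 0)
    (hM : M ≤ B.orthogonal Y) (hdim : finrank F T ≤ 2 * finrank F Y + finrank F M) :
    ∃ K : Submodule F T, K ≤ M ∧ (∀ x ∈ K, ∀ y ∈ K, B x y = 0) ∧
      finrank F X ≤ finrank F K + finrank F Y := by
  have hR : B.IsRefl := hS.isRefl
  have hXo : X ≤ B.orthogonal X := fun x hx y hy => hX y hy x hx
  have hYo : Y ≤ B.orthogonal Y := fun x hx y hy => hY y hy x hx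
  obtain ⟨X', hX'⟩ : ∃ X', X' = (X ⊓ B.orthogonal Y) ⊔ Y := ⟨_, rfl⟩
  have hX'ti : ∀ x ∈ X', ∀ y ∈ X', B x y = 0 := by
    intro a ha a' ha'
    rw [hX'] at ha ha'
    obtain ⟨z, hz, y, hy, rfl⟩ := Submodule.mem_sup.1 ha
    obtain ⟨z', hz', y', hy', rfl⟩ := Submodule.mem_sup.1 ha'
    have e1 : B z z' = 0 := hX z hz.1 z' hz'.1
    have e2 : B y z' = 0 := (mem_orthogonal_iff.1 hz'.2) y hy
    have e3 : B z y' = 0 := by
      rw [hS.eq]
      exact (mem_orthogonal_iff.1 hz.2) y' hy'
    have e4 : B y y' = 0 := hY y hy y' hy'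
    simp only [map_add, LinearMap.add_apply, e1, e2, e3, e4, add_zero]
  have hX'dim : finrank F X ≤ finrank F X' := by
    have h1 := Submodule.finrank_sup_add_finrank_inf_eq (X ⊓ B.orthogonal Y) Y
    have h2 : (X ⊓ B.orthogonal Y) ⊓ Y = X ⊓ Y := by
      rw [inf_assoc, inf_eq_right.2 hYo]
    have h3 := finrank_inf_orthogonal_ge B hB hR Y hXo
    rw [h2, ← hX'] at h1
    omega
  have hX'le : X' ≤ B.orthogonal Y := by
    rw [hX']
    exact sup_le inf_le_right hYo
  refine ⟨X' ⊓ M, inf_le_right, fun x hx y hy => hX'ti x hx.1 y hy.1, ?_⟩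
  have h4 := Submodule.finrank_sup_add_finrank_inf_eq X' M
  have h5 : finrank F ↥(X' ⊔ M) ≤ finrank F ↥(B.orthogonal Y) :=
    Submodule.finrank_mono (sup_le hX'le hM)
  rw [finrank_orthogonal hB] at h5
  have h6 := Submodule.finrank_le Y
  omega

end Cfsg.Agent.Helper8.TensorForms
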