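import Mathlib
import Cfsg.Agent.Helper7.SpUnF
import Cfsg.Agent.Helper7.SpOrdL
import Cfsg.Agent.Helper7.TnI
set_option autoImplicit false
set_option linter.unusedSectionVars false
set_option linter.unusedVariables false

/-! Hyperbolic families of an alternating space adapted to an isometry whose square is `1` or `-1`
(helper8; for the sufficiency half of the `Sp_2 ⊗ O_b` tensor statement). -/

namespace Cfsg.Agent.Helper8.TnSpLe

open Module Cfsg.Agent.Helper7.SpOrd Cfsg.Agent.Helper7.SpUn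

variable {F : Type*} [Field F] {V : Type*} [AddCommGroup V] [Module F V]

/-- building a hyperbolic family adapted to an isometry from a plane step. -/
theorem exists_family_of_step [FiniteDimensional F V] {B : LinearMap.BilinForm F V} (hB : B.IsAlt)
    {T : Module.End F V} (hiso : ∀ u v, B (T u) (T v) = B u v) (hT4 : T ^ 4 = 1) (P : V → V → Prop)
    (hstep : ∀ E : Submodule F V, ND B E → E ∈ Module.End.invtSubmodule T → E ≠ ⊥ → ∀ τ : F, τ ≠ 0 →
      ∃ u ∈ E, ∃ v ∈ E, B u v = τ ∧ P u v ∧ T u ∈ Submodule.span F {u, v} ∧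
        T v ∈ Submodule.span F {u, v}) :
    ∀ (m : ℕ) (E : Submodule F V), ND B E → E ∈ Module.End.invtSubmodule T → finrank F E = 2 * m →
      ∀ τ : Fin m → F, (∀ k, τ k ≠ 0) → ∃ u v : Fin m → V, (∀ k, u k ∈ E) ∧ (∀ k, v k ∈ E) ∧
        (∀ k l, B (u k) (u l) = 0) ∧ (∀ k l, B (v k) (v l) = 0) ∧
        (∀ k l, B (u k) (v l) = if k = l then τ k else 0) ∧ ∀ k, P (u k) (v k) := by
  intro m
  induction m with
  | zero =>
    intro E _ _ _ τ _
    exact ⟨Fin.elim0, Fin.elim0, fun k => k.elim0, fun k => k.elim0, fun k => k.elim0,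
      fun k => k.elim0, fun k => k.elim0, fun k => k.elim0⟩
  | succ m ih =>
    intro E hE hEinv hdim τ hτ
    have hne : E ≠ ⊥ := by
      intro h
      rw [h, finrank_bot] at hdim
      omega
    obtain ⟨u₀, hu₀, v₀, hv₀, huv, hP, hTu, hTv⟩ := hstep E hE hEinv hne (τ 0) (hτ 0)
    have huv0 : B u₀ v₀ ≠ 0 := by rw [huv]; exact hτ 0
    obtain ⟨hUnd, hUdim⟩ := nd_span_pair hB huv0
    have hu₀U : u₀ ∈ Submodule.span F {u₀, v₀} := Submodule.subset_span (by simp)
    have hv₀U : v₀ ∈ Submodule.span F {u₀, v₀} := Submodule.subset_span (by simp)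
    have hUE : Submodule.span F {u₀, v₀} ≤ E := by
      rw [Submodule.span_le]
      intro w hw
      rcases hw with rfl | hw
      · exact hu₀
      · rw [Set.mem_singleton_iff] at hw
        rw [hw]
        exact hv₀
    have hUinv : Submodule.span F {u₀, v₀} ∈ Module.End.invtSubmodule T := by
      rw [Module.End.mem_invtSubmodule]
      intro w hw
      rw [Submodule.mem_comap]
      obtain ⟨α, β, rfl⟩ := Submodule.mem_span_pair.mp hw
      rw [map_add, map_smul, map_smul]
      exact Submodule.add_mem _ (Submodule.smul_mem _ _ hTu) (Submodule.smul_mem _ _ hTv)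
    have hrefl := hB.isRefl
    have hE'nd := nd_perp_inf hrefl hUnd hE hUE
    have hE'dim := finrank_perp_inf hrefl hUnd hUE
    have hE'inv : B.orthogonal (Submodule.span F {u₀, v₀}) ⊓ E ∈ Module.End.invtSubmodule T :=
      inf_invt (perp_invt hiso (by norm_num) hT4 hUinv) hEinv
    obtain ⟨u', v', hu', hv', huu, hvv, huv', hP'⟩ :=
      ih (B.orthogonal (Submodule.span F {u₀, v₀}) ⊓ E) hE'nd hE'inv (by omega) (fun k => τ k.succ)
        (fun k => hτ _)
    have h1 : ∀ k, B u₀ (u' k) = 0 := fun k => mem_perp.mp (hu' k).1 u₀ hu₀U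
    have h2 : ∀ k, B v₀ (u' k) = 0 := fun k => mem_perp.mp (hu' k).1 v₀ hv₀U
    have h3 : ∀ k, B u₀ (v' k) = 0 := fun k => mem_perp.mp (hv' k).1 u₀ hu₀U
    have h4 : ∀ k, B v₀ (v' k) = 0 := fun k => mem_perp.mp (hv' k).1 v₀ hv₀U
    refine ⟨Fin.cons u₀ u', Fin.cons v₀ v', ?_, ?_, ?_, ?_, ?_, ?_⟩
    · intro k
      refine Fin.cases ?_ (fun k => ?_) k
      · rw [Fin.cons_zero]; exact hu₀
      · rw [Fin.cons_succ]; exact (hu' k).2
    · intro k
      refine Fin.cases ?_ (fun k => ?_) k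
      · rw [Fin.cons_zero]; exact hv₀
      · rw [Fin.cons_succ]; exact (hv' k).2
    · intro k l
      refine Fin.cases ?_ (fun k => ?_) k <;> refine Fin.cases ?_ (fun l => ?_) l
      · rw [Fin.cons_zero]; exact hB u₀
      · rw [Fin.cons_zero, Fin.cons_succ]; exact h1 l
      · rw [Fin.cons_zero, Fin.cons_succ]; exact hrefl _ _ (h1 k)
      · rw [Fin.cons_succ, Fin.cons_succ]; exact huu k l
    · intro k l
      refine Fin.cases ?_ (fun k => ?_) k <;> refine Fin.cases ?_ (fun l => ?_) l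
      · rw [Fin.cons_zero]; exact hB v₀
      · rw [Fin.cons_zero, Fin.cons_succ]; exact h4 l
      · rw [Fin.cons_zero, Fin.cons_succ]; exact hrefl _ _ (h4 k)
      · rw [Fin.cons_succ, Fin.cons_succ]; exact hvv k l
    · intro k l
      refine Fin.cases ?_ (fun k => ?_) k <;> refine Fin.cases ?_ (fun l => ?_) l
      · rw [Fin.cons_zero, Fin.cons_zero, if_pos rfl]; exact huv
      · rw [Fin.cons_zero, Fin.cons_succ, if_neg (Fin.succ_ne_zero l).symm]; exact h3 l
      · rw [Fin.cons_zero, Fin.cons_succ, if_neg (Fin.succ_ne_zero k)]; exact hrefl _ _ (h2 k)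
      · rw [Fin.cons_succ, Fin.cons_succ, huv' k l]
        by_cases hkl : k = l
        · rw [if_pos hkl, if_pos (by rw [hkl])]
        · rw [if_neg hkl, if_neg (fun h => hkl (Fin.succ_injective _ h))]
    · intro k
      refine Fin.cases ?_ (fun k => ?_) k
      · rw [Fin.cons_zero, Fin.cons_zero]; exact hP
      · rw [Fin.cons_succ, Fin.cons_succ]; exact hP' k

/-- the plane step for an involution. -/
theorem step_split {B : LinearMap.BilinForm F V} (hB : B.IsAlt) (h2 : (2 : F) ≠ 0)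
    {T : Module.End F V} (hiso : ∀ u v, B (T u) (T v) = B u v) (hTT : ∀ v, T (T v) = v)
    (E : Submodule F V) (hE : ND B E) (hEinv : E ∈ Module.End.invtSubmodule T) (hne : E ≠ ⊥)
    (τ : F) (hτ : τ ≠ 0) :
    ∃ u ∈ E, ∃ v ∈ E, B u v = τ ∧ (∃ ε : F, ε * ε = 1 ∧ T u = ε • u ∧ T v = ε • v) ∧
      T u ∈ Submodule.span F {u, v} ∧ T v ∈ Submodule.span F {u, v} := by
  have hTE : ∀ w ∈ E, T w ∈ E := fun w hw => hEinv hw
  obtain ⟨w, hwE, hw0⟩ := Submodule.exists_mem_ne_zero_of_ne_bot hne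
  obtain ⟨u, huE, hu0, ε, hε, hTu⟩ : ∃ u ∈ E, u ≠ 0 ∧ ∃ ε : F, ε * ε = 1 ∧ T u = ε • u := by
    by_cases h : w + T w = 0
    · refine ⟨w, hwE, hw0, -1, by ring, ?_⟩
      rw [neg_one_smul]
      exact (eq_neg_of_add_eq_zero_right h)
    · refine ⟨w + T w, Submodule.add_mem _ hwE (hTE w hwE), h, 1, by ring, ?_⟩
      rw [map_add, hTT, one_smul, add_comm]
  obtain ⟨y, hyE, hy⟩ := hE u huE hu0
  have hBuTy : B u (T y) = ε * B u y := by
    have h1 := hiso u (T y)
    rw [hTT, hTu, map_smul, LinearMap.smul_apply, smul_eq_mul] at h1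
    have h3 : ε * (ε * B u y) = ε * B u (T y) := by rw [h1]
    have h4 : ε * (ε * B u y) = B u y := by rw [← mul_assoc, hε, one_mul]
    rw [h4] at h3
    rw [h3, ← mul_assoc, hε, one_mul]
  have hv₀ : B u (y + ε • T y) = 2 * B u y := by
    rw [map_add, map_smul, smul_eq_mul, hBuTy, ← mul_assoc, hε]
    ring
  have h2y : 2 * B u y ≠ 0 := mul_ne_zero h2 hy
  have hTv₀ : T (y + ε • T y) = ε • (y + ε • T y) := by
    rw [map_add, map_smul, hTT, smul_add, smul_smul, hε, one_smul, add_comm]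
  refine ⟨u, huE, (τ / (2 * B u y)) • (y + ε • T y),
    Submodule.smul_mem _ _ (Submodule.add_mem _ hyE (Submodule.smul_mem _ _ (hTE y hyE))), ?_,
    ⟨ε, hε, hTu, ?_⟩, ?_, ?_⟩
  · rw [map_smul, smul_eq_mul, hv₀]
    field_simp
  · rw [map_smul, hTv₀, smul_comm]
  · rw [hTu]
    exact Submodule.smul_mem _ _ (Submodule.subset_span (by simp))
  · rw [map_smul, hTv₀, smul_comm]
    exact Submodule.smul_mem _ _ (Submodule.subset_span (by simp))

/-- the plane step for an isometry of square `-1`, over a finite field of odd order. -/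
theorem step_nonsplit [Fintype F] (hodd : Odd (Fintype.card F)) {B : LinearMap.BilinForm F V}
    (hB : B.IsAlt) (h2 : (2 : F) ≠ 0)
    {T : Module.End F V} (hiso : ∀ u v, B (T u) (T v) = B u v) (hTT : ∀ v, T (T v) = -v)
    (E : Submodule F V) (hE : ND B E) (hEinv : E ∈ Module.End.invtSubmodule T) (hne : E ≠ ⊥)
    (τ : F) (hτ : τ ≠ 0) :
    ∃ u ∈ E, ∃ v ∈ E, B u v = τ ∧ (T u = v ∧ T v = -u) ∧
      T u ∈ Submodule.span F {u, v} ∧ T v ∈ Submodule.span F {u, v} := by
  have hTE : ∀ w ∈ E, T w ∈ E := fun w hw => hEinv hw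
  have hskew : ∀ a b, B a b = -B b a := fun a b => (LinearMap.IsAlt.neg hB b a).symm
  -- a vector with `B w (T w) ≠ 0`
  obtain ⟨w, hwE, hw⟩ : ∃ w ∈ E, B w (T w) ≠ 0 := by
    by_contra hcon
    push Not at hcon
    obtain ⟨a, haE, ha0⟩ := Submodule.exists_mem_ne_zero_of_ne_bot hne
    obtain ⟨y, hyE, hy⟩ := hE a haE ha0
    have hy'E : -T y ∈ E := Submodule.neg_mem _ (hTE y hyE)
    have hTy' : T (-T y) = y := by rw [map_neg, hTT, neg_neg]
    have h1 := hcon (a + -T y) (Submodule.add_mem _ haE hy'E)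
    rw [map_add T, hTy'] at h1
    simp only [map_add, LinearMap.add_apply] at h1
    have h3 : B (-T y) y = 0 := by
      have := hcon (-T y) hy'E
      rw [hTy'] at this
      exact this
    have h4 : B (-T y) (T a) = B a y := by
      have := hiso (-T y) (T a)
      rw [hTy', hTT, map_neg, ← hskew] at this
      rw [← this]
    rw [hcon a haE, h3, h4] at h1
    apply hy
    have h5 : 2 * B a y = 0 := by linear_combination h1
    exact (mul_eq_zero.mp h5).resolve_left h2
  obtain ⟨c₀, c₁, hc⟩ := Cfsg.Agent.Helper7.Tn.exists_norm_eq hodd (z := (-1 : F))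
    (neg_ne_zero.mpr one_ne_zero) (τ / B w (T w))
  have hTw' : B (T w) w = -B w (T w) := hskew _ _
  have hTwTw : B (T w) (T w) = 0 := hB _
  have hww : B w w = 0 := hB _
  have hTu : T (c₀ • w + c₁ • T w) = c₀ • T w - c₁ • w := by
    rw [map_add, map_smul, map_smul, hTT, smul_neg, sub_eq_add_neg]
  have hTv : T (c₀ • T w - c₁ • w) = -(c₀ • w + c₁ • T w) := by
    rw [map_sub, map_smul, map_smul, hTT, smul_neg]
    abel
  have huE : c₀ • w + c₁ • T w ∈ E :=
    Submodule.add_mem _ (Submodule.smul_mem _ _ hwE) (Submodule.smul_mem _ _ (hTE w hwE))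
  have hvE : c₀ • T w - c₁ • w ∈ E :=
    Submodule.sub_mem _ (Submodule.smul_mem _ _ (hTE w hwE)) (Submodule.smul_mem _ _ hwE)
  refine ⟨c₀ • w + c₁ • T w, huE, c₀ • T w - c₁ • w, hvE, ?_, ⟨hTu, hTv⟩, ?_, ?_⟩
  · simp only [map_add, map_sub, map_smul, LinearMap.add_apply,
      LinearMap.smul_apply, smul_eq_mul, hTw', hTwTw, hww]
    have h6 : (c₀ ^ 2 - -1 * c₁ ^ 2) * B w (T w) = τ := by
      rw [hc]
      field_simp
    linear_combination h6
  · rw [hTu]
    exact Submodule.subset_span (by simp)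
  · rw [hTv]
    exact Submodule.neg_mem _ (Submodule.subset_span (by simp))

theorem two_ne_zero_of_odd [Fintype F] (hodd : Odd (Fintype.card F)) : (2 : F) ≠ 0 := by
  apply Ring.two_ne_zero
  intro h
  have h1 := FiniteField.even_card_of_char_two h
  have h3 := Nat.odd_iff.mp hodd
  omega

/-- **families for an involution.** -/
theorem exists_family_split [FiniteDimensional F V] {B : LinearMap.BilinForm F V} (hB : B.IsAlt)
    (h2 : (2 : F) ≠ 0) (hV : ND B ⊤) {T : Module.End F V} (hiso : ∀ u v, B (T u) (T v) = B u v)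
    (hTT : ∀ v, T (T v) = v) {m : ℕ} (hdim : finrank F V = 2 * m) (τ : Fin m → F)
    (hτ : ∀ k, τ k ≠ 0) :
    ∃ (u v : Fin m → V) (ε : Fin m → F), (∀ k, ε k * ε k = 1) ∧
      (∀ k l, B (u k) (u l) = 0) ∧ (∀ k l, B (v k) (v l) = 0) ∧
      (∀ k l, B (u k) (v l) = if k = l then τ k else 0) ∧
      (∀ k, T (u k) = ε k • u k) ∧ ∀ k, T (v k) = ε k • v k := by
  have hT4 : T ^ 4 = 1 := by
    apply LinearMap.ext
    intro v
    have : T ^ 4 = T * T * (T * T) := by noncomm_ring
    rw [this]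
    simp only [Module.End.mul_apply, Module.End.one_apply, hTT]
  have htop : (⊤ : Submodule F V) ∈ Module.End.invtSubmodule T := by
    rw [Module.End.mem_invtSubmodule]
    intro w _
    exact Submodule.mem_top
  obtain ⟨u, v, -, -, huu, hvv, huv, hP⟩ := exists_family_of_step hB hiso hT4
    (fun u v => ∃ ε : F, ε * ε = 1 ∧ T u = ε • u ∧ T v = ε • v)
    (fun E hE hEinv hne τ hτ => step_split hB h2 hiso hTT E hE hEinv hne τ hτ) m ⊤ hV htop
    (by rw [finrank_top]; exact hdim) τ hτ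
  choose ε hε hTu hTv using hP
  exact ⟨u, v, ε, hε, huu, hvv, huv, hTu, hTv⟩

/-- **families for an isometry of square `-1`.** -/
theorem exists_family_nonsplit [Fintype F] (hodd : Odd (Fintype.card F)) [FiniteDimensional F V]
    {B : LinearMap.BilinForm F V} (hB : B.IsAlt)
    (hV : ND B ⊤) {T : Module.End F V} (hiso : ∀ u v, B (T u) (T v) = B u v)
    (hTT : ∀ v, T (T v) = -v) {m : ℕ} (hdim : finrank F V = 2 * m) (τ : Fin m → F)
    (hτ : ∀ k, τ k ≠ 0) :
    ∃ (u v : Fin m → V),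
      (∀ k l, B (u k) (u l) = 0) ∧ (∀ k l, B (v k) (v l) = 0) ∧
      (∀ k l, B (u k) (v l) = if k = l then τ k else 0) ∧
      (∀ k, T (u k) = v k) ∧ ∀ k, T (v k) = -u k := by
  have h2 := two_ne_zero_of_odd hodd
  have hT4 : T ^ 4 = 1 := by
    apply LinearMap.ext
    intro v
    have : T ^ 4 = T * T * (T * T) := by noncomm_ring
    rw [this]
    simp only [Module.End.mul_apply, Module.End.one_apply, hTT, map_neg, neg_neg]
  have htop : (⊤ : Submodule F V) ∈ Module.End.invtSubmodule T := by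
    rw [Module.End.mem_invtSubmodule]
    intro w _
    exact Submodule.mem_top
  obtain ⟨u, v, -, -, huu, hvv, huv, hP⟩ := exists_family_of_step hB hiso hT4
    (fun u v => T u = v ∧ T v = -u)
    (fun E hE hEinv hne τ hτ => step_nonsplit hodd hB h2 hiso hTT E hE hEinv hne τ hτ) m ⊤ hV htop
    (by rw [finrank_top]; exact hdim) τ hτ
  exact ⟨u, v, huu, hvv, huv, fun k => (hP k).1, fun k => (hP k).2⟩

end Cfsg.Agent.Helper8.TnSpLe
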