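import Mathlib
import Cfsg.Agent.Helper8.TnSpLeA
import Cfsg.Agent.Helper7.TnSpB
import Cfsg.Agent.Helper7.TensNMD
set_option autoImplicit false
set_option linter.unusedSectionVars false
set_option linter.unusedVariables false

/-! From an adapted hyperbolic family to a conjugate in the stabilizer of a tensor decomposition
`Sp_2 ⊗ O_b` (helper8). -/

namespace Cfsg.Agent.Helper8.TnSpLe

open Matrix Module Cfsg.Agent.Helper7.SpOrd Cfsg.Agent.Helper7.TnSp Cfsg.Agent.Helper8.SpStab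
open scoped Kronecker

variable {F : Type*} [Field F]

section generic

variable {V : Type*} [AddCommGroup V] [Module F V] {κ : Type*} [Fintype κ]

/-- the Gram matrix computes the form on linear combinations. -/
theorem gram_lc (B : LinearMap.BilinForm F V) (w : κ → V) (M : Matrix κ κ F)
    (hw : ∀ α β, B (w α) (w β) = M α β) (y y' : κ → F) :
    B (∑ α, y α • w α) (∑ β, y' β • w β) = y ⬝ᵥ (M *ᵥ y') := by
  simp only [map_sum, LinearMap.sum_apply, map_smul, LinearMap.smul_apply, smul_eq_mul, hw, dotProduct,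
    Matrix.mulVec, Finset.mul_sum]
  rw [Finset.sum_comm]
  apply Finset.sum_congr rfl
  intro α _
  apply Finset.sum_congr rfl
  intro β _
  ring

/-- the matrix of an endomorphism on a family computes it on linear combinations. -/
theorem act_lc (T : V →ₗ[F] V) (w : κ → V) (N : Matrix κ κ F)
    (hx : ∀ β, T (w β) = ∑ α, N α β • w α) (y : κ → F) :
    T (∑ β, y β • w β) = ∑ α, (N *ᵥ y) α • w α := by
  simp only [map_sum, map_smul, hx, Finset.smul_sum, smul_smul, Matrix.mulVec, dotProduct, Finset.sum_smul]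
  rw [Finset.sum_comm]
  apply Finset.sum_congr rfl
  intro α _
  apply Finset.sum_congr rfl
  intro β _
  rw [mul_comm]

/-- the family indexed by `Fin 2 × Fin b` made of two families. -/
def wfam {b : ℕ} (u v : Fin b → V) (p : Fin 2 × Fin b) : V := if p.1 = 0 then u p.2 else v p.2

theorem wfam_zero {b : ℕ} (u v : Fin b → V) (k : Fin b) : wfam u v (0, k) = u k := rfl

theorem wfam_one {b : ℕ} (u v : Fin b → V) (k : Fin b) : wfam u v (1, k) = v k := rfl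

theorem wfam_gram (B : LinearMap.BilinForm F V) (hB : B.IsAlt) {b : ℕ} (u v : Fin b → V)
    (G₁ : Matrix (Fin 2) (Fin 2) F) (h00 : G₁ 0 0 = 0) (h11 : G₁ 1 1 = 0) (h10 : G₁ 1 0 = -G₁ 0 1)
    (c : F) (δ : Fin b → F) (huu : ∀ k l, B (u k) (u l) = 0) (hvv : ∀ k l, B (v k) (v l) = 0)
    (huv : ∀ k l, B (u k) (v l) = if k = l then c * G₁ 0 1 * δ k else 0) :
    ∀ α β, B (wfam u v α) (wfam u v β) = (c • (G₁ ⊗ₖ Matrix.diagonal δ)) α β := by
  rintro ⟨i, k⟩ ⟨j, l⟩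
  rw [Matrix.smul_apply, Matrix.kroneckerMap_apply, Matrix.diagonal_apply, smul_eq_mul]
  fin_cases i <;> fin_cases j
  · show B (u k) (u l) = c * (G₁ 0 0 * _)
    rw [huu, h00, zero_mul, mul_zero]
  · show B (u k) (v l) = c * (G₁ 0 1 * _)
    rw [huv]
    split_ifs <;> ring
  · show B (v k) (u l) = c * (G₁ 1 0 * _)
    rw [← LinearMap.IsAlt.neg hB, huv, h10]
    by_cases hkl : k = l
    · rw [if_pos hkl, if_pos hkl.symm, hkl]
      ring
    · rw [if_neg hkl, if_neg (fun h => hkl h.symm)]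
      ring
  · show B (v k) (v l) = c * (G₁ 1 1 * _)
    rw [hvv, h11, zero_mul, mul_zero]

theorem wfam_act (T : V →ₗ[F] V) {b : ℕ} (u v : Fin b → V) (A : Matrix (Fin 2) (Fin 2) F)
    (ε : Fin b → F) (hu : ∀ l, T (u l) = ε l • (A 0 0 • u l + A 1 0 • v l))
    (hv : ∀ l, T (v l) = ε l • (A 0 1 • u l + A 1 1 • v l)) :
    ∀ β, T (wfam u v β) = ∑ α, (A ⊗ₖ Matrix.diagonal ε) α β • wfam u v α := by
  rintro ⟨j, l⟩
  rw [Fintype.sum_prod_type, Fin.sum_univ_two]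
  have h1 : ∀ i : Fin 2, ∑ k, (A ⊗ₖ Matrix.diagonal ε) (i, k) (j, l) • wfam u v (i, k) =
      (A i j * ε l) • wfam u v (i, l) := by
    intro i
    rw [Finset.sum_eq_single l]
    · rw [Matrix.kroneckerMap_apply, Matrix.diagonal_apply_eq]
    · intro k _ hkl
      rw [Matrix.kroneckerMap_apply, Matrix.diagonal_apply_ne _ hkl, mul_zero, zero_smul]
    · intro h
      exact absurd (Finset.mem_univ l) h
  rw [h1, h1, wfam_zero, wfam_one]
  fin_cases j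
  · show T (u l) = _
    rw [hu, smul_add, smul_smul, smul_smul, mul_comm (ε l), mul_comm (ε l)]
    rfl
  · show T (v l) = _
    rw [hv, smul_add, smul_smul, smul_smul, mul_comm (ε l), mul_comm (ε l)]
    rfl

end generic

/-- a form-compatible map intertwining `x` with a Kronecker product gives a symplectic conjugate of `x` in the
stabilizer. -/
theorem conj_mem_of_map {d a b : ℕ} (e : (Fin d ⊕ Fin d) ≃ Fin a × Fin b) (P x : GL (Fin d ⊕ Fin d) F)
    (Ψ : (Fin a × Fin b → F) →ₗ[F] (Fin d ⊕ Fin d → F))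
    (hΨ : ∀ y y', Cfsg.sympForm d F (Ψ y) (Ψ y') = Cfsg.sympForm d F (coord e P y) (coord e P y'))
    (A : GL (Fin a) F) (Bm : GL (Fin b) F)
    (hx : ∀ y, (x : Matrix (Fin d ⊕ Fin d) (Fin d ⊕ Fin d) F) *ᵥ Ψ y =
      Ψ (((A : Matrix (Fin a) (Fin a) F) ⊗ₖ (Bm : Matrix (Fin b) (Fin b) F)) *ᵥ y)) :
    ∃ g ∈ Cfsg.spGL d F, g⁻¹ * x * g ∈ Cfsg.Geo.tensorProductSubgroup a b e P := by
  classical
  obtain ⟨L, hL⟩ : ∃ L : (Fin d ⊕ Fin d → F) →ₗ[F] (Fin d ⊕ Fin d → F),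
      L = Ψ ∘ₗ (coord e P).symm.toLinearMap := ⟨_, rfl⟩
  have hLc : ∀ y, L (coord e P y) = Ψ y := by
    intro y
    rw [hL, LinearMap.comp_apply, LinearEquiv.coe_coe, LinearEquiv.symm_apply_apply]
  have hLiso : ∀ u v, Cfsg.sympForm d F (L u) (L v) = Cfsg.sympForm d F u v := by
    intro u v
    obtain ⟨y, rfl⟩ := (coord e P).surjective u
    obtain ⟨y', rfl⟩ := (coord e P).surjective v
    rw [hLc, hLc, hΨ]
  have hLinj : Function.Injective L := by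
    rw [← LinearMap.ker_eq_bot, LinearMap.ker_eq_bot']
    intro u hu
    apply sB_nondeg (m := d) u
    intro v
    rw [sB_apply, ← hLiso, hu, ← sB_apply, map_zero, LinearMap.zero_apply]
  obtain ⟨M, hM⟩ : ∃ M : Matrix (Fin d ⊕ Fin d) (Fin d ⊕ Fin d) F, M = LinearMap.toMatrix' L := ⟨_, rfl⟩
  have hMv : ∀ v, M *ᵥ v = L v := by
    intro v
    rw [hM, LinearMap.toMatrix'_mulVec]
  have hMu : IsUnit M := by
    rw [← Matrix.mulVec_injective_iff_isUnit]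
    intro u v huv
    apply hLinj
    rw [← hMv, ← hMv]
    exact huv
  obtain ⟨g, hg⟩ := hMu
  have hgv : ∀ v, (g : Matrix (Fin d ⊕ Fin d) (Fin d ⊕ Fin d) F) *ᵥ v = L v := by
    intro v
    rw [hg, hMv]
  refine ⟨g, ?_, ?_⟩
  · intro u v
    show Cfsg.sympForm d F ((g : Matrix (Fin d ⊕ Fin d) (Fin d ⊕ Fin d) F) *ᵥ u)
      ((g : Matrix (Fin d ⊕ Fin d) (Fin d ⊕ Fin d) F) *ᵥ v) = _
    rw [hgv, hgv, hLiso]
  · apply mem_of_kron_data e P _ A Bm
    intro y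
    rw [Units.val_mul, Units.val_mul, ← Matrix.mulVec_mulVec, ← Matrix.mulVec_mulVec, hgv, hLc, hx, ← hLc, ← hgv,
      Matrix.mulVec_mulVec, ← Units.val_mul, inv_mul_cancel, Units.val_one, Matrix.one_mulVec]

/-- **sufficiency** for the stabilizers of the decompositions `Sp_2 ⊗ O_b`. -/
theorem forall_of_cond {F : Type*} [Field F] [Fintype F] (hodd : Odd (Fintype.card F)) (d : ℕ) (hd : 2 ≤ d)
    (b : ℕ) (hab : 2 * d = 2 * b) (hb : 3 ≤ b) (e : (Fin d ⊕ Fin d) ≃ Fin 2 × Fin b)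
    (P : GL (Fin d ⊕ Fin d) F) (f₁ : (Fin 2 → F) → (Fin 2 → F) → F) (f₂ : (Fin b → F) → (Fin b → F) → F)
    (hf₁ : Cfsg.Geo.IsSymplecticForm f₁) (hf₂ : Cfsg.Geo.IsSymmetricForm f₂)
    (hS : Cfsg.Geo.IsTensorFormStructure id (Cfsg.sympForm d F) f₁ f₂ e P)
    (x : GL (Fin d ⊕ Fin d) F) (hx : x ∈ Cfsg.spGL d F)
    (hx2 : ∃ z : F, ((x ^ 2 : GL (Fin d ⊕ Fin d) F) : Matrix (Fin d ⊕ Fin d) (Fin d ⊕ Fin d) F) =
      z • (1 : Matrix (Fin d ⊕ Fin d) (Fin d ⊕ Fin d) F))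
    (hns : ∀ z : F, (x : Matrix (Fin d ⊕ Fin d) (Fin d ⊕ Fin d) F) ≠ z • 1) :
    ∃ g ∈ Cfsg.spGL d F, g⁻¹ * x * g ∈ Cfsg.Geo.tensorProductSubgroup 2 b e P := by
  classical
  have h2 := two_ne_zero_of_odd hodd
  obtain ⟨c, hc0, hc⟩ := hS
  obtain ⟨z, hz⟩ := hx2
  obtain ⟨G₁, hG₁⟩ : ∃ G₁ : Matrix (Fin 2) (Fin 2) F, G₁ = Cfsg.Geo.gramMatrix f₁ := ⟨_, rfl⟩
  obtain ⟨G₂, hG₂⟩ : ∃ G₂ : Matrix (Fin b) (Fin b) F, G₂ = Cfsg.Geo.gramMatrix f₂ := ⟨_, rfl⟩
  rw [← hG₁, ← hG₂] at hc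
  have h00 : G₁ 0 0 = 0 := by rw [hG₁]; exact hf₁.alternating _
  have h11 : G₁ 1 1 = 0 := by rw [hG₁]; exact hf₁.alternating _
  have h10 : G₁ 1 0 = -G₁ 0 1 := by rw [hG₁]; exact hf₁.skew _ _
  have hγ : G₁ 0 1 ≠ 0 := by
    intro h
    apply gram_ne_zero f₁ hf₁.bilinear hf₁.nondegenerate
    rw [← hG₁]
    ext i j
    fin_cases i <;> fin_cases j
    · exact h00
    · exact h
    · show G₁ 1 0 = 0
      rw [h10, h, neg_zero]
    · exact h11
  obtain ⟨U, U', δ, hUU', hU'U, hδ, hdiag⟩ := Cfsg.Agent.Helper7.TensNM.exists_diag h2 G₂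
    (by rw [hG₂]; exact Cfsg.Agent.Helper7.TensNM.gram_transpose hf₂.symm)
    (by rw [hG₂]; exact Cfsg.Agent.Helper7.TensNM.gram_nondegenerate hf₂.bilinear hf₂.nondegenerate)
  have hG₂eq : U'ᵀ * Matrix.diagonal δ * U' = G₂ := by
    rw [← hdiag, ← Matrix.mul_assoc, ← Matrix.mul_assoc, ← Matrix.transpose_mul, hUU', Matrix.transpose_one,
      Matrix.one_mul, Matrix.mul_assoc, hUU', Matrix.mul_one]
  obtain ⟨T, hT⟩ : ∃ T : Module.End F (Fin d ⊕ Fin d → F),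
      T = Matrix.toLin' (x : Matrix (Fin d ⊕ Fin d) (Fin d ⊕ Fin d) F) := ⟨_, rfl⟩
  have hTv : ∀ v, T v = (x : Matrix (Fin d ⊕ Fin d) (Fin d ⊕ Fin d) F) *ᵥ v := by
    intro v
    rw [hT, Matrix.toLin'_apply]
  have hiso : ∀ u v, sB d F (T u) (T v) = sB d F u v := by
    intro u v
    rw [sB_apply, sB_apply, hTv, hTv]
    exact hx u v
  have hTT : ∀ v, T (T v) = z • v := by
    intro v
    rw [hTv, hTv, Matrix.mulVec_mulVec, ← pow_two, ← Units.val_pow_eq_pow_val, hz, Matrix.smul_mulVec,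
      Matrix.one_mulVec]
  have hzz : z * z = 1 := by
    apply scalar_sq_eq_one (d := d) (by omega) hiso (n := 2)
    apply LinearMap.ext
    intro v
    rw [pow_two, Module.End.mul_apply, hTT, LinearMap.smul_apply, Module.End.one_apply]
  have hdim : finrank F (Fin d ⊕ Fin d → F) = 2 * b := by
    rw [Cfsg.Agent.Helper7.SpUn.finrank_std, hab]
  have hτ : ∀ k, c * G₁ 0 1 * δ k ≠ 0 := fun k => mul_ne_zero (mul_ne_zero hc0 hγ) (hδ k)
  obtain ⟨u, v, A, ε, hAA, hε, huu, hvv, huv, hu, hv⟩ : ∃ (u v : Fin b → (Fin d ⊕ Fin d → F))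
      (A : Matrix (Fin 2) (Fin 2) F) (ε : Fin b → F), (∃ A', A * A' = 1 ∧ A' * A = 1) ∧
      (∀ k, ε k * ε k = 1) ∧ (∀ k l, sB d F (u k) (u l) = 0) ∧ (∀ k l, sB d F (v k) (v l) = 0) ∧
      (∀ k l, sB d F (u k) (v l) = if k = l then c * G₁ 0 1 * δ k else 0) ∧
      (∀ l, T (u l) = ε l • (A 0 0 • u l + A 1 0 • v l)) ∧
      (∀ l, T (v l) = ε l • (A 0 1 • u l + A 1 1 • v l)) := by
    have hz1 : z = 1 ∨ z = -1 := by
      have : (z - 1) * (z + 1) = 0 := by linear_combination hzz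
      rcases mul_eq_zero.mp this with h | h
      · left; linear_combination h
      · right; linear_combination h
    rcases hz1 with rfl | rfl
    · obtain ⟨u, v, ε, hε, huu, hvv, huv, hu, hv⟩ := exists_family_split (sB_isAlt d) h2 (sB_ND d) hiso
        (fun v => by rw [hTT, one_smul]) hdim _ hτ
      refine ⟨u, v, 1, ε, ⟨1, one_mul 1, one_mul 1⟩, hε, huu, hvv, huv, ?_, ?_⟩
      · intro l
        rw [hu]
        simp
      · intro l
        rw [hv]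
        simp
    · obtain ⟨u, v, huu, hvv, huv, hu, hv⟩ := exists_family_nonsplit hodd (sB_isAlt d) (sB_ND d) hiso
        (fun v => by rw [hTT, neg_one_smul]) hdim _ hτ
      refine ⟨u, v, !![0, -1; 1, 0], fun _ => 1, ⟨!![0, 1; -1, 0], ?_, ?_⟩, fun _ => one_mul 1, huu, hvv, huv,
        ?_, ?_⟩
      · ext i j
        fin_cases i <;> fin_cases j <;> simp [Matrix.mul_apply, Fin.sum_univ_two]
      · ext i j
        fin_cases i <;> fin_cases j <;> simp [Matrix.mul_apply, Fin.sum_univ_two]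
      · intro l
        rw [hu]
        simp
      · intro l
        rw [hv]
        simp
  obtain ⟨A', hAA', hA'A⟩ := hAA
  have hgram := wfam_gram (sB d F) (sB_isAlt d) u v G₁ h00 h11 h10 c δ huu hvv huv
  have hact := wfam_act T u v A ε hu hv
  obtain ⟨Ψ₀, hΨ₀def⟩ : ∃ Ψ₀ : (Fin 2 × Fin b → F) →ₗ[F] (Fin d ⊕ Fin d → F),
      Ψ₀ = Fintype.linearCombination F (wfam u v) := ⟨_, rfl⟩
  have hΨ₀ : ∀ y, Ψ₀ y = ∑ α, y α • wfam u v α := by
    intro y
    rw [hΨ₀def, Fintype.linearCombination_apply]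
  obtain ⟨K, hK⟩ : ∃ K : Matrix (Fin 2 × Fin b) (Fin 2 × Fin b) F,
      K = (1 : Matrix (Fin 2) (Fin 2) F) ⊗ₖ U' := ⟨_, rfl⟩
  obtain ⟨Ψ, hΨdef⟩ : ∃ Ψ : (Fin 2 × Fin b → F) →ₗ[F] (Fin d ⊕ Fin d → F),
      Ψ = Ψ₀ ∘ₗ Matrix.toLin' K := ⟨_, rfl⟩
  have hΨ : ∀ y, Ψ y = Ψ₀ (K *ᵥ y) := by
    intro y
    rw [hΨdef, LinearMap.comp_apply, Matrix.toLin'_apply]
  have hEE : Matrix.diagonal ε * Matrix.diagonal ε = (1 : Matrix (Fin b) (Fin b) F) := by
    rw [Matrix.diagonal_mul_diagonal]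
    simp only [hε]
    exact Matrix.diagonal_one
  have hBB : (U * Matrix.diagonal ε * U') * (U * Matrix.diagonal ε * U') = 1 := by
    calc (U * Matrix.diagonal ε * U') * (U * Matrix.diagonal ε * U')
        = U * (Matrix.diagonal ε * (U' * U) * Matrix.diagonal ε) * U' := by
          simp only [Matrix.mul_assoc]
      _ = 1 := by rw [hU'U, Matrix.mul_one, hEE, Matrix.mul_one, hUU']
  apply conj_mem_of_map e P x Ψ ?_ ⟨A, A', hAA', hA'A⟩ ⟨U * Matrix.diagonal ε * U', U * Matrix.diagonal ε * U', hBB, hBB⟩ ?_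
  · intro y y'
    rw [coord_apply, coord_apply, hc, hΨ, hΨ, hΨ₀, hΨ₀, ← sB_apply, gram_lc (sB d F) (wfam u v) _ hgram,
      ← dot_transpose_mul_mul, formOfGram_id]
    have h1 : Kᵀ * (c • (G₁ ⊗ₖ Matrix.diagonal δ)) * K = c • (G₁ ⊗ₖ G₂) := by
      rw [hK, Matrix.mul_smul, Matrix.smul_mul, ← Matrix.kroneckerMap_transpose, ← Matrix.mul_kronecker_mul,
        ← Matrix.mul_kronecker_mul, Matrix.transpose_one, Matrix.one_mul, Matrix.mul_one, hG₂eq]
    rw [h1, Matrix.smul_mulVec, dotProduct_smul, smul_eq_mul]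
  · intro y
    show (x : Matrix (Fin d ⊕ Fin d) (Fin d ⊕ Fin d) F) *ᵥ Ψ y = Ψ ((A ⊗ₖ (U * Matrix.diagonal ε * U')) *ᵥ y)
    rw [hΨ, hΨ, hΨ₀, hΨ₀, ← hTv, act_lc T (wfam u v) _ hact, Matrix.mulVec_mulVec, Matrix.mulVec_mulVec]
    have h1 : (A ⊗ₖ Matrix.diagonal ε) * K = K * (A ⊗ₖ (U * Matrix.diagonal ε * U')) := by
      rw [hK, ← Matrix.mul_kronecker_mul, ← Matrix.mul_kronecker_mul, Matrix.mul_one, Matrix.one_mul,
        ← Matrix.mul_assoc, ← Matrix.mul_assoc, hU'U, Matrix.one_mul]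
    rw [h1]

end Cfsg.Agent.Helper8.TnSpLe
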