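import Mathlib
import Cfsg.Agent.Helper8.TtA
import Cfsg.Agent.Helper8.JdC

set_option autoImplicit false
set_option linter.unusedSectionVars false
set_option linter.unusedSimpArgs false

/-!
helper8: a permutation group `H` with a normal quasisimple subgroup `K` containing its own
centralizer in `H`.  Every tetrad of `H` lies in the support of `K`, and `K` is transitive on its
support.
-/

namespace Cfsg.Agent.Helper8.Tt

open Equiv Equiv.Perm
open scoped Pointwise

/-- a perfect group acts trivially on a set with at most four points -/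
theorem perfect_act_trivial {K X : Type*} [Group K] [Finite K] [MulAction K X] [Finite X]
    (hK : Group.IsPerfect K) (hX : Nat.card X ≤ 4) (k : K) (x : X) : k • x = x := by
  classical
  have : Fintype X := Fintype.ofFinite X
  let φ := MulAction.toPermHom K X
  have hperf : Group.IsPerfect ↥φ.range := Group.IsPerfect.range φ
  have hsub : Subsingleton ↥φ.range := by
    by_contra hns
    rw [not_subsingleton_iff_nontrivial] at hns
    have h60 := Cfsg.Agent.Helper8.Jd.sixty_le_card_of_perfect hperf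
    have h1 : Nat.card ↥φ.range ≤ Nat.card (Perm X) := Subgroup.card_le_card_group _
    have h2 : Nat.card (Perm X) = (Nat.card X).factorial := by
      rw [Nat.card_eq_fintype_card, Fintype.card_perm, Nat.card_eq_fintype_card]
    have h3 : (Nat.card X).factorial ≤ Nat.factorial 4 := Nat.factorial_le hX
    have h4 : Nat.factorial 4 = 24 := rfl
    omega
  have h1 : (⟨φ k, k, rfl⟩ : ↥φ.range) = 1 := Subsingleton.elim _ _
  have h2 : φ k = 1 := congrArg Subtype.val h1
  have h3 : φ k x = x := by rw [h2]; rfl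
  exact h3

variable {α : Type*} [Fintype α] [DecidableEq α]

/-- the hypotheses on the pair `K ≤ H` -/
structure Setup (H K : Subgroup (Perm α)) : Prop where
  hn : ∀ h ∈ H, ∀ k ∈ K, h * k * h⁻¹ ∈ K
  hKH : K ≤ H
  hq : Cfsg.IsQuasisimple ↥K
  hmemK : ∀ c ∈ H, (∀ k ∈ K, k * c = c * k) → c ∈ K
  hO2 : ∀ N₀ : Subgroup (Perm α), N₀ ≤ H → (∀ h ∈ H, ∀ u ∈ N₀, h * u * h⁻¹ ∈ N₀) →
    (∀ u ∈ N₀, u * u = 1) → ∀ u ∈ N₀, ∀ k ∈ K, k * u = u * k

open Classical in
/-- the support of `K` -/
noncomputable def supp (K : Subgroup (Perm α)) : Finset α :=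
  Finset.univ.filter (fun x => ∃ k ∈ K, k x ≠ x)

theorem mem_supp (K : Subgroup (Perm α)) (x : α) : x ∈ supp K ↔ ∃ k ∈ K, k x ≠ x := by
  unfold supp
  simp

theorem apply_of_notMem_supp {K : Subgroup (Perm α)} {k : Perm α} (hk : k ∈ K) {x : α}
    (hx : x ∉ supp K) : k x = x := by
  by_contra h
  exact hx ((mem_supp K x).2 ⟨k, hk, h⟩)

theorem Setup.apply_mem_supp {H K : Subgroup (Perm α)} (hs : Setup H K) {h : Perm α}
    (hh : h ∈ H) {x : α} (hx : x ∈ supp K) : h x ∈ supp K := by
  rw [mem_supp] at hx ⊢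
  obtain ⟨k, hk, hkx⟩ := hx
  refine ⟨h * k * h⁻¹, hs.hn h hh k hk, ?_⟩
  simp only [Perm.mul_apply, Perm.coe_inv, Equiv.symm_apply_apply]
  intro e
  exact hkx (h.injective e)

theorem Setup.apply_mem_supp_iff {H K : Subgroup (Perm α)} (hs : Setup H K) {h : Perm α}
    (hh : h ∈ H) {x : α} : h x ∈ supp K ↔ x ∈ supp K := by
  constructor
  · intro hx
    have := hs.apply_mem_supp (H.inv_mem hh) hx
    simpa using this
  · exact hs.apply_mem_supp hh

theorem Setup.smul_supp {H K : Subgroup (Perm α)} (hs : Setup H K) {h : Perm α}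
    (hh : h ∈ H) : h • supp K = supp K := by
  ext x
  rw [← Finset.inv_smul_mem_iff, Perm.smul_def]
  exact hs.apply_mem_supp_iff (H.inv_mem hh)

/-- the double transposition moves each of its four points -/
theorem dt_apply_ne {a b c d : α} (h4 : ({a, b, c, d} : Finset α).card = 4) {z : α}
    (hz : z ∈ ({a, b, c, d} : Finset α)) : (swap a b * swap c d) z ≠ z := by
  obtain ⟨n1, n2, n3, n4, n5, n6⟩ := ne_of_card_four h4
  simp only [Finset.mem_insert, Finset.mem_singleton] at hz
  rcases hz with rfl | rfl | rfl | rfl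
  · rw [dt_apply_left n2 n3]; exact n1.symm
  · rw [Perm.mul_apply, swap_apply_of_ne_of_ne n4 n5, swap_apply_right]; exact n1
  · rw [Perm.mul_apply, swap_apply_left, swap_apply_of_ne_of_ne n3.symm n5.symm]; exact n6.symm
  · rw [Perm.mul_apply, swap_apply_right, swap_apply_of_ne_of_ne n2.symm n4.symm]; exact n6

/-- A3: no double transposition of a tetrad centralizes `K` -/
theorem Setup.not_centralize {H K : Subgroup (Perm α)} (hs : Setup H K) {S : Finset α}
    (hS : Tet H S) {a b c d : α} (e : ({a, b, c, d} : Finset α) = S) :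
    ¬ ∀ k ∈ K, k * (swap a b * swap c d) = (swap a b * swap c d) * k := by
  intro hcen
  set t := swap a b * swap c d with ht
  have htH : t ∈ H := hS.2 a b c d e
  have htK : t ∈ K := hs.hmemK t htH hcen
  have h4 : ({a, b, c, d} : Finset α).card = 4 := by rw [e]; exact hS.1
  -- `K` preserves `S`
  have hinv : ∀ k ∈ K, ∀ z ∈ S, k z ∈ S := by
    intro k hk z hz
    by_contra hkz
    rw [← e] at hz hkz
    have h1 : t (k z) = k z := dt_apply_of_notMem hkz
    have h2 : t (k z) = k (t z) := by
      have := congrArg (fun f => f z) (hcen k hk)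
      simpa [Perm.mul_apply] using this.symm
    rw [h2] at h1
    exact dt_apply_ne h4 hz (k.injective h1)
  -- so `K` acts on the four points of `S`
  let Ssub : SubMulAction ↥K α :=
    { carrier := (S : Set α)
      smul_mem' := by
        intro k z hz
        exact hinv k.1 k.2 z hz }
  have hcard : Nat.card ↥Ssub ≤ 4 := by
    have : Nat.card ↥Ssub = Nat.card ↥(S : Set α) := rfl
    rw [this, Nat.card_coe_set_eq, Set.ncard_coe_finset, hS.1]
  have haS : a ∈ S := by rw [← e]; simp
  have h1 := perfect_act_trivial hs.hq.1 hcard ⟨t, htK⟩ ⟨a, haS⟩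
  have h2 : t a = a := congrArg Subtype.val h1
  exact dt_apply_ne h4 (by simp) h2

open Classical in
/-- the orbit of `x` under `K`, as a finset -/
noncomputable def orb (K : Subgroup (Perm α)) (x : α) : Finset α :=
  Finset.univ.filter (fun y => ∃ k ∈ K, k x = y)

theorem mem_orb (K : Subgroup (Perm α)) (x y : α) : y ∈ orb K x ↔ ∃ k ∈ K, k x = y := by
  unfold orb
  simp

theorem self_mem_orb (K : Subgroup (Perm α)) (x : α) : x ∈ orb K x :=
  (mem_orb K x x).2 ⟨1, K.one_mem, rfl⟩

theorem apply_mem_orb {K : Subgroup (Perm α)} {x y : α} {k : Perm α} (hk : k ∈ K)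
    (hy : y ∈ orb K x) : k y ∈ orb K x := by
  rw [mem_orb] at hy ⊢
  obtain ⟨k', hk', rfl⟩ := hy
  exact ⟨k * k', K.mul_mem hk hk', rfl⟩

theorem apply_mem_orb_iff {K : Subgroup (Perm α)} {x y : α} {k : Perm α} (hk : k ∈ K) :
    k y ∈ orb K x ↔ y ∈ orb K x := by
  constructor
  · intro h
    have := apply_mem_orb (K.inv_mem hk) h
    simpa using this
  · exact apply_mem_orb hk

/-- a nontrivial orbit of a perfect group has at least five points -/
theorem five_le_card_orb {K : Subgroup (Perm α)} (hK : Group.IsPerfect ↥K) {x : α}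
    (hx : x ∈ supp K) : 5 ≤ (orb K x).card := by
  by_contra hlt
  push Not at hlt
  let Osub : SubMulAction ↥K α :=
    { carrier := (orb K x : Set α)
      smul_mem' := by
        intro k z hz
        exact apply_mem_orb k.2 hz }
  have hcard : Nat.card ↥Osub ≤ 4 := by
    have : Nat.card ↥Osub = Nat.card ↥(orb K x : Set α) := rfl
    rw [this, Nat.card_coe_set_eq, Set.ncard_coe_finset]
    omega
  rw [mem_supp] at hx
  obtain ⟨k, hk, hkx⟩ := hx
  have h1 := perfect_act_trivial hK hcard ⟨k, hk⟩ ⟨x, self_mem_orb K x⟩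
  exact hkx (congrArg Subtype.val h1)

/-- A5: every tetrad lies in the support of `K`, on which `K` is transitive -/
theorem Setup.main {H K : Subgroup (Perm α)} (hs : Setup H K) {S : Finset α} (hS : Tet H S) :
    S ⊆ supp K ∧ ∀ y ∈ supp K, ∀ y' ∈ supp K, ∃ k ∈ K, k y = y' := by
  classical
  obtain ⟨a, haS⟩ : S.Nonempty := by rw [← Finset.card_pos, hS.1]; omega
  obtain ⟨b, c, d, hab, hcd, hac, had, hbc, hbd, hSe⟩ := exists_eq_of_mem_one hS.1 haS
  set t := swap a b * swap c d with ht
  have htH : t ∈ H := hS.2 a b c d hSe.symm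
  have hnc := hs.not_centralize hS hSe.symm
  -- (i) `S` meets the support
  obtain ⟨x, hxS, hxΔ⟩ : ∃ x ∈ S, x ∈ supp K := by
    by_contra hno
    push Not at hno
    apply hnc
    intro k hk
    have hd : Perm.Disjoint k t := by
      intro z
      by_cases hz : z ∈ S
      · left; exact apply_of_notMem_supp hk (hno z hz)
      · right; rw [hSe] at hz; exact dt_apply_of_notMem hz
    exact hd.commute.eq
  have h5 := five_le_card_orb hs.hq.1 hxΔ
  -- (ii) `S` lies in the orbit of `x`
  have hSO : S ⊆ orb K x := by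
    intro y hy
    obtain ⟨v, hvH, hvx, hvfix⟩ := hS.exists_map hxS hy
    obtain ⟨z, hzO, hzS⟩ : ∃ z ∈ orb K x, z ∉ S := by
      by_contra hno
      push Not at hno
      have : (orb K x).card ≤ S.card := Finset.card_le_card (fun z hz => hno z hz)
      rw [hS.1] at this
      omega
    rw [mem_orb] at hzO ⊢
    obtain ⟨k, hk, rfl⟩ := hzO
    have hvz := hvfix _ hzS
    refine ⟨(v * k⁻¹ * v⁻¹) * k, K.mul_mem (hs.hn v hvH _ (K.inv_mem hk)) hk, ?_⟩
    simp only [Perm.mul_apply]
    rw [← hvx]
    congr 1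
    have : v⁻¹ (k x) = k x := by
      rw [Perm.inv_eq_iff_eq]; exact hvz.symm
    rw [this]; simp
  -- (iii) the orbit lies in the support
  have hOΔ : orb K x ⊆ supp K := by
    intro y hy
    rw [mem_orb] at hy
    obtain ⟨k, hk, rfl⟩ := hy
    exact hs.apply_mem_supp (hs.hKH hk) hxΔ
  -- (iv) the support lies in the orbit
  have hΔO : supp K ⊆ orb K x := by
    have hKL := Cfsg.Agent.Helper8.Jd.quasisimple_le_closure_conj K H hs.hn hs.hq t htH hnc
    have hfix : ∀ g ∈ Subgroup.closure (Cfsg.Agent.Helper8.Jd.conjSet K t), ∀ z, z ∉ orb K x →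
        g z = z := by
      intro g hg
      induction hg using Subgroup.closure_induction with
      | mem g hg =>
        obtain ⟨k, hk, rfl⟩ := hg
        intro z hz
        have h1 : k⁻¹ z ∉ orb K x := by
          rw [apply_mem_orb_iff (K.inv_mem hk)]; exact hz
        have h2 : k⁻¹ z ∉ S := fun h => h1 (hSO h)
        rw [hSe] at h2
        have h3 : t (k⁻¹ z) = k⁻¹ z := dt_apply_of_notMem h2
        simp only [Perm.mul_apply, h3]
        simp
      | one => intro z _; rfl
      | mul u v _ _ hu hv =>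
        intro z hz
        rw [Perm.mul_apply, hv z hz, hu z hz]
      | inv u _ hu =>
        intro z hz
        rw [Perm.inv_eq_iff_eq]; exact (hu z hz).symm
    intro z hz
    by_contra hzO
    rw [mem_supp] at hz
    obtain ⟨k, hk, hkz⟩ := hz
    exact hkz (hfix k (hKL hk) z hzO)
  refine ⟨fun y hy => hOΔ (hSO hy), ?_⟩
  intro y hy y' hy'
  have h1 := hΔO hy
  have h2 := hΔO hy'
  rw [mem_orb] at h1 h2
  obtain ⟨k, hk, rfl⟩ := h1
  obtain ⟨k', hk', rfl⟩ := h2
  exact ⟨k' * k⁻¹, K.mul_mem hk' (K.inv_mem hk), by simp⟩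

end Cfsg.Agent.Helper8.Tt
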