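import Mathlib
import Cfsg.Agent.Helper8.TtC

set_option autoImplicit false
set_option linter.unusedSectionVars false
set_option linter.unusedSimpArgs false

/-!
helper8: in the situation of `Setup`, as soon as `H` has a tetrad it acts primitively on the
support of `K`.
-/

namespace Cfsg.Agent.Helper8.Tt

open Equiv Equiv.Perm
open scoped Pointwise

variable {α : Type*} [Fintype α] [DecidableEq α]

theorem smul_finset_eq_of_fix {u : Perm α} {W : Finset α} (h : ∀ z ∈ W, u z = z) : u • W = W := by
  have h1 : u • W ⊆ W := by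
    intro y hy
    rw [Finset.mem_smul_finset] at hy
    obtain ⟨z, hz, rfl⟩ := hy
    rw [Perm.smul_def, h z hz]; exact hz
  exact Finset.eq_of_subset_of_card_le h1 (by rw [Finset.card_smul_finset])

theorem apply_mem_of_smul_eq {u : Perm α} {W : Finset α} (h : u • W = W) {z : α} (hz : z ∈ W) :
    u z ∈ W := by
  rw [← h]
  exact Finset.mem_smul_finset.2 ⟨z, hz, rfl⟩

/-- a permutation preserving a two-element set squares to the identity on it -/
theorem sq_fix_of_pair {u : Perm α} {W : Finset α} (hW : W.card = 2) (hu : u • W = W) {z : α}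
    (hz : z ∈ W) : u (u z) = z := by
  obtain ⟨p, q, hpq, rfl⟩ := Finset.card_eq_two.1 hW
  have hp := apply_mem_of_smul_eq hu (z := p) (by simp)
  have hq := apply_mem_of_smul_eq hu (z := q) (by simp)
  simp only [Finset.mem_insert, Finset.mem_singleton] at hp hq hz
  have hinj : u p ≠ u q := fun e => hpq (u.injective e)
  rcases hz with rfl | rfl
  · rcases hp with hp | hp
    · rw [hp, hp]
    · rcases hq with hq | hq
      · rw [hp, hq]
      · exact absurd (hp.trans hq.symm) hinj
  · rcases hq with hq | hq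
    · rcases hp with hp | hp
      · exact absurd (hp.trans hq.symm) hinj
      · rw [hq, hp]
    · rw [hq, hq]

/-- the block condition in terms of finsets -/
def IsBlk (H : Subgroup (Perm α)) (B : Finset α) : Prop :=
  ∀ h ∈ H, h • B = B ∨ Disjoint (h • B) B

theorem IsBlk.eq_of_meet {H : Subgroup (Perm α)} {B : Finset α} (hB : IsBlk H B) {g g' : Perm α}
    (hg : g ∈ H) (hg' : g' ∈ H) {z : α} (hz : z ∈ g • B) (hz' : z ∈ g' • B) : g • B = g' • B := by
  rcases hB (g'⁻¹ * g) (H.mul_mem (H.inv_mem hg') hg) with h | h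
  · rw [mul_smul, inv_smul_eq_iff] at h
    exact h
  · exfalso
    rw [Finset.disjoint_left] at h
    apply h (a := g'⁻¹ z)
    · rw [mul_smul, ← Perm.smul_def, Finset.smul_mem_smul_finset_iff]; exact hz
    · rw [← Finset.smul_mem_smul_finset_iff g', ← Perm.smul_def, smul_inv_smul]; exact hz'

/-- blocks with at least three points -/
theorem Setup.block_large {H K : Subgroup (Perm α)} (hs : Setup H K) {S : Finset α}
    (hS : Tet H S) {B : Finset α} (hBΔ : B ⊆ supp K) (hB : IsBlk H B) (h3 : 3 ≤ B.card) :
    B = supp K := by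
  classical
  obtain ⟨hSΔ, htrans⟩ := hs.main hS
  -- elements moving at most four points fix the block
  have key : ∀ g ∈ H, (∃ T : Finset α, T.card ≤ 4 ∧ ∀ z, z ∉ T → g z = z) → g • B = B := by
    rintro g hg ⟨T, hT4, hT⟩
    rcases hB g hg with h | h
    · exact h
    · exfalso
      have h1 : B ⊆ T := by
        intro z hz
        by_contra hzT
        have hgz := hT z hzT
        rw [Finset.disjoint_left] at h
        exact h (a := z) (by
          rw [Finset.mem_smul_finset]; exact ⟨z, hz, hgz⟩) hz
      have h2 : g • B ⊆ T := by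
        intro y hy
        rw [Finset.mem_smul_finset] at hy
        obtain ⟨z, hz, rfl⟩ := hy
        by_contra hzT
        have hgz := hT _ hzT
        rw [Perm.smul_def] at hgz
        have hz' : g z = z := g.injective hgz
        rw [Finset.disjoint_left] at h
        exact h (a := z) (by
          rw [Finset.mem_smul_finset]; exact ⟨z, hz, hz'⟩) hz
      have h4 : (g • B ∪ B).card ≤ T.card := Finset.card_le_card (Finset.union_subset h2 h1)
      rw [Finset.card_union_of_disjoint h, Finset.card_smul_finset] at h4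
      omega
  obtain ⟨a, haS⟩ : S.Nonempty := by rw [← Finset.card_pos, hS.1]; omega
  obtain ⟨b, c, d, hab, hcd, hac, had, hbc, hbd, hSe⟩ := exists_eq_of_mem_one hS.1 haS
  set t := swap a b * swap c d with ht
  have htH : t ∈ H := hS.2 a b c d hSe.symm
  have hnc := hs.not_centralize hS hSe.symm
  have hKL := Cfsg.Agent.Helper8.Jd.quasisimple_le_closure_conj K H hs.hn hs.hq t htH hnc
  have hstab : ∀ g ∈ Subgroup.closure (Cfsg.Agent.Helper8.Jd.conjSet K t), g • B = B := by
    intro g hg
    induction hg using Subgroup.closure_induction with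
    | mem g hg =>
      obtain ⟨k, hk, rfl⟩ := hg
      apply key _ (H.mul_mem (H.mul_mem (hs.hKH hk) htH) (H.inv_mem (hs.hKH hk)))
      refine ⟨k • S, by rw [Finset.card_smul_finset, hS.1], ?_⟩
      intro z hz
      have h2 : k⁻¹ z ∉ S := by
        intro h
        apply hz
        rw [← Finset.inv_smul_mem_iff]
        exact h
      rw [hSe] at h2
      have h3 : t (k⁻¹ z) = k⁻¹ z := dt_apply_of_notMem h2
      simp only [Perm.mul_apply, h3]
      simp
    | one => exact one_smul _ _
    | mul u v _ _ hu hv => rw [mul_smul, hv, hu]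
    | inv u _ hu => rw [inv_smul_eq_iff, hu]
  obtain ⟨b₀, hb₀⟩ : B.Nonempty := by rw [← Finset.card_pos]; omega
  apply Finset.Subset.antisymm hBΔ
  intro y hy
  obtain ⟨k, hk, hky⟩ := htrans b₀ (hBΔ hb₀) y hy
  rw [← hstab k (hKL hk), ← hky]
  exact Finset.mem_smul_finset.2 ⟨b₀, hb₀, rfl⟩

/-- a translate of a two-point block meeting a tetrad lies inside it -/
theorem IsBlk.subset_tet {H : Subgroup (Perm α)} {B : Finset α} (hB : IsBlk H B)
    (h2 : B.card = 2) {S : Finset α} (hS : Tet H S) {g : Perm α} (hg : g ∈ H) {p : α}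
    (hpS : p ∈ S) (hpW : p ∈ g • B) : g • B ⊆ S := by
  intro q hqW
  by_contra hqS
  have hpq : p ≠ q := fun e => hqS (e ▸ hpS)
  obtain ⟨y, hyS, hyp⟩ : ∃ y ∈ S, y ≠ p := by
    have : 1 < S.card := by rw [hS.1]; omega
    obtain ⟨y, hy, hne⟩ := Finset.exists_mem_ne this p
    exact ⟨y, hy, hne⟩
  obtain ⟨v, hvH, hvp, hvfix⟩ := hS.exists_map hpS hyS
  have hvq : v q = q := hvfix q hqS
  have h1 : (v * g) • B = g • B := by
    apply hB.eq_of_meet (H.mul_mem hvH hg) hg (z := q)
    · rw [mul_smul, ← hvq, ← Perm.smul_def, Finset.smul_mem_smul_finset_iff]; exact hqW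
    · exact hqW
  have hyW : y ∈ g • B := by
    rw [← h1, mul_smul, ← hvp, ← Perm.smul_def, Finset.smul_mem_smul_finset_iff]; exact hpW
  have hyq : y ≠ q := fun e => hqS (e ▸ hyS)
  have h3 : ({p, q, y} : Finset α) ⊆ g • B := by
    intro w hw
    simp only [Finset.mem_insert, Finset.mem_singleton] at hw
    rcases hw with rfl | rfl | rfl
    · exact hpW
    · exact hqW
    · exact hyW
  have h4 := Finset.card_le_card h3
  rw [Finset.card_smul_finset, h2] at h4
  have h5 : ({p, q, y} : Finset α).card = 3 := by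
    rw [Finset.card_eq_three]
    exact ⟨p, q, y, hpq, hyp.symm, hyq.symm, rfl⟩
  omega

/-- blocks with exactly two points do not exist -/
theorem Setup.block_pair {H K : Subgroup (Perm α)} (hs : Setup H K) {S : Finset α}
    (hS : Tet H S) {B : Finset α} (hBΔ : B ⊆ supp K) (hB : IsBlk H B) (h2 : B.card = 2) :
    False := by
  classical
  obtain ⟨hSΔ, htrans⟩ := hs.main hS
  obtain ⟨z₀, hz₀⟩ : B.Nonempty := by rw [← Finset.card_pos]; omega
  -- every point of the support lies in a translate of `B` by an element of `K`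
  have hcover : ∀ z ∈ supp K, ∃ k ∈ K, z ∈ k • B := by
    intro z hz
    obtain ⟨k, hk, hkz⟩ := htrans z₀ (hBΔ hz₀) z hz
    exact ⟨k, hk, by rw [← hkz]; exact Finset.mem_smul_finset.2 ⟨z₀, hz₀, rfl⟩⟩
  -- the normal subgroup of elements fixing every translate
  let N₀ : Subgroup (Perm α) :=
    { carrier := {u | u ∈ H ∧ (∀ z, z ∉ supp K → u z = z) ∧ ∀ g ∈ H, u • (g • B) = g • B}
      one_mem' := ⟨H.one_mem, fun _ _ => rfl, fun _ _ => one_smul _ _⟩
      mul_mem' := by
        rintro u v ⟨hu1, hu2, hu3⟩ ⟨hv1, hv2, hv3⟩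
        refine ⟨H.mul_mem hu1 hv1, ?_, ?_⟩
        · intro z hz; rw [Perm.mul_apply, hv2 z hz, hu2 z hz]
        · intro g hg; rw [mul_smul, hv3 g hg, hu3 g hg]
      inv_mem' := by
        rintro u ⟨hu1, hu2, hu3⟩
        refine ⟨H.inv_mem hu1, ?_, ?_⟩
        · intro z hz; rw [Perm.inv_eq_iff_eq]; exact (hu2 z hz).symm
        · intro g hg; rw [inv_smul_eq_iff, hu3 g hg] }
  have hN₀H : N₀ ≤ H := fun u hu => hu.1
  have hN₀n : ∀ h ∈ H, ∀ u ∈ N₀, h * u * h⁻¹ ∈ N₀ := by
    rintro h hh u ⟨hu1, hu2, hu3⟩
    refine ⟨H.mul_mem (H.mul_mem hh hu1) (H.inv_mem hh), ?_, ?_⟩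
    · intro z hz
      have h1 : h⁻¹ z ∉ supp K := by
        rw [hs.apply_mem_supp_iff (H.inv_mem hh)]; exact hz
      simp only [Perm.mul_apply, hu2 _ h1]
      simp
    · intro g hg
      have := hu3 (h⁻¹ * g) (H.mul_mem (H.inv_mem hh) hg)
      rw [mul_smul, mul_smul, ← mul_smul h⁻¹ g, this, mul_smul, smul_inv_smul]
  have hN₀2 : ∀ u ∈ N₀, u * u = 1 := by
    rintro u ⟨hu1, hu2, hu3⟩
    ext z
    rw [Perm.mul_apply, Perm.one_apply]
    by_cases hz : z ∈ supp K
    · obtain ⟨k, hk, hzk⟩ := hcover z hz
      exact sq_fix_of_pair (by rw [Finset.card_smul_finset, h2]) (hu3 k (hs.hKH hk)) hzk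
    · rw [hu2 z hz, hu2 z hz]
  have hcen := hs.hO2 N₀ hN₀H hN₀n hN₀2
  -- a double transposition of `S` inside `N₀`
  obtain ⟨x, hxS⟩ : S.Nonempty := by rw [← Finset.card_pos, hS.1]; omega
  obtain ⟨k, hk, hxW⟩ := hcover x (hSΔ hxS)
  have hWS := hB.subset_tet h2 hS (hs.hKH hk) hxS hxW
  have hWc : (k • B).card = 2 := by rw [Finset.card_smul_finset, h2]
  obtain ⟨x', hx'W, hx'x⟩ : ∃ x' ∈ k • B, x' ≠ x :=
    Finset.exists_mem_ne (by rw [hWc]; omega) x
  have hWeq : k • B = {x, x'} := by
    symm
    apply Finset.eq_of_subset_of_card_le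
    · intro w hw
      simp only [Finset.mem_insert, Finset.mem_singleton] at hw
      rcases hw with rfl | rfl
      · exact hxW
      · exact hx'W
    · rw [hWc, Finset.card_pair hx'x.symm]
  obtain ⟨c, d, hcd, hxc, hxd, hx'c, hx'd, hSe, ht₁H⟩ := hS.exists_dt hxS (hWS hx'W) hx'x.symm
  set t₁ := swap x x' * swap c d with ht₁
  have h4 : ({x, x', c, d} : Finset α).card = 4 := by rw [← hSe]; exact hS.1
  have ht₁N : t₁ ∈ N₀ := by
    refine ⟨ht₁H, ?_, ?_⟩
    · intro z hz
      apply dt_apply_of_notMem
      rw [← hSe]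
      exact fun h => hz (hSΔ h)
    · intro g hg
      by_cases hmeet : ∃ p ∈ S, p ∈ g • B
      · obtain ⟨p, hpS, hpW⟩ := hmeet
        have hsub := hB.subset_tet h2 hS hg hpS hpW
        by_cases hxx : x ∈ g • B ∨ x' ∈ g • B
        · have e : g • B = k • B := by
            rcases hxx with h | h
            · exact hB.eq_of_meet hg (hs.hKH hk) h hxW
            · exact hB.eq_of_meet hg (hs.hKH hk) h hx'W
          rw [e, hWeq, Finset.smul_finset_insert, Finset.smul_finset_singleton, Perm.smul_def,
            Perm.smul_def, ht₁, dt_apply_left hxc hxd]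
          have : (swap x x' * swap c d) x' = x := by
            rw [Perm.mul_apply, swap_apply_of_ne_of_ne hx'c hx'd, swap_apply_right]
          rw [this, Finset.pair_comm]
        · push Not at hxx
          have e : g • B = {c, d} := by
            apply Finset.eq_of_subset_of_card_le
            · intro w hw
              have hwS := hsub hw
              rw [hSe] at hwS
              simp only [Finset.mem_insert, Finset.mem_singleton] at hwS ⊢
              rcases hwS with rfl | rfl | h | h
              · exact absurd hw hxx.1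
              · exact absurd hw hxx.2
              · exact Or.inl h
              · exact Or.inr h
            · rw [Finset.card_smul_finset, h2, Finset.card_pair hcd]
          rw [e, Finset.smul_finset_insert, Finset.smul_finset_singleton, Perm.smul_def,
            Perm.smul_def, ht₁]
          have e1 : (swap x x' * swap c d) c = d := by
            rw [Perm.mul_apply, swap_apply_left, swap_apply_of_ne_of_ne hxd.symm hx'd.symm]
          have e2 : (swap x x' * swap c d) d = c := by
            rw [Perm.mul_apply, swap_apply_right, swap_apply_of_ne_of_ne hxc.symm hx'c.symm]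
          rw [e1, e2, Finset.pair_comm]
      · push Not at hmeet
        apply smul_finset_eq_of_fix
        intro z hz
        apply dt_apply_of_notMem
        rw [← hSe]
        exact fun h => hmeet z h hz
  exact hs.not_centralize hS hSe.symm (hcen t₁ ht₁N)

/-- primitivity in finset form -/
theorem Setup.block_trivial {H K : Subgroup (Perm α)} (hs : Setup H K) {S : Finset α}
    (hS : Tet H S) {B : Finset α} (hBΔ : B ⊆ supp K) (hB : IsBlk H B) (h2 : 2 ≤ B.card) :
    B = supp K := by
  rcases Nat.lt_or_ge B.card 3 with h | h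
  · exact (hs.block_pair hS hBΔ hB (by omega)).elim
  · exact hs.block_large hS hBΔ hB h

end Cfsg.Agent.Helper8.Tt
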