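import Mathlib
import Cfsg.Agent.Helper8.TtD

set_option autoImplicit false
set_option linter.unusedSectionVars false
set_option linter.unusedSimpArgs false

/-!
helper8: in the situation of `Setup`, as soon as `H` has a tetrad it acts two-transitively on the
support of `K` (Jordan's criterion from Mathlib).
-/

namespace Cfsg.Agent.Helper8.Tt

open Equiv Equiv.Perm MulAction
open scoped Pointwise

variable {α : Type*} [Fintype α] [DecidableEq α]

/-- the action of `H` on the support of `K` -/
def Setup.sub {H K : Subgroup (Perm α)} (hs : Setup H K) : SubMulAction ↥H α where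
  carrier := (supp K : Set α)
  smul_mem' := fun h _ hz => Finset.mem_coe.2 (hs.apply_mem_supp h.2 (Finset.mem_coe.1 hz))

theorem Setup.mem_sub {H K : Subgroup (Perm α)} (hs : Setup H K) (z : α) :
    z ∈ hs.sub ↔ z ∈ supp K := Iff.rfl

theorem Setup.five_le {H K : Subgroup (Perm α)} (hs : Setup H K) {S : Finset α}
    (hS : Tet H S) : 5 ≤ (supp K).card := by
  obtain ⟨x, hxS⟩ : S.Nonempty := by rw [← Finset.card_pos, hS.1]; omega
  have hxΔ := (hs.main hS).1 hxS
  have h5 := five_le_card_orb hs.hq.1 hxΔ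
  have hsub : orb K x ⊆ supp K := by
    intro y hy
    rw [mem_orb] at hy
    obtain ⟨k, hk, rfl⟩ := hy
    exact hs.apply_mem_supp (hs.hKH hk) hxΔ
  exact h5.trans (Finset.card_le_card hsub)

theorem Setup.isPretransitive {H K : Subgroup (Perm α)} (hs : Setup H K) {S : Finset α}
    (hS : Tet H S) : IsPretransitive ↥H ↥hs.sub := by
  obtain ⟨_, htrans⟩ := hs.main hS
  constructor
  rintro ⟨x, hx⟩ ⟨y, hy⟩
  obtain ⟨k, hk, hkx⟩ := htrans x hx y hy
  exact ⟨⟨k, hs.hKH hk⟩, Subtype.ext hkx⟩

theorem Setup.isPreprimitive {H K : Subgroup (Perm α)} (hs : Setup H K) {S : Finset α}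
    (hS : Tet H S) : IsPreprimitive ↥H ↥hs.sub := by
  classical
  haveI := hs.isPretransitive hS
  obtain ⟨x, hxS⟩ : S.Nonempty := by rw [← Finset.card_pos, hS.1]; omega
  have hxΔ := (hs.main hS).1 hxS
  apply IsPreprimitive.of_isTrivialBlock_base (⟨x, hxΔ⟩ : ↥hs.sub)
  intro B _ hBblock
  let B' : Finset α := (Set.toFinite (Subtype.val '' B)).toFinset
  have hB'coe : (B' : Set α) = Subtype.val '' B := Set.Finite.coe_toFinset _
  have hblock' : IsBlock ↥H (Subtype.val '' B) := isBlock_subtypeVal.2 hBblock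
  rw [isBlock_iff_smul_eq_or_disjoint] at hblock'
  have hBlk : IsBlk H B' := by
    intro h hh
    rcases hblock' ⟨h, hh⟩ with e | e
    · left
      apply Finset.coe_injective
      rw [Finset.coe_smul_finset, hB'coe]
      exact e
    · right
      rw [← Finset.disjoint_coe, Finset.coe_smul_finset, hB'coe]
      exact e
  have hmemB' : ∀ z : α, z ∈ B' ↔ ∃ w ∈ B, (w : α) = z := by
    intro z
    rw [← Finset.mem_coe, hB'coe]
    simp only [Set.mem_image]
  have hB'Δ : B' ⊆ supp K := by
    intro z hz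
    rw [hmemB'] at hz
    obtain ⟨w, _, rfl⟩ := hz
    exact w.2
  by_cases h2 : 2 ≤ B'.card
  · right
    have e := hs.block_trivial hS hB'Δ hBlk h2
    ext z
    simp only [Set.mem_univ, iff_true]
    have : (z : α) ∈ B' := by rw [e]; exact z.2
    rw [hmemB'] at this
    obtain ⟨w, hw, hwz⟩ := this
    have : w = z := Subtype.ext hwz
    rw [← this]; exact hw
  · left
    push Not at h2
    intro w hw w' hw'
    have h1 : (w : α) ∈ B' := (hmemB' _).2 ⟨w, hw, rfl⟩
    have h2' : (w' : α) ∈ B' := (hmemB' _).2 ⟨w', hw', rfl⟩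
    apply Subtype.ext
    by_contra hne
    have : ({(w : α), (w' : α)} : Finset α) ⊆ B' := by
      intro u hu
      simp only [Finset.mem_insert, Finset.mem_singleton] at hu
      rcases hu with rfl | rfl
      · exact h1
      · exact h2'
    have := Finset.card_le_card this
    rw [Finset.card_pair hne] at this
    omega

/-- two-transitivity of `H` on the support of `K` -/
theorem Setup.two_trans {H K : Subgroup (Perm α)} (hs : Setup H K) {S : Finset α}
    (hS : Tet H S) :
    ∀ x ∈ supp K, ∀ y ∈ supp K, ∀ x' ∈ supp K, ∀ y' ∈ supp K, x ≠ y → x' ≠ y' →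
      ∃ h ∈ H, h x = x' ∧ h y = y' := by
  classical
  have hprim := hs.isPreprimitive hS
  have hSΔ := (hs.main hS).1
  have h5 := hs.five_le hS
  let s : Set ↥hs.sub := {z | (z : α) ∉ S}
  have hN : Nat.card ↥hs.sub = (supp K).card := by
    have : Nat.card ↥hs.sub = Nat.card ↥(supp K : Set α) := rfl
    rw [this, Nat.card_coe_set_eq, Set.ncard_coe_finset]
  have himg : (Subtype.val '' s : Set α) = ((supp K \ S : Finset α) : Set α) := by
    ext z
    simp only [Set.mem_image, Finset.coe_sdiff, Set.mem_sdiff, Finset.mem_coe]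
    constructor
    · rintro ⟨w, hw, rfl⟩
      exact ⟨w.2, hw⟩
    · rintro ⟨h1, h2⟩
      exact ⟨⟨z, h1⟩, h2, rfl⟩
  have hsn : s.ncard = ((supp K).card - 5) + 1 := by
    rw [← Set.ncard_image_of_injective s Subtype.val_injective, himg, Set.ncard_coe_finset,
      Finset.card_sdiff_of_subset hSΔ, hS.1]
    omega
  have hsn' : ((supp K).card - 5) + 2 < Nat.card ↥hs.sub := by
    rw [hN]; omega
  have hs_trans : IsPretransitive ↥(fixingSubgroup ↥H s) ↥(SubMulAction.ofFixingSubgroup ↥H s) := by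
    constructor
    rintro ⟨x, hx⟩ ⟨y, hy⟩
    rw [SubMulAction.mem_ofFixingSubgroup_iff] at hx hy
    have hxS : (x : α) ∈ S := by
      by_contra h; exact hx h
    have hyS : (y : α) ∈ S := by
      by_contra h; exact hy h
    obtain ⟨v, hvH, hvx, hvfix⟩ := hS.exists_map hxS hyS
    have hvmem : (⟨v, hvH⟩ : ↥H) ∈ fixingSubgroup ↥H s := by
      rw [mem_fixingSubgroup_iff]
      intro z hz
      apply Subtype.ext
      exact hvfix _ hz
    refine ⟨⟨⟨v, hvH⟩, hvmem⟩, ?_⟩
    apply Subtype.ext
    apply Subtype.ext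
    exact hvx
  have h2t := hprim.is_two_pretransitive hsn hsn' hs_trans
  rw [is_two_pretransitive_iff] at h2t
  intro x hx y hy x' hx' y' hy' hxy hxy'
  have h1 : (⟨x, hx⟩ : ↥hs.sub) ≠ ⟨y, hy⟩ := fun e => hxy (congrArg Subtype.val e)
  have h2 : (⟨x', hx'⟩ : ↥hs.sub) ≠ ⟨y', hy'⟩ := fun e => hxy' (congrArg Subtype.val e)
  obtain ⟨g, hg1, hg2⟩ := h2t h1 h2
  exact ⟨g.1, g.2, congrArg Subtype.val hg1, congrArg Subtype.val hg2⟩

end Cfsg.Agent.Helper8.Tt
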