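import Mathlib

set_option autoImplicit false
set_option linter.unusedSectionVars false
set_option linter.unusedSimpArgs false

/-!
helper8: the design count.  A family of four-element subsets of an `N`-set, pairwise meeting in
`0` or `2` points, such that every pair of points lies in exactly `lam ≥ 1` members, has
`(N - 1) * lam + 6 = 9 * lam` and `2 * lam + 2 ≤ N`; hence `N ≤ 8`.
-/

namespace Cfsg.Agent.Helper8.Tt

variable {α : Type*} [DecidableEq α]

theorem design_count {𝒯 : Finset (Finset α)} {Δ : Finset α} {lam : ℕ}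
    (h4 : ∀ S ∈ 𝒯, S.card = 4) (hsub : ∀ S ∈ 𝒯, S ⊆ Δ)
    (hT1 : ∀ S ∈ 𝒯, ∀ S' ∈ 𝒯, S ≠ S' → (S ∩ S').card = 0 ∨ (S ∩ S').card = 2)
    (hlam : ∀ x ∈ Δ, ∀ y ∈ Δ, x ≠ y → (𝒯.filter (fun S => x ∈ S ∧ y ∈ S)).card = lam)
    (hne : 𝒯.Nonempty) :
    (Δ.card - 1) * lam + 6 = 9 * lam ∧ 2 * lam + 2 ≤ Δ.card := by
  obtain ⟨S₀, hS₀⟩ := hne
  obtain ⟨x, hxS₀⟩ : S₀.Nonempty := by rw [← Finset.card_pos, h4 S₀ hS₀]; omega
  have hxΔ : x ∈ Δ := hsub S₀ hS₀ hxS₀
  set 𝒯x := 𝒯.filter (fun S => x ∈ S) with h𝒯x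
  have hS₀x : S₀ ∈ 𝒯x := Finset.mem_filter.2 ⟨hS₀, hxS₀⟩
  set r := 𝒯x.card with hr
  -- (E1)
  have E1 : r * 3 = (Δ.card - 1) * lam := by
    have key := Finset.sum_card_bipartiteAbove_eq_sum_card_bipartiteBelow
      (r := fun (S : Finset α) (y : α) => y ∈ S) (s := 𝒯x) (t := Δ.erase x)
    have hL : ∀ S ∈ 𝒯x, (Finset.bipartiteAbove (fun (S : Finset α) (y : α) => y ∈ S)
        (Δ.erase x) S).card = 3 := by
      intro S hS
      rw [Finset.mem_filter] at hS
      have : Finset.bipartiteAbove (fun (S : Finset α) (y : α) => y ∈ S) (Δ.erase x) S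
          = S.erase x := by
        ext z
        simp only [Finset.bipartiteAbove, Finset.mem_filter, Finset.mem_erase]
        constructor
        · rintro ⟨⟨h1, _⟩, h3⟩; exact ⟨h1, h3⟩
        · rintro ⟨h1, h3⟩; exact ⟨⟨h1, hsub S hS.1 h3⟩, h3⟩
      rw [this, Finset.card_erase_of_mem hS.2, h4 S hS.1]
    have hR : ∀ y ∈ Δ.erase x, (Finset.bipartiteBelow (fun (S : Finset α) (y : α) => y ∈ S)
        𝒯x y).card = lam := by
      intro y hy
      rw [Finset.mem_erase] at hy
      have : Finset.bipartiteBelow (fun (S : Finset α) (y : α) => y ∈ S) 𝒯x y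
          = 𝒯.filter (fun S => x ∈ S ∧ y ∈ S) := by
        simp only [Finset.bipartiteBelow, h𝒯x, Finset.filter_filter]
      rw [this]
      exact hlam x hxΔ y hy.2 (Ne.symm hy.1)
    rw [Finset.sum_congr rfl hL, Finset.sum_congr rfl hR, Finset.sum_const_nat (fun _ _ => rfl),
      Finset.sum_const_nat (fun _ _ => rfl), Finset.card_erase_of_mem hxΔ] at key
    exact key
  -- (E2)
  have E2 : r + 2 = 3 * lam := by
    have key := Finset.sum_card_bipartiteAbove_eq_sum_card_bipartiteBelow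
      (r := fun (S : Finset α) (y : α) => y ∈ S) (s := 𝒯x) (t := S₀.erase x)
    have hR : ∀ y ∈ S₀.erase x, (Finset.bipartiteBelow (fun (S : Finset α) (y : α) => y ∈ S)
        𝒯x y).card = lam := by
      intro y hy
      rw [Finset.mem_erase] at hy
      have : Finset.bipartiteBelow (fun (S : Finset α) (y : α) => y ∈ S) 𝒯x y
          = 𝒯.filter (fun S => x ∈ S ∧ y ∈ S) := by
        simp only [Finset.bipartiteBelow, h𝒯x, Finset.filter_filter]
      rw [this]
      exact hlam x hxΔ y (hsub S₀ hS₀ hy.2) (Ne.symm hy.1)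
    have hL0 : (Finset.bipartiteAbove (fun (S : Finset α) (y : α) => y ∈ S)
        (S₀.erase x) S₀).card = 3 := by
      have : Finset.bipartiteAbove (fun (S : Finset α) (y : α) => y ∈ S) (S₀.erase x) S₀
          = S₀.erase x := by
        ext z
        simp only [Finset.bipartiteAbove, Finset.mem_filter, Finset.mem_erase]
        tauto
      rw [this, Finset.card_erase_of_mem hxS₀, h4 S₀ hS₀]
    have hL1 : ∀ S ∈ 𝒯x.erase S₀, (Finset.bipartiteAbove (fun (S : Finset α) (y : α) => y ∈ S)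
        (S₀.erase x) S).card = 1 := by
      intro S hS
      rw [Finset.mem_erase, Finset.mem_filter] at hS
      have : Finset.bipartiteAbove (fun (S : Finset α) (y : α) => y ∈ S) (S₀.erase x) S
          = (S ∩ S₀).erase x := by
        ext z
        simp only [Finset.bipartiteAbove, Finset.mem_filter, Finset.mem_erase, Finset.mem_inter]
        tauto
      have hx' : x ∈ S ∩ S₀ := Finset.mem_inter.2 ⟨hS.2.2, hxS₀⟩
      rw [this, Finset.card_erase_of_mem hx']
      rcases hT1 S hS.2.1 S₀ hS₀ hS.1 with h | h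
      · rw [Finset.card_eq_zero] at h
        rw [h] at hx'
        simp at hx'
      · rw [h]
    rw [← Finset.add_sum_erase 𝒯x _ hS₀x, hL0, Finset.sum_congr rfl hL1,
      Finset.sum_congr rfl hR, Finset.sum_const_nat (fun _ _ => rfl),
      Finset.sum_const_nat (fun _ _ => rfl), Finset.card_erase_of_mem hS₀x,
      Finset.card_erase_of_mem hxS₀, h4 S₀ hS₀] at key
    have hrpos : 0 < r := Finset.card_pos.2 ⟨S₀, hS₀x⟩
    omega
  -- (E3)
  have E3 : 2 * lam + 2 ≤ Δ.card := by
    obtain ⟨y, hy⟩ : (S₀.erase x).Nonempty := by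
      rw [← Finset.card_pos, Finset.card_erase_of_mem hxS₀, h4 S₀ hS₀]; omega
    rw [Finset.mem_erase] at hy
    have hyΔ : y ∈ Δ := hsub S₀ hS₀ hy.2
    set 𝒯xy := 𝒯.filter (fun S => x ∈ S ∧ y ∈ S) with h𝒯xy
    have hcard : 𝒯xy.card = lam := hlam x hxΔ y hyΔ (Ne.symm hy.1)
    set D := (Δ.erase x).erase y with hD
    have hDcard : D.card + 2 = Δ.card := by
      have h1 : y ∈ Δ.erase x := Finset.mem_erase.2 ⟨hy.1, hyΔ⟩
      have h2 : 0 < Δ.card := Finset.card_pos.2 ⟨x, hxΔ⟩
      have h3 : 0 < (Δ.erase x).card := Finset.card_pos.2 ⟨y, h1⟩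
      rw [hD, Finset.card_erase_of_mem h1, Finset.card_erase_of_mem hxΔ] at *
      omega
    have key := Finset.sum_card_bipartiteAbove_eq_sum_card_bipartiteBelow
      (r := fun (S : Finset α) (z : α) => z ∈ S) (s := 𝒯xy) (t := D)
    have hL : ∀ S ∈ 𝒯xy, (Finset.bipartiteAbove (fun (S : Finset α) (z : α) => z ∈ S)
        D S).card = 2 := by
      intro S hS
      rw [Finset.mem_filter] at hS
      have : Finset.bipartiteAbove (fun (S : Finset α) (z : α) => z ∈ S) D S
          = (S.erase x).erase y := by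
        ext z
        simp only [Finset.bipartiteAbove, Finset.mem_filter, Finset.mem_erase, hD]
        constructor
        · rintro ⟨⟨h1, h2, _⟩, h3⟩; exact ⟨h1, h2, h3⟩
        · rintro ⟨h1, h2, h3⟩; exact ⟨⟨h1, h2, hsub S hS.1 h3⟩, h3⟩
      have h1 : y ∈ S.erase x := Finset.mem_erase.2 ⟨hy.1, hS.2.2⟩
      rw [this, Finset.card_erase_of_mem h1, Finset.card_erase_of_mem hS.2.1, h4 S hS.1]
    have hR : ∀ z ∈ D, (Finset.bipartiteBelow (fun (S : Finset α) (z : α) => z ∈ S)
        𝒯xy z).card ≤ 1 := by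
      intro z hz
      rw [hD, Finset.mem_erase, Finset.mem_erase] at hz
      rw [Finset.card_le_one]
      intro S hS S' hS'
      simp only [Finset.bipartiteBelow, Finset.mem_filter, h𝒯xy] at hS hS'
      by_contra hne
      have h3 : ({x, y, z} : Finset α) ⊆ S ∩ S' := by
        intro w hw
        simp only [Finset.mem_insert, Finset.mem_singleton] at hw
        rw [Finset.mem_inter]
        rcases hw with rfl | rfl | rfl
        · exact ⟨hS.1.2.1, hS'.1.2.1⟩
        · exact ⟨hS.1.2.2, hS'.1.2.2⟩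
        · exact ⟨hS.2, hS'.2⟩
      have h4' := Finset.card_le_card h3
      have h5 : ({x, y, z} : Finset α).card = 3 := by
        rw [Finset.card_eq_three]
        exact ⟨x, y, z, Ne.symm hy.1, Ne.symm hz.2.1, Ne.symm hz.1, rfl⟩
      rcases hT1 S hS.1.1 S' hS'.1.1 hne with h | h <;> omega
    have hsum : ∑ z ∈ D, (Finset.bipartiteBelow (fun (S : Finset α) (z : α) => z ∈ S)
        𝒯xy z).card ≤ D.card := by
      calc _ ≤ ∑ _z ∈ D, 1 := Finset.sum_le_sum hR
        _ = D.card := by simp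
    rw [← key, Finset.sum_congr rfl hL, Finset.sum_const_nat (fun _ _ => rfl), hcard] at hsum
    omega
  refine ⟨?_, E3⟩
  rw [← E1]
  omega

end Cfsg.Agent.Helper8.Tt
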