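import Mathlib
import Cfsg.Agent.Helper8.TtE
import Cfsg.Agent.Helper8.TtF

set_option autoImplicit false
set_option linter.unusedSectionVars false
set_option linter.unusedSimpArgs false

/-!
helper8: in the situation of `Setup`, if `H` has tetrads but no three-cycles then the support of
`K` has at most eight points, and if it has exactly eight then every pair of points lies in
exactly three tetrads.
-/

namespace Cfsg.Agent.Helper8.Tt

open Equiv Equiv.Perm
open scoped Pointwise

variable {α : Type*} [Fintype α] [DecidableEq α]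

/-- without three-cycles two distinct tetrads meet in no or two points -/
theorem inter_card_of_no_three {H : Subgroup (Perm α)} (h3 : ∀ c ∈ H, ¬ c.IsThreeCycle)
    {S S' : Finset α} (hS : Tet H S) (hS' : Tet H S') (hne : S ≠ S') :
    (S ∩ S').card = 0 ∨ (S ∩ S').card = 2 := by
  have h1 : (S ∩ S').card ≤ 4 := by
    rw [← hS.1]; exact Finset.card_le_card Finset.inter_subset_left
  have h2 : (S ∩ S').card ≠ 4 := by
    intro h
    have e1 : S ∩ S' = S :=
      Finset.eq_of_subset_of_card_le Finset.inter_subset_left (by rw [h, hS.1])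
    have e2 : S ⊆ S' := by rw [← e1]; exact Finset.inter_subset_right
    exact hne (Finset.eq_of_subset_of_card_le e2 (by rw [hS.1, hS'.1]))
  have h4 : (S ∩ S').card ≠ 1 := by
    intro h
    obtain ⟨c, hc, hc3⟩ := three_of_inter_one hS hS' h
    exact h3 c hc hc3
  have h5 : (S ∩ S').card ≠ 3 := by
    intro h
    obtain ⟨c, hc, hc3⟩ := three_of_inter_three hS hS' h
    exact h3 c hc hc3
  omega

open Classical in
/-- the set of all tetrads -/
noncomputable def tets (H : Subgroup (Perm α)) : Finset (Finset α) :=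
  Finset.univ.filter (fun S => Tet H S)

theorem mem_tets (H : Subgroup (Perm α)) (S : Finset α) : S ∈ tets H ↔ Tet H S := by
  unfold tets
  simp

theorem card_filter_smul (H : Subgroup (Perm α)) {h : Perm α} (hh : h ∈ H) (x y : α) :
    ((tets H).filter (fun S => h x ∈ S ∧ h y ∈ S)).card =
      ((tets H).filter (fun S => x ∈ S ∧ y ∈ S)).card := by
  refine Finset.card_bij' (fun S _ => h⁻¹ • S) (fun S _ => h • S) ?_ ?_ ?_ ?_
  · intro S hS
    rw [Finset.mem_filter, mem_tets] at hS ⊢
    refine ⟨hS.1.smul (H.inv_mem hh), ?_, ?_⟩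
    · rw [← Finset.smul_mem_smul_finset_iff h, smul_inv_smul, Perm.smul_def]; exact hS.2.1
    · rw [← Finset.smul_mem_smul_finset_iff h, smul_inv_smul, Perm.smul_def]; exact hS.2.2
  · intro S hS
    rw [Finset.mem_filter, mem_tets] at hS ⊢
    refine ⟨hS.1.smul hh, ?_, ?_⟩
    · rw [← Perm.smul_def, Finset.smul_mem_smul_finset_iff]; exact hS.2.1
    · rw [← Perm.smul_def, Finset.smul_mem_smul_finset_iff]; exact hS.2.2
  · intro S _; exact smul_inv_smul h S
  · intro S _; exact inv_smul_smul h S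

/-- the design parameters when there are no three-cycles -/
theorem Setup.design {H K : Subgroup (Perm α)} (hs : Setup H K)
    (h3 : ∀ c ∈ H, ¬ c.IsThreeCycle) {S : Finset α} (hS : Tet H S) :
    ∃ lam : ℕ, (∀ x ∈ supp K, ∀ y ∈ supp K, x ≠ y →
        ((tets H).filter (fun S => x ∈ S ∧ y ∈ S)).card = lam) ∧
      ((supp K).card - 1) * lam + 6 = 9 * lam ∧ 2 * lam + 2 ≤ (supp K).card := by
  have hSΔ := (hs.main hS).1
  obtain ⟨x₀, y₀, c₀, d₀, hxy₀, -, -, -, -, -, hSe⟩ :
      ∃ x y c d : α, x ≠ y ∧ c ≠ d ∧ x ≠ c ∧ x ≠ d ∧ y ≠ c ∧ y ≠ d ∧ S = {x, y, c, d} := by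
    obtain ⟨x, hx⟩ : S.Nonempty := by rw [← Finset.card_pos, hS.1]; omega
    obtain ⟨y, c, d, h⟩ := exists_eq_of_mem_one hS.1 hx
    exact ⟨x, y, c, d, h⟩
  have hx₀ : x₀ ∈ supp K := hSΔ (by rw [hSe]; simp)
  have hy₀ : y₀ ∈ supp K := hSΔ (by rw [hSe]; simp)
  set lam := ((tets H).filter (fun S => x₀ ∈ S ∧ y₀ ∈ S)).card with hlam
  have hconst : ∀ x ∈ supp K, ∀ y ∈ supp K, x ≠ y →
      ((tets H).filter (fun S => x ∈ S ∧ y ∈ S)).card = lam := by
    intro x hx y hy hxy
    obtain ⟨h, hh, rfl, rfl⟩ := hs.two_trans hS x₀ hx₀ y₀ hy₀ x hx y hy hxy₀ hxy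
    exact card_filter_smul H hh x₀ y₀
  refine ⟨lam, hconst, ?_⟩
  apply design_count (𝒯 := tets H) (Δ := supp K)
  · intro T hT; rw [mem_tets] at hT; exact hT.1
  · intro T hT; rw [mem_tets] at hT; exact (hs.main hT).1
  · intro T hT T' hT' hne
    rw [mem_tets] at hT hT'
    exact inter_card_of_no_three h3 hT hT' hne
  · exact hconst
  · exact ⟨S, (mem_tets H S).2 hS⟩

/-- the support has exactly eight points and every pair lies in exactly three tetrads -/
theorem Setup.eight {H K : Subgroup (Perm α)} (hs : Setup H K)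
    (h3 : ∀ c ∈ H, ¬ c.IsThreeCycle) {B₁ B₂ : Finset α} (hB₁ : Tet H B₁) (hB₂ : Tet H B₂)
    (hdisj : Disjoint B₁ B₂) :
    supp K = B₁ ∪ B₂ ∧ ∀ x ∈ supp K, ∀ y ∈ supp K, x ≠ y →
        ((tets H).filter (fun S => x ∈ S ∧ y ∈ S)).card = 3 := by
  obtain ⟨lam, hconst, h1, h2⟩ := hs.design h3 hB₁
  have hsub : B₁ ∪ B₂ ⊆ supp K := Finset.union_subset (hs.main hB₁).1 (hs.main hB₂).1
  have h8 : 8 ≤ (supp K).card := by
    have := Finset.card_le_card hsub
    rw [Finset.card_union_of_disjoint hdisj, hB₁.1, hB₂.1] at this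
    exact this
  have hN : (supp K).card = 8 ∧ lam = 3 := by
    rcases Nat.lt_or_ge (supp K).card 10 with h | h
    · have : (supp K).card = 8 ∨ (supp K).card = 9 := by omega
      rcases this with e | e
      · rw [e] at h1; constructor <;> omega
      · rw [e] at h1 h2; omega
    · have : 9 * lam ≤ ((supp K).card - 1) * lam := Nat.mul_le_mul_right lam (by omega)
      omega
  refine ⟨?_, ?_⟩
  · symm
    apply Finset.eq_of_subset_of_card_le hsub
    rw [Finset.card_union_of_disjoint hdisj, hB₁.1, hB₂.1, hN.1]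
  · rw [← hN.2]; exact hconst

end Cfsg.Agent.Helper8.Tt
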