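import Mathlib
import Cfsg.Agent.Helper8.TtG

set_option autoImplicit false
set_option linter.unusedSectionVars false
set_option linter.unusedSimpArgs false

/-!
helper8: the case of eight points.  Generic lemmas: the parity argument for a set of eight points
split into four pairs, and the impossibility of a fixed-point-free involution centralizing `K`
whose orbits are four pairs covering the support of `K`.
-/

namespace Cfsg.Agent.Helper8.Tt

open Equiv Equiv.Perm
open scoped Pointwise

variable {α : Type*} [Fintype α] [DecidableEq α]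

theorem card_inter_union {T A B : Finset α} (h : Disjoint A B) :
    (T ∩ (A ∪ B)).card = (T ∩ A).card + (T ∩ B).card := by
  rw [Finset.inter_union_distrib_left, Finset.card_union_of_disjoint]
  exact Finset.disjoint_of_subset_left Finset.inter_subset_right
    (Finset.disjoint_of_subset_right Finset.inter_subset_right h)

theorem mem_four_union {P : Fin 4 → Finset α} {z : α} (hz : z ∈ P 0 ∪ P 1 ∪ P 2 ∪ P 3) :
    ∃ i, z ∈ P i := by
  simp only [Finset.mem_union] at hz
  rcases hz with ((h | h) | h) | h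
  · exact ⟨0, h⟩
  · exact ⟨1, h⟩
  · exact ⟨2, h⟩
  · exact ⟨3, h⟩

theorem subset_four_union (P : Fin 4 → Finset α) (i : Fin 4) : P i ⊆ P 0 ∪ P 1 ∪ P 2 ∪ P 3 := by
  intro z hz
  simp only [Finset.mem_union]
  fin_cases i
  · exact Or.inl (Or.inl (Or.inl hz))
  · exact Or.inl (Or.inl (Or.inr hz))
  · exact Or.inl (Or.inr hz)
  · exact Or.inr hz

theorem pair_parity (P : Fin 4 → Finset α) (hdisj : ∀ i j, i ≠ j → Disjoint (P i) (P j))
    (e : Perm α) (he : ∀ i, ∀ z ∈ P i, e z ∈ P i ∧ e z ≠ z) (hcard : ∀ i, (P i).card = 2)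
    (T : Finset α) (hT : T ⊆ P 0 ∪ P 1 ∪ P 2 ∪ P 3) (hT4 : T.card = 4)
    (h1 : Even (T ∩ (P 0 ∪ P 1)).card) (h2 : Even (T ∩ (P 0 ∪ P 2)).card)
    (h3 : Even (T ∩ (P 0 ∪ P 3)).card) :
    e • T = T ∨ e • T = (P 0 ∪ P 1 ∪ P 2 ∪ P 3) \ T := by
  have ht2 : ∀ i, (T ∩ P i).card ≤ 2 := fun i =>
    (Finset.card_le_card Finset.inter_subset_right).trans (hcard i).le
  have d01 : Disjoint (P 0) (P 1) := hdisj 0 1 (by decide)
  have d02 : Disjoint (P 0) (P 2) := hdisj 0 2 (by decide)
  have d03 : Disjoint (P 0) (P 3) := hdisj 0 3 (by decide)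
  have d12 : Disjoint (P 1) (P 2) := hdisj 1 2 (by decide)
  have d13 : Disjoint (P 1) (P 3) := hdisj 1 3 (by decide)
  have d23 : Disjoint (P 2) (P 3) := hdisj 2 3 (by decide)
  have dA : Disjoint (P 0 ∪ P 1) (P 2) := Finset.disjoint_union_left.2 ⟨d02, d12⟩
  have dB : Disjoint (P 0 ∪ P 1 ∪ P 2) (P 3) :=
    Finset.disjoint_union_left.2 ⟨Finset.disjoint_union_left.2 ⟨d03, d13⟩, d23⟩
  rw [card_inter_union d01] at h1
  rw [card_inter_union d02] at h2
  rw [card_inter_union d03] at h3
  have hsum : (T ∩ P 0).card + (T ∩ P 1).card + (T ∩ P 2).card + (T ∩ P 3).card = 4 := by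
    have : T ∩ (P 0 ∪ P 1 ∪ P 2 ∪ P 3) = T := Finset.inter_eq_left.2 hT
    have h := congrArg Finset.card this
    rw [card_inter_union dB, card_inter_union dA, card_inter_union d01, hT4] at h
    exact h
  have hU : (P 0 ∪ P 1 ∪ P 2 ∪ P 3).card = 8 := by
    rw [Finset.card_union_of_disjoint dB, Finset.card_union_of_disjoint dA,
      Finset.card_union_of_disjoint d01, hcard, hcard, hcard, hcard]
  obtain ⟨k1, hk1⟩ := h1
  obtain ⟨k2, hk2⟩ := h2
  obtain ⟨k3, hk3⟩ := h3
  have h0 := ht2 0
  have h1' := ht2 1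
  have h2' := ht2 2
  have h3' := ht2 3
  have hcases : (∀ i, (T ∩ P i).card = 1) ∨ (∀ i, (T ∩ P i).card = 0 ∨ (T ∩ P i).card = 2) := by
    have : ((T ∩ P 0).card = 1 ∧ (T ∩ P 1).card = 1 ∧ (T ∩ P 2).card = 1 ∧ (T ∩ P 3).card = 1) ∨
        (((T ∩ P 0).card = 0 ∨ (T ∩ P 0).card = 2) ∧ ((T ∩ P 1).card = 0 ∨ (T ∩ P 1).card = 2) ∧
          ((T ∩ P 2).card = 0 ∨ (T ∩ P 2).card = 2) ∧
          ((T ∩ P 3).card = 0 ∨ (T ∩ P 3).card = 2)) := by omega
    rcases this with h | h
    · left; intro i; fin_cases i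
      · exact h.1
      · exact h.2.1
      · exact h.2.2.1
      · exact h.2.2.2
    · right; intro i; fin_cases i
      · exact h.1
      · exact h.2.1
      · exact h.2.2.1
      · exact h.2.2.2
  rcases hcases with hodd | heven
  · right
    apply Finset.eq_of_subset_of_card_le
    · intro y hy
      rw [Finset.mem_smul_finset] at hy
      obtain ⟨z, hz, rfl⟩ := hy
      rw [Perm.smul_def]
      obtain ⟨i, hi⟩ := mem_four_union (hT hz)
      obtain ⟨hez, hne⟩ := he i z hi
      rw [Finset.mem_sdiff]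
      refine ⟨subset_four_union P i hez, ?_⟩
      intro hezT
      have : ({z, e z} : Finset α) ⊆ T ∩ P i := by
        intro w hw
        simp only [Finset.mem_insert, Finset.mem_singleton] at hw
        rcases hw with rfl | rfl
        · exact Finset.mem_inter.2 ⟨hz, hi⟩
        · exact Finset.mem_inter.2 ⟨hezT, hez⟩
      have := Finset.card_le_card this
      rw [Finset.card_pair hne.symm, hodd i] at this
      omega
    · rw [Finset.card_sdiff_of_subset hT, hU, hT4, Finset.card_smul_finset, hT4]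
  · left
    apply Finset.eq_of_subset_of_card_le
    · intro y hy
      rw [Finset.mem_smul_finset] at hy
      obtain ⟨z, hz, rfl⟩ := hy
      rw [Perm.smul_def]
      obtain ⟨i, hi⟩ := mem_four_union (hT hz)
      obtain ⟨hez, _⟩ := he i z hi
      have hpos : 0 < (T ∩ P i).card := Finset.card_pos.2 ⟨z, Finset.mem_inter.2 ⟨hz, hi⟩⟩
      have h2c : (T ∩ P i).card = 2 := by
        rcases heven i with h | h
        · omega
        · exact h
      have : T ∩ P i = P i :=
        Finset.eq_of_subset_of_card_le Finset.inter_subset_right (by rw [h2c, hcard i])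
      rw [← this] at hez
      exact (Finset.mem_inter.1 hez).1
    · rw [Finset.card_smul_finset]

/-- a two-element set invariant under a fixed-point-free map is an orbit -/
theorem pair_eq {P : Finset α} (hP : P.card = 2) {e : Perm α}
    (he : ∀ z ∈ P, e z ∈ P ∧ e z ≠ z) {w : α} (hw : w ∈ P) : P = {w, e w} := by
  symm
  apply Finset.eq_of_subset_of_card_le
  · intro u hu
    simp only [Finset.mem_insert, Finset.mem_singleton] at hu
    rcases hu with rfl | rfl
    · exact hw
    · exact (he w hw).1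
  · rw [hP, Finset.card_pair (he w hw).2.symm]

/-- no involution centralizing `K` can have four pairs covering the support of `K` as orbits -/
theorem Setup.no_pairing {H K : Subgroup (Perm α)} (hs : Setup H K) {S : Finset α}
    (hS : Tet H S) (P : Fin 4 → Finset α) (hcard : ∀ i, (P i).card = 2)
    (hcover : supp K = P 0 ∪ P 1 ∪ P 2 ∪ P 3) (e : Perm α)
    (he : ∀ i, ∀ z ∈ P i, e z ∈ P i ∧ e z ≠ z) (hcen : ∀ k ∈ K, k * e = e * k) : False := by
  classical
  -- `K` permutes the pairs
  have hperm : ∀ k ∈ K, ∀ i, ∃ j, k • P i = P j := by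
    intro k hk i
    obtain ⟨z, hz⟩ : (P i).Nonempty := by rw [← Finset.card_pos, hcard i]; omega
    have hzΔ : z ∈ supp K := by rw [hcover]; exact subset_four_union P i hz
    have hkz : k z ∈ supp K := hs.apply_mem_supp (hs.hKH hk) hzΔ
    rw [hcover] at hkz
    obtain ⟨j, hj⟩ := mem_four_union hkz
    refine ⟨j, ?_⟩
    rw [pair_eq (hcard i) (he i) hz, pair_eq (hcard j) (he j) hj, Finset.smul_finset_insert,
      Finset.smul_finset_singleton, Perm.smul_def, Perm.smul_def]
    have : k (e z) = e (k z) := by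
      have := congrArg (fun f => f z) (hcen k hk)
      simpa [Perm.mul_apply] using this
    rw [this]
  let Q : Finset (Finset α) := Finset.univ.image P
  let Qsub : SubMulAction ↥K (Finset α) :=
    { carrier := (Q : Set (Finset α))
      smul_mem' := by
        intro k W hW
        rw [Finset.mem_coe, Finset.mem_image] at hW ⊢
        obtain ⟨i, _, rfl⟩ := hW
        obtain ⟨j, hj⟩ := hperm k.1 k.2 i
        exact ⟨j, Finset.mem_univ _, hj.symm⟩ }
  have hQcard : Nat.card ↥Qsub ≤ 4 := by
    have : Nat.card ↥Qsub = Nat.card ↥(Q : Set (Finset α)) := rfl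
    rw [this, Nat.card_coe_set_eq, Set.ncard_coe_finset]
    have := Finset.card_image_le (s := (Finset.univ : Finset (Fin 4))) (f := P)
    simpa using this
  have hfix : ∀ k ∈ K, ∀ i, k • P i = P i := by
    intro k hk i
    have hmem : P i ∈ Qsub := by
      change P i ∈ (Q : Set (Finset α))
      rw [Finset.mem_coe, Finset.mem_image]
      exact ⟨i, Finset.mem_univ _, rfl⟩
    have := perfect_act_trivial hs.hq.1 hQcard ⟨k, hk⟩ ⟨P i, hmem⟩
    exact congrArg Subtype.val this
  have hsq : ∀ k ∈ K, k * k = 1 := by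
    intro k hk
    ext z
    rw [Perm.mul_apply, Perm.one_apply]
    by_cases hz : z ∈ supp K
    · rw [hcover] at hz
      obtain ⟨i, hi⟩ := mem_four_union hz
      exact sq_fix_of_pair (hcard i) (hfix k hk i) hi
    · rw [apply_of_notMem_supp hk hz, apply_of_notMem_supp hk hz]
  have hcomm : IsMulCommutative ↥K := by
    refine ⟨⟨fun a b => ?_⟩⟩
    have ha : a * a = 1 := Subtype.ext (hsq a.1 a.2)
    have hb : b * b = 1 := Subtype.ext (hsq b.1 b.2)
    have hab : (a * b) * (a * b) = 1 := Subtype.ext (hsq _ (a * b).2)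
    calc a * b = (b * b) * (a * b) * (a * a) := by rw [ha, hb, one_mul, mul_one]
      _ = b * ((b * a) * (b * a)) * a := by group
      _ = b * a := by
        have hba : (b * a) * (b * a) = 1 := Subtype.ext (hsq _ (b * a).2)
        rw [hba, mul_one]
  have hperf : Group.IsPerfect ↥K := hs.hq.1
  have hsub : Subsingleton ↥K := inferInstance
  obtain ⟨x, hxS⟩ : S.Nonempty := by rw [← Finset.card_pos, hS.1]; omega
  have hxΔ := (hs.main hS).1 hxS
  rw [mem_supp] at hxΔ
  obtain ⟨k, hk, hkx⟩ := hxΔ
  have : (⟨k, hk⟩ : ↥K) = 1 := Subsingleton.elim _ _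
  have : k = 1 := congrArg Subtype.val this
  rw [this] at hkx
  exact hkx rfl

end Cfsg.Agent.Helper8.Tt
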