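import Mathlib
import Cfsg.Agent.Helper8.TtH

set_option autoImplicit false
set_option linter.unusedSectionVars false
set_option linter.unusedSimpArgs false

/-!
helper8: the case of eight points is impossible: the translations of the affine space of
dimension three over the field with two elements would form a normal 2-subgroup of `H`.
-/

namespace Cfsg.Agent.Helper8.Tt

open Equiv Equiv.Perm
open scoped Pointwise

variable {α : Type*} [Fintype α] [DecidableEq α]

theorem card_four {a b c d : α} (hab : a ≠ b) (hac : a ≠ c) (had : a ≠ d) (hbc : b ≠ c)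
    (hbd : b ≠ d) (hcd : c ≠ d) : ({a, b, c, d} : Finset α).card = 4 := by
  rw [Finset.card_insert_of_notMem, Finset.card_insert_of_notMem, Finset.card_insert_of_notMem,
    Finset.card_singleton]
  · simpa using hcd
  · simp only [Finset.mem_insert, Finset.mem_singleton, not_or]; exact ⟨hbc, hbd⟩
  · simp only [Finset.mem_insert, Finset.mem_singleton, not_or]; exact ⟨hab, hac, had⟩

theorem dt_apply_four {a b c d : α} (h4 : ({a, b, c, d} : Finset α).card = 4) :
    (swap a b * swap c d) a = b ∧ (swap a b * swap c d) b = a ∧ (swap a b * swap c d) c = d ∧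
      (swap a b * swap c d) d = c := by
  obtain ⟨n1, n2, n3, n4, n5, n6⟩ := ne_of_card_four h4
  refine ⟨dt_apply_left n2 n3, ?_, ?_, ?_⟩
  · rw [Perm.mul_apply, swap_apply_of_ne_of_ne n4 n5, swap_apply_right]
  · rw [Perm.mul_apply, swap_apply_left, swap_apply_of_ne_of_ne n3.symm n5.symm]
  · rw [Perm.mul_apply, swap_apply_right, swap_apply_of_ne_of_ne n2.symm n4.symm]

theorem pair_union_pair (x y a b : α) : ({x, y} : Finset α) ∪ {a, b} = {x, y, a, b} := by
  simp only [Finset.insert_union, Finset.singleton_union]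

theorem four_pairs_union (x y a b c d c' d' : α) :
    ({x, y, a, b} : Finset α) ∪ {c, d, c', d'} = {x, y} ∪ {a, b} ∪ {c, d} ∪ {c', d'} := by
  simp only [Finset.insert_union, Finset.singleton_union]

theorem even_inter {H : Subgroup (Perm α)} (h3 : ∀ c ∈ H, ¬ c.IsThreeCycle) {T S : Finset α}
    (hT : Tet H T) (hS : Tet H S) : Even (T ∩ S).card := by
  by_cases h : T = S
  · subst h
    rw [Finset.inter_self, hT.1]
    decide
  · rcases inter_card_of_no_three h3 hT hS h with e | e <;> rw [e] <;> decide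

theorem Setup.smul_sdiff {H K : Subgroup (Perm α)} (hs : Setup H K) {u : Perm α} (hu : u ∈ H)
    (T : Finset α) : u • (supp K \ T) = supp K \ u • T := by
  rw [Finset.smul_finset_sdiff, hs.smul_supp hu]

set_option maxHeartbeats 1600000 in
theorem Setup.eight_false {H K : Subgroup (Perm α)} (hs : Setup H K)
    (h3 : ∀ c ∈ H, ¬ c.IsThreeCycle) {B₁ B₂ : Finset α} (hB₁ : Tet H B₁) (hB₂ : Tet H B₂)
    (hdisj : Disjoint B₁ B₂) : False := by
  classical
  obtain ⟨hΔ, hlam⟩ := hs.eight h3 hB₁ hB₂ hdisj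
  have hsubΔ : ∀ T, Tet H T → T ⊆ supp K := fun T hT => (hs.main hT).1
  obtain ⟨x, hxB⟩ : B₁.Nonempty := by rw [← Finset.card_pos, hB₁.1]; omega
  obtain ⟨y, a, b, hxy, hab, hxa, hxb, hya, hyb, hB₁e⟩ := exists_eq_of_mem_one hB₁.1 hxB
  have hyB : y ∈ B₁ := by rw [hB₁e]; simp
  have haB : a ∈ B₁ := by rw [hB₁e]; simp
  have hbB : b ∈ B₁ := by rw [hB₁e]; simp
  have hxΔ : x ∈ supp K := hsubΔ B₁ hB₁ hxB
  have hyΔ : y ∈ supp K := hsubΔ B₁ hB₁ hyB
  -- the tetrads through `x` and `y`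
  set 𝒯xy := (tets H).filter (fun S => x ∈ S ∧ y ∈ S) with h𝒯xy
  have h3c : 𝒯xy.card = 3 := hlam x hxΔ y hyΔ hxy
  have hB₁mem : B₁ ∈ 𝒯xy := Finset.mem_filter.2 ⟨(mem_tets H B₁).2 hB₁, hxB, hyB⟩
  have h2c : (𝒯xy.erase B₁).card = 2 := by rw [Finset.card_erase_of_mem hB₁mem, h3c]
  obtain ⟨S₁, S₂, hS₁₂, hpair⟩ := Finset.card_eq_two.1 h2c
  have hS₁m : S₁ ∈ 𝒯xy.erase B₁ := by rw [hpair]; simp
  have hS₂m : S₂ ∈ 𝒯xy.erase B₁ := by rw [hpair]; simp
  rw [Finset.mem_erase, Finset.mem_filter, mem_tets] at hS₁m hS₂m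
  obtain ⟨hS₁ne, hS₁, hxS₁, hyS₁⟩ := hS₁m
  obtain ⟨hS₂ne, hS₂, hxS₂, hyS₂⟩ := hS₂m
  -- shape of such tetrads
  have claim : ∀ S, Tet H S → x ∈ S → y ∈ S → S ≠ B₁ →
      ∃ c d, c ≠ d ∧ c ∈ B₂ ∧ d ∈ B₂ ∧ S = {x, y, c, d} := by
    intro S hS hxS hyS hne
    obtain ⟨c, d, hcd, hxc, hxd, hyc, hyd, hSe⟩ := exists_eq_of_mem hS.1 hxS hyS hxy
    have hcS : c ∈ S := by rw [hSe]; simp
    have hdS : d ∈ S := by rw [hSe]; simp
    have hT1 := inter_card_of_no_three h3 hS hB₁ hne
    have key : ∀ w, w ∈ S → x ≠ w → y ≠ w → w ∈ B₂ := by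
      intro w hwS hxw hyw
      have hwΔ := hsubΔ S hS hwS
      rw [hΔ, Finset.mem_union] at hwΔ
      rcases hwΔ with hw | hw
      · exfalso
        have hsub3 : ({x, y, w} : Finset α) ⊆ S ∩ B₁ := by
          intro u hu
          simp only [Finset.mem_insert, Finset.mem_singleton] at hu
          rw [Finset.mem_inter]
          rcases hu with rfl | rfl | rfl
          · exact ⟨hxS, hxB⟩
          · exact ⟨hyS, hyB⟩
          · exact ⟨hwS, hw⟩
        have h1 := Finset.card_le_card hsub3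
        have h2 : ({x, y, w} : Finset α).card = 3 := by
          rw [Finset.card_eq_three]; exact ⟨x, y, w, hxy, hxw, hyw, rfl⟩
        rcases hT1 with h | h <;> omega
      · exact hw
    exact ⟨c, d, hcd, key c hcS hxc hyc, key d hdS hxd hyd, hSe⟩
  obtain ⟨c, d, hcd, hcB, hdB, hS₁e⟩ := claim S₁ hS₁ hxS₁ hyS₁ hS₁ne
  obtain ⟨c', d', hcd', hc'B, hd'B, hS₂e⟩ := claim S₂ hS₂ hxS₂ hyS₂ hS₂ne
  -- elements of `B₁` differ from elements of `B₂`
  have hne12 : ∀ u ∈ B₁, ∀ v ∈ B₂, u ≠ v := by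
    intro u hu v hv e
    exact Finset.disjoint_left.1 hdisj hu (e ▸ hv)
  have hxc := hne12 x hxB c hcB
  have hxd := hne12 x hxB d hdB
  have hyc := hne12 y hyB c hcB
  have hyd := hne12 y hyB d hdB
  have hxc' := hne12 x hxB c' hc'B
  have hxd' := hne12 x hxB d' hd'B
  have hyc' := hne12 y hyB c' hc'B
  have hyd' := hne12 y hyB d' hd'B
  have hac := hne12 a haB c hcB
  have had := hne12 a haB d hdB
  have hbc := hne12 b hbB c hcB
  have hbd := hne12 b hbB d hdB
  have hac' := hne12 a haB c' hc'B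
  have had' := hne12 a haB d' hd'B
  have hbc' := hne12 b hbB c' hc'B
  have hbd' := hne12 b hbB d' hd'B
  -- the two pairs in `B₂` are disjoint
  have hT12 := inter_card_of_no_three h3 hS₁ hS₂ hS₁₂
  have key2 : ∀ w, w ∈ S₁ → w ∈ S₂ → x ≠ w → y ≠ w → False := by
    intro w hw1 hw2 hxw hyw
    have hsub3 : ({x, y, w} : Finset α) ⊆ S₁ ∩ S₂ := by
      intro u hu
      simp only [Finset.mem_insert, Finset.mem_singleton] at hu
      rw [Finset.mem_inter]
      rcases hu with rfl | rfl | rfl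
      · exact ⟨hxS₁, hxS₂⟩
      · exact ⟨hyS₁, hyS₂⟩
      · exact ⟨hw1, hw2⟩
    have h1 := Finset.card_le_card hsub3
    have h2 : ({x, y, w} : Finset α).card = 3 := by
      rw [Finset.card_eq_three]; exact ⟨x, y, w, hxy, hxw, hyw, rfl⟩
    rcases hT12 with h | h <;> omega
  have hcc' : c ≠ c' := by
    intro e
    exact key2 c (by rw [hS₁e]; simp) (by rw [hS₂e, e]; simp) hxc hyc
  have hcd'' : c ≠ d' := by
    intro e
    exact key2 c (by rw [hS₁e]; simp) (by rw [hS₂e, e]; simp) hxc hyc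
  have hdc' : d ≠ c' := by
    intro e
    exact key2 d (by rw [hS₁e]; simp) (by rw [hS₂e, e]; simp) hxd hyd
  have hdd' : d ≠ d' := by
    intro e
    exact key2 d (by rw [hS₁e]; simp) (by rw [hS₂e, e]; simp) hxd hyd
  have h4B₂ : ({c, d, c', d'} : Finset α).card = 4 := card_four hcd hcc' hcd'' hdc' hdd' hcd'
  have hB₂e : B₂ = {c, d, c', d'} := by
    symm
    apply Finset.eq_of_subset_of_card_le
    · intro u hu
      simp only [Finset.mem_insert, Finset.mem_singleton] at hu
      rcases hu with rfl | rfl | rfl | rfl <;> assumption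
    · rw [h4B₂, hB₂.1]
  have h4B₁ : ({x, y, a, b} : Finset α).card = 4 := by rw [← hB₁e]; exact hB₁.1
  -- the translation
  set t := swap x y * swap a b with ht
  set t' := swap c d * swap c' d' with ht'
  have htH : t ∈ H := hB₁.2 _ _ _ _ hB₁e.symm
  have ht'H : t' ∈ H := hB₂.2 _ _ _ _ hB₂e.symm
  set e := t * t' with he_def
  have heH : e ∈ H := H.mul_mem htH ht'H
  obtain ⟨tx, ty, ta, tb⟩ := dt_apply_four h4B₁
  obtain ⟨tc, td, tc', td'⟩ := dt_apply_four h4B₂
  have t'fix : ∀ z, z ∈ B₁ → t' z = z := by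
    intro z hz
    apply dt_apply_of_notMem
    rw [← hB₂e]
    exact Finset.disjoint_left.1 hdisj hz
  have tfix : ∀ z, z ∈ B₂ → t z = z := by
    intro z hz
    apply dt_apply_of_notMem
    rw [← hB₁e]
    exact Finset.disjoint_right.1 hdisj hz
  have ex : e x = y := by rw [he_def, Perm.mul_apply, t'fix x hxB, tx]
  have ey : e y = x := by rw [he_def, Perm.mul_apply, t'fix y hyB, ty]
  have ea : e a = b := by rw [he_def, Perm.mul_apply, t'fix a haB, ta]
  have eb : e b = a := by rw [he_def, Perm.mul_apply, t'fix b hbB, tb]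
  have ec : e c = d := by rw [he_def, Perm.mul_apply, tc, tfix d hdB]
  have ed : e d = c := by rw [he_def, Perm.mul_apply, td, tfix c hcB]
  have ec' : e c' = d' := by rw [he_def, Perm.mul_apply, tc', tfix d' hd'B]
  have ed' : e d' = c' := by rw [he_def, Perm.mul_apply, td', tfix c' hc'B]
  let P : Fin 4 → Finset α := ![{x, y}, {a, b}, {c, d}, {c', d'}]
  have hP0 : P 0 = {x, y} := rfl
  have hP1 : P 1 = {a, b} := rfl
  have hP2 : P 2 = {c, d} := rfl
  have hP3 : P 3 = {c', d'} := rfl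
  have hcardP : ∀ i, (P i).card = 2 := by
    intro i
    fin_cases i
    · exact Finset.card_pair hxy
    · exact Finset.card_pair hab
    · exact Finset.card_pair hcd
    · exact Finset.card_pair hcd'
  have heP : ∀ i, ∀ z ∈ P i, e z ∈ P i ∧ e z ≠ z := by
    intro i
    fin_cases i
    · intro z hz
      change z ∈ ({x, y} : Finset α) at hz
      change e z ∈ ({x, y} : Finset α) ∧ e z ≠ z
      simp only [Finset.mem_insert, Finset.mem_singleton] at hz ⊢
      rcases hz with rfl | rfl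
      · rw [ex]; exact ⟨Or.inr rfl, hxy.symm⟩
      · rw [ey]; exact ⟨Or.inl rfl, hxy⟩
    · intro z hz
      change z ∈ ({a, b} : Finset α) at hz
      change e z ∈ ({a, b} : Finset α) ∧ e z ≠ z
      simp only [Finset.mem_insert, Finset.mem_singleton] at hz ⊢
      rcases hz with rfl | rfl
      · rw [ea]; exact ⟨Or.inr rfl, hab.symm⟩
      · rw [eb]; exact ⟨Or.inl rfl, hab⟩
    · intro z hz
      change z ∈ ({c, d} : Finset α) at hz
      change e z ∈ ({c, d} : Finset α) ∧ e z ≠ z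
      simp only [Finset.mem_insert, Finset.mem_singleton] at hz ⊢
      rcases hz with rfl | rfl
      · rw [ec]; exact ⟨Or.inr rfl, hcd.symm⟩
      · rw [ed]; exact ⟨Or.inl rfl, hcd⟩
    · intro z hz
      change z ∈ ({c', d'} : Finset α) at hz
      change e z ∈ ({c', d'} : Finset α) ∧ e z ≠ z
      simp only [Finset.mem_insert, Finset.mem_singleton] at hz ⊢
      rcases hz with rfl | rfl
      · rw [ec']; exact ⟨Or.inr rfl, hcd'.symm⟩
      · rw [ed']; exact ⟨Or.inl rfl, hcd'⟩
  have hdisjP : ∀ i j, i ≠ j → Disjoint (P i) (P j) := by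
    intro i j hij
    fin_cases i <;> fin_cases j <;>
      first
      | exact absurd rfl hij
      | (simp only [P]
         simp [Finset.disjoint_left, hxy, hab, hxa, hxb, hya, hyb, hcd, hcd', hcc', hcd'', hdc', hdd',
           hxc, hxd, hyc, hyd, hxc', hxd', hyc', hyd', hac, had, hbc, hbd, hac', had', hbc', hbd',
           hxy.symm, hab.symm, hxa.symm, hxb.symm, hya.symm, hyb.symm, hcd.symm, hcd'.symm,
           hcc'.symm, hcd''.symm, hdc'.symm, hdd'.symm, hxc.symm, hxd.symm, hyc.symm, hyd.symm,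
           hxc'.symm, hxd'.symm, hyc'.symm, hyd'.symm, hac.symm, had.symm, hbc.symm, hbd.symm,
           hac'.symm, had'.symm, hbc'.symm, hbd'.symm])
  have hU01 : P 0 ∪ P 1 = B₁ := by
    rw [hP0, hP1, hB₁e, pair_union_pair]
  have hU02 : P 0 ∪ P 2 = S₁ := by
    rw [hP0, hP2, hS₁e, pair_union_pair]
  have hU03 : P 0 ∪ P 3 = S₂ := by
    rw [hP0, hP3, hS₂e, pair_union_pair]
  have hcover : supp K = P 0 ∪ P 1 ∪ P 2 ∪ P 3 := by
    rw [hΔ, hP0, hP1, hP2, hP3, hB₁e, hB₂e, four_pairs_union]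
  -- the action of `e` on tetrads
  have heT : ∀ T, Tet H T → e • T = T ∨ e • T = supp K \ T := by
    intro T hT
    rw [hcover]
    apply pair_parity P hdisjP e heP hcardP T
    · rw [← hcover]; exact hsubΔ T hT
    · exact hT.1
    · rw [hU01]; exact even_inter h3 hT hB₁
    · rw [hU02]; exact even_inter h3 hT hS₁
    · rw [hU03]; exact even_inter h3 hT hS₂
  -- separation of points by tetrads
  have hsep : ∀ z ∈ supp K, ∀ w ∈ supp K, z ≠ w → ∃ T, Tet H T ∧ z ∈ T ∧ w ∉ T := by
    intro z hz w hw hzw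
    have hcΔ : c ∈ supp K := hsubΔ B₂ hB₂ hcB
    obtain ⟨h, hh, hhx, hhc⟩ := hs.two_trans hB₁ x hxΔ c hcΔ z hz w hw hxc hzw
    refine ⟨h • B₁, hB₁.smul hh, ?_, ?_⟩
    · rw [← hhx, ← Perm.smul_def, Finset.smul_mem_smul_finset_iff]; exact hxB
    · rw [← hhc, ← Perm.smul_def, Finset.smul_mem_smul_finset_iff]
      exact Finset.disjoint_right.1 hdisj hcB
  -- the predicate defining the normal subgroup
  let Q : Perm α → Prop := fun u =>
    u ∈ H ∧ (∀ z, z ∉ supp K → u z = z) ∧ ∀ T, Tet H T → u • T = T ∨ u • T = supp K \ T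
  have hQsq : ∀ u, Q u → u * u = 1 := by
    rintro u ⟨hu1, hu2, hu3⟩
    ext z
    rw [Perm.mul_apply, Perm.one_apply]
    by_cases hz : z ∈ supp K
    · by_contra hne
      have hw : u (u z) ∈ supp K := hs.apply_mem_supp hu1 (hs.apply_mem_supp hu1 hz)
      obtain ⟨T, hT, hzT, hwT⟩ := hsep z hz _ hw (Ne.symm hne)
      have hTΔ := hsubΔ T hT
      have huu : u • u • T = T := by
        rcases hu3 T hT with h | h
        · rw [h, h]
        · rw [h, hs.smul_sdiff hu1, h, Finset.sdiff_sdiff_eq_self hTΔ]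
      apply hwT
      rw [← huu, ← Perm.smul_def, ← Perm.smul_def, Finset.smul_mem_smul_finset_iff,
        Finset.smul_mem_smul_finset_iff]
      exact hzT
    · rw [hu2 z hz, hu2 z hz]
  let N₁ : Subgroup (Perm α) :=
    { carrier := {u | Q u}
      one_mem' := ⟨H.one_mem, fun _ _ => rfl, fun T _ => Or.inl (one_smul _ _)⟩
      mul_mem' := by
        rintro u v ⟨hu1, hu2, hu3⟩ ⟨hv1, hv2, hv3⟩
        refine ⟨H.mul_mem hu1 hv1, ?_, ?_⟩
        · intro z hz; rw [Perm.mul_apply, hv2 z hz, hu2 z hz]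
        · intro T hT
          rw [mul_smul]
          rcases hv3 T hT with h | h
          · rw [h]; exact hu3 T hT
          · rw [h, hs.smul_sdiff hu1]
            rcases hu3 T hT with h' | h'
            · right; rw [h']
            · left; rw [h', Finset.sdiff_sdiff_eq_self (hsubΔ T hT)]
      inv_mem' := by
        intro u hu
        have : u⁻¹ = u := (eq_inv_of_mul_eq_one_left (hQsq u hu)).symm
        rw [this]; exact hu }
  have hN₁H : N₁ ≤ H := fun u hu => hu.1
  have hN₁n : ∀ h ∈ H, ∀ u ∈ N₁, h * u * h⁻¹ ∈ N₁ := by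
    rintro h hh u ⟨hu1, hu2, hu3⟩
    refine ⟨H.mul_mem (H.mul_mem hh hu1) (H.inv_mem hh), ?_, ?_⟩
    · intro z hz
      have h1 : h⁻¹ z ∉ supp K := by
        rw [hs.apply_mem_supp_iff (H.inv_mem hh)]; exact hz
      simp only [Perm.mul_apply, hu2 _ h1]
      simp
    · intro T hT
      have hT' : Tet H (h⁻¹ • T) := hT.smul (H.inv_mem hh)
      rw [mul_smul, mul_smul]
      rcases hu3 _ hT' with h' | h'
      · left; rw [h', smul_inv_smul]
      · right; rw [h', hs.smul_sdiff hh, smul_inv_smul]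
  have hN₁2 : ∀ u ∈ N₁, u * u = 1 := fun u hu => hQsq u hu
  have hcen := hs.hO2 N₁ hN₁H hN₁n hN₁2
  have heN : e ∈ N₁ := by
    refine ⟨heH, ?_, heT⟩
    intro z hz
    rw [hΔ, Finset.mem_union, not_or] at hz
    have h1 : t' z = z := by
      apply dt_apply_of_notMem; rw [← hB₂e]; exact hz.2
    have h2 : t z = z := by
      apply dt_apply_of_notMem; rw [← hB₁e]; exact hz.1
    rw [he_def, Perm.mul_apply, h1, h2]
  exact hs.no_pairing hB₁ P hcardP hcover e heP (hcen e heN)

end Cfsg.Agent.Helper8.Tt
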