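import Mathlib
import Cfsg.Agent.Helper8.TtI
import Cfsg.Agent.Helper8.TtB
import Cfsg.Agent.Helper2.Layer3
import Cfsg.Agent.Helper2.Component
import Cfsg.Agent.S1259

set_option autoImplicit false
set_option linter.unusedSectionVars false
set_option linter.unusedSimpArgs false

/-!
helper8: existence of a three-cycle, and the `Setup` hypotheses for a group whose generalized
Fitting subgroup is quasisimple.
-/

namespace Cfsg.Agent.Helper8.Tt

open Equiv Equiv.Perm
open scoped Pointwise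

variable {α : Type*} [Fintype α] [DecidableEq α]

theorem Setup.exists_three_cycle {H K : Subgroup (Perm α)} (hs : Setup H K) {B₁ B₂ : Finset α}
    (hB₁ : Tet H B₁) (hB₂ : Tet H B₂) (hdisj : Disjoint B₁ B₂) : ∃ c ∈ H, c.IsThreeCycle := by
  by_contra h
  push Not at h
  exact hs.eight_false h hB₁ hB₂ hdisj

/-- a group of exponent two is commutative -/
theorem mul_comm_of_sq {G : Type*} [Group G] (h : ∀ g : G, g * g = 1) (a b : G) :
    a * b = b * a := by
  calc a * b = (b * b) * (a * b) * (a * a) := by rw [h a, h b, one_mul, mul_one]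
    _ = b * ((b * a) * (b * a)) * a := by group
    _ = b * a := by rw [h (b * a), mul_one]

/-- the `Setup` hypotheses hold when `F*(H)` is quasisimple -/
theorem setup_of_quasisimple (H : Subgroup (Perm α))
    (hF : Cfsg.IsQuasisimple ↥(Cfsg.generalizedFittingSubgroup ↥H)) :
    Setup H ((Cfsg.generalizedFittingSubgroup ↥H).map H.subtype) := by
  classical
  set F := Cfsg.generalizedFittingSubgroup ↥H with hFdef
  set K := F.map H.subtype with hKdef
  have hFn : F.Normal := inferInstance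
  have hKH : K ≤ H := Subgroup.map_subtype_le F
  have eFK : ↥F ≃* ↥K := F.equivMapOfInjective H.subtype H.subtype_injective
  have hq : Cfsg.IsQuasisimple ↥K := Cfsg.Agent.Helper2.isQuasisimple_of_mulEquiv eFK hF
  refine ⟨?_, hKH, hq, ?_, ?_⟩
  · rintro h hh k ⟨f, hf, rfl⟩
    exact ⟨⟨h, hh⟩ * f * ⟨h, hh⟩⁻¹, hFn.conj_mem f hf ⟨h, hh⟩, rfl⟩
  · intro c hc hcen
    have h1 : (⟨c, hc⟩ : ↥H) ∈ Subgroup.centralizer (F : Set ↥H) := by
      rw [Subgroup.mem_centralizer_iff]
      intro f hf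
      apply Subtype.ext
      exact hcen _ ⟨f, hf, rfl⟩
    have h2 := Cfsg.Agent.Helper2.centralizer_generalizedFittingSubgroup_le h1
    exact ⟨⟨c, hc⟩, h2, rfl⟩
  · intro N₀ hN₀H hN₀n hN₀2 u hu k hk
    let N₀' : Subgroup ↥H := N₀.subgroupOf H
    have hN₀'n : N₀'.Normal := by
      refine ⟨fun v hv h => ?_⟩
      rw [Subgroup.mem_subgroupOf] at hv ⊢
      exact hN₀n h.1 h.2 v.1 hv
    have hN₀'sq : ∀ v : ↥H, v ∈ N₀' → v * v = 1 := by
      intro v hv
      rw [Subgroup.mem_subgroupOf] at hv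
      exact Subtype.ext (hN₀2 v.1 hv)
    have hpg : IsPGroup 2 ↥N₀' := by
      intro v
      refine ⟨1, ?_⟩
      rw [pow_one, pow_two]
      exact Subtype.ext (hN₀'sq v.1 v.2)
    haveI : Fact (Nat.Prime 2) := ⟨Nat.prime_two⟩
    have hnil : Group.IsNilpotent ↥N₀' := hpg.isNilpotent
    have hle1 : N₀' ≤ Cfsg.fittingSubgroup ↥H := le_sSup ⟨hN₀'n, hnil⟩
    have hle2 : N₀' ≤ F := hle1.trans le_sup_right
    let N₀'' : Subgroup ↥F := N₀'.subgroupOf F
    have hN₀''n : N₀''.Normal := inferInstance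
    rcases Cfsg.Agent.S1259.result hF N₀'' hN₀''n.isSubnormal with htop | hcen
    · exfalso
      have hFle : F ≤ N₀' := Subgroup.subgroupOf_eq_top.1 htop
      have hsq : ∀ f : ↥F, f * f = 1 := fun f => Subtype.ext (hN₀'sq f.1 (hFle f.2))
      have hcomm : IsMulCommutative ↥F := ⟨⟨mul_comm_of_sq hsq⟩⟩
      have hperf : Group.IsPerfect ↥F := hF.1
      have hsub : Subsingleton ↥F := inferInstance
      have hnt : Nontrivial (↥F ⧸ Subgroup.center ↥F) := hF.2.toNontrivial
      obtain ⟨p, q, hpq⟩ := hnt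
      obtain ⟨p', rfl⟩ := QuotientGroup.mk_surjective p
      obtain ⟨q', rfl⟩ := QuotientGroup.mk_surjective q
      exact hpq (by rw [Subsingleton.elim p' q'])
    · obtain ⟨f, hf, rfl⟩ := hk
      have huH : u ∈ H := hN₀H hu
      have hu' : (⟨u, huH⟩ : ↥H) ∈ N₀' := by
        rw [Subgroup.mem_subgroupOf]; exact hu
      have hu'' : (⟨⟨u, huH⟩, hle2 hu'⟩ : ↥F) ∈ N₀'' := by
        rw [Subgroup.mem_subgroupOf]; exact hu'
      have hc := hcen hu''
      rw [Subgroup.mem_center_iff] at hc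
      have := hc ⟨f, hf⟩
      have h2 := congrArg (fun w : ↥F => ((w : ↥H) : Perm α)) this
      exact h2

end Cfsg.Agent.Helper8.Tt
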