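import Mathlib
import Cfsg.Agent.Helper8.TwGenD
import Cfsg.Agent.Helper7.ChevTwE6

set_option autoImplicit false
set_option linter.unusedSectionVars false
set_option linter.unusedVariables false
set_option maxRecDepth 100000

/-!
The twisted group of type `E₆`: table facts and explicit forms of the generators.
-/

namespace Cfsg.Agent.Helper8.TwGen

open Cfsg Cfsg.Lie Matrix Cfsg.Agent.Helper7.Chev

/-- the twisted Coxeter word -/
abbrev wE6 : List ℕ := [1, 3, 0, 5, 2, 4]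

/-- its fifth power -/
abbrev w5E6 : List ℕ := [1, 3, 0, 5, 2, 4, 1, 3, 0, 5, 2, 4, 1, 3, 0, 5, 2, 4, 1, 3, 0, 5, 2, 4, 1, 3, 0, 5, 2, 4]

/-- its sixth power -/
abbrev w6E6 : List ℕ := [1, 3, 0, 5, 2, 4, 1, 3, 0, 5, 2, 4, 1, 3, 0, 5, 2, 4, 1, 3, 0, 5, 2, 4, 1, 3, 0, 5, 2, 4,
  1, 3, 0, 5, 2, 4]

/-- its ninth power -/
abbrev w9E6 : List ℕ := [1, 3, 0, 5, 2, 4, 1, 3, 0, 5, 2, 4, 1, 3, 0, 5, 2, 4, 1, 3, 0, 5, 2, 4, 1, 3, 0, 5, 2, 4,
  1, 3, 0, 5, 2, 4, 1, 3, 0, 5, 2, 4, 1, 3, 0, 5, 2, 4, 1, 3, 0, 5, 2, 4]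

theorem factsE6_fast :
    ((fastE6.reflWord wE6 56 = 50 ∧ fastE6.etaWord wE6 56 = 1) ∧
     (fastE6.reflWord wE6 36 = 48 ∧ fastE6.etaWord wE6 36 = 1)) ∧
    ((fastE6.reflWord w5E6 61 = 37 ∧ fastE6.etaWord w5E6 61 = -1) ∧
     (fastE6.reflWord w5E6 49 = 42 ∧ fastE6.etaWord w5E6 49 = 1)) ∧
    ((fastE6.reflWord w6E6 42 = 34 ∧ fastE6.etaWord w6E6 42 = -1) ∧
     (fastE6.reflWord w6E6 37 = 29 ∧ fastE6.etaWord w6E6 37 = -1)) ∧
    ((fastE6.reflWord w6E6 56 = 35 ∧ fastE6.etaWord w6E6 56 = -1) ∧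
     (fastE6.reflWord w6E6 36 = 15 ∧ fastE6.etaWord w6E6 36 = -1)) ∧
    ((fastE6.reflWord w9E6 56 = 19 ∧ fastE6.etaWord w9E6 56 = 1) ∧
     (fastE6.reflWord w9E6 36 = 9 ∧ fastE6.etaWord w9E6 36 = -1)) ∧
    ((fastE6.reflWord wE6 20 = 46 ∧ fastE6.etaWord wE6 20 = 1) ∧
     (fastE6.reflWord wE6 46 = 39 ∧ fastE6.etaWord wE6 46 = 1)) ∧
    ((fastE6.reflWord w6E6 46 = 25 ∧ fastE6.etaWord w6E6 46 = -1) ∧
     (fastE6.reflWord w6E6 39 = 32 ∧ fastE6.etaWord w6E6 39 = -1)) := by decide +kernel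

theorem factsE6 :
    (((tabOf chevE6).reflWord wE6 56 = 50 ∧ (tabOf chevE6).etaWord wE6 56 = 1) ∧
     ((tabOf chevE6).reflWord wE6 36 = 48 ∧ (tabOf chevE6).etaWord wE6 36 = 1)) ∧
    (((tabOf chevE6).reflWord w5E6 61 = 37 ∧ (tabOf chevE6).etaWord w5E6 61 = -1) ∧
     ((tabOf chevE6).reflWord w5E6 49 = 42 ∧ (tabOf chevE6).etaWord w5E6 49 = 1)) ∧
    (((tabOf chevE6).reflWord w6E6 42 = 34 ∧ (tabOf chevE6).etaWord w6E6 42 = -1) ∧
     ((tabOf chevE6).reflWord w6E6 37 = 29 ∧ (tabOf chevE6).etaWord w6E6 37 = -1)) ∧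
    (((tabOf chevE6).reflWord w6E6 56 = 35 ∧ (tabOf chevE6).etaWord w6E6 56 = -1) ∧
     ((tabOf chevE6).reflWord w6E6 36 = 15 ∧ (tabOf chevE6).etaWord w6E6 36 = -1)) ∧
    (((tabOf chevE6).reflWord w9E6 56 = 19 ∧ (tabOf chevE6).etaWord w9E6 56 = 1) ∧
     ((tabOf chevE6).reflWord w9E6 36 = 9 ∧ (tabOf chevE6).etaWord w9E6 36 = -1)) ∧
    (((tabOf chevE6).reflWord wE6 20 = 46 ∧ (tabOf chevE6).etaWord wE6 20 = 1) ∧
     ((tabOf chevE6).reflWord wE6 46 = 39 ∧ (tabOf chevE6).etaWord wE6 46 = 1)) ∧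
    (((tabOf chevE6).reflWord w6E6 46 = 25 ∧ (tabOf chevE6).etaWord w6E6 46 = -1) ∧
     ((tabOf chevE6).reflWord w6E6 39 = 32 ∧ (tabOf chevE6).etaWord w6E6 39 = -1)) :=
  tab_E6 ▸ factsE6_fast

theorem pairE6_fast :
    (fastE6.pairing 56 50 = -1 ∧ fastE6.pairing 36 50 = 0) ∧
    (fastE6.pairing 56 48 = 0 ∧ fastE6.pairing 36 48 = -1) := by decide +kernel

theorem pairE6 :
    ((tabOf chevE6).pairing 56 50 = -1 ∧ (tabOf chevE6).pairing 36 50 = 0) ∧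
    ((tabOf chevE6).pairing 56 48 = 0 ∧ (tabOf chevE6).pairing 36 48 = -1) :=
  tab_E6 ▸ pairE6_fast

theorem termsE6_fast :
    (fastE6.SingleTerm 61 56 50 (-1) ∧ fastE6.SingleTerm 49 36 48 1 ∧
      fastE6.SingleTerm 20 56 9 1 ∧ fastE6.SingleTerm 20 36 19 (-1)) ∧
    (fastE6.commTerms 56 48 = [] ∧ fastE6.commTerms 36 50 = [] ∧ fastE6.commTerms 61 36 = [] ∧
      fastE6.commTerms 61 48 = [] ∧ fastE6.commTerms 61 49 = []) ∧
    (fastE6.commTerms 56 19 = [] ∧ fastE6.commTerms 36 9 = [] ∧ fastE6.commTerms 20 36 = [] ∧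
      fastE6.commTerms 20 19 = [] ∧ fastE6.commTerms 9 19 = []) ∧
    (fastE6.commTerms 42 37 = [] ∧ fastE6.commTerms 56 36 = [] ∧ fastE6.commTerms 29 34 = [] ∧
      fastE6.commTerms 15 35 = []) := by decide +kernel

theorem termsE6 :
    ((tabOf chevE6).SingleTerm 61 56 50 (-1) ∧ (tabOf chevE6).SingleTerm 49 36 48 1 ∧
      (tabOf chevE6).SingleTerm 20 56 9 1 ∧ (tabOf chevE6).SingleTerm 20 36 19 (-1)) ∧
    ((tabOf chevE6).commTerms 56 48 = [] ∧ (tabOf chevE6).commTerms 36 50 = [] ∧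
      (tabOf chevE6).commTerms 61 36 = [] ∧ (tabOf chevE6).commTerms 61 48 = [] ∧
      (tabOf chevE6).commTerms 61 49 = []) ∧
    ((tabOf chevE6).commTerms 56 19 = [] ∧ (tabOf chevE6).commTerms 36 9 = [] ∧
      (tabOf chevE6).commTerms 20 36 = [] ∧ (tabOf chevE6).commTerms 20 19 = [] ∧
      (tabOf chevE6).commTerms 9 19 = []) ∧
    ((tabOf chevE6).commTerms 42 37 = [] ∧ (tabOf chevE6).commTerms 56 36 = [] ∧
      (tabOf chevE6).commTerms 29 34 = [] ∧ (tabOf chevE6).commTerms 15 35 = []) :=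
  tab_E6 ▸ termsE6_fast

theorem negE6 : chevE6.neg 56 = 15 ∧ chevE6.neg 36 = 35 ∧ chevE6.neg 42 = 29 ∧ chevE6.neg 37 = 34 ∧
    chevE6.neg 46 = 25 ∧ chevE6.neg 39 = 32 ∧ chevE6.neg 61 = 10 ∧ chevE6.neg 49 = 22 ∧
    chevE6.neg 20 = 51 ∧ chevE6.neg 9 = 62 ∧ chevE6.neg 19 = 52 ∧ chevE6.neg 29 = 42 ∧ chevE6.neg 15 = 56 := by
  decide

theorem he0 : ((0 : ℕ), (2 : ℕ)) ∈ clsE6 := by decide

theorem he2 : ((2 : ℕ), (2 : ℕ)) ∈ clsE6 := by decide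

theorem he1 : ((1 : ℕ), (1 : ℕ)) ∈ clsE6 := by decide

theorem he3 : ((3 : ℕ), (1 : ℕ)) ∈ clsE6 := by decide

theorem hwE6 : ∀ i ∈ wE6, i < chevE6.rank := by decide

theorem hw5E6 : ∀ i ∈ w5E6, i < chevE6.rank := by decide

theorem hw6E6 : ∀ i ∈ w6E6, i < chevE6.rank := by decide

theorem hw9E6 : ∀ i ∈ w9E6, i < chevE6.rank := by decide

theorem ltE6 (r : ℕ) (h : r < 72) : r < chevE6.nroots := h

section forms

variable {K : Type*} [Field K] (f : K ≃+* K)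

/-- the root elements of the class `{p₁, p₆}` -/
theorem upper2_0 (t : K) :
    clsHom good2_E6 T3_E6 T4_E6 T19_E6 f he0 (upperSL t) =
      xGL good1_E6 (ltE6 56 (by norm_num)) t * xGL good1_E6 (ltE6 36 (by norm_num)) (f t) := by
  apply Units.ext
  rw [clsHom_upper_coe, upWord_two, clsRoot_E6_00, clsRoot_E6_01, Units.val_mul,
    xGL_coe, xGL_coe, wordMat_cons, wordMat_cons, wordMat_nil, mul_one]
  rfl

theorem lower2_0 (t : K) :
    clsHom good2_E6 T3_E6 T4_E6 T19_E6 f he0 (lowerSL t) =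
      xGL good1_E6 (ltE6 15 (by norm_num)) t * xGL good1_E6 (ltE6 35 (by norm_num)) (f t) := by
  apply Units.ext
  rw [clsHom_lower_coe, loWord_two, clsRoot_E6_00, clsRoot_E6_01, neg_E6_p1, neg_E6_p6,
    Units.val_mul, xGL_coe, xGL_coe, wordMat_cons, wordMat_cons, wordMat_nil, mul_one]
  rfl

/-- the root elements of the class `{p₃, p₅}` -/
theorem upper2_2 (t : K) :
    clsHom good2_E6 T3_E6 T4_E6 T19_E6 f he2 (upperSL t) =
      xGL good1_E6 (ltE6 42 (by norm_num)) t * xGL good1_E6 (ltE6 37 (by norm_num)) (f t) := by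
  apply Units.ext
  rw [clsHom_upper_coe, upWord_two, clsRoot_E6_20, clsRoot_E6_21, Units.val_mul,
    xGL_coe, xGL_coe, wordMat_cons, wordMat_cons, wordMat_nil, mul_one]
  rfl

theorem lower2_2 (t : K) :
    clsHom good2_E6 T3_E6 T4_E6 T19_E6 f he2 (lowerSL t) =
      xGL good1_E6 (ltE6 29 (by norm_num)) t * xGL good1_E6 (ltE6 34 (by norm_num)) (f t) := by
  apply Units.ext
  rw [clsHom_lower_coe, loWord_two, clsRoot_E6_20, clsRoot_E6_21, neg_E6_p3, neg_E6_p5,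
    Units.val_mul, xGL_coe, xGL_coe, wordMat_cons, wordMat_cons, wordMat_nil, mul_one]
  rfl

/-- the root elements of the class `{p₂}` -/
theorem upper1_1 (t : K) :
    clsHom good2_E6 T3_E6 T4_E6 T19_E6 f he1 (upperSL t) = xGL good1_E6 (ltE6 46 (by norm_num)) t := by
  apply Units.ext
  rw [clsHom_upper_coe, upWord_one, clsRoot_E6_10, xGL_coe, wordMat_cons, wordMat_nil, mul_one]
  rfl

theorem lower1_1 (t : K) :
    clsHom good2_E6 T3_E6 T4_E6 T19_E6 f he1 (lowerSL t) = xGL good1_E6 (ltE6 25 (by norm_num)) t := by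
  apply Units.ext
  rw [clsHom_lower_coe, loWord_one, clsRoot_E6_10, neg_E6_p2, xGL_coe, wordMat_cons, wordMat_nil, mul_one]
  rfl

/-- the root elements of the class `{p₄}` -/
theorem upper1_3 (t : K) :
    clsHom good2_E6 T3_E6 T4_E6 T19_E6 f he3 (upperSL t) = xGL good1_E6 (ltE6 39 (by norm_num)) t := by
  apply Units.ext
  rw [clsHom_upper_coe, upWord_one, clsRoot_E6_30, xGL_coe, wordMat_cons, wordMat_nil, mul_one]
  rfl

theorem lower1_3 (t : K) :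
    clsHom good2_E6 T3_E6 T4_E6 T19_E6 f he3 (lowerSL t) = xGL good1_E6 (ltE6 32 (by norm_num)) t := by
  apply Units.ext
  rw [clsHom_lower_coe, loWord_one, clsRoot_E6_30, neg_E6_p4, xGL_coe, wordMat_cons, wordMat_nil, mul_one]
  rfl

end forms

end Cfsg.Agent.Helper8.TwGen
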