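import Mathlib
import Cfsg.Agent.Helper8.TwGenF

set_option autoImplicit false
set_option linter.unusedSectionVars false
set_option linter.unusedVariables false

/-!
The twisted group of type `E₆`: the torus element of the class `{p₁, p₆}`, the commutator of two products of two
elements, and the surjectivity of the trace of a quadratic extension of finite fields.
-/

namespace Cfsg.Agent.Helper8.TwGen

open Cfsg Cfsg.Lie Matrix Cfsg.Agent.Helper7.Chev

section abstract

variable {G : Type*} [Group G]

/-- The commutator of two products of two elements, where the cross pairs commute and the two parallel pairs have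
central commutators. -/
theorem two_comm {A B A' B' Z₁ Z₂ : G}
    (hAB' : Commute A B') (hBA' : Commute B A')
    (h1 : A' * A = A * A' * Z₁) (h2 : B' * B = B * B' * Z₂)
    (hZ1B : Commute Z₁ B) (hZ1B' : Commute Z₁ B') (hZ12 : Commute Z₁ Z₂) :
    (A' * B') * (A * B) = (A * B) * (A' * B') * (Z₁ * Z₂) := by
  have h := three_comm (A := A) (B := B) (C := 1) (A' := A') (B' := B') (C' := 1)
    (Z₁ := Z₁) (Z₂ := Z₂) (Z₃ := 1) hAB' (Commute.one_right _) hBA' (Commute.one_right _)
    (Commute.one_left _) (Commute.one_left _) h1 h2 (by group) hZ1B (Commute.one_right _) hZ1B'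
    (Commute.one_right _) (Commute.one_right _) (Commute.one_right _) hZ12 (Commute.one_right _)
    (Commute.one_right _)
  simpa only [mul_one] using h

end abstract

section field

variable {K : Type*} [Field K] [Fintype K]

/-- The trace of a quadratic extension of finite fields is surjective (on the fixed field of the Frobenius map). -/
theorem trace_surjective_two {q : ℕ} (hq : 2 ≤ q) (hK : Fintype.card K = q ^ 2) (f : K ≃+* K)
    (hf : ∀ t, f t = t ^ q) {u : K} (hu : f u = u) : ∃ t : K, t + f t = u := by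
  classical
  -- an element of nonzero trace
  have hex : ∃ t₀ : K, t₀ + t₀ ^ q ≠ 0 := by
    by_contra hall
    push Not at hall
    set P : Polynomial K := Polynomial.X + Polynomial.X ^ q with hP
    have hdeg : P.natDegree = q := by
      rw [hP]
      have hX : (Polynomial.X ^ q : Polynomial K).natDegree = q := Polynomial.natDegree_X_pow _
      have hlt : (Polynomial.X : Polynomial K).natDegree < (Polynomial.X ^ q : Polynomial K).natDegree := by
        rw [hX, Polynomial.natDegree_X]
        omega
      rw [Polynomial.natDegree_add_eq_right_of_natDegree_lt hlt, hX]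
    have hP0 : P ≠ 0 := by
      intro h
      rw [h, Polynomial.natDegree_zero] at hdeg
      omega
    have hsub : (Finset.univ : Finset K).val ⊆ P.roots := by
      intro t _
      rw [Polynomial.mem_roots hP0, Polynomial.IsRoot.def, hP]
      simp only [Polynomial.eval_add, Polynomial.eval_X, Polynomial.eval_pow]
      exact hall t
    have := Polynomial.card_le_degree_of_subset_roots hsub
    rw [Finset.card_univ, hK, hdeg] at this
    have : q < q ^ 2 := by nlinarith
    omega
  obtain ⟨t₀, ht₀⟩ := hex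
  have hq2 : ∀ t : K, t ^ (q ^ 2) = t := by
    intro t
    rw [← hK]
    exact FiniteField.pow_card t
  set τ : K := t₀ + t₀ ^ q with hτ
  have hfτ : f τ = τ := by
    rw [hτ, map_add, hf, hf, ← pow_mul]
    have e2 : q * q = q ^ 2 := by ring
    rw [e2, hq2]
    ring
  refine ⟨u * τ⁻¹ * t₀, ?_⟩
  have hc : f (u * τ⁻¹) = u * τ⁻¹ := by rw [map_mul, map_inv₀, hu, hfτ]
  have h1 : f (u * τ⁻¹ * t₀) = u * τ⁻¹ * t₀ ^ q := by rw [map_mul, hc, hf]
  rw [h1]
  have : u * τ⁻¹ * t₀ + u * τ⁻¹ * t₀ ^ q = u * τ⁻¹ * τ := by rw [hτ]; ring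
  rw [this, mul_assoc, inv_mul_cancel₀ ht₀, mul_one]

end field

section E6

variable {K : Type*} [Field K] (f : K ≃+* K)

/-- the torus element of the class `{p₁, p₆}` -/
theorem diag2 {g : K} (hg : g ≠ 0) :
    clsHom good2_E6 T3_E6 T4_E6 T19_E6 f he0 (diagSL g hg) =
      hGL good1_E6 (ltE6 56 (by norm_num)) g hg *
        hGL good1_E6 (ltE6 36 (by norm_num)) (f g) ((map_ne_zero f).mpr hg) := by
  rw [clsHom_apply]
  have e0 : clsFactor good2_E6.toGood1 (fun i => [5, 1, 4, 3, 2, 0].getD i 0) f 0 0 (diagSL g hg) =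
      hGL good1_E6 (ltE6 56 (by norm_num)) g hg := by
    unfold clsFactor
    rw [MonoidHom.comp_apply, map_diagSL]
    have : phiS good2_E6.toGood1 ((fun i => [5, 1, 4, 3, 2, 0].getD i 0)^[0] 0) =
        (phiHom good1_E6 (ltE6 56 (by norm_num)) : Matrix.SpecialLinearGroup (Fin 2) K →* _) := by
      exact phiS_of_lt good1_E6 (by decide : (0 : ℕ) < chevE6.rank)
    rw [this]
    rfl
  have e1 : clsFactor good2_E6.toGood1 (fun i => [5, 1, 4, 3, 2, 0].getD i 0) f 0 1 (diagSL g hg) =
      hGL good1_E6 (ltE6 36 (by norm_num)) (f g) ((map_ne_zero f).mpr hg) := by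
    unfold clsFactor
    rw [MonoidHom.comp_apply, map_diagSL]
    have : phiS good2_E6.toGood1 ((fun i => [5, 1, 4, 3, 2, 0].getD i 0)^[1] 0) =
        (phiHom good1_E6 (ltE6 36 (by norm_num)) : Matrix.SpecialLinearGroup (Fin 2) K →* _) := by
      exact phiS_of_lt good1_E6 (by decide : (5 : ℕ) < chevE6.rank)
    rw [this]
    rfl
  show clsFactor good2_E6.toGood1 (fun i => [5, 1, 4, 3, 2, 0].getD i 0) f 0 0 (diagSL g hg) *
    (clsFactor good2_E6.toGood1 (fun i => [5, 1, 4, 3, 2, 0].getD i 0) f 0 1 (diagSL g hg) * 1) = _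
  rw [e0, e1, mul_one]

/-- the action of the torus element on a root element -/
theorem conjH2 {g : K} (hg : g ≠ 0) {s : ℕ} (hs : s < chevE6.nroots) {p1 p2 : ℤ}
    (h1 : (tabOf chevE6).pairing 56 s = p1) (h2 : (tabOf chevE6).pairing 36 s = p2) (t : K) :
    clsHom good2_E6 T3_E6 T4_E6 T19_E6 f he0 (diagSL g hg) * xGL good1_E6 hs t *
        (clsHom good2_E6 T3_E6 T4_E6 T19_E6 f he0 (diagSL g hg))⁻¹ =
      xGL good1_E6 hs (g ^ p1 * ((f g) ^ p2 * t)) := by
  rw [diag2]
  have hfg : f g ≠ 0 := (map_ne_zero f).mpr hg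
  have c2 := CGen.hGL_conj_xGL (F := K) good2_E6 (ltE6 36 (by norm_num)) hfg hs t
  have c1 := CGen.hGL_conj_xGL (F := K) good2_E6 (ltE6 56 (by norm_num)) hg hs
    ((f g) ^ (tabOf chevE6).pairing 36 s * t)
  rw [h2] at c2 c1
  rw [h1] at c1
  rw [← c1, ← c2]
  group

end E6

end Cfsg.Agent.Helper8.TwGen
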