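import Mathlib
import Cfsg.Agent.Helper8.TwGenE
import Cfsg.Agent.Helper8.TwGenG

set_option autoImplicit false
set_option linter.unusedSectionVars false
set_option linter.unusedVariables false
set_option maxRecDepth 100000

/-!
The twisted group of type `E₆` is generated by two elements: a torus element of the class `{p₁, p₆}` and the
product of the twisted Coxeter element with a root element of that class.
-/

namespace Cfsg.Agent.Helper8.TwGen

open Cfsg Cfsg.Lie Matrix Cfsg.Agent.Helper7.Chev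

section main

variable {K : Type*} [Field K] [Fintype K]

/-- The twisted group of type `E₆` is generated by two elements. -/
theorem two_gen_twE6 {q : ℕ} (hq : IsPrimePow q) (hK : Fintype.card K = q ^ 2) (f : K ≃+* K)
    (hf : ∀ t, f t = t ^ q) (hf2 : ∀ t, (((f : K →+* K)) ^ 2) t = t) :
    ∃ a b : ↥(twGroup good2_E6 T3_E6 T4_E6 T19_E6 f),
      Subgroup.closure ({a, b} : Set ↥(twGroup good2_E6 T3_E6 T4_E6 T19_E6 f)) = ⊤ := by
  classical
  have hq2 : 2 ≤ q := hq.two_le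
  have hK4 : 4 ≤ Fintype.card K := by
    rw [hK]
    calc 4 = 2 ^ 2 := by norm_num
      _ ≤ q ^ 2 := Nat.pow_le_pow_left hq2 2
  have hff : ∀ t, f (f t) = t := fun t => hf2 t
  have hf1 : f 1 = 1 := map_one f
  obtain ⟨g, hg0, hgen, hgeninv, hgord⟩ := CGen.exists_gen K
  have hfg0 : f g ≠ 0 := (map_ne_zero f).mpr hg0
  have hG1 := good1_E6
  -- the elements
  obtain ⟨x, hx⟩ : ∃ x : K → GL chevE6.Idx K,
      ∀ t, x t = clsHom good2_E6 T3_E6 T4_E6 T19_E6 f he0 (upperSL t) := ⟨_, fun _ => rfl⟩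
  obtain ⟨h, hh⟩ : ∃ h : GL chevE6.Idx K,
      h = clsHom good2_E6 T3_E6 T4_E6 T19_E6 f he0 (diagSL g hg0) := ⟨_, rfl⟩
  obtain ⟨n, hn⟩ : ∃ n : GL chevE6.Idx K, n = nWordGL good2_E6 wE6 := ⟨_, rfl⟩
  set M : Subgroup (GL chevE6.Idx K) := Subgroup.closure {h, n * x 1} with hM
  have hhM : h ∈ M := Subgroup.subset_closure (by simp)
  have hbM : n * x 1 ∈ M := Subgroup.subset_closure (by simp)
  -- explicit forms
  have hx2 : ∀ t, x t = xGL good1_E6 (ltE6 56 (by norm_num)) t * xGL good1_E6 (ltE6 36 (by norm_num)) (f t) :=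
    fun t => by rw [hx, upper2_0]
  have hxadd : ∀ s t, x (s + t) = x s * x t := by
    intro s t
    rw [hx, hx, hx, ← map_mul, upperSL_mul]
  obtain ⟨⟨⟨r1, e1⟩, ⟨r2, e2⟩⟩, ⟨⟨r3, e3⟩, ⟨r4, e4⟩⟩, ⟨⟨r5, e5⟩, ⟨r6, e6⟩⟩, ⟨⟨r7, e7⟩, ⟨r8, e8⟩⟩,
    ⟨⟨r9, e9⟩, ⟨r10, e10⟩⟩, ⟨⟨r11, e11⟩, ⟨r12, e12⟩⟩, ⟨⟨r13, e13⟩, ⟨r14, e14⟩⟩⟩ := factsE6
  have hV : ∀ t, n * x t * n⁻¹ = xGL good1_E6 (ltE6 50 (by norm_num)) t *
      xGL good1_E6 (ltE6 48 (by norm_num)) (f t) := by
    intro t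
    have c1 := conjW (K := K) good2_E6 hwE6 (ltE6 56 (by norm_num)) (ltE6 50 (by norm_num)) r1 e1 t
    have c2 := conjW (K := K) good2_E6 hwE6 (ltE6 36 (by norm_num)) (ltE6 48 (by norm_num)) r2 e2 (f t)
    rw [← hn] at c1 c2
    have e : n * x t * n⁻¹ = (n * xGL good1_E6 (ltE6 56 (by norm_num)) t * n⁻¹) *
        (n * xGL good1_E6 (ltE6 36 (by norm_num)) (f t) * n⁻¹) := by
      rw [hx2]; group
    rw [e, c1, c2]
    congr 2
    · push_cast
      ring
    · push_cast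
      ring
  -- the characters
  obtain ⟨⟨p1, p2⟩, ⟨p3, p4⟩⟩ := pairE6
  have hχV : ∀ t, h * (n * x t * n⁻¹) * h⁻¹ = n * x (g⁻¹ * t) * n⁻¹ := by
    intro t
    rw [hV, hV, hh]
    have c1 := conjH2 f hg0 (ltE6 50 (by norm_num)) p1 p2 t
    have c2 := conjH2 f hg0 (ltE6 48 (by norm_num)) p3 p4 (f t)
    set H := clsHom good2_E6 T3_E6 T4_E6 T19_E6 f he0 (diagSL g hg0) with hH
    have e : H * (xGL good1_E6 (ltE6 50 (by norm_num)) t * xGL good1_E6 (ltE6 48 (by norm_num)) (f t)) * H⁻¹ =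
        (H * xGL good1_E6 (ltE6 50 (by norm_num)) t * H⁻¹) *
        (H * xGL good1_E6 (ltE6 48 (by norm_num)) (f t) * H⁻¹) := by group
    rw [e, c1, c2]
    congr 2
    · rw [_root_.zpow_neg_one, zpow_zero, one_mul]
    · rw [map_mul, map_inv₀, _root_.zpow_neg_one, zpow_zero, one_mul]
  have hχ₀ : ∀ t, h * x t * h⁻¹ = x (g * g * t) := by
    intro t
    rw [hh, hx, hx, ← map_inv, ← map_mul, ← map_mul, diagSL_conj_upperSL']
  have hdiag : h ∈ chevE6.diagonalSubgroup K := by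
    rw [hh]
    exact clsHom_diag_mem good2_E6 T3_E6 T4_E6 T19_E6 f he0 hg0
  have hcomm : Commute h (n * h * n⁻¹) := by
    have hnN : n ∈ chevE6.monomialSubgroup K := by rw [hn]; exact nWordGL_mem good2_E6 wE6
    have := conj_mem_diagonal (monomialSubgroup_le_normalizer good2_E6 hnN) hdiag
    exact diagonalSubgroup_comm good1_E6 _ hdiag _ this
  have hχ1 : g⁻¹ ≠ 1 := by
    intro h1
    have : Fintype.card K ≤ 3 := by
      apply card_le_three_of_sq
      intro y hy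
      obtain ⟨j, hj⟩ := hgeninv y hy
      rw [hj, h1, one_pow, one_mul]
    omega
  have hgg1 : g * g ≠ 1 := by
    intro h1
    have : Fintype.card K ≤ 3 := by
      apply card_le_three_of_sq
      intro y hy
      obtain ⟨j, hj⟩ := hgen y hy
      rw [hj, ← mul_pow, h1, one_pow]
    omega
  obtain ⟨hxM, hnM⟩ := strategyT M h n x hxadd hχ₀ hχV hcomm (mul_ne_zero hg0 hg0) hgg1 hχ1 hgeninv hhM hbM
  -- powers of the Coxeter element
  obtain ⟨n5, hn5⟩ : ∃ n5 : GL chevE6.Idx K, n5 = nWordGL good2_E6 w5E6 := ⟨_, rfl⟩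
  obtain ⟨n6, hn6⟩ : ∃ n6 : GL chevE6.Idx K, n6 = nWordGL good2_E6 w6E6 := ⟨_, rfl⟩
  obtain ⟨n9, hn9⟩ : ∃ n9 : GL chevE6.Idx K, n9 = nWordGL good2_E6 w9E6 := ⟨_, rfl⟩
  have hn5M : n5 ∈ M := by
    have : n5 = n * (n * (n * (n * n))) := by
      have hw : w5E6 = wE6 ++ (wE6 ++ (wE6 ++ (wE6 ++ wE6))) := by decide
      rw [hn5, hn, hw, nWordGL_append, nWordGL_append, nWordGL_append, nWordGL_append]
    rw [this]
    exact mul_mem hnM (mul_mem hnM (mul_mem hnM (mul_mem hnM hnM)))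
  have hn6M : n6 ∈ M := by
    have : n6 = n * n5 := by
      have hw : w6E6 = wE6 ++ w5E6 := by decide
      rw [hn6, hn, hn5, hw, nWordGL_append]
    rw [this]
    exact mul_mem hnM hn5M
  have hn9M : n9 ∈ M := by
    have : n9 = n * (n * (n * n6)) := by
      have hw : w9E6 = wE6 ++ (wE6 ++ (wE6 ++ w6E6)) := by decide
      rw [hn9, hn, hn6, hw, nWordGL_append, nWordGL_append, nWordGL_append]
    rw [this]
    exact mul_mem hnM (mul_mem hnM (mul_mem hnM hn6M))
  obtain ⟨⟨st1, st2, st3, st4⟩, ⟨t1, t2, t3, t4, t5⟩, ⟨u1, u2, u3, u4, u5⟩, ⟨v1, v2, v3, v4⟩⟩ := termsE6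
  have hcm : ∀ {a b : ℕ} (ha : a < 72) (hb : b < 72) (hab : b ≠ a) (habn : b ≠ chevE6.neg a)
      (hterms : (tabOf chevE6).commTerms a b = []) (t u : K),
      Commute (xGL good1_E6 (ltE6 a ha) t) (xGL good1_E6 (ltE6 b hb) u) :=
    fun ha hb hab habn hterms t u =>
      xGL_commute_of_terms_nil good2_E6 T3_E6 T4_E6 (ltE6 _ ha) (ltE6 _ hb) hab habn hterms t u
  obtain ⟨ng56, ng36, ng42, ng37, ng46, ng39, ng61, ng49, ng20, ng9, ng19, ng29, ng15⟩ := negE6
  -- the negative root elements of the class `{p₁, p₆}`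
  have hlow0 : ∀ t, clsHom good2_E6 T3_E6 T4_E6 T19_E6 f he0 (lowerSL t) ∈ M := by
    intro t
    have c1 := conjW (K := K) good2_E6 hw6E6 (ltE6 56 (by norm_num)) (ltE6 35 (by norm_num)) r7 e7 (-(f t))
    have c2 := conjW (K := K) good2_E6 hw6E6 (ltE6 36 (by norm_num)) (ltE6 15 (by norm_num)) r8 e8
      (f (-(f t)))
    rw [← hn6] at c1 c2
    have e : n6 * x (-(f t)) * n6⁻¹ = (n6 * xGL good1_E6 (ltE6 56 (by norm_num)) (-(f t)) * n6⁻¹) *
        (n6 * xGL good1_E6 (ltE6 36 (by norm_num)) (f (-(f t))) * n6⁻¹) := by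
      rw [hx2]; group
    have e' : clsHom good2_E6 T3_E6 T4_E6 T19_E6 f he0 (lowerSL t) = n6 * x (-(f t)) * n6⁻¹ := by
      rw [e, c1, c2, lower2_0]
      rw [(hcm (a := 15) (b := 35) (by norm_num) (by norm_num) (by decide) (by rw [ng15]; decide) v4 _ _).eq]
      congr 2
      · push_cast
        ring
      · rw [map_neg, hff]
        push_cast
        ring
    rw [e']
    exact mul_mem (mul_mem hn6M (hxM _)) (inv_mem hn6M)
  -- the root elements of the class `{p₃, p₅}`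
  have hV1 : n * x 1 * n⁻¹ ∈ M := mul_mem (mul_mem hnM (hxM 1)) (inv_mem hnM)
  have hup2 : ∀ t, clsHom good2_E6 T3_E6 T4_E6 T19_E6 f he2 (upperSL t) ∈ M := by
    intro t
    obtain ⟨s, hs⟩ : ∃ s : K, s = -(f t) := ⟨_, rfl⟩
    have q1 := singleTerm_rel (K := K) good2_E6 T3_E6 T4_E6 st1 (ltE6 61 (by norm_num)) (ltE6 56 (by norm_num))
      (ltE6 50 (by norm_num)) s 1
    have q2 := singleTerm_rel (K := K) good2_E6 T3_E6 T4_E6 st2 (ltE6 49 (by norm_num)) (ltE6 36 (by norm_num))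
      (ltE6 48 (by norm_num)) (f s) (f 1)
    have key := two_comm
      (A := xGL good1_E6 (ltE6 56 (by norm_num)) s) (B := xGL good1_E6 (ltE6 36 (by norm_num)) (f s))
      (A' := xGL good1_E6 (ltE6 50 (by norm_num)) 1) (B' := xGL good1_E6 (ltE6 48 (by norm_num)) (f 1))
      (hcm (a := 56) (b := 48) (by norm_num) (by norm_num) (by decide) (by rw [ng56]; decide) t1 _ _)
      (hcm (a := 36) (b := 50) (by norm_num) (by norm_num) (by decide) (by rw [ng36]; decide) t2 _ _)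
      q1 q2
      (hcm (a := 61) (b := 36) (by norm_num) (by norm_num) (by decide) (by rw [ng61]; decide) t3 _ _)
      (hcm (a := 61) (b := 48) (by norm_num) (by norm_num) (by decide) (by rw [ng61]; decide) t4 _ _)
      (hcm (a := 61) (b := 49) (by norm_num) (by norm_num) (by decide) (by rw [ng61]; decide) t5 _ _)
    rw [← hV, ← hx2] at key
    have hZ : xGL good1_E6 (ltE6 61 (by norm_num)) (-(((-1 : ℤ) : ℤ) : K) * s * 1) *
        xGL good1_E6 (ltE6 49 (by norm_num)) (-(((1 : ℤ) : ℤ) : K) * f s * f 1) ∈ M := by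
      have e : xGL good1_E6 (ltE6 61 (by norm_num)) (-(((-1 : ℤ) : ℤ) : K) * s * 1) *
          xGL good1_E6 (ltE6 49 (by norm_num)) (-(((1 : ℤ) : ℤ) : K) * f s * f 1) =
          (x s * (n * x 1 * n⁻¹))⁻¹ * ((n * x 1 * n⁻¹) * x s) := by
        rw [key]
        group
      rw [e]
      exact mul_mem (inv_mem (mul_mem (hxM s) hV1)) (mul_mem hV1 (hxM s))
    have c1 := conjW (K := K) good2_E6 hw5E6 (ltE6 61 (by norm_num)) (ltE6 37 (by norm_num)) r3 e3
      (-(((-1 : ℤ) : ℤ) : K) * s * 1)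
    have c2 := conjW (K := K) good2_E6 hw5E6 (ltE6 49 (by norm_num)) (ltE6 42 (by norm_num)) r4 e4
      (-(((1 : ℤ) : ℤ) : K) * f s * f 1)
    rw [← hn5] at c1 c2
    have e' : clsHom good2_E6 T3_E6 T4_E6 T19_E6 f he2 (upperSL t) =
        n5 * (xGL good1_E6 (ltE6 61 (by norm_num)) (-(((-1 : ℤ) : ℤ) : K) * s * 1) *
          xGL good1_E6 (ltE6 49 (by norm_num)) (-(((1 : ℤ) : ℤ) : K) * f s * f 1)) * n5⁻¹ := by
      have e : n5 * (xGL good1_E6 (ltE6 61 (by norm_num)) (-(((-1 : ℤ) : ℤ) : K) * s * 1) *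
          xGL good1_E6 (ltE6 49 (by norm_num)) (-(((1 : ℤ) : ℤ) : K) * f s * f 1)) * n5⁻¹ =
          (n5 * xGL good1_E6 (ltE6 61 (by norm_num)) (-(((-1 : ℤ) : ℤ) : K) * s * 1) * n5⁻¹) *
          (n5 * xGL good1_E6 (ltE6 49 (by norm_num)) (-(((1 : ℤ) : ℤ) : K) * f s * f 1) * n5⁻¹) := by group
      rw [e, c1, c2, upper2_2]
      rw [(hcm (a := 42) (b := 37) (by norm_num) (by norm_num) (by decide) (by rw [ng42]; decide) v1 _ _).eq]
      congr 2
      · rw [hs]
        push_cast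
        ring
      · rw [hs, map_neg, hff, hf1]
        push_cast
        ring
    rw [e']
    exact mul_mem (mul_mem hn5M hZ) (inv_mem hn5M)
  have hlow2 : ∀ t, clsHom good2_E6 T3_E6 T4_E6 T19_E6 f he2 (lowerSL t) ∈ M := by
    intro t
    have c1 := conjW (K := K) good2_E6 hw6E6 (ltE6 42 (by norm_num)) (ltE6 34 (by norm_num)) r5 e5 (-(f t))
    have c2 := conjW (K := K) good2_E6 hw6E6 (ltE6 37 (by norm_num)) (ltE6 29 (by norm_num)) r6 e6
      (f (-(f t)))
    rw [← hn6] at c1 c2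
    have e : n6 * clsHom good2_E6 T3_E6 T4_E6 T19_E6 f he2 (upperSL (-(f t))) * n6⁻¹ =
        (n6 * xGL good1_E6 (ltE6 42 (by norm_num)) (-(f t)) * n6⁻¹) *
        (n6 * xGL good1_E6 (ltE6 37 (by norm_num)) (f (-(f t))) * n6⁻¹) := by
      rw [upper2_2]; group
    have e' : clsHom good2_E6 T3_E6 T4_E6 T19_E6 f he2 (lowerSL t) =
        n6 * clsHom good2_E6 T3_E6 T4_E6 T19_E6 f he2 (upperSL (-(f t))) * n6⁻¹ := by
      rw [e, c1, c2, lower2_2]
      rw [(hcm (a := 29) (b := 34) (by norm_num) (by norm_num) (by decide) (by rw [ng29]; decide) v3 _ _).eq]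
      congr 2
      · push_cast
        ring
      · rw [map_neg, hff]
        push_cast
        ring
    rw [e']
    exact mul_mem (mul_mem hn6M (hup2 _)) (inv_mem hn6M)
  -- the long root elements
  have hV9 : n9 * x 1 * n9⁻¹ ∈ M := mul_mem (mul_mem hn9M (hxM 1)) (inv_mem hn9M)
  have hV9eq : n9 * x 1 * n9⁻¹ = xGL good1_E6 (ltE6 9 (by norm_num)) (-(f 1)) *
      xGL good1_E6 (ltE6 19 (by norm_num)) 1 := by
    have c1 := conjW (K := K) good2_E6 hw9E6 (ltE6 56 (by norm_num)) (ltE6 19 (by norm_num)) r9 e9 (1 : K)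
    have c2 := conjW (K := K) good2_E6 hw9E6 (ltE6 36 (by norm_num)) (ltE6 9 (by norm_num)) r10 e10 (f 1)
    rw [← hn9] at c1 c2
    have e : n9 * x 1 * n9⁻¹ = (n9 * xGL good1_E6 (ltE6 56 (by norm_num)) 1 * n9⁻¹) *
        (n9 * xGL good1_E6 (ltE6 36 (by norm_num)) (f 1) * n9⁻¹) := by
      rw [hx2]; group
    rw [e, c1, c2]
    rw [(hcm (a := 9) (b := 19) (by norm_num) (by norm_num) (by decide) (by rw [ng9]; decide) u5 _ _).eq]
    congr 2
    · push_cast
      ring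
    · push_cast
      ring
  have htr : ∀ s : K, xGL good1_E6 (ltE6 20 (by norm_num)) (s + f s) ∈ M := by
    intro s
    have q1 := singleTerm_rel (K := K) good2_E6 T3_E6 T4_E6 st3 (ltE6 20 (by norm_num)) (ltE6 56 (by norm_num))
      (ltE6 9 (by norm_num)) s (-(f 1))
    have q2 := singleTerm_rel (K := K) good2_E6 T3_E6 T4_E6 st4 (ltE6 20 (by norm_num)) (ltE6 36 (by norm_num))
      (ltE6 19 (by norm_num)) (f s) 1
    have key := two_comm
      (A := xGL good1_E6 (ltE6 56 (by norm_num)) s) (B := xGL good1_E6 (ltE6 36 (by norm_num)) (f s))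
      (A' := xGL good1_E6 (ltE6 9 (by norm_num)) (-(f 1))) (B' := xGL good1_E6 (ltE6 19 (by norm_num)) 1)
      (hcm (a := 56) (b := 19) (by norm_num) (by norm_num) (by decide) (by rw [ng56]; decide) u1 _ _)
      (hcm (a := 36) (b := 9) (by norm_num) (by norm_num) (by decide) (by rw [ng36]; decide) u2 _ _)
      q1 q2
      (hcm (a := 20) (b := 36) (by norm_num) (by norm_num) (by decide) (by rw [ng20]; decide) u3 _ _)
      (hcm (a := 20) (b := 19) (by norm_num) (by norm_num) (by decide) (by rw [ng20]; decide) u4 _ _)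
      (xGL_self_commute good2_E6 _ _ _)
    rw [← hV9eq, ← hx2, xGL_mul] at key
    have e : xGL good1_E6 (ltE6 20 (by norm_num)) (s + f s) =
        (x s * (n9 * x 1 * n9⁻¹))⁻¹ * ((n9 * x 1 * n9⁻¹) * x s) := by
      rw [key]
      have : -(((1 : ℤ) : ℤ) : K) * s * -(f 1) + -(((-1 : ℤ) : ℤ) : K) * f s * 1 = s + f s := by
        rw [hf1]
        push_cast
        ring
      rw [this]
      group
    rw [e]
    exact mul_mem (inv_mem (mul_mem (hxM s) hV9)) (mul_mem hV9 (hxM s))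
  have h20 : ∀ u : K, f u = u → xGL good1_E6 (ltE6 20 (by norm_num)) u ∈ M := by
    intro u hu
    obtain ⟨s, hs⟩ := trace_surjective_two hq2 hK f hf hu
    rw [← hs]
    exact htr s
  have h46 : ∀ u : K, f u = u → xGL good1_E6 (ltE6 46 (by norm_num)) u ∈ M := by
    intro u hu
    have c := conjW (K := K) good2_E6 hwE6 (ltE6 20 (by norm_num)) (ltE6 46 (by norm_num)) r11 e11 u
    rw [← hn] at c
    have e : xGL good1_E6 (ltE6 46 (by norm_num)) u = n * xGL good1_E6 (ltE6 20 (by norm_num)) u * n⁻¹ := by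
      rw [c]
      congr 1
      push_cast
      ring
    rw [e]
    exact mul_mem (mul_mem hnM (h20 u hu)) (inv_mem hnM)
  have h39 : ∀ u : K, f u = u → xGL good1_E6 (ltE6 39 (by norm_num)) u ∈ M := by
    intro u hu
    have c := conjW (K := K) good2_E6 hwE6 (ltE6 46 (by norm_num)) (ltE6 39 (by norm_num)) r12 e12 u
    rw [← hn] at c
    have e : xGL good1_E6 (ltE6 39 (by norm_num)) u = n * xGL good1_E6 (ltE6 46 (by norm_num)) u * n⁻¹ := by
      rw [c]
      congr 1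
      push_cast
      ring
    rw [e]
    exact mul_mem (mul_mem hnM (h46 u hu)) (inv_mem hnM)
  have h25 : ∀ u : K, f u = u → xGL good1_E6 (ltE6 25 (by norm_num)) u ∈ M := by
    intro u hu
    have c := conjW (K := K) good2_E6 hw6E6 (ltE6 46 (by norm_num)) (ltE6 25 (by norm_num)) r13 e13 (-u)
    rw [← hn6] at c
    have e : xGL good1_E6 (ltE6 25 (by norm_num)) u = n6 * xGL good1_E6 (ltE6 46 (by norm_num)) (-u) * n6⁻¹ := by
      rw [c]
      congr 1
      push_cast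
      ring
    rw [e]
    exact mul_mem (mul_mem hn6M (h46 (-u) (by rw [map_neg, hu]))) (inv_mem hn6M)
  have h32 : ∀ u : K, f u = u → xGL good1_E6 (ltE6 32 (by norm_num)) u ∈ M := by
    intro u hu
    have c := conjW (K := K) good2_E6 hw6E6 (ltE6 39 (by norm_num)) (ltE6 32 (by norm_num)) r14 e14 (-u)
    rw [← hn6] at c
    have e : xGL good1_E6 (ltE6 32 (by norm_num)) u = n6 * xGL good1_E6 (ltE6 39 (by norm_num)) (-u) * n6⁻¹ := by
      rw [c]
      congr 1
      push_cast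
      ring
    rw [e]
    exact mul_mem (mul_mem hn6M (h39 (-u) (by rw [map_neg, hu]))) (inv_mem hn6M)
  -- the twisted group lies in `M`
  have hle : twGroup good2_E6 T3_E6 T4_E6 T19_E6 f ≤ M := by
    unfold twGroup
    rw [Subgroup.closure_le]
    rintro y ⟨c, hc, t, hadm, hy⟩
    have hcc : c = (1, 1) ∨ c = (3, 1) ∨ c = (0, 2) ∨ c = (2, 2) := by
      simpa using hc
    rcases hcc with rfl | rfl | rfl | rfl
    · have hft : f t = t := (adm_one_iff f t).mp hadm
      rcases hy with rfl | rfl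
      · rw [SetLike.mem_coe, upper1_1]
        exact h46 t hft
      · rw [SetLike.mem_coe, lower1_1]
        exact h25 t hft
    · have hft : f t = t := (adm_one_iff f t).mp hadm
      rcases hy with rfl | rfl
      · rw [SetLike.mem_coe, upper1_3]
        exact h39 t hft
      · rw [SetLike.mem_coe, lower1_3]
        exact h32 t hft
    · rcases hy with rfl | rfl
      · rw [SetLike.mem_coe, ← hx]
        exact hxM t
      · exact hlow0 t
    · rcases hy with rfl | rfl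
      · exact hup2 t
      · exact hlow2 t
  -- membership in the twisted group
  have hhG : h ∈ twGroup good2_E6 T3_E6 T4_E6 T19_E6 f := by
    rw [hh]
    exact diag_mem_twGroup good2_E6 T3_E6 T4_E6 T19_E6 f he0 hg0 (hf2 g)
  have hnG : n ∈ twGroup good2_E6 T3_E6 T4_E6 T19_E6 f := by
    rw [hn]
    have := nWordGL_flatMap_mem good2_E6 T3_E6 T4_E6 T19_E6 f (wcls := [(1, 1), (3, 1), (0, 2), (2, 2)])
      (by decide)
    exact this
  have hx1G : x 1 ∈ twGroup good2_E6 T3_E6 T4_E6 T19_E6 f := by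
    rw [hx]
    exact upper_mem_twGroup good2_E6 T3_E6 T4_E6 T19_E6 f he0 Adm.one
  have hbG : n * x 1 ∈ twGroup good2_E6 T3_E6 T4_E6 T19_E6 f := mul_mem hnG hx1G
  refine ⟨⟨h, hhG⟩, ⟨n * x 1, hbG⟩, ?_⟩
  rw [eq_top_iff]
  intro y _
  have hy : (y : GL chevE6.Idx K) ∈ M := hle y.2
  have hmap : (Subgroup.closure ({⟨h, hhG⟩, ⟨n * x 1, hbG⟩} :
      Set ↥(twGroup good2_E6 T3_E6 T4_E6 T19_E6 f))).map
      (twGroup good2_E6 T3_E6 T4_E6 T19_E6 f).subtype = M := by
    rw [MonoidHom.map_closure, hM]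
    refine congrArg Subgroup.closure ?_
    ext z
    simp only [Set.mem_image, Set.mem_insert_iff, Set.mem_singleton_iff, Subgroup.coe_subtype]
    constructor
    · rintro ⟨z', rfl | rfl, rfl⟩
      · left; rfl
      · right; rfl
    · rintro (rfl | rfl)
      · exact ⟨_, Or.inl rfl, rfl⟩
      · exact ⟨_, Or.inr rfl, rfl⟩
  rw [← hmap] at hy
  obtain ⟨y', hy', hyy⟩ := hy
  have : y' = y := Subtype.ext hyy
  rwa [this] at hy'

end main

end Cfsg.Agent.Helper8.TwGen
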