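import Cfsg.Agent.Helper8.WallD
import Cfsg.Agent.Helper8.UnitaryLines
set_option autoImplicit false
set_option linter.unusedSectionVars false

/-!
Centralisers of unipotent elements in the unitary groups: the norm lemma for unipotent
polynomials, and the fixed points of a semilinear involution.
-/

namespace Cfsg.Agent.Helper8.UCent

open Polynomial Matrix Cfsg Cfsg.Agent.Helper8.GUOrder Cfsg.Agent.Helper8.SUCenter
  Cfsg.Agent.Helper8.AutSU Cfsg.Agent.Helper8.PU3 Cfsg.Agent.Helper8.PSUSing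
  Cfsg.Agent.Helper8.RegSU Cfsg.Agent.Helper8.Wall

variable {K : Type*} [Field K] [Fintype K] {q : ℕ} [hF : Fact (Fintype.card K = q ^ 2)]

local notation "σ" => Polynomial.map (frobq K q)

/-- an element moved by the Frobenius -/
theorem exists_moved : ∃ θ : K, θ ^ q ≠ θ := exists_not_fixed (K := K) hF.out

theorem moved_sub_ne_zero {θ : K} (hθ : θ ^ q ≠ θ) : θ - θ ^ q ≠ 0 := by
  intro h
  apply hθ
  linear_combination -h

/-- the trace is onto the fixed field -/
theorem exists_tr {e : K} (he : e ^ q = e) : ∃ μ : K, μ + μ ^ q = e :=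
  Cfsg.Agent.Helper8.UnitaryLines.exists_trace hF.out he

/-- **the norm lemma for unipotent polynomials**: `1 + X` is a norm modulo every power of `X` -/
theorem exists_norm_unip (N : ℕ) :
    ∃ p r : K[X], p.coeff 0 = 1 ∧ σ p * p = 1 + X + X ^ (N + 1) * r := by
  induction N with
  | zero =>
    refine ⟨1, -1, by simp, ?_⟩
    rw [Polynomial.map_one]
    ring
  | succ N ih =>
    obtain ⟨p, r, hp0, hpr⟩ := ih
    -- `r` is fixed by the Frobenius
    have hr : σ r = r := by
      have h1 := congrArg σ hpr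
      rw [Polynomial.map_mul, map_map_frobq, Polynomial.map_add, Polynomial.map_add,
        Polynomial.map_one, Polynomial.map_X, Polynomial.map_mul, Polynomial.map_pow,
        Polynomial.map_X, mul_comm, hpr] at h1
      have h2 : (X : K[X]) ^ (N + 1) * r = X ^ (N + 1) * σ r := by linear_combination h1
      exact (mul_left_cancel₀ (pow_ne_zero _ Polynomial.X_ne_zero) h2).symm
    obtain ⟨e, r₁, hrd⟩ : ∃ (e : K) (r₁ : K[X]), r = C e + X * r₁ := by
      refine ⟨r.coeff 0, r.divX, ?_⟩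
      conv_lhs => rw [← Polynomial.divX_mul_X_add r]
      ring
    have hee : e ^ q = e := by
      have := congrArg (fun P : K[X] => P.coeff 0) hr
      simp only [Polynomial.coeff_map, frobq_apply] at this
      rw [hrd] at this
      simpa using this
    have hee' : (-e) ^ q = -e := by
      rw [neg_pow_q hF.out, hee]
    obtain ⟨μ, hμ⟩ := exists_tr (K := K) (q := q) hee'
    refine ⟨p * (1 + C μ * X ^ (N + 1)),
      r₁ - C e * (1 + X ^ N * r) + (1 + X + X ^ (N + 1) * r) * C (μ * μ ^ q) * X ^ N, ?_, ?_⟩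
    · rw [Polynomial.mul_coeff_zero, hp0]
      simp
    · rw [Polynomial.map_mul, Polynomial.map_add, Polynomial.map_one, Polynomial.map_mul,
        Polynomial.map_C, Polynomial.map_pow, Polynomial.map_X, frobq_apply]
      have hC : (C (μ ^ q) : K[X]) + C μ = - C e := by
        rw [← C_add, ← C_neg]
        congr 1
        linear_combination hμ
      have hCC : (C (μ * μ ^ q) : K[X]) = C μ * C (μ ^ q) := by rw [C_mul]
      rw [hCC]
      have key : σ p * (1 + C (μ ^ q) * X ^ (N + 1)) * (p * (1 + C μ * X ^ (N + 1))) =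
          (σ p * p) * (1 + (C (μ ^ q) + C μ) * X ^ (N + 1) + C μ * C (μ ^ q) * X ^ (N + 1) * X ^ (N + 1)) := by
        ring
      rw [key, hpr, hC, hrd]
      ring

/-- the fixed points of a semilinear involution of a finite vector space -/
theorem card_fixed_sq {M : Type*} [AddCommGroup M] [Module K M] [Finite M] (R : AddSubgroup M)
    (τ : M → M) (hadd : ∀ x y, τ (x + y) = τ x + τ y)
    (hsmul : ∀ (c : K) x, τ (c • x) = c ^ q • τ x)
    (hττ : ∀ x, τ (τ x) = x) (hRτ : ∀ x ∈ R, τ x ∈ R) (hRs : ∀ (c : K), ∀ x ∈ R, c • x ∈ R) :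
    Nat.card {x : M // x ∈ R ∧ τ x = x} ^ 2 = Nat.card R := by
  obtain ⟨θ, hθ⟩ := exists_moved (K := K) (q := q)
  have hδ := moved_sub_ne_zero hθ
  set δ : K := θ - θ ^ q with hδdef
  have hδq : δ ^ q = -δ := by
    rw [hδdef, sub_pow_q hF.out, ← frobq_apply (F := K) (q := q), ← frobq_apply (F := K) (q := q), frobq_frobq]
    ring
  have hzero : τ 0 = 0 := by
    have h := hadd 0 0
    rw [add_zero] at h
    exact left_eq_add.mp h
  have hneg : ∀ x, τ (-x) = -τ x := by
    intro x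
    have h := hadd x (-x)
    rw [add_neg_cancel, hzero] at h
    exact (neg_eq_of_add_eq_zero_right h.symm).symm
  have hsub : ∀ x y, τ (x - y) = τ x - τ y := by
    intro x y
    rw [sub_eq_add_neg, hadd, hneg, ← sub_eq_add_neg]
  have hinvq : (δ⁻¹) ^ q = -δ⁻¹ := by
    rw [inv_pow, hδq, inv_neg]
  rw [sq, ← Nat.card_prod]
  apply Nat.card_congr
  refine
    { toFun := fun ab => ⟨ab.1.1 + θ • ab.2.1,
        R.add_mem ab.1.2.1 (hRs θ _ ab.2.2.1)⟩
      invFun := fun x =>
        (⟨x.1 - θ • (δ⁻¹ • (x.1 - τ x.1)), R.sub_mem x.2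
            (hRs _ _ (hRs _ _ (R.sub_mem x.2 (hRτ _ x.2)))), ?_⟩,
          ⟨δ⁻¹ • (x.1 - τ x.1), hRs _ _ (R.sub_mem x.2 (hRτ _ x.2)), ?_⟩)
      left_inv := ?_
      right_inv := ?_ }
  · rw [hsub, hsmul, hsmul, hinvq, hsub, hττ]
    have e : θ • δ⁻¹ • (x.1 - τ x.1) - θ ^ q • δ⁻¹ • (x.1 - τ x.1) = x.1 - τ x.1 := by
      rw [← sub_smul, ← hδdef, smul_smul, mul_inv_cancel₀ hδ, one_smul]
    have e2 : θ ^ q • (-δ⁻¹) • (τ x.1 - x.1) = θ ^ q • δ⁻¹ • (x.1 - τ x.1) := by
      rw [neg_smul, ← smul_neg, neg_sub]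
    rw [e2]
    rw [sub_eq_sub_iff_add_eq_add]
    have e3 : θ • δ⁻¹ • (x.1 - τ x.1) = x.1 - τ x.1 + θ ^ q • δ⁻¹ • (x.1 - τ x.1) :=
      sub_eq_iff_eq_add.mp e
    rw [e3]
    abel
  · rw [hsmul, hinvq, hsub, hττ, neg_smul, ← smul_neg, neg_sub]
  · rintro ⟨⟨a, ha, hta⟩, ⟨b, hb, htb⟩⟩
    have e : a + θ • b - τ (a + θ • b) = δ • b := by
      rw [hadd, hsmul, hta, htb, hδdef, sub_smul]
      abel
    apply Prod.ext
    · apply Subtype.ext
      show a + θ • b - θ • δ⁻¹ • (a + θ • b - τ (a + θ • b)) = a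
      rw [e, smul_smul δ⁻¹, inv_mul_cancel₀ hδ, one_smul]
      abel
    · apply Subtype.ext
      show δ⁻¹ • (a + θ • b - τ (a + θ • b)) = b
      rw [e, smul_smul, inv_mul_cancel₀ hδ, one_smul]
  · rintro ⟨x, hx⟩
    apply Subtype.ext
    show x - θ • δ⁻¹ • (x - τ x) + θ • δ⁻¹ • (x - τ x) = x
    abel

end Cfsg.Agent.Helper8.UCent
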