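import Cfsg.Agent.Helper8.UCentA
import Cfsg.Agent.Helper8.JCentF
set_option autoImplicit false
set_option linter.unusedSectionVars false

/-!
Centralisers of unipotent elements in the unitary groups: the block reversal form, for which the
nilpotent Jordan matrix is self-adjoint, and the adjoint on the commuting algebra.
-/

namespace Cfsg.Agent.Helper8.UCent

open Polynomial Matrix Cfsg Cfsg.Agent.Helper8.GUOrder Cfsg.Agent.Helper8.SUCenter
  Cfsg.Agent.Helper8.AutSU Cfsg.Agent.Helper8.PU3 Cfsg.Agent.Helper8.PSUSing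
  Cfsg.Agent.Helper8.RegSU Cfsg.Agent.Helper8.Wall Cfsg.Agent.Helper8.JCent

variable {K : Type*} [Field K] [Fintype K] {q : ℕ} [hF : Fact (Fintype.card K = q ^ 2)]
variable {t : ℕ} (d : Fin t → ℕ)

/-- reversal inside each block -/
def rev (a : Idx d) : Idx d := ⟨a.1, ⟨d a.1 - 1 - (a.2 : ℕ), by have := a.2.2; omega⟩⟩

theorem rev_fst (a : Idx d) : (rev d a).1 = a.1 := rfl

theorem rev_snd (a : Idx d) : ((rev d a).2 : ℕ) = d a.1 - 1 - (a.2 : ℕ) := rfl

theorem rev_rev (a : Idx d) : rev d (rev d a) = a := by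
  refine idx_ext rfl ?_
  rw [rev_snd, rev_snd, rev_fst]
  have := a.2.2
  omega

theorem rev_injective : Function.Injective (rev d) := fun a b h => by
  rw [← rev_rev d a, h, rev_rev]

theorem eq_rev_iff (a b : Idx d) : a = rev d b ↔ b = rev d a := by
  constructor
  · rintro rfl; rw [rev_rev]
  · rintro rfl; rw [rev_rev]

/-- the block reversal matrix -/
def EE (K : Type*) [Field K] : Matrix (Idx d) (Idx d) K := fun a b => if a = rev d b then 1 else 0

theorem EE_mul_apply (M : Matrix (Idx d) (Idx d) K) (a b : Idx d) :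
    (EE d K * M) a b = M (rev d a) b := by
  rw [Matrix.mul_apply, Finset.sum_eq_single (rev d a)]
  · unfold EE
    rw [if_pos (rev_rev d a).symm, one_mul]
  · intro c _ hc
    unfold EE
    rw [if_neg, zero_mul]
    intro h
    apply hc
    rw [h, rev_rev]
  · intro h
    exact absurd (Finset.mem_univ _) h

theorem mul_EE_apply (M : Matrix (Idx d) (Idx d) K) (a b : Idx d) :
    (M * EE d K) a b = M a (rev d b) := by
  rw [Matrix.mul_apply, Finset.sum_eq_single (rev d b)]
  · unfold EE
    rw [if_pos rfl, mul_one]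
  · intro c _ hc
    unfold EE
    rw [if_neg hc, mul_zero]
  · intro h
    exact absurd (Finset.mem_univ _) h

theorem EE_mul_EE : EE d K * EE d K = 1 := by
  ext a b
  rw [EE_mul_apply, Matrix.one_apply]
  unfold EE
  by_cases h : a = b
  · rw [if_pos h, if_pos (by rw [h])]
  · rw [if_neg h, if_neg]
    intro h'
    exact h (rev_injective d h')

theorem st_EE : st (q := q) (EE d K) = EE d K := by
  ext a b
  unfold st
  rw [Matrix.transpose_apply, Matrix.map_apply, frobq_apply]
  unfold EE
  by_cases h : a = rev d b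
  · rw [if_pos h, if_pos ((eq_rev_iff d a b).mp h), one_pow]
  · rw [if_neg h, if_neg (fun h' => h ((eq_rev_iff d b a).mp h')),
      zero_pow (by have := two_le_q (K := K) hF.out; omega)]

/-- the adjoint for the block reversal form -/
def dag (X : Matrix (Idx d) (Idx d) K) : Matrix (Idx d) (Idx d) K :=
  EE d K * st (q := q) X * EE d K

theorem dag_apply (X : Matrix (Idx d) (Idx d) K) (a b : Idx d) :
    dag (q := q) d X a b = X (rev d b) (rev d a) ^ q := by
  unfold dag
  rw [mul_EE_apply, EE_mul_apply]
  unfold st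
  rw [Matrix.transpose_apply, Matrix.map_apply, frobq_apply]

theorem dag_mul (X Y : Matrix (Idx d) (Idx d) K) :
    dag (q := q) d (X * Y) = dag (q := q) d Y * dag (q := q) d X := by
  unfold dag
  rw [st_mul]
  calc EE d K * (st (q := q) Y * st (q := q) X) * EE d K
      = EE d K * st (q := q) Y * (1 : Matrix (Idx d) (Idx d) K) * st (q := q) X * EE d K := by
        rw [Matrix.mul_one]; simp only [Matrix.mul_assoc]
    _ = _ := by rw [← EE_mul_EE d]; simp only [Matrix.mul_assoc]

theorem dag_one : dag (q := q) d (1 : Matrix (Idx d) (Idx d) K) = 1 := by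
  unfold dag
  rw [st_one, Matrix.mul_one, EE_mul_EE]

theorem dag_add (X Y : Matrix (Idx d) (Idx d) K) :
    dag (q := q) d (X + Y) = dag (q := q) d X + dag (q := q) d Y := by
  unfold dag
  rw [st_add, Matrix.mul_add, Matrix.add_mul]

theorem dag_sub (X Y : Matrix (Idx d) (Idx d) K) :
    dag (q := q) d (X - Y) = dag (q := q) d X - dag (q := q) d Y := by
  unfold dag
  rw [st_sub, Matrix.mul_sub, Matrix.sub_mul]

theorem dag_zero : dag (q := q) d (0 : Matrix (Idx d) (Idx d) K) = 0 := by
  unfold dag
  rw [st_zero, Matrix.mul_zero, Matrix.zero_mul]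

theorem dag_smul (c : K) (X : Matrix (Idx d) (Idx d) K) :
    dag (q := q) d (c • X) = c ^ q • dag (q := q) d X := by
  unfold dag
  rw [st_smul, Matrix.mul_smul, Matrix.smul_mul]

theorem dag_dag (X : Matrix (Idx d) (Idx d) K) : dag (q := q) d (dag (q := q) d X) = X := by
  ext a b
  rw [dag_apply, dag_apply, rev_rev, rev_rev, ← frobq_apply (F := K) (q := q),
    ← frobq_apply (F := K) (q := q), frobq_frobq]

theorem dag_pow (X : Matrix (Idx d) (Idx d) K) (j : ℕ) :
    dag (q := q) d (X ^ j) = dag (q := q) d X ^ j := by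
  induction j with
  | zero => rw [pow_zero, pow_zero, dag_one]
  | succ j ih => rw [pow_succ, dag_mul, ih, pow_succ']

/-- the nilpotent Jordan matrix is self-adjoint -/
theorem dag_NN : dag (q := q) d (NN d K) = NN d K := by
  ext a b
  rw [dag_apply, NN_apply, NN_apply]
  have hq : q ≠ 0 := by have := two_le_q (K := K) hF.out; omega
  have h1 := a.2.2
  have h2 := b.2.2
  have ha := rev_snd d a
  have hb := rev_snd d b
  by_cases h : a.1 = b.1 ∧ (a.2 : ℕ) = (b.2 : ℕ) + 1
  · rw [if_pos h, if_pos, one_pow]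
    obtain ⟨e1, e2⟩ := h
    refine ⟨e1.symm, ?_⟩
    have e3 : d a.1 = d b.1 := congrArg d e1
    rw [ha, hb]
    omega
  · rw [if_neg h, if_neg, zero_pow hq]
    rintro ⟨e1, e2⟩
    apply h
    have e1' : b.1 = a.1 := e1
    refine ⟨e1'.symm, ?_⟩
    have e3 : d a.1 = d b.1 := congrArg d e1'.symm
    rw [ha, hb] at e2
    omega

/-- the adjoint of a polynomial -/
theorem dag_aeval (a : Matrix (Idx d) (Idx d) K) (P : K[X]) :
    dag (q := q) d (aeval a P) = aeval (dag (q := q) d a) (P.map (frobq K q)) := by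
  induction P using Polynomial.induction_on' with
  | add P Q hP hQ => rw [map_add, dag_add, hP, hQ, Polynomial.map_add, map_add]
  | monomial n c =>
    rw [Polynomial.map_monomial, aeval_monomial, aeval_monomial, Algebra.algebraMap_eq_smul_one,
      Algebra.algebraMap_eq_smul_one, Matrix.smul_mul, Matrix.one_mul, Matrix.smul_mul,
      Matrix.one_mul, dag_smul, dag_pow, frobq_apply]

/-- the commuting algebra is stable under the adjoint -/
theorem dag_mem_VV {X : Matrix (Idx d) (Idx d) K} (hX : X ∈ VV d K) :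
    dag (q := q) d X ∈ VV d K := by
  rw [mem_VV] at hX ⊢
  have h := congrArg (dag (q := q) d) hX
  rw [dag_mul, dag_mul, dag_NN] at h
  exact h.symm

end Cfsg.Agent.Helper8.UCent
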