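import Cfsg.Agent.Helper8.UCentB
set_option autoImplicit false
set_option linter.unusedSectionVars false

/-!
Centralisers of unipotent elements in the unitary groups: the top coefficient maps are
multiplicative and compatible with the adjoint.
-/

namespace Cfsg.Agent.Helper8.UCent

open Polynomial Matrix Cfsg Cfsg.Agent.Helper8.GUOrder Cfsg.Agent.Helper8.SUCenter
  Cfsg.Agent.Helper8.AutSU Cfsg.Agent.Helper8.PU3 Cfsg.Agent.Helper8.PSUSing
  Cfsg.Agent.Helper8.RegSU Cfsg.Agent.Helper8.Wall Cfsg.Agent.Helper8.JCent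

variable {K : Type*} [Field K] [Fintype K] {q : ℕ} [hF : Fact (Fintype.card K = q ^ 2)]
variable {t : ℕ} (d : Fin t → ℕ) (hd : ∀ k, 1 ≤ d k)

/-- the first index of a block -/
def bot (l : Fin t) : Idx d := ⟨l, ⟨0, hd l⟩⟩

omit [Fintype K] hF in
theorem Cs_apply (X : Matrix (Idx d) (Idx d) K) (s : ℕ) (l k : fib d s) :
    Cs X s l k = X (bot d hd l.1) (bot d hd k.1) := by
  unfold Cs ent bot
  rw [dif_pos ⟨hd l.1, hd k.1⟩]

omit [Fintype K] hF in
theorem bot_injective : Function.Injective (bot d hd) := fun l k h => by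
  have := congrArg Sigma.fst h
  exact this

include hd

omit [Fintype K] hF in
theorem Cs_one (s : ℕ) : Cs (1 : Matrix (Idx d) (Idx d) K) s = 1 := by
  ext l k
  rw [Cs_apply d hd, Matrix.one_apply, Matrix.one_apply]
  by_cases h : l = k
  · rw [if_pos h, if_pos (by rw [h])]
  · rw [if_neg h, if_neg]
    intro h'
    exact h (Subtype.ext (bot_injective d hd h'))

omit [Fintype K] hF in
theorem Cs_add (X Y : Matrix (Idx d) (Idx d) K) (s : ℕ) : Cs (X + Y) s = Cs X s + Cs Y s := by
  ext l k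
  rw [Matrix.add_apply, Cs_apply d hd, Cs_apply d hd, Cs_apply d hd, Matrix.add_apply]

omit [Fintype K] hF in
theorem Cs_sub (X Y : Matrix (Idx d) (Idx d) K) (s : ℕ) : Cs (X - Y) s = Cs X s - Cs Y s := by
  ext l k
  rw [Matrix.sub_apply, Cs_apply d hd, Cs_apply d hd, Cs_apply d hd, Matrix.sub_apply]

omit [Fintype K] hF in
theorem Cs_smul (c : K) (X : Matrix (Idx d) (Idx d) K) (s : ℕ) : Cs (c • X) s = c • Cs X s := by
  ext l k
  rw [Matrix.smul_apply, Cs_apply d hd, Cs_apply d hd, Matrix.smul_apply]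

omit [Fintype K] hF in
theorem Cs_zero (s : ℕ) : Cs (0 : Matrix (Idx d) (Idx d) K) s = 0 := by
  ext l k
  rw [Cs_apply d hd]
  rfl

omit [Fintype K] hF in
/-- the top coefficient maps are multiplicative on the commuting algebra -/
theorem Cs_mul {X Y : Matrix (Idx d) (Idx d) K} (hX : Rel d X) (hY : Rel d Y) (s : ℕ) :
    Cs (X * Y) s = Cs X s * Cs Y s := by
  ext l k
  rw [Cs_apply d hd, Matrix.mul_apply, Matrix.mul_apply]
  symm
  apply Fintype.sum_of_injective (fun r : fib d s => bot d hd r.1)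
    (fun a b h => Subtype.ext (bot_injective d hd h))
  · intro c hc
    rw [hX.apply, hY.apply]
    by_cases hc0 : (c.2 : ℕ) = 0
    · -- `c` is the first index of its block, whose size is not `s`
      have hcs : d c.1 ≠ s := by
        intro hcs
        apply hc
        refine ⟨⟨c.1, hcs⟩, ?_⟩
        exact idx_ext rfl hc0.symm
      have hl : d l.1 = s := l.2
      have hk : d k.1 = s := k.2
      rcases Nat.lt_or_gt_of_ne hcs with hlt | hgt
      · -- `d c < s = d l`
        rw [if_pos (by rw [hc0]; exact Nat.zero_le _)]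
        have : ent X (bot d hd l.1).1 (((bot d hd l.1).2 : ℕ) - (c.2 : ℕ)) c.1 0 = 0 := by
          apply hX.supp _ _ (hd c.1)
          show (0 - (c.2 : ℕ)) + d c.1 < d l.1
          omega
        rw [this, zero_mul]
      · rw [if_pos (show ((bot d hd k.1).2 : ℕ) ≤ (c.2 : ℕ) from Nat.zero_le _)]
        have : ent Y c.1 ((c.2 : ℕ) - ((bot d hd k.1).2 : ℕ)) (bot d hd k.1).1 0 = 0 := by
          apply hY.supp _ _ (hd k.1)
          show ((c.2 : ℕ) - 0) + d k.1 < d c.1
          omega
        rw [this, mul_zero]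
    · rw [if_neg, zero_mul]
      show ¬ (c.2 : ℕ) ≤ 0
      omega
  · intro r
    rw [Cs_apply d hd, Cs_apply d hd]

/-- the top coefficient maps are compatible with the adjoint -/
theorem Cs_dag {X : Matrix (Idx d) (Idx d) K} (hX : Rel d X) (s : ℕ) :
    Cs (dag (q := q) d X) s = st (q := q) (Cs X s) := by
  ext l k
  rw [Cs_apply d hd, dag_apply]
  unfold st
  rw [Matrix.transpose_apply, Matrix.map_apply, frobq_apply, Cs_apply d hd, hX.apply]
  have hl : d l.1 = s := l.2
  have hk : d k.1 = s := k.2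
  have e1 : ((rev d (bot d hd l.1)).2 : ℕ) = d l.1 - 1 := by
    rw [rev_snd]; rfl
  have e2 : ((rev d (bot d hd k.1)).2 : ℕ) = d k.1 - 1 := by
    rw [rev_snd]; rfl
  rw [if_pos (by rw [e1, e2, hl, hk])]
  have e3 : ((rev d (bot d hd k.1)).2 : ℕ) - ((rev d (bot d hd l.1)).2 : ℕ) = 0 := by
    rw [e1, e2, hl, hk]; omega
  rw [e3]
  congr 1
  unfold ent bot
  rw [dif_pos ⟨hd k.1, hd l.1⟩]
  rfl

end Cfsg.Agent.Helper8.UCent
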