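import Cfsg.Agent.Helper8.UCentC
set_option autoImplicit false
set_option linter.unusedSectionVars false

/-!
Centralisers of unipotent elements in the unitary groups: the radical of the commuting algebra,
and the lifting of Hermitian unipotent elements to norms.
-/

namespace Cfsg.Agent.Helper8.UCent

open Polynomial Matrix Cfsg Cfsg.Agent.Helper8.GUOrder Cfsg.Agent.Helper8.SUCenter
  Cfsg.Agent.Helper8.AutSU Cfsg.Agent.Helper8.PU3 Cfsg.Agent.Helper8.PSUSing
  Cfsg.Agent.Helper8.RegSU Cfsg.Agent.Helper8.Wall Cfsg.Agent.Helper8.JCent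

variable {K : Type*} [Field K] [Fintype K] {q : ℕ} [hF : Fact (Fintype.card K = q ^ 2)]
variable {t : ℕ} (d : Fin t → ℕ) (hd : ∀ k, 1 ≤ d k)

/-- the radical of the commuting algebra -/
def RR (K : Type*) [Field K] : AddSubgroup (Matrix (Idx d) (Idx d) K) where
  carrier := {X | X ∈ VV d K ∧ ∀ s, Cs X s = 0}
  zero_mem' := ⟨(VV d K).zero_mem, fun s => by ext l k; exact ent_zero d _ _ _ _⟩
  add_mem' := by
    rintro a b ⟨ha, ha'⟩ ⟨hb, hb'⟩
    refine ⟨(VV d K).add_mem ha hb, fun s => ?_⟩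
    ext l k
    have h1 := congrFun (congrFun (ha' s) l) k
    have h2 := congrFun (congrFun (hb' s) l) k
    unfold Cs at h1 h2 ⊢
    rw [ent_add, h1, h2]
    simp
  neg_mem' := by
    rintro a ⟨ha, ha'⟩
    refine ⟨(VV d K).neg_mem ha, fun s => ?_⟩
    ext l k
    have h1 := congrFun (congrFun (ha' s) l) k
    have h3 := ent_add d a (-a) l.1 0 k.1 0
    rw [add_neg_cancel, ent_zero] at h3
    unfold Cs at h1 ⊢
    have h4 : ent a l.1 0 k.1 0 = 0 := h1
    rw [h4, zero_add] at h3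
    exact h3.symm

omit [Fintype K] hF in
theorem mem_RR (X : Matrix (Idx d) (Idx d) K) :
    X ∈ RR d K ↔ X ∈ VV d K ∧ ∀ s, Cs X s = 0 := Iff.rfl

omit [Fintype K] hF in
theorem VV_mul {X Y : Matrix (Idx d) (Idx d) K} (hX : X ∈ VV d K) (hY : Y ∈ VV d K) :
    X * Y ∈ VV d K := by
  rw [mem_VV] at hX hY ⊢
  rw [Matrix.mul_assoc, hY, ← Matrix.mul_assoc, hX, Matrix.mul_assoc]

omit [Fintype K] hF in
theorem VV_one : (1 : Matrix (Idx d) (Idx d) K) ∈ VV d K := by
  rw [mem_VV, Matrix.one_mul, Matrix.mul_one]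

omit [Fintype K] hF in
theorem VV_smul (c : K) {X : Matrix (Idx d) (Idx d) K} (hX : X ∈ VV d K) : c • X ∈ VV d K := by
  rw [mem_VV] at hX ⊢
  rw [Matrix.smul_mul, Matrix.mul_smul, hX]

omit [Fintype K] hF in
theorem VV_aeval {X : Matrix (Idx d) (Idx d) K} (hX : X ∈ VV d K) (P : K[X]) :
    aeval X P ∈ VV d K := by
  rw [mem_VV] at hX ⊢
  have h : Commute (NN d K) X := hX.symm
  exact (commute_aeval h P).eq.symm

include hd

omit [Fintype K] hF in
theorem RR_mul_left {X Y : Matrix (Idx d) (Idx d) K} (hX : X ∈ RR d K) (hY : Y ∈ VV d K) :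
    X * Y ∈ RR d K := by
  obtain ⟨hX1, hX2⟩ := hX
  refine ⟨VV_mul d hX1 hY, fun s => ?_⟩
  rw [Cs_mul d hd (rel_of_comm hX1) (rel_of_comm hY), hX2, Matrix.zero_mul]

omit [Fintype K] hF in
theorem RR_mul_right {X Y : Matrix (Idx d) (Idx d) K} (hX : X ∈ VV d K) (hY : Y ∈ RR d K) :
    X * Y ∈ RR d K := by
  obtain ⟨hY1, hY2⟩ := hY
  refine ⟨VV_mul d hX hY1, fun s => ?_⟩
  rw [Cs_mul d hd (rel_of_comm hX) (rel_of_comm hY1), hY2, Matrix.mul_zero]

omit [Fintype K] hF in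
theorem RR_smul (c : K) {X : Matrix (Idx d) (Idx d) K} (hX : X ∈ RR d K) : c • X ∈ RR d K := by
  obtain ⟨hX1, hX2⟩ := hX
  refine ⟨VV_smul d c hX1, fun s => ?_⟩
  rw [Cs_smul d hd, hX2, smul_zero]

theorem RR_dag {X : Matrix (Idx d) (Idx d) K} (hX : X ∈ RR d K) :
    dag (q := q) d X ∈ RR d K := by
  obtain ⟨hX1, hX2⟩ := hX
  refine ⟨dag_mem_VV d hX1, fun s => ?_⟩
  rw [Cs_dag d hd (rel_of_comm hX1), hX2, st_zero]

omit [Fintype K] hF in
/-- the diagonal blocks -/
theorem toSquareBlock_eq {X : Matrix (Idx d) (Idx d) K} (h : Rel d X) (a₀ : Idx d) :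
    X.toSquareBlock (blk d) (blk d a₀) =
      (Cs X (d a₀.1)).submatrix (blkEquiv hd a₀) (blkEquiv hd a₀) := by
  ext a a'
  rw [Matrix.toSquareBlock_def, Matrix.of_apply, Matrix.submatrix_apply, h.apply a.1 a'.1]
  have e1 := ((blk_eq_iff a.1 a₀).mp a.2).2
  have e2 := ((blk_eq_iff a'.1 a₀).mp a'.2).2
  rw [if_pos (by omega)]
  have e3 : ((a.1.2 : ℕ) - (a'.1.2 : ℕ)) = 0 := by omega
  rw [e3]
  rfl

omit [Fintype K] hF in
/-- the radical consists of nilpotent matrices -/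
theorem RR_nilpotent {X : Matrix (Idx d) (Idx d) K} (hX : X ∈ RR d K) : IsNilpotent X := by
  classical
  obtain ⟨hX1, hX2⟩ := hX
  have hrel := rel_of_comm hX1
  have hch := (hrel.blockTriangular hd).charpoly
  have hblocks : ∀ κ ∈ Finset.image (blk d) Finset.univ,
      (X.toSquareBlock (blk d) κ).charpoly =
        (Polynomial.X : K[X]) ^ Fintype.card {a : Idx d // blk d a = κ} := by
    intro κ hκ
    obtain ⟨a₀, _, rfl⟩ := Finset.mem_image.mp hκ
    rw [toSquareBlock_eq d hd hrel, hX2]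
    have : ((0 : Matrix (fib d (d a₀.1)) (fib d (d a₀.1)) K).submatrix (blkEquiv hd a₀)
        (blkEquiv hd a₀)) = 0 := by
      ext a b
      rfl
    rw [this, Matrix.charpoly_zero]
  rw [Finset.prod_congr rfl hblocks, Finset.prod_pow_eq_pow_sum] at hch
  have h := Matrix.aeval_self_charpoly X
  rw [hch, map_pow, aeval_X] at h
  exact ⟨_, h⟩

omit [Fintype K] hF in
/-- the unipotent elements of the commuting algebra are invertible -/
theorem exists_inv {X : Matrix (Idx d) (Idx d) K} (hX : X - 1 ∈ RR d K) :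
    ∃ X' : Matrix (Idx d) (Idx d) K, X' - 1 ∈ RR d K ∧ X * X' = 1 ∧ X' * X = 1 := by
  classical
  have hXV : X ∈ VV d K := by
    have := (VV d K).add_mem hX.1 (VV_one d)
    rwa [sub_add_cancel] at this
  have hCs : ∀ s, Cs X s = 1 := by
    intro s
    have h := hX.2 s
    rw [Cs_sub d hd, Cs_one d hd] at h
    exact sub_eq_zero.mp h
  have hdet : X.det ≠ 0 := by
    rw [(rel_of_comm hXV).det_ne_zero_iff hd]
    intro s
    rw [hCs, Matrix.det_one]
    exact one_ne_zero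
  have hu : IsUnit X.det := isUnit_iff_ne_zero.mpr hdet
  have h1 : X * X⁻¹ = 1 := Matrix.mul_nonsing_inv X hu
  have h2 : X⁻¹ * X = 1 := Matrix.nonsing_inv_mul X hu
  have hV' : X⁻¹ ∈ VV d K := by
    rw [mem_VV] at hXV ⊢
    calc X⁻¹ * NN d K = X⁻¹ * NN d K * (X * X⁻¹) := by rw [h1, Matrix.mul_one]
      _ = X⁻¹ * (NN d K * X) * X⁻¹ := by simp only [Matrix.mul_assoc]
      _ = X⁻¹ * (X * NN d K) * X⁻¹ := by rw [hXV]
      _ = (X⁻¹ * X) * NN d K * X⁻¹ := by simp only [Matrix.mul_assoc]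
      _ = NN d K * X⁻¹ := by rw [h2, Matrix.one_mul]
  refine ⟨X⁻¹, ⟨(VV d K).sub_mem hV' (VV_one d), fun s => ?_⟩, h1, h2⟩
  have h3 := Cs_mul d hd (rel_of_comm hXV) (rel_of_comm hV') s
  rw [h1, Cs_one d hd, hCs, Matrix.one_mul] at h3
  rw [Cs_sub d hd, Cs_one d hd, ← h3, sub_self]

/-- **lifting**: a Hermitian unipotent element of the commuting algebra is a norm -/
theorem exists_lift {S : Matrix (Idx d) (Idx d) K} (hS : S - 1 ∈ RR d K)
    (hSd : dag (q := q) d S = S) :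
    ∃ Y : Matrix (Idx d) (Idx d) K, Y - 1 ∈ RR d K ∧ dag (q := q) d Y * Y = S := by
  obtain ⟨m, hm⟩ := RR_nilpotent d hd hS
  obtain ⟨p, r, hp0, hpr⟩ := exists_norm_unip (K := K) (q := q) m
  set s := S - 1 with hs
  have hsd : dag (q := q) d s = s := by
    rw [hs, dag_sub, dag_one, hSd]
  refine ⟨aeval s p, ?_, ?_⟩
  · have hp : p = X * p.divX + 1 := by
      conv_lhs => rw [← Polynomial.divX_mul_X_add p, hp0]
      rw [map_one, mul_comm]
    have e : aeval s p - 1 = s * aeval s p.divX := by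
      conv_lhs => rw [hp]
      rw [map_add, map_mul, aeval_X, map_one, add_sub_cancel_right]
    rw [e]
    exact RR_mul_left d hd hS (VV_aeval d hS.1 _)
  · rw [dag_aeval, hsd, ← map_mul, hpr, map_add, map_add, map_one, aeval_X, map_mul, map_pow,
      aeval_X, pow_succ, hm, Matrix.zero_mul, Matrix.zero_mul, add_zero, hs]
    abel

end Cfsg.Agent.Helper8.UCent
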