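import Cfsg.Agent.Helper8.UCentD
set_option autoImplicit false
set_option linter.unusedSectionVars false

/-!
Centralisers of unipotent elements in the unitary groups: the unipotent radical of the unitary
centraliser.
-/

namespace Cfsg.Agent.Helper8.UCent

open Polynomial Matrix Cfsg Cfsg.Agent.Helper8.GUOrder Cfsg.Agent.Helper8.SUCenter
  Cfsg.Agent.Helper8.AutSU Cfsg.Agent.Helper8.PU3 Cfsg.Agent.Helper8.PSUSing
  Cfsg.Agent.Helper8.RegSU Cfsg.Agent.Helper8.Wall Cfsg.Agent.Helper8.JCent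

/-- counting by fibres of constant size -/
theorem card_eq_of_fibres {A B : Type*} [Finite A] [Finite B] (f : A → B) (c : ℕ)
    (h : ∀ b, Nat.card {a // f a = b} = c) : Nat.card A = Nat.card B * c := by
  classical
  have := Fintype.ofFinite B
  rw [Nat.card_congr (Equiv.sigmaFiberEquiv f).symm, Nat.card_sigma,
    Finset.sum_congr rfl (fun b _ => h b), Finset.sum_const, Finset.card_univ, smul_eq_mul,
    Nat.card_eq_fintype_card]

variable {K : Type*} [Field K] [Fintype K] {q : ℕ} [hF : Fact (Fintype.card K = q ^ 2)]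
variable {t : ℕ} (d : Fin t → ℕ) (hd : ∀ k, 1 ≤ d k)

/-- the unipotent elements of the commuting algebra -/
def G1 (K : Type*) [Field K] : Set (Matrix (Idx d) (Idx d) K) := {X | X - 1 ∈ RR d K}

/-- the Hermitian unipotent elements -/
def S1 (K : Type*) [Field K] [Fintype K] (q : ℕ) [hF : Fact (Fintype.card K = q ^ 2)] :
    Set (Matrix (Idx d) (Idx d) K) := {S | S - 1 ∈ RR d K ∧ dag (q := q) d S = S}

/-- the unitary unipotent elements -/
def U1 (K : Type*) [Field K] [Fintype K] (q : ℕ) [hF : Fact (Fintype.card K = q ^ 2)] :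
    Set (Matrix (Idx d) (Idx d) K) := {X | X - 1 ∈ RR d K ∧ dag (q := q) d X * X = 1}

omit [Fintype K] hF in
theorem card_G1 : Nat.card (G1 d K) = Nat.card (RR d K) := by
  apply Nat.card_congr
  exact
    { toFun := fun X => ⟨X.1 - 1, X.2⟩
      invFun := fun r => ⟨r.1 + 1, by show r.1 + 1 - 1 ∈ RR d K; rw [add_sub_cancel_right]; exact r.2⟩
      left_inv := fun X => Subtype.ext (sub_add_cancel _ _)
      right_inv := fun r => Subtype.ext (add_sub_cancel_right _ _) }

omit [Fintype K] hF in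
theorem G1_mem_VV {X : Matrix (Idx d) (Idx d) K} (hX : X - 1 ∈ RR d K) : X ∈ VV d K := by
  have := (VV d K).add_mem hX.1 (VV_one d)
  rwa [sub_add_cancel] at this

include hd

omit [Fintype K] hF in
theorem G1_mul {X Y : Matrix (Idx d) (Idx d) K} (hX : X - 1 ∈ RR d K) (hY : Y - 1 ∈ RR d K) :
    X * Y - 1 ∈ RR d K := by
  have e : X * Y - 1 = (X - 1) * Y + (Y - 1) := by
    rw [Matrix.sub_mul, Matrix.one_mul]; abel
  rw [e]
  exact (RR d K).add_mem (RR_mul_left d hd hX (G1_mem_VV d hY)) hY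

theorem G1_dag {X : Matrix (Idx d) (Idx d) K} (hX : X - 1 ∈ RR d K) :
    dag (q := q) d X - 1 ∈ RR d K := by
  have := RR_dag (q := q) d hd hX
  rwa [dag_sub, dag_one] at this

theorem card_S1_sq : Nat.card (S1 d K q) ^ 2 = Nat.card (RR d K) := by
  rw [← card_fixed_sq (K := K) (q := q) (RR d K) (dag (q := q) d) (dag_add d) (dag_smul d)
    (dag_dag d) (fun x hx => RR_dag d hd hx) (fun c x hx => RR_smul d hd c hx)]
  congr 1
  apply Nat.card_congr
  exact
    { toFun := fun S => ⟨S.1 - 1, S.2.1, by rw [dag_sub, dag_one, S.2.2]⟩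
      invFun := fun r => ⟨r.1 + 1, by
        show r.1 + 1 - 1 ∈ RR d K ∧ _
        rw [add_sub_cancel_right]
        exact ⟨r.2.1, by rw [dag_add, dag_one, r.2.2]⟩⟩
      left_inv := fun S => Subtype.ext (sub_add_cancel _ _)
      right_inv := fun r => Subtype.ext (add_sub_cancel_right _ _) }

/-- the norm map on the unipotent elements -/
def nu (X : G1 d K) : S1 d K q :=
  ⟨dag (q := q) d X.1 * X.1, G1_mul d hd (G1_dag d hd X.2) X.2, by rw [dag_mul, dag_dag]⟩

theorem card_G1_eq : Nat.card (G1 d K) = Nat.card (S1 d K q) * Nat.card (U1 d K q) := by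
  apply card_eq_of_fibres (nu (q := q) d hd)
  intro S
  obtain ⟨X₀, hX₀, hX₀S⟩ := exists_lift (q := q) d hd S.2.1 S.2.2
  obtain ⟨X₀', hX₀', h1, h2⟩ := exists_inv d hd hX₀
  apply Nat.card_congr
  refine
    { toFun := fun X => ⟨X.1.1 * X₀', G1_mul d hd X.1.2 hX₀', ?_⟩
      invFun := fun Z => ⟨⟨Z.1 * X₀, G1_mul d hd Z.2.1 hX₀⟩, ?_⟩
      left_inv := ?_
      right_inv := ?_ }
  · have hX : dag (q := q) d X.1.1 * X.1.1 = S.1 := congrArg Subtype.val X.2
    calc dag (q := q) d (X.1.1 * X₀') * (X.1.1 * X₀')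
        = dag (q := q) d X₀' * (dag (q := q) d X.1.1 * X.1.1) * X₀' := by
          rw [dag_mul]; simp only [Matrix.mul_assoc]
      _ = dag (q := q) d X₀' * (dag (q := q) d X₀ * X₀) * X₀' := by rw [hX, hX₀S]
      _ = dag (q := q) d (X₀ * X₀') * (X₀ * X₀') := by
          rw [dag_mul]; simp only [Matrix.mul_assoc]
      _ = 1 := by rw [h1, dag_one, Matrix.one_mul]
  · apply Subtype.ext
    show dag (q := q) d (Z.1 * X₀) * (Z.1 * X₀) = S.1
    calc dag (q := q) d (Z.1 * X₀) * (Z.1 * X₀)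
        = dag (q := q) d X₀ * (dag (q := q) d Z.1 * Z.1) * X₀ := by
          rw [dag_mul]; simp only [Matrix.mul_assoc]
      _ = S.1 := by rw [Z.2.2, Matrix.mul_one, hX₀S]
  · intro X
    apply Subtype.ext
    apply Subtype.ext
    show X.1.1 * X₀' * X₀ = X.1.1
    rw [Matrix.mul_assoc, h2, Matrix.mul_one]
  · intro Z
    apply Subtype.ext
    show Z.1 * X₀ * X₀' = Z.1
    rw [Matrix.mul_assoc, h1, Matrix.mul_one]

/-- the order of the unipotent radical of the unitary centraliser -/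
theorem card_U1_sq : Nat.card (U1 d K q) ^ 2 = Nat.card (RR d K) := by
  have h1 := card_G1 (K := K) d
  have h2 := card_S1_sq (K := K) (q := q) d hd
  have h3 := card_G1_eq (K := K) (q := q) d hd
  have hpos : 0 < Nat.card (S1 d K q) := by
    apply Nat.card_pos_iff.mpr
    refine ⟨⟨⟨1, ?_, dag_one d⟩⟩, Set.toFinite _⟩
    rw [sub_self]
    exact (RR d K).zero_mem
  have h4 : Nat.card (S1 d K q) = Nat.card (U1 d K q) := by
    apply Nat.eq_of_mul_eq_mul_left hpos
    rw [← h3, h1, ← h2, sq]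
  rw [← h4, h2]

end Cfsg.Agent.Helper8.UCent
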