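import Cfsg.Agent.Helper8.UCentE
set_option autoImplicit false
set_option linter.unusedSectionVars false

/-!
Centralisers of unipotent elements in the unitary groups: the reductive quotient of the unitary
centraliser, and the order of the radical.
-/

namespace Cfsg.Agent.Helper8.UCent

open Polynomial Matrix Cfsg Cfsg.Agent.Helper8.GUOrder Cfsg.Agent.Helper8.SUCenter
  Cfsg.Agent.Helper8.AutSU Cfsg.Agent.Helper8.PU3 Cfsg.Agent.Helper8.PSUSing
  Cfsg.Agent.Helper8.RegSU Cfsg.Agent.Helper8.Wall Cfsg.Agent.Helper8.JCent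

variable {K : Type*} [Field K] [Fintype K] {q : ℕ} [hF : Fact (Fintype.card K = q ^ 2)]
variable {t : ℕ} (d : Fin t → ℕ) (hd : ∀ k, 1 ≤ d k)

/-- the unitary centraliser, as a set of matrices -/
def UC (K : Type*) [Field K] [Fintype K] (q : ℕ) [hF : Fact (Fintype.card K = q ^ 2)] :
    Set (Matrix (Idx d) (Idx d) K) := {X | X ∈ VV d K ∧ dag (q := q) d X * X = 1}

/-- the unitary matrices on the blocks of a given size -/
abbrev UMs (K : Type*) [Field K] [Fintype K] (q : ℕ) [hF : Fact (Fintype.card K = q ^ 2)]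
    (s : ℕ) := {M : Matrix (fib d s) (fib d s) K // st (q := q) M * M = 1}

/-- the reductive quotient -/
abbrev UT (K : Type*) [Field K] [Fintype K] (q : ℕ) [hF : Fact (Fintype.card K = q ^ 2)] :=
  (s : Fin (Finset.univ.sup d + 1)) → UMs d K q s

omit [Fintype K] hF in
/-- the top coefficients beyond the largest block size carry no information -/
theorem Cs_ext {X Y : Matrix (Idx d) (Idx d) K}
    (h : ∀ s : Fin (Finset.univ.sup d + 1), Cs X s = Cs Y s) (s : ℕ) : Cs X s = Cs Y s := by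
  by_cases hs : s < Finset.univ.sup d + 1
  · exact h ⟨s, hs⟩
  · ext l k
    exfalso
    have := le_sup (d := d) l.1
    have := l.2
    omega

include hd

/-- the projection to the reductive quotient -/
def proj (X : UC d K q) : UT d K q := fun s =>
  ⟨Cs X.1 s, by
    rw [← Cs_dag d hd (rel_of_comm X.2.1), ← Cs_mul d hd (rel_of_comm (dag_mem_VV d X.2.1))
      (rel_of_comm X.2.1), X.2.2, Cs_one d hd]⟩

theorem proj_surjective : Function.Surjective (proj (K := K) (q := q) d hd) := by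
  intro M
  obtain ⟨X₀, hX₀⟩ := Phi_surjective (F := K) d hd (fun s => (M s).1)
  have hX₀s : ∀ s : Fin (Finset.univ.sup d + 1), Cs X₀.1 s = (M s).1 := fun s => congrFun hX₀ s
  have hrel := rel_of_comm X₀.2
  have hrel' := rel_of_comm (dag_mem_VV (q := q) d X₀.2)
  set S := dag (q := q) d X₀.1 * X₀.1 with hS
  have hSV : S ∈ VV d K := VV_mul d (dag_mem_VV d X₀.2) X₀.2
  have hS1 : S - 1 ∈ RR d K := by
    refine ⟨(VV d K).sub_mem hSV (VV_one d), fun s => ?_⟩
    rw [Cs_sub d hd, sub_eq_zero]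
    apply Cs_ext d
    intro s
    rw [hS, Cs_mul d hd hrel' hrel, Cs_dag d hd hrel, hX₀s, (M s).2, Cs_one d hd]
  have hSd : dag (q := q) d S = S := by rw [hS, dag_mul, dag_dag]
  obtain ⟨Y, hY, hYS⟩ := exists_lift (q := q) d hd hS1 hSd
  obtain ⟨Y', hY', h1, h2⟩ := exists_inv d hd hY
  have hY'V := G1_mem_VV d hY'
  refine ⟨⟨X₀.1 * Y', VV_mul d X₀.2 hY'V, ?_⟩, ?_⟩
  · calc dag (q := q) d (X₀.1 * Y') * (X₀.1 * Y')
        = dag (q := q) d Y' * (dag (q := q) d X₀.1 * X₀.1) * Y' := by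
          rw [dag_mul]; simp only [Matrix.mul_assoc]
      _ = dag (q := q) d Y' * (dag (q := q) d Y * Y) * Y' := by rw [← hS, hYS]
      _ = dag (q := q) d (Y * Y') * (Y * Y') := by
          rw [dag_mul]; simp only [Matrix.mul_assoc]
      _ = 1 := by rw [h1, dag_one, Matrix.one_mul]
  · funext s
    apply Subtype.ext
    show Cs (X₀.1 * Y') s = (M s).1
    have hY'1 : Cs Y' s = 1 := by
      have := hY'.2 s
      rw [Cs_sub d hd, Cs_one d hd] at this
      exact sub_eq_zero.mp this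
    rw [Cs_mul d hd hrel (rel_of_comm hY'V), hY'1, Matrix.mul_one, hX₀s]

/-- the order of the unitary centraliser -/
theorem card_UC : Nat.card (UC d K q) = Nat.card (UT d K q) * Nat.card (U1 d K q) := by
  apply card_eq_of_fibres (proj (K := K) (q := q) d hd)
  intro M
  obtain ⟨X₀, hX₀⟩ := proj_surjective (K := K) (q := q) d hd M
  have hX₀s : ∀ s : Fin (Finset.univ.sup d + 1), Cs X₀.1 s = (M s).1 :=
    fun s => congrArg Subtype.val (congrFun hX₀ s)
  have h1 : dag (q := q) d X₀.1 * X₀.1 = 1 := X₀.2.2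
  have h2 : X₀.1 * dag (q := q) d X₀.1 = 1 := mul_eq_one_comm.mp h1
  have hdV := dag_mem_VV (q := q) d X₀.2.1
  apply Nat.card_congr
  refine
    { toFun := fun X => ⟨X.1.1 * dag (q := q) d X₀.1, ⟨?_, ?_⟩, ?_⟩
      invFun := fun Z => ⟨⟨Z.1 * X₀.1, VV_mul d (G1_mem_VV d Z.2.1) X₀.2.1, ?_⟩, ?_⟩
      left_inv := ?_
      right_inv := ?_ }
  · exact (VV d K).sub_mem (VV_mul d X.1.2.1 hdV) (VV_one d)
  · intro s
    rw [Cs_sub d hd, sub_eq_zero]
    apply Cs_ext d
    intro s
    have hXs : Cs X.1.1 s = (M s).1 := congrArg Subtype.val (congrFun X.2 s)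
    have e := Cs_mul d hd (rel_of_comm X₀.2.1) (rel_of_comm hdV) s
    rw [h2, Cs_one d hd, hX₀s] at e
    rw [Cs_mul d hd (rel_of_comm X.1.2.1) (rel_of_comm hdV), hXs, ← e, Cs_one d hd]
  · calc dag (q := q) d (X.1.1 * dag (q := q) d X₀.1) * (X.1.1 * dag (q := q) d X₀.1)
        = X₀.1 * (dag (q := q) d X.1.1 * X.1.1) * dag (q := q) d X₀.1 := by
          rw [dag_mul, dag_dag]; simp only [Matrix.mul_assoc]
      _ = 1 := by rw [X.1.2.2, Matrix.mul_one, h2]
  · calc dag (q := q) d (Z.1 * X₀.1) * (Z.1 * X₀.1)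
        = dag (q := q) d X₀.1 * (dag (q := q) d Z.1 * Z.1) * X₀.1 := by
          rw [dag_mul]; simp only [Matrix.mul_assoc]
      _ = 1 := by rw [Z.2.2, Matrix.mul_one, h1]
  · funext s
    apply Subtype.ext
    show Cs (Z.1 * X₀.1) s = (M s).1
    have hZ1 : Cs Z.1 s = 1 := by
      have := Z.2.1.2 s
      rw [Cs_sub d hd, Cs_one d hd] at this
      exact sub_eq_zero.mp this
    rw [Cs_mul d hd (rel_of_comm (G1_mem_VV d Z.2.1)) (rel_of_comm X₀.2.1), hZ1, Matrix.one_mul,
      hX₀s]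
  · intro X
    apply Subtype.ext
    apply Subtype.ext
    show X.1.1 * dag (q := q) d X₀.1 * X₀.1 = X.1.1
    rw [Matrix.mul_assoc, h1, Matrix.mul_one]
  · intro Z
    apply Subtype.ext
    show Z.1 * X₀.1 * dag (q := q) d X₀.1 = Z.1
    rw [Matrix.mul_assoc, h2, Matrix.mul_one]

omit hF in
/-- the order of the radical -/
theorem card_RR : Nat.card (RR d K) * Nat.card (TT d K) = Nat.card (VV d K) := by
  have h := card_preimage_mul (Phi (F := K) d) (Phi_surjective d hd) ({0} : Set (TT d K))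
  rw [Nat.card_eq_fintype_card (α := ({0} : Set (TT d K))), Fintype.card_unique, one_mul] at h
  rw [← h]
  congr 1
  apply Nat.card_congr
  exact
    { toFun := fun X => ⟨⟨X.1, X.2.1⟩, by
        show Phi d _ = 0
        funext s
        exact X.2.2 s⟩
      invFun := fun X => ⟨X.1.1, X.1.2, by
        intro s
        have h0 : Phi d X.1 = 0 := X.2
        apply Cs_ext d (Y := 0) _ s |>.trans (Cs_zero d hd s)
        intro s
        rw [Cs_zero d hd]
        exact congrFun h0 s⟩
      left_inv := fun X => rfl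
      right_inv := fun X => rfl }

end Cfsg.Agent.Helper8.UCent
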