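import Cfsg.Agent.Helper8.UCentF
set_option autoImplicit false
set_option linter.unusedSectionVars false

/-!
Centralisers of unipotent elements in the unitary groups: the order of the unitary centraliser
in the model.
-/

namespace Cfsg.Agent.Helper8.UCent

open Polynomial Matrix Cfsg Cfsg.Agent.Helper8.GUOrder Cfsg.Agent.Helper8.SUCenter
  Cfsg.Agent.Helper8.AutSU Cfsg.Agent.Helper8.PU3 Cfsg.Agent.Helper8.PSUSing
  Cfsg.Agent.Helper8.RegSU Cfsg.Agent.Helper8.Wall Cfsg.Agent.Helper8.JCent

variable {K : Type*} [Field K] [Fintype K] {q : ℕ} [hF : Fact (Fintype.card K = q ^ 2)]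

theorem st_submatrix {ι ι' : Type*} [Fintype ι] [DecidableEq ι] [Fintype ι'] [DecidableEq ι']
    (e : ι' → ι) (M : Matrix ι ι K) :
    st (q := q) (M.submatrix e e) = (st (q := q) M).submatrix e e := by
  ext a b
  rfl

/-- the unitary matrices on a finite index type -/
theorem card_unitary (ι' : Type*) [Fintype ι'] [DecidableEq ι'] :
    Nat.card {M : Matrix ι' ι' K // st (q := q) M * M = 1} =
      Nat.card (GU (Fintype.card ι') K q) := by
  rw [Nat.card_congr (guEquiv (K := K) (q := q) (n := Fintype.card ι') hF.out)]
  apply Nat.card_congr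
  let e := Fintype.equivFin ι'
  refine
    { toFun := fun M => ⟨M.1.submatrix e.symm e.symm, (unitary_iff_st _).mpr ?_⟩
      invFun := fun M => ⟨M.1.submatrix e e, ?_⟩
      left_inv := ?_
      right_inv := ?_ }
  · rw [st_submatrix, Matrix.submatrix_mul_equiv, M.2, Matrix.submatrix_one_equiv]
  · have := (unitary_iff_st (q := q) M.1).mp M.2
    rw [st_submatrix, Matrix.submatrix_mul_equiv, this, Matrix.submatrix_one_equiv]
  · intro M
    apply Subtype.ext
    ext a b
    simp
  · intro M
    apply Subtype.ext
    ext a b
    simp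

variable {t : ℕ} (d : Fin t → ℕ) (hd : ∀ k, 1 ≤ d k)

/-- the order of the reductive quotient -/
theorem card_UT : Nat.card (UT d K q) = ∏ i ∈ Finset.range (Finset.univ.sup d + 1),
    Nat.card (GU (Finset.univ.filter (fun k : Fin t => d k = i)).card K q) := by
  rw [← Fin.prod_univ_eq_prod_range
    (fun i => Nat.card (GU (Finset.univ.filter (fun k : Fin t => d k = i)).card K q)),
    Nat.card_pi]
  apply Finset.prod_congr rfl
  intro s _
  rw [card_unitary, card_fib]

include hd

/-- the order of the radical -/
theorem card_RR_eq : Nat.card (RR d K) = (q ^ 2) ^ (2 * (∑ i ∈ Finset.range (Finset.univ.sup d + 1),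
        ∑ j ∈ Finset.range (Finset.univ.sup d + 1),
          if i < j then i * (Finset.univ.filter (fun k : Fin t => d k = i)).card *
            (Finset.univ.filter (fun k : Fin t => d k = j)).card else 0) +
        ∑ i ∈ Finset.range (Finset.univ.sup d + 1),
          (i - 1) * (Finset.univ.filter (fun k : Fin t => d k = i)).card ^ 2) := by
  have h := card_RR (K := K) d hd
  rw [card_TT, card_VV d hd, sum_min_eq d hd, pow_add, hF.out] at h
  have hq : 0 < q ^ 2 := by
    have := two_le_q (K := K) hF.out
    positivity
  apply Nat.eq_of_mul_eq_mul_right (pow_pos hq (∑ i ∈ Finset.range (Finset.univ.sup d + 1),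
      (Finset.univ.filter (fun k : Fin t => d k = i)).card ^ 2))
  rw [h]
  ring

/-- **the order of the unitary centraliser of the model** -/
theorem card_UC_eq : Nat.card (UC d K q) =
    q ^ (2 * (∑ i ∈ Finset.range (Finset.univ.sup d + 1),
        ∑ j ∈ Finset.range (Finset.univ.sup d + 1),
          if i < j then i * (Finset.univ.filter (fun k : Fin t => d k = i)).card *
            (Finset.univ.filter (fun k : Fin t => d k = j)).card else 0) +
        ∑ i ∈ Finset.range (Finset.univ.sup d + 1),
          (i - 1) * (Finset.univ.filter (fun k : Fin t => d k = i)).card ^ 2) *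
      ∏ i ∈ Finset.range (Finset.univ.sup d + 1),
        Nat.card (GU (Finset.univ.filter (fun k : Fin t => d k = i)).card K q) := by
  rw [card_UC (q := q) d hd, card_UT, mul_comm]
  congr 1
  have h1 := card_U1_sq (K := K) (q := q) d hd
  rw [card_RR_eq (q := q) d hd, ← pow_mul, mul_comm 2, pow_mul] at h1
  exact Nat.pow_left_injective (by norm_num : 2 ≠ 0) h1

end Cfsg.Agent.Helper8.UCent
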