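import Cfsg.Agent.Helper8.UCentG
set_option autoImplicit false
set_option linter.unusedSectionVars false

/-!
Centralisers of unipotent elements in the unitary groups: the unitary unipotent element of the
model.
-/

namespace Cfsg.Agent.Helper8.UCent

open Polynomial Matrix Cfsg Cfsg.Agent.Helper8.GUOrder Cfsg.Agent.Helper8.SUCenter
  Cfsg.Agent.Helper8.AutSU Cfsg.Agent.Helper8.PU3 Cfsg.Agent.Helper8.PSUSing
  Cfsg.Agent.Helper8.RegSU Cfsg.Agent.Helper8.Wall Cfsg.Agent.Helper8.JCent

variable {K : Type*} [Field K] [Fintype K] {q : ℕ} [hF : Fact (Fintype.card K = q ^ 2)]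
variable {t : ℕ} (d : Fin t → ℕ) (hd : ∀ k, 1 ≤ d k)

omit [Fintype K] hF in
theorem NN_mem_VV : NN d K ∈ VV d K := by
  rw [mem_VV]

include hd

omit [Fintype K] hF in
theorem NN_mem_RR : NN d K ∈ RR d K := by
  refine ⟨NN_mem_VV d, fun s => ?_⟩
  ext l k
  rw [Cs_apply d hd, NN_apply, if_neg]
  · rfl
  · rintro ⟨_, h⟩
    have : ((bot d hd l.1).2 : ℕ) = 0 := rfl
    omega

/-- **the model**: a unitary unipotent element whose centraliser is the commuting algebra of the
nilpotent Jordan matrix, and which is conjugate to the unipotent Jordan matrix -/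
theorem exists_model : ∃ u₀ : Matrix (Idx d) (Idx d) K,
    dag (q := q) d u₀ * u₀ = 1 ∧
    (∀ X : Matrix (Idx d) (Idx d) K, X * u₀ = u₀ * X ↔ X ∈ VV d K) ∧
    IsConj (Cfsg.jordanTypeMatrix d K) u₀ := by
  classical
  obtain ⟨θ, hθ⟩ := exists_moved (K := K) (q := q)
  have hδ := moved_sub_ne_zero hθ
  have hθ0 : θ ^ q ≠ 0 := by
    intro h
    apply hθ
    have h0 : θ = 0 := by
      have := two_le_q (K := K) hF.out
      exact pow_eq_zero_iff (by omega) |>.mp h
    rw [h, h0]
  have hθqq : (θ ^ q) ^ q = θ := by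
    rw [← frobq_apply (F := K) (q := q), ← frobq_apply (F := K) (q := q), frobq_frobq]
  set a : Matrix (Idx d) (Idx d) K := 1 + θ • NN d K with ha
  set b : Matrix (Idx d) (Idx d) K := 1 + θ ^ q • NN d K with hb
  have haR : a - 1 ∈ RR d K := by
    rw [ha, add_sub_cancel_left]
    exact RR_smul d hd _ (NN_mem_RR d hd)
  have hbR : b - 1 ∈ RR d K := by
    rw [hb, add_sub_cancel_left]
    exact RR_smul d hd _ (NN_mem_RR d hd)
  have hda : dag (q := q) d a = b := by
    rw [ha, dag_add, dag_one, dag_smul, dag_NN]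
  have hdb : dag (q := q) d b = a := by
    rw [hb, dag_add, dag_one, dag_smul, dag_NN, hθqq]
  obtain ⟨b', hb'R, hbb', hb'b⟩ := exists_inv d hd hbR
  have hab : a * b = b * a := by
    rw [ha, hb]
    simp only [Matrix.add_mul, Matrix.mul_add, Matrix.one_mul, Matrix.mul_one, Matrix.smul_mul,
      Matrix.mul_smul, smul_add, smul_smul]
    rw [mul_comm θ (θ ^ q)]
    abel
  -- the adjoint of the inverse of `b`
  have hdb' : dag (q := q) d b' * a = 1 := by
    rw [← hdb, ← dag_mul, hbb', dag_one]
  refine ⟨a * b', ?_, ?_, ?_⟩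
  · calc dag (q := q) d (a * b') * (a * b')
        = dag (q := q) d b' * (b * a) * b' := by
          rw [dag_mul, hda]; simp only [Matrix.mul_assoc]
      _ = dag (q := q) d b' * a * (b * b') := by rw [← hab]; simp only [Matrix.mul_assoc]
      _ = 1 := by rw [hbb', Matrix.mul_one, hdb']
  · intro X
    constructor
    · intro hX
      -- `θ - θ^q u₀ = (θ - θ^q) b'`
      have hw : θ • (1 : Matrix (Idx d) (Idx d) K) - θ ^ q • (a * b') = (θ - θ ^ q) • b' := by
        have e1 : (θ • (1 : Matrix (Idx d) (Idx d) K) - θ ^ q • (a * b')) * b =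
            (θ - θ ^ q) • (1 : Matrix (Idx d) (Idx d) K) := by
          rw [Matrix.sub_mul, Matrix.smul_mul, Matrix.one_mul, Matrix.smul_mul, Matrix.mul_assoc,
            hb'b, Matrix.mul_one, ha, hb, sub_smul]
          simp only [smul_add, smul_smul]
          rw [mul_comm θ]
          abel
        calc θ • (1 : Matrix (Idx d) (Idx d) K) - θ ^ q • (a * b')
            = (θ • (1 : Matrix (Idx d) (Idx d) K) - θ ^ q • (a * b')) * (b * b') := by
              rw [hbb', Matrix.mul_one]
          _ = (θ - θ ^ q) • b' := by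
              rw [← Matrix.mul_assoc, e1, Matrix.smul_mul, Matrix.one_mul]
      have hXw : X * ((θ - θ ^ q) • b') = ((θ - θ ^ q) • b') * X := by
        rw [← hw, Matrix.mul_sub, Matrix.sub_mul, Matrix.mul_smul, Matrix.smul_mul,
          Matrix.mul_one, Matrix.one_mul, Matrix.mul_smul, Matrix.smul_mul, hX]
      have hXb' : X * b' = b' * X := by
        rw [Matrix.mul_smul, Matrix.smul_mul] at hXw
        exact smul_right_injective _ hδ hXw
      have hXb : X * b = b * X := by
        calc X * b = (b * b') * X * b := by rw [hbb', Matrix.one_mul]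
          _ = b * (b' * X) * b := by simp only [Matrix.mul_assoc]
          _ = b * (X * b') * b := by rw [hXb']
          _ = b * X * (b' * b) := by simp only [Matrix.mul_assoc]
          _ = b * X := by rw [hb'b, Matrix.mul_one]
      rw [mem_VV]
      rw [hb, Matrix.mul_add, Matrix.add_mul, Matrix.mul_one, Matrix.one_mul, Matrix.mul_smul,
        Matrix.smul_mul] at hXb
      exact smul_right_injective _ hθ0 (add_left_cancel hXb)
    · intro hX
      rw [mem_VV] at hX
      have hXa : X * a = a * X := by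
        rw [ha, Matrix.mul_add, Matrix.add_mul, Matrix.mul_one, Matrix.one_mul, Matrix.mul_smul,
          Matrix.smul_mul, hX]
      have hXb : X * b = b * X := by
        rw [hb, Matrix.mul_add, Matrix.add_mul, Matrix.mul_one, Matrix.one_mul, Matrix.mul_smul,
          Matrix.smul_mul, hX]
      have hXb' : X * b' = b' * X := by
        calc X * b' = (b' * b) * X * b' := by rw [hb'b, Matrix.one_mul]
          _ = b' * (b * X) * b' := by simp only [Matrix.mul_assoc]
          _ = b' * (X * b) * b' := by rw [hXb]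
          _ = b' * X * (b * b') := by simp only [Matrix.mul_assoc]
          _ = b' * X := by rw [hbb', Matrix.mul_one]
      rw [← Matrix.mul_assoc, hXa, Matrix.mul_assoc, hXb', Matrix.mul_assoc]
  · apply Cfsg.Agent.Helper8.UJ.isConj_of_rank_pow_eq
    · obtain ⟨m, hm⟩ := RR_nilpotent d hd (NN_mem_RR (K := K) d hd)
      exact ⟨m, hm⟩
    · intro j
      have e : a * b' - 1 = NN d K * ((θ - θ ^ q) • b') := by
        calc a * b' - 1 = a * b' - b * b' := by rw [hbb']
          _ = (a - b) * b' := by rw [Matrix.sub_mul]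
          _ = NN d K * ((θ - θ ^ q) • b') := by
              rw [ha, hb, add_sub_add_left_eq_sub, ← sub_smul, Matrix.smul_mul, Matrix.mul_smul]
      rw [e]
      have hNb' : Commute (NN d K) b' := by
        have h := (mem_VV d b').mp (G1_mem_VV d hb'R)
        exact h.symm
      have hunit : IsUnit ((θ - θ ^ q) • b') := by
        refine ⟨⟨(θ - θ ^ q) • b', (θ - θ ^ q)⁻¹ • b, ?_, ?_⟩, rfl⟩
        · rw [Matrix.smul_mul, Matrix.mul_smul, smul_smul, mul_inv_cancel₀ hδ, one_smul, hb'b]
        · rw [Matrix.smul_mul, Matrix.mul_smul, smul_smul, inv_mul_cancel₀ hδ, one_smul, hbb']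
      exact (Cfsg.Agent.Helper8.UJ.rank_pow_mul_unit (NN d K) ((θ - θ ^ q) • b')
        (hNb'.smul_right _) hunit j).symm

end Cfsg.Agent.Helper8.UCent
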