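import Cfsg.Agent.Helper8.UCentH
import Cfsg.Agent.Helper8.WallE
set_option autoImplicit false
set_option linter.unusedSectionVars false

/-!
Centralisers of unipotent elements in the unitary groups: transfer from the model to the
standard unitary group, by Wall's theorem.
-/

namespace Cfsg.Agent.Helper8.UCent

open Polynomial Matrix Cfsg Cfsg.Agent.Helper8.GUOrder Cfsg.Agent.Helper8.SUCenter
  Cfsg.Agent.Helper8.AutSU Cfsg.Agent.Helper8.PU3 Cfsg.Agent.Helper8.PSUSing
  Cfsg.Agent.Helper8.RegSU Cfsg.Agent.Helper8.Wall Cfsg.Agent.Helper8.JCent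

/-- conjugate elements have centralisers of the same order -/
theorem card_centralizer_of_isConj {G : Type*} [Group G] {a b : G} (h : IsConj a b) :
    Nat.card (Subgroup.centralizer ({a} : Set G)) =
      Nat.card (Subgroup.centralizer ({b} : Set G)) := by
  obtain ⟨c, rfl⟩ := isConj_iff.mp h
  apply Nat.card_congr
  refine
    { toFun := fun x => ⟨c * x.1 * c⁻¹, ?_⟩
      invFun := fun x => ⟨c⁻¹ * x.1 * c, ?_⟩
      left_inv := fun x => Subtype.ext (by group)
      right_inv := fun x => Subtype.ext (by group) }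
  · have hx := Subgroup.mem_centralizer_singleton_iff.mp x.2
    rw [Subgroup.mem_centralizer_singleton_iff]
    calc c * x.1 * c⁻¹ * (c * a * c⁻¹) = c * (x.1 * a) * c⁻¹ := by group
      _ = c * (a * x.1) * c⁻¹ := by rw [hx]
      _ = c * a * c⁻¹ * (c * x.1 * c⁻¹) := by group
  · have hx := Subgroup.mem_centralizer_singleton_iff.mp x.2
    rw [Subgroup.mem_centralizer_singleton_iff]
    calc c⁻¹ * x.1 * c * a = c⁻¹ * (x.1 * (c * a * c⁻¹)) * c := by group
      _ = c⁻¹ * ((c * a * c⁻¹) * x.1) * c := by rw [hx]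
      _ = a * (c⁻¹ * x.1 * c) := by group

/-- conjugacy of units from conjugacy in the monoid -/
theorem isConj_units {M : Type*} [Monoid M] {x y : Mˣ} (h : IsConj (x : M) (y : M)) :
    IsConj x y := by
  obtain ⟨c, hc⟩ := h
  rw [isConj_iff]
  refine ⟨c, ?_⟩
  rw [mul_inv_eq_iff_eq_mul]
  apply Units.ext
  exact hc

variable {K : Type*} [Field K] [Fintype K] {q : ℕ} [hF : Fact (Fintype.card K = q ^ 2)]
variable {t : ℕ} (d : Fin t → ℕ) (hd : ∀ k, 1 ≤ d k)

theorem dag_mul_eq_one_iff (X : Matrix (Idx d) (Idx d) K) :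
    dag (q := q) d X * X = 1 ↔ st (q := q) X * EE d K * X = EE d K := by
  unfold dag
  constructor
  · intro h
    calc st (q := q) X * EE d K * X
        = (EE d K * EE d K) * (st (q := q) X * EE d K * X) := by rw [EE_mul_EE, Matrix.one_mul]
      _ = EE d K * (EE d K * st (q := q) X * EE d K * X) := by simp only [Matrix.mul_assoc]
      _ = EE d K := by rw [h, Matrix.mul_one]
  · intro h
    calc EE d K * st (q := q) X * EE d K * X = EE d K * (st (q := q) X * EE d K * X) := by
          simp only [Matrix.mul_assoc]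
      _ = 1 := by rw [h, EE_mul_EE]

include hd

/-- **transfer**: the centraliser in the standard unitary group of a unipotent element of Jordan
type `d` has the order of the unitary centraliser of the model -/
theorem card_centralizer_GU {n : ℕ} (e : Idx d ≃ Fin n) (u : GU n K q)
    (hu : IsConj (Matrix.reindex e e (Cfsg.jordanTypeMatrix d K))
      ((u : GL (Fin n) K) : Matrix (Fin n) (Fin n) K)) :
    Nat.card (Subgroup.centralizer ({u} : Set (GU n K q))) = Nat.card (UC d K q) := by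
  classical
  obtain ⟨u₀, hu₀U, hu₀C, hu₀J⟩ := exists_model (K := K) (q := q) d hd
  obtain ⟨p, hp⟩ := CharP.exists K
  have := hp
  have : Fact p.Prime := ⟨CharP.char_is_prime K p⟩
  have hEu : IsUnit (EE d K) := ⟨⟨EE d K, EE d K, EE_mul_EE d, EE_mul_EE d⟩, rfl⟩
  obtain ⟨c₀, -, hc₀⟩ := exists_st_mul_eq_of_isUnit (K := K) (q := q) p (EE d K) (st_EE d) hEu
  set c₀i : Matrix (Idx d) (Idx d) K := EE d K * st (q := q) c₀ with hc₀i
  have hi1 : c₀i * c₀ = 1 := by
    rw [hc₀i, Matrix.mul_assoc, hc₀, EE_mul_EE]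
  have hi2 : c₀ * c₀i = 1 := mul_eq_one_comm.mp hi1
  clear_value c₀i
  have hu₀U' := (dag_mul_eq_one_iff d u₀).mp hu₀U
  set u₁ : Matrix (Idx d) (Idx d) K := c₀ * u₀ * c₀i with hu₁
  have hu₁U : st (q := q) u₁ * u₁ = 1 := unitary_conj c₀ c₀i u₀ (EE d K) hi2 hc₀ hu₀U'
  set u₂ : Matrix (Fin n) (Fin n) K := u₁.submatrix e.symm e.symm with hu₂
  have hu₂U : st (q := q) u₂ * u₂ = 1 := by
    rw [hu₂, st_submatrix, Matrix.submatrix_mul_equiv, hu₁U, Matrix.submatrix_one_equiv]
  have hu₂₁ : u₂.submatrix e e = u₁ := by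
    rw [hu₂, Matrix.submatrix_submatrix]
    simp
  set g₂ : GU n K q := (guEquiv hF.out).symm ⟨u₂, (unitary_iff_st u₂).mpr hu₂U⟩ with hg₂
  have hg₂m : ((g₂ : GL (Fin n) K) : Matrix (Fin n) (Fin n) K) = u₂ := rfl
  -- `g₂` and `u` are conjugate
  have hconj : IsConj g₂ u := by
    rw [isConj_GU_iff]
    apply isConj_units
    rw [hg₂m]
    refine IsConj.trans ?_ hu
    apply IsConj.symm
    have h1 : IsConj (Cfsg.jordanTypeMatrix d K) u₁ := by
      refine hu₀J.trans ?_
      refine ⟨⟨c₀, c₀i, hi2, hi1⟩, ?_⟩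
      show c₀ * u₀ = u₁ * c₀
      rw [hu₁, Matrix.mul_assoc, hi1, Matrix.mul_one]
    have h2 := (Matrix.reindexAlgEquiv K K e).toAlgHom.toRingHom.toMonoidHom.map_isConj h1
    exact h2
  rw [← card_centralizer_of_isConj hconj]
  -- the three steps
  have step1 : Nat.card (Subgroup.centralizer ({g₂} : Set (GU n K q))) =
      Nat.card {M : Matrix (Fin n) (Fin n) K // st (q := q) M * M = 1 ∧ M * u₂ = u₂ * M} := by
    apply Nat.card_congr
    refine
      { toFun := fun x => ⟨((x.1 : GL (Fin n) K) : Matrix (Fin n) (Fin n) K), ?_, ?_⟩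
        invFun := fun M => ⟨(guEquiv hF.out).symm ⟨M.1, (unitary_iff_st M.1).mpr M.2.1⟩, ?_⟩
        left_inv := ?_
        right_inv := ?_ }
    · exact (unitary_iff_st _).mp ((mem_GU_iff hF.out x.1.1).mp x.1.2)
    · have hx := Subgroup.mem_centralizer_singleton_iff.mp x.2
      have h3 := congrArg (fun z : GU n K q => ((z : GL (Fin n) K) : Matrix (Fin n) (Fin n) K)) hx
      exact h3
    · rw [Subgroup.mem_centralizer_singleton_iff]
      apply Subtype.ext
      apply Units.ext
      exact M.2.2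
    · intro x
      apply Subtype.ext
      apply Subtype.ext
      apply Units.ext
      rfl
    · intro M
      rfl
  have step2 : Nat.card {M : Matrix (Fin n) (Fin n) K // st (q := q) M * M = 1 ∧ M * u₂ = u₂ * M} =
      Nat.card {Y : Matrix (Idx d) (Idx d) K // st (q := q) Y * Y = 1 ∧ Y * u₁ = u₁ * Y} := by
    apply Nat.card_congr
    refine
      { toFun := fun M => ⟨M.1.submatrix e e, ?_, ?_⟩
        invFun := fun Y => ⟨Y.1.submatrix e.symm e.symm, ?_, ?_⟩
        left_inv := ?_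
        right_inv := ?_ }
    · rw [st_submatrix, Matrix.submatrix_mul_equiv, M.2.1, Matrix.submatrix_one_equiv]
    · rw [← hu₂₁, Matrix.submatrix_mul_equiv, Matrix.submatrix_mul_equiv, M.2.2]
    · rw [st_submatrix, Matrix.submatrix_mul_equiv, Y.2.1, Matrix.submatrix_one_equiv]
    · rw [hu₂, Matrix.submatrix_mul_equiv, Matrix.submatrix_mul_equiv, Y.2.2]
    · intro M
      apply Subtype.ext
      ext a b
      simp
    · intro Y
      apply Subtype.ext
      ext a b
      simp
  have hcu : c₀ * u₀ = u₁ * c₀ := by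
    rw [hu₁, Matrix.mul_assoc, hi1, Matrix.mul_one]
  have hcu' : c₀i * u₁ = u₀ * c₀i := by
    rw [hu₁, ← Matrix.mul_assoc, ← Matrix.mul_assoc, hi1, Matrix.one_mul]
  have hsti : st (q := q) c₀i * EE d K * c₀i = 1 := by
    rw [← hc₀]
    calc st (q := q) c₀i * (st (q := q) c₀ * c₀) * c₀i
        = (st (q := q) c₀i * st (q := q) c₀) * (c₀ * c₀i) := by simp only [Matrix.mul_assoc]
      _ = 1 := by rw [← st_mul, hi2, st_one, Matrix.one_mul]
  have step3 : Nat.card {Y : Matrix (Idx d) (Idx d) K // st (q := q) Y * Y = 1 ∧ Y * u₁ = u₁ * Y} =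
      Nat.card (UC d K q) := by
    apply Nat.card_congr
    refine
      { toFun := fun Y => ⟨c₀i * Y.1 * c₀, ?_, ?_⟩
        invFun := fun X => ⟨c₀ * X.1 * c₀i, ?_, ?_⟩
        left_inv := ?_
        right_inv := ?_ }
    · rw [← hu₀C]
      calc c₀i * Y.1 * c₀ * u₀ = c₀i * (Y.1 * u₁) * c₀ := by
            rw [Matrix.mul_assoc, hcu]; simp only [Matrix.mul_assoc]
        _ = (c₀i * u₁) * Y.1 * c₀ := by rw [Y.2.2]; simp only [Matrix.mul_assoc]
        _ = u₀ * (c₀i * Y.1 * c₀) := by rw [hcu']; simp only [Matrix.mul_assoc]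
    · rw [dag_mul_eq_one_iff, st_mul, st_mul]
      calc st (q := q) c₀ * (st (q := q) Y.1 * st (q := q) c₀i) * EE d K * (c₀i * Y.1 * c₀)
          = st (q := q) c₀ * st (q := q) Y.1 * (st (q := q) c₀i * EE d K * c₀i) * Y.1 * c₀ := by
            simp only [Matrix.mul_assoc]
        _ = st (q := q) c₀ * (st (q := q) Y.1 * Y.1) * c₀ := by
            rw [hsti, Matrix.mul_one]; simp only [Matrix.mul_assoc]
        _ = EE d K := by rw [Y.2.1, Matrix.mul_one, hc₀]
    · exact unitary_conj c₀ c₀i X.1 (EE d K) hi2 hc₀ ((dag_mul_eq_one_iff d X.1).mp X.2.2)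
    · have hX := (hu₀C X.1).mpr X.2.1
      calc c₀ * X.1 * c₀i * u₁ = c₀ * X.1 * (c₀i * u₁) := by simp only [Matrix.mul_assoc]
        _ = c₀ * (X.1 * u₀) * c₀i := by rw [hcu']; simp only [Matrix.mul_assoc]
        _ = (c₀ * u₀) * X.1 * c₀i := by rw [hX]; simp only [Matrix.mul_assoc]
        _ = u₁ * (c₀ * X.1 * c₀i) := by rw [hcu]; simp only [Matrix.mul_assoc]
    · intro Y
      apply Subtype.ext
      show c₀ * (c₀i * Y.1 * c₀) * c₀i = Y.1
      calc c₀ * (c₀i * Y.1 * c₀) * c₀i = (c₀ * c₀i) * Y.1 * (c₀ * c₀i) := by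
            simp only [Matrix.mul_assoc]
        _ = Y.1 := by rw [hi2, Matrix.one_mul, Matrix.mul_one]
    · intro X
      apply Subtype.ext
      show c₀i * (c₀ * X.1 * c₀i) * c₀ = X.1
      calc c₀i * (c₀ * X.1 * c₀i) * c₀ = (c₀i * c₀) * X.1 * (c₀i * c₀) := by
            simp only [Matrix.mul_assoc]
        _ = X.1 := by rw [hi1, Matrix.one_mul, Matrix.mul_one]
  rw [step1, step2, step3]

end Cfsg.Agent.Helper8.UCent
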