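import Mathlib
import Cfsg.Agent.Helper8.AutSUzk
import Cfsg.Agent.Helper8.GrAutE

set_option autoImplicit false
set_option linter.unusedSectionVars false

/-! Graph automorphisms of `PSU_n(q)`: the transpose in `GL`, the automorphisms
`δ_A φ` (`φ` the standard automorphism of the `q`-power map), and their commutation with the
inner-diagonal automorphisms (helper8). -/

namespace Cfsg.Agent.Helper8.UGr

open Matrix Cfsg Cfsg.Agent.Helper8.AutSU Cfsg.Agent.Helper8.GrAut
open Cfsg.Agent.Helper8.AutSLn (gls glStar glInvTr glInvTr_coe glInvTr_inv_coe glInvTr_inv pslConj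
  pslInvTr ker_pslConj)

section Transpose

variable {F : Type*} [Field F] {m : Type*} [Fintype m] [DecidableEq m]

/-- the transpose in `GL` -/
def glT (g : GL m F) : GL m F := (glInvTr g)⁻¹

theorem glT_coe (g : GL m F) : (glT g : Matrix m m F) = (g : Matrix m m F).transpose := rfl

theorem glT_mul (a b : GL m F) : glT (a * b) = glT b * glT a := by
  apply Units.ext
  rw [Units.val_mul, glT_coe, glT_coe, glT_coe, Units.val_mul, Matrix.transpose_mul]

theorem glT_one : glT (1 : GL m F) = 1 := by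
  apply Units.ext
  rw [glT_coe, Units.val_one, Matrix.transpose_one]

theorem glT_inv (a : GL m F) : glT a⁻¹ = (glT a)⁻¹ := by
  rw [eq_inv_iff_mul_eq_one, ← glT_mul, mul_inv_cancel, glT_one]

theorem glT_glT (a : GL m F) : glT (glT a) = a := by
  apply Units.ext
  rw [glT_coe, glT_coe, Matrix.transpose_transpose]

theorem glT_scalar (c : Fˣ) :
    glT (Matrix.GeneralLinearGroup.scalar m c) = Matrix.GeneralLinearGroup.scalar m c := by
  apply Units.ext
  rw [glT_coe, Matrix.GeneralLinearGroup.coe_scalar, Matrix.scalar_apply,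
    Matrix.diagonal_transpose]

theorem gls_glT (σ : F ≃+* F) (g : GL m F) : gls σ (glT g) = glT (gls σ g) := by
  apply Units.ext
  ext i j
  rfl

theorem glStar_eq (σ : F ≃+* F) (g : GL m F) : glStar σ g = gls σ (glT g) := rfl

theorem glInvTr_eq (g : GL m F) : glInvTr g = (glT g)⁻¹ := by
  unfold glT
  rw [inv_inv]

theorem glT_injective : Function.Injective (glT : GL m F → GL m F) := by
  intro a b h
  rw [← glT_glT a, h, glT_glT]

theorem gls_gls (σ : F ≃+* F) (hσ : σ * σ = 1) (g : GL m F) : gls σ (gls σ g) = g := by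
  apply Units.ext
  ext i j
  exact RingEquiv.congr_fun hσ _

end Transpose

section Basic

variable {F : Type*} [Field F] [Fintype F] {q k N : ℕ} [hF : Fact (Fintype.card F = q ^ 2)]

/-- on the unitary group the `q`-power map is the inverse transpose -/
theorem coe_guField_frobE (g : GU N F q) :
    ((guField (frobE F q) g : GU N F q) : GL (Fin N) F) = (glT (g : GL (Fin N) F))⁻¹ := by
  have h1 := (mem_GU_iff_star (g : GL (Fin N) F)).mp g.2
  rw [glStar_eq] at h1
  have h2 : gls (frobE F q) (glT (g : GL (Fin N) F)) = (g : GL (Fin N) F)⁻¹ :=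
    (eq_inv_of_mul_eq_one_right h1)
  have h3 := congrArg (gls (frobE F q)) h2
  rw [gls_gls _ frobE_mul_self, map_inv] at h3
  rw [coe_guField, h3, inv_inv]

/-- the transpose of a unitary matrix -/
def guT (g : GU N F q) : GU N F q := (guField (frobE F q) g)⁻¹

theorem coe_guT (g : GU N F q) : ((guT g : GU N F q) : GL (Fin N) F) = glT (g : GL (Fin N) F) := by
  unfold guT
  rw [Subgroup.coe_inv, coe_guField_frobE, inv_inv]

theorem guField_frobE_eq (g : GU N F q) : guField (frobE F q) g = (guT g)⁻¹ := by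
  unfold guT
  rw [inv_inv]

/-- the standard graph automorphism of `PSU` -/
noncomputable def phi0 (N : ℕ) (F : Type*) [Field F] [Fintype F] (q : ℕ)
    [hF : Fact (Fintype.card F = q ^ 2)] : MulAut (PSU N F q) := psuField (frobE F q)

/-- the graph automorphism `δ_A φ` -/
noncomputable def ugraphAut (A : GU N F q) : MulAut (PSU N F q) := psuConj A * phi0 N F q

theorem ugraphAut_mul_psuConj (A g : GU N F q) :
    ugraphAut A * psuConj g = psuConj (A * (guT g)⁻¹) * phi0 N F q := by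
  unfold ugraphAut phi0
  rw [mul_assoc, psuField_mul_psuConj, ← mul_assoc, ← map_mul, guField_frobE_eq]

theorem psuConj_mul_ugraphAut (A g : GU N F q) :
    psuConj g * ugraphAut A = psuConj (g * A) * phi0 N F q := by
  unfold ugraphAut
  rw [← mul_assoc, ← map_mul]

theorem psuConj_ugraphAut_conj (g A : GU N F q) :
    psuConj g * ugraphAut A * (psuConj g)⁻¹ = ugraphAut (g * A * guT g) := by
  rw [mul_inv_eq_iff_eq_mul, ugraphAut_mul_psuConj, psuConj_mul_ugraphAut, mul_inv_cancel_right]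

theorem ugraphAut_mul_self (A : GU N F q) :
    ugraphAut A * ugraphAut A = psuConj (A * (guT A)⁻¹) := by
  unfold ugraphAut
  rw [mul_assoc, ← mul_assoc (phi0 N F q)]
  unfold phi0
  rw [psuField_mul_psuConj, mul_assoc, ← map_mul, frobE_mul_self, map_one, mul_one, ← map_mul,
    guField_frobE_eq]

end Basic

section Kernel

variable {F : Type*} [Field F] [Fintype F] {q k : ℕ} [hF : Fact (Fintype.card F = q ^ 2)]
/-- equality of two automorphisms in the coset of `φ` -/
theorem psuConj_mul_phi0_eq_iff (p : ℕ) [Fact p.Prime] [CharP F p] (hk : 1 ≤ k)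
    (X Y : GU (k + 2) F q) :
    (psuConj X * phi0 (k + 2) F q = psuConj Y * phi0 (k + 2) F q) ↔
      ((Y⁻¹ * X : GU (k + 2) F q) : GL (Fin (k + 2)) F) ∈ Subgroup.center (GL (Fin (k + 2)) F) := by
  rw [mul_left_inj, Matrix.GeneralLinearGroup.center_eq_range_scalar]
  have h1 : psuConj X = (psuConj Y : MulAut (PSU (k + 2) F q)) ↔
      Y⁻¹ * X ∈ (psuConj : GU (k + 2) F q →* MulAut (PSU (k + 2) F q)).ker := by
    rw [MonoidHom.mem_ker, map_mul, map_inv, inv_mul_eq_one, eq_comm]
  rw [h1, mem_ker_psuConj_iff_scalar p hk]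
  constructor
  · rintro ⟨μ, hμ⟩
    exact ⟨μ, hμ.symm⟩
  · rintro ⟨μ, hμ⟩
    exact ⟨μ, hμ.symm⟩

/-- the centraliser condition is the one for the general linear group -/
theorem commute_ugraphAut_iff (p : ℕ) [Fact p.Prime] [CharP F p] (hk : 1 ≤ k)
    (A g : GU (k + 2) F q) :
    ugraphAut A * psuConj g = psuConj g * ugraphAut A ↔
      (g : GL (Fin (k + 2)) F) ∈ simT (A : GL (Fin (k + 2)) F) := by
  rw [ugraphAut_mul_psuConj, psuConj_mul_ugraphAut, psuConj_mul_phi0_eq_iff p hk]
  unfold simT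
  rw [Subgroup.mem_comap, Subgroup.mem_centralizer_iff]
  have h2 : (∀ y ∈ ({graphAut (A : GL (Fin (k + 2)) F)} : Set _),
      y * pslConj (g : GL (Fin (k + 2)) F) = pslConj (g : GL (Fin (k + 2)) F) * y) ↔
      graphAut (A : GL (Fin (k + 2)) F) * pslConj (g : GL (Fin (k + 2)) F) =
        pslConj (g : GL (Fin (k + 2)) F) * graphAut (A : GL (Fin (k + 2)) F) := by
    constructor
    · intro h
      exact h _ rfl
    · intro h y hy
      rw [Set.mem_singleton_iff] at hy
      subst hy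
      exact h
  rw [h2, commute_graphAut_iff]
  have h3 : (((g * A)⁻¹ * (A * (guT g)⁻¹) : GU (k + 2) F q) : GL (Fin (k + 2)) F) =
      ((g : GL (Fin (k + 2)) F) * (A : GL (Fin (k + 2)) F))⁻¹ *
        ((A : GL (Fin (k + 2)) F) * glInvTr (g : GL (Fin (k + 2)) F)) := by
    rw [Subgroup.coe_mul, Subgroup.coe_inv, Subgroup.coe_mul, Subgroup.coe_mul, Subgroup.coe_inv,
      coe_guT, glInvTr_eq]
  rw [h3]

theorem ugraphAut_ne_one (p : ℕ) [Fact p.Prime] [CharP F p] (hk : 1 ≤ k)
    (A : GU (k + 2) F q) : ugraphAut A ≠ 1 := by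
  intro h
  have h1 : (psuConj A * psuField (frobE F q) : MulAut (PSU (k + 2) F q)) =
      psuConj 1 * psuField 1 := by
    rw [map_one, map_one, mul_one]
    exact h
  exact frobE_ne_one (psa_unique p hk h1).1

theorem psuConj_eq_one_iff (p : ℕ) [Fact p.Prime] [CharP F p] (hk : 1 ≤ k)
    (X : GU (k + 2) F q) :
    (psuConj X : MulAut (PSU (k + 2) F q)) = 1 ↔
      pslConj (X : GL (Fin (k + 2)) F) = 1 := by
  rw [← MonoidHom.mem_ker, mem_ker_psuConj_iff_scalar p hk, GrAut.pslConj_eq_one_iff]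

theorem ugraphAut_mul_self_eq_one_iff (p : ℕ) [Fact p.Prime] [CharP F p] (hk : 1 ≤ k)
    (A : GU (k + 2) F q) :
    ugraphAut A * ugraphAut A = 1 ↔
      graphAut (A : GL (Fin (k + 2)) F) * graphAut (A : GL (Fin (k + 2)) F) = 1 := by
  rw [ugraphAut_mul_self, graphAut_mul_self, psuConj_eq_one_iff p hk, Subgroup.coe_mul,
    Subgroup.coe_inv, coe_guT, glInvTr_eq]

theorem orderOf_ugraphAut_eq_two_iff (p : ℕ) [Fact p.Prime] [CharP F p] (hk : 1 ≤ k)
    (A : GU (k + 2) F q) :
    orderOf (ugraphAut A) = 2 ↔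
      (((A : GL (Fin (k + 2)) F) : Matrix (Fin (k + 2)) (Fin (k + 2)) F).transpose =
          ((A : GL (Fin (k + 2)) F) : Matrix (Fin (k + 2)) (Fin (k + 2)) F) ∨
        ((A : GL (Fin (k + 2)) F) : Matrix (Fin (k + 2)) (Fin (k + 2)) F).transpose =
          -((A : GL (Fin (k + 2)) F) : Matrix (Fin (k + 2)) (Fin (k + 2)) F)) := by
  rw [← orderOf_graphAut_fin (by omega), orderOf_eq_prime_iff, orderOf_eq_prime_iff, pow_two,
    pow_two, ugraphAut_mul_self_eq_one_iff p hk]
  constructor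
  · rintro ⟨h, -⟩
    exact ⟨h, graphAut_ne_one (by rw [Fintype.card_fin]; omega) _⟩
  · rintro ⟨h, -⟩
    exact ⟨h, ugraphAut_ne_one p hk A⟩

theorem ugraphAut_eq_iff (p : ℕ) [Fact p.Prime] [CharP F p] (hk : 1 ≤ k)
    (A B : GU (k + 2) F q) :
    ugraphAut A = ugraphAut B ↔
      ∃ c : Fˣ, ((B : GL (Fin (k + 2)) F) : Matrix (Fin (k + 2)) (Fin (k + 2)) F) =
        (c : F) • ((A : GL (Fin (k + 2)) F) : Matrix (Fin (k + 2)) (Fin (k + 2)) F) := by
  rw [← graphAut_eq_iff]
  unfold ugraphAut graphAut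
  rw [psuConj_mul_phi0_eq_iff p hk, mul_left_inj, ← ker_pslConj, MonoidHom.mem_ker,
    Subgroup.coe_mul, Subgroup.coe_inv, map_mul, map_inv, inv_mul_eq_one, eq_comm]

/-- conjugacy under the inner-diagonal group is congruence by unitary matrices up to a scalar -/
theorem isConjUnder_ugraphAut_iff (p : ℕ) [Fact p.Prime] [CharP F p] (hk : 1 ≤ k)
    (A B : GU (k + 2) F q) :
    Cfsg.IsConjUnder (psuConj : GU (k + 2) F q →* MulAut (PSU (k + 2) F q)).range
      (ugraphAut A) (ugraphAut B) ↔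
    ∃ (g : GU (k + 2) F q) (c : Fˣ),
      ((B : GL (Fin (k + 2)) F) : Matrix (Fin (k + 2)) (Fin (k + 2)) F) =
      (c : F) • (((g : GL (Fin (k + 2)) F) : Matrix (Fin (k + 2)) (Fin (k + 2)) F) *
        ((A : GL (Fin (k + 2)) F) : Matrix (Fin (k + 2)) (Fin (k + 2)) F) *
        ((g : GL (Fin (k + 2)) F) : Matrix (Fin (k + 2)) (Fin (k + 2)) F).transpose) := by
  constructor
  · rintro ⟨_, ⟨g, rfl⟩, h⟩
    rw [psuConj_ugraphAut_conj, eq_comm, ugraphAut_eq_iff p hk] at h
    obtain ⟨c, hc⟩ := h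
    refine ⟨g, c, ?_⟩
    rw [hc, Subgroup.coe_mul, Subgroup.coe_mul, coe_guT, Units.val_mul, Units.val_mul, glT_coe]
  · rintro ⟨g, c, h⟩
    refine ⟨psuConj g, ⟨g, rfl⟩, ?_⟩
    rw [psuConj_ugraphAut_conj, eq_comm, ugraphAut_eq_iff p hk]
    refine ⟨c, ?_⟩
    rw [h, Subgroup.coe_mul, Subgroup.coe_mul, coe_guT, Units.val_mul, Units.val_mul, glT_coe]

end Kernel

end Cfsg.Agent.Helper8.UGr
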