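import Mathlib
import Cfsg.Agent.Helper8.UGrA
import Cfsg.Agent.Helper8.GrAutH

set_option autoImplicit false
set_option linter.unusedSectionVars false

/-! Graph automorphisms of `PSU_n(q)`: every involutory graph automorphism is `δ_A φ`, and the
centraliser of `δ_A φ` in the inner-diagonal group (helper8). -/

namespace Cfsg.Agent.Helper8.UGr

open Matrix Cfsg Cfsg.Agent.Helper8.AutSU Cfsg.Agent.Helper8.GrAut
open Cfsg.Agent.Helper8.AutSLn (gls glStar glInvTr pslConj pslInvTr ker_pslConj)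

section Class

variable {F : Type*} [Field F] [Fintype F] {q k N : ℕ} [hF : Fact (Fintype.card F = q ^ 2)]

omit [Fintype F] hF in
theorem eq_psuConj_of_isInnerDiagonal {δ : MulAut (PSU N F q)}
    (h : Cfsg.IsInnerDiagonalAutPSU δ) : ∃ g : GU N F q, δ = psuConj g := by
  obtain ⟨g, hg, h⟩ := h
  refine ⟨⟨g, hg⟩, ?_⟩
  ext x
  induction x using QuotientGroup.induction_on with
  | H s => exact h s (suConj ⟨g, hg⟩ s) rfl

theorem orderOf_frobE : orderOf (frobE F q) = 2 := by
  rw [orderOf_eq_prime_iff, pow_two]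
  exact ⟨frobE_mul_self, frobE_ne_one⟩

theorem isGraphAutClass_ugraphAut (h3 : 3 ≤ N) (A : GU N F q) :
    Cfsg.IsGraphAutClassPSU (ugraphAut A) :=
  ⟨h3, psuConj A, phi0 N F q, frobE F q, by rw [orderOf_frobE]; exact even_two,
    isInnerDiagonal_psuConj A, isFieldAut_psuField _, rfl⟩

/-- every involutory graph automorphism is of the form `δ_A φ` -/
theorem exists_eq_ugraphAut (p f : ℕ) [Fact p.Prime] (hq : q = p ^ f) [CharP F p] (hk : 1 ≤ k)
    {γ : MulAut (PSU (k + 2) F q)} (h : Cfsg.IsGraphAutClassPSU γ) (h2 : orderOf γ = 2) :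
    ∃ A : GU (k + 2) F q, γ = ugraphAut A := by
  obtain ⟨-, δ, φ, σ, hσ, hδ, hφ, rfl⟩ := h
  obtain ⟨A, rfl⟩ := eq_psuConj_of_isInnerDiagonal hδ
  rw [eq_psuField_of_isFieldAut hφ] at h2 ⊢
  have h3 : (psuConj A * psuField σ : MulAut (PSU (k + 2) F q)) ^ 2 = 1 := by
    have := pow_orderOf_eq_one (psuConj A * psuField σ : MulAut (PSU (k + 2) F q))
    rw [h2] at this
    exact this
  rw [psa_pow] at h3
  have h4 : (psuConj (nrmGU σ A 2) * psuField (σ ^ 2) : MulAut (PSU (k + 2) F q)) =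
      psuConj 1 * psuField 1 := by
    rw [h3, map_one, map_one, mul_one]
  have h5 : σ ^ 2 = 1 := (psa_unique p hk h4).1
  have h6 : orderOf σ = 2 := by
    have h7 : orderOf σ ∣ 2 := orderOf_dvd_of_pow_eq_one h5
    rcases (Nat.dvd_prime Nat.prime_two).mp h7 with h8 | h8
    · rw [h8] at hσ
      exact absurd hσ (by decide)
    · exact h8
  have hcard : Fintype.card F = p ^ (f * 2) := by rw [hF.out, hq, ← pow_mul]
  obtain ⟨-, h9⟩ := Cfsg.Agent.Helper8.AutSLn.involution_eq_frob hcard σ h6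
  have h10 : σ = frobE F q := by
    ext a
    rw [h9, frobE_apply, Nat.mul_div_cancel _ two_pos, hq]
  rw [h10]
  exact ⟨A, rfl⟩

end Class

section Centralizer

variable {F : Type*} [Field F] [Fintype F] {q k : ℕ} [hF : Fact (Fintype.card F = q ^ 2)]

/-- the unitary matrices `g` with `g A gᵀ = c A` -/
noncomputable def usim (A : GU (k + 2) F q) : Subgroup (GL (Fin (k + 2)) F) :=
  GU (k + 2) F q ⊓ simT (A : GL (Fin (k + 2)) F)

/-- `usim A` acting on `PSU` -/
noncomputable def usimHom (A : GU (k + 2) F q) : ↥(usim A) →* MulAut (PSU (k + 2) F q) :=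
  psuConj.comp (Subgroup.inclusion (inf_le_left : usim A ≤ GU (k + 2) F q))

theorem usimHom_apply (A : GU (k + 2) F q) (g : ↥(usim A)) :
    usimHom A g = psuConj (⟨g.1, g.2.1⟩ : GU (k + 2) F q) := rfl

theorem ker_usimHom (p : ℕ) [Fact p.Prime] [CharP F p] (hk : 1 ≤ k) (A : GU (k + 2) F q) :
    (usimHom A).ker = (Cfsg.Geo.scalars (Fin (k + 2)) F).subgroupOf (usim A) := by
  ext g
  rw [MonoidHom.mem_ker, Subgroup.mem_subgroupOf, usimHom_apply, ← MonoidHom.mem_ker,
    mem_ker_psuConj_iff_scalar p hk, mem_scalars_iff_scalar]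

theorem range_usimHom (p : ℕ) [Fact p.Prime] [CharP F p] (hk : 1 ≤ k) (A : GU (k + 2) F q) :
    (usimHom A).range =
      (psuConj : GU (k + 2) F q →* MulAut (PSU (k + 2) F q)).range ⊓
        Subgroup.centralizer {ugraphAut A} := by
  ext β
  constructor
  · rintro ⟨g, rfl⟩
    refine ⟨⟨_, rfl⟩, ?_⟩
    apply Subgroup.mem_centralizer_iff.mpr
    intro y hy
    rw [Set.mem_singleton_iff] at hy
    subst hy
    rw [usimHom_apply, commute_ugraphAut_iff p hk]
    exact g.2.2
  · rintro ⟨⟨g, rfl⟩, h2⟩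
    replace h2 := Subgroup.mem_centralizer_iff.mp h2 _ rfl
    rw [commute_ugraphAut_iff p hk] at h2
    exact ⟨⟨g.1, g.2, h2⟩, rfl⟩

/-- **the centraliser of a graph automorphism of `PSU` in the inner-diagonal group** -/
theorem nonempty_centralizer_equiv_usim (p : ℕ) [Fact p.Prime] [CharP F p] (hk : 1 ≤ k)
    (A : GU (k + 2) F q) :
    Nonempty (↥(Cfsg.inndiagPSU (k + 2) F q ⊓ Subgroup.centralizer {ugraphAut A}) ≃*
      Cfsg.projQuot (usim A)) := by
  rw [inndiagPSU_eq]
  have e1 := QuotientGroup.quotientKerEquivRange (usimHom A)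
  have e2 := QuotientGroup.quotientMulEquivOfEq (ker_usimHom p hk A)
  have e3 := MulEquiv.subgroupCongr (range_usimHom p hk A)
  exact ⟨(e3.symm.trans e1.symm).trans e2⟩

end Centralizer

end Cfsg.Agent.Helper8.UGr
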