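import Mathlib
import Cfsg.Agent.Helper8.UGrA

set_option autoImplicit false
set_option linter.unusedSectionVars false

/-! Graph automorphisms of `PSU_n(q)`: a quadratic extension of finite fields given by an involution
`τ` of `F` and an embedding `ι` of its fixed field; norms, Hilbert 90, and the signs
(helper8). -/

namespace Cfsg.Agent.Helper8.UGr

open Matrix Cfsg
open Cfsg.Agent.Helper8.AutSLn (gls glStar unitsAut nrmF nrmF_two hinj_two hilbert90_units
  exists_nrmF_eq unitsAut_coe gls_scalar)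
open Cfsg.Agent.Helper8.AutSLn.Descent (um um_coe um_injective map_injective)

variable {F : Type*} [Field F] {F₀ : Type*} [Field F₀]

/-- an involution `τ` of `F` with an embedding `ι` of its fixed field -/
structure FD (τ : F ≃+* F) (ι : F₀ →+* F) : Prop where
  inv : τ * τ = 1
  ne : τ ≠ 1
  fix : ∀ a, τ (ι a) = ι a
  surj : ∀ b, τ b = b → ∃ a, ι a = b

namespace FD

variable {τ : F ≃+* F} {ι : F₀ →+* F}

theorem pow_two (D : FD τ ι) : τ ^ 2 = 1 := by rw [_root_.pow_two, D.inv]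

theorem unitsAut_unitsAut (D : FD τ ι) (c : Fˣ) : unitsAut τ (unitsAut τ c) = c := by
  ext
  exact RingEquiv.congr_fun D.inv _

theorem unitsAut_um (D : FD τ ι) (u : F₀ˣ) : unitsAut τ (um ι u) = um ι u := by
  ext
  exact D.fix _

theorem exists_um_eq (D : FD τ ι) (u : Fˣ) (hu : unitsAut τ u = u) :
    ∃ u₀ : F₀ˣ, um ι u₀ = u := by
  have h1 : τ (u : F) = u := congrArg (fun x : Fˣ => (x : F)) hu
  obtain ⟨a, ha⟩ := D.surj _ h1
  have ha0 : a ≠ 0 := by
    rintro rfl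
    rw [map_zero] at ha
    exact u.ne_zero ha.symm
  exact ⟨Units.mk0 a ha0, Units.ext ha⟩

/-- the norm is onto the fixed field -/
theorem exists_norm_eq [Finite F] (D : FD τ ι) (t : Fˣ) (ht : unitsAut τ t = t) :
    ∃ d : Fˣ, d * unitsAut τ d = t := by
  obtain ⟨d, hd⟩ := exists_nrmF_eq τ two_pos D.pow_two (hinj_two τ D.ne) t ht
  rw [nrmF_two] at hd
  exact ⟨d, hd⟩

/-- Hilbert 90 -/
theorem hilbert90 (D : FD τ ι) (c : Fˣ) (hc : c * unitsAut τ c = 1) :
    ∃ d : Fˣ, c = unitsAut τ d * d⁻¹ := by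
  obtain ⟨e, he⟩ := hilbert90_units τ two_pos D.pow_two (hinj_two τ D.ne) c
    (by rw [nrmF_two]; exact hc)
  refine ⟨e⁻¹, ?_⟩
  rw [he, map_inv, inv_inv, mul_comm]

end FD

/-- the sign data: `ε = ± 1`, `η` of norm `ε`, and `ω` with `τ ω = ε ω` -/
structure SD (τ : F ≃+* F) (ε η ω : Fˣ) : Prop where
  hε : ε * ε = 1
  hτε : unitsAut τ ε = ε
  hη : η * unitsAut τ η = ε
  hω : unitsAut τ ω = ε * ω

theorem SD.one (τ : F ≃+* F) : SD τ 1 1 1 :=
  ⟨one_mul 1, map_one _, by rw [map_one, one_mul], by rw [map_one, one_mul]⟩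

theorem unitsAut_neg_one (τ : F ≃+* F) : unitsAut τ (-1 : Fˣ) = -1 := by
  ext
  rw [unitsAut_coe, Units.val_neg, Units.val_one, map_neg, map_one]

theorem FD.exists_SD_neg [Finite F] {τ : F ≃+* F} {ι : F₀ →+* F} (D : FD τ ι) :
    ∃ η ω : Fˣ, SD τ (-1) η ω := by
  obtain ⟨η, hη⟩ := D.exists_norm_eq (-1) (unitsAut_neg_one τ)
  obtain ⟨d, hd⟩ := D.hilbert90 (-1) (by rw [unitsAut_neg_one, neg_mul_neg, one_mul])
  refine ⟨η, d, ?_, unitsAut_neg_one τ, hη, ?_⟩
  · rw [neg_mul_neg, one_mul]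
  · rw [hd, inv_mul_cancel_right]

section GLpart

variable {m : Type*} [Fintype m] [DecidableEq m] {τ : F ≃+* F} {ι : F₀ →+* F}

theorem FD.gls_map (D : FD τ ι) (g₀ : GL m F₀) :
    gls τ (Matrix.GeneralLinearGroup.map ι g₀) = Matrix.GeneralLinearGroup.map ι g₀ := by
  apply Units.ext
  ext i j
  exact D.fix _

theorem FD.gls_gls (D : FD τ ι) (g : GL m F) : gls τ (gls τ g) = g :=
  Cfsg.Agent.Helper8.UGr.gls_gls τ D.inv g

theorem glT_map (ι : F₀ →+* F) (g₀ : GL m F₀) :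
    glT (Matrix.GeneralLinearGroup.map ι g₀) = Matrix.GeneralLinearGroup.map ι (glT g₀) := by
  apply Units.ext
  ext i j
  rfl

theorem map_scalar (ι : F₀ →+* F) (c₀ : F₀ˣ) :
    Matrix.GeneralLinearGroup.map ι (Matrix.GeneralLinearGroup.scalar m c₀) =
      Matrix.GeneralLinearGroup.scalar m (um ι c₀) := by
  apply Units.ext
  ext i j
  show ι ((Matrix.scalar m (c₀ : F₀)) i j) = (Matrix.scalar m (ι c₀)) i j
  rw [Matrix.scalar_apply, Matrix.scalar_apply, Matrix.diagonal_apply, Matrix.diagonal_apply]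
  by_cases hij : i = j
  · rw [if_pos hij, if_pos hij]
  · rw [if_neg hij, if_neg hij, map_zero]

theorem FD.exists_map_eq (D : FD τ ι) (g : GL m F) (hg : gls τ g = g) :
    ∃ g₀ : GL m F₀, Matrix.GeneralLinearGroup.map ι g₀ = g :=
  Cfsg.Agent.Helper8.AutSLn.exists_map_eq τ ι D.surj g hg

theorem scalar_comm' (c : Fˣ) (y : GL m F) :
    Matrix.GeneralLinearGroup.scalar m c * y = y * Matrix.GeneralLinearGroup.scalar m c :=
  Matrix.GeneralLinearGroup.scalar_commute c y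

end GLpart

end Cfsg.Agent.Helper8.UGr
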