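import Mathlib
import Cfsg.Agent.Helper8.UGrC

set_option autoImplicit false
set_option linter.unusedSectionVars false

/-! Graph automorphisms of `PSU_n(q)`: the descent of a symmetric or skew-symmetric unitary matrix
to a symmetric or skew-symmetric matrix over the fixed field (helper8). -/

namespace Cfsg.Agent.Helper8.UGr

open Matrix Cfsg
open Cfsg.Agent.Helper8.AutSLn (gls glStar unitsAut unitsAut_coe nrmGL nrmGL_succ nrmGL_zero
  hilbert90_GL herm_decomp hinj_two)
open Cfsg.Agent.Helper8.AutSLn.Descent (um um_coe um_injective map_injective)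

section Smul

variable {F : Type*} [Field F] {F₀ : Type*} [Field F₀] {m : Type*} [Fintype m] [DecidableEq m]

theorem coe_smul' (c : Fˣ) (g : GL m F) :
    ((c • g : GL m F) : Matrix m m F) = (c : F) • (g : Matrix m m F) := rfl

theorem smul_mul' (c : Fˣ) (g h : GL m F) : (c • g) * h = c • (g * h) := by
  apply Units.ext
  rw [Units.val_mul, coe_smul', coe_smul', Units.val_mul, Matrix.smul_mul]

theorem mul_smul' (c : Fˣ) (g h : GL m F) : g * (c • h) = c • (g * h) := by
  apply Units.ext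
  rw [Units.val_mul, coe_smul', coe_smul', Units.val_mul, Matrix.mul_smul]

theorem scalar_mul_eq (c : Fˣ) (g : GL m F) :
    Matrix.GeneralLinearGroup.scalar m c * g = c • g := by
  apply Units.ext
  rw [Units.val_mul, Matrix.GeneralLinearGroup.coe_scalar, Matrix.scalar_apply,
    ← Matrix.smul_one_eq_diagonal, Matrix.smul_mul, Matrix.one_mul, coe_smul']

theorem scalar_eq_smul_one (c : Fˣ) :
    Matrix.GeneralLinearGroup.scalar m c = c • (1 : GL m F) := by
  rw [← scalar_mul_eq, mul_one]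

theorem gls_smul (τ : F ≃+* F) (c : Fˣ) (g : GL m F) :
    gls τ (c • g) = unitsAut τ c • gls τ g := by
  apply Units.ext
  ext i j
  show τ ((c : F) * (g : Matrix m m F) i j) = τ c * τ ((g : Matrix m m F) i j)
  rw [map_mul]

theorem glT_smul (c : Fˣ) (g : GL m F) : glT (c • g) = c • glT g := by
  apply Units.ext
  rw [glT_coe, coe_smul', coe_smul', glT_coe, Matrix.transpose_smul]

theorem map_smul' (ι : F₀ →+* F) (c₀ : F₀ˣ) (g₀ : GL m F₀) :
    Matrix.GeneralLinearGroup.map ι (c₀ • g₀) = um ι c₀ • Matrix.GeneralLinearGroup.map ι g₀ := by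
  apply Units.ext
  ext i j
  show ι ((c₀ : F₀) * (g₀ : Matrix m m F₀) i j) = ι c₀ * ι ((g₀ : Matrix m m F₀) i j)
  rw [map_mul]

theorem smul_inv' (c : Fˣ) (g : GL m F) : (c • g)⁻¹ = c⁻¹ • g⁻¹ := by
  apply inv_eq_of_mul_eq_one_right
  rw [smul_mul', mul_smul', smul_smul, mul_inv_cancel, mul_inv_cancel, one_smul]

theorem smul_left_injective' [Nonempty m] (g : GL m F) {c d : Fˣ} (h : c • g = d • g) : c = d := by
  have h1 : c • (1 : GL m F) = d • (1 : GL m F) := by
    have := congrArg (fun x => x * g⁻¹) h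
    simp only [smul_mul', mul_inv_cancel] at this
    exact this
  rw [← scalar_eq_smul_one, ← scalar_eq_smul_one] at h1
  exact Cfsg.Agent.Helper8.AutSLn.scalar_injective h1

end Smul

section Descent

variable {F : Type*} [Field F] {F₀ : Type*} [Field F₀] {m : Type*} [Fintype m] [DecidableEq m]
variable {τ : F ≃+* F} {ι : F₀ →+* F} {ε η ω : Fˣ}

/-- the descent data of a matrix `A`: `η A = B τ(B)⁻¹`, and the matrix `M₀` over the fixed field
with `M₀ = ω (Bᵀ τ(B))⁻¹` -/
structure DD (τ : F ≃+* F) (ι : F₀ →+* F) (η ω : Fˣ) (A B : GL m F) (M₀ : GL m F₀) : Prop where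
  hB : η • A = B * (gls τ B)⁻¹
  hM : Matrix.GeneralLinearGroup.map ι M₀ = ω • (glT B * gls τ B)⁻¹

theorem SD.inv_eq (S : SD τ ε η ω) : ε⁻¹ = ε := inv_eq_of_mul_eq_one_right S.hε

/-- the key symmetry relation -/
theorem symm_rel (_S : SD τ ε η ω) {A B : GL m F} (hB : η • A = B * (gls τ B)⁻¹)
    (hT : glT A = ε • A) : glT B * gls τ B = ε • (glT (gls τ B) * B) := by
  have h2 : glT (η • A) = ε • (η • A) := by
    rw [glT_smul, hT, smul_smul, smul_smul, mul_comm]
  rw [hB, glT_mul, glT_inv] at h2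
  calc glT B * gls τ B = glT (gls τ B) * ((glT (gls τ B))⁻¹ * glT B) * gls τ B := by group
    _ = glT (gls τ B) * (ε • (B * (gls τ B)⁻¹)) * gls τ B := by rw [h2]
    _ = ε • (glT (gls τ B) * B) := by
      rw [mul_smul', smul_mul']
      congr 1
      group

/-- **existence of the descent data** -/
theorem exists_DD [Finite F] (D : FD τ ι) (S : SD τ ε η ω) (A : GL m F)
    (hU : A * glStar τ A = 1) (hT : glT A = ε • A) :
    ∃ (B : GL m F) (M₀ : GL m F₀), DD τ ι η ω A B M₀ := by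
  have h1 : (η • A) * gls τ (η • A) = 1 := by
    rw [glStar_eq, hT, gls_smul, S.hτε, mul_smul'] at hU
    rw [gls_smul, smul_mul', mul_smul', smul_smul, S.hη]
    exact hU
  have hN : nrmGL τ (η • A) 2 = 1 := by
    rw [nrmGL_succ, nrmGL_succ, nrmGL_zero, map_one, mul_one]
    exact h1
  obtain ⟨B, hB⟩ := hilbert90_GL τ two_pos D.pow_two (hinj_two τ D.ne) (η • A) hN
  have h3 := symm_rel S hB hT
  have h4 : gls τ (ω • (glT B * gls τ B)⁻¹) = ω • (glT B * gls τ B)⁻¹ := by
    rw [gls_smul, map_inv, map_mul, D.gls_gls, gls_glT, S.hω, h3, smul_inv', smul_smul, S.inv_eq,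
      mul_comm]
  obtain ⟨M₀, hM₀⟩ := D.exists_map_eq _ h4
  exact ⟨B, M₀, hB, hM₀⟩

theorem DD.glT_map (S : SD τ ε η ω) {A B : GL m F} {M₀ : GL m F₀} (X : DD τ ι η ω A B M₀)
    (hT : glT A = ε • A) :
    glT (Matrix.GeneralLinearGroup.map ι M₀) = ε • Matrix.GeneralLinearGroup.map ι M₀ := by
  have h3 := symm_rel S X.hB hT
  rw [X.hM, glT_smul, glT_inv, glT_mul, glT_glT, smul_smul, mul_comm, ← smul_smul]
  congr 1
  rw [h3, smul_inv', smul_smul, S.inv_eq, S.hε, one_smul]

/-- **every symmetric or skew-symmetric matrix over the fixed field is a descent** -/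
theorem exists_DD_of_form [Finite F] (D : FD τ ι) (S : SD τ ε η ω) (M₀ : GL m F₀)
    (hM₀ : glT (Matrix.GeneralLinearGroup.map ι M₀) = ε • Matrix.GeneralLinearGroup.map ι M₀) :
    ∃ A B : GL m F, DD τ ι η ω A B M₀ ∧ A * glStar τ A = 1 ∧ glT A = ε • A := by
  obtain ⟨H, hH⟩ : ∃ H : GL m F, H = ω • (Matrix.GeneralLinearGroup.map ι M₀)⁻¹ := ⟨_, rfl⟩
  have hTH : glT H = ε⁻¹ • H := by
    rw [hH, glT_smul, glT_inv, hM₀, smul_inv', smul_smul, smul_smul, mul_comm]
  have hstar : glStar τ H = H := by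
    rw [glStar_eq, hTH, gls_smul, map_inv, S.hτε, hH, gls_smul, map_inv, D.gls_map, S.hω,
      smul_smul, inv_mul_cancel_left]
  obtain ⟨k, hk⟩ := herm_decomp τ D.ne D.inv H hstar
  obtain ⟨B, hBk⟩ : ∃ B : GL m F, B = glT k := ⟨_, rfl⟩
  have hTB : glT B = k := by rw [hBk, glT_glT]
  have hβB : gls τ B = glStar τ k := by rw [hBk, glStar_eq]
  have hHB : glT B * gls τ B = H := by rw [hTB, hβB, ← hk]
  have h3' : glT (gls τ B) * B = ε⁻¹ • (glT B * gls τ B) := by
    rw [hHB, ← hTH, ← hHB, glT_mul, glT_glT]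
  have h3 : glT B * gls τ B = ε • (glT (gls τ B) * B) := by
    rw [h3', smul_smul, mul_inv_cancel, one_smul]
  refine ⟨η⁻¹ • (B * (gls τ B)⁻¹), B, ⟨?_, ?_⟩, ?_, ?_⟩
  · rw [smul_smul, mul_inv_cancel, one_smul]
  · rw [hHB, hH, smul_inv', inv_inv, smul_smul, mul_inv_cancel, one_smul]
  · have hTA : glT (η⁻¹ • (B * (gls τ B)⁻¹)) = ε • (η⁻¹ • (B * (gls τ B)⁻¹)) := by
      rw [glT_smul, glT_mul, glT_inv, smul_smul, mul_comm ε, ← smul_smul]
      congr 1
      calc (glT (gls τ B))⁻¹ * glT B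
          = (glT (gls τ B))⁻¹ * (glT B * gls τ B) * (gls τ B)⁻¹ := by group
        _ = ε • (B * (gls τ B)⁻¹) := by
          rw [h3, mul_smul', smul_mul']
          congr 1
          group
    rw [glStar_eq, hTA, gls_smul, gls_smul]
    simp only [map_mul, map_inv]
    rw [D.gls_gls, S.hτε, smul_mul', mul_smul', mul_smul', smul_smul, smul_smul]
    have e1 : B * (gls τ B)⁻¹ * (gls τ B * B⁻¹) = 1 := by group
    have e2 : η⁻¹ * ε * (unitsAut τ η)⁻¹ = 1 := by
      rw [← S.hη]
      group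
    rw [e1, e2, one_smul]
  · rw [glT_smul, glT_mul, glT_inv, smul_smul, mul_comm ε, ← smul_smul]
    congr 1
    calc (glT (gls τ B))⁻¹ * glT B
        = (glT (gls τ B))⁻¹ * (glT B * gls τ B) * (gls τ B)⁻¹ := by group
      _ = ε • (B * (gls τ B)⁻¹) := by
        rw [h3, mul_smul', smul_mul']
        congr 1
        group

end Descent

end Cfsg.Agent.Helper8.UGr
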