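import Mathlib
import Cfsg.Agent.Helper8.UGrD

set_option autoImplicit false
set_option linter.unusedSectionVars false

/-! Graph automorphisms of `PSU_n(q)`: unitary congruences between symmetric unitary matrices
correspond to congruences between their descents over the fixed field (helper8). -/

namespace Cfsg.Agent.Helper8.UGr

open Matrix Cfsg
open Cfsg.Agent.Helper8.AutSLn (gls glStar unitsAut unitsAut_coe)
open Cfsg.Agent.Helper8.AutSLn.Descent (um um_coe um_injective map_injective)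

variable {F : Type*} [Field F] {F₀ : Type*} [Field F₀] {m : Type*} [Fintype m] [DecidableEq m]
variable {τ : F ≃+* F} {ι : F₀ →+* F} {ε η ω : Fˣ}

theorem DD.gls_B (_D : FD τ ι) {A B : GL m F} {M₀ : GL m F₀} (X : DD τ ι η ω A B M₀) :
    gls τ B = (η • A)⁻¹ * B := by
  rw [X.hB]
  group

/-- the form matrix in terms of `A` -/
theorem DD.form_eq {A B : GL m F} {M₀ : GL m F₀} (X : DD τ ι η ω A B M₀) :
    (glT B * gls τ B)⁻¹ = B⁻¹ * (η • A) * (glT B)⁻¹ := by
  rw [X.hB]
  group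

/-- a unitary matrix is the inverse transpose of its conjugate -/
theorem gls_eq_of_unitary (D : FD τ ι) {g : GL m F} (hg : g * glStar τ g = 1) :
    gls τ g = (glT g)⁻¹ := by
  rw [glStar_eq] at hg
  have h1 : gls τ (glT g) = g⁻¹ := eq_inv_of_mul_eq_one_right hg
  have h2 := congrArg (gls τ) h1
  rw [D.gls_gls, map_inv] at h2
  rw [h2, inv_inv]

/-- **descent of a unitary congruence** -/
theorem DD.descend [Finite F] [Nonempty m] (D : FD τ ι) {A A' B B' : GL m F}
    {M₀ M₀' : GL m F₀} (X : DD τ ι η ω A B M₀) (X' : DD τ ι η ω A' B' M₀')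
    (g : GL m F) (hg : g * glStar τ g = 1) (c : Fˣ) (hc : g * A * glT g = c • A') :
    ∃ (d : Fˣ) (g₀ : GL m F₀) (c₀ : F₀ˣ),
      d • g = B' * Matrix.GeneralLinearGroup.map ι g₀ * B⁻¹ ∧ g₀ * M₀ * glT g₀ = c₀ • M₀' ∧
      um ι c₀ = d * unitsAut τ d ∧ c = unitsAut τ d * d⁻¹ := by
  have hβg := gls_eq_of_unitary D hg
  have hβA : gls τ (η • A) = (η • A)⁻¹ := by
    rw [X.hB, map_mul, map_inv, D.gls_gls]
    group
  have hβA' : gls τ (η • A') = (η • A')⁻¹ := by
    rw [X'.hB, map_mul, map_inv, D.gls_gls]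
    group
  have hc' : g * (η • A) * glT g = c • (η • A') := by
    rw [mul_smul', smul_mul', hc, smul_smul, smul_smul, mul_comm]
  -- the scalar has norm one
  have hcc : c * unitsAut τ c = 1 := by
    have h1 : g * (η • A) * (gls τ g)⁻¹ = c • (η • A') := by rw [hβg, inv_inv, hc']
    have h2 := congrArg (gls τ) h1
    rw [map_mul, map_mul, map_inv, D.gls_gls, hβA, gls_smul, hβA'] at h2
    have h3 : g * (η • A) * (gls τ g)⁻¹ = (unitsAut τ c)⁻¹ • (η • A') := by
      calc g * (η • A) * (gls τ g)⁻¹ = (gls τ g * (η • A)⁻¹ * g⁻¹)⁻¹ := by group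
        _ = (unitsAut τ c)⁻¹ • (η • A') := by rw [h2, smul_inv', inv_inv]
    rw [h1] at h3
    have h4 := smul_left_injective' _ h3
    rw [mul_eq_one_iff_eq_inv]
    exact h4
  obtain ⟨d, hd⟩ := D.hilbert90 c hcc
  obtain ⟨κ, hκ⟩ : ∃ κ : Fˣ, κ = d * unitsAut τ d := ⟨_, rfl⟩
  have hτκ : unitsAut τ κ = κ := by rw [hκ, map_mul, D.unitsAut_unitsAut, mul_comm]
  obtain ⟨c₀, hc₀⟩ := D.exists_um_eq κ hτκ
  -- the normalised matrix
  have h5 : (d • g) * (η • A) * glT (d • g) = κ • (η • A') := by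
    calc (d • g) * (η • A) * glT (d • g) = (d * d) • (g * (η • A) * glT g) := by
          rw [glT_smul, smul_mul', smul_mul', mul_smul', smul_smul]
      _ = (d * d) • (c • (η • A')) := by rw [hc']
      _ = κ • (η • A') := by
          rw [smul_smul, hd, hκ]
          congr 1
          rw [mul_assoc, mul_comm (unitsAut τ d), mul_inv_cancel_left]
  have h6 : gls τ (d • g) * glT (d • g) = κ • (1 : GL m F) := by
    rw [gls_smul, glT_smul, smul_mul', mul_smul', smul_smul, hβg, inv_mul_cancel, hκ, mul_comm]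
  have h7 : gls τ (d • g) = (η • A')⁻¹ * (d • g) * (η • A) := by
    have e1 : glT (d • g) = κ • (gls τ (d • g))⁻¹ := by
      calc glT (d • g) = (gls τ (d • g))⁻¹ * (gls τ (d • g) * glT (d • g)) := by group
        _ = κ • (gls τ (d • g))⁻¹ := by rw [h6, mul_smul', mul_one]
    rw [e1, mul_smul'] at h5
    have e2 : (d • g) * (η • A) * (gls τ (d • g))⁻¹ = η • A' := smul_left_cancel κ h5
    rw [← e2]
    group
  have h8 : gls τ (B'⁻¹ * (d • g) * B) = B'⁻¹ * (d • g) * B := by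
    rw [map_mul, map_mul, map_inv, h7, X.gls_B D, X'.gls_B D]
    group
  obtain ⟨g₀, hg₀⟩ := D.exists_map_eq _ h8
  refine ⟨d, g₀, c₀, ?_, ?_, by rw [hc₀, hκ], hd⟩
  · rw [hg₀]
    group
  · apply map_injective ι
    rw [map_mul, map_mul, ← Cfsg.Agent.Helper8.UGr.glT_map, map_smul', hg₀, X.hM, X'.hM, hc₀, X.form_eq, X'.form_eq,
      mul_smul', smul_mul', smul_smul, mul_comm κ, ← smul_smul]
    congr 1
    simp only [glT_mul, glT_inv]
    calc _ = B'⁻¹ * ((d • g) * (η • A) * glT (d • g)) * (glT B')⁻¹ := by group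
      _ = κ • (B'⁻¹ * (η • A') * (glT B')⁻¹) := by
        rw [h5, mul_smul', smul_mul']

/-- **ascent of a congruence over the fixed field** -/
theorem DD.ascend [Finite F] [Nonempty m] (D : FD τ ι) {A A' B B' : GL m F}
    {M₀ M₀' : GL m F₀} (X : DD τ ι η ω A B M₀) (X' : DD τ ι η ω A' B' M₀')
    (g₀ : GL m F₀) (c₀ : F₀ˣ) (h : g₀ * M₀ * glT g₀ = c₀ • M₀') (d : Fˣ)
    (hd : d * unitsAut τ d = um ι c₀) :
    ∃ g : GL m F, g * glStar τ g = 1 ∧ g * A * glT g = (unitsAut τ d * d⁻¹) • A' ∧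
      d • g = B' * Matrix.GeneralLinearGroup.map ι g₀ * B⁻¹ := by
  obtain ⟨gt, hgt⟩ : ∃ gt : GL m F, gt = B' * Matrix.GeneralLinearGroup.map ι g₀ * B⁻¹ :=
    ⟨_, rfl⟩
  have h1 : Matrix.GeneralLinearGroup.map ι g₀ * (B⁻¹ * (η • A) * (glT B)⁻¹) *
      glT (Matrix.GeneralLinearGroup.map ι g₀) = um ι c₀ • (B'⁻¹ * (η • A') * (glT B')⁻¹) := by
    have e1 := congrArg (Matrix.GeneralLinearGroup.map ι) h
    rw [map_mul, map_mul, ← Cfsg.Agent.Helper8.UGr.glT_map, map_smul', X.hM, X'.hM, X.form_eq, X'.form_eq,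
      mul_smul', smul_mul', smul_smul, mul_comm (um ι c₀), ← smul_smul] at e1
    exact smul_left_cancel ω e1
  have h5 : gt * (η • A) * glT gt = um ι c₀ • (η • A') := by
    rw [hgt]
    simp only [glT_mul, glT_inv]
    calc _ = B' * (Matrix.GeneralLinearGroup.map ι g₀ * (B⁻¹ * (η • A) * (glT B)⁻¹) *
            glT (Matrix.GeneralLinearGroup.map ι g₀)) * glT B' := by group
      _ = um ι c₀ • (η • A') := by
        rw [h1, mul_smul', smul_mul']
        congr 1
        group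
  have h7 : gls τ gt = (η • A')⁻¹ * gt * (η • A) := by
    rw [hgt, map_mul, map_mul, map_inv, D.gls_map, X.gls_B D, X'.gls_B D]
    group
  have h6 : gls τ gt * glT gt = um ι c₀ • (1 : GL m F) := by
    rw [h7]
    calc (η • A')⁻¹ * gt * (η • A) * glT gt = (η • A')⁻¹ * (gt * (η • A) * glT gt) := by group
      _ = um ι c₀ • (1 : GL m F) := by rw [h5, mul_smul', inv_mul_cancel]
  refine ⟨d⁻¹ • gt, ?_, ?_, ?_⟩
  · have e1 : gls τ (d⁻¹ • gt) * glT (d⁻¹ • gt) = 1 := by
      rw [gls_smul, glT_smul, smul_mul', mul_smul', smul_smul, h6, smul_smul, map_inv, ← hd]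
      have : (unitsAut τ d)⁻¹ * d⁻¹ * (d * unitsAut τ d) = 1 := by group
      rw [this, one_smul]
    have e2 : glT (d⁻¹ • gt) * gls τ (d⁻¹ • gt) = 1 := by
      rw [mul_eq_one_iff_eq_inv, ← mul_eq_one_iff_eq_inv']
      exact e1
    have e3 := congrArg glT e2
    rw [glT_mul, glT_glT, glT_one, ← gls_glT] at e3
    have e4 : (d⁻¹ • gt) * gls τ (glT (d⁻¹ • gt)) = 1 := by
      rw [mul_eq_one_iff_eq_inv, ← mul_eq_one_iff_eq_inv']
      exact e3
    rw [glStar_eq]
    exact e4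
  · have e1 : (d⁻¹ • gt) * (η • A) * glT (d⁻¹ • gt) = (unitsAut τ d * d⁻¹) • (η • A') := by
      rw [glT_smul, smul_mul', smul_mul', mul_smul', h5, smul_smul, smul_smul, ← hd]
      congr 1
      rw [mul_assoc, inv_mul_cancel_left, mul_comm]
    rw [mul_smul', smul_mul', smul_comm] at e1
    exact smul_left_cancel η e1
  · rw [smul_smul, mul_inv_cancel, one_smul, hgt]

end Cfsg.Agent.Helper8.UGr
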