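import Mathlib
import Cfsg.Agent.Helper8.UGrE
import Cfsg.Agent.Helper8.GrAutH

set_option autoImplicit false
set_option linter.unusedSectionVars false

/-! Graph automorphisms of `PSU_n(q)`: the projective group of unitary similarities of a symmetric
unitary matrix is the projective similarity group of its descent, and unitary congruence is
congruence of the descents (helper8). -/

namespace Cfsg.Agent.Helper8.UGr

open Matrix Cfsg Cfsg.Agent.Helper8.GrAut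
open Cfsg.Agent.Helper8.AutSLn (gls glStar unitsAut unitsAut_coe pslConj ker_pslConj subfieldHom
  subfieldHom_apply ker_subfieldHom)
open Cfsg.Agent.Helper8.AutSLn.Descent (um um_coe um_injective map_injective)

section Goursat

/-- two quotients related by a correspondence are isomorphic -/
theorem nonempty_quot_equiv_of_rel {S S' : Type*} [Group S] [Group S'] (Z : Subgroup S)
    [Z.Normal] (Z' : Subgroup S') [Z'.Normal] (R : Subgroup (S × S'))
    (h1 : ∀ s, ∃ s', (s, s') ∈ R) (h2 : ∀ s', ∃ s, (s, s') ∈ R)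
    (h3 : ∀ r ∈ R, r.1 ∈ Z ↔ r.2 ∈ Z') : Nonempty (S ⧸ Z ≃* S' ⧸ Z') := by
  let f₁ : ↥R →* S ⧸ Z := (QuotientGroup.mk' Z).comp ((MonoidHom.fst S S').comp R.subtype)
  let f₂ : ↥R →* S' ⧸ Z' := (QuotientGroup.mk' Z').comp ((MonoidHom.snd S S').comp R.subtype)
  have hs₁ : Function.Surjective f₁ := by
    intro x
    obtain ⟨s, rfl⟩ := QuotientGroup.mk'_surjective Z x
    obtain ⟨s', hs'⟩ := h1 s
    exact ⟨⟨(s, s'), hs'⟩, rfl⟩
  have hs₂ : Function.Surjective f₂ := by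
    intro x
    obtain ⟨s', rfl⟩ := QuotientGroup.mk'_surjective Z' x
    obtain ⟨s, hs⟩ := h2 s'
    exact ⟨⟨(s, s'), hs⟩, rfl⟩
  have hk : f₁.ker = f₂.ker := by
    ext r
    rw [MonoidHom.mem_ker, MonoidHom.mem_ker]
    show (QuotientGroup.mk (r.1.1) : S ⧸ Z) = 1 ↔ (QuotientGroup.mk (r.1.2) : S' ⧸ Z') = 1
    rw [QuotientGroup.eq_one_iff, QuotientGroup.eq_one_iff]
    exact h3 r.1 r.2
  have e₁ := QuotientGroup.quotientKerEquivOfSurjective f₁ hs₁
  have e₂ := QuotientGroup.quotientKerEquivOfSurjective f₂ hs₂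
  have e := QuotientGroup.quotientMulEquivOfEq hk
  exact ⟨e₁.symm.trans (e.trans e₂)⟩

end Goursat

section Scalars

variable {F : Type*} [Field F] {F₀ : Type*} [Field F₀] {m : Type} [Fintype m] [DecidableEq m]

theorem mem_scalars_iff_smul (g : GL m F) :
    g ∈ Geo.scalars m F ↔ ∃ c : Fˣ, g = c • (1 : GL m F) := by
  rw [mem_scalars_iff_scalar]
  constructor
  · rintro ⟨c, rfl⟩
    exact ⟨c, scalar_eq_smul_one c⟩
  · rintro ⟨c, rfl⟩
    exact ⟨c, (scalar_eq_smul_one c).symm⟩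

theorem map_mem_scalars_iff [Nontrivial m] (ι : F₀ →+* F) (g₀ : GL m F₀) :
    Matrix.GeneralLinearGroup.map ι g₀ ∈ Geo.scalars m F ↔ g₀ ∈ Geo.scalars m F₀ := by
  have h1 : g₀ ∈ (subfieldHom (F := F) (m := m) ι).ker ↔ g₀ ∈ Subgroup.center (GL m F₀) := by
    rw [ker_subfieldHom]
  rw [MonoidHom.mem_ker, subfieldHom_apply, ← MonoidHom.mem_ker, ker_pslConj,
    Matrix.GeneralLinearGroup.center_eq_range_scalar,
    Matrix.GeneralLinearGroup.center_eq_range_scalar] at h1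
  rw [mem_scalars_iff_scalar, mem_scalars_iff_scalar]
  constructor
  · rintro ⟨c, hc⟩
    obtain ⟨c₀, hc₀⟩ := h1.mp ⟨c, hc.symm⟩
    exact ⟨c₀, hc₀.symm⟩
  · rintro ⟨c₀, hc₀⟩
    obtain ⟨c, hc⟩ := h1.mpr ⟨c₀, hc₀.symm⟩
    exact ⟨c, hc.symm⟩

theorem mem_simT_iff' [Nontrivial m] (A g : GL m F) :
    g ∈ simT A ↔ ∃ c : Fˣ, g * A * glT g = c • A := by
  rw [mem_simT_iff]
  constructor
  · rintro ⟨c, hc⟩
    exact ⟨c, Units.ext hc⟩
  · rintro ⟨c, hc⟩
    exact ⟨c, congrArg (fun x : GL m F => (x : Matrix m m F)) hc⟩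

end Scalars

section Transfer

variable {F : Type*} [Field F] {F₀ : Type*} [Field F₀] {m : Type} [Fintype m] [DecidableEq m]
variable {τ : F ≃+* F} {ι : F₀ →+* F} {η ω : Fˣ}

/-- the correspondence between unitary similarities and similarities over the fixed field -/
def relSub (ι : F₀ →+* F) (B : GL m F) (H : Subgroup (GL m F)) (H₀ : Subgroup (GL m F₀)) :
    Subgroup (↥H × ↥H₀) where
  carrier := {r | ∃ d : Fˣ, d • (r.1 : GL m F) =
    B * Matrix.GeneralLinearGroup.map ι (r.2 : GL m F₀) * B⁻¹}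
  one_mem' := by
    refine ⟨1, ?_⟩
    show (1 : Fˣ) • ((1 : ↥H) : GL m F) = B * Matrix.GeneralLinearGroup.map ι ((1 : ↥H₀) : GL m F₀)
      * B⁻¹
    rw [one_smul, Subgroup.coe_one, Subgroup.coe_one, map_one, mul_one, mul_inv_cancel]
  mul_mem' := by
    rintro a b ⟨d, hd⟩ ⟨d', hd'⟩
    refine ⟨d * d', ?_⟩
    show (d * d') • (((a.1 * b.1 : ↥H)) : GL m F) =
      B * Matrix.GeneralLinearGroup.map ι ((a.2 * b.2 : ↥H₀) : GL m F₀) * B⁻¹
    rw [Subgroup.coe_mul, Subgroup.coe_mul, map_mul]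
    calc (d * d') • ((a.1 : GL m F) * (b.1 : GL m F))
        = (d • (a.1 : GL m F)) * (d' • (b.1 : GL m F)) := by
          rw [smul_mul', mul_smul', smul_smul]
      _ = _ := by
          rw [hd, hd']
          group
  inv_mem' := by
    rintro a ⟨d, hd⟩
    refine ⟨d⁻¹, ?_⟩
    show d⁻¹ • (((a.1)⁻¹ : ↥H) : GL m F) =
      B * Matrix.GeneralLinearGroup.map ι (((a.2)⁻¹ : ↥H₀) : GL m F₀) * B⁻¹
    rw [Subgroup.coe_inv, Subgroup.coe_inv, map_inv, ← smul_inv', hd]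
    group

theorem mem_relSub (ι : F₀ →+* F) (B : GL m F) (H : Subgroup (GL m F)) (H₀ : Subgroup (GL m F₀))
    (r : ↥H × ↥H₀) : r ∈ relSub ι B H H₀ ↔ ∃ d : Fˣ, d • (r.1 : GL m F) =
      B * Matrix.GeneralLinearGroup.map ι (r.2 : GL m F₀) * B⁻¹ := Iff.rfl

/-- **the projective unitary similarity group of `A` is the projective similarity group of the
descent** -/
theorem nonempty_projQuot_equiv_of_DD [Finite F] [Nontrivial m] (D : FD τ ι)
    (U : Subgroup (GL m F)) (hU : ∀ g, g ∈ U ↔ g * glStar τ g = 1) {A B : GL m F}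
    {M₀ : GL m F₀} (X : DD τ ι η ω A B M₀) :
    Nonempty (Cfsg.projQuot (U ⊓ simT A) ≃* Cfsg.projQuot (simT M₀)) := by
  apply nonempty_quot_equiv_of_rel _ _ (relSub ι B (U ⊓ simT A) (simT M₀))
  · rintro ⟨g, hgU, hgA⟩
    obtain ⟨c, hc⟩ := (mem_simT_iff' A g).mp hgA
    obtain ⟨d, g₀, c₀, h1, h2, -, -⟩ := X.descend D X g ((hU g).mp hgU) c hc
    exact ⟨⟨g₀, (mem_simT_iff' M₀ g₀).mpr ⟨c₀, h2⟩⟩, d, h1⟩
  · rintro ⟨g₀, hg₀⟩
    obtain ⟨c₀, hc₀⟩ := (mem_simT_iff' M₀ g₀).mp hg₀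
    obtain ⟨d, hd⟩ := D.exists_norm_eq (um ι c₀) (D.unitsAut_um c₀)
    obtain ⟨g, h1, h2, h3⟩ := X.ascend D X g₀ c₀ hc₀ d hd
    exact ⟨⟨g, (hU g).mpr h1, (mem_simT_iff' A g).mpr ⟨_, h2⟩⟩, d, h3⟩
  · rintro ⟨⟨g, hg⟩, ⟨g₀, hg₀⟩⟩ ⟨d, hd⟩
    show g ∈ Geo.scalars m F ↔ g₀ ∈ Geo.scalars m F₀
    replace hd : d • g = B * Matrix.GeneralLinearGroup.map ι g₀ * B⁻¹ := hd
    rw [← map_mem_scalars_iff ι, mem_scalars_iff_smul, mem_scalars_iff_smul]
    constructor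
    · rintro ⟨a, rfl⟩
      refine ⟨d * a, ?_⟩
      have : Matrix.GeneralLinearGroup.map ι g₀ = B⁻¹ * (d • (a • (1 : GL m F))) * B := by
        rw [hd]
        group
      rw [this, smul_smul, mul_smul', smul_mul', mul_one, inv_mul_cancel]
    · rintro ⟨a, ha⟩
      refine ⟨d⁻¹ * a, ?_⟩
      rw [ha, mul_smul', smul_mul', mul_one, mul_inv_cancel] at hd
      rw [← smul_smul, ← hd, smul_smul, inv_mul_cancel, one_smul]

/-- **unitary congruence up to scalars is congruence of the descents up to scalars** -/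
theorem congr_iff_of_DD [Finite F] [Nontrivial m] (D : FD τ ι) {A A' B B' : GL m F}
    {M₀ M₀' : GL m F₀} (X : DD τ ι η ω A B M₀) (X' : DD τ ι η ω A' B' M₀') :
    (∃ (g : GL m F) (c : Fˣ), g * glStar τ g = 1 ∧ g * A * glT g = c • A') ↔
      ∃ (g₀ : GL m F₀) (c₀ : F₀ˣ), g₀ * M₀ * glT g₀ = c₀ • M₀' := by
  constructor
  · rintro ⟨g, c, hg, hc⟩
    obtain ⟨d, g₀, c₀, -, h2, -, -⟩ := X.descend D X' g hg c hc
    exact ⟨g₀, c₀, h2⟩
  · rintro ⟨g₀, c₀, h⟩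
    obtain ⟨d, hd⟩ := D.exists_norm_eq (um ι c₀) (D.unitsAut_um c₀)
    obtain ⟨g, h1, h2, -⟩ := X.ascend D X' g₀ c₀ h d hd
    exact ⟨g, _, h1, h2⟩

end Transfer

end Cfsg.Agent.Helper8.UGr
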