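import Mathlib
import Cfsg.Agent.Helper8.UGrB
import Cfsg.Agent.Helper8.UGrF
import Cfsg.Agent.Helper8.GrAutG

set_option autoImplicit false
set_option linter.unusedSectionVars false
set_option synthInstance.maxHeartbeats 400000

/-! Graph automorphisms of `PSU_n(q)`: transfer of centralisers and conjugacy of the involutory
graph automorphisms to the graph automorphisms of `PSL_n` over the field with `q` elements
(helper8). -/

namespace Cfsg.Agent.Helper8.UGr

open Matrix Cfsg Cfsg.Agent.Helper8.AutSU Cfsg.Agent.Helper8.GrAut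
open Cfsg.Agent.Helper8.AutSLn (gls glStar unitsAut unitsAut_coe pslConj ker_pslConj inndiagPSL_eq
  diagSub exists_embedding)
open Cfsg.Agent.Helper8.AutSLn.Descent (um um_coe um_injective map_injective)

section Signs

variable {K : Type*} [Field K] {K₀ : Type*} [Field K₀] {m : Type*} [Fintype m] [DecidableEq m]

theorem glT_eq_one_smul_iff (X : GL m K) :
    glT X = (1 : Kˣ) • X ↔ (X : Matrix m m K).transpose = (X : Matrix m m K) := by
  rw [one_smul]
  constructor
  · intro h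
    exact congrArg (fun x : GL m K => (x : Matrix m m K)) h
  · intro h
    exact Units.ext h

theorem glT_eq_neg_one_smul_iff (X : GL m K) :
    glT X = (-1 : Kˣ) • X ↔ (X : Matrix m m K).transpose = -(X : Matrix m m K) := by
  constructor
  · intro h
    have h1 : (glT X : Matrix m m K) = (((-1 : Kˣ) • X : GL m K) : Matrix m m K) :=
      congrArg (fun x : GL m K => (x : Matrix m m K)) h
    rw [glT_coe, coe_smul', Units.val_neg, Units.val_one, neg_smul, one_smul] at h1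
    exact h1
  · intro h
    apply Units.ext
    rw [glT_coe, h, coe_smul', Units.val_neg, Units.val_one, neg_smul, one_smul]

theorem um_neg_one (ι : K₀ →+* K) : um ι (-1 : K₀ˣ) = -1 := by
  ext
  rw [um_coe, Units.val_neg, Units.val_one, Units.val_neg, Units.val_one, map_neg, map_one]

theorem glT_map_eq_one_smul_iff (ι : K₀ →+* K) (M₀ : GL m K₀) :
    glT (Matrix.GeneralLinearGroup.map ι M₀) = (1 : Kˣ) • Matrix.GeneralLinearGroup.map ι M₀ ↔
      (M₀ : Matrix m m K₀).transpose = (M₀ : Matrix m m K₀) := by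
  rw [← glT_eq_one_smul_iff, one_smul, one_smul, glT_map]
  exact (map_injective ι).eq_iff

theorem glT_map_eq_neg_one_smul_iff (ι : K₀ →+* K) (M₀ : GL m K₀) :
    glT (Matrix.GeneralLinearGroup.map ι M₀) = (-1 : Kˣ) • Matrix.GeneralLinearGroup.map ι M₀ ↔
      (M₀ : Matrix m m K₀).transpose = -(M₀ : Matrix m m K₀) := by
  rw [← glT_eq_neg_one_smul_iff, glT_map, ← um_neg_one ι, ← map_smul']
  exact (map_injective ι).eq_iff

end Signs

section Field

variable {F : Type*} [Field F] [Fintype F] {q : ℕ} [hF : Fact (Fintype.card F = q ^ 2)]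

/-- an embedding of the field with `q` elements onto the fixed field of the `q`-power map -/
theorem exists_FD (p f : ℕ) [Fact p.Prime] (hq : q = p ^ f) (F₀ : Type*) [Field F₀] [Fintype F₀]
    (hF₀ : Fintype.card F₀ = q) : ∃ ι : F₀ →+* F, FD (frobE F q) ι := by
  have hcard : Fintype.card F = p ^ (f * 2) := by rw [hF.out, hq, ← pow_mul]
  obtain ⟨ι, h1, h2⟩ := exists_embedding hcard (frobE F q) two_pos orderOf_frobE F₀
    (by rw [Nat.mul_div_cancel _ two_pos, hF₀, hq])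
  exact ⟨ι, frobE_mul_self, frobE_ne_one, h1, h2⟩

end Field

section Transfer

variable {F : Type*} [Field F] [Fintype F] {q k : ℕ} [hF : Fact (Fintype.card F = q ^ 2)]
variable {F₀ : Type*} [Field F₀] {ι : F₀ →+* F} {ε η ω : Fˣ}

theorem desc_exists (D : FD (frobE F q) ι) (S : SD (frobE F q) ε η ω) (A : GU (k + 2) F q)
    (hT : glT (A : GL (Fin (k + 2)) F) = ε • (A : GL (Fin (k + 2)) F)) :
    ∃ (B : GL (Fin (k + 2)) F) (M₀ : GL (Fin (k + 2)) F₀),
      DD (frobE F q) ι η ω (A : GL (Fin (k + 2)) F) B M₀ :=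
  exists_DD D S _ ((mem_GU_iff_star _).mp A.2) hT

theorem desc_surj (D : FD (frobE F q) ι) (S : SD (frobE F q) ε η ω) (M₀ : GL (Fin (k + 2)) F₀)
    (h : glT (Matrix.GeneralLinearGroup.map ι M₀) = ε • Matrix.GeneralLinearGroup.map ι M₀) :
    ∃ (A : GU (k + 2) F q) (B : GL (Fin (k + 2)) F),
      DD (frobE F q) ι η ω (A : GL (Fin (k + 2)) F) B M₀ ∧
        glT (A : GL (Fin (k + 2)) F) = ε • (A : GL (Fin (k + 2)) F) := by
  obtain ⟨A, B, X, hU, hT⟩ := exists_DD_of_form D S M₀ h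
  exact ⟨⟨A, (mem_GU_iff_star _).mpr hU⟩, B, X, hT⟩

/-- **transfer of the centraliser** -/
theorem desc_centralizer (p : ℕ) [Fact p.Prime] [CharP F p] (hk : 1 ≤ k)
    (D : FD (frobE F q) ι) {A : GU (k + 2) F q} {B : GL (Fin (k + 2)) F}
    {M₀ : GL (Fin (k + 2)) F₀} (X : DD (frobE F q) ι η ω (A : GL (Fin (k + 2)) F) B M₀) :
    Nonempty (↥(Cfsg.inndiagPSU (k + 2) F q ⊓ Subgroup.centralizer {ugraphAut A}) ≃*
      ↥(Cfsg.inndiagPSL (k + 2) F₀ ⊓ Subgroup.centralizer {graphAut M₀})) := by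
  obtain ⟨e1⟩ := nonempty_centralizer_equiv_usim p hk A
  obtain ⟨e2⟩ := nonempty_projQuot_equiv_of_DD D (GU (k + 2) F q) mem_GU_iff_star X
  obtain ⟨e3⟩ := GrAut.nonempty_centralizer_equiv M₀
  rw [inndiagPSL_eq]
  exact ⟨(e1.trans e2).trans e3.symm⟩

/-- **transfer of conjugacy** -/
theorem desc_conj_iff (p : ℕ) [Fact p.Prime] [CharP F p] (hk : 1 ≤ k)
    (D : FD (frobE F q) ι) {A A' : GU (k + 2) F q} {B B' : GL (Fin (k + 2)) F}
    {M₀ M₀' : GL (Fin (k + 2)) F₀} (X : DD (frobE F q) ι η ω (A : GL (Fin (k + 2)) F) B M₀)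
    (X' : DD (frobE F q) ι η ω (A' : GL (Fin (k + 2)) F) B' M₀') :
    Cfsg.IsConjUnder (Cfsg.inndiagPSU (k + 2) F q) (ugraphAut A) (ugraphAut A') ↔
      Cfsg.IsConjUnder (Cfsg.inndiagPSL (k + 2) F₀) (graphAut M₀) (graphAut M₀') := by
  rw [inndiagPSU_eq, isConjUnder_ugraphAut_iff p hk, isConjUnder_inndiag_iff (by omega)]
  have h0 : (∃ (g : GL (Fin (k + 2)) F₀) (c : F₀ˣ),
      (M₀' : Matrix (Fin (k + 2)) (Fin (k + 2)) F₀) =
        (c : F₀) • ((g : Matrix (Fin (k + 2)) (Fin (k + 2)) F₀) *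
          (M₀ : Matrix (Fin (k + 2)) (Fin (k + 2)) F₀) *
          (g : Matrix (Fin (k + 2)) (Fin (k + 2)) F₀).transpose)) ↔
      ∃ (g₀ : GL (Fin (k + 2)) F₀) (c₀ : F₀ˣ), g₀ * M₀ * glT g₀ = c₀ • M₀' := by
    constructor
    · rintro ⟨g, c, h⟩
      refine ⟨g, c⁻¹, ?_⟩
      apply Units.ext
      rw [coe_smul', Units.val_mul, Units.val_mul, glT_coe, h, smul_smul,
        Units.val_inv_eq_inv_val, inv_mul_cancel₀ (Units.ne_zero c), one_smul]
    · rintro ⟨g, c, h⟩
      refine ⟨g, c⁻¹, ?_⟩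
      have h1 := congrArg
        (fun x : GL (Fin (k + 2)) F₀ => (x : Matrix (Fin (k + 2)) (Fin (k + 2)) F₀)) h
      simp only [Units.val_mul, glT_coe, coe_smul'] at h1
      rw [h1, smul_smul, Units.val_inv_eq_inv_val, inv_mul_cancel₀ (Units.ne_zero c), one_smul]
  rw [h0, ← (congr_iff_of_DD D X X')]
  constructor
  · rintro ⟨g, c, h⟩
    refine ⟨g, c⁻¹, (mem_GU_iff_star _).mp g.2, ?_⟩
    apply Units.ext
    rw [coe_smul', Units.val_mul, Units.val_mul, glT_coe, h, smul_smul, Units.val_inv_eq_inv_val,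
      inv_mul_cancel₀ (Units.ne_zero c), one_smul]
  · rintro ⟨g, c, hg, h⟩
    refine ⟨⟨g, (mem_GU_iff_star _).mpr hg⟩, c⁻¹, ?_⟩
    have h1 := congrArg (fun x : GL (Fin (k + 2)) F => (x : Matrix (Fin (k + 2)) (Fin (k + 2)) F)) h
    simp only [Units.val_mul, glT_coe, coe_smul'] at h1
    rw [h1, smul_smul, Units.val_inv_eq_inv_val, inv_mul_cancel₀ (Units.ne_zero c), one_smul]

/-- conjugacy under the unitary inner-diagonal group implies conjugacy under the linear one -/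
theorem conj_forget (p : ℕ) [Fact p.Prime] [CharP F p] (hk : 1 ≤ k) {A A' : GU (k + 2) F q}
    (h : Cfsg.IsConjUnder (Cfsg.inndiagPSU (k + 2) F q) (ugraphAut A) (ugraphAut A')) :
    Cfsg.IsConjUnder (Cfsg.inndiagPSL (k + 2) F) (graphAut (A : GL (Fin (k + 2)) F))
      (graphAut (A' : GL (Fin (k + 2)) F)) := by
  rw [inndiagPSU_eq, isConjUnder_ugraphAut_iff p hk] at h
  rw [isConjUnder_inndiag_iff (by omega)]
  obtain ⟨g, c, h⟩ := h
  exact ⟨g, c, h⟩

end Transfer

end Cfsg.Agent.Helper8.UGr
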