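import Mathlib
import Cfsg.Agent.Helper8.UGrG

set_option autoImplicit false
set_option linter.unusedSectionVars false
set_option synthInstance.maxHeartbeats 400000

/-! Graph automorphisms of `PSU_n(q)`: the characteristic data of the field, the trivial descent,
and the standard graph automorphism (helper8). -/

namespace Cfsg.Agent.Helper8.UGr

open Matrix Cfsg Cfsg.Agent.Helper8.AutSU Cfsg.Agent.Helper8.GrAut
open Cfsg.Agent.Helper8.AutSLn (gls glStar unitsAut unitsAut_coe)

/-- a finite field with `q ^ 2` elements: `q` is a prime power -/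
theorem exists_char_data {F : Type*} [Field F] [Fintype F] {q : ℕ}
    (hF : Fintype.card F = q ^ 2) :
    ∃ p f : ℕ, p.Prime ∧ q = p ^ f ∧ 1 ≤ f := by
  obtain ⟨p, hp⟩ := CharP.exists F
  obtain ⟨n, hpp, hn⟩ := FiniteField.card F p
  rw [hF] at hn
  have h1 : q ∣ p ^ (n : ℕ) := by
    rw [← hn]
    exact Dvd.intro_left (q ^ 1) (by ring)
  obtain ⟨j, -, rfl⟩ := (Nat.dvd_prime_pow hpp).mp h1
  refine ⟨p, j, hpp, rfl, ?_⟩
  by_contra hj
  have hj0 : j = 0 := by omega
  subst hj0
  rw [pow_zero, one_pow] at hn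
  have h2 : 1 < p ^ (n : ℕ) := Nat.one_lt_pow n.pos.ne' hpp.one_lt
  omega

variable {F : Type*} [Field F] [Fintype F] {q k : ℕ} [hF : Fact (Fintype.card F = q ^ 2)]
variable {F₀ : Type*} [Field F₀] {ι : F₀ →+* F}

theorem ugraphAut_one : ugraphAut (1 : GU (k + 2) F q) = phi0 (k + 2) F q := by
  unfold ugraphAut
  rw [map_one, one_mul]

/-- the trivial descent -/
theorem DD_one : DD (frobE F q) ι (1 : Fˣ) (1 : Fˣ) (((1 : GU (k + 2) F q)) : GL (Fin (k + 2)) F)
    (1 : GL (Fin (k + 2)) F) (1 : GL (Fin (k + 2)) F₀) := by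
  constructor
  · rw [one_smul, Subgroup.coe_one, map_one, inv_one, mul_one]
  · rw [map_one, glT_one, map_one, mul_one, inv_one, one_smul]

theorem eq_phi0_of_isFieldAut {σ : F ≃+* F} (hσ : ∀ a : F, σ a = a ^ q)
    {φ : MulAut (PSU (k + 2) F q)} (hφ : Cfsg.IsFieldAutPSUOf σ φ) : φ = phi0 (k + 2) F q := by
  rw [eq_psuField_of_isFieldAut hφ]
  have : σ = frobE F q := by
    ext a
    rw [hσ, frobE_apply]
  rw [this]
  rfl

end Cfsg.Agent.Helper8.UGr
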