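import Mathlib
import Cfsg.Agent.Helper8.UGrH
import Cfsg.Agent.Helper8.GrAutI

set_option autoImplicit false
set_option linter.unusedSectionVars false
set_option synthInstance.maxHeartbeats 400000

/-! Graph automorphisms of `PSU_n(q)`, `q` odd: the correspondence between the involutory graph
automorphisms of `PSU_n(q)` and those of `PSL_n(q)` (helper8). -/

namespace Cfsg.Agent.Helper8.UGr

open Matrix Cfsg Cfsg.Agent.Helper8.AutSU Cfsg.Agent.Helper8.GrAut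
open Cfsg.Agent.Helper8.AutSLn (gls glStar unitsAut unitsAut_coe)

variable {F : Type*} [Field F] [Fintype F] {q k : ℕ} [hF : Fact (Fintype.card F = q ^ 2)]
variable {F₀ : Type*} [Field F₀] {ι : F₀ →+* F} {η ω : Fˣ}

/-- the unitary matrix `A` descends to `M₀`, as a symmetric or as a skew-symmetric matrix -/
def Rel (ι : F₀ →+* F) (η ω : Fˣ) (A : GU (k + 2) F q) (M₀ : GL (Fin (k + 2)) F₀) : Prop :=
  (∃ B : GL (Fin (k + 2)) F, DD (frobE F q) ι (1 : Fˣ) (1 : Fˣ) (A : GL (Fin (k + 2)) F) B M₀ ∧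
      glT (A : GL (Fin (k + 2)) F) = (1 : Fˣ) • (A : GL (Fin (k + 2)) F)) ∨
    (∃ B : GL (Fin (k + 2)) F, DD (frobE F q) ι η ω (A : GL (Fin (k + 2)) F) B M₀ ∧
      glT (A : GL (Fin (k + 2)) F) = (-1 : Fˣ) • (A : GL (Fin (k + 2)) F))

theorem Rel.transpose (SN : SD (frobE F q) (-1) η ω) {A : GU (k + 2) F q}
    {M₀ : GL (Fin (k + 2)) F₀} (h : Rel ι η ω A M₀) :
    (M₀ : Matrix (Fin (k + 2)) (Fin (k + 2)) F₀).transpose = M₀ ∨
      (M₀ : Matrix (Fin (k + 2)) (Fin (k + 2)) F₀).transpose = -M₀ := by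
  rcases h with ⟨B, X, hT⟩ | ⟨B, X, hT⟩
  · exact Or.inl ((glT_map_eq_one_smul_iff ι M₀).mp (X.glT_map (SD.one _) hT))
  · exact Or.inr ((glT_map_eq_neg_one_smul_iff ι M₀).mp (X.glT_map SN hT))

theorem Rel.orderOf_right (SN : SD (frobE F q) (-1) η ω) (hk : 1 ≤ k) {A : GU (k + 2) F q}
    {M₀ : GL (Fin (k + 2)) F₀} (h : Rel ι η ω A M₀) : orderOf (graphAut M₀) = 2 :=
  (orderOf_graphAut_fin (by omega) M₀).mpr (h.transpose SN)

theorem Rel.orderOf_left (p : ℕ) [Fact p.Prime] [CharP F p] (hk : 1 ≤ k) {A : GU (k + 2) F q}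
    {M₀ : GL (Fin (k + 2)) F₀} (h : Rel ι η ω A M₀) : orderOf (ugraphAut A) = 2 := by
  rw [orderOf_ugraphAut_eq_two_iff p hk]
  rcases h with ⟨B, -, hT⟩ | ⟨B, -, hT⟩
  · exact Or.inl ((glT_eq_one_smul_iff _).mp hT)
  · exact Or.inr ((glT_eq_neg_one_smul_iff _).mp hT)

/-- every symmetric or skew-symmetric matrix over the small field is a descent -/
theorem exists_rel_left (D : FD (frobE F q) ι) (SN : SD (frobE F q) (-1) η ω)
    (M₀ : GL (Fin (k + 2)) F₀)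
    (h : (M₀ : Matrix (Fin (k + 2)) (Fin (k + 2)) F₀).transpose = M₀ ∨
      (M₀ : Matrix (Fin (k + 2)) (Fin (k + 2)) F₀).transpose = -M₀) :
    ∃ A : GU (k + 2) F q, Rel ι η ω A M₀ := by
  rcases h with h | h
  · obtain ⟨A, B, X, hT⟩ := desc_surj (q := q) D (SD.one _) M₀
      ((glT_map_eq_one_smul_iff ι M₀).mpr h)
    exact ⟨A, Or.inl ⟨B, X, hT⟩⟩
  · obtain ⟨A, B, X, hT⟩ := desc_surj (q := q) D SN M₀
      ((glT_map_eq_neg_one_smul_iff ι M₀).mpr h)
    exact ⟨A, Or.inr ⟨B, X, hT⟩⟩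

/-- every involutory graph automorphism has a descent -/
theorem exists_rel_right (p : ℕ) [Fact p.Prime] [CharP F p] (hk : 1 ≤ k)
    (D : FD (frobE F q) ι) (SN : SD (frobE F q) (-1) η ω)
    (A : GU (k + 2) F q) (h : orderOf (ugraphAut A) = 2) :
    ∃ M₀ : GL (Fin (k + 2)) F₀, Rel ι η ω A M₀ := by
  rcases (orderOf_ugraphAut_eq_two_iff p hk A).mp h with h | h
  · have hT := (glT_eq_one_smul_iff _).mpr h
    obtain ⟨B, M₀, X⟩ := desc_exists D (SD.one _) A hT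
    exact ⟨M₀, Or.inl ⟨B, X, hT⟩⟩
  · have hT := (glT_eq_neg_one_smul_iff _).mpr h
    obtain ⟨B, M₀, X⟩ := desc_exists D SN A hT
    exact ⟨M₀, Or.inr ⟨B, X, hT⟩⟩

theorem Rel.centralizer (p : ℕ) [Fact p.Prime] [CharP F p] (hk : 1 ≤ k)
    (D : FD (frobE F q) ι) {A : GU (k + 2) F q} {M₀ : GL (Fin (k + 2)) F₀}
    (h : Rel ι η ω A M₀) :
    Nonempty (↥(Cfsg.inndiagPSU (k + 2) F q ⊓ Subgroup.centralizer {ugraphAut A}) ≃*
      ↥(Cfsg.inndiagPSL (k + 2) F₀ ⊓ Subgroup.centralizer {graphAut M₀})) := by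
  rcases h with ⟨B, X, -⟩ | ⟨B, X, -⟩
  · exact desc_centralizer p hk D X
  · exact desc_centralizer p hk D X

/-- conjugacy corresponds under the descent (odd characteristic) -/
theorem Rel.conj_iff (p : ℕ) [Fact p.Prime] [CharP F p] (hk : 1 ≤ k)
    (D : FD (frobE F q) ι) (SN : SD (frobE F q) (-1) η ω) (h2 : (2 : F) ≠ 0)
    (h20 : (2 : F₀) ≠ 0) {A A' : GU (k + 2) F q} {M₀ M₀' : GL (Fin (k + 2)) F₀}
    (h : Rel ι η ω A M₀) (h' : Rel ι η ω A' M₀') :
    Cfsg.IsConjUnder (Cfsg.inndiagPSU (k + 2) F q) (ugraphAut A) (ugraphAut A') ↔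
      Cfsg.IsConjUnder (Cfsg.inndiagPSL (k + 2) F₀) (graphAut M₀) (graphAut M₀') := by
  have hn2 : 2 ≤ k + 2 := by omega
  rcases h with ⟨B, X, hT⟩ | ⟨B, X, hT⟩ <;> rcases h' with ⟨B', X', hT'⟩ | ⟨B', X', hT'⟩
  · exact desc_conj_iff p hk D X X'
  · have hA := (glT_eq_one_smul_iff _).mp hT
    have hA' := (glT_eq_neg_one_smul_iff _).mp hT'
    have hM := (glT_map_eq_one_smul_iff ι M₀).mp (X.glT_map (SD.one _) hT)
    have hM' := (glT_map_eq_neg_one_smul_iff ι M₀').mp (X'.glT_map SN hT')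
    constructor
    · intro hc
      exact absurd (isConjUnder_symm _ (conj_forget p hk hc))
        (not_conj_skew_symm hn2 h2 _ _ hA' hA)
    · intro hc
      exact absurd (isConjUnder_symm _ hc) (not_conj_skew_symm hn2 h20 _ _ hM' hM)
  · have hA := (glT_eq_neg_one_smul_iff _).mp hT
    have hA' := (glT_eq_one_smul_iff _).mp hT'
    have hM := (glT_map_eq_neg_one_smul_iff ι M₀).mp (X.glT_map SN hT)
    have hM' := (glT_map_eq_one_smul_iff ι M₀').mp (X'.glT_map (SD.one _) hT')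
    constructor
    · intro hc
      exact absurd (conj_forget p hk hc) (not_conj_skew_symm hn2 h2 _ _ hA hA')
    · intro hc
      exact absurd hc (not_conj_skew_symm hn2 h20 _ _ hM hM')
  · exact desc_conj_iff p hk D X X'

end Cfsg.Agent.Helper8.UGr
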