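import Mathlib
import Cfsg.Agent.Helper8.UGrB
import Cfsg.Agent.Helper8.AutSUzo

set_option autoImplicit false
set_option linter.unusedSectionVars false
set_option synthInstance.maxHeartbeats 400000

/-! Graph automorphisms of `PSU_n(q)`: the number of `Inn`-classes in the inner-diagonal class of
a graph automorphism, as an index in the group of the unitary scalars (helper8). -/

namespace Cfsg.Agent.Helper8.UGr

open Matrix Cfsg Cfsg.Agent.Helper8.AutSU Cfsg.Agent.Helper8.GrAut
open Cfsg.Agent.Helper8.GUOrder (detGU)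
open Cfsg.Agent.Helper8.AutSLn (gls glStar unitsAut unitsAut_coe)

variable {F : Type*} [Field F] [Fintype F] {q k : ℕ} [hF : Fact (Fintype.card F = q ^ 2)]

/-- the unitary matrices commuting with a graph automorphism, as a subgroup of `GU` -/
noncomputable def usimU (A : GU (k + 2) F q) : Subgroup (GU (k + 2) F q) :=
  (Subgroup.centralizer {ugraphAut A}).comap psuConj

theorem mem_usimU_iff (p : ℕ) [Fact p.Prime] [CharP F p] (hk : 1 ≤ k) (A g : GU (k + 2) F q) :
    g ∈ usimU A ↔ (g : GL (Fin (k + 2)) F) ∈ simT (A : GL (Fin (k + 2)) F) := by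
  unfold usimU
  rw [Subgroup.mem_comap, Subgroup.mem_centralizer_iff, ← commute_ugraphAut_iff p hk]
  constructor
  · intro h
    exact h _ rfl
  · intro h y hy
    rw [Set.mem_singleton_iff] at hy
    subst hy
    exact h

/-- the preimage in `GU` of `Inn · C(graph automorphism)` is given by a condition on the
determinant -/
theorem comap_inn_sup_centralizer_ugraph (p : ℕ) [Fact p.Prime] [CharP F p] (hk : 1 ≤ k)
    (A : GU (k + 2) F q) :
    (Cfsg.Inn (PSU (k + 2) F q) ⊔
      ((psuConj : GU (k + 2) F q →* MulAut (PSU (k + 2) F q)).range ⊓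
        Subgroup.centralizer {ugraphAut A})).comap psuConj =
      ((U1 F q).map (powMonoidHom (k + 2) : Fˣ →* Fˣ) ⊔
        (usimU A).map (detGU (k + 2) F q)).comap (detGU (k + 2) F q) := by
  ext g
  rw [Subgroup.mem_comap, Subgroup.mem_comap]
  constructor
  · intro h
    rw [← SetLike.mem_coe, Subgroup.normal_mul, Set.mem_mul] at h
    obtain ⟨a, ha, b, hb, e⟩ := h
    obtain ⟨x, rfl⟩ := ha
    obtain ⟨s, rfl⟩ := pr_surjective x
    obtain ⟨⟨g₁, rfl⟩, hbC⟩ := hb
    have hg₁ : g₁ ∈ usimU A := hbC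
    rw [← psuConj_toGU, ← map_mul] at e
    have h1 : (toGU s * g₁)⁻¹ * g ∈
        (psuConj : GU (k + 2) F q →* MulAut (PSU (k + 2) F q)).ker := by
      rw [MonoidHom.mem_ker, map_mul, map_inv, e, inv_mul_cancel]
    obtain ⟨z, hz⟩ := (mem_ker_psuConj_iff_scalar p hk).mp h1
    have hzU : z ∈ U1 F q := by
      apply scalar_mem_U1 (k := k)
      rw [← hz]
      exact ((toGU s * g₁)⁻¹ * g).2
    have h2 : (g : GL (Fin (k + 2)) F) = (toGU s : GL (Fin (k + 2)) F) * g₁ *
        Matrix.GeneralLinearGroup.scalar (Fin (k + 2)) z := by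
      rw [← hz, Subgroup.coe_mul, Subgroup.coe_inv, Subgroup.coe_mul, mul_inv_cancel_left]
    have h4 : detGU (k + 2) F q g = powMonoidHom (k + 2) z * detGU (k + 2) F q g₁ := by
      rw [detGU_apply, h2, map_mul, map_mul, Matrix.GeneralLinearGroup.det_scalar, Fintype.card_fin,
        powMonoidHom_apply, detGU_apply]
      have hs : Matrix.GeneralLinearGroup.det ((toGU s : GU (k + 2) F q) : GL (Fin (k + 2)) F) =
          1 := Matrix.SpecialLinearGroup.coeToGL_det s.1
      rw [hs, one_mul, mul_comm]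
    rw [h4]
    exact Subgroup.mul_mem_sup (Subgroup.mem_map_of_mem _ hzU) (Subgroup.mem_map_of_mem _ hg₁)
  · intro h
    rw [Subgroup.mem_sup] at h
    obtain ⟨_, ⟨u, hu, rfl⟩, κ, hκ, e⟩ := h
    obtain ⟨g₁, hg₁, rfl⟩ := Subgroup.mem_map.mp hκ
    rw [powMonoidHom_apply] at e
    have huinv : u⁻¹ * unitsAut (frobE F q) u⁻¹ = 1 := by
      rw [map_inv, ← mul_inv, (mem_U1_iff u).mp hu, inv_one]
    obtain ⟨zU, hzU⟩ : ∃ zU : GU (k + 2) F q, (zU : GL (Fin (k + 2)) F) =
        Matrix.GeneralLinearGroup.scalar (Fin (k + 2)) u⁻¹ := ⟨⟨_, scalar_mem_GU huinv⟩, rfl⟩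
    have hdet : detGU (k + 2) F q (zU * g * g₁⁻¹) = 1 := by
      rw [map_mul, map_mul, map_inv, detGU_apply zU, hzU,
        Matrix.GeneralLinearGroup.det_scalar, Fintype.card_fin, ← e, inv_pow, inv_mul_cancel_left,
        mul_inv_cancel]
    obtain ⟨s, hs⟩ := exists_toGU_eq hdet
    have hzker : zU ∈ (psuConj : GU (k + 2) F q →* MulAut (PSU (k + 2) F q)).ker :=
      (mem_ker_psuConj_iff_scalar p hk).mpr ⟨u⁻¹, hzU⟩
    have h1 : (psuConj g : MulAut (PSU (k + 2) F q)) = psuConj (toGU s) * psuConj g₁ := by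
      rw [hs, ← map_mul, inv_mul_cancel_right, map_mul, MonoidHom.mem_ker.mp hzker, one_mul]
    rw [h1, psuConj_toGU]
    exact Subgroup.mul_mem_sup ⟨_, rfl⟩ ⟨⟨_, rfl⟩, hg₁⟩

/-- **the index of `Inn · C(graph automorphism)` in the inner-diagonal group** -/
theorem relIndex_inn_sup_centralizer_ugraph (p : ℕ) [Fact p.Prime] [CharP F p] (hk : 1 ≤ k)
    (A : GU (k + 2) F q) :
    (Cfsg.Inn (PSU (k + 2) F q) ⊔
      ((psuConj : GU (k + 2) F q →* MulAut (PSU (k + 2) F q)).range ⊓
        Subgroup.centralizer {ugraphAut A})).relIndex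
          (psuConj : GU (k + 2) F q →* MulAut (PSU (k + 2) F q)).range =
      ((U1 F q).map (powMonoidHom (k + 2) : Fˣ →* Fˣ) ⊔
        (usimU A).map (detGU (k + 2) F q)).relIndex (U1 F q) := by
  rw [← Subgroup.index_comap, comap_inn_sup_centralizer_ugraph p hk A, Subgroup.index_comap,
    detGU_range (by omega)]

/-- **the number of `Inn`-classes in the inner-diagonal class of a graph automorphism** -/
theorem splitClassCount_ugraphAut (p : ℕ) [Fact p.Prime] [CharP F p] (hk : 1 ≤ k)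
    (A : GU (k + 2) F q) :
    Cfsg.splitClassCount (Cfsg.inndiagPSU (k + 2) F q) (Cfsg.Inn (PSU (k + 2) F q))
      (ugraphAut A) =
      ((U1 F q).map (powMonoidHom (k + 2) : Fˣ →* Fˣ) ⊔
        (usimU A).map (detGU (k + 2) F q)).relIndex (U1 F q) := by
  rw [inndiagPSU_eq,
    Cfsg.Agent.Helper8.SplitClass.splitClassCount_eq_relIndex
      (psuConj : GU (k + 2) F q →* MulAut (PSU (k + 2) F q)).range
      (Cfsg.Inn (PSU (k + 2) F q)) inn_le_range_psuConj (ugraphAut A),
    relIndex_inn_sup_centralizer_ugraph p hk A]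

end Cfsg.Agent.Helper8.UGr
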