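import Mathlib
import Cfsg.Agent.Helper8.UGrF
import Cfsg.Agent.Helper8.GrAutP

set_option autoImplicit false
set_option linter.unusedSectionVars false
set_option synthInstance.maxHeartbeats 400000

/-! Graph automorphisms of `PSU_n(q)`: reflections and determinants of conformal symplectic
matrices in matrix form, and unitary similitudes with prescribed multiplier (helper8). -/

namespace Cfsg.Agent.Helper8.UGr

open Matrix Cfsg Cfsg.Agent.Helper8.GrAut
open Cfsg.Agent.Helper8.AutSLn (gls glStar unitsAut unitsAut_coe)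
open Cfsg.Agent.Helper8.AutSLn.Descent (um um_coe um_injective map_injective)

section Forms

variable {F : Type*} [Field F] {n : ℕ}

/-- a reflection: an isometry of determinant `-1`, in matrix form -/
theorem exists_reflection_form (h2 : (2 : F) ≠ 0) (hn2 : 2 ≤ n) (A : GL (Fin n) F)
    (hA : (A : Matrix (Fin n) (Fin n) F).transpose = (A : Matrix (Fin n) (Fin n) F)) :
    ∃ r : GL (Fin n) F, r * A * glT r = A ∧ Matrix.GeneralLinearGroup.det r = -1 := by
  have : Nontrivial (Fin n) := Fin.nontrivial_iff_two_le.mpr hn2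
  have hAi := inv_transpose_of_symm A hA
  have hdAi : ((A⁻¹ : GL (Fin n) F) : Matrix (Fin n) (Fin n) F).det ≠ 0 :=
    ((Matrix.isUnit_iff_isUnit_det _).mp (Units.isUnit A⁻¹)).ne_zero
  set Q : QuadraticForm F (Fin n → F) :=
    matQ ((A⁻¹ : GL (Fin n) F) : Matrix (Fin n) (Fin n) F) with hQ
  have hnd := (Cfsg.Agent.Helper8.QuadForm.nondeg_iff Q).mp (matQ_nondeg h2 hAi hdAi)
  obtain ⟨z, hz⟩ : ∃ z, Q z ≠ 0 := by
    by_contra hcon
    push Not at hcon
    have h0 : (Pi.single (⟨0, by omega⟩ : Fin n) (1 : F) : Fin n → F) = 0 := by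
      apply hnd
      intro w
      unfold QuadraticMap.polar
      rw [hcon, hcon, hcon]
      ring
    have := congrFun h0 ⟨0, by omega⟩
    rw [Pi.single_eq_same, Pi.zero_apply] at this
    exact one_ne_zero this
  set r := Cfsg.Agent.Helper8.ReflMatrix.reflElt Q z with hr
  refine ⟨(r : GL (Fin n) F), ?_, ?_⟩
  · have h1 : ((r : GL (Fin n) F) : Matrix (Fin n) (Fin n) F) * (A : Matrix (Fin n) (Fin n) F) *
        ((r : GL (Fin n) F) : Matrix (Fin n) (Fin n) F).transpose =
        ((1 : Fˣ) : F) • (A : Matrix (Fin n) (Fin n) F) := by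
      rw [form_iff_inv]
      apply matrix_eq_of_quad h2
      · rw [Matrix.transpose_mul, Matrix.transpose_mul, Matrix.transpose_transpose, hAi,
          Matrix.mul_assoc]
      · rw [Matrix.transpose_smul, hAi]
      · intro v
        have := r.2 v v
        rw [← dotProduct_mulVec_mulVec, Units.val_one, one_smul, ← matQ_apply, ← matQ_apply]
        exact this
    rw [Units.val_one, one_smul] at h1
    exact Units.ext h1
  · apply Units.ext
    rw [Matrix.GeneralLinearGroup.val_det_apply, hr,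
      Cfsg.Agent.Helper8.ReflMatrix.reflElt_val,
      Cfsg.Agent.Helper8.ReflMatrix.det_reflectionMatrix Q hz]
    rfl

/-- a conformal matrix for the (reindexed) standard alternating form has determinant `c ^ m` -/
theorem det_of_conformal_reGL {m : ℕ} (e : Fin n ≃ Fin m ⊕ Fin m) (g : GL (Fin n) F) (c : Fˣ)
    (hc : (g : Matrix (Fin n) (Fin n) F) * ((reGL e (Jgl m F) : GL (Fin n) F) : Matrix _ _ F) *
      (g : Matrix (Fin n) (Fin n) F).transpose =
        (c : F) • ((reGL e (Jgl m F) : GL (Fin n) F) : Matrix (Fin n) (Fin n) F)) :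
    Matrix.GeneralLinearGroup.det g = c ^ m := by
  apply Units.ext
  rw [Units.val_pow_eq_pow_val, Matrix.GeneralLinearGroup.val_det_apply]
  rw [reGL_coe, Jgl_coe] at hc
  set g' : Matrix (Fin m ⊕ Fin m) (Fin m ⊕ Fin m) F :=
    (g : Matrix (Fin n) (Fin n) F).submatrix e.symm e.symm with hg'
  have h1 : g' * Matrix.J (Fin m) F * g'.transpose = (c : F) • Matrix.J (Fin m) F := by
    have h2 : ((g : Matrix (Fin n) (Fin n) F) * (Matrix.J (Fin m) F).submatrix e e
        * (g : Matrix (Fin n) (Fin n) F).transpose).submatrix e.symm e.symm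
        = ((c : F) • (Matrix.J (Fin m) F).submatrix e e).submatrix e.symm e.symm := by
      rw [hc]
    rw [← Matrix.submatrix_mul_equiv _ _ e.symm e.symm e.symm,
      ← Matrix.submatrix_mul_equiv _ _ e.symm e.symm e.symm,
      Matrix.submatrix_submatrix, ← Matrix.transpose_submatrix] at h2
    have h3 : ((c : F) • (Matrix.J (Fin m) F).submatrix e e).submatrix e.symm e.symm
        = (c : F) • Matrix.J (Fin m) F := by
      ext i j
      simp
    rw [h3] at h2
    have h4 : (⇑e ∘ ⇑e.symm) = id := by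
      funext x
      simp
    rw [h4, Matrix.submatrix_id_id] at h2
    exact h2
  rw [← det_of_conformal g' c (Units.ne_zero c) h1, hg', Matrix.det_submatrix_equiv_self]

/-- a similitude of a skew-symmetric matrix with multiplier `c` has determinant `c ^ m` -/
theorem det_of_skew_form (h2 : (2 : F) ≠ 0) {m : ℕ} (hnm : n = 2 * m) (A : GL (Fin n) F)
    (hA : (A : Matrix (Fin n) (Fin n) F).transpose = -(A : Matrix (Fin n) (Fin n) F))
    (g : GL (Fin n) F) (c : Fˣ) (hc : g * A * glT g = c • A) :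
    Matrix.GeneralLinearGroup.det g = c ^ m := by
  let e : Fin n ≃ Fin m ⊕ Fin m := (finCongr (by omega : n = m + m)).trans finSumFinEquiv.symm
  obtain ⟨h, hh⟩ := exists_congr_of_skew h2 (reGL e (Jgl m F)) A (reGL_Jgl_transpose e) hA
  have hh' : h * reGL e (Jgl m F) * glT h = A := Units.ext hh
  have h1 : (h⁻¹ * g * h) * reGL e (Jgl m F) * glT (h⁻¹ * g * h) = c • reGL e (Jgl m F) := by
    have e1 : reGL e (Jgl m F) = h⁻¹ * A * (glT h)⁻¹ := by
      rw [← hh']
      group
    simp only [glT_mul, glT_inv]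
    calc h⁻¹ * g * h * reGL e (Jgl m F) * (glT h * (glT g * (glT h)⁻¹))
        = h⁻¹ * g * (h * reGL e (Jgl m F) * glT h) * glT g * (glT h)⁻¹ := by group
      _ = h⁻¹ * (g * A * glT g) * (glT h)⁻¹ := by
          rw [hh']
          group
      _ = c • reGL e (Jgl m F) := by rw [hc, mul_smul', smul_mul', e1]
  have h3 := det_of_conformal_reGL e (h⁻¹ * g * h) c
    (congrArg (fun x : GL (Fin n) F => (x : Matrix (Fin n) (Fin n) F)) h1)
  rw [map_mul, map_mul, map_inv, mul_comm, mul_inv_cancel_left] at h3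
  exact h3

end Forms

section Ascent

variable {F : Type*} [Field F] {F₀ : Type*} [Field F₀] {m : Type*} [Fintype m] [DecidableEq m]
variable {τ : F ≃+* F} {ι : F₀ →+* F} {η ω : Fˣ}

theorem det_map_GL (ι : F₀ →+* F) (g₀ : GL m F₀) :
    Matrix.GeneralLinearGroup.det (Matrix.GeneralLinearGroup.map ι g₀) =
      um ι (Matrix.GeneralLinearGroup.det g₀) := by
  apply Units.ext
  rw [Matrix.GeneralLinearGroup.val_det_apply, um_coe, Matrix.GeneralLinearGroup.val_det_apply]
  exact (RingHom.map_det ι _).symm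

theorem det_smul_GL (c : Fˣ) (g : GL m F) :
    Matrix.GeneralLinearGroup.det (c • g) = c ^ Fintype.card m * Matrix.GeneralLinearGroup.det g := by
  apply Units.ext
  rw [Matrix.GeneralLinearGroup.val_det_apply, coe_smul', Matrix.det_smul, Units.val_mul,
    Units.val_pow_eq_pow_val, Matrix.GeneralLinearGroup.val_det_apply]

/-- a unitary similitude with a prescribed multiplier of norm one -/
theorem DD.exists_of_multiplier [Finite F] [Nonempty m] (D : FD τ ι) {A B : GL m F}
    {M₀ : GL m F₀} (X : DD τ ι η ω A B M₀)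
    (hall : ∀ c₀ : F₀ˣ, ∃ g₀ : GL m F₀, g₀ * M₀ * glT g₀ = c₀ • M₀) (u : Fˣ)
    (hu : u * unitsAut τ u = 1) :
    ∃ g : GL m F, g * glStar τ g = 1 ∧ g * A * glT g = u • A := by
  obtain ⟨d, hd⟩ := D.hilbert90 u hu
  have hτκ : unitsAut τ (d * unitsAut τ d) = d * unitsAut τ d := by
    rw [map_mul, D.unitsAut_unitsAut, mul_comm]
  obtain ⟨c₀, hc₀⟩ := D.exists_um_eq _ hτκ
  obtain ⟨g₀, hg₀⟩ := hall c₀
  obtain ⟨g, h1, h2, -⟩ := X.ascend D X g₀ c₀ hg₀ d hc₀.symm
  exact ⟨g, h1, by rw [h2, hd]⟩

/-- the unitary isometry attached to an isometry over the fixed field -/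
theorem DD.exists_of_isometry [Finite F] [Nonempty m] (D : FD τ ι) {A B : GL m F}
    {M₀ : GL m F₀} (X : DD τ ι η ω A B M₀) (r₀ : GL m F₀) (hr₀ : r₀ * M₀ * glT r₀ = M₀) :
    ∃ g : GL m F, g * glStar τ g = 1 ∧ g * A * glT g = A ∧
      Matrix.GeneralLinearGroup.det g = um ι (Matrix.GeneralLinearGroup.det r₀) := by
  obtain ⟨g, h1, h2, h3⟩ := X.ascend D X r₀ 1 (by rw [hr₀, one_smul]) 1
    (by rw [map_one, map_one, one_mul])
  refine ⟨g, h1, ?_, ?_⟩
  · rw [h2, map_one, inv_one, one_mul, one_smul]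
  · rw [one_smul] at h3
    rw [h3, map_mul, map_mul, map_inv, mul_comm, inv_mul_cancel_left, det_map_GL]

end Ascent

end Cfsg.Agent.Helper8.UGr
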