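import Mathlib
import Cfsg.Agent.Helper8.UGrJ
import Cfsg.Agent.Helper8.UGrK
import Cfsg.Agent.Helper8.UGrG

set_option autoImplicit false
set_option linter.unusedSectionVars false
set_option synthInstance.maxHeartbeats 400000

/-! Graph automorphisms of `PSU_n(q)`: the determinants of the unitary similitudes of a symmetric
or skew-symmetric unitary matrix, and the number of `Inn`-classes in an inner-diagonal class
(helper8). -/

namespace Cfsg.Agent.Helper8.UGr

open Matrix Cfsg Cfsg.Agent.Helper8.AutSU Cfsg.Agent.Helper8.GrAut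
open Cfsg.Agent.Helper8.GUOrder (detGU)
open Cfsg.Agent.Helper8.AutSLn (gls glStar unitsAut unitsAut_coe index_range_pow_sup)
open Cfsg.Agent.Helper8.AutSLn.Descent (um um_coe um_injective map_injective)

section U1

variable {F : Type*} [Field F] [Fintype F] {q : ℕ} [hF : Fact (Fintype.card F = q ^ 2)]

omit [Fintype F] hF in
theorem map_pow_U1_le (n : ℕ) : (U1 F q).map (powMonoidHom n : Fˣ →* Fˣ) ≤ U1 F q := by
  rintro _ ⟨y, hy, rfl⟩
  exact Subgroup.pow_mem _ hy n

/-- the index in the unitary scalars of the join of the `n`-th powers and a subgroup -/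
theorem relIndex_U1_sup (n : ℕ) (T : Subgroup Fˣ) (hT : T ≤ U1 F q) :
    ((U1 F q).map (powMonoidHom n : Fˣ →* Fˣ) ⊔ T).relIndex (U1 F q) =
      Nat.gcd n (T.relIndex (U1 F q)) := by
  have h1 : ((U1 F q).map (powMonoidHom n : Fˣ →* Fˣ)).subgroupOf (U1 F q) =
      (powMonoidHom n : ↥(U1 F q) →* ↥(U1 F q)).range := by
    ext ⟨x, hx⟩
    rw [Subgroup.mem_subgroupOf, Subgroup.mem_map, MonoidHom.mem_range]
    constructor
    · rintro ⟨y, hy, e⟩
      exact ⟨⟨y, hy⟩, Subtype.ext e⟩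
    · rintro ⟨⟨y, hy⟩, e⟩
      exact ⟨y, hy, congrArg Subtype.val e⟩
  unfold Subgroup.relIndex
  rw [Subgroup.subgroupOf_sup (map_pow_U1_le n) hT, h1, index_range_pow_sup]

theorem relIndex_map_pow_U1 (n : ℕ) :
    ((U1 F q).map (powMonoidHom n : Fˣ →* Fˣ)).relIndex (U1 F q) = Nat.gcd n (q + 1) := by
  have h := relIndex_U1_sup (F := F) (q := q) n ⊥ bot_le
  rw [sup_bot_eq, Subgroup.relIndex_bot_left, card_U1] at h
  exact h

theorem neg_one_mem_U1 (hq : Odd q) : (-1 : Fˣ) ∈ U1 F q := by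
  rw [MonoidHom.mem_ker, powMonoidHom_apply]
  exact Even.neg_one_pow hq.add_one

theorem relIndex_zpowers_neg_one (hq : Odd q) (h2 : (2 : F) ≠ 0) :
    (Subgroup.zpowers (-1 : Fˣ)).relIndex (U1 F q) = (q + 1) / 2 := by
  have hord : orderOf (-1 : Fˣ) = 2 := by
    apply orderOf_eq_prime
    · simp
    · intro h
      have h1 := congrArg Units.val h
      rw [Units.val_neg, Units.val_one] at h1
      apply h2
      linear_combination -h1
  have hle : Subgroup.zpowers (-1 : Fˣ) ≤ U1 F q := by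
    rw [Subgroup.zpowers_le]
    exact neg_one_mem_U1 hq
  have h1 := ((Subgroup.zpowers (-1 : Fˣ)).subgroupOf (U1 F q)).card_mul_index
  have h3 : Nat.card ((Subgroup.zpowers (-1 : Fˣ)).subgroupOf (U1 F q)) = 2 := by
    rw [← hord, ← Nat.card_zpowers]
    exact Nat.card_congr (Subgroup.subgroupOfEquivOfLe hle).toEquiv
  rw [h3, card_U1] at h1
  unfold Subgroup.relIndex
  omega

end U1

section Det

variable {F : Type*} [Field F] [Fintype F] {q k : ℕ} [hF : Fact (Fintype.card F = q ^ 2)]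

/-- the multiplier of a unitary similitude of a unitary matrix is a unitary scalar -/
theorem multiplier_mem_U1 (A g : GU (k + 2) F q) (c : Fˣ)
    (h : (g : GL (Fin (k + 2)) F) * (A : GL (Fin (k + 2)) F) * glT (g : GL (Fin (k + 2)) F) =
      c • (A : GL (Fin (k + 2)) F)) : c ∈ U1 F q := by
  apply scalar_mem_U1 (k := k)
  have h1 : Matrix.GeneralLinearGroup.scalar (Fin (k + 2)) c =
      ((g * A * guT g * A⁻¹ : GU (k + 2) F q) : GL (Fin (k + 2)) F) := by
    rw [Subgroup.coe_mul, Subgroup.coe_mul, Subgroup.coe_mul, Subgroup.coe_inv, coe_guT, h,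
      smul_mul', mul_inv_cancel, scalar_eq_smul_one]
  rw [h1]
  exact (g * A * guT g * A⁻¹).2

theorem det_sq_of_form (A g : GL (Fin (k + 2)) F) (c : Fˣ) (h : g * A * glT g = c • A) :
    Matrix.GeneralLinearGroup.det g * Matrix.GeneralLinearGroup.det g = c ^ (k + 2) :=
  det_mul_self_of_form A g c
    (congrArg (fun x : GL (Fin (k + 2)) F => (x : Matrix (Fin (k + 2)) (Fin (k + 2)) F)) h)

/-- `n` odd: the determinants of the unitary similitudes are `n`-th powers of unitary scalars -/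
theorem map_det_usimU_le_of_odd (p : ℕ) [Fact p.Prime] [CharP F p] (hk : 1 ≤ k)
    (hodd : Odd (k + 2)) (A : GU (k + 2) F q) :
    (usimU A).map (detGU (k + 2) F q) ≤ (U1 F q).map (powMonoidHom (k + 2) : Fˣ →* Fˣ) := by
  rintro _ ⟨g, hg, rfl⟩
  obtain ⟨c, hc⟩ := (mem_simT_iff' _ _).mp ((mem_usimU_iff p hk A g).mp hg)
  have hcU := multiplier_mem_U1 A g c hc
  have hDU := detGU_mem_U1 g
  have h1 := det_sq_of_form _ _ c hc
  rw [← detGU_apply] at h1
  obtain ⟨j, hj⟩ := hodd
  set D := detGU (k + 2) F q g with hD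
  refine ⟨D * (c ^ j)⁻¹, Subgroup.mul_mem _ hDU (Subgroup.inv_mem _ (Subgroup.pow_mem _ hcU j)), ?_⟩
  rw [powMonoidHom_apply, mul_pow, inv_pow, ← pow_mul]
  have h2 : D ^ (k + 2) = c ^ (j * (k + 2)) * D := by
    conv_lhs => rw [hj, pow_succ, pow_mul, pow_two, h1, ← pow_mul, mul_comm (k + 2) j]
  rw [h2, mul_comm, ← mul_assoc, inv_mul_cancel, one_mul]

/-- `q` even: the determinants of the unitary similitudes are `n`-th powers of unitary scalars -/
theorem map_det_usimU_le_of_even (p : ℕ) [Fact p.Prime] [CharP F p] (hk : 1 ≤ k)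
    (hq : Even q) (A : GU (k + 2) F q) :
    (usimU A).map (detGU (k + 2) F q) ≤ (U1 F q).map (powMonoidHom (k + 2) : Fˣ →* Fˣ) := by
  rintro _ ⟨g, hg, rfl⟩
  obtain ⟨c, hc⟩ := (mem_simT_iff' _ _).mp ((mem_usimU_iff p hk A g).mp hg)
  have hcU := multiplier_mem_U1 A g c hc
  have hDU := detGU_mem_U1 g
  have h1 := det_sq_of_form _ _ c hc
  rw [← detGU_apply] at h1
  set D := detGU (k + 2) F q g with hD
  obtain ⟨j, hj⟩ := hq
  -- square roots in the group of odd order
  have hroot : ∀ x : Fˣ, x ∈ U1 F q → (x ^ (j + 1)) ^ 2 = x := by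
    intro x hx
    rw [MonoidHom.mem_ker, powMonoidHom_apply] at hx
    rw [← pow_mul]
    have : (j + 1) * 2 = (q + 1) + 1 := by omega
    rw [this, pow_succ, hx, one_mul]
  have huniq : ∀ x : Fˣ, x ∈ U1 F q → x ^ 2 = 1 → x = 1 := by
    intro x hx hx2
    rw [← hroot x hx, ← pow_mul, mul_comm, pow_mul, hx2, one_pow]
  set e := c ^ (j + 1) with he
  have heU : e ∈ U1 F q := Subgroup.pow_mem _ hcU _
  refine ⟨e, heU, ?_⟩
  rw [powMonoidHom_apply]
  have h3 : (D * (e ^ (k + 2))⁻¹) ^ 2 = 1 := by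
    rw [mul_pow, inv_pow, pow_two D, h1, ← pow_mul, mul_comm (k + 2) 2, pow_mul, hroot c hcU,
      mul_inv_cancel]
  have h4 := huniq _ (Subgroup.mul_mem _ hDU (Subgroup.inv_mem _ (Subgroup.pow_mem _ heU _))) h3
  rw [mul_inv_eq_one] at h4
  exact h4.symm

/-- the number of classes when the determinants are `n`-th powers -/
theorem splitClassCount_ugraphAut_of_le (p : ℕ) [Fact p.Prime] [CharP F p] (hk : 1 ≤ k)
    (A : GU (k + 2) F q)
    (h : (usimU A).map (detGU (k + 2) F q) ≤ (U1 F q).map (powMonoidHom (k + 2) : Fˣ →* Fˣ)) :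
    Cfsg.splitClassCount (Cfsg.inndiagPSU (k + 2) F q) (Cfsg.Inn (PSU (k + 2) F q))
      (ugraphAut A) = Nat.gcd (k + 2) (q + 1) := by
  rw [splitClassCount_ugraphAut p hk, sup_eq_left.mpr h, relIndex_map_pow_U1]

end Det

end Cfsg.Agent.Helper8.UGr
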