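import Mathlib
import Cfsg.Agent.Helper8.UGrL

set_option autoImplicit false
set_option linter.unusedSectionVars false
set_option synthInstance.maxHeartbeats 400000

/-! Graph automorphisms of `PSU_n(q)`, `n` even and `q` odd: the number of `Inn`-classes in the
inner-diagonal class of an involutory graph automorphism of symplectic or of orthogonal type
(helper8). -/

namespace Cfsg.Agent.Helper8.UGr

open Matrix Cfsg Cfsg.Agent.Helper8.AutSU Cfsg.Agent.Helper8.GrAut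
open Cfsg.Agent.Helper8.GUOrder (detGU)
open Cfsg.Agent.Helper8.AutSLn (gls glStar unitsAut unitsAut_coe)
open Cfsg.Agent.Helper8.AutSLn.Descent (um um_coe um_injective map_injective)

variable {F : Type*} [Field F] [Fintype F] {q k : ℕ} [hF : Fact (Fintype.card F = q ^ 2)]
variable {F₀ : Type*} [Field F₀] [Fintype F₀] {ι : F₀ →+* F} {η ω : Fˣ}

/-- a unitary matrix given by a matrix with `g g* = 1` similar to `A`, as an element of `usimU` -/
theorem mem_usimU_of (p : ℕ) [Fact p.Prime] [CharP F p] (hk : 1 ≤ k) (A : GU (k + 2) F q)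
    (g : GL (Fin (k + 2)) F) (hg : g * glStar (frobE F q) g = 1) (c : Fˣ)
    (hc : g * (A : GL (Fin (k + 2)) F) * glT g = c • (A : GL (Fin (k + 2)) F)) :
    (⟨g, (mem_GU_iff_star g).mpr hg⟩ : GU (k + 2) F q) ∈ usimU A :=
  (mem_usimU_iff p hk A _).mpr ((mem_simT_iff' _ _).mpr ⟨c, hc⟩)

theorem map_pow_two_mul_le {m : ℕ} (hnm : k + 2 = 2 * m) :
    (U1 F q).map (powMonoidHom (k + 2) : Fˣ →* Fˣ) ≤
      (U1 F q).map (powMonoidHom m : Fˣ →* Fˣ) := by
  rintro _ ⟨y, hy, rfl⟩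
  refine ⟨y ^ 2, Subgroup.pow_mem _ hy 2, ?_⟩
  rw [powMonoidHom_apply, powMonoidHom_apply, ← pow_mul, hnm]

/-- symplectic type: the determinants generate the `m`-th powers of the unitary scalars -/
theorem sup_map_det_usimU_skew (p : ℕ) [Fact p.Prime] [CharP F p] (hk : 1 ≤ k)
    (D : FD (frobE F q) ι) (h2 : (2 : F) ≠ 0) (h20 : (2 : F₀) ≠ 0) {m : ℕ}
    (hnm : k + 2 = 2 * m) {A : GU (k + 2) F q} {B : GL (Fin (k + 2)) F}
    {M₀ : GL (Fin (k + 2)) F₀} (X : DD (frobE F q) ι η ω (A : GL (Fin (k + 2)) F) B M₀)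
    (hA : ((A : GL (Fin (k + 2)) F) : Matrix (Fin (k + 2)) (Fin (k + 2)) F).transpose =
      -((A : GL (Fin (k + 2)) F) : Matrix (Fin (k + 2)) (Fin (k + 2)) F))
    (hM₀ : (M₀ : Matrix (Fin (k + 2)) (Fin (k + 2)) F₀).transpose = -M₀) :
    (U1 F q).map (powMonoidHom (k + 2) : Fˣ →* Fˣ) ⊔ (usimU A).map (detGU (k + 2) F q) =
      (U1 F q).map (powMonoidHom m : Fˣ →* Fˣ) := by
  apply le_antisymm
  · rw [sup_le_iff]
    refine ⟨map_pow_two_mul_le hnm, ?_⟩
    rintro _ ⟨g, hg, rfl⟩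
    obtain ⟨c, hc⟩ := (mem_simT_iff' _ _).mp ((mem_usimU_iff p hk A g).mp hg)
    refine ⟨c, multiplier_mem_U1 A g c hc, ?_⟩
    rw [powMonoidHom_apply, detGU_apply, det_of_skew_form h2 hnm _ hA _ c hc]
  · rintro _ ⟨u, hu, rfl⟩
    apply Subgroup.mem_sup_right
    have hall : ∀ c₀ : F₀ˣ, ∃ g₀ : GL (Fin (k + 2)) F₀, g₀ * M₀ * glT g₀ = c₀ • M₀ := by
      intro c₀
      obtain ⟨g₀, h⟩ := exists_congr_of_skew h20 M₀ (c₀ • M₀) hM₀
        (by rw [coe_smul', Matrix.transpose_smul, hM₀, smul_neg])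
      exact ⟨g₀, Units.ext h⟩
    obtain ⟨g, hgU, hgA⟩ := X.exists_of_multiplier D hall u ((mem_U1_iff u).mp hu)
    refine ⟨⟨g, (mem_GU_iff_star g).mpr hgU⟩, mem_usimU_of p hk A g hgU u hgA, ?_⟩
    rw [powMonoidHom_apply, detGU_apply]
    exact det_of_skew_form h2 hnm _ hA g u hgA

/-- orthogonal type: the determinants generate the `m`-th powers of the unitary scalars and
`-1` -/
theorem sup_map_det_usimU_symm (p : ℕ) [Fact p.Prime] [CharP F p] (hk : 1 ≤ k)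
    (D : FD (frobE F q) ι) (h20 : (2 : F₀) ≠ 0) {m : ℕ}
    (hnm : k + 2 = 2 * m) {A : GU (k + 2) F q} {B : GL (Fin (k + 2)) F}
    {M₀ : GL (Fin (k + 2)) F₀} (X : DD (frobE F q) ι η ω (A : GL (Fin (k + 2)) F) B M₀)
    (hM₀ : (M₀ : Matrix (Fin (k + 2)) (Fin (k + 2)) F₀).transpose = M₀) :
    (U1 F q).map (powMonoidHom (k + 2) : Fˣ →* Fˣ) ⊔ (usimU A).map (detGU (k + 2) F q) =
      (U1 F q).map (powMonoidHom m : Fˣ →* Fˣ) ⊔ Subgroup.zpowers (-1 : Fˣ) := by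
  have hdet : ∀ (g : GL (Fin (k + 2)) F) (c : Fˣ),
      g * (A : GL (Fin (k + 2)) F) * glT g = c • (A : GL (Fin (k + 2)) F) →
      Matrix.GeneralLinearGroup.det g = c ^ m ∨ Matrix.GeneralLinearGroup.det g = -c ^ m := by
    intro g c hc
    have h1 := det_sq_of_form _ g c hc
    have h3 : ((Matrix.GeneralLinearGroup.det g : Fˣ) : F) *
        ((Matrix.GeneralLinearGroup.det g : Fˣ) : F) = ((c : F) ^ m) * ((c : F) ^ m) := by
      have := congrArg Units.val h1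
      rw [Units.val_mul, Units.val_pow_eq_pow_val] at this
      rw [this, hnm, two_mul, pow_add]
    rcases mul_self_eq_mul_self_iff.mp h3 with h | h
    · left
      exact Units.ext (by rw [Units.val_pow_eq_pow_val, h])
    · right
      exact Units.ext (by rw [Units.val_neg, Units.val_pow_eq_pow_val, h])
  -- the reflection
  have hneg : (-1 : Fˣ) ∈ (usimU A).map (detGU (k + 2) F q) := by
    obtain ⟨r₀, hr₀, hdr⟩ := exists_reflection_form h20 (by omega) M₀ hM₀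
    obtain ⟨g, hgU, hgA, hgd⟩ := X.exists_of_isometry D r₀ hr₀
    refine ⟨⟨g, (mem_GU_iff_star g).mpr hgU⟩,
      mem_usimU_of p hk A g hgU 1 (by rw [hgA, one_smul]), ?_⟩
    rw [detGU_apply, hgd, hdr, um_neg_one]
  apply le_antisymm
  · rw [sup_le_iff]
    refine ⟨le_trans (map_pow_two_mul_le hnm) le_sup_left, ?_⟩
    rintro _ ⟨g, hg, rfl⟩
    obtain ⟨c, hc⟩ := (mem_simT_iff' _ _).mp ((mem_usimU_iff p hk A g).mp hg)
    have hcU := multiplier_mem_U1 A g c hc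
    have hc1 : c ^ m ∈ (U1 F q).map (powMonoidHom m : Fˣ →* Fˣ) := ⟨c, hcU, rfl⟩
    rw [detGU_apply]
    rcases hdet _ c hc with h | h
    · rw [h]
      exact Subgroup.mem_sup_left hc1
    · have h5 : Matrix.GeneralLinearGroup.det (g : GL (Fin (k + 2)) F) = c ^ m * (-1 : Fˣ) := by
        rw [h, mul_neg_one]
      rw [h5]
      exact Subgroup.mul_mem_sup hc1 (Subgroup.mem_zpowers (-1 : Fˣ))
  · rw [sup_le_iff]
    constructor
    · rintro _ ⟨u, hu, rfl⟩
      apply Subgroup.mem_sup_right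
      have hall : ∀ c₀ : F₀ˣ, ∃ g₀ : GL (Fin (k + 2)) F₀, g₀ * M₀ * glT g₀ = c₀ • M₀ := by
        intro c₀
        obtain ⟨g₀, h⟩ := exists_nonsquare_multiplier h20 hnm M₀ hM₀ c₀
        exact ⟨g₀, Units.ext h⟩
      obtain ⟨g, hgU, hgA⟩ := X.exists_of_multiplier D hall u ((mem_U1_iff u).mp hu)
      have hmem := mem_usimU_of p hk A g hgU u hgA
      rw [powMonoidHom_apply]
      rcases hdet g u hgA with h | h
      · rw [← h]
        exact ⟨⟨g, (mem_GU_iff_star g).mpr hgU⟩, hmem, rfl⟩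
      · have : u ^ m = (-1 : Fˣ) * Matrix.GeneralLinearGroup.det g := by
          rw [h]
          simp
        rw [this]
        exact Subgroup.mul_mem _ hneg ⟨⟨g, (mem_GU_iff_star g).mpr hgU⟩, hmem, rfl⟩
    · rw [Subgroup.zpowers_le]
      exact Subgroup.mem_sup_right hneg

/-- **class count, symplectic type** -/
theorem splitClassCount_uskew (p : ℕ) [Fact p.Prime] [CharP F p] (hk : 1 ≤ k)
    (D : FD (frobE F q) ι) (h2 : (2 : F) ≠ 0) (h20 : (2 : F₀) ≠ 0) {m : ℕ}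
    (hnm : k + 2 = 2 * m) {A : GU (k + 2) F q} {B : GL (Fin (k + 2)) F}
    {M₀ : GL (Fin (k + 2)) F₀} (X : DD (frobE F q) ι η ω (A : GL (Fin (k + 2)) F) B M₀)
    (hA : ((A : GL (Fin (k + 2)) F) : Matrix (Fin (k + 2)) (Fin (k + 2)) F).transpose =
      -((A : GL (Fin (k + 2)) F) : Matrix (Fin (k + 2)) (Fin (k + 2)) F))
    (hM₀ : (M₀ : Matrix (Fin (k + 2)) (Fin (k + 2)) F₀).transpose = -M₀) :
    Cfsg.splitClassCount (Cfsg.inndiagPSU (k + 2) F q) (Cfsg.Inn (PSU (k + 2) F q))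
      (ugraphAut A) = Nat.gcd m (q + 1) := by
  rw [splitClassCount_ugraphAut p hk, sup_map_det_usimU_skew p hk D h2 h20 hnm X hA hM₀,
    relIndex_map_pow_U1]

/-- **class count, orthogonal type** -/
theorem splitClassCount_usymm (p : ℕ) [Fact p.Prime] [CharP F p] (hk : 1 ≤ k)
    (D : FD (frobE F q) ι) (h2 : (2 : F) ≠ 0) (h20 : (2 : F₀) ≠ 0) (hq : Odd q) {m : ℕ}
    (hnm : k + 2 = 2 * m) {A : GU (k + 2) F q} {B : GL (Fin (k + 2)) F}
    {M₀ : GL (Fin (k + 2)) F₀} (X : DD (frobE F q) ι η ω (A : GL (Fin (k + 2)) F) B M₀)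
    (hM₀ : (M₀ : Matrix (Fin (k + 2)) (Fin (k + 2)) F₀).transpose = M₀) :
    Cfsg.splitClassCount (Cfsg.inndiagPSU (k + 2) F q) (Cfsg.Inn (PSU (k + 2) F q))
      (ugraphAut A) = Nat.gcd (k + 2) (q + 1) / 2 := by
  have hle : Subgroup.zpowers (-1 : Fˣ) ≤ U1 F q := by
    rw [Subgroup.zpowers_le]
    exact neg_one_mem_U1 hq
  rw [splitClassCount_ugraphAut p hk, sup_map_det_usimU_symm p hk D h20 hnm X hM₀,
    relIndex_U1_sup m _ hle, relIndex_zpowers_neg_one hq h2]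
  obtain ⟨j, hj⟩ := hq
  have hq1 : q + 1 = 2 * (j + 1) := by omega
  rw [hq1, hnm, Nat.gcd_mul_left, Nat.mul_div_cancel_left _ (by norm_num : 0 < 2),
    Nat.mul_div_cancel_left _ (by norm_num : 0 < 2)]

end Cfsg.Agent.Helper8.UGr
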