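import Mathlib
import Cfsg.Agent.Helper8.UJOrth
import Cfsg.Agent.Helper8.UJOrthMain
import Cfsg.Agent.Helper8.UJOrthOdd
set_option autoImplicit false

/-! Regular unipotent isometries of a quadratic form in even dimension and characteristic two. -/

namespace Cfsg.Agent.Helper8.UJ

open Matrix Module

variable {F : Type*} [Field F]

section chartwo
variable [CharP F 2]

theorem mat_neg_eq {ι κ : Type*} (M : Matrix ι κ F) : -M = M := by
  ext i j
  rw [Matrix.neg_apply, CharTwo.neg_eq]

theorem mat_add_self {ι κ : Type*} (M : Matrix ι κ F) : M + M = 0 := by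
  ext i j
  rw [Matrix.add_apply, CharTwo.add_self_eq_zero, Matrix.zero_apply]

theorem isAltM_fromBlocks {ι κ : Type*} (B : Matrix ι κ F) (C : Matrix κ ι F) (D : Matrix κ κ F)
    (hC : C = Bᵀ) (hD : IsAltM D) : IsAltM (fromBlocks 0 B C D) := by
  constructor
  · rw [Matrix.fromBlocks_transpose, mat_neg_eq, hC, Matrix.transpose_transpose,
      Matrix.transpose_zero, hD.1, mat_neg_eq]
  · rintro (i | i)
    · rfl
    · exact hD.2 i

/-- the diagonal part of the quadratic form -/
def Dm (k : ℕ) : Matrix (Fin k) (Fin k) F :=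
  Matrix.diagonal fun i => if 2 * (i : ℕ) = k then 1 else 0

theorem uS_char_two (k : ℕ) : uS (F := F) k = fromBlocks 0 1 1 (Zs k) := by
  rw [uS, Es, mat_neg_eq, mat_add_self, zero_add]

theorem isAltM_corner (k : ℕ) :
    IsAltM (Hr (F := F) k * Zs k + (Zs k)ᵀ * Dm k * Zs k) := by
  constructor
  · rw [mat_neg_eq, Matrix.transpose_add, Matrix.transpose_mul, Matrix.transpose_mul,
      Matrix.transpose_mul, Matrix.transpose_transpose, Hr_transpose, ← Hr_mul_Zs, Dm,
      Matrix.diagonal_transpose, Matrix.mul_assoc]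
  · intro i
    rw [Matrix.add_apply, Hr_mul_apply, Matrix.mul_assoc, Zs_transpose_mul_apply]
    have hi := i.2
    by_cases h : 2 * (i : ℕ) + 2 = k
    · rw [dif_pos (by omega), mul_Zs_apply, dif_pos (by omega)]
      simp only [Zs, Dm, Matrix.of_apply, Fin.val_rev, Matrix.diagonal_apply_eq]
      rw [if_pos (by omega), if_pos (by omega)]
      exact CharTwo.add_self_eq_zero 1
    · have h1 : Zs (F := F) k (Fin.rev i) i = 0 := by
        simp only [Zs, Matrix.of_apply, Fin.val_rev]
        rw [if_neg (by omega)]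
      rw [h1, zero_add]
      split_ifs with h'
      · rw [mul_Zs_apply, dif_pos h']
        simp only [Dm, Matrix.diagonal_apply_eq]
        rw [if_neg (by omega)]
      · rfl

/-- a single even block is realised by an isometry of a quadratic form in characteristic two -/
theorem oReal_single_even (k : ℕ) (hk : 1 ≤ k) : OReal F {2 * k} := by
  refine ⟨Fin k ⊕ Fin k, inferInstance, inferInstance, fromBlocks (Dm k) (Hr k) 0 (Dm k), uS k,
    ?_, ?_, fun j => ?_⟩
  · rw [Matrix.fromBlocks_transpose, Matrix.fromBlocks_add]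
    have hD : (Dm (F := F) k)ᵀ = Dm k := by rw [Dm, Matrix.diagonal_transpose]
    rw [hD, mat_add_self, Hr_transpose, Matrix.transpose_zero, add_zero, zero_add]
    have h3 : (fromBlocks (0 : Matrix (Fin k) (Fin k) F) (Hr k) (Hr k) 0) *
        fromBlocks 0 (Hr k) (Hr k) 0 = 1 := by
      rw [Matrix.fromBlocks_multiply]
      simp [Hr_mul_Hr, Matrix.fromBlocks_one]
    intro h0
    have := congrArg Matrix.det h3
    rw [Matrix.det_mul, h0, zero_mul, Matrix.det_one] at this
    exact zero_ne_one this
  · rw [uS_char_two, Matrix.fromBlocks_transpose, Matrix.fromBlocks_multiply,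
      Matrix.fromBlocks_multiply, fromBlocks_sub']
    simp only [Matrix.transpose_zero, Matrix.transpose_one, Matrix.zero_mul, Matrix.one_mul,
      Matrix.mul_zero, Matrix.mul_one, zero_add, add_zero, sub_self, sub_zero]
    have e1 : Dm (F := F) k + (Hr k + (Zs k)ᵀ * Dm k) * Zs k - Dm k =
        Hr k * Zs k + (Zs k)ᵀ * Dm k * Zs k := by
      rw [Matrix.add_mul]
      abel
    have hD : (Dm (F := F) k)ᵀ = Dm k := by rw [Dm, Matrix.diagonal_transpose]
    rw [e1]
    apply isAltM_fromBlocks _ _ _ _ (isAltM_corner k)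
    rw [Matrix.transpose_sub, Matrix.transpose_mul, hD, Hr_transpose, sub_eq_add_neg, mat_neg_eq,
      add_comm]
  · rw [rank_uS_sub_one_pow k hk, mprof_singleton]

theorem oReal_of_even_two {t : ℕ} (d : Fin t → ℕ) (hd : ∀ k, 1 ≤ d k)
    (hev : ∀ j : ℕ, Odd j → Even (Finset.univ.filter (fun k : Fin t => d k = j)).card) :
    OReal F (Finset.univ.val.map d) := by
  have hpos : ∀ a ∈ Finset.univ.val.map d, 1 ≤ a := by
    intro a ha
    rw [Multiset.mem_map] at ha
    obtain ⟨k, _, rfl⟩ := ha
    exact hd k
  apply multiset_induction (OReal F) (fun a => Even a) oReal_zero oReal_add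
  · intro a ha hgood
    obtain ⟨k, rfl⟩ := hgood
    have : k + k = 2 * k := by ring
    rw [this]
    exact oReal_single_even k (by omega)
  · intro a _
    exact oReal_pair a
  · exact hpos
  · intro a ha
    rw [count_map_univ]
    exact hev a (Nat.not_even_iff_odd.mp ha)

end chartwo

end Cfsg.Agent.Helper8.UJ
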