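import Mathlib
import Cfsg.Agent.Helper8.UTID
set_option autoImplicit false
set_option linter.unusedSectionVars false

/-! Necessary conditions for an invariant totally isotropic subspace of an isometry of odd prime
order of the unitary space: the fixed part (helper8). -/

namespace Cfsg.Agent.Helper8.UTI

open Matrix Module Polynomial Cfsg Cfsg.Agent.Helper7.Herm Cfsg.Agent.Helper8.GUOrder
  Cfsg.Agent.Helper8.AutSU Cfsg.Agent.Helper7.SUNd Cfsg.Agent.Helper8.SURoot
  Cfsg.Agent.Helper8.HermTwo Cfsg.Agent.Helper7.POrd Cfsg.Agent.Helper7.SpOrd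
  Cfsg.Agent.Helper7.UBlk

variable {F : Type*} [Field F] [Fintype F] {q N : ℕ} [hF : Fact (Fintype.card F = q ^ 2)]
  {T : Module.End F (Fin N → F)}

/-- a totally isotropic subspace of a nondegenerate subspace has at most half the dimension. -/
theorem finrank_ti_le_of_nd {L M : Submodule F (Fin N → F)} (hM : NDeg q M) (hLM : L ≤ M)
    (hL : TIso q L) : 2 * finrank F ↥L ≤ finrank F ↥M := by
  have h1 := finrank_perpIn_gen hM hLM
  have h2 : L ≤ perpIn q M L := by
    intro x hx
    rw [mem_perpIn]
    exact ⟨hLM hx, fun w hw => hL x hx w hw⟩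
  have h3 := Submodule.finrank_mono h2
  omega

variable {p : ℕ} [Fact p.Prime] [CharP F p] {r : ℕ} [Fact r.Prime]

/-- the fixed space of an isometry of order `r` is nondegenerate. -/
theorem ndeg_fixS (hrp : r ≠ p)
    (hiso : ∀ u v, hermForm N F q (T u) (T v) = hermForm N F q u v) (hT : T ^ r = 1) :
    NDeg q (fixS T) := by
  have hrF : (r : F) ≠ 0 := natCast_ne_zero_of_ne hrp
  have := und_inf_fix hiso hrF hT (Module.End.invtSubmodule.top_mem T) (ndeg_top (q := q))
  rwa [top_inf_eq] at this

/-- **the fixed part**: the dimension of an invariant totally isotropic subspace, modulo the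
order of `q ^ 2`, is at most half the dimension of the fixed space. -/
theorem mod_le_of_ti (hrp : r ≠ p)
    (hiso : ∀ u v, hermForm N F q (T u) (T v) = hermForm N F q u v) (hT : T ^ r = 1)
    {W : Submodule F (Fin N → F)} (hW : W ∈ Module.End.invtSubmodule T) (hWti : TIso q W) :
    2 * (finrank F ↥W % orderOf ((Fintype.card F : ℕ) : ZMod r)) ≤ finrank F ↥(fixS T) := by
  have hrF : (r : F) ≠ 0 := natCast_ne_zero_of_ne hrp
  have hfixnd := ndeg_fixS hrp hiso hT
  have hdec := finrank_invt_decomp hrF hT hW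
  have hmovfix : (W ⊓ movS r T) ⊓ fixS T = ⊥ := by
    rw [eq_bot_iff, inf_assoc]
    refine le_trans inf_le_right ?_
    rw [inf_comm]
    exact le_of_eq (disjoint_fix_mov hrF T).eq_bot
  obtain ⟨l, hl⟩ := orderOf_dvd_finrank hT (inf_invt hW (movS_invt r T)) hmovfix
  have h1 := finrank_ti_le_of_nd hfixnd (inf_le_right : W ⊓ fixS T ≤ fixS T)
    (tiso_mono hWti inf_le_left)
  have h2 : finrank F ↥W % orderOf ((Fintype.card F : ℕ) : ZMod r) ≤
      finrank F ↥(W ⊓ fixS T) := by
    rw [hdec, hl, Nat.add_mul_mod_self_left]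
    exact Nat.mod_le _ _
  omega

/-- the moved part of an invariant totally isotropic subspace, when it vanishes. -/
theorem le_of_ti_of_mov_eq_bot (hrp : r ≠ p)
    (hiso : ∀ u v, hermForm N F q (T u) (T v) = hermForm N F q u v) (hT : T ^ r = 1)
    {W : Submodule F (Fin N → F)} (hW : W ∈ Module.End.invtSubmodule T) (hWti : TIso q W)
    (hmov : W ⊓ movS r T = ⊥) : 2 * finrank F ↥W ≤ finrank F ↥(fixS T) := by
  have hrF : (r : F) ≠ 0 := natCast_ne_zero_of_ne hrp
  have hfixnd := ndeg_fixS hrp hiso hT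
  have hdec := finrank_invt_decomp hrF hT hW
  rw [hmov, finrank_bot, add_zero] at hdec
  have h1 := finrank_ti_le_of_nd hfixnd (inf_le_right : W ⊓ fixS T ≤ fixS T)
    (tiso_mono hWti inf_le_left)
  omega

end Cfsg.Agent.Helper8.UTI
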