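import Mathlib
import Cfsg.Agent.Helper8.UTIE
import Cfsg.Agent.Helper7.SpTII
set_option autoImplicit false
set_option linter.unusedSectionVars false

/-! Block diagonal matrices whose blocks have coprime annihilators: an invariant totally
isotropic subspace avoids the irreducible nondegenerate blocks (helper8). -/

namespace Cfsg.Agent.Helper8.UTI

open Matrix Module Polynomial Cfsg Cfsg.Agent.Helper7.Herm Cfsg.Agent.Helper8.GUOrder
  Cfsg.Agent.Helper8.AutSU Cfsg.Agent.Helper7.SUNd
  Cfsg.Agent.Helper8.HermTwo Cfsg.Agent.Helper7.POrd Cfsg.Agent.Helper7.SpOrd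
  Cfsg.Agent.Helper7.UBlk Cfsg.Agent.Helper7.UCnt

variable {F : Type*} [Field F] [Fintype F] {q N : ℕ} [hF : Fact (Fintype.card F = q ^ 2)]

/-- no invariant totally isotropic subspace meets the moved space. -/
def NoTIMov (q r : ℕ) {N : ℕ} (Y : Matrix (Fin N) (Fin N) F) : Prop :=
  ∀ W : Submodule F (Fin N → F),
    W ∈ Module.End.invtSubmodule (Matrix.toLin' Y : Module.End F (Fin N → F)) → TIso q W →
    W ⊓ movS r (Matrix.toLin' Y : Module.End F (Fin N → F)) = ⊥

omit [Fintype F] hF in
theorem movS_one {r : ℕ} (hrF : (r : F) ≠ 0) :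
    movS r (Matrix.toLin' (1 : Matrix (Fin N) (Fin N) F) : Module.End F (Fin N → F)) = ⊥ := by
  rw [eq_bot_iff]
  intro v hv
  rw [mem_movS, Phi_apply_of_fixed (by rw [Matrix.toLin'_one]; rfl)] at hv
  rw [Submodule.mem_bot]
  exact (smul_eq_zero.mp hv).resolve_left hrF

omit [Fintype F] hF in
theorem noTIMov_one {r : ℕ} (hrF : (r : F) ≠ 0) :
    NoTIMov q r (1 : Matrix (Fin N) (Fin N) F) := by
  intro W _ _
  rw [movS_one hrF, inf_bot_eq]

omit [Fintype F] hF in
theorem Phi_eq_aeval {V : Type*} [AddCommGroup V] [Module F V] (r : ℕ) (T : Module.End F V) :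
    Phi r T = aeval T (∑ t ∈ Finset.range r, (X : F[X]) ^ t) := by
  unfold Phi
  rw [map_sum]
  apply Finset.sum_congr rfl
  intro t _
  rw [map_pow, aeval_X]

omit [Fintype F] hF in
theorem toLin'_bdM_apvL {k m : ℕ} (A : Matrix (Fin k) (Fin k) F) (Y : Matrix (Fin m) (Fin m) F)
    (x : Fin k → F) :
    (Matrix.toLin' (bdM A Y) : Module.End F (Fin (k + m) → F)) (apvL k m F x) =
      apvL k m F ((Matrix.toLin' A : Module.End F (Fin k → F)) x) := by
  rw [Matrix.toLin'_apply, Matrix.toLin'_apply]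
  show bdM A Y *ᵥ apv x 0 = apv (A *ᵥ x) 0
  rw [bdM_mulVec, Matrix.mulVec_zero]

omit [Fintype F] hF in
theorem toLin'_bdM_apvR {k m : ℕ} (A : Matrix (Fin k) (Fin k) F) (Y : Matrix (Fin m) (Fin m) F)
    (y : Fin m → F) :
    (Matrix.toLin' (bdM A Y) : Module.End F (Fin (k + m) → F)) (apvR k m F y) =
      apvR k m F ((Matrix.toLin' Y : Module.End F (Fin m → F)) y) := by
  rw [Matrix.toLin'_apply, Matrix.toLin'_apply]
  show bdM A Y *ᵥ apv 0 y = apv 0 (Y *ᵥ y)
  rw [bdM_mulVec, Matrix.mulVec_zero]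

omit [Fintype F] hF in
theorem apvL_add_apvR {k m : ℕ} (v : Fin (k + m) → F) :
    apvL k m F (p1 v) + apvR k m F (p2 v) = v := by
  show apv (p1 v) 0 + apv 0 (p2 v) = v
  rw [← apv_add, add_zero, zero_add, apv_p]

omit [Fintype F] hF in
/-- the polynomial calculus of a block diagonal matrix. -/
theorem aeval_bdM_apply {k m : ℕ} (A : Matrix (Fin k) (Fin k) F) (Y : Matrix (Fin m) (Fin m) F)
    (f : F[X]) (v : Fin (k + m) → F) :
    aeval (Matrix.toLin' (bdM A Y) : Module.End F (Fin (k + m) → F)) f v =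
      apvL k m F (aeval (Matrix.toLin' A : Module.End F (Fin k → F)) f (p1 v)) +
        apvR k m F (aeval (Matrix.toLin' Y : Module.End F (Fin m → F)) f (p2 v)) := by
  conv_lhs => rw [← apvL_add_apvR v]
  rw [map_add, Cfsg.Agent.Helper7.SpTI.aeval_intertwine _ (toLin'_bdM_apvL A Y),
    Cfsg.Agent.Helper7.SpTI.aeval_intertwine _ (toLin'_bdM_apvR A Y)]

omit [Fintype F] hF in
/-- the product of annihilators annihilates the block diagonal matrix. -/
theorem aeval_bdM_mul {k m : ℕ} {A : Matrix (Fin k) (Fin k) F} {Y : Matrix (Fin m) (Fin m) F}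
    {Q P : F[X]} (hQ : aeval (Matrix.toLin' A : Module.End F (Fin k → F)) Q = 0)
    (hP : aeval (Matrix.toLin' Y : Module.End F (Fin m → F)) P = 0) :
    aeval (Matrix.toLin' (bdM A Y) : Module.End F (Fin (k + m) → F)) (Q * P) = 0 := by
  apply LinearMap.ext
  intro v
  rw [aeval_bdM_apply, map_mul, map_mul, hQ, hP, zero_mul, mul_zero, LinearMap.zero_apply,
    LinearMap.zero_apply, map_zero, map_zero, add_zero]
  rfl

/-- **the step**: an irreducible block whose annihilator is prime to that of the rest. -/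
theorem noTIMov_bdM {r k m : ℕ} (hk : 0 < k) {A : Matrix (Fin k) (Fin k) F}
    {Y : Matrix (Fin m) (Fin m) F}
    (hirr : ∀ U : Submodule F (Fin k → F),
      U ∈ Module.End.invtSubmodule (Matrix.toLin' A : Module.End F (Fin k → F)) → U = ⊥ ∨ U = ⊤)
    {Q P : F[X]} (hQ : aeval (Matrix.toLin' A : Module.End F (Fin k → F)) Q = 0)
    (hP : aeval (Matrix.toLin' Y : Module.End F (Fin m → F)) P = 0) (hcop : IsCoprime Q P)
    (hY : NoTIMov q r Y) : NoTIMov q r (bdM A Y) := by
  intro W hW hWti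
  rw [eq_bot_iff]
  rintro w ⟨hwW, hwmov⟩
  rw [Submodule.mem_bot]
  obtain ⟨a, b, hab⟩ := hcop
  have hfA : aeval (Matrix.toLin' A : Module.End F (Fin k → F)) (b * P) = 1 := by
    have h1 : b * P = 1 - a * Q := by rw [← hab]; ring
    rw [h1, map_sub, map_mul, hQ, mul_zero, sub_zero, map_one]
  have hfY : aeval (Matrix.toLin' Y : Module.End F (Fin m → F)) (b * P) = 0 := by
    rw [map_mul, hP, mul_zero]
  have h1 : apvL k m F (p1 w) ∈ W := by
    have := invt_aeval_apply hW (b * P) hwW
    rw [aeval_bdM_apply, hfA, hfY, LinearMap.zero_apply, map_zero, add_zero,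
      Module.End.one_apply] at this
    exact this
  -- the first component vanishes
  have hx : p1 w = 0 := by
    obtain ⟨U, hU⟩ : ∃ U : Submodule F (Fin k → F), U = W.comap (apvL k m F) := ⟨_, rfl⟩
    have hUinv : U ∈ Module.End.invtSubmodule (Matrix.toLin' A : Module.End F (Fin k → F)) := by
      rw [Module.End.mem_invtSubmodule]
      intro y hy
      rw [hU, Submodule.mem_comap] at hy
      rw [Submodule.mem_comap, hU, Submodule.mem_comap, ← toLin'_bdM_apvL A Y]
      exact invt_apply hW hy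
    rcases hirr U hUinv with h | h
    · have : p1 w ∈ U := by rw [hU, Submodule.mem_comap]; exact h1
      rw [h, Submodule.mem_bot] at this
      exact this
    · exfalso
      have h2 : (Pi.single ⟨0, hk⟩ 1 : Fin k → F) ∈ U := by rw [h]; exact Submodule.mem_top
      rw [hU, Submodule.mem_comap] at h2
      have h3 := hWti _ h2 _ h2
      have h4 : apvL k m F (Pi.single ⟨0, hk⟩ 1 : Fin k → F) = apv (Pi.single ⟨0, hk⟩ 1) 0 := rfl
      rw [h4, herm_apv, h_single_single, h_zero_right, add_zero] at h3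
      exact one_ne_zero h3
  have hw : w = apvR k m F (p2 w) := by
    conv_lhs => rw [← apvL_add_apvR w, hx, map_zero, zero_add]
  have hinj : Function.Injective (apvR k m F) := by
    intro y y' h
    rw [apvR_apply, apvR_apply] at h
    exact (apv_inj h).2
  obtain ⟨W', hW'⟩ : ∃ W' : Submodule F (Fin m → F), W' = W.comap (apvR k m F) := ⟨_, rfl⟩
  have hW'inv : W' ∈ Module.End.invtSubmodule (Matrix.toLin' Y : Module.End F (Fin m → F)) := by
    rw [Module.End.mem_invtSubmodule]
    intro y hy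
    rw [hW', Submodule.mem_comap] at hy
    rw [Submodule.mem_comap, hW', Submodule.mem_comap, ← toLin'_bdM_apvR A Y]
    exact invt_apply hW hy
  have hW'ti : TIso q W' := by
    intro y hy y' hy'
    rw [hW', Submodule.mem_comap] at hy hy'
    have := hWti _ hy _ hy'
    rw [apvR_apply, apvR_apply, herm_apv, h_zero_right, zero_add] at this
    exact this
  have hy1 : p2 w ∈ W' := by
    rw [hW', Submodule.mem_comap, ← hw]
    exact hwW
  have hy2 : p2 w ∈ movS r (Matrix.toLin' Y : Module.End F (Fin m → F)) := by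
    rw [SetLike.mem_coe, mem_movS, Phi_eq_aeval, aeval_bdM_apply, hx, map_zero, map_zero,
      zero_add, ← Phi_eq_aeval] at hwmov
    rw [mem_movS]
    apply hinj
    rw [hwmov, map_zero]
  have hy0 : p2 w ∈ W' ⊓ movS r (Matrix.toLin' Y : Module.End F (Fin m → F)) := ⟨hy1, hy2⟩
  rw [hY W' hW'inv hW'ti, Submodule.mem_bot] at hy0
  rw [hw, hy0, map_zero]

end Cfsg.Agent.Helper8.UTI
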