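import Mathlib
import Cfsg.Agent.Helper8.UTIF
import Cfsg.Agent.Helper8.SemiSCyclo
set_option autoImplicit false
set_option linter.unusedSectionVars false

/-! Unitary elements of odd prime order built from pairwise nonisomorphic irreducible
nondegenerate blocks: they have no invariant totally isotropic subspace meeting the moved space
(helper8). -/

namespace Cfsg.Agent.Helper8.UTI

open Matrix Module Polynomial Cfsg Cfsg.Agent.Helper7.Herm Cfsg.Agent.Helper8.GUOrder
  Cfsg.Agent.Helper8.AutSU Cfsg.Agent.Helper7.SUNd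
  Cfsg.Agent.Helper8.HermTwo Cfsg.Agent.Helper7.POrd Cfsg.Agent.Helper7.SpOrd
  Cfsg.Agent.Helper7.UBlk Cfsg.Agent.Helper7.UCnt

variable {F : Type*} [Field F] [Fintype F] {q N : ℕ} [hF : Fact (Fintype.card F = q ^ 2)]
  {p : ℕ} [Fact p.Prime] [CharP F p] {r : ℕ} [Fact r.Prime]

omit [Fintype F] hF [Fact p.Prime] [CharP F p] [Fact r.Prime] in
theorem toLin'_mg_one :
    (Matrix.toLin' (mg (1 : GU N F q)) : Module.End F (Fin N → F)) = 1 := by
  show Matrix.toLin' (1 : Matrix (Fin N) (Fin N) F) = 1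
  rw [Matrix.toLin'_one]
  rfl

omit [Fintype F] hF [Fact p.Prime] [CharP F p] [Fact r.Prime] in
theorem pow_apply_of_fixed {V : Type*} [AddCommGroup V] [Module F V] {S : Module.End F V} {v : V}
    (h : S v = v) (n : ℕ) : (S ^ n) v = v := by
  induction n with
  | zero => rw [pow_zero, Module.End.one_apply]
  | succ n ih => rw [pow_succ, Module.End.mul_apply, h, ih]

/-- a block of the self-dual size, of order `r`, without fixed vectors. -/
theorem exists_block_sd (hrp : r ≠ p) (hsd : SD F q r) :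
    ∃ g : GU (orderOf ((Fintype.card F : ℕ) : ZMod r)) F q, g ^ r = 1 ∧
      fixS (Matrix.toLin' (mg g) :
        Module.End F (Fin (orderOf ((Fintype.card F : ℕ) : ZMod r)) → F)) = ⊥ := by
  have key : ∀ c, c = cU F q r → ∃ g : GU c F q, g ^ r = 1 ∧
      fixS (Matrix.toLin' (mg g) : Module.End F (Fin c → F)) = ⊥ := by
    intro c hc
    subst hc
    exact exists_block_gu (F := F) (q := q) hrp
  apply key
  unfold cU
  rw [if_pos hsd]

/-- the powers of an irreducible block realise every type. -/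
theorem exists_type_block_aux (hrp : r ≠ p) (b : ℕ)
    (hb : b = orderOf ((Fintype.card F : ℕ) : ZMod r)) (g₀ : GU b F q) (hg₀ : g₀ ^ r = 1)
    (hfix₀ : fixS (Matrix.toLin' (mg g₀) : Module.End F (Fin b → F)) = ⊥) {g : F[X]}
    (hg : Irreducible g) (hgd : g ∣ cyclotomic r F) :
    ∃ A : GU b F q, A ^ r = 1 ∧
      fixS (Matrix.toLin' (mg A) : Module.End F (Fin b → F)) = ⊥ ∧
      (∀ U : Submodule F (Fin b → F),
        U ∈ Module.End.invtSubmodule (Matrix.toLin' (mg A) : Module.End F (Fin b → F)) →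
          U = ⊥ ∨ U = ⊤) ∧
      aeval (Matrix.toLin' (mg A) : Module.End F (Fin b → F)) g = 0 := by
  have hrpr : r.Prime := Fact.out
  set T₀ : Module.End F (Fin b → F) := Matrix.toLin' (mg g₀) with hT₀
  have hT₀r : T₀ ^ r = 1 := by
    rw [hT₀, toLin'_mg_pow, hg₀, toLin'_mg_one]
  obtain ⟨e, he1, her, hge⟩ := Cfsg.Agent.Helper7.SpTI.exists_pow_type hrp hT₀r hfix₀
    (by rw [finrank_fin_fun, hb]) hg hgd
  have hcop : Nat.Coprime e r := by
    rw [Nat.coprime_comm]
    exact (Nat.Prime.coprime_iff_not_dvd hrpr).mpr (fun h => by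
      have := Nat.le_of_dvd (by omega) h
      omega)
  obtain ⟨s, -, hs⟩ := Nat.exists_mul_mod_eq_one_of_coprime hcop hrpr.one_lt
  have hback : (T₀ ^ e) ^ s = T₀ := by
    rw [← pow_mul]
    conv_lhs => rw [← Nat.div_add_mod (e * s) r, hs, pow_add, pow_mul, hT₀r, one_pow, one_mul,
      pow_one]
  have hAT : (Matrix.toLin' (mg (g₀ ^ e)) : Module.End F (Fin b → F)) = T₀ ^ e := by
    rw [hT₀, toLin'_mg_pow]
  have hTer : (T₀ ^ e) ^ r = 1 := by
    rw [← pow_mul, mul_comm, pow_mul, hT₀r, one_pow]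
  have hfixe : fixS (T₀ ^ e) = ⊥ := by
    rw [eq_bot_iff, ← hfix₀]
    intro v hv
    rw [mem_fixS] at hv ⊢
    have := pow_apply_of_fixed hv s
    rwa [hback] at this
  refine ⟨g₀ ^ e, ?_, ?_, ?_, ?_⟩
  · rw [← pow_mul, mul_comm, pow_mul, hg₀, one_pow]
  · rw [hAT]
    exact hfixe
  · intro U hU
    rw [hAT] at hU
    exact irred_of_finrank hTer (M := ⊤) (by rw [top_inf_eq, hfixe])
      (by rw [finrank_top, finrank_fin_fun, hb]) hU le_top
  · rw [hAT]
    exact hge

/-- **a block of every type**: in the self-dual case every irreducible factor of the cyclotomic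
polynomial is the annihilator of an irreducible unitary block of order `r`. -/
theorem exists_type_block (hrp : r ≠ p) (hsd : SD F q r) {g : F[X]} (hg : Irreducible g)
    (hgd : g ∣ cyclotomic r F) :
    ∃ A : GU (orderOf ((Fintype.card F : ℕ) : ZMod r)) F q, A ^ r = 1 ∧
      fixS (Matrix.toLin' (mg A) :
        Module.End F (Fin (orderOf ((Fintype.card F : ℕ) : ZMod r)) → F)) = ⊥ ∧
      (∀ U : Submodule F (Fin (orderOf ((Fintype.card F : ℕ) : ZMod r)) → F),
        U ∈ Module.End.invtSubmodule (Matrix.toLin' (mg A) :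
          Module.End F (Fin (orderOf ((Fintype.card F : ℕ) : ZMod r)) → F)) → U = ⊥ ∨ U = ⊤) ∧
      aeval (Matrix.toLin' (mg A) :
        Module.End F (Fin (orderOf ((Fintype.card F : ℕ) : ZMod r)) → F)) g = 0 := by
  obtain ⟨g₀, hg₀, hfix₀⟩ := exists_block_sd (F := F) (q := q) hrp hsd
  exact exists_type_block_aux hrp _ rfl g₀ hg₀ hfix₀ hg hgd

omit [Fintype F] hF [Fact r.Prime] in
/-- the cyclotomic polynomial is prime to `X - 1`. -/
theorem isCoprime_cyclotomic_X_sub_one (hrpr : r.Prime) (hrp : r ≠ p) :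
    IsCoprime (cyclotomic r F) (X - 1 : F[X]) := by
  have hrF : (r : F) ≠ 0 := by
    intro h
    rw [CharP.cast_eq_zero_iff F p] at h
    exact hrp ((Nat.prime_dvd_prime_iff_eq Fact.out hrpr).mp h).symm
  have h1 := Polynomial.X_sub_C_dvd_sub_C_eval (a := (1 : F)) (p := cyclotomic r F)
  have : Fact r.Prime := ⟨hrpr⟩
  rw [eval_one_cyclotomic_prime, map_one] at h1
  obtain ⟨g, hg⟩ := h1
  refine ⟨C ((r : F)⁻¹), -(C ((r : F)⁻¹) * g), ?_⟩
  have h2 : cyclotomic r F = (X - 1) * g + C ((r : ℕ) : F) := by rw [← hg]; ring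
  have h3 : C ((r : F)⁻¹) * C ((r : ℕ) : F) = (1 : F[X]) := by
    rw [← C_mul, inv_mul_cancel₀ hrF, C_1]
  calc C ((r : F)⁻¹) * cyclotomic r F + -(C ((r : F)⁻¹) * g) * (X - 1)
      = C ((r : F)⁻¹) * (cyclotomic r F - (X - 1) * g) := by ring
    _ = C ((r : F)⁻¹) * C ((r : ℕ) : F) := by rw [h2]; ring
    _ = 1 := h3

omit [Fintype F] hF [Fact p.Prime] [CharP F p] [Fact r.Prime] in
/-- different monic irreducible polynomials are coprime. -/
theorem isCoprime_of_irreducible_ne {f g : F[X]} (hf : Irreducible f) (hg : Irreducible g)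
    (hfm : f.Monic) (hgm : g.Monic) (hne : f ≠ g) : IsCoprime f g := by
  rw [hf.coprime_iff_not_dvd]
  intro hdvd
  exact hne (eq_of_monic_of_associated hfm hgm (hf.associated_of_dvd hg hdvd))

/-- **blocks of pairwise different types**: block diagonal unitary elements of order `r` with
`s` blocks of pairwise different types and a fixed space of dimension `a`; no invariant totally
isotropic subspace meets the moved space. -/
theorem exists_types_gu (hrp : r ≠ p) (hsd : SD F q r) {t : ℕ} (Q' : Fin t → F[X])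
    (hinj : Function.Injective Q')
    (hQ' : ∀ j, (Q' j).Monic ∧ Irreducible (Q' j) ∧ Q' j ∣ cyclotomic r F) :
    ∀ (s : ℕ), s ≤ t → ∀ (a n : ℕ), n = orderOf ((Fintype.card F : ℕ) : ZMod r) * s + a →
      ∃ y : GU n F q, y ^ r = 1 ∧
        finrank F ↥(fixS (Matrix.toLin' (mg y) : Module.End F (Fin n → F))) = a ∧
        NoTIMov q r (mg y) ∧
        ∃ P : F[X], aeval (Matrix.toLin' (mg y) : Module.End F (Fin n → F)) P = 0 ∧
          ∀ l : Fin t, s ≤ (l : ℕ) → IsCoprime (Q' l) P := by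
  have hrpr : r.Prime := Fact.out
  have hrF : (r : F) ≠ 0 := natCast_ne_zero_of_ne hrp
  have hbpos : 0 < orderOf ((Fintype.card F : ℕ) : ZMod r) := orderOf_q_pos (F := F) hrp
  intro s
  induction s with
  | zero =>
    intro _ a n hn
    rw [mul_zero, zero_add] at hn
    subst hn
    refine ⟨1, one_pow _, ?_, ?_, X - 1, ?_, ?_⟩
    · have : fixS (Matrix.toLin' (mg (1 : GU n F q)) : Module.End F (Fin n → F)) = ⊤ := by
        rw [eq_top_iff]
        intro v _
        rw [mem_fixS, Matrix.toLin'_apply, mg_one_mulVec]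
      rw [this, finrank_top, finrank_fin_fun]
    · exact noTIMov_one hrF
    · rw [toLin'_mg_one, map_sub, aeval_X, map_one, sub_self]
    · intro l _
      exact IsCoprime.of_isCoprime_of_dvd_left (isCoprime_cyclotomic_X_sub_one hrpr hrp)
        (hQ' l).2.2
  | succ s ih =>
    intro hs a n hn
    obtain ⟨y', hy', hfix', hno', P, hP, hPcop⟩ :=
      ih (by omega) a (orderOf ((Fintype.card F : ℕ) : ZMod r) * s + a) rfl
    obtain ⟨A, hA, hAfix, hAirr, hAQ⟩ := exists_type_block (F := F) (q := q) hrp hsd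
      (hQ' ⟨s, by omega⟩).2.1 (hQ' ⟨s, by omega⟩).2.2
    have hn' : n = orderOf ((Fintype.card F : ℕ) : ZMod r) +
        (orderOf ((Fintype.card F : ℕ) : ZMod r) * s + a) := by rw [hn]; ring
    subst hn'
    have hcop : IsCoprime (Q' ⟨s, by omega⟩) P := hPcop ⟨s, by omega⟩ le_rfl
    refine ⟨bdG A y', ?_, ?_, ?_, Q' ⟨s, by omega⟩ * P, ?_, ?_⟩
    · rw [bdG_pow, hA, hy', bdG_one]
    · rw [mg_bdG, finrank_fixS_bdM _ _ hAfix, hfix']
    · rw [mg_bdG]
      exact noTIMov_bdM hbpos hAirr hAQ hP hcop hno'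
    · rw [mg_bdG]
      exact aeval_bdM_mul hAQ hP
    · intro l hl
      apply IsCoprime.mul_right
      · apply isCoprime_of_irreducible_ne (hQ' l).2.1 (hQ' _).2.1 (hQ' l).1 (hQ' _).1
        intro h
        have := congrArg Fin.val (hinj h)
        simp only at this
        omega
      · exact hPcop l (by omega)

end Cfsg.Agent.Helper8.UTI
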