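import Mathlib
import Cfsg.Agent.Helper8.UTIG
import Cfsg.Agent.Helper7.UBlkH
set_option autoImplicit false
set_option linter.unusedSectionVars false

/-! The group-level criterion for fixed totally isotropic subspaces of the elements of odd prime
order `r` of `PSU_n(q)`, when `r` divides neither `q` nor `q + 1` (helper8). -/

namespace Cfsg.Agent.Helper8.UTI

open Matrix Module Polynomial Cfsg Cfsg.Agent.Helper7.Herm Cfsg.Agent.Helper8.GUOrder
  Cfsg.Agent.Helper8.AutSU Cfsg.Agent.Helper7.SUNd
  Cfsg.Agent.Helper8.HermTwo Cfsg.Agent.Helper7.POrd Cfsg.Agent.Helper7.SpOrd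
  Cfsg.Agent.Helper7.UBlk Cfsg.Agent.Helper7.UCnt

variable {F : Type*} [Field F] [Fintype F] {q N : ℕ} [hF : Fact (Fintype.card F = q ^ 2)]
  {p : ℕ} [Fact p.Prime] [CharP F p] {r : ℕ} [Fact r.Prime]

/-- **the derangement in the self-dual case**: an element of order `r` with `s` pairwise
nonisomorphic nondegenerate irreducible blocks; its invariant totally isotropic subspaces lie in
the fixed space. -/
theorem exists_derangement_sd (hrp : r ≠ p) (hsd : SD F q r) {n s : ℕ}
    (hs : s * orderOf ((Fintype.card F : ℕ) : ZMod r) ≤ r - 1)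
    (hsn : orderOf ((Fintype.card F : ℕ) : ZMod r) * s ≤ n) :
    ∃ y : GU n F q, y ^ r = 1 ∧
      finrank F ↥(fixS (Matrix.toLin' (mg y) : Module.End F (Fin n → F))) =
        n - orderOf ((Fintype.card F : ℕ) : ZMod r) * s ∧
      ∀ W : Submodule F (Fin n → F),
        W ∈ Module.End.invtSubmodule (Matrix.toLin' (mg y) : Module.End F (Fin n → F)) →
        TIso q W → 2 * finrank F ↥W + orderOf ((Fintype.card F : ℕ) : ZMod r) * s ≤ n := by
  have hrpr : r.Prime := Fact.out
  have hbpos : 0 < orderOf ((Fintype.card F : ℕ) : ZMod r) := orderOf_q_pos (F := F) hrp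
  have hbdvd := Cfsg.Agent.Helper7.SpTI.orderOf_q_dvd (F := F) (r := r) hrp
  obtain ⟨t, ht⟩ : ∃ t, t = (r - 1) / orderOf ((Fintype.card F : ℕ) : ZMod r) := ⟨_, rfl⟩
  have htb : t * orderOf ((Fintype.card F : ℕ) : ZMod r) = r - 1 := by
    rw [ht]
    exact Nat.div_mul_cancel hbdvd
  obtain ⟨Q', hQinj, hQ', -⟩ := Cfsg.Agent.Helper8.SemiS.exists_cyclotomic_factors (F := F) p r
    hrpr hrp _ t rfl htb
  have hst : s ≤ t := by
    rw [← htb] at hs
    exact Nat.le_of_mul_le_mul_right hs hbpos
  obtain ⟨y, hyr, hyfix, hno, -⟩ := exists_types_gu (F := F) (q := q) hrp hsd Q' hQinj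
    (fun j => ⟨(hQ' j).1, (hQ' j).2.1, (hQ' j).2.2.2⟩) s hst
    (n - orderOf ((Fintype.card F : ℕ) : ZMod r) * s) n (by omega)
  refine ⟨y, hyr, hyfix, ?_⟩
  intro W hW hWti
  have hTr : (Matrix.toLin' (mg y) : Module.End F (Fin n → F)) ^ r = 1 := by
    rw [toLin'_mg_pow, hyr, toLin'_mg_one]
  have := le_of_ti_of_mov_eq_bot hrp (toLin'_mg_iso y) hTr hW hWti (hno W hW hWti)
  rw [hyfix] at this
  omega

/-- from the unitary group to the special unitary group: an element of order `r` of `GU_n(q)`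
with a proper fixed space is an element of `SU_n(q)` of order `r` modulo scalars. -/
theorem su_of_gu (hq1 : ¬ r ∣ q + 1) {n : ℕ} (y : GU n F q) (hyr : y ^ r = 1)
    (hyfix : finrank F ↥(fixS (Matrix.toLin' (mg y) : Module.End F (Fin n → F))) < n) :
    ∃ x : Matrix.SpecialLinearGroup (Fin n) F, x ∈ Cfsg.SU n F q ∧
      (x : Matrix (Fin n) (Fin n) F) = mg y ∧
      (∃ z : F, ((x ^ r : Matrix.SpecialLinearGroup (Fin n) F) : Matrix (Fin n) (Fin n) F) =
        z • (1 : Matrix (Fin n) (Fin n) F)) ∧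
      (∀ z : F, (x : Matrix (Fin n) (Fin n) F) ≠ z • (1 : Matrix (Fin n) (Fin n) F)) := by
  have hrpr : r.Prime := Fact.out
  have hn0 : 0 < n := by omega
  have hpowm : (mg y) ^ r = 1 := by
    have : mg (y ^ r) = (mg y) ^ r := by
      show (((y : GL (Fin n) F) ^ r : GL (Fin n) F) : Matrix (Fin n) (Fin n) F) = _
      rw [Units.val_pow_eq_pow_val]
    rw [← this, hyr]
    rfl
  have hdet : (mg y).det = 1 := by
    apply eq_one_of_pow_of_norm (r := r) hq1
    · rw [← Matrix.det_pow, hpowm, Matrix.det_one]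
    · have h1 := Cfsg.Agent.Helper8.GUOrder.detGU_range_le (n := n) (K := F) (q := q) hF.out
        ⟨y, rfl⟩
      rw [MonoidHom.mem_ker, powMonoidHom_apply] at h1
      have h2 := congrArg Units.val h1
      rw [Units.val_pow_eq_pow_val, Units.val_one] at h2
      exact h2
  refine ⟨(mkS (mg y) hdet (herm_mg y)).1, (mkS (mg y) hdet (herm_mg y)).2, rfl, ⟨1, ?_⟩, ?_⟩
  · rw [Matrix.SpecialLinearGroup.coe_pow, one_smul]
    exact hpowm
  · intro z hz
    have hz' : mg y = z • (1 : Matrix (Fin n) (Fin n) F) := hz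
    have hz1 : z ^ (q + 1) = 1 := by
      apply norm_of_scalar_iso (q := q) hn0
      intro u v
      have := herm_mg y u v
      rw [hz', Matrix.smul_mulVec, Matrix.smul_mulVec, Matrix.one_mulVec, Matrix.one_mulVec] at this
      exact this
    have hz2 : z ^ r = 1 := by
      have h3 := hpowm
      rw [hz', _root_.smul_pow, one_pow] at h3
      have h4 := congrFun (congrFun h3 ⟨0, hn0⟩) ⟨0, hn0⟩
      rw [Matrix.smul_apply, Matrix.one_apply_eq, smul_eq_mul, mul_one] at h4
      exact h4
    have hz3 := eq_one_of_pow_of_norm (r := r) hq1 hz2 hz1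
    rw [hz3, one_smul] at hz'
    have hfix : fixS (Matrix.toLin' (mg y) : Module.End F (Fin n → F)) = ⊤ := by
      rw [eq_top_iff]
      intro v _
      rw [mem_fixS, Matrix.toLin'_apply, hz', Matrix.one_mulVec]
    rw [hfix, finrank_top, finrank_fin_fun] at hyfix
    omega

/-- **the criterion for totally isotropic subspaces when `r` does not divide `q + 1`.** -/
theorem main_ti_ne_two (hrp : r ≠ p) (hq1 : ¬ r ∣ q + 1) {n m : ℕ}
    (hmn : 2 * m ≤ n) (hlt : n % cU F q r < 2 * m) :
    (∀ x : Matrix.SpecialLinearGroup (Fin n) F, x ∈ Cfsg.SU n F q →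
      (∃ z : F, ((x ^ r : Matrix.SpecialLinearGroup (Fin n) F) : Matrix (Fin n) (Fin n) F) =
        z • (1 : Matrix (Fin n) (Fin n) F)) →
      (∀ z : F, (x : Matrix (Fin n) (Fin n) F) ≠ z • (1 : Matrix (Fin n) (Fin n) F)) →
      ∃ W : Submodule F (Fin n → F), Module.finrank F ↥W = m ∧
        (∀ u ∈ W, ∀ v ∈ W, Cfsg.hermForm n F q u v = 0) ∧
        W.map (Matrix.toLin' (x : Matrix (Fin n) (Fin n) F)) ≤ W) ↔
    (orderOf ((Fintype.card F : ℕ) : ZMod r) ≤ m ∧
      2 * (m % orderOf ((Fintype.card F : ℕ) : ZMod r)) ≤ n % cU F q r ∧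
      (¬ SD F q r ∨
        (r - 1) / orderOf ((Fintype.card F : ℕ) : ZMod r) +
          2 * (m / orderOf ((Fintype.card F : ℕ) : ZMod r)) ≤
          n / orderOf ((Fintype.card F : ℕ) : ZMod r))) := by
  have hrpr : r.Prime := Fact.out
  have hcpos := cU_pos (F := F) (q := q) hrp
  have hq2 := Cfsg.Agent.Helper8.GUOrder.two_le_q hF.out
  have hbpos : 0 < orderOf ((Fintype.card F : ℕ) : ZMod r) := orderOf_q_pos (F := F) hrp
  have hbdvd := Cfsg.Agent.Helper7.SpTI.orderOf_q_dvd (F := F) (r := r) hrp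
  obtain ⟨b, hb⟩ : ∃ b, b = orderOf ((Fintype.card F : ℕ) : ZMod r) := ⟨_, rfl⟩
  rw [← hb] at hbpos hbdvd ⊢
  constructor
  · intro H
    -- the first condition
    have hD1 : 2 * (m % b) ≤ n % cU F q r := by
      by_cases hc : n < cU F q r
      · rw [Nat.mod_eq_of_lt hc]
        have := Nat.mod_le m b
        omega
      · push Not at hc
        obtain ⟨y, hyr, hyfix⟩ := exists_blocks_gu (F := F) (q := q) hrp (n / cU F q r)
          (n % cU F q r) n (Nat.div_add_mod n (cU F q r)).symm
        have hlt' : n % cU F q r < n := lt_of_lt_of_le (Nat.mod_lt n hcpos) hc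
        obtain ⟨x, hxS, hxy, hxr, hxns⟩ := su_of_gu hq1 y hyr (by rw [hyfix]; exact hlt')
        obtain ⟨W, hWd, hWti, hWinv⟩ := H x hxS hxr hxns
        rw [hxy] at hWinv
        have hTr : (Matrix.toLin' (mg y) : Module.End F (Fin n → F)) ^ r = 1 := by
          rw [toLin'_mg_pow, hyr, toLin'_mg_one]
        have := mod_le_of_ti hrp (toLin'_mg_iso y) hTr
          ((map_le_iff_mem_invt _ _).mp hWinv) hWti
        rw [hWd, hyfix, ← hb] at this
        exact this
    have hbm : b ≤ m := by
      by_contra hcon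
      push Not at hcon
      rw [Nat.mod_eq_of_lt hcon] at hD1
      omega
    refine ⟨hbm, hD1, ?_⟩
    by_cases hsd : SD F q r
    · right
      obtain ⟨t, ht⟩ : ∃ t, t = (r - 1) / b := ⟨_, rfl⟩
      rw [← ht]
      have htb : t * b = r - 1 := by
        rw [ht]
        exact Nat.div_mul_cancel hbdvd
      have ht1 : 1 ≤ t := by
        rcases Nat.eq_zero_or_pos t with h | h
        · rw [h, zero_mul] at htb
          have := hrpr.two_le
          omega
        · exact h
      have hnb : 1 ≤ n / b := by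
        rw [Nat.le_div_iff_mul_le hbpos]
        omega
      have hdm := Nat.div_add_mod n b
      have hmodlt := Nat.mod_lt n hbpos
      -- the number of blocks
      have key : ∀ s, 1 ≤ s → s ≤ t → s ≤ n / b → 2 * m + b * s ≤ n := by
        intro s hs1 hst hsn
        have h1 : s * b ≤ r - 1 := by
          rw [← htb]
          exact Nat.mul_le_mul_right _ hst
        have h2 : b * s ≤ n := by
          have := Nat.mul_le_mul_left b hsn
          omega
        obtain ⟨y, hyr, hyfix, hyW⟩ := exists_derangement_sd (F := F) (q := q) hrp hsd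
          (n := n) (s := s) (by rw [← hb]; exact h1) (by rw [← hb]; exact h2)
        rw [← hb] at hyfix hyW
        have h3 : 1 * b ≤ b * s := by
          rw [mul_comm b s]
          exact Nat.mul_le_mul_right _ hs1
        obtain ⟨x, hxS, hxy, hxr, hxns⟩ := su_of_gu hq1 y hyr (by rw [hyfix]; omega)
        obtain ⟨W, hWd, hWti, hWinv⟩ := H x hxS hxr hxns
        rw [hxy] at hWinv
        have := hyW W ((map_le_iff_mem_invt _ _).mp hWinv) hWti
        rw [hWd] at this
        exact this
      by_cases htn : t ≤ n / b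
      · have h1 := key t ht1 le_rfl htn
        rw [Nat.le_div_iff_mul_le hbpos, add_mul]
        have h2 := Nat.div_mul_le_self m b
        have h3 : 2 * (m / b) * b = 2 * (m / b * b) := by ring
        rw [h3, htb]
        rw [mul_comm b t, htb] at h1
        omega
      · exfalso
        push Not at htn
        have h1 := key (n / b) hnb htn.le le_rfl
        omega
    · exact Or.inl hsd
  · rintro ⟨-, h1, h2⟩ x hx ⟨z, hz⟩ hns
    rcases Nat.eq_zero_or_pos n with hn0 | hn0
    · exfalso
      subst hn0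
      exact hns 0 (by ext i; exact i.elim0)
    have hxiso : ∀ u v, hermForm n F q ((x : Matrix (Fin n) (Fin n) F) *ᵥ u)
        ((x : Matrix (Fin n) (Fin n) F) *ᵥ v) = hermForm n F q u v := hx
    have hxr : (x : Matrix (Fin n) (Fin n) F) ^ r = z • 1 := by
      rw [← Matrix.SpecialLinearGroup.coe_pow]
      exact hz
    have hz1 : z ^ (q + 1) = 1 := by
      apply norm_of_scalar_iso (q := q) hn0
      intro u v
      have h1 : ∀ w : Fin n → F, z • w = ((x ^ r : Matrix.SpecialLinearGroup (Fin n) F) :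
          Matrix (Fin n) (Fin n) F) *ᵥ w := by
        intro w
        rw [hz, Matrix.smul_mulVec, Matrix.one_mulVec]
      rw [h1, h1]
      exact (Subgroup.pow_mem _ hx r) u v
    obtain ⟨l, hlr, hl1⟩ := exists_root_norm_one (r := r) hq1 (by omega) hz1
    have hl0 : l ≠ 0 := by
      rintro rfl
      rw [zero_pow (by omega)] at hl1
      exact zero_ne_one hl1
    have hz0 : z ≠ 0 := by
      rintro rfl
      rw [zero_pow (by omega)] at hz1
      exact zero_ne_one hz1
    obtain ⟨W, hWd, hWti, hWinv⟩ := exists_ti_invt_odd (F := F) (q := q) hrp hmn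
      (by rw [← hb]; exact h1) (by rw [← hb]; exact h2)
      (l⁻¹ • (x : Matrix (Fin n) (Fin n) F))
      (by
        intro u v
        rw [Matrix.smul_mulVec, Matrix.smul_mulVec, herm_smul_smul, hxiso, inv_pow, hl1, inv_one,
          one_mul])
      (by rw [_root_.smul_pow, hxr, inv_pow, hlr, smul_smul, inv_mul_cancel₀ hz0, one_smul])
    refine ⟨W, hWd, hWti, ?_⟩
    rw [Submodule.map_le_iff_le_comap] at hWinv ⊢
    intro w hw
    have h3 := hWinv hw
    rw [Submodule.mem_comap, Matrix.toLin'_apply, Matrix.smul_mulVec] at h3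
    rw [Submodule.mem_comap, Matrix.toLin'_apply]
    have h4 : (x : Matrix (Fin n) (Fin n) F) *ᵥ w =
        l • (l⁻¹ • ((x : Matrix (Fin n) (Fin n) F) *ᵥ w)) := by
      rw [smul_smul, mul_inv_cancel₀ hl0, one_smul]
    rw [h4]
    exact W.smul_mem _ h3

end Cfsg.Agent.Helper8.UTI
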