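import Mathlib
import Cfsg.Agent.Helper8.UTIH
set_option autoImplicit false
set_option linter.unusedSectionVars false

/-! Elements of odd prime order built from pairwise nonisomorphic blocks, with their determinant
(helper8). -/

namespace Cfsg.Agent.Helper8.UTI

open Matrix Module Polynomial Cfsg Cfsg.Agent.Helper7.Herm Cfsg.Agent.Helper8.GUOrder
  Cfsg.Agent.Helper8.AutSU Cfsg.Agent.Helper7.SUNd
  Cfsg.Agent.Helper8.HermTwo Cfsg.Agent.Helper7.POrd Cfsg.Agent.Helper7.SpOrd
  Cfsg.Agent.Helper7.UBlk Cfsg.Agent.Helper7.UCnt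

variable {F : Type*} [Field F] [Fintype F] {q N : ℕ} [hF : Fact (Fintype.card F = q ^ 2)]
  {p : ℕ} [Fact p.Prime] [CharP F p] {r : ℕ} [Fact r.Prime]

omit [Fintype F] hF [Fact p.Prime] [CharP F p] [Fact r.Prime] in
theorem aeval_toLin' {b : ℕ} (A : Matrix (Fin b) (Fin b) F) (Q : F[X]) :
    aeval (Matrix.toLin' A : Module.End F (Fin b → F)) Q = Matrix.toLin' (aeval A Q) := by
  have := Polynomial.aeval_algHom_apply (Matrix.toLinAlgEquiv' : Matrix (Fin b) (Fin b) F ≃ₐ[F] _) A Q
  exact this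

omit [Fintype F] hF [Fact p.Prime] [CharP F p] [Fact r.Prime] in
/-- the determinant of a matrix with an irreducible annihilator of full degree. -/
theorem det_of_irreducible_annihilator {b : ℕ} (hb : 0 < b) (A : Matrix (Fin b) (Fin b) F)
    {Q : F[X]} (hQm : Q.Monic) (hQi : Irreducible Q) (hQd : Q.natDegree = b)
    (hQ : aeval (Matrix.toLin' A : Module.End F (Fin b → F)) Q = 0) :
    A.det = (-1) ^ b * Q.coeff 0 := by
  have : Nonempty (Fin b) := ⟨⟨0, hb⟩⟩
  have hQA : aeval A Q = 0 := by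
    apply Matrix.toLin'.injective
    rw [← aeval_toLin', hQ, map_zero]
  have h1 : minpoly F A ∣ Q := minpoly.dvd F A hQA
  have h2 : minpoly F A = Q := by
    rcases (hQi.dvd_iff).mp h1 with h | h
    · exact absurd h (minpoly.not_isUnit F A)
    · exact (eq_of_monic_of_associated hQm (minpoly.monic (Matrix.isIntegral A)) h).symm
  have h3 : Q ∣ A.charpoly := by
    rw [← h2]
    exact Matrix.minpoly_dvd_charpoly A
  have h4 : A.charpoly = Q := by
    apply eq_of_monic_of_dvd_of_natDegree_le hQm (Matrix.charpoly_monic A) h3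
    rw [Matrix.charpoly_natDegree_eq_dim, Fintype.card_fin, hQd]
  rw [Matrix.det_eq_sign_charpoly_coeff, Fintype.card_fin, h4]

/-- **blocks of pairwise different types, with the determinant.** -/
theorem exists_types_gu_det (hrp : r ≠ p) (hsd : SD F q r) {t : ℕ} (Q' : ℕ → F[X])
    (hinj : ∀ l, l < t → ∀ l', l' < t → Q' l = Q' l' → l = l')
    (hQ' : ∀ l, l < t → (Q' l).Monic ∧ Irreducible (Q' l) ∧
      (Q' l).natDegree = orderOf ((Fintype.card F : ℕ) : ZMod r) ∧ Q' l ∣ cyclotomic r F) :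
    ∀ (s : ℕ), s ≤ t → ∀ (a n : ℕ), n = orderOf ((Fintype.card F : ℕ) : ZMod r) * s + a →
      ∃ y : GU n F q, y ^ r = 1 ∧
        finrank F ↥(fixS (Matrix.toLin' (mg y) : Module.End F (Fin n → F))) = a ∧
        NoTIMov q r (mg y) ∧
        (mg y).det = ∏ l ∈ Finset.range s,
          ((-1) ^ orderOf ((Fintype.card F : ℕ) : ZMod r) * (Q' l).coeff 0) ∧
        ∃ P : F[X], aeval (Matrix.toLin' (mg y) : Module.End F (Fin n → F)) P = 0 ∧
          ∀ l, s ≤ l → l < t → IsCoprime (Q' l) P := by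
  have hrpr : r.Prime := Fact.out
  have hrF : (r : F) ≠ 0 := natCast_ne_zero_of_ne hrp
  have hbpos : 0 < orderOf ((Fintype.card F : ℕ) : ZMod r) := orderOf_q_pos (F := F) hrp
  intro s
  induction s with
  | zero =>
    intro _ a n hn
    rw [mul_zero, zero_add] at hn
    subst hn
    refine ⟨1, one_pow _, ?_, ?_, ?_, X - 1, ?_, ?_⟩
    · have : fixS (Matrix.toLin' (mg (1 : GU n F q)) : Module.End F (Fin n → F)) = ⊤ := by
        rw [eq_top_iff]
        intro v _
        rw [mem_fixS, Matrix.toLin'_apply, mg_one_mulVec]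
      rw [this, finrank_top, finrank_fin_fun]
    · exact noTIMov_one hrF
    · rw [Finset.range_zero, Finset.prod_empty]
      show (1 : Matrix (Fin n) (Fin n) F).det = 1
      exact Matrix.det_one
    · rw [toLin'_mg_one, map_sub, aeval_X, map_one, sub_self]
    · intro l _ hl
      exact IsCoprime.of_isCoprime_of_dvd_left (isCoprime_cyclotomic_X_sub_one hrpr hrp)
        (hQ' l hl).2.2.2
  | succ s ih =>
    intro hs a n hn
    obtain ⟨y', hy', hfix', hno', hdet', P, hP, hPcop⟩ :=
      ih (by omega) a (orderOf ((Fintype.card F : ℕ) : ZMod r) * s + a) rfl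
    have hst : s < t := by omega
    obtain ⟨A, hA, hAfix, hAirr, hAQ⟩ := exists_type_block (F := F) (q := q) hrp hsd
      (hQ' s hst).2.1 (hQ' s hst).2.2.2
    have hn' : n = orderOf ((Fintype.card F : ℕ) : ZMod r) +
        (orderOf ((Fintype.card F : ℕ) : ZMod r) * s + a) := by rw [hn]; ring
    subst hn'
    have hcop : IsCoprime (Q' s) P := hPcop s le_rfl hst
    refine ⟨bdG A y', ?_, ?_, ?_, ?_, Q' s * P, ?_, ?_⟩
    · rw [bdG_pow, hA, hy', bdG_one]
    · rw [mg_bdG, finrank_fixS_bdM _ _ hAfix, hfix']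
    · rw [mg_bdG]
      exact noTIMov_bdM hbpos hAirr hAQ hP hcop hno'
    · rw [mg_bdG, det_bdM, hdet', Finset.prod_range_succ, mul_comm,
        det_of_irreducible_annihilator hbpos (mg A) (hQ' s hst).1 (hQ' s hst).2.1
          (hQ' s hst).2.2.1 hAQ]
    · rw [mg_bdG]
      exact aeval_bdM_mul hAQ hP
    · intro l hl hlt
      apply IsCoprime.mul_right
      · apply isCoprime_of_irreducible_ne (hQ' l hlt).2.1 (hQ' s hst).2.1 (hQ' l hlt).1
          (hQ' s hst).1
        intro h
        have := hinj l hlt s hst h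
        omega
      · exact hPcop l (by omega) hlt

end Cfsg.Agent.Helper8.UTI
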