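import Mathlib
import Cfsg.Agent.Helper8.UTII
import Cfsg.Agent.Helper7.UBlkK
set_option autoImplicit false
set_option linter.unusedSectionVars false

/-! The case `r ∣ q + 1`: diagonalisable elements of odd prime order `r` of `SU_n(q)` with
pairwise different nontrivial eigenvalues, symmetric under inversion (helper8). -/

namespace Cfsg.Agent.Helper8.UTI

open Matrix Module Polynomial Cfsg Cfsg.Agent.Helper7.Herm Cfsg.Agent.Helper8.GUOrder
  Cfsg.Agent.Helper8.AutSU Cfsg.Agent.Helper7.SUNd
  Cfsg.Agent.Helper8.HermTwo Cfsg.Agent.Helper7.POrd Cfsg.Agent.Helper7.SpOrd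
  Cfsg.Agent.Helper7.UBlk Cfsg.Agent.Helper7.UCnt

variable {F : Type*} [Field F] [Fintype F] {q N : ℕ} [hF : Fact (Fintype.card F = q ^ 2)]
  {p : ℕ} [Fact p.Prime] [CharP F p] {r : ℕ} [Fact r.Prime]

omit [Field F] [Fact p.Prime] [CharP F p] in
theorem card_eq_one_of_dvd (hq1 : r ∣ q + 1) : ((Fintype.card F : ℕ) : ZMod r) = 1 := by
  have : ((q + 1 : ℕ) : ZMod r) = 0 := (ZMod.natCast_eq_zero_iff _ _).mpr hq1
  push_cast at this
  rw [hF.out]
  push_cast
  linear_combination ((q : ZMod r) - 1) * this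

omit [Field F] [Fact p.Prime] [CharP F p] in
theorem orderOf_card_eq_one (hq1 : r ∣ q + 1) :
    orderOf ((Fintype.card F : ℕ) : ZMod r) = 1 := by
  rw [orderOf_eq_one_iff]
  exact card_eq_one_of_dvd hq1

omit [Field F] [Fact p.Prime] [CharP F p] in
theorem sd_of_dvd (hq1 : r ∣ q + 1) : SD F q r := by
  unfold SD
  rw [orderOf_card_eq_one (F := F) hq1, pow_one]
  exact ⟨odd_one, hq1⟩

omit [Fact p.Prime] [CharP F p] in
/-- a primitive `r`-th root of unity, when `r` divides `q + 1`. -/
theorem exists_primitiveRoot (hq1 : r ∣ q + 1) : ∃ ζ : F, IsPrimitiveRoot ζ r := by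
  classical
  have hrpr : r.Prime := Fact.out
  have hq2 := Cfsg.Agent.Helper8.GUOrder.two_le_q hF.out
  have hdvd : r ∣ Nat.card Fˣ := by
    rw [Nat.card_eq_fintype_card, Fintype.card_units, hF.out,
      Cfsg.Agent.Helper8.GUOrder.qsq_sub_one hF.out]
    exact Dvd.dvd.mul_left hq1 _
  obtain ⟨u, hu⟩ := exists_prime_orderOf_dvd_card' r hdvd
  refine ⟨(u : F), ?_⟩
  rw [IsPrimitiveRoot.coe_units_iff, ← hu]
  exact IsPrimitiveRoot.orderOf u

/-- a scalar of order `r` moves everything: elements without invariant totally isotropic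
subspaces in the moved space are not scalar. -/
theorem not_scalar_of_noTIMov {n : ℕ} (hn : 2 ≤ n) (y : GU n F q) (hyr : y ^ r = 1)
    (hno : NoTIMov q r (mg y))
    (hfix : finrank F ↥(fixS (Matrix.toLin' (mg y) : Module.End F (Fin n → F))) < n) (z : F) :
    mg y ≠ z • (1 : Matrix (Fin n) (Fin n) F) := by
  intro hz
  have hTr : (Matrix.toLin' (mg y) : Module.End F (Fin n → F)) ^ r = 1 := by
    rw [toLin'_mg_pow, hyr, toLin'_mg_one]
  have hTapp : ∀ v, (Matrix.toLin' (mg y) : Module.End F (Fin n → F)) v = z • v := by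
    intro v
    rw [Matrix.toLin'_apply, hz, Matrix.smul_mulVec, Matrix.one_mulVec]
  by_cases hz1 : z = 1
  · have hfixtop : fixS (Matrix.toLin' (mg y) : Module.End F (Fin n → F)) = ⊤ := by
      rw [eq_top_iff]
      intro v _
      rw [mem_fixS, hTapp, hz1, one_smul]
    rw [hfixtop, finrank_top, finrank_fin_fun] at hfix
    omega
  · have hmov : movS r (Matrix.toLin' (mg y) : Module.End F (Fin n → F)) = ⊤ := by
      rw [eq_top_iff]
      intro v _
      rw [mem_movS]
      have h1 := LinearMap.congr_fun (Phi_mul_sub r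
        (Matrix.toLin' (mg y) : Module.End F (Fin n → F))) v
      rw [hTr, sub_self, LinearMap.zero_apply, Module.End.mul_apply, LinearMap.sub_apply,
        Module.End.one_apply, hTapp] at h1
      have h2 : z • v - v = (z - 1) • v := by rw [sub_smul, one_smul]
      rw [h2, map_smul] at h1
      exact (smul_eq_zero.mp h1).resolve_left (sub_ne_zero.mpr hz1)
    obtain ⟨L, -, hLti, hLd⟩ := exists_ti_le (F := F) (q := q) (N := n) (E := ⊤)
      (ndeg_top (q := q)) (a := 1) (by rw [finrank_top, finrank_fin_fun]; omega)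
    have hLinv : L ∈ Module.End.invtSubmodule
        (Matrix.toLin' (mg y) : Module.End F (Fin n → F)) := by
      rw [Module.End.mem_invtSubmodule]
      intro v hv
      rw [Submodule.mem_comap, hTapp]
      exact L.smul_mem _ hv
    have := hno L hLinv hLti
    rw [hmov, inf_top_eq] at this
    rw [this, finrank_bot] at hLd
    omega

end Cfsg.Agent.Helper8.UTI
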