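import Mathlib
import Cfsg.Agent.Helper8.UTIJ
set_option autoImplicit false
set_option linter.unusedSectionVars false

/-! The case `r ∣ q + 1`: the derangements, and the necessary conditions for all odd primes
`r ≠ p` (helper8). -/

namespace Cfsg.Agent.Helper8.UTI

open Matrix Module Polynomial Cfsg Cfsg.Agent.Helper7.Herm Cfsg.Agent.Helper8.GUOrder
  Cfsg.Agent.Helper8.AutSU Cfsg.Agent.Helper7.SUNd
  Cfsg.Agent.Helper8.HermTwo Cfsg.Agent.Helper7.POrd Cfsg.Agent.Helper7.SpOrd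
  Cfsg.Agent.Helper7.UBlk Cfsg.Agent.Helper7.UCnt

variable {F : Type*} [Field F] [Fintype F] {q N : ℕ} [hF : Fact (Fintype.card F = q ^ 2)]
  {p : ℕ} [Fact p.Prime] [CharP F p] {r : ℕ} [Fact r.Prime]

/-- the exponents `1, …, k, r - 1, …, r - k`. -/
def symExp (r k l : ℕ) : ℕ := if l < k then l + 1 else r - (l - k + 1)

theorem symExp_pos {r k l : ℕ} (hk : 2 * k < r) (hl : l < 2 * k) : 0 < symExp r k l := by
  unfold symExp
  split_ifs <;> omega

theorem symExp_lt {r k l : ℕ} (hk : 2 * k < r) (hl : l < 2 * k) : symExp r k l < r := by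
  unfold symExp
  split_ifs <;> omega

theorem symExp_inj {r k l l' : ℕ} (hk : 2 * k < r) (hl : l < 2 * k) (hl' : l' < 2 * k)
    (h : symExp r k l = symExp r k l') : l = l' := by
  unfold symExp at h
  split_ifs at h <;> omega

omit [Fintype F] hF [Fact p.Prime] [CharP F p] [Fact r.Prime] in
theorem prod_symExp {ζ : F} (hζ : ζ ^ r = 1) {k : ℕ} (hk : 2 * k < r) :
    ∏ l ∈ Finset.range (2 * k), ζ ^ symExp r k l = 1 := by
  rw [two_mul, Finset.prod_range_add, ← Finset.prod_mul_distrib]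
  apply Finset.prod_eq_one
  intro l hl
  rw [Finset.mem_range] at hl
  have h1 : symExp r k l = l + 1 := by
    unfold symExp
    rw [if_pos hl]
  have h2 : symExp r k (k + l) = r - (l + 1) := by
    unfold symExp
    rw [if_neg (by omega)]
    congr 2
    omega
  rw [h1, h2, ← pow_add]
  have h3 : l + 1 + (r - (l + 1)) = r := by omega
  rw [h3, hζ]

/-- **symmetric elements**: elements of `GU_n(q)` of order `r`, of determinant one, with `2k`
pairwise different nontrivial eigenvalues, whose invariant totally isotropic subspaces lie in the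
fixed space. -/
theorem exists_sym_gu (hrp : r ≠ p) (hq1 : r ∣ q + 1) {n k : ℕ} (hk : 2 * k < r)
    (hkn : 2 * k ≤ n) :
    ∃ y : GU n F q, y ^ r = 1 ∧
      finrank F ↥(fixS (Matrix.toLin' (mg y) : Module.End F (Fin n → F))) = n - 2 * k ∧
      NoTIMov q r (mg y) ∧ (mg y).det = 1 := by
  have hrpr : r.Prime := Fact.out
  obtain ⟨ζ, hζ⟩ := exists_primitiveRoot (F := F) (q := q) (r := r) hq1
  have hb1 := orderOf_card_eq_one (F := F) (q := q) (r := r) hq1
  obtain ⟨Q', hQ'def⟩ : ∃ Q' : ℕ → F[X], Q' = fun l => X - C (ζ ^ symExp r k l) := ⟨_, rfl⟩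
  have hinj : ∀ l, l < 2 * k → ∀ l', l' < 2 * k → Q' l = Q' l' → l = l' := by
    intro l hl l' hl' h
    rw [hQ'def] at h
    have h1 := congrArg (fun f => f.coeff 0) h
    simp only [coeff_sub, coeff_X_zero, coeff_C_zero, zero_sub, neg_inj] at h1
    exact symExp_inj hk hl hl' (hζ.pow_inj (symExp_lt hk hl) (symExp_lt hk hl') h1)
  have hQ' : ∀ l, l < 2 * k → (Q' l).Monic ∧ Irreducible (Q' l) ∧
      (Q' l).natDegree = orderOf ((Fintype.card F : ℕ) : ZMod r) ∧ Q' l ∣ cyclotomic r F := by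
    intro l hl
    rw [hQ'def, hb1]
    refine ⟨monic_X_sub_C _, irreducible_X_sub_C _, natDegree_X_sub_C _, ?_⟩
    rw [dvd_iff_isRoot]
    apply IsPrimitiveRoot.isRoot_cyclotomic hrpr.pos
    apply hζ.pow_of_coprime
    rw [Nat.coprime_comm]
    exact (Nat.Prime.coprime_iff_not_dvd hrpr).mpr (fun h => by
      have := Nat.le_of_dvd (symExp_pos hk hl) h
      have := symExp_lt hk hl
      omega)
  obtain ⟨y, hyr, hyfix, hno, hdet, -⟩ := exists_types_gu_det (F := F) (q := q) hrp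
    (sd_of_dvd (F := F) hq1) Q' hinj hQ' (2 * k) le_rfl (n - 2 * k) n (by rw [hb1]; omega)
  refine ⟨y, hyr, hyfix, hno, ?_⟩
  rw [hdet, hb1]
  refine Eq.trans (Finset.prod_congr rfl ?_) (prod_symExp hζ.pow_eq_one hk)
  intro l _
  rw [hQ'def]
  simp only [coeff_sub, coeff_X_zero, coeff_C_zero, zero_sub, pow_one, neg_mul, one_mul, neg_neg]

/-- **the derangement for `r ∣ q + 1`.** -/
theorem cond_ti_two (hrp : r ≠ p) (hr2 : r ≠ 2) (hq1 : r ∣ q + 1) {n m : ℕ} (hn : 3 ≤ n)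
    (hm : 1 ≤ m)
    (H : ∀ x : Matrix.SpecialLinearGroup (Fin n) F, x ∈ Cfsg.SU n F q →
      (∃ z : F, ((x ^ r : Matrix.SpecialLinearGroup (Fin n) F) : Matrix (Fin n) (Fin n) F) =
        z • (1 : Matrix (Fin n) (Fin n) F)) →
      (∀ z : F, (x : Matrix (Fin n) (Fin n) F) ≠ z • (1 : Matrix (Fin n) (Fin n) F)) →
      ∃ W : Submodule F (Fin n → F), Module.finrank F ↥W = m ∧
        (∀ u ∈ W, ∀ v ∈ W, Cfsg.hermForm n F q u v = 0) ∧
        W.map (Matrix.toLin' (x : Matrix (Fin n) (Fin n) F)) ≤ W) :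
    r - 1 + 2 * m ≤ n := by
  have hrpr : r.Prime := Fact.out
  by_contra hcon
  push Not at hcon
  obtain ⟨k₀, hk₀⟩ : ∃ k₀, r = 2 * k₀ + 1 := by
    rcases hrpr.eq_two_or_odd' with h | h
    · exact absurd h hr2
    · exact h
  obtain ⟨k, hk1, hk, hkn, hklt⟩ : ∃ k, 1 ≤ k ∧ 2 * k < r ∧ 2 * k ≤ n ∧ n - 2 * k < 2 * m := by
    by_cases h : r - 1 ≤ n
    · exact ⟨k₀, by have := hrpr.two_le; omega, by omega, by omega, by omega⟩
    · exact ⟨n / 2, by omega, by omega, by omega, by omega⟩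
  obtain ⟨y, hyr, hyfix, hno, hdet⟩ := exists_sym_gu (F := F) (q := q) hrp hq1 hk hkn
  have hpowm : (mg y) ^ r = 1 := by
    have : mg (y ^ r) = (mg y) ^ r := by
      show (((y : GL (Fin n) F) ^ r : GL (Fin n) F) : Matrix (Fin n) (Fin n) F) = _
      rw [Units.val_pow_eq_pow_val]
    rw [← this, hyr]
    rfl
  obtain ⟨W, hWd, hWti, hWinv⟩ := H (mkS (mg y) hdet (herm_mg y)).1 (mkS (mg y) hdet (herm_mg y)).2
    ⟨1, by
      rw [Matrix.SpecialLinearGroup.coe_pow, one_smul]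
      exact hpowm⟩
    (fun z => not_scalar_of_noTIMov (by omega) y hyr hno (by rw [hyfix]; omega) z)
  have hTr : (Matrix.toLin' (mg y) : Module.End F (Fin n → F)) ^ r = 1 := by
    rw [toLin'_mg_pow, hyr, toLin'_mg_one]
  have hWinv' : W ∈ Module.End.invtSubmodule
      (Matrix.toLin' (mg y) : Module.End F (Fin n → F)) := (map_le_iff_mem_invt _ _).mp hWinv
  have := le_of_ti_of_mov_eq_bot hrp (toLin'_mg_iso y) hTr hWinv' hWti (hno W hWinv' hWti)
  rw [hWd, hyfix] at this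
  omega

/-- **necessary conditions, all odd primes `r ≠ p`**: if every element of order `r` of
`PSU_n(q)` fixes a totally isotropic `m`-space, and `n mod c < 2m`, then the arithmetic conditions
hold. -/
theorem cond_of_forall_ti (hrp : r ≠ p) (hr2 : r ≠ 2) {n m : ℕ} (hn : 3 ≤ n) (hm : 1 ≤ m)
    (hmn : 2 * m ≤ n) (hlt : n % cU F q r < 2 * m)
    (H : ∀ x : Matrix.SpecialLinearGroup (Fin n) F, x ∈ Cfsg.SU n F q →
      (∃ z : F, ((x ^ r : Matrix.SpecialLinearGroup (Fin n) F) : Matrix (Fin n) (Fin n) F) =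
        z • (1 : Matrix (Fin n) (Fin n) F)) →
      (∀ z : F, (x : Matrix (Fin n) (Fin n) F) ≠ z • (1 : Matrix (Fin n) (Fin n) F)) →
      ∃ W : Submodule F (Fin n → F), Module.finrank F ↥W = m ∧
        (∀ u ∈ W, ∀ v ∈ W, Cfsg.hermForm n F q u v = 0) ∧
        W.map (Matrix.toLin' (x : Matrix (Fin n) (Fin n) F)) ≤ W) :
    orderOf ((Fintype.card F : ℕ) : ZMod r) ≤ m ∧
      2 * (m % orderOf ((Fintype.card F : ℕ) : ZMod r)) ≤ n % cU F q r ∧
      (¬ SD F q r ∨
        (r - 1) / orderOf ((Fintype.card F : ℕ) : ZMod r) +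
          2 * (m / orderOf ((Fintype.card F : ℕ) : ZMod r)) ≤
          n / orderOf ((Fintype.card F : ℕ) : ZMod r)) := by
  by_cases hq1 : r ∣ q + 1
  · have := cond_ti_two hrp hr2 hq1 hn hm H
    rw [orderOf_card_eq_one (F := F) hq1, Nat.mod_one, Nat.div_one, Nat.div_one, Nat.div_one]
    exact ⟨hm, by omega, Or.inr this⟩
  · exact (main_ti_ne_two hrp hq1 hmn hlt).mp H

end Cfsg.Agent.Helper8.UTI
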