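import Mathlib

set_option autoImplicit false
set_option linter.unusedSimpArgs false
set_option linter.unusedSectionVars false

/-! Unipotent characters of `GL_n(q)`: the Cauchy determinant identity
`det [∏_{k ≠ j} (1 - x_i y_k)] = det V(x) * det V(y)` (helper8). -/

namespace Cfsg.Agent.Helper8.UniGL

open Finset Matrix

variable {R : Type*} [CommRing R] {n : ℕ}

/-- the signed elementary symmetric coefficient. -/
def cf (y : Fin n → R) (S : Finset (Fin n)) (l : ℕ) : R :=
  ∑ T ∈ S.powersetCard l, ∏ k ∈ T, (-(y k))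

theorem prod_sub_mul (y : Fin n → R) (S : Finset (Fin n)) (s t : R) :
    ∏ k ∈ S, (s - t * y k) = ∑ l ∈ range (S.card + 1), s ^ (S.card - l) * t ^ l * cf y S l := by
  classical
  have e1 : ∀ k ∈ S, s - t * y k = t * (-(y k)) + s := by
    intro k _
    ring
  have hmaps : ∀ T ∈ S.powerset, T.card ∈ range (S.card + 1) := by
    intro T hT
    rw [Finset.mem_range]
    exact Nat.lt_succ_of_le (Finset.card_le_card (Finset.mem_powerset.mp hT))
  rw [Finset.prod_congr rfl e1, Finset.prod_add,
    ← Finset.sum_fiberwise_of_maps_to hmaps]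
  apply Finset.sum_congr rfl
  intro l _
  unfold cf
  rw [Finset.mul_sum, Finset.powersetCard_eq_filter]
  apply Finset.sum_congr rfl
  intro T hT
  rw [Finset.mem_filter, Finset.mem_powerset] at hT
  rw [Finset.prod_mul_distrib, Finset.prod_const, Finset.prod_const, hT.2,
    Finset.card_sdiff_of_subset hT.1, hT.2]
  ring

/-- the coefficient matrix. -/
def Cm (y : Fin n → R) : Matrix (Fin n) (Fin n) R :=
  Matrix.of fun l j => cf y (univ.erase j) l.val

/-- the Cauchy matrix, cleared of denominators. -/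
def Mc (x y : Fin n → R) : Matrix (Fin n) (Fin n) R :=
  Matrix.of fun i j => ∏ k ∈ univ.erase j, (1 - x i * y k)

/-- the diagonal matrix. -/
def Dc (y : Fin n → R) : Matrix (Fin n) (Fin n) R :=
  Matrix.of fun i j => ∏ k ∈ univ.erase j, (y i - y k)

theorem card_erase_fin (j : Fin n) : (univ.erase j : Finset (Fin n)).card + 1 = n := by
  rw [Finset.card_erase_of_mem (Finset.mem_univ j), Finset.card_univ, Fintype.card_fin]
  have := j.isLt
  omega

theorem Mc_eq (x y : Fin n → R) : Mc x y = projVandermonde x 1 * Cm y := by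
  ext i j
  rw [Matrix.mul_apply]
  unfold Mc Cm
  simp only [Matrix.of_apply]
  rw [prod_sub_mul, card_erase_fin, ← Fin.sum_univ_eq_sum_range
    (fun l => (1 : R) ^ ((univ.erase j : Finset (Fin n)).card - l) * x i ^ l
      * cf y (univ.erase j) l) n]
  apply Finset.sum_congr rfl
  intro l _
  rw [projVandermonde_apply, Pi.one_apply, one_pow, one_pow, mul_one, one_mul]

theorem Dc_eq (y : Fin n → R) : Dc y = projVandermonde 1 y * Cm y := by
  ext i j
  rw [Matrix.mul_apply]
  unfold Dc Cm
  simp only [Matrix.of_apply]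
  have e : ∀ k ∈ univ.erase j, y i - y k = y i - 1 * y k := by
    intro k _
    rw [one_mul]
  rw [Finset.prod_congr rfl e, prod_sub_mul, card_erase_fin, ← Fin.sum_univ_eq_sum_range
    (fun l => (y i) ^ ((univ.erase j : Finset (Fin n)).card - l) * (1 : R) ^ l
      * cf y (univ.erase j) l) n]
  apply Finset.sum_congr rfl
  intro l _
  rw [projVandermonde_apply, Pi.one_apply, one_pow, mul_one, one_mul]
  congr 2
  rw [Fin.val_rev]
  have := card_erase_fin j
  omega

theorem Dc_diag (y : Fin n → R) :
    Dc y = Matrix.diagonal (fun i => ∏ k ∈ univ.erase i, (y i - y k)) := by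
  ext i j
  unfold Dc
  rw [Matrix.of_apply]
  by_cases h : i = j
  · rw [h, Matrix.diagonal_apply_eq]
  · rw [Matrix.diagonal_apply_ne _ h]
    exact Finset.prod_eq_zero (Finset.mem_erase.mpr ⟨h, Finset.mem_univ i⟩) (sub_self _)

theorem prod_erase_split (y : Fin n → R) :
    ∏ i : Fin n, ∏ k ∈ univ.erase i, (y i - y k)
      = (∏ i : Fin n, ∏ j ∈ Ioi i, (y i - y j)) * ∏ i : Fin n, ∏ j ∈ Ioi i, (y j - y i) := by
  have e1 : ∀ i : Fin n, ∏ k ∈ univ.erase i, (y i - y k)
      = (∏ k ∈ Ioi i, (y i - y k)) * ∏ k ∈ Iio i, (y i - y k) := by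
    intro i
    have hu : (univ.erase i : Finset (Fin n)) = Ioi i ∪ Iio i := by
      ext k
      simp only [Finset.mem_erase, Finset.mem_univ, and_true, Finset.mem_union, Finset.mem_Ioi,
        Finset.mem_Iio]
      constructor
      · intro h
        rcases lt_or_gt_of_ne h with h1 | h1
        · exact Or.inr h1
        · exact Or.inl h1
      · rintro (h | h)
        · exact ne_of_gt h
        · exact ne_of_lt h
    have hd : Disjoint (Ioi i) (Iio i) := by
      rw [Finset.disjoint_left]
      intro k h1 h2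
      rw [Finset.mem_Ioi] at h1
      rw [Finset.mem_Iio] at h2
      exact lt_asymm h1 h2
    rw [hu, Finset.prod_union hd]
  rw [Finset.prod_congr rfl (fun i _ => e1 i), Finset.prod_mul_distrib]
  congr 1
  apply Finset.prod_comm'
  intro i k
  simp only [Finset.mem_univ, Finset.mem_Iio, Finset.mem_Ioi, true_and, and_true]

/-- **Cauchy's determinant.** -/
theorem det_Mc [IsDomain R] (x y : Fin n → R) (hy : Function.Injective y) :
    (Mc x y).det = (vandermonde x).det * (vandermonde y).det := by
  have h1 : (Dc y).det = (projVandermonde 1 y).det * (Cm y).det := by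
    rw [Dc_eq, Matrix.det_mul]
  rw [Dc_diag, Matrix.det_diagonal, prod_erase_split, det_projVandermonde] at h1
  have e2 : ∏ i : Fin n, ∏ j ∈ Ioi i, ((1 : Fin n → R) j * y i - (1 : Fin n → R) i * y j)
      = ∏ i : Fin n, ∏ j ∈ Ioi i, (y i - y j) := by
    apply Finset.prod_congr rfl
    intro i _
    apply Finset.prod_congr rfl
    intro j _
    rw [Pi.one_apply, Pi.one_apply, one_mul, one_mul]
  rw [e2] at h1
  have hne : ∏ i : Fin n, ∏ j ∈ Ioi i, (y i - y j) ≠ 0 := by
    rw [Finset.prod_ne_zero_iff]
    intro i _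
    rw [Finset.prod_ne_zero_iff]
    intro j hj
    rw [Finset.mem_Ioi] at hj
    intro h
    have := hy (sub_eq_zero.mp h)
    exact (ne_of_lt hj) this
  have h2 : (Cm y).det = ∏ i : Fin n, ∏ j ∈ Ioi i, (y j - y i) := (mul_left_cancel₀ hne h1).symm
  rw [Mc_eq, Matrix.det_mul, h2, ← det_vandermonde, ← vandermonde_eq_projVandermonde]

end Cfsg.Agent.Helper8.UniGL
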