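import Mathlib

set_option autoImplicit false
set_option linter.unusedSimpArgs false
set_option linter.unusedSectionVars false

/-! Unipotent characters of `GL_n(q)`: contingency tables with prescribed zeros (helper8). -/

namespace Cfsg.Agent.Helper8.UniGL

open Finset

variable {n : ℕ}

/-- tables with prescribed zero set and margins. -/
def Tab (E : Finset (Fin n × Fin n)) (α β : Fin n → ℕ) : Set (Fin n × Fin n → ℕ) :=
  {A | (∀ p ∈ E, A p = 0) ∧ (∀ i, ∑ j, A (i, j) = α i) ∧ (∀ j, ∑ i, A (i, j) = β j)}

theorem Tab_le_row {E : Finset (Fin n × Fin n)} {α β : Fin n → ℕ} {A : Fin n × Fin n → ℕ}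
    (hA : A ∈ Tab E α β) (p : Fin n × Fin n) : A p ≤ α p.1 := by
  rw [← hA.2.1 p.1]
  exact Finset.single_le_sum (f := fun j => A (p.1, j)) (fun _ _ => Nat.zero_le _)
    (Finset.mem_univ p.2)

theorem Tab_le_col {E : Finset (Fin n × Fin n)} {α β : Fin n → ℕ} {A : Fin n × Fin n → ℕ}
    (hA : A ∈ Tab E α β) (p : Fin n × Fin n) : A p ≤ β p.2 := by
  rw [← hA.2.2 p.2]
  exact Finset.single_le_sum (f := fun i => A (i, p.2)) (fun _ _ => Nat.zero_le _)
    (Finset.mem_univ p.1)

theorem Tab_finite (E : Finset (Fin n × Fin n)) (α β : Fin n → ℕ) : (Tab E α β).Finite := by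
  apply Set.Finite.subset (Set.Finite.pi (t := fun p : Fin n × Fin n => Set.Iic (α p.1))
    (fun p => Set.finite_Iic _))
  intro A hA p _
  exact Tab_le_row hA p

theorem sum_single_row (i i' k : Fin n) :
    ∑ j, (Pi.single (i, k) 1 : Fin n × Fin n → ℕ) (i', j) = (Pi.single i 1 : Fin n → ℕ) i' := by
  by_cases h : i' = i
  · subst h
    rw [Pi.single_eq_same, Finset.sum_eq_single k]
    · rw [Pi.single_eq_same]
    · intro j _ hj
      rw [Pi.single_eq_of_ne]
      intro h
      exact hj (Prod.ext_iff.mp h).2
    · intro h
      exact absurd (Finset.mem_univ k) h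
  · rw [Pi.single_eq_of_ne h]
    apply Finset.sum_eq_zero
    intro j _
    rw [Pi.single_eq_of_ne]
    intro h'
    exact h (Prod.ext_iff.mp h').1

theorem sum_single_col (i k k' : Fin n) :
    ∑ i', (Pi.single (i, k) 1 : Fin n × Fin n → ℕ) (i', k') = (Pi.single k 1 : Fin n → ℕ) k' := by
  by_cases h : k' = k
  · subst h
    rw [Pi.single_eq_same, Finset.sum_eq_single i]
    · rw [Pi.single_eq_same]
    · intro j _ hj
      rw [Pi.single_eq_of_ne]
      intro h
      exact hj (Prod.ext_iff.mp h).1
    · intro h
      exact absurd (Finset.mem_univ i) h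
  · rw [Pi.single_eq_of_ne h]
    apply Finset.sum_eq_zero
    intro j _
    rw [Pi.single_eq_of_ne]
    intro h'
    exact h (Prod.ext_iff.mp h').2

/-- the recursion: forbidding one more cell. -/
theorem ncard_Tab_step {E : Finset (Fin n × Fin n)} {i k : Fin n} (hp : (i, k) ∉ E)
    (α β : Fin n → ℕ) :
    (Tab E (α + Pi.single i 1) (β + Pi.single k 1)).ncard
      = (Tab (insert (i, k) E) (α + Pi.single i 1) (β + Pi.single k 1)).ncard
        + (Tab E α β).ncard := by
  classical
  set f : (Fin n × Fin n → ℕ) → (Fin n × Fin n → ℕ) := fun A => A + Pi.single (i, k) 1 with hf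
  have hinj : Function.Injective f := fun A B h => add_right_cancel h
  have hunion : Tab E (α + Pi.single i 1) (β + Pi.single k 1)
      = Tab (insert (i, k) E) (α + Pi.single i 1) (β + Pi.single k 1) ∪ f '' Tab E α β := by
    ext A
    constructor
    · intro hA
      by_cases h0 : A (i, k) = 0
      · left
        refine ⟨?_, hA.2.1, hA.2.2⟩
        intro p hp'
        rcases Finset.mem_insert.mp hp' with h | h
        · rw [h, h0]
        · exact hA.1 p h
      · right
        refine ⟨fun p => if p = (i, k) then A p - 1 else A p, ⟨?_, ?_, ?_⟩, ?_⟩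
        · intro p hp'
          have hne : p ≠ (i, k) := fun h => hp (h ▸ hp')
          dsimp only
          rw [if_neg hne]
          exact hA.1 p hp'
        · intro i'
          have h1 := hA.2.1 i'
          have h2 : ∑ j, A (i', j) = ∑ j, ((if (i', j) = (i, k) then A (i', j) - 1 else A (i', j))
              + (Pi.single (i, k) 1 : Fin n × Fin n → ℕ) (i', j)) := by
            apply Finset.sum_congr rfl
            intro j _
            by_cases h : (i', j) = (i, k)
            · rw [if_pos h, h, Pi.single_eq_same]
              omega
            · rw [if_neg h, Pi.single_eq_of_ne h, add_zero]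
          rw [h2, Finset.sum_add_distrib, sum_single_row, Pi.add_apply] at h1
          exact Nat.add_right_cancel h1
        · intro k'
          have h1 := hA.2.2 k'
          have h2 : ∑ i', A (i', k') = ∑ i', ((if (i', k') = (i, k) then A (i', k') - 1
              else A (i', k')) + (Pi.single (i, k) 1 : Fin n × Fin n → ℕ) (i', k')) := by
            apply Finset.sum_congr rfl
            intro j _
            by_cases h : (j, k') = (i, k)
            · rw [if_pos h, h, Pi.single_eq_same]
              omega
            · rw [if_neg h, Pi.single_eq_of_ne h, add_zero]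
          rw [h2, Finset.sum_add_distrib, sum_single_col, Pi.add_apply] at h1
          exact Nat.add_right_cancel h1
        · funext p
          rw [hf]
          simp only [Pi.add_apply]
          by_cases h : p = (i, k)
          · rw [if_pos h, h, Pi.single_eq_same]
            omega
          · rw [if_neg h, Pi.single_eq_of_ne h, add_zero]
    · rintro (hA | ⟨A', hA', rfl⟩)
      · exact ⟨fun p hp' => hA.1 p (Finset.mem_insert_of_mem hp'), hA.2.1, hA.2.2⟩
      · refine ⟨?_, ?_, ?_⟩
        · intro p hp'
          have hne : p ≠ (i, k) := fun h => hp (h ▸ hp')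
          rw [hf]
          simp only [Pi.add_apply]
          rw [hA'.1 p hp', Pi.single_eq_of_ne hne]
          rfl
        · intro i'
          rw [hf]
          simp only [Pi.add_apply]
          rw [Finset.sum_add_distrib, sum_single_row, hA'.2.1]
        · intro k'
          rw [hf]
          simp only [Pi.add_apply]
          rw [Finset.sum_add_distrib, sum_single_col, hA'.2.2]
  have hdisj : Disjoint (Tab (insert (i, k) E) (α + Pi.single i 1) (β + Pi.single k 1))
      (f '' Tab E α β) := by
    rw [Set.disjoint_left]
    rintro A hA ⟨A', _, rfl⟩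
    have := hA.1 (i, k) (Finset.mem_insert_self _ _)
    rw [hf] at this
    simp only [Pi.add_apply, Pi.single_eq_same] at this
    omega
  rw [hunion, Set.ncard_union_eq hdisj (Tab_finite _ _ _) ((Tab_finite _ _ _).image f),
    Set.ncard_image_of_injective _ hinj]

/-- forbidding a cell in an empty row or column changes nothing. -/
theorem Tab_insert_of_zero {E : Finset (Fin n × Fin n)} {i k : Fin n} {α β : Fin n → ℕ}
    (h : α i = 0 ∨ β k = 0) : Tab (insert (i, k) E) α β = Tab E α β := by
  ext A
  constructor
  · intro hA
    exact ⟨fun p hp' => hA.1 p (Finset.mem_insert_of_mem hp'), hA.2.1, hA.2.2⟩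
  · intro hA
    refine ⟨?_, hA.2.1, hA.2.2⟩
    intro p hp'
    rcases Finset.mem_insert.mp hp' with h' | h'
    · rw [h']
      rcases h with h | h
      · have := Tab_le_row hA (i, k)
        simp only at this
        omega
      · have := Tab_le_col hA (i, k)
        simp only at this
        omega
    · exact hA.1 p h'

/-- the cells off the graph of a permutation. -/
def Eperm (π : Equiv.Perm (Fin n)) : Finset (Fin n × Fin n) :=
  Finset.univ.filter (fun p => p.2 ≠ π p.1)

/-- tables supported on the graph of a permutation. -/
theorem ncard_Tab_Eperm (π : Equiv.Perm (Fin n)) (α β : Fin n → ℕ) :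
    (Tab (Eperm π) α β).ncard = if (∀ i, β (π i) = α i) then 1 else 0 := by
  classical
  have hsupp : ∀ A ∈ Tab (Eperm π) α β, ∀ p : Fin n × Fin n, p.2 ≠ π p.1 → A p = 0 := by
    intro A hA p hp
    exact hA.1 p (by rw [Eperm, Finset.mem_filter]; exact ⟨Finset.mem_univ _, hp⟩)
  have hrow : ∀ A ∈ Tab (Eperm π) α β, ∀ i, A (i, π i) = α i := by
    intro A hA i
    rw [← hA.2.1 i]
    symm
    apply Finset.sum_eq_single
    · intro j _ hj
      exact hsupp A hA (i, j) hj
    · intro h
      exact absurd (Finset.mem_univ _) h
  have hcol : ∀ A ∈ Tab (Eperm π) α β, ∀ i, A (i, π i) = β (π i) := by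
    intro A hA i
    rw [← hA.2.2 (π i)]
    symm
    apply Finset.sum_eq_single
    · intro i' _ hi'
      apply hsupp A hA (i', π i)
      intro h
      exact hi' (π.injective h).symm
    · intro h
      exact absurd (Finset.mem_univ _) h
  by_cases hc : ∀ i, β (π i) = α i
  · rw [if_pos hc, Set.ncard_eq_one]
    refine ⟨fun p => if p.2 = π p.1 then α p.1 else 0, ?_⟩
    ext A
    rw [Set.mem_singleton_iff]
    constructor
    · intro hA
      funext p
      by_cases hp : p.2 = π p.1
      · rw [if_pos hp]
        have := hrow A hA p.1
        rw [← hp] at this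
        exact this
      · rw [if_neg hp]
        exact hsupp A hA p hp
    · rintro rfl
      refine ⟨?_, ?_, ?_⟩
      · intro p hp
        rw [Eperm, Finset.mem_filter] at hp
        dsimp only
        rw [if_neg hp.2]
      · intro i
        rw [Finset.sum_eq_single (π i)]
        · dsimp only
          rw [if_pos rfl]
        · intro j _ hj
          dsimp only
          rw [if_neg hj]
        · intro h
          exact absurd (Finset.mem_univ _) h
      · intro j
        rw [Finset.sum_eq_single (π⁻¹ j)]
        · have e1 : π (π⁻¹ j) = j := by simp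
          dsimp only
          rw [if_pos e1.symm, ← hc (π⁻¹ j), e1]
        · intro i' _ hi'
          dsimp only
          rw [if_neg]
          intro h
          apply hi'
          rw [h]
          simp
        · intro h
          exact absurd (Finset.mem_univ _) h
  · rw [if_neg hc]
    rw [Set.ncard_eq_zero (Tab_finite _ _ _)]
    ext A
    simp only [Set.mem_empty_iff_false, iff_false]
    intro hA
    apply hc
    intro i
    rw [← hrow A hA i, hcol A hA i]

end Cfsg.Agent.Helper8.UniGL
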