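import Mathlib
import Cfsg.Agent.Helper8.UniGLA
import Cfsg.Agent.Helper8.UniGLB

set_option autoImplicit false
set_option linter.unusedSimpArgs false
set_option linter.unusedSectionVars false

/-! Unipotent characters of `GL_n(q)`: the generating function of contingency tables and the
orthogonality identity (helper8). -/

namespace Cfsg.Agent.Helper8.UniGL

open Finset Matrix

variable {n : ℕ}

/-- the index set of the variables `x_i`, `y_j`. -/
abbrev Idx (n : ℕ) := Fin n ⊕ Fin n

/-- exponent vector from a pair of functions. -/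
noncomputable def mk (α β : Fin n → ℕ) : Idx n →₀ ℕ :=
  Finsupp.equivFunOnFinite.symm (Sum.elim α β)

@[simp] theorem mk_inl (α β : Fin n → ℕ) (i : Fin n) : mk α β (Sum.inl i) = α i := rfl

@[simp] theorem mk_inr (α β : Fin n → ℕ) (j : Fin n) : mk α β (Sum.inr j) = β j := rfl

theorem mk_eta (m : Idx n →₀ ℕ) : mk (fun i => m (Sum.inl i)) (fun j => m (Sum.inr j)) = m := by
  ext s
  cases s <;> rfl

theorem mk_add (α β α' β' : Fin n → ℕ) : mk α β + mk α' β' = mk (α + α') (β + β') := by
  ext s
  cases s <;> rfl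

theorem mk_sub (α β α' β' : Fin n → ℕ) : mk α β - mk α' β' = mk (α - α') (β - β') := by
  ext s
  cases s <;> rfl

theorem mk_le_iff (α β α' β' : Fin n → ℕ) : mk α β ≤ mk α' β' ↔ α ≤ α' ∧ β ≤ β' := by
  constructor
  · intro h
    exact ⟨fun i => h (Sum.inl i), fun j => h (Sum.inr j)⟩
  · rintro ⟨h1, h2⟩ s
    cases s with
    | inl i => exact h1 i
    | inr j => exact h2 j

theorem mk_injective {α β α' β' : Fin n → ℕ} (h : mk α β = mk α' β') : α = α' ∧ β = β' := by
  constructor
  · funext i
    have := DFunLike.congr_fun h (Sum.inl i)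
    simpa using this
  · funext j
    have := DFunLike.congr_fun h (Sum.inr j)
    simpa using this

/-- the generating function of the tables avoiding `E`. -/
noncomputable def Phi (E : Finset (Fin n × Fin n)) : MvPowerSeries (Idx n) ℤ :=
  fun m => ((Tab E (fun i => m (Sum.inl i)) (fun j => m (Sum.inr j))).ncard : ℤ)

theorem coeff_Phi (E : Finset (Fin n × Fin n)) (α β : Fin n → ℕ) :
    MvPowerSeries.coeff (mk α β) (Phi E) = ((Tab E α β).ncard : ℤ) := rfl

/-- the variables. -/
noncomputable def xv (i : Fin n) : MvPowerSeries (Idx n) ℤ := MvPowerSeries.X (Sum.inl i)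

noncomputable def yv (j : Fin n) : MvPowerSeries (Idx n) ℤ := MvPowerSeries.X (Sum.inr j)

theorem single_inl (i : Fin n) (c : ℕ) :
    (Finsupp.single (Sum.inl i) c : Idx n →₀ ℕ) = mk (Pi.single i c) 0 := by
  classical
  ext s
  cases s with
  | inl i' =>
    rw [mk_inl, Finsupp.single_apply, Pi.single_apply]
    by_cases h : i = i'
    · rw [if_pos (by rw [h]), if_pos h.symm]
    · rw [if_neg (fun h' => h (Sum.inl.inj h')), if_neg (fun h' => h h'.symm)]
  | inr j =>
    rw [mk_inr, Finsupp.single_apply, if_neg (by simp)]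
    rfl

theorem single_inr (j : Fin n) (c : ℕ) :
    (Finsupp.single (Sum.inr j) c : Idx n →₀ ℕ) = mk 0 (Pi.single j c) := by
  classical
  ext s
  cases s with
  | inl i =>
    rw [mk_inl, Finsupp.single_apply, if_neg (by simp)]
    rfl
  | inr j' =>
    rw [mk_inr, Finsupp.single_apply, Pi.single_apply]
    by_cases h : j = j'
    · rw [if_pos (by rw [h]), if_pos h.symm]
    · rw [if_neg (fun h' => h (Sum.inr.inj h')), if_neg (fun h' => h h'.symm)]

theorem xy_eq (i k : Fin n) :
    xv i * yv k = MvPowerSeries.monomial (mk (Pi.single i 1) (Pi.single k 1)) (1 : ℤ) := by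
  unfold xv yv
  rw [MvPowerSeries.X_def, MvPowerSeries.X_def, MvPowerSeries.monomial_mul_monomial, mul_one,
    single_inl, single_inr, mk_add, add_zero, zero_add]

theorem Phi_step {E : Finset (Fin n × Fin n)} {i k : Fin n} (hp : (i, k) ∉ E) :
    (1 - xv i * yv k) * Phi E = Phi (insert (i, k) E) := by
  classical
  ext m
  rw [sub_mul, one_mul, map_sub, xy_eq, MvPowerSeries.coeff_monomial_mul]
  obtain ⟨α, β, rfl⟩ : ∃ α β : Fin n → ℕ, m = mk α β := ⟨_, _, (mk_eta m).symm⟩
  rw [coeff_Phi, coeff_Phi]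
  by_cases h : mk (Pi.single i 1) (Pi.single k 1) ≤ mk α β
  · rw [if_pos h, one_mul, mk_sub, coeff_Phi]
    rw [mk_le_iff] at h
    have eα : α = (α - Pi.single i 1) + Pi.single i 1 := (tsub_add_cancel_of_le h.1).symm
    have eβ : β = (β - Pi.single k 1) + Pi.single k 1 := (tsub_add_cancel_of_le h.2).symm
    have key := ncard_Tab_step hp (α - Pi.single i 1) (β - Pi.single k 1)
    rw [← eα, ← eβ] at key
    rw [key]
    push_cast
    ring
  · rw [if_neg h, sub_zero, Tab_insert_of_zero]
    by_contra hc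
    push Not at hc
    apply h
    rw [mk_le_iff]
    constructor
    · intro i'
      rw [Pi.single_apply]
      split_ifs with h'
      · rw [h']
        exact Nat.one_le_iff_ne_zero.mpr hc.1
      · exact Nat.zero_le _
    · intro k'
      rw [Pi.single_apply]
      split_ifs with h'
      · rw [h']
        exact Nat.one_le_iff_ne_zero.mpr hc.2
      · exact Nat.zero_le _

theorem prod_mul_Phi (E : Finset (Fin n × Fin n)) :
    (∏ p ∈ E, (1 - xv p.1 * yv p.2)) * Phi (∅ : Finset (Fin n × Fin n)) = Phi E := by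
  classical
  induction E using Finset.induction_on with
  | empty => rw [Finset.prod_empty, one_mul]
  | insert p E hp ih =>
    rw [Finset.prod_insert hp, mul_assoc, ih]
    exact Phi_step hp

theorem prod_xv_pow (κ : Fin n → ℕ) :
    ∏ i, xv i ^ κ i = MvPowerSeries.monomial (mk κ 0) (1 : ℤ) := by
  classical
  unfold xv
  have e : ∀ i ∈ (Finset.univ : Finset (Fin n)), (MvPowerSeries.X (Sum.inl i) :
      MvPowerSeries (Idx n) ℤ) ^ κ i = MvPowerSeries.monomial (mk (Pi.single i (κ i)) 0) 1 := by
    intro i _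
    rw [MvPowerSeries.X_pow_eq, single_inl]
  have key : ∑ i, mk (Pi.single i (κ i)) (0 : Fin n → ℕ) = mk κ 0 := by
    ext s
    cases s with
    | inl i =>
      rw [Finsupp.finsetSum_apply, mk_inl]
      simp only [mk_inl]
      rw [Finset.sum_eq_single i]
      · rw [Pi.single_eq_same]
      · intro j _ hj
        rw [Pi.single_eq_of_ne hj.symm]
      · intro h
        exact absurd (Finset.mem_univ _) h
    | inr j =>
      rw [Finsupp.finsetSum_apply, mk_inr]
      simp only [mk_inr]
      exact Finset.sum_eq_zero (fun _ _ => rfl)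
  rw [Finset.prod_congr rfl e, MvPowerSeries.prod_monomial, Finset.prod_const_one, key]

theorem prod_yv_pow (κ : Fin n → ℕ) :
    ∏ j, yv j ^ κ j = MvPowerSeries.monomial (mk 0 κ) (1 : ℤ) := by
  classical
  unfold yv
  have e : ∀ j ∈ (Finset.univ : Finset (Fin n)), (MvPowerSeries.X (Sum.inr j) :
      MvPowerSeries (Idx n) ℤ) ^ κ j = MvPowerSeries.monomial (mk 0 (Pi.single j (κ j))) 1 := by
    intro j _
    rw [MvPowerSeries.X_pow_eq, single_inr]
  have key : ∑ j, mk (0 : Fin n → ℕ) (Pi.single j (κ j)) = mk 0 κ := by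
    ext s
    cases s with
    | inl i =>
      rw [Finsupp.finsetSum_apply, mk_inl]
      simp only [mk_inl]
      exact Finset.sum_eq_zero (fun _ _ => rfl)
    | inr j =>
      rw [Finsupp.finsetSum_apply, mk_inr]
      simp only [mk_inr]
      rw [Finset.sum_eq_single j]
      · rw [Pi.single_eq_same]
      · intro j' _ hj
        rw [Pi.single_eq_of_ne hj.symm]
      · intro h
        exact absurd (Finset.mem_univ _) h
  rw [Finset.prod_congr rfl e, MvPowerSeries.prod_monomial, Finset.prod_const_one, key]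

theorem det_vandermonde_xv :
    (vandermonde (xv : Fin n → MvPowerSeries (Idx n) ℤ)).det
      = ∑ σ : Equiv.Perm (Fin n), ((Equiv.Perm.sign σ : ℤ) : MvPowerSeries (Idx n) ℤ)
          * MvPowerSeries.monomial (mk (fun i => ((σ i : Fin n) : ℕ)) 0) (1 : ℤ) := by
  rw [← Matrix.det_transpose, Matrix.det_apply']
  apply Finset.sum_congr rfl
  intro σ _
  congr 1
  rw [← prod_xv_pow]
  rfl

theorem det_vandermonde_yv :
    (vandermonde (yv : Fin n → MvPowerSeries (Idx n) ℤ)).det
      = ∑ σ : Equiv.Perm (Fin n), ((Equiv.Perm.sign σ : ℤ) : MvPowerSeries (Idx n) ℤ)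
          * MvPowerSeries.monomial (mk 0 (fun i => ((σ i : Fin n) : ℕ))) (1 : ℤ) := by
  rw [← Matrix.det_transpose, Matrix.det_apply']
  apply Finset.sum_congr rfl
  intro σ _
  congr 1
  rw [← prod_yv_pow]
  rfl

theorem prod_Mc_perm (π : Equiv.Perm (Fin n)) :
    ∏ i, Mc (xv : Fin n → MvPowerSeries (Idx n) ℤ) yv i (π i)
      = ∏ p ∈ Eperm π, (1 - xv p.1 * yv p.2) := by
  classical
  unfold Eperm Mc
  simp only [Matrix.of_apply]
  rw [Finset.prod_filter, Fintype.prod_prod_type]
  apply Finset.prod_congr rfl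
  intro i _
  rw [← Finset.prod_filter]
  dsimp only
  rw [Finset.filter_ne']

theorem det_Mc_mul_Phi :
    (Mc (xv : Fin n → MvPowerSeries (Idx n) ℤ) yv).det * Phi (∅ : Finset (Fin n × Fin n))
      = ∑ π : Equiv.Perm (Fin n), ((Equiv.Perm.sign π : ℤ) : MvPowerSeries (Idx n) ℤ)
          * Phi (Eperm π) := by
  rw [← Matrix.det_transpose, Matrix.det_apply', Finset.sum_mul]
  apply Finset.sum_congr rfl
  intro π _
  rw [mul_assoc]
  congr 1
  have : ∏ i, (Mc (xv : Fin n → MvPowerSeries (Idx n) ℤ) yv)ᵀ (π i) i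
      = ∏ i, Mc (xv : Fin n → MvPowerSeries (Idx n) ℤ) yv i (π i) := rfl
  rw [this, prod_Mc_perm, prod_mul_Phi]

theorem yv_injective : Function.Injective (yv : Fin n → MvPowerSeries (Idx n) ℤ) := by
  intro j j' h
  unfold yv at h
  exact Sum.inr.inj (MvPowerSeries.X_inj.mp h)

theorem cauchy_mul_Phi :
    (vandermonde (xv : Fin n → MvPowerSeries (Idx n) ℤ)).det * (vandermonde yv).det
        * Phi (∅ : Finset (Fin n × Fin n))
      = ∑ π : Equiv.Perm (Fin n), ((Equiv.Perm.sign π : ℤ) : MvPowerSeries (Idx n) ℤ)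
          * Phi (Eperm π) := by
  have : IsDomain (MvPowerSeries (Idx n) ℤ) := NoZeroDivisors.to_isDomain _
  rw [← det_Mc xv yv yv_injective, det_Mc_mul_Phi]

end Cfsg.Agent.Helper8.UniGL
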