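import Mathlib
import Cfsg.Agent.Helper8.UniGLC

set_option autoImplicit false
set_option linter.unusedSimpArgs false
set_option linter.unusedSectionVars false

/-! Unipotent characters of `GL_n(q)`: the orthogonality identity for contingency tables
(helper8). -/

namespace Cfsg.Agent.Helper8.UniGL

open Finset Matrix

variable {n : ℕ}

theorem perm_eq_one_of_strictMono {lam lam' : Fin n → ℕ} (h : StrictMono lam)
    (h' : StrictMono lam') {π : Equiv.Perm (Fin n)} (hc : ∀ i, lam' (π i) = lam i) : π = 1 := by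
  have hπ : StrictMono (π : Fin n → Fin n) := by
    intro i j hij
    have := h hij
    rw [← hc i, ← hc j] at this
    exact h'.lt_iff_lt.mp this
  have hr : Set.range (π : Fin n → Fin n) = Set.range (id : Fin n → Fin n) := by
    rw [π.surjective.range_eq, Set.range_id]
  have := (StrictMono.range_inj hπ strictMono_id).mp hr
  ext i
  rw [this]
  rfl

theorem coeff_int_mul (z : ℤ) (ψ : MvPowerSeries (Idx n) ℤ) (m : Idx n →₀ ℕ) :
    MvPowerSeries.coeff m ((z : MvPowerSeries (Idx n) ℤ) * ψ) = z * MvPowerSeries.coeff m ψ := by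
  rw [← zsmul_eq_mul, map_zsmul, smul_eq_mul]

/-- **The orthogonality identity.** -/
theorem main_identity {lam lam' : Fin n → ℕ} (h : StrictMono lam) (h' : StrictMono lam') :
    ∑ σ : Equiv.Perm (Fin n), ∑ τ : Equiv.Perm (Fin n),
      (if (∀ i, ((σ i : Fin n) : ℕ) ≤ lam i) ∧ (∀ j, ((τ j : Fin n) : ℕ) ≤ lam' j) then
        (Equiv.Perm.sign σ : ℤ) * (Equiv.Perm.sign τ : ℤ)
          * ((Tab (∅ : Finset (Fin n × Fin n)) (fun i => lam i - ((σ i : Fin n) : ℕ))
              (fun j => lam' j - ((τ j : Fin n) : ℕ))).ncard : ℤ)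
      else 0) = if lam = lam' then 1 else 0 := by
  classical
  have key := congrArg (MvPowerSeries.coeff (mk lam lam')) (cauchy_mul_Phi (n := n))
  rw [det_vandermonde_xv, det_vandermonde_yv, Finset.sum_mul_sum, Finset.sum_mul, map_sum,
    map_sum] at key
  have eL : ∀ σ : Equiv.Perm (Fin n),
      MvPowerSeries.coeff (mk lam lam')
        ((∑ τ : Equiv.Perm (Fin n),
          ((Equiv.Perm.sign σ : ℤ) : MvPowerSeries (Idx n) ℤ)
              * MvPowerSeries.monomial (mk (fun i => ((σ i : Fin n) : ℕ)) 0) (1 : ℤ)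
            * (((Equiv.Perm.sign τ : ℤ) : MvPowerSeries (Idx n) ℤ)
              * MvPowerSeries.monomial (mk 0 (fun i => ((τ i : Fin n) : ℕ))) (1 : ℤ)))
          * Phi (∅ : Finset (Fin n × Fin n)))
      = ∑ τ : Equiv.Perm (Fin n),
        (if (∀ i, ((σ i : Fin n) : ℕ) ≤ lam i) ∧ (∀ j, ((τ j : Fin n) : ℕ) ≤ lam' j) then
          (Equiv.Perm.sign σ : ℤ) * (Equiv.Perm.sign τ : ℤ)
            * ((Tab (∅ : Finset (Fin n × Fin n)) (fun i => lam i - ((σ i : Fin n) : ℕ))
                (fun j => lam' j - ((τ j : Fin n) : ℕ))).ncard : ℤ)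
        else 0) := by
    intro σ
    rw [Finset.sum_mul, map_sum]
    apply Finset.sum_congr rfl
    intro τ _
    have e1 : ((Equiv.Perm.sign σ : ℤ) : MvPowerSeries (Idx n) ℤ)
          * MvPowerSeries.monomial (mk (fun i => ((σ i : Fin n) : ℕ)) 0) (1 : ℤ)
        * (((Equiv.Perm.sign τ : ℤ) : MvPowerSeries (Idx n) ℤ)
          * MvPowerSeries.monomial (mk 0 (fun i => ((τ i : Fin n) : ℕ))) (1 : ℤ))
        * Phi (∅ : Finset (Fin n × Fin n))
        = (((Equiv.Perm.sign σ : ℤ) * (Equiv.Perm.sign τ : ℤ) : ℤ) : MvPowerSeries (Idx n) ℤ)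
          * (MvPowerSeries.monomial (mk (fun i => ((σ i : Fin n) : ℕ))
              (fun i => ((τ i : Fin n) : ℕ))) (1 : ℤ) * Phi (∅ : Finset (Fin n × Fin n))) := by
      have e2 : MvPowerSeries.monomial (mk (fun i => ((σ i : Fin n) : ℕ))
            (fun i => ((τ i : Fin n) : ℕ))) (1 : ℤ)
          = MvPowerSeries.monomial (mk (fun i => ((σ i : Fin n) : ℕ)) 0) (1 : ℤ)
            * MvPowerSeries.monomial (mk 0 (fun i => ((τ i : Fin n) : ℕ))) (1 : ℤ) := by
        rw [MvPowerSeries.monomial_mul_monomial, mk_add, add_zero, zero_add, mul_one]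
      rw [e2]
      push_cast
      ring
    rw [e1, coeff_int_mul, MvPowerSeries.coeff_monomial_mul]
    by_cases hc : mk (fun i => ((σ i : Fin n) : ℕ)) (fun i => ((τ i : Fin n) : ℕ)) ≤ mk lam lam'
    · have hc' : (∀ i, ((σ i : Fin n) : ℕ) ≤ lam i) ∧ (∀ j, ((τ j : Fin n) : ℕ) ≤ lam' j) :=
        (mk_le_iff _ _ _ _).mp hc
      rw [if_pos hc, if_pos hc', one_mul, mk_sub, coeff_Phi]
      rfl
    · have hc' : ¬ ((∀ i, ((σ i : Fin n) : ℕ) ≤ lam i) ∧ (∀ j, ((τ j : Fin n) : ℕ) ≤ lam' j)) :=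
        fun h => hc ((mk_le_iff _ _ _ _).mpr h)
      rw [if_neg hc, if_neg hc', mul_zero]
  rw [Finset.sum_congr rfl (fun σ _ => eL σ)] at key
  rw [key]
  have eR : ∀ π : Equiv.Perm (Fin n),
      MvPowerSeries.coeff (mk lam lam')
        (((Equiv.Perm.sign π : ℤ) : MvPowerSeries (Idx n) ℤ) * Phi (Eperm π))
      = if π = 1 ∧ lam = lam' then 1 else 0 := by
    intro π
    rw [coeff_int_mul, coeff_Phi, ncard_Tab_Eperm]
    by_cases hc : ∀ i, lam' (π i) = lam i
    · have h1 := perm_eq_one_of_strictMono h h' hc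
      have h2 : lam = lam' := by
        funext i
        rw [← hc i, h1]
        rfl
      rw [if_pos hc, if_pos ⟨h1, h2⟩, h1, Equiv.Perm.sign_one]
      simp
    · rw [if_neg hc, if_neg]
      · simp
      · rintro ⟨h1, h2⟩
        apply hc
        intro i
        rw [h1, h2]
        rfl
  rw [Finset.sum_congr rfl (fun π _ => eR π)]
  by_cases hl : lam = lam'
  · rw [if_pos hl, Finset.sum_eq_single (1 : Equiv.Perm (Fin n))]
    · rw [if_pos ⟨rfl, hl⟩]
    · intro π _ hπ
      rw [if_neg (fun h => hπ h.1)]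
    · intro h
      exact absurd (Finset.mem_univ _) h
  · rw [if_neg hl]
    apply Finset.sum_eq_zero
    intro π _
    rw [if_neg (fun h => hl h.2)]

end Cfsg.Agent.Helper8.UniGL
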