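import Mathlib
import Cfsg.Agent.Helper8.UniGLB
import Cfsg.Agent.Helper8.CompLabel
import Cfsg.Agent.Helper8.FlagA

set_option autoImplicit false
set_option linter.unusedSimpArgs false
set_option linter.unusedSectionVars false

/-! Unipotent characters of `GL_n(q)`: double cosets of Young subgroups and contingency tables
(helper8). -/

namespace Cfsg.Agent.Helper8.UniGL

open Finset Cfsg.Agent.Helper8.CompLab

variable {n : ℕ}

/-- two maps with the same fibre sizes differ by a permutation of the source. -/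
theorem exists_perm_of_fiber_card {X T : Type*} [Fintype X] [DecidableEq X] [DecidableEq T]
    (f g : X → T)
    (h : ∀ t, (Finset.univ.filter (fun k => f k = t)).card
      = (Finset.univ.filter (fun k => g k = t)).card) :
    ∃ s : Equiv.Perm X, ∀ k, f (s k) = g k := by
  classical
  have hc : ∀ t, Fintype.card {k // g k = t} = Fintype.card {k // f k = t} := by
    intro t
    rw [Fintype.card_subtype, Fintype.card_subtype, h t]
  let e : ∀ t, {k // g k = t} ≃ {k // f k = t} := fun t => Fintype.equivOfCardEq (hc t)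
  refine ⟨(Equiv.sigmaFiberEquiv g).symm.trans
    ((Equiv.sigmaCongrRight e).trans (Equiv.sigmaFiberEquiv f)), ?_⟩
  intro k
  have : ((Equiv.sigmaFiberEquiv g).symm.trans
      ((Equiv.sigmaCongrRight e).trans (Equiv.sigmaFiberEquiv f))) k
      = ((e (g k)) ⟨k, rfl⟩ : X) := rfl
  rw [this]
  exact ((e (g k)) ⟨k, rfl⟩).2

/-- a map with prescribed fibre sizes. -/
theorem exists_map_of_fiber_card {P : Type*} [Fintype P] [DecidableEq P] (A : P → ℕ)
    (hA : ∑ p, A p = n) :
    ∃ h : Fin n → P, ∀ p, (Finset.univ.filter (fun k => h k = p)).card = A p := by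
  classical
  have hc : Fintype.card (Fin n) = Fintype.card (Σ p, Fin (A p)) := by
    rw [Fintype.card_sigma, Fintype.card_fin]
    simp only [Fintype.card_fin]
    exact hA.symm
  let e : Fin n ≃ Σ p, Fin (A p) := Fintype.equivOfCardEq hc
  refine ⟨fun k => (e k).1, ?_⟩
  intro p
  have h1 : (Finset.univ.filter (fun k => (e k).1 = p)).card
      = Fintype.card {k : Fin n // (e k).1 = p} := (Fintype.card_subtype _).symm
  rw [h1]
  have e2 : {k : Fin n // (e k).1 = p} ≃ Fin (A p) :=
    (e.subtypeEquiv (p := fun k => (e k).1 = p) (q := fun s => s.1 = p) (fun _ => Iff.rfl)).trans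
      (Equiv.sigmaSubtype p)
  rw [Fintype.card_congr e2, Fintype.card_fin]

/-- positions in an interval. -/
theorem card_filter_val_Ico (s t : ℕ) (ht : t ≤ n) :
    (Finset.univ.filter (fun k : Fin n => s ≤ k.val ∧ k.val < t)).card = t - s := by
  have : (Finset.univ.filter (fun k : Fin n => s ≤ k.val ∧ k.val < t)).map Fin.valEmbedding
      = Finset.Ico s t := by
    ext x
    simp only [Finset.mem_map, Finset.mem_filter, Finset.mem_univ, true_and, Finset.mem_Ico,
      Fin.valEmbedding_apply]
    constructor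
    · rintro ⟨k, hk, rfl⟩
      exact hk
    · intro h
      exact ⟨⟨x, by omega⟩, h, rfl⟩
  rw [← Finset.card_map Fin.valEmbedding, this, Nat.card_Ico]

/-- the fibres of the block labelling. -/
theorem card_label_fiber (μ : Fin n → ℕ) (hμ : ∑ i, μ i = n) (a : Fin n) :
    (Finset.univ.filter (fun k : Fin n => Cfsg.compLabel μ k = a.val)).card = μ a := by
  have : Finset.univ.filter (fun k : Fin n => Cfsg.compLabel μ k = a.val)
      = Finset.univ.filter (fun k : Fin n => psum μ a.val ≤ k.val ∧ k.val < psum μ (a.val + 1)) := by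
    ext k
    simp only [Finset.mem_filter, Finset.mem_univ, true_and]
    constructor
    · intro h
      have := compLabel_spec μ hμ k
      rw [h] at this
      exact this
    · rintro ⟨h1, h2⟩
      exact compLabel_of_mem μ k a.val h1 h2
  rw [this, card_filter_val_Ico _ _ (psum_le μ hμ _), psum_succ, ext_fin]
  omega

/-- the block labelling with values in `Fin n`. -/
def lab (μ : Fin n → ℕ) (hμ : ∑ i, μ i = n) (k : Fin n) : Fin n :=
  ⟨Cfsg.compLabel μ k, compLabel_lt μ hμ k⟩

theorem card_lab_fiber (μ : Fin n → ℕ) (hμ : ∑ i, μ i = n) (a : Fin n) :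
    (Finset.univ.filter (fun k : Fin n => lab μ hμ k = a)).card = μ a := by
  rw [← card_label_fiber μ hμ a]
  congr 1
  ext k
  simp only [Finset.mem_filter, Finset.mem_univ, true_and, lab, Fin.ext_iff]

theorem mem_young_iff (μ : Fin n → ℕ) (hμ : ∑ i, μ i = n) (σ : Equiv.Perm (Fin n)) :
    σ ∈ Cfsg.youngSubgroup μ ↔ ∀ k, lab μ hμ (σ k) = lab μ hμ k := by
  constructor
  · intro h k
    exact Fin.ext (h k)
  · intro h k
    exact Fin.ext_iff.mp (h k)

/-- the table of a permutation. -/
def tabOf (α β : Fin n → ℕ) (hα : ∑ i, α i = n) (hβ : ∑ i, β i = n) (σ : Equiv.Perm (Fin n)) :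
    Fin n × Fin n → ℕ :=
  fun p => (Finset.univ.filter (fun k : Fin n => lab α hα (σ k) = p.1 ∧ lab β hβ k = p.2)).card

theorem tabOf_mem (α β : Fin n → ℕ) (hα : ∑ i, α i = n) (hβ : ∑ i, β i = n)
    (σ : Equiv.Perm (Fin n)) : tabOf α β hα hβ σ ∈ Tab (∅ : Finset (Fin n × Fin n)) α β := by
  classical
  refine ⟨fun p hp => absurd hp (Finset.notMem_empty p), ?_, ?_⟩
  · intro i
    unfold tabOf
    simp only
    have h1 : ∑ j, (Finset.univ.filter (fun k : Fin n => lab α hα (σ k) = i ∧ lab β hβ k = j)).card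
        = (Finset.univ.filter (fun k : Fin n => lab α hα (σ k) = i)).card := by
      rw [Finset.card_eq_sum_card_fiberwise (f := fun k => lab β hβ k) (t := Finset.univ)
        (fun k _ => Finset.mem_univ _)]
      apply Finset.sum_congr rfl
      intro j _
      congr 1
      ext k
      simp only [Finset.mem_filter, Finset.mem_univ, true_and]
    rw [h1, ← card_lab_fiber α hα i]
    apply Finset.card_bij (fun k _ => σ k)
    · intro k hk
      simpa using hk
    · intro k _ k' _ h
      exact σ.injective h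
    · intro k' hk'
      refine ⟨σ⁻¹ k', ?_, by simp⟩
      simpa using hk'
  · intro j
    unfold tabOf
    simp only
    have h1 : ∑ i, (Finset.univ.filter (fun k : Fin n => lab α hα (σ k) = i ∧ lab β hβ k = j)).card
        = (Finset.univ.filter (fun k : Fin n => lab β hβ k = j)).card := by
      rw [Finset.card_eq_sum_card_fiberwise (f := fun k => lab α hα (σ k)) (t := Finset.univ)
        (fun k _ => Finset.mem_univ _)]
      apply Finset.sum_congr rfl
      intro i _
      congr 1
      ext k
      simp only [Finset.mem_filter, Finset.mem_univ, true_and]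
      exact and_comm
    rw [h1, card_lab_fiber β hβ j]

theorem tabOf_mul (α β : Fin n → ℕ) (hα : ∑ i, α i = n) (hβ : ∑ i, β i = n)
    (σ a b : Equiv.Perm (Fin n)) (ha : a ∈ Cfsg.youngSubgroup α) (hb : b ∈ Cfsg.youngSubgroup β) :
    tabOf α β hα hβ (a * σ * b) = tabOf α β hα hβ σ := by
  classical
  rw [mem_young_iff α hα] at ha
  rw [mem_young_iff β hβ] at hb
  funext p
  unfold tabOf
  apply Finset.card_bij (fun k _ => b k)
  · intro k hk
    simp only [Finset.mem_filter, Finset.mem_univ, true_and] at hk ⊢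
    rw [hb k]
    refine ⟨?_, hk.2⟩
    rw [← hk.1, Equiv.Perm.mul_apply, Equiv.Perm.mul_apply, ha]
  · intro k _ k' _ h
    exact b.injective h
  · intro k' hk'
    simp only [Finset.mem_filter, Finset.mem_univ, true_and] at hk'
    refine ⟨b⁻¹ k', ?_, by simp⟩
    simp only [Finset.mem_filter, Finset.mem_univ, true_and]
    have e1 : b (b⁻¹ k') = k' := by simp
    constructor
    · rw [Equiv.Perm.mul_apply, Equiv.Perm.mul_apply, ha, e1]
      exact hk'.1
    · rw [← hb (b⁻¹ k'), e1]
      exact hk'.2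

theorem tabOf_inj (α β : Fin n → ℕ) (hα : ∑ i, α i = n) (hβ : ∑ i, β i = n)
    (σ τ : Equiv.Perm (Fin n)) (h : tabOf α β hα hβ σ = tabOf α β hα hβ τ) :
    ∃ a ∈ Cfsg.youngSubgroup α, ∃ b ∈ Cfsg.youngSubgroup β, τ = a * σ * b := by
  classical
  obtain ⟨b, hb⟩ := exists_perm_of_fiber_card
    (fun k : Fin n => (lab α hα (σ k), lab β hβ k)) (fun k : Fin n => (lab α hα (τ k), lab β hβ k))
    (by
      intro p
      have := congrFun h p
      unfold tabOf at this
      convert this using 2
      · ext k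
        simp only [Finset.mem_filter, Finset.mem_univ, true_and, Prod.ext_iff]
      · ext k
        simp only [Finset.mem_filter, Finset.mem_univ, true_and, Prod.ext_iff])
  have hb1 : ∀ k, lab α hα (σ (b k)) = lab α hα (τ k) := fun k => (Prod.ext_iff.mp (hb k)).1
  have hb2 : ∀ k, lab β hβ (b k) = lab β hβ k := fun k => (Prod.ext_iff.mp (hb k)).2
  refine ⟨τ * b⁻¹ * σ⁻¹, ?_, b, (mem_young_iff β hβ b).mpr hb2, by group⟩
  rw [mem_young_iff α hα]
  intro z
  have e1 : z = σ (b (b⁻¹ (σ⁻¹ z))) := by simp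
  have e2 : (τ * b⁻¹ * σ⁻¹) z = τ (b⁻¹ (σ⁻¹ z)) := rfl
  rw [e2, ← hb1, ← e1]

theorem tabOf_surj (α β : Fin n → ℕ) (hα : ∑ i, α i = n) (hβ : ∑ i, β i = n)
    (A : Fin n × Fin n → ℕ) (hA : A ∈ Tab (∅ : Finset (Fin n × Fin n)) α β) :
    ∃ σ : Equiv.Perm (Fin n), tabOf α β hα hβ σ = A := by
  classical
  have hsum : ∑ p, A p = n := by
    rw [Fintype.sum_prod_type]
    calc ∑ x, ∑ y, A (x, y) = ∑ x, α x := Finset.sum_congr rfl (fun i _ => hA.2.1 i)
      _ = n := hα
  obtain ⟨h, hh⟩ := exists_map_of_fiber_card A hsum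
  -- the first coordinate
  obtain ⟨s, hs⟩ := exists_perm_of_fiber_card (fun k : Fin n => lab α hα k)
    (fun k : Fin n => (h k).1) (by
      intro i
      rw [card_lab_fiber α hα i, ← hA.2.1 i]
      rw [Finset.card_eq_sum_card_fiberwise (f := fun k => (h k).2) (t := Finset.univ)
        (fun k _ => Finset.mem_univ _)]
      apply Finset.sum_congr rfl
      intro j _
      rw [← hh (i, j)]
      congr 1
      ext k
      simp only [Finset.mem_filter, Finset.mem_univ, true_and, Prod.ext_iff])
  obtain ⟨t, ht⟩ := exists_perm_of_fiber_card (fun k : Fin n => lab β hβ k)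
    (fun k : Fin n => (h k).2) (by
      intro j
      rw [card_lab_fiber β hβ j, ← hA.2.2 j]
      rw [Finset.card_eq_sum_card_fiberwise (f := fun k => (h k).1) (t := Finset.univ)
        (fun k _ => Finset.mem_univ _)]
      apply Finset.sum_congr rfl
      intro i _
      rw [← hh (i, j)]
      congr 1
      ext k
      simp only [Finset.mem_filter, Finset.mem_univ, true_and, Prod.ext_iff]
      exact and_comm)
  refine ⟨s * t⁻¹, ?_⟩
  funext p
  unfold tabOf
  rw [← hh p]
  apply Finset.card_bij (fun k _ => t⁻¹ k)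
  · intro k hk
    simp only [Finset.mem_filter, Finset.mem_univ, true_and] at hk ⊢
    rw [Prod.ext_iff, ← hs, ← ht]
    have e1 : t (t⁻¹ k) = k := by simp
    rw [e1]
    exact hk
  · intro k _ k' _ h'
    exact (t⁻¹).injective h'
  · intro k' hk'
    simp only [Finset.mem_filter, Finset.mem_univ, true_and] at hk'
    refine ⟨t k', ?_, by simp⟩
    simp only [Finset.mem_filter, Finset.mem_univ, true_and]
    have e1 : (s * t⁻¹) (t k') = s k' := by simp
    rw [e1, hs, ht, ← hk']
    exact ⟨rfl, rfl⟩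

/-- **Double cosets of Young subgroups are counted by contingency tables.** -/
theorem card_young_orbits (α β : Fin n → ℕ) (hα : ∑ i, α i = n) (hβ : ∑ i, β i = n) :
    Nat.card (MulAction.orbitRel.Quotient (Cfsg.youngSubgroup α)
        (Equiv.Perm (Fin n) ⧸ Cfsg.youngSubgroup β))
      = (Tab (∅ : Finset (Fin n × Fin n)) α β).ncard := by
  rw [← Nat.card_coe_set_eq]
  apply Cfsg.Agent.Helper8.Flag.card_eq_of_surj
    (fun σ : Equiv.Perm (Fin n) => (Quotient.mk'' (σ : Equiv.Perm (Fin n) ⧸ Cfsg.youngSubgroup β) :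
      MulAction.orbitRel.Quotient (Cfsg.youngSubgroup α)
        (Equiv.Perm (Fin n) ⧸ Cfsg.youngSubgroup β)))
    (fun σ : Equiv.Perm (Fin n) => (⟨tabOf α β hα hβ σ, tabOf_mem α β hα hβ σ⟩ :
      Tab (∅ : Finset (Fin n × Fin n)) α β))
  · intro x
    induction x using Quotient.inductionOn' with
    | h y =>
      induction y using QuotientGroup.induction_on with
      | H σ => exact ⟨σ, rfl⟩
  · rintro ⟨A, hA⟩
    obtain ⟨σ, hσ⟩ := tabOf_surj α β hα hβ A hA
    exact ⟨σ, Subtype.ext hσ⟩
  · intro σ τ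
    rw [Cfsg.Agent.Helper8.Flag.orbit_quot_eq_iff, Subtype.mk.injEq]
    constructor
    · rintro ⟨a, ha, b, hb, rfl⟩
      exact tabOf_mul α β hα hβ τ a b ha hb
    · intro h
      obtain ⟨a, ha, b, hb, e⟩ := tabOf_inj α β hα hβ τ σ h.symm
      exact ⟨a, ha, b, hb, e⟩

end Cfsg.Agent.Helper8.UniGL
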