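import Mathlib
import Cfsg.Prelude.Def_LinearParabolics
import Cfsg.Agent.Helper8.UniGLD
import Cfsg.Agent.Helper8.UniGLE
import Cfsg.Agent.Helper8.FlagD
import Cfsg.Agent.Helper6.NormOne
import Cfsg.Agent.Helper6.SchurC

set_option autoImplicit false
set_option linter.unusedSimpArgs false
set_option linter.unusedSectionVars false

/-! Unipotent characters of `GL_n(q)`: inner products of the alternating sums (helper8). -/

namespace Cfsg.Agent.Helper8.UniGL

open Finset Cfsg Cfsg.Agent.Helper6
open scoped MatrixGroups ComplexConjugate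

variable {F : Type*} [Field F] {n : ℕ}

/-- the shifted partition. -/
def lamOf (ν : Fin n → ℕ) : Fin n → ℕ := fun i => ν i + i.val

theorem lamOf_strictMono {ν : Fin n → ℕ} (h : Monotone ν) : StrictMono (lamOf ν) := by
  intro i j hij
  unfold lamOf
  have := h (le_of_lt hij)
  have h2 : i.val < j.val := hij
  omega

theorem lamOf_injective {ν ν' : Fin n → ℕ} (h : lamOf ν = lamOf ν') : ν = ν' := by
  funext i
  have := congrFun h i
  unfold lamOf at this
  omega

/-- the composition `λ - κ`. -/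
def compOf (ν : Fin n → ℕ) (κ : Equiv.Perm (Fin n)) : Fin n → ℕ :=
  fun i => ν i + i.val - (κ i).val

theorem sum_compOf {ν : Fin n → ℕ} (hν : ∑ i, ν i = n) {κ : Equiv.Perm (Fin n)}
    (hκ : ∀ i : Fin n, (κ i).val ≤ ν i + i.val) : ∑ i, compOf ν κ i = n := by
  have h1 : ∑ i, compOf ν κ i + ∑ i : Fin n, (κ i).val = ∑ i : Fin n, (ν i + i.val) := by
    rw [← Finset.sum_add_distrib]
    apply Finset.sum_congr rfl
    intro i _
    unfold compOf
    exact Nat.sub_add_cancel (hκ i)
  have h2 : ∑ i : Fin n, (κ i).val = ∑ i : Fin n, i.val :=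
    Equiv.sum_comp κ (fun i : Fin n => i.val)
  rw [Finset.sum_add_distrib, hν, h2] at h1
  omega

/-- a summand of the alternating sum. -/
noncomputable def term (F : Type*) [Field F] (ν : Fin n → ℕ) (κ : Equiv.Perm (Fin n)) :
    GL (Fin n) F → ℂ :=
  if ∀ i : Fin n, (κ i).val ≤ ν i + i.val then
    ((Equiv.Perm.sign κ : ℤ) : ℂ) • fixedPointCharacter (parabolicGL n F (compOf ν κ))
  else 0

theorem unipotentCharacterGL_eq (ν : Fin n → ℕ) :
    unipotentCharacterGL n F ν = ∑ κ : Equiv.Perm (Fin n), term F ν κ := by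
  funext g
  unfold unipotentCharacterGL
  rw [Finset.sum_apply]
  apply Finset.sum_congr rfl
  intro κ _
  unfold term
  split_ifs with h
  · rfl
  · rfl

variable [Fintype (GL (Fin n) F)]

theorem isGeneralizedCharacter_term (ν : Fin n → ℕ) (κ : Equiv.Perm (Fin n)) :
    IsGeneralizedCharacter (GL (Fin n) F) (term F ν κ) := by
  unfold term
  split_ifs with h
  · exact IsGeneralizedCharacter.int_mul (IsGeneralizedCharacter.of_isCharacter
      (Cfsg.Agent.Lead.SteinChar.isCharacter_fixedPointCharacter _)) _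
  · exact IsGeneralizedCharacter.zero

theorem isGeneralizedCharacter_sum {G : Type*} [Group G] {ι : Type*} (s : Finset ι)
    (f : ι → G → ℂ) (h : ∀ i ∈ s, IsGeneralizedCharacter G (f i)) :
    IsGeneralizedCharacter G (∑ i ∈ s, f i) := by
  classical
  induction s using Finset.induction_on with
  | empty =>
    rw [Finset.sum_empty]
    exact IsGeneralizedCharacter.zero
  | insert a s ha ih =>
    rw [Finset.sum_insert ha]
    exact IsGeneralizedCharacter.add (h a (Finset.mem_insert_self _ _))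
      (ih (fun i hi => h i (Finset.mem_insert_of_mem hi)))

theorem isGeneralizedCharacter_unipotent (ν : Fin n → ℕ) :
    IsGeneralizedCharacter (GL (Fin n) F) (unipotentCharacterGL n F ν) := by
  rw [unipotentCharacterGL_eq]
  exact isGeneralizedCharacter_sum _ _ (fun κ _ => isGeneralizedCharacter_term ν κ)

theorem classInner_perm (α β : Fin n → ℕ) (hα : ∑ i, α i = n) (hβ : ∑ i, β i = n) :
    classInner (fixedPointCharacter (parabolicGL n F α)) (fixedPointCharacter (parabolicGL n F β))
      = ((Tab (∅ : Finset (Fin n × Fin n)) α β).ncard : ℂ) := by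
  rw [Cfsg.Agent.Lead.SteinChar.classInner_fixedPointCharacter,
    Cfsg.Agent.Helper8.Flag.card_orbits_eq, card_young_orbits α β hα hβ]

theorem classInner_term {ν ν' : Fin n → ℕ} (hν : ∑ i, ν i = n) (hν' : ∑ i, ν' i = n)
    (κ κ' : Equiv.Perm (Fin n)) :
    classInner (term F ν κ) (term F ν' κ')
      = (((if (∀ i, ((κ i : Fin n) : ℕ) ≤ lamOf ν i) ∧ (∀ j, ((κ' j : Fin n) : ℕ) ≤ lamOf ν' j) then
        (Equiv.Perm.sign κ : ℤ) * (Equiv.Perm.sign κ' : ℤ)
          * ((Tab (∅ : Finset (Fin n × Fin n)) (fun i => lamOf ν i - ((κ i : Fin n) : ℕ))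
              (fun j => lamOf ν' j - ((κ' j : Fin n) : ℕ))).ncard : ℤ)
        else 0 : ℤ)) : ℂ) := by
  unfold term
  by_cases h1 : ∀ i : Fin n, (κ i).val ≤ ν i + i.val
  · by_cases h2 : ∀ i : Fin n, (κ' i).val ≤ ν' i + i.val
    · rw [if_pos h1, if_pos h2, if_pos ⟨h1, h2⟩, classInner_smul_left, classInner_smul_right,
        classInner_perm _ _ (sum_compOf hν h1) (sum_compOf hν' h2)]
      have : conj (((Equiv.Perm.sign κ' : ℤ) : ℂ)) = ((Equiv.Perm.sign κ' : ℤ) : ℂ) :=
        map_intCast (starRingEnd ℂ) _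
      rw [this]
      push_cast
      unfold compOf lamOf
      ring
    · have hc : ¬ ((∀ i, ((κ i : Fin n) : ℕ) ≤ lamOf ν i)
          ∧ (∀ j, ((κ' j : Fin n) : ℕ) ≤ lamOf ν' j)) := fun h => h2 h.2
      rw [if_neg h2, if_neg hc, classInner_zero_right]
      simp
  · have hc : ¬ ((∀ i, ((κ i : Fin n) : ℕ) ≤ lamOf ν i)
        ∧ (∀ j, ((κ' j : Fin n) : ℕ) ≤ lamOf ν' j)) := fun h => h1 h.1
    rw [if_neg h1, if_neg hc, classInner_zero_left]
    simp

/-- **Orthonormality.** -/
theorem classInner_unipotent {ν ν' : Fin n → ℕ} (hm : Monotone ν) (hν : ∑ i, ν i = n)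
    (hm' : Monotone ν') (hν' : ∑ i, ν' i = n) :
    classInner (unipotentCharacterGL n F ν) (unipotentCharacterGL n F ν')
      = if ν = ν' then 1 else 0 := by
  classical
  rw [unipotentCharacterGL_eq, unipotentCharacterGL_eq, classInner_sum_left]
  have e : ∀ κ ∈ (Finset.univ : Finset (Equiv.Perm (Fin n))),
      classInner (term F ν κ) (∑ κ' : Equiv.Perm (Fin n), term F ν' κ')
      = ∑ κ' : Equiv.Perm (Fin n), classInner (term F ν κ) (term F ν' κ') :=
    fun κ _ => classInner_sum_right _ _ _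
  rw [Finset.sum_congr rfl e]
  have e2 : ∀ κ ∈ (Finset.univ : Finset (Equiv.Perm (Fin n))),
      ∀ κ' ∈ (Finset.univ : Finset (Equiv.Perm (Fin n))),
      classInner (term F ν κ) (term F ν' κ') = _ := fun κ _ κ' _ => classInner_term hν hν' κ κ'
  rw [Finset.sum_congr rfl (fun κ hκ => Finset.sum_congr rfl (e2 κ hκ))]
  have key := main_identity (lamOf_strictMono hm) (lamOf_strictMono hm')
  have key2 := congrArg (fun z : ℤ => (z : ℂ)) key
  simp only [Int.cast_sum] at key2
  rw [key2]
  by_cases h : ν = ν'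
  · rw [if_pos h, if_pos (by rw [h])]
    simp
  · rw [if_neg h, if_neg (fun h' => h (lamOf_injective h'))]
    simp

end Cfsg.Agent.Helper8.UniGL
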