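import Mathlib
import Cfsg.Agent.Helper8.UniGLB

set_option autoImplicit false
set_option linter.unusedSimpArgs false
set_option linter.unusedSectionVars false

/-! Unipotent characters of `GL_n(q)`: tables with column sums `0` or `1` (helper8). -/

namespace Cfsg.Agent.Helper8.UniGL

open Finset

variable {n : ℕ}

/-- the cells of column `j` in the rows of `S`. -/
def colCells (S : Finset (Fin n)) (j : Fin n) : Finset (Fin n × Fin n) :=
  S.image (fun i => (i, j))

theorem mem_colCells {S : Finset (Fin n)} {j : Fin n} {p : Fin n × Fin n} :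
    p ∈ colCells S j ↔ p.1 ∈ S ∧ p.2 = j := by
  unfold colCells
  rw [Finset.mem_image]
  constructor
  · rintro ⟨i, hi, rfl⟩
    exact ⟨hi, rfl⟩
  · rintro ⟨h1, h2⟩
    exact ⟨p.1, h1, by rw [← h2]⟩

theorem Tab_col_zero {E : Finset (Fin n × Fin n)} {j : Fin n} {α β : Fin n → ℕ} (hβ : β j = 0)
    (hE : ∀ p ∈ E, p.2 = j) : Tab E α β = Tab (∅ : Finset (Fin n × Fin n)) α β := by
  ext A
  constructor
  · intro hA
    exact ⟨fun p hp => absurd hp (Finset.notMem_empty p), hA.2.1, hA.2.2⟩
  · intro hA
    refine ⟨fun p hp => ?_, hA.2.1, hA.2.2⟩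
    have := Tab_le_col hA p
    rw [hE p hp, hβ] at this
    omega

/-- the recursion on a column with sum one. -/
theorem col_rec (j : Fin n) (β : Fin n → ℕ) (hβ : β j = 0) (R : Finset (Fin n)) :
    ∀ α : Fin n → ℕ, (Tab (colCells Rᶜ j) α (β + Pi.single j 1)).ncard
      = ∑ i ∈ R, (if 1 ≤ α i then
          (Tab (∅ : Finset (Fin n × Fin n)) (α - Pi.single i 1) β).ncard else 0) := by
  classical
  induction R using Finset.induction_on with
  | empty =>
    intro α
    rw [Finset.sum_empty, Finset.compl_empty, Set.ncard_eq_zero (Tab_finite _ _ _)]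
    ext A
    simp only [Set.mem_empty_iff_false, iff_false]
    intro hA
    have h1 := hA.2.2 j
    have h0 : ∑ i, A (i, j) = 0 :=
      Finset.sum_eq_zero (fun i _ => hA.1 (i, j) (mem_colCells.mpr ⟨Finset.mem_univ i, rfl⟩))
    rw [h0, Pi.add_apply, hβ, Pi.single_eq_same] at h1
    omega
  | insert i R hi ih =>
    intro α
    rw [Finset.sum_insert hi]
    have hE : colCells Rᶜ j = insert (i, j) (colCells (insert i R)ᶜ j) := by
      ext p
      rw [Finset.mem_insert, mem_colCells, mem_colCells, Finset.mem_compl, Finset.mem_compl,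
        Finset.mem_insert]
      constructor
      · rintro ⟨h1, h2⟩
        by_cases hp : p.1 = i
        · left
          exact Prod.ext hp h2
        · right
          exact ⟨fun h => h.elim hp h1, h2⟩
      · rintro (h | ⟨h1, h2⟩)
        · rw [h]
          exact ⟨hi, rfl⟩
        · exact ⟨fun h => h1 (Or.inr h), h2⟩
    have hnot : (i, j) ∉ colCells (insert i R)ᶜ j := by
      rw [mem_colCells, Finset.mem_compl]
      intro h
      exact h.1 (Finset.mem_insert_self _ _)
    by_cases h1 : 1 ≤ α i
    · rw [if_pos h1]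
      have eα : α = (α - Pi.single i 1) + Pi.single i 1 := by
        funext i'
        rw [Pi.add_apply, Pi.sub_apply, Pi.single_apply]
        split_ifs with h
        · rw [h]
          omega
        · omega
      have key := ncard_Tab_step hnot (α - Pi.single i 1) β
      rw [← eα] at key
      rw [key, ← hE, ih α,
        Tab_col_zero hβ (fun p hp => (mem_colCells.mp hp).2), add_comm]
    · rw [if_neg h1, zero_add, ← ih α, hE, Tab_insert_of_zero (Or.inl (by omega))]

theorem col_rec_univ (j : Fin n) (β : Fin n → ℕ) (hβ : β j = 0) (α : Fin n → ℕ) :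
    (Tab (∅ : Finset (Fin n × Fin n)) α (β + Pi.single j 1)).ncard
      = ∑ i, (if 1 ≤ α i then
          (Tab (∅ : Finset (Fin n × Fin n)) (α - Pi.single i 1) β).ncard else 0) := by
  have := col_rec j β hβ Finset.univ α
  rw [Finset.compl_univ] at this
  exact this

/-- permuting the rows. -/
theorem ncard_Tab_comp (τ : Equiv.Perm (Fin n)) (α β : Fin n → ℕ) :
    (Tab (∅ : Finset (Fin n × Fin n)) (α ∘ τ) β).ncard
      = (Tab (∅ : Finset (Fin n × Fin n)) α β).ncard := by
  set f : (Fin n × Fin n → ℕ) → (Fin n × Fin n → ℕ) := fun A p => A (τ p.1, p.2) with hf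
  have hinj : Function.Injective f := by
    intro A B h
    funext p
    have := congrFun h (τ⁻¹ p.1, p.2)
    rw [hf] at this
    simpa using this
  have himg : Tab (∅ : Finset (Fin n × Fin n)) (α ∘ τ) β
      = f '' Tab (∅ : Finset (Fin n × Fin n)) α β := by
    ext A
    constructor
    · intro hA
      refine ⟨fun p => A (τ⁻¹ p.1, p.2), ⟨fun p hp => absurd hp (Finset.notMem_empty p), ?_, ?_⟩, ?_⟩
      · intro i
        have := hA.2.1 (τ⁻¹ i)
        simpa using this
      · intro j
        rw [← hA.2.2 j]
        exact Equiv.sum_comp τ⁻¹ (fun i => A (i, j))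
      · funext p
        rw [hf]
        simp
    · rintro ⟨A', hA', rfl⟩
      refine ⟨fun p hp => absurd hp (Finset.notMem_empty p), ?_, ?_⟩
      · intro i
        exact hA'.2.1 (τ i)
      · intro j
        rw [← hA'.2.2 j]
        exact Equiv.sum_comp τ (fun i => A' (i, j))
  rw [himg, Set.ncard_image_of_injective _ hinj]

/-- the table with all margins zero. -/
theorem ncard_Tab_zero (α : Fin n → ℕ) :
    (Tab (∅ : Finset (Fin n × Fin n)) α 0).ncard = if α = 0 then 1 else 0 := by
  by_cases h : α = 0
  · rw [if_pos h, h, Set.ncard_eq_one]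
    refine ⟨0, ?_⟩
    ext A
    rw [Set.mem_singleton_iff]
    constructor
    · intro hA
      funext p
      have := Tab_le_col hA p
      simpa using this
    · rintro rfl
      exact ⟨fun p _ => rfl, fun i => by simp, fun j => by simp⟩
  · rw [if_neg h, Set.ncard_eq_zero (Tab_finite _ _ _)]
    ext A
    simp only [Set.mem_empty_iff_false, iff_false]
    intro hA
    apply h
    funext i
    rw [← hA.2.1 i]
    apply Finset.sum_eq_zero
    intro j _
    have := Tab_le_col hA (i, j)
    simpa using this

end Cfsg.Agent.Helper8.UniGL
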