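import Mathlib
import Cfsg.Agent.Helper8.UniGLG

set_option autoImplicit false
set_option linter.unusedSimpArgs false
set_option linter.unusedSectionVars false

/-! Unipotent characters of `GL_n(q)`: positivity of the pairing with the Borel permutation
character (helper8). -/

namespace Cfsg.Agent.Helper8.UniGL

open Finset

variable {n : ℕ}

/-- the indicator of a set of columns. -/
def ind (J : Finset (Fin n)) : Fin n → ℕ := fun j => if j ∈ J then 1 else 0

theorem ind_insert {J : Finset (Fin n)} {j : Fin n} (hj : j ∉ J) :
    ind (insert j J) = ind J + Pi.single j 1 := by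
  funext k
  unfold ind
  rw [Pi.add_apply, Pi.single_apply]
  by_cases hk : k = j
  · rw [if_pos (by rw [hk]; exact Finset.mem_insert_self _ _), if_pos hk, if_neg (by rw [hk]; exact hj)]
  · rw [if_neg hk, add_zero]
    by_cases hk2 : k ∈ J
    · rw [if_pos hk2, if_pos (Finset.mem_insert_of_mem hk2)]
    · rw [if_neg hk2, if_neg (fun h => (Finset.mem_insert.mp h).elim hk hk2)]

theorem ind_empty : ind (∅ : Finset (Fin n)) = 0 := by
  funext k
  unfold ind
  rw [if_neg (Finset.notMem_empty k)]
  rfl

theorem ind_univ : ind (Finset.univ : Finset (Fin n)) = fun _ => 1 := by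
  funext k
  unfold ind
  rw [if_pos (Finset.mem_univ k)]

/-- lowering one entry. -/
def low (lam : Fin n → ℕ) (a : Fin n) : Fin n → ℕ := lam - Pi.single a 1

theorem low_apply (lam : Fin n → ℕ) (a i : Fin n) :
    low lam a i = if i = a then lam i - 1 else lam i := by
  unfold low
  rw [Pi.sub_apply, Pi.single_apply]
  split_ifs <;> rfl

theorem low_same (lam : Fin n → ℕ) (a : Fin n) : low lam a a = lam a - 1 := by
  rw [low_apply, if_pos rfl]

theorem low_ne (lam : Fin n → ℕ) {a i : Fin n} (h : i ≠ a) : low lam a i = lam i := by
  rw [low_apply, if_neg h]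

/-- the alternating sum. -/
noncomputable def Tsum (J : Finset (Fin n)) (lam : Fin n → ℕ) : ℤ :=
  ∑ κ : Equiv.Perm (Fin n),
    (if ∀ i, ((κ i : Fin n) : ℕ) ≤ lam i then
      (Equiv.Perm.sign κ : ℤ)
        * ((Tab (∅ : Finset (Fin n × Fin n)) (fun i => lam i - ((κ i : Fin n) : ℕ)) (ind J)).ncard : ℤ)
    else 0)

theorem Tsum_rec {J : Finset (Fin n)} {j : Fin n} (hj : j ∉ J) (lam : Fin n → ℕ) :
    Tsum (insert j J) lam
      = ∑ a, (if 1 ≤ lam a then Tsum J (low lam a) else 0) := by
  classical
  unfold Tsum
  have hJ : ind J j = 0 := by
    unfold ind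
    rw [if_neg hj]
  have e1 : ∀ κ : Equiv.Perm (Fin n),
      (if ∀ i, ((κ i : Fin n) : ℕ) ≤ lam i then
        (Equiv.Perm.sign κ : ℤ)
          * ((Tab (∅ : Finset (Fin n × Fin n)) (fun i => lam i - ((κ i : Fin n) : ℕ))
              (ind (insert j J))).ncard : ℤ)
      else 0)
      = ∑ a, (if (1 ≤ lam a ∧ ∀ i, ((κ i : Fin n) : ℕ) ≤ low lam a i) then
        (Equiv.Perm.sign κ : ℤ)
          * ((Tab (∅ : Finset (Fin n × Fin n))
              (fun i => low lam a i - ((κ i : Fin n) : ℕ)) (ind J)).ncard : ℤ)
        else 0) := by
    intro κ
    by_cases hκ : ∀ i, ((κ i : Fin n) : ℕ) ≤ lam i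
    · rw [if_pos hκ, ind_insert hj, col_rec_univ j (ind J) hJ]
      push_cast
      rw [Finset.mul_sum]
      apply Finset.sum_congr rfl
      intro a _
      by_cases ha : 1 ≤ lam a - ((κ a : Fin n) : ℕ)
      · have hc : 1 ≤ lam a ∧ ∀ i, ((κ i : Fin n) : ℕ) ≤ low lam a i := by
          refine ⟨by omega, ?_⟩
          intro i
          rw [low_apply]
          split_ifs with h
          · rw [h]
            omega
          · exact hκ i
        rw [if_pos ha, if_pos hc]
        have e : (fun i => lam i - ((κ i : Fin n) : ℕ)) - Pi.single a 1
            = fun i => low lam a i - ((κ i : Fin n) : ℕ) := by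
          funext i
          rw [Pi.sub_apply, low_apply, Pi.single_apply]
          split_ifs with h
          · omega
          · omega
        rw [e]
      · have hc : ¬ (1 ≤ lam a ∧ ∀ i, ((κ i : Fin n) : ℕ) ≤ low lam a i) := by
          rintro ⟨h1, h2⟩
          have := h2 a
          rw [low_same] at this
          omega
        rw [if_neg ha, if_neg hc]
        simp
    · rw [if_neg hκ]
      symm
      apply Finset.sum_eq_zero
      intro a _
      rw [if_neg]
      rintro ⟨h1, h2⟩
      apply hκ
      intro i
      have := h2 i
      rw [low_apply] at this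
      split_ifs at this <;> omega
  rw [Finset.sum_congr rfl (fun κ _ => e1 κ), Finset.sum_comm]
  apply Finset.sum_congr rfl
  intro a _
  by_cases ha : 1 ≤ lam a
  · rw [if_pos ha]
    apply Finset.sum_congr rfl
    intro κ _
    by_cases hκ : ∀ i, ((κ i : Fin n) : ℕ) ≤ low lam a i
    · rw [if_pos ⟨ha, hκ⟩, if_pos hκ]
    · rw [if_neg (fun h => hκ h.2), if_neg hκ]
  · rw [if_neg ha]
    apply Finset.sum_eq_zero
    intro κ _
    rw [if_neg (fun h => ha h.1)]

/-- the alternating sum vanishes when two entries coincide. -/
theorem Tsum_eq_zero (J : Finset (Fin n)) {lam : Fin n → ℕ} {a b : Fin n} (hab : a ≠ b)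
    (h : lam a = lam b) : Tsum J lam = 0 := by
  classical
  unfold Tsum
  have hlam : ∀ i, lam (Equiv.swap a b i) = lam i := by
    intro i
    by_cases h1 : i = a
    · rw [h1, Equiv.swap_apply_left, h]
    · by_cases h2 : i = b
      · rw [h2, Equiv.swap_apply_right, h]
      · rw [Equiv.swap_apply_of_ne_of_ne h1 h2]
  apply Finset.sum_involution (fun κ _ => κ * Equiv.swap a b)
  · intro κ _
    have hcond : (∀ i, (((κ * Equiv.swap a b) i : Fin n) : ℕ) ≤ lam i)
        ↔ ∀ i, ((κ i : Fin n) : ℕ) ≤ lam i := by
      constructor
      · intro h' i
        have := h' (Equiv.swap a b i)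
        rw [Equiv.Perm.mul_apply, Equiv.swap_apply_self, hlam] at this
        exact this
      · intro h' i
        have := h' (Equiv.swap a b i)
        rw [hlam] at this
        exact this
    by_cases hκ : ∀ i, ((κ i : Fin n) : ℕ) ≤ lam i
    · rw [if_pos hκ, if_pos (hcond.mpr hκ), Equiv.Perm.sign_mul, Equiv.Perm.sign_swap hab]
      have e : (fun i => lam i - (((κ * Equiv.swap a b) i : Fin n) : ℕ))
          = (fun i => lam i - ((κ i : Fin n) : ℕ)) ∘ (Equiv.swap a b) := by
        funext i
        simp only [Function.comp_apply, Equiv.Perm.mul_apply, hlam]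
      rw [e, ncard_Tab_comp]
      push_cast
      ring
    · rw [if_neg hκ, if_neg (fun h' => hκ (hcond.mp h')), add_zero]
  · intro κ _ _ h'
    have : Equiv.swap a b = 1 := by
      have := congrArg (fun x => κ⁻¹ * x) h'
      simpa using this
    have h2 := congrArg (fun f => f a) this
    simp only [Equiv.swap_apply_left, Equiv.Perm.one_apply] at h2
    exact hab h2.symm
  · intro κ _
    exact Finset.mem_univ _
  · intro κ _
    rw [mul_assoc, Equiv.swap_mul_self, mul_one]

/-- lowering one entry of a strictly increasing vector. -/
theorem strictMono_or_eq {lam : Fin n → ℕ} (h : StrictMono lam) (a : Fin n) (ha : 1 ≤ lam a) :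
    StrictMono (low lam a) ∨
      ∃ b, b ≠ a ∧ low lam a b = low lam a a := by
  classical
  by_cases hc : ∃ b, b < a ∧ lam b + 1 = lam a
  · right
    obtain ⟨b, hb, hb2⟩ := hc
    refine ⟨b, ne_of_lt hb, ?_⟩
    rw [low_same, low_ne lam (ne_of_lt hb)]
    omega
  · left
    push Not at hc
    intro i j hij
    have h1 := h hij
    rw [low_apply, low_apply]
    by_cases hj : j = a
    · have hi : i ≠ a := by
        rw [← hj]
        exact ne_of_lt hij
      rw [if_pos hj, if_neg hi]
      have := hc i (by rw [← hj]; exact hij)
      rw [← hj] at this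
      omega
    · rw [if_neg hj]
      split_ifs <;> omega

theorem Tsum_nonneg (J : Finset (Fin n)) :
    ∀ lam : Fin n → ℕ, StrictMono lam → 0 ≤ Tsum J lam := by
  classical
  induction J using Finset.induction_on with
  | empty =>
    intro lam h
    unfold Tsum
    apply Finset.sum_nonneg
    intro κ _
    split_ifs with hκ
    · rw [ind_empty, ncard_Tab_zero]
      split_ifs with h0
      · -- `κ = lam` pointwise, hence `κ` is the identity
        have hκl : ∀ i, lam i = ((κ i : Fin n) : ℕ) := by
          intro i
          have := congrFun h0 i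
          simp only [Pi.zero_apply] at this
          have := hκ i
          omega
        have hmono : StrictMono (κ : Fin n → Fin n) := by
          intro i j hij
          have := h hij
          rw [hκl i, hκl j] at this
          exact this
        have hr : Set.range (κ : Fin n → Fin n) = Set.range (id : Fin n → Fin n) := by
          rw [κ.surjective.range_eq, Set.range_id]
        have hid := (StrictMono.range_inj hmono strictMono_id).mp hr
        have : κ = 1 := by
          ext i
          rw [hid]
          rfl
        rw [this, Equiv.Perm.sign_one]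
        simp
      · simp
    · exact le_refl _
  | insert j J hj ih =>
    intro lam h
    rw [Tsum_rec hj]
    apply Finset.sum_nonneg
    intro a _
    split_ifs with ha
    · rcases strictMono_or_eq h a ha with h1 | ⟨b, hb, hb2⟩
      · exact ih _ h1
      · rw [Tsum_eq_zero J hb hb2]
    · exact le_refl _

theorem Tsum_pos (J : Finset (Fin n)) :
    ∀ lam : Fin n → ℕ, StrictMono lam → (∀ i : Fin n, i.val ≤ lam i) →
      ∑ i : Fin n, (lam i - i.val) = J.card → 0 < Tsum J lam := by
  classical
  induction J using Finset.induction_on with
  | empty =>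
    intro lam h hge hsum
    rw [Finset.card_empty, Finset.sum_eq_zero_iff] at hsum
    have hlam : ∀ i : Fin n, lam i = i.val := by
      intro i
      have := hsum i (Finset.mem_univ i)
      have := hge i
      omega
    unfold Tsum
    rw [Finset.sum_eq_single (1 : Equiv.Perm (Fin n))]
    · rw [if_pos (by intro i; rw [hlam i]; exact le_refl _), ind_empty, ncard_Tab_zero, if_pos]
      · simp
      · funext i
        simp only [Equiv.Perm.one_apply, Pi.zero_apply]
        rw [hlam i]
        omega
    · intro κ _ hκ
      split_ifs with hc
      · rw [ind_empty, ncard_Tab_zero, if_neg]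
        · simp
        · intro h0
          apply hκ
          ext i
          have := congrFun h0 i
          simp only [Pi.zero_apply] at this
          have h2 := hc i
          rw [hlam i] at this h2
          simp only [Equiv.Perm.one_apply]
          omega
      · rfl
    · intro h'
      exact absurd (Finset.mem_univ _) h'
  | insert j J hj ih =>
    intro lam h hge hsum
    rw [Finset.card_insert_of_notMem hj] at hsum
    -- a minimal index with `i < lam i`
    have hex : ∃ a : Fin n, a.val < lam a := by
      by_contra hc
      push Not at hc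
      have : ∑ i : Fin n, (lam i - i.val) = 0 := by
        apply Finset.sum_eq_zero
        intro i _
        have := hc i
        omega
      omega
    obtain ⟨a, ha, hmin⟩ : ∃ a : Fin n, a.val < lam a ∧ ∀ b : Fin n, b < a → lam b = b.val := by
      have hne : (Finset.univ.filter (fun a : Fin n => a.val < lam a)).Nonempty := by
        obtain ⟨a, ha⟩ := hex
        exact ⟨a, by simp [ha]⟩
      refine ⟨(Finset.univ.filter (fun a : Fin n => a.val < lam a)).min' hne, ?_, ?_⟩
      · have := Finset.min'_mem _ hne
        simpa using this
      · intro b hb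
        by_contra hc
        have hb2 : b ∈ Finset.univ.filter (fun a : Fin n => a.val < lam a) := by
          simp only [Finset.mem_filter, Finset.mem_univ, true_and]
          have := hge b
          omega
        have := Finset.min'_le _ b hb2
        exact absurd hb (not_lt.mpr this)
    have ha1 : 1 ≤ lam a := by omega
    have hmono : StrictMono (low lam a) := by
      intro i k hik
      have h1 := h hik
      rw [low_apply, low_apply]
      by_cases hk : k = a
      · have hi : i ≠ a := by
          rw [← hk]
          exact ne_of_lt hik
        rw [if_pos hk, if_neg hi, hmin i (by rw [← hk]; exact hik), hk]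
        have : i.val < a.val := by
          rw [← hk]
          exact hik
        omega
      · rw [if_neg hk]
        split_ifs <;> omega
    have hge' : ∀ i : Fin n, i.val ≤ low lam a i := by
      intro i
      rw [low_apply]
      split_ifs with hi
      · rw [hi]
        omega
      · exact hge i
    have hsum' : ∑ i : Fin n, (low lam a i - i.val) = J.card := by
      have e : ∑ i : Fin n, (lam i - i.val)
          = ∑ i : Fin n, ((low lam a i - i.val) + (Pi.single a 1 : Fin n → ℕ) i) := by
        apply Finset.sum_congr rfl
        intro i _
        rw [low_apply, Pi.single_apply]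
        split_ifs with hi
        · rw [hi]
          omega
        · omega
      rw [e, Finset.sum_add_distrib, Finset.sum_pi_single'] at hsum
      simp only [Finset.mem_univ, if_true] at hsum
      omega
    have hpos := ih _ hmono hge' hsum'
    rw [Tsum_rec hj]
    have hterm : ∀ b ∈ (Finset.univ : Finset (Fin n)),
        0 ≤ (if 1 ≤ lam b then Tsum J (low lam b) else 0) := by
      intro b _
      split_ifs with hb
      · rcases strictMono_or_eq h b hb with h1 | ⟨c, hc, hc2⟩
        · exact Tsum_nonneg J _ h1
        · rw [Tsum_eq_zero J hc hc2]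
      · exact le_refl _
    have := Finset.single_le_sum hterm (Finset.mem_univ a)
    rw [if_pos ha1] at this
    exact lt_of_lt_of_le hpos this

end Cfsg.Agent.Helper8.UniGL
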