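import Mathlib
import Cfsg.Agent.Helper8.UniGLF
import Cfsg.Agent.Helper8.UniGLH

set_option autoImplicit false
set_option linter.unusedSimpArgs false
set_option linter.unusedSectionVars false

/-! Unipotent characters of `GL_n(q)`: irreducibility (helper8). -/

namespace Cfsg.Agent.Helper8.UniGL

open Finset Cfsg Cfsg.Agent.Helper6
open scoped MatrixGroups ComplexConjugate

variable {F : Type*} [Field F] {n : ℕ} [Fintype (GL (Fin n) F)]

theorem classInner_term_borel {ν : Fin n → ℕ} (hν : ∑ i, ν i = n) (κ : Equiv.Perm (Fin n)) :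
    classInner (term F ν κ) (fixedPointCharacter (parabolicGL n F (fun _ => 1)))
      = (((if ∀ i, ((κ i : Fin n) : ℕ) ≤ lamOf ν i then
        (Equiv.Perm.sign κ : ℤ)
          * ((Tab (∅ : Finset (Fin n × Fin n)) (fun i => lamOf ν i - ((κ i : Fin n) : ℕ))
              (ind (Finset.univ : Finset (Fin n)))).ncard : ℤ)
        else 0 : ℤ)) : ℂ) := by
  have hone : ∑ _i : Fin n, (1 : ℕ) = n := by simp
  unfold term
  by_cases h1 : ∀ i : Fin n, (κ i).val ≤ ν i + i.val
  · have h1' : ∀ i, ((κ i : Fin n) : ℕ) ≤ lamOf ν i := h1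
    rw [if_pos h1, if_pos h1', classInner_smul_left,
      classInner_perm _ _ (sum_compOf hν h1) hone, ind_univ]
    push_cast
    rfl
  · have h1' : ¬ ∀ i, ((κ i : Fin n) : ℕ) ≤ lamOf ν i := h1
    rw [if_neg h1, if_neg h1', classInner_zero_left]
    simp

theorem classInner_unipotent_borel {ν : Fin n → ℕ} (hν : ∑ i, ν i = n) :
    classInner (unipotentCharacterGL n F ν) (fixedPointCharacter (parabolicGL n F (fun _ => 1)))
      = ((Tsum (Finset.univ : Finset (Fin n)) (lamOf ν) : ℤ) : ℂ) := by
  rw [unipotentCharacterGL_eq, classInner_sum_left,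
    Finset.sum_congr rfl (fun κ _ => classInner_term_borel hν κ)]
  unfold Tsum
  rw [Int.cast_sum]

/-- **The alternating sums of flag permutation characters are irreducible.** -/
theorem isIrr_unipotent {ν : Fin n → ℕ} (hm : Monotone ν) (hν : ∑ i, ν i = n) :
    IsIrrCharacter (GL (Fin n) F) (unipotentCharacterGL n F ν) := by
  have hgen := isGeneralizedCharacter_unipotent (F := F) ν
  have hnorm := classInner_unipotent (F := F) hm hν hm hν
  rw [if_pos rfl] at hnorm
  obtain ⟨χ, hχ, h | h⟩ := exists_signed_irr_of_norm_one hgen hnorm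
  · rw [h]
    exact hχ
  · exfalso
    have hpos : 0 < Tsum (Finset.univ : Finset (Fin n)) (lamOf ν) := by
      apply Tsum_pos _ _ (lamOf_strictMono hm)
      · intro i
        unfold lamOf
        omega
      · rw [Finset.card_univ, Fintype.card_fin]
        unfold lamOf
        simp only [Nat.add_sub_cancel]
        exact hν
    have h1 := classInner_unipotent_borel (F := F) hν
    obtain ⟨k, hk⟩ := classInner_irr_char_nat hχ
      (Cfsg.Agent.Lead.SteinChar.isCharacter_fixedPointCharacter
        (parabolicGL n F (fun _ => 1)))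
    rw [h, classInner_neg_left, hk] at h1
    have h2 : (-(k : ℤ)) = Tsum (Finset.univ : Finset (Fin n)) (lamOf ν) := by
      exact_mod_cast h1
    omega

end Cfsg.Agent.Helper8.UniGL
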