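import Mathlib
import Cfsg.Prelude.Def_ParabolicCharacters
import Cfsg.Agent.Helper8.FlagE

set_option autoImplicit false
set_option linter.unusedSectionVars false
set_option linter.unusedVariables false

/-!
Restriction of a coset permutation character along a homomorphism onto a transitive subgroup;
the parabolic permutation characters of `GL_n` restricted to `SL_n`.
-/

namespace Cfsg.Agent.Helper8.UniSL

open MulAction Matrix
open scoped MatrixGroups

/-- the comparison map of coset spaces. -/
def cosetMap {G G' : Type*} [Group G] [Group G'] (φ : G →* G') (H' : Subgroup G') :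
    G ⧸ H'.comap φ → G' ⧸ H' :=
  Quotient.map' φ (by
    intro a b hab
    rw [QuotientGroup.leftRel_apply] at hab ⊢
    rw [Subgroup.mem_comap, map_mul, map_inv] at hab
    exact hab)

theorem cosetMap_mk {G G' : Type*} [Group G] [Group G'] (φ : G →* G') (H' : Subgroup G') (a : G) :
    cosetMap φ H' (a : G ⧸ H'.comap φ) = ((φ a : G') : G' ⧸ H') := rfl

theorem cosetMap_injective {G G' : Type*} [Group G] [Group G'] (φ : G →* G') (H' : Subgroup G') :
    Function.Injective (cosetMap φ H') := by
  intro x y
  induction x using QuotientGroup.induction_on with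
  | _ a =>
    induction y using QuotientGroup.induction_on with
    | _ b =>
      intro h
      rw [cosetMap_mk, cosetMap_mk, QuotientGroup.eq] at h
      rw [QuotientGroup.eq, Subgroup.mem_comap, map_mul, map_inv]
      exact h

theorem cosetMap_smul {G G' : Type*} [Group G] [Group G'] (φ : G →* G') (H' : Subgroup G') (g : G)
    (x : G ⧸ H'.comap φ) : cosetMap φ H' (g • x) = φ g • cosetMap φ H' x := by
  induction x using QuotientGroup.induction_on with
  | _ a =>
    change cosetMap φ H' ((g * a : G) : G ⧸ H'.comap φ) = ((φ g * φ a : G') : G' ⧸ H')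
    rw [cosetMap_mk, map_mul]

theorem cosetMap_surjective {G G' : Type*} [Group G] [Group G'] (φ : G →* G') (H' : Subgroup G')
    (hsurj : ∀ g' : G', ∃ g : G, ∃ h ∈ H', g' = φ g * h) :
    Function.Surjective (cosetMap φ H') := by
  intro y
  induction y using QuotientGroup.induction_on with
  | _ b =>
    obtain ⟨a, h, hh, rfl⟩ := hsurj b
    refine ⟨(a : G ⧸ H'.comap φ), ?_⟩
    rw [cosetMap_mk, QuotientGroup.eq]
    have : (φ a)⁻¹ * (φ a * h) = h := by group
    rw [this]
    exact hh

/-- restriction of a coset permutation character to a subgroup which is still transitive. -/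
theorem fpc_comap {G G' : Type*} [Group G] [Group G'] (φ : G →* G') (H' : Subgroup G')
    (hsurj : ∀ g' : G', ∃ g : G, ∃ h ∈ H', g' = φ g * h) (g : G) :
    Cfsg.fixedPointCharacter (H'.comap φ) g = Cfsg.fixedPointCharacter H' (φ g) := by
  unfold Cfsg.fixedPointCharacter
  congr 1
  apply Nat.card_congr
  refine Equiv.ofBijective
    (fun x : fixedBy (G ⧸ H'.comap φ) g => (⟨cosetMap φ H' x.1, ?_⟩ : fixedBy (G' ⧸ H') (φ g)))
    ⟨?_, ?_⟩
  · rw [mem_fixedBy, ← cosetMap_smul, x.2]
  · intro x y h
    apply Subtype.ext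
    apply cosetMap_injective φ H'
    exact congrArg Subtype.val h
  · intro y
    obtain ⟨x, hx⟩ := cosetMap_surjective φ H' hsurj y.1
    refine ⟨⟨x, ?_⟩, Subtype.ext hx⟩
    rw [mem_fixedBy]
    apply cosetMap_injective φ H'
    rw [cosetMap_smul, hx]
    exact y.2

variable {F : Type*} [Field F] {n : ℕ}

open Cfsg.Agent.Helper8.Flag

/-- `GL_n = SL_n · P` for every standard parabolic subgroup `P`. -/
theorem GL_eq_SL_mul_par [NeZero n] (α : Fin n → ℕ) (g : GL (Fin n) F) :
    ∃ s : SpecialLinearGroup (Fin n) F, ∃ h ∈ Cfsg.parabolicGL n F α,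
      g = SpecialLinearGroup.toGL s * h := by
  let t : GL (Fin n) F := diagGL (tdet (n := n) (GeneralLinearGroup.det g))
  have hdet : GeneralLinearGroup.det (g * t⁻¹) = 1 := by
    rw [map_mul, map_inv, tdet_det, mul_inv_cancel]
  obtain ⟨s, hs⟩ := exists_SL_of_det (g * t⁻¹) hdet
  refine ⟨s, t, upper_mem_parabolic α (diagGL_upper _), ?_⟩
  rw [hs]
  group

/-- the parabolic permutation characters of `GL_n` restrict to those of `SL_n`. -/
theorem fpc_parSL [NeZero n] (α : Fin n → ℕ) (s : SpecialLinearGroup (Fin n) F) :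
    Cfsg.fixedPointCharacter (parSL n F α) s =
      Cfsg.fixedPointCharacter (Cfsg.parabolicGL n F α) (SpecialLinearGroup.toGL s) :=
  fpc_comap SpecialLinearGroup.toGL (Cfsg.parabolicGL n F α) (GL_eq_SL_mul_par α) s

end Cfsg.Agent.Helper8.UniSL
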