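import Mathlib
import Cfsg.Agent.Helper8.UniSLA
import Cfsg.Agent.Helper8.UniGLI

set_option autoImplicit false
set_option linter.unusedSimpArgs false
set_option linter.unusedSectionVars false
set_option linter.unusedVariables false

/-!
The partition-indexed characters of `GL_n(q)` restricted to `SL_n(q)` stay orthonormal, hence
irreducible: the inner products of the parabolic permutation characters are the same in both groups.
-/

namespace Cfsg.Agent.Helper8.UniSL

open Finset Cfsg Cfsg.Agent.Helper6 Cfsg.Agent.Helper8.UniGL Cfsg.Agent.Helper8.Flag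
open scoped MatrixGroups ComplexConjugate
open Matrix

variable {F : Type*} [Field F] [Fintype F] [DecidableEq F] {n : ℕ} [NeZero n]

/-- restriction of a function on `GL_n` to `SL_n`. -/
def resSL (f : GL (Fin n) F → ℂ) : SpecialLinearGroup (Fin n) F → ℂ :=
  fun s => f (SpecialLinearGroup.toGL s)

/-- a summand of the alternating sum, for `SL_n`. -/
noncomputable def termSL (F : Type*) [Field F] (ν : Fin n → ℕ) (κ : Equiv.Perm (Fin n)) :
    SpecialLinearGroup (Fin n) F → ℂ :=
  if ∀ i : Fin n, (κ i).val ≤ ν i + i.val then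
    ((Equiv.Perm.sign κ : ℤ) : ℂ) • fixedPointCharacter (parSL n F (compOf ν κ))
  else 0

theorem resSL_term (ν : Fin n → ℕ) (κ : Equiv.Perm (Fin n)) :
    resSL (term F ν κ) = termSL F ν κ := by
  funext s
  unfold resSL term termSL
  split_ifs with h
  · rw [Pi.smul_apply, Pi.smul_apply, fpc_parSL]
  · rfl

theorem resSL_unipotent (ν : Fin n → ℕ) :
    resSL (unipotentCharacterGL n F ν) = ∑ κ : Equiv.Perm (Fin n), termSL F ν κ := by
  rw [unipotentCharacterGL_eq]
  funext s
  unfold resSL
  rw [Finset.sum_apply, Finset.sum_apply]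
  apply Finset.sum_congr rfl
  intro κ _
  exact congrFun (resSL_term ν κ) s

theorem classInner_permSL (α β : Fin n → ℕ) (hα : ∑ i, α i = n) (hβ : ∑ i, β i = n) :
    classInner (fixedPointCharacter (parSL n F α)) (fixedPointCharacter (parSL n F β))
      = ((Tab (∅ : Finset (Fin n × Fin n)) α β).ncard : ℂ) := by
  rw [Cfsg.Agent.Lead.SteinChar.classInner_fixedPointCharacter, card_orbits_SL,
    Cfsg.Agent.Helper8.Flag.card_orbits_eq, card_young_orbits α β hα hβ]

theorem classInner_termSL {ν ν' : Fin n → ℕ} (hν : ∑ i, ν i = n) (hν' : ∑ i, ν' i = n)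
    (κ κ' : Equiv.Perm (Fin n)) :
    classInner (termSL F ν κ) (termSL F ν' κ')
      = (((if (∀ i, ((κ i : Fin n) : ℕ) ≤ lamOf ν i) ∧ (∀ j, ((κ' j : Fin n) : ℕ) ≤ lamOf ν' j) then
        (Equiv.Perm.sign κ : ℤ) * (Equiv.Perm.sign κ' : ℤ)
          * ((Tab (∅ : Finset (Fin n × Fin n)) (fun i => lamOf ν i - ((κ i : Fin n) : ℕ))
              (fun j => lamOf ν' j - ((κ' j : Fin n) : ℕ))).ncard : ℤ)
        else 0 : ℤ)) : ℂ) := by
  unfold termSL
  by_cases h1 : ∀ i : Fin n, (κ i).val ≤ ν i + i.val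
  · by_cases h2 : ∀ i : Fin n, (κ' i).val ≤ ν' i + i.val
    · rw [if_pos h1, if_pos h2, if_pos ⟨h1, h2⟩, classInner_smul_left, classInner_smul_right,
        classInner_permSL _ _ (sum_compOf hν h1) (sum_compOf hν' h2)]
      have : conj (((Equiv.Perm.sign κ' : ℤ) : ℂ)) = ((Equiv.Perm.sign κ' : ℤ) : ℂ) :=
        map_intCast (starRingEnd ℂ) _
      rw [this]
      push_cast
      unfold compOf lamOf
      ring
    · have hc : ¬ ((∀ i, ((κ i : Fin n) : ℕ) ≤ lamOf ν i)
          ∧ (∀ j, ((κ' j : Fin n) : ℕ) ≤ lamOf ν' j)) := fun h => h2 h.2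
      rw [if_neg h2, if_neg hc, classInner_zero_right]
      simp
  · have hc : ¬ ((∀ i, ((κ i : Fin n) : ℕ) ≤ lamOf ν i)
        ∧ (∀ j, ((κ' j : Fin n) : ℕ) ≤ lamOf ν' j)) := fun h => h1 h.1
    rw [if_neg h1, if_neg hc, classInner_zero_left]
    simp

/-- **Orthonormality over `SL_n`.** -/
theorem classInner_resSL {ν ν' : Fin n → ℕ} (hm : Monotone ν) (hν : ∑ i, ν i = n)
    (hm' : Monotone ν') (hν' : ∑ i, ν' i = n) :
    classInner (resSL (unipotentCharacterGL n F ν)) (resSL (unipotentCharacterGL n F ν'))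
      = if ν = ν' then 1 else 0 := by
  classical
  rw [resSL_unipotent, resSL_unipotent, classInner_sum_left]
  have e : ∀ κ ∈ (Finset.univ : Finset (Equiv.Perm (Fin n))),
      classInner (termSL F ν κ) (∑ κ' : Equiv.Perm (Fin n), termSL F ν' κ')
      = ∑ κ' : Equiv.Perm (Fin n), classInner (termSL F ν κ) (termSL F ν' κ') :=
    fun κ _ => classInner_sum_right _ _ _
  rw [Finset.sum_congr rfl e]
  have e2 : ∀ κ ∈ (Finset.univ : Finset (Equiv.Perm (Fin n))),
      ∀ κ' ∈ (Finset.univ : Finset (Equiv.Perm (Fin n))),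
      classInner (termSL F ν κ) (termSL F ν' κ') = _ :=
    fun κ _ κ' _ => classInner_termSL hν hν' κ κ'
  rw [Finset.sum_congr rfl (fun κ hκ => Finset.sum_congr rfl (e2 κ hκ))]
  have key := main_identity (lamOf_strictMono hm) (lamOf_strictMono hm')
  have key2 := congrArg (fun z : ℤ => (z : ℂ)) key
  simp only [Int.cast_sum] at key2
  rw [key2]
  by_cases h : ν = ν'
  · rw [if_pos h, if_pos (by rw [h])]
    simp
  · rw [if_neg h, if_neg (fun h' => h (lamOf_injective h'))]
    simp

/-- the restrictions to `SL_n` of the partition-indexed characters are characters. -/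
theorem isCharacter_resSL {ν : Fin n → ℕ} (hm : Monotone ν) (hν : ∑ i, ν i = n) :
    IsCharacter (SpecialLinearGroup (Fin n) F) (resSL (unipotentCharacterGL n F ν)) := by
  classical
  have : Fintype (GL (Fin n) F) := Fintype.ofFinite _
  have h := IsIrrCharacter.isCharacter (isIrr_unipotent (F := F) hm hν)
  exact IsCharacter.comp_hom SpecialLinearGroup.toGL h

/-- **The partition-indexed characters of `GL_n(q)` restrict irreducibly to `SL_n(q)`.** -/
theorem isIrr_resSL {ν : Fin n → ℕ} (hm : Monotone ν) (hν : ∑ i, ν i = n) :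
    IsIrrCharacter (SpecialLinearGroup (Fin n) F) (resSL (unipotentCharacterGL n F ν)) := by
  apply isIrrCharacter_of_classInner_self (isCharacter_resSL hm hν)
  rw [classInner_resSL hm hν hm hν, if_pos rfl]

end Cfsg.Agent.Helper8.UniSL
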