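import Mathlib
import Cfsg.Agent.Helper8.UniSLB
import Cfsg.Agent.S2425

set_option autoImplicit false
set_option linter.unusedSimpArgs false
set_option linter.unusedSectionVars false
set_option linter.unusedVariables false

/-!
The Steinberg character of `SL_n(q)`: the restriction of the Steinberg character of `GL_n(q)` is
irreducible of degree `q^(n(n-1)/2)`.
-/

namespace Cfsg.Agent.Helper8.UniSL

open Finset Cfsg Cfsg.Agent.Helper6 Cfsg.Agent.Helper8.UniGL Cfsg.Agent.Helper8.Flag Polynomial
open scoped MatrixGroups ComplexConjugate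
open Matrix

variable {F : Type*} [Field F] [Fintype F] [DecidableEq F] {n : ℕ}

/-- the degree of the Steinberg character of `GL_n(q)`. -/
theorem St_GL_one (p : ℕ) [Fact p.Prime] [CharP F p] :
    Cfsg.unipotentCharacterGL n F (fun _ => 1) 1 =
      ((Fintype.card F : ℕ) : ℂ) ^ (n * (n - 1) / 2) := by
  have h := Cfsg.Agent.S2425.result (F := F) (q := Fintype.card F) rfl p (n := n) (1 : GL (Fin n) F)
    (by rw [orderOf_one]; exact Nat.coprime_one_left p)
  rw [h]
  have hcp : ((1 : GL (Fin n) F) : Matrix (Fin n) (Fin n) F).charpoly = (X - C (1 : F)) ^ n := by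
    rw [Units.val_one, Matrix.charpoly_one]
    simp
  rw [hcp]
  have hnf : UniqueFactorizationMonoid.normalizedFactors ((X - C (1 : F)) ^ n) =
      n • {X - C (1 : F)} := by
    rw [UniqueFactorizationMonoid.normalizedFactors_pow,
      UniqueFactorizationMonoid.normalizedFactors_irreducible (irreducible_X_sub_C 1),
      (monic_X_sub_C (1 : F)).normalize_eq_self]
  rw [hnf]
  rcases Nat.eq_zero_or_pos n with rfl | hn
  · simp
  · have hfs : (n • ({X - C (1 : F)} : Multiset F[X])).toFinset = {X - C (1 : F)} := by
      rw [Multiset.toFinset_nsmul _ _ hn.ne']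
      rfl
    rw [hfs, Finset.prod_singleton, Multiset.count_nsmul, Multiset.count_singleton_self,
      natDegree_X_sub_C]
    simp

/-- the Steinberg character of `SL_n(q)`. -/
noncomputable def StSL (n : ℕ) (F : Type*) [Field F] : SpecialLinearGroup (Fin n) F → ℂ :=
  resSL (Cfsg.unipotentCharacterGL n F (fun _ => 1))

theorem isIrr_StSL [NeZero n] : IsIrrCharacter (SpecialLinearGroup (Fin n) F) (StSL n F) := by
  apply isIrr_resSL (F := F) (n := n) (ν := fun _ => 1)
  · intro a b _
    exact le_refl _
  · simp

theorem StSL_one (p : ℕ) [Fact p.Prime] [CharP F p] :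
    StSL n F 1 = ((Fintype.card F : ℕ) : ℂ) ^ (n * (n - 1) / 2) := by
  unfold StSL resSL
  rw [map_one]
  exact St_GL_one p

end Cfsg.Agent.Helper8.UniSL
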