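import Mathlib

set_option autoImplicit false

/-!
Linear algebra behind "an element of prime order `r` commuting with a nontrivial unipotent
element of `GL_n(q)` has `r ∣ q ^ i - 1` for some `1 ≤ i ≤ n - 2`" (counting fixed points).
-/

namespace Cfsg.Agent.Helper8.UnipComm

open Module

variable {F : Type*} [Field F] [Fintype F] {V : Type*} [AddCommGroup V] [Module F V]
  [FiniteDimensional F V]

/-- An invariant subspace, with no nonzero fixed vector, of an endomorphism of prime order `r`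
has cardinality `≡ 1` mod `r`. -/
theorem card_modEq_one (r : ℕ) [Fact r.Prime] (β : V →ₗ[F] V) (hβ : β ^ r = 1)
    (W : Submodule F V) (hW : ∀ w ∈ W, β w ∈ W) (hfix : ∀ w ∈ W, β w = w → w = 0) :
    Fintype.card F ^ finrank F W ≡ 1 [MOD r] := by
  classical
  haveI : Finite V := Module.finite_of_finite F
  haveI : Fintype W := Fintype.ofFinite W
  let f : Function.End W := fun w => ⟨β w, hW w w.2⟩
  have hpow : ∀ k : ℕ, ∀ w : W, ((f ^ k) w : V) = (β ^ k) w := by
    intro k
    induction k with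
    | zero => intro w; rfl
    | succ k ih =>
      intro w
      rw [pow_succ', pow_succ']
      change ((f ((f ^ k) w) : W) : V) = β ((β ^ k) w)
      rw [← ih w]
  have hf : f ^ r ^ 1 = 1 := by
    rw [pow_one]
    funext w
    apply Subtype.ext
    rw [hpow, hβ]
    rfl
  have h1 := Equiv.Perm.card_fixedPoints_modEq (p := r) (n := 1) hf
  have h2 : Fintype.card (Function.fixedPoints f) = 1 := by
    rw [Fintype.card_eq_one_iff]
    refine ⟨⟨0, ?_⟩, ?_⟩
    · change f 0 = 0
      apply Subtype.ext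
      change β ((0 : W) : V) = ((0 : W) : V)
      simp
    · rintro ⟨w, hw⟩
      apply Subtype.ext
      change w = 0
      have hw' : f w = w := hw
      have : β (w : V) = w := congrArg Subtype.val hw'
      exact Subtype.ext (hfix w w.2 this)
  rw [h2] at h1
  have h3 : Fintype.card W = Fintype.card F ^ finrank F W := by
    rw [Fintype.card_eq_nat_card, Module.natCard_eq_pow_finrank (K := F), Nat.card_eq_fintype_card]
  rw [← h3]
  exact h1

/-- A nilpotent endomorphism has a nonzero kernel vector on every nonzero invariant subspace. -/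
theorem exists_ker_of_nilpotent (N : V →ₗ[F] V) (k : ℕ) (hN : N ^ k = 0)
    (S : Submodule F V) (hS : ∀ s ∈ S, N s ∈ S) (hS0 : S ≠ ⊥) :
    S ⊓ LinearMap.ker N ≠ ⊥ := by
  intro h
  apply hS0
  rw [Submodule.eq_bot_iff]
  -- N is injective on S, so N^k is injective on S
  have hinj : ∀ j : ℕ, ∀ s ∈ S, (N ^ j) s = 0 → s = 0 := by
    intro j
    induction j with
    | zero => intro s _ hs; simpa using hs
    | succ j ih =>
      intro s hs h0
      rw [pow_succ'] at h0
      have h1 : (N ^ j) s ∈ S ⊓ LinearMap.ker N := by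
        refine ⟨?_, ?_⟩
        · clear h0 ih
          induction j with
          | zero => simpa using hs
          | succ j ih2 =>
            rw [pow_succ']
            exact hS _ ih2
        · change (N ^ j) s ∈ LinearMap.ker N
          rw [LinearMap.mem_ker]
          exact h0
      rw [h] at h1
      exact ih s hs ((Submodule.mem_bot F).mp h1)
  intro s hs
  apply hinj k s hs
  rw [hN]
  rfl

end Cfsg.Agent.Helper8.UnipComm

namespace Cfsg.Agent.Helper8.UnipComm

open Module

theorem exists_order (q r m k : ℕ) [Fact r.Prime] (hk : 1 ≤ k) (hq1 : 1 ≤ q)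
    (hq : q ^ k ≡ 1 [MOD r])
    (hr : ∀ i : ℕ, 1 ≤ i → i ≤ m → ¬ r ∣ q ^ i - 1) :
    ∃ d : ℕ, m < d ∧ ∀ j : ℕ, q ^ j ≡ 1 [MOD r] → d ∣ j := by
  have key : ∀ j : ℕ, q ^ j ≡ 1 [MOD r] → orderOf ((q : ℕ) : ZMod r) ∣ j := by
    intro j hj
    apply orderOf_dvd_of_pow_eq_one
    have := (ZMod.natCast_eq_natCast_iff (q ^ j) 1 r).mpr hj
    simpa using this
  refine ⟨orderOf ((q : ℕ) : ZMod r), ?_, key⟩
  have hd := key k hq
  have hd0 : orderOf ((q : ℕ) : ZMod r) ≠ 0 := by
    intro h0
    rw [h0] at hd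
    have := Nat.eq_zero_of_zero_dvd hd
    omega
  by_contra hle
  rw [not_lt] at hle
  apply hr _ (Nat.one_le_iff_ne_zero.mpr hd0) hle
  have h1 : ((q : ℕ) : ZMod r) ^ orderOf ((q : ℕ) : ZMod r) = 1 := pow_orderOf_eq_one _
  have h2 : ((q ^ orderOf ((q : ℕ) : ZMod r) : ℕ) : ZMod r) = ((1 : ℕ) : ZMod r) := by
    push_cast
    exact h1
  have h3 := (ZMod.natCast_eq_natCast_iff _ _ _).mp h2
  exact (Nat.modEq_iff_dvd' (Nat.one_le_pow _ _ hq1)).mp h3.symm

variable {F : Type*} [Field F] [Fintype F] {V : Type*} [AddCommGroup V] [Module F V]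
  [FiniteDimensional F V]

theorem false_of_commute (n : ℕ) (hn : 3 ≤ n) (hV : finrank F V = n) (p r : ℕ) [Fact r.Prime]
    (hrF : (r : F) ≠ 0)
    (U β : V →ₗ[F] V) (hU : (U - 1) ^ p = 0) (hU1 : U ≠ 1) (hβ : β ^ r = 1) (hβ1 : β ≠ 1)
    (hcomm : Commute U β)
    (hr : ∀ i : ℕ, 1 ≤ i → i ≤ n - 2 → ¬ r ∣ Fintype.card F ^ i - 1) : False := by
  classical
  set e₀ : V →ₗ[F] V := (r : F)⁻¹ • ∑ i ∈ Finset.range r, β ^ i with he₀
  have hβe : β * e₀ = e₀ := by
    rw [he₀, mul_smul_comm, Finset.mul_sum]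
    congr 1
    have h1 : ∑ i ∈ Finset.range r, β * β ^ i = ∑ i ∈ Finset.range r, β ^ (i + 1) := by
      apply Finset.sum_congr rfl
      intro i _
      rw [pow_succ']
    rw [h1]
    have h2 := Finset.sum_range_succ (fun i => β ^ i) r
    have h3 := Finset.sum_range_succ' (fun i => β ^ i) r
    rw [h2] at h3
    simp only [pow_zero, hβ] at h3
    exact (add_right_cancel h3).symm
  have hβe_c : Commute β e₀ := by
    rw [he₀]
    apply Commute.smul_right
    apply Commute.sum_right
    intro i _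
    exact (Commute.refl β).pow_right i
  have hUe_c : Commute U e₀ := by
    rw [he₀]
    apply Commute.smul_right
    apply Commute.sum_right
    intro i _
    exact hcomm.pow_right i
  set V₀ : Submodule F V := LinearMap.ker (β - 1) with hV₀
  set W : Submodule F V := LinearMap.ker e₀ with hW
  have memV₀ : ∀ v : V, v ∈ V₀ ↔ β v = v := by
    intro v
    rw [hV₀, LinearMap.mem_ker, LinearMap.sub_apply, sub_eq_zero]
    rfl
  have memW : ∀ v : V, v ∈ W ↔ e₀ v = 0 := by
    intro v
    rw [hW, LinearMap.mem_ker]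
  have he₀V₀ : ∀ v : V, e₀ v ∈ V₀ := by
    intro v
    rw [memV₀]
    change (β * e₀) v = e₀ v
    rw [hβe]
  have hpowfix : ∀ v : V, β v = v → ∀ i : ℕ, (β ^ i) v = v := by
    intro v hv i
    induction i with
    | zero => rfl
    | succ i ih =>
      rw [pow_succ]
      change (β ^ i) (β v) = v
      rw [hv, ih]
  have he₀fix : ∀ v ∈ V₀, e₀ v = v := by
    intro v hv
    rw [memV₀] at hv
    rw [he₀, LinearMap.smul_apply, LinearMap.sum_apply]
    rw [Finset.sum_congr rfl (fun i _ => hpowfix v hv i)]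
    rw [Finset.sum_const, Finset.card_range, ← Nat.cast_smul_eq_nsmul F, smul_smul,
      inv_mul_cancel₀ hrF, one_smul]
  have hdisj : V₀ ⊓ W = ⊥ := by
    rw [Submodule.eq_bot_iff]
    rintro v ⟨h1, h2⟩
    have := he₀fix v h1
    rw [(memW v).mp h2] at this
    exact this.symm
  have hsup : V₀ ⊔ W = ⊤ := by
    rw [eq_top_iff]
    intro v _
    have : v = e₀ v + (v - e₀ v) := by abel
    rw [this]
    apply Submodule.add_mem_sup (he₀V₀ v)
    rw [memW, map_sub, he₀fix _ (he₀V₀ v), sub_self]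
  have hcompl : IsCompl V₀ W := ⟨disjoint_iff.mpr hdisj, codisjoint_iff.mpr hsup⟩
  have hdim : finrank F V₀ + finrank F W = n := by
    rw [← hV]
    exact Submodule.finrank_add_eq_of_isCompl hcompl
  -- invariance
  have hWβ : ∀ w ∈ W, β w ∈ W := by
    intro w hw
    rw [memW] at hw ⊢
    change (e₀ * β) w = 0
    rw [← hβe_c.eq]
    change β (e₀ w) = 0
    rw [hw, map_zero]
  have hWU : ∀ w ∈ W, U w ∈ W := by
    intro w hw
    rw [memW] at hw ⊢
    change (e₀ * U) w = 0
    rw [← hUe_c.eq]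
    change U (e₀ w) = 0
    rw [hw, map_zero]
  have hV₀U : ∀ v ∈ V₀, U v ∈ V₀ := by
    intro v hv
    rw [memV₀] at hv ⊢
    change (β * U) v = U v
    rw [← hcomm.eq]
    change U (β v) = U v
    rw [hv]
  have hWfix : ∀ w ∈ W, β w = w → w = 0 := by
    intro w hw hfix
    have : w ∈ V₀ ⊓ W := ⟨(memV₀ w).mpr hfix, hw⟩
    rw [hdisj] at this
    exact (Submodule.mem_bot F).mp this
  -- W ≠ ⊥
  have hW0 : W ≠ ⊥ := by
    intro h0
    rw [h0, sup_bot_eq] at hsup
    apply hβ1
    ext v
    have : v ∈ V₀ := by rw [hsup]; trivial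
    exact (memV₀ v).mp this
  have he1 : 1 ≤ finrank F W := by
    rw [Nat.one_le_iff_ne_zero]
    intro h0
    exact hW0 (Submodule.finrank_eq_zero.mp h0)
  have hq1 : 1 ≤ Fintype.card F := Fintype.card_pos
  obtain ⟨d, hd, hdvd⟩ := exists_order (Fintype.card F) r (n - 2) (finrank F W) he1 hq1
    (card_modEq_one r β hβ W hWβ hWfix) hr
  have hdW : d ∣ finrank F W := hdvd _ (card_modEq_one r β hβ W hWβ hWfix)
  have heq : finrank F W = d := by
    obtain ⟨k, hk⟩ := hdW
    have hle : finrank F W ≤ n := by omega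
    rcases k with _ | _ | k
    · omega
    · omega
    · exfalso
      have : d * (k + 1 + 1) = d * k + 2 * d := by ring
      omega
  -- the kernel of U - 1 on W
  set K : Submodule F V := LinearMap.ker (U - 1) with hK
  have memK : ∀ v : V, v ∈ K ↔ U v = v := by
    intro v
    rw [hK, LinearMap.mem_ker, LinearMap.sub_apply, sub_eq_zero]
    rfl
  have hKβ : ∀ v ∈ K, β v ∈ K := by
    intro v hv
    rw [memK] at hv ⊢
    change (U * β) v = β v
    rw [hcomm.eq]
    change β (U v) = β v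
    rw [hv]
  have hN_W : ∀ w ∈ W, (U - 1) w ∈ W := by
    intro w hw
    rw [LinearMap.sub_apply]
    exact W.sub_mem (hWU w hw) hw
  have hN_V₀ : ∀ w ∈ V₀, (U - 1) w ∈ V₀ := by
    intro w hw
    rw [LinearMap.sub_apply]
    exact V₀.sub_mem (hV₀U w hw) hw
  have hWK0 : W ⊓ K ≠ ⊥ := exists_ker_of_nilpotent (U - 1) p hU W hN_W hW0
  have hc1 : 1 ≤ finrank F ↥(W ⊓ K) := by
    rw [Nat.one_le_iff_ne_zero]
    intro h0
    exact hWK0 (Submodule.finrank_eq_zero.mp h0)
  have hWKβ : ∀ w ∈ W ⊓ K, β w ∈ W ⊓ K := fun w hw => ⟨hWβ w hw.1, hKβ w hw.2⟩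
  have hWKfix : ∀ w ∈ W ⊓ K, β w = w → w = 0 := fun w hw => hWfix w hw.1
  have hdc : d ∣ finrank F ↥(W ⊓ K) := hdvd _ (card_modEq_one r β hβ (W ⊓ K) hWKβ hWKfix)
  have hcle : finrank F ↥(W ⊓ K) ≤ finrank F W := Submodule.finrank_mono inf_le_left
  have hceq : finrank F ↥(W ⊓ K) = finrank F W := by
    have := Nat.le_of_dvd (by omega) hdc
    omega
  have hWK : W ⊓ K = W := Submodule.eq_of_le_of_finrank_eq inf_le_left hceq
  have hWleK : W ≤ K := by rw [← hWK]; exact inf_le_right
  have hV₀leK : V₀ ≤ K := by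
    by_cases h0 : V₀ = ⊥
    · rw [h0]; exact bot_le
    · have h1 := exists_ker_of_nilpotent (U - 1) p hU V₀ hN_V₀ h0
      have h2 : 1 ≤ finrank F ↥(V₀ ⊓ K) := by
        rw [Nat.one_le_iff_ne_zero]
        intro h0
        exact h1 (Submodule.finrank_eq_zero.mp h0)
      have h3 : finrank F ↥(V₀ ⊓ K) ≤ finrank F V₀ := Submodule.finrank_mono inf_le_left
      have h4 : V₀ ⊓ K = V₀ := Submodule.eq_of_le_of_finrank_eq inf_le_left (by omega)
      rw [← h4]; exact inf_le_right
  have hKtop : K = ⊤ := by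
    rw [eq_top_iff, ← hsup]
    exact sup_le hV₀leK hWleK
  apply hU1
  ext v
  have : v ∈ K := by rw [hKtop]; trivial
  exact (memK v).mp this

end Cfsg.Agent.Helper8.UnipComm
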