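import Mathlib
import Cfsg.Agent.Helper8.QFactorial
import Cfsg.Prelude.Def_LinearParabolics

set_option autoImplicit false

/-! The degrees of the partition-indexed characters of `GL_n(q)`. -/

namespace Cfsg.Agent.Helper8.Parab

open Matrix Polynomial

/-- The determinant of falling q-factorials. -/
theorem det_ff (q n : ℕ) (lam : Fin n → ℕ) :
    (q : ℂ) ^ (n * (n - 1) * (n - 2) / 6)
        * (Matrix.of fun (i j : Fin n) => (ff q (lam i) j.val : ℂ)).det
      = ∏ i : Fin n, ∏ j ∈ Finset.univ.filter (fun j : Fin n => i < j),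
          ((gs q (lam j) : ℂ) - (gs q (lam i) : ℂ)) := by
  set x : Fin n → ℂ := fun i => (gs q (lam i) : ℂ) with hx
  set P : Fin n → ℂ[X] := fun j => ∏ t ∈ Finset.range j.val, (X - C ((gs q t : ℕ) : ℂ)) with hP
  have hmonic : ∀ j, (P j).Monic := by
    intro j
    apply monic_prod_of_monic
    intro t _
    exact monic_X_sub_C _
  have hdeg : ∀ j, (P j).natDegree = j.val := by
    intro j
    rw [hP]
    simp only
    rw [natDegree_prod_of_monic _ _ (fun t _ => monic_X_sub_C _),
      Finset.sum_congr rfl (fun t _ => natDegree_X_sub_C _), Finset.sum_const, Finset.card_range,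
      smul_eq_mul, mul_one]
  have h1 := det_eval_matrixOfPolynomials_eq_det_vandermonde x P hdeg hmonic
  rw [det_vandermonde] at h1
  have h2 : (Matrix.of fun (i j : Fin n) => eval (x i) (P j))
      = Matrix.of fun (i j : Fin n) => (q : ℂ) ^ (∑ t ∈ Finset.range j.val, t)
          * (Matrix.of fun (i j : Fin n) => (ff q (lam i) j.val : ℂ)) i j := by
    ext i j
    simp only [Matrix.of_apply]
    rw [ff_cast, hP]
    simp only
    rw [eval_prod]
    apply Finset.prod_congr rfl
    intro t _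
    rw [eval_sub, eval_X, eval_C]
  rw [h2, det_mul_row, Finset.prod_pow_eq_pow_sum,
    Fin.sum_univ_eq_sum_range (fun j => ∑ t ∈ Finset.range j, t) n, sum_tri] at h1
  rw [← h1]
  apply Finset.prod_congr rfl
  intro i _
  apply Finset.prod_congr _ (fun _ _ => rfl)
  ext j
  simp

variable {F : Type*} [Field F] [Fintype F] {n : ℕ}

theorem fixedPointCharacter_one {G : Type*} [Group G] (H : Subgroup G) :
    Cfsg.fixedPointCharacter H 1 = (Nat.card (G ⧸ H) : ℂ) := by
  unfold Cfsg.fixedPointCharacter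
  congr 1
  have : MulAction.fixedBy (G ⧸ H) (1 : G) = Set.univ := by
    ext x
    simp
  rw [this]
  exact Nat.card_congr (Equiv.Set.univ _)

theorem term_eq {q : ℕ} (hq : Fintype.card F = q) (ν : Fin n → ℕ) (hsum : ∑ i, ν i = n)
    (κ : Equiv.Perm (Fin n)) :
    (if ∀ i : Fin n, (κ i).val ≤ ν i + i.val then
        ((Equiv.Perm.sign κ : ℤ) : ℂ)
          * Cfsg.fixedPointCharacter (Cfsg.parabolicGL n F fun i => ν i + i.val - (κ i).val) 1
      else 0) * ∏ i : Fin n, (Qf q (ν i + i.val) : ℂ)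
      = ((Equiv.Perm.sign κ : ℤ) : ℂ) * ((Qf q n : ℂ)
          * ∏ i : Fin n, (ff q (ν i + i.val) (κ i).val : ℂ)) := by
  split_ifs with hc
  · rw [fixedPointCharacter_one]
    have hμ : ∑ i : Fin n, (ν i + i.val - (κ i).val) = n := by
      have h1 : ∑ i : Fin n, (ν i + i.val - (κ i).val) + ∑ i : Fin n, (κ i).val
          = ∑ i : Fin n, ν i + ∑ i : Fin n, i.val := by
        rw [← Finset.sum_add_distrib, ← Finset.sum_add_distrib]
        apply Finset.sum_congr rfl
        intro i _
        exact Nat.sub_add_cancel (hc i)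
      have h2 : ∑ i : Fin n, (κ i).val = ∑ i : Fin n, i.val :=
        Equiv.sum_comp κ (fun i : Fin n => i.val)
      omega
    have hidx := index_main hq (fun i => ν i + i.val - (κ i).val) hμ
    have hsplit : ∏ i : Fin n, Qf q (ν i + i.val)
        = (∏ i : Fin n, Qf q (ν i + i.val - (κ i).val))
          * ∏ i : Fin n, ff q (ν i + i.val) (κ i).val := by
      rw [← Finset.prod_mul_distrib]
      apply Finset.prod_congr rfl
      intro i _
      exact Qf_split q _ _ (hc i)
    have hnat : Nat.card (GL (Fin n) F ⧸ Cfsg.parabolicGL n F fun i => ν i + i.val - (κ i).val)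
        * ∏ i : Fin n, Qf q (ν i + i.val)
        = Qf q n * ∏ i : Fin n, ff q (ν i + i.val) (κ i).val := by
      rw [hsplit, ← mul_assoc]
      congr 1
    have hC := congrArg (fun m : ℕ => (m : ℂ)) hnat
    simp only [Nat.cast_mul, Nat.cast_prod] at hC
    rw [mul_assoc, hC]
  · rw [zero_mul]
    push Not at hc
    obtain ⟨i, hi⟩ := hc
    have : ∏ i : Fin n, (ff q (ν i + i.val) (κ i).val : ℂ) = 0 := by
      apply Finset.prod_eq_zero (Finset.mem_univ i)
      rw [ff_eq_zero q _ _ hi, Nat.cast_zero]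
    rw [this, mul_zero, mul_zero]

theorem degree_main {q : ℕ} (hq : Fintype.card F = q) (ν : Fin n → ℕ) (hsum : ∑ i, ν i = n) :
    Cfsg.unipotentCharacterGL n F ν 1 * (q : ℂ) ^ (n * (n - 1) * (n - 2) / 6) *
        ∏ i : Fin n, ∏ j ∈ Finset.range (ν i + i.val),
          ((∑ l ∈ Finset.range (j + 1), q ^ l : ℕ) : ℂ) =
      (∏ j ∈ Finset.range n, ((∑ l ∈ Finset.range (j + 1), q ^ l : ℕ) : ℂ)) *
        ∏ i : Fin n, ∏ j ∈ Finset.univ.filter (fun j : Fin n => i < j),
          (((∑ l ∈ Finset.range (ν j + j.val), q ^ l : ℕ) : ℂ)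
            - ((∑ l ∈ Finset.range (ν i + i.val), q ^ l : ℕ) : ℂ)) := by
  have hL : ∀ i : Fin n, ∏ j ∈ Finset.range (ν i + i.val),
      ((∑ l ∈ Finset.range (j + 1), q ^ l : ℕ) : ℂ) = (Qf q (ν i + i.val) : ℂ) := by
    intro i
    unfold Qf gs
    rw [Nat.cast_prod]
  have hR : ∏ j ∈ Finset.range n, ((∑ l ∈ Finset.range (j + 1), q ^ l : ℕ) : ℂ) = (Qf q n : ℂ) := by
    unfold Qf gs
    rw [Nat.cast_prod]
  rw [Finset.prod_congr rfl (fun i _ => hL i), hR]
  have hdet := det_ff q n (fun i => ν i + i.val)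
  have hdet' : ∏ i : Fin n, ∏ j ∈ Finset.univ.filter (fun j : Fin n => i < j),
      (((∑ l ∈ Finset.range (ν j + j.val), q ^ l : ℕ) : ℂ)
        - ((∑ l ∈ Finset.range (ν i + i.val), q ^ l : ℕ) : ℂ))
      = (q : ℂ) ^ (n * (n - 1) * (n - 2) / 6)
        * (Matrix.of fun (i j : Fin n) => (ff q (ν i + i.val) j.val : ℂ)).det := hdet.symm
  rw [hdet']
  -- expand the character
  have hchar : Cfsg.unipotentCharacterGL n F ν 1 * ∏ i : Fin n, (Qf q (ν i + i.val) : ℂ)
      = (Qf q n : ℂ) * (Matrix.of fun (i j : Fin n) => (ff q (ν i + i.val) j.val : ℂ)).det := by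
    unfold Cfsg.unipotentCharacterGL
    rw [Finset.sum_mul, Finset.sum_congr rfl (fun κ _ => term_eq hq ν hsum κ),
      ← Matrix.det_transpose, Matrix.det_apply', Finset.mul_sum]
    apply Finset.sum_congr rfl
    intro κ _
    simp only [Matrix.transpose_apply, Matrix.of_apply]
    ring
  calc Cfsg.unipotentCharacterGL n F ν 1 * (q : ℂ) ^ (n * (n - 1) * (n - 2) / 6)
        * ∏ i : Fin n, (Qf q (ν i + i.val) : ℂ)
      = (q : ℂ) ^ (n * (n - 1) * (n - 2) / 6)
        * (Cfsg.unipotentCharacterGL n F ν 1 * ∏ i : Fin n, (Qf q (ν i + i.val) : ℂ)) := by ring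
    _ = _ := by rw [hchar]; ring

end Cfsg.Agent.Helper8.Parab
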