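import Mathlib
import Cfsg.Agent.Helper8.UnitComA
import Cfsg.Agent.Helper8.UnipCommute

set_option autoImplicit false

/-!
Tools for commuting isometries of a Hermitian space: invariant complements, the restriction step
and the counting step.
-/

namespace Cfsg.Agent.Helper8.UnitCom

open Matrix Cfsg Cfsg.Agent.Helper7.Herm Cfsg.Agent.Helper8.GUOrder Cfsg.Agent.Helper8.AutSU
open Module Polynomial

variable {F : Type*} [Field F] [Fintype F] {q : ℕ} [hF : Fact (Fintype.card F = q ^ 2)]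
variable {V : Type*} [AddCommGroup V] [Module F V] [FiniteDimensional F V]

omit [Fintype F] in
/-- Maschke's theorem for a cyclic group, inside an invariant subspace -/
theorem exists_invariant_compl (β : V →ₗ[F] V) (r : ℕ) (hβ : β ^ r = 1) (hrF : (r : F) ≠ 0)
    (R U : Submodule F V) (hRU : R ≤ U) (hR : ∀ x ∈ R, β x ∈ R) (hU : ∀ x ∈ U, β x ∈ U) :
    ∃ S : Submodule F V, S ≤ U ∧ (∀ x ∈ S, β x ∈ S) ∧ R ⊓ S = ⊥ ∧ R ⊔ S = U := by
  have hsep : (X ^ r - 1 : F[X]).Separable := X_pow_sub_one_separable_iff.2 hrF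
  have hss : Module.End.IsSemisimple β := by
    apply Module.End.isSemisimple_of_squarefree_aeval_eq_zero hsep.squarefree
    rw [map_sub, map_pow, aeval_X, map_one, hβ, sub_self]
  have hR' : R ∈ Module.End.invtSubmodule β := by
    rw [Module.End.mem_invtSubmodule]
    intro x hx
    exact hR x hx
  obtain ⟨S₀, hS₀, hc⟩ := (Module.End.isSemisimple_iff.1 hss) R hR'
  rw [Module.End.mem_invtSubmodule] at hS₀
  refine ⟨S₀ ⊓ U, inf_le_right, ?_, ?_, ?_⟩
  · intro x hx
    exact ⟨hS₀ hx.1, hU x hx.2⟩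
  · rw [← inf_assoc, hc.inf_eq_bot, bot_inf_eq]
  · rw [← sup_inf_assoc_of_le S₀ hRU, hc.sup_eq_top, top_inf_eq]

/-- the restriction step -/
theorem bound_of_restrict (β : V →ₗ[F] V) (r : ℕ) [hr : Fact r.Prime] (hβ : β ^ r = 1)
    (hrq : ¬ r ∣ q) (T : Submodule F V)
    (hT : ∀ x ∈ T, β x ∈ T) (hT0 : T ≠ ⊥) (hfree : ∀ x ∈ T, β x = x → x = 0)
    (H : V →ₛₗ[frobq F q] V →ₗ[F] F)
    (hHsymm : ∀ x ∈ T, ∀ y ∈ T, frobq F q (H x y) = H y x)
    (hHnd : ∀ x ∈ T, (∀ y ∈ T, H x y = 0) → x = 0)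
    (hHβ : ∀ x ∈ T, ∀ y ∈ T, H (β x) (β y) = H x y) :
    ∃ i, 1 ≤ i ∧ i ≤ finrank F T ∧ r ∣ tw q i := by
  have hsymm : (H.domRestrict₁₂ T T).IsSymm := ⟨fun x y => hHsymm x x.2 y y.2⟩
  have hnd : (H.domRestrict₁₂ T T).Nondegenerate := by
    constructor
    · intro x hx
      apply Subtype.ext
      exact hHnd x x.2 (fun y hy => hx ⟨y, hy⟩)
    · intro y hy
      apply Subtype.ext
      apply hHnd y y.2
      intro x hx
      have h1 : H x y = 0 := hy ⟨x, hx⟩
      rw [← hHsymm x hx y y.2, h1, map_zero]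
  let g : T →ₗ[F] T := β.restrict hT
  have hpow : ∀ k : ℕ, ∀ x : T, ((g ^ k) x : V) = (β ^ k) x := by
    intro k
    induction k with
    | zero => intro x; rfl
    | succ k ih =>
      intro x
      rw [pow_succ', pow_succ']
      change ((g ((g ^ k) x) : T) : V) = β ((β ^ k) x)
      rw [← ih x]
      rfl
  have hgr : g ^ r = 1 := by
    apply LinearMap.ext
    intro x
    apply Subtype.ext
    rw [hpow, hβ]
    rfl
  have hg1 : g ≠ 1 := by
    intro e
    apply hT0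
    rw [Submodule.eq_bot_iff]
    intro x hx
    apply hfree x hx
    have := congrArg (fun f : T →ₗ[F] T => ((f ⟨x, hx⟩ : T) : V)) e
    exact this
  exact order_bound (H.domRestrict₁₂ T T) hsymm hnd g
    (fun x y => hHβ x x.2 y y.2) r hrq hgr hg1

/-- the counting step -/
theorem dvd_tw_two_mul (β : V →ₗ[F] V) (r : ℕ) [hr : Fact r.Prime] (hβ : β ^ r = 1)
    (S : Submodule F V) (hS : ∀ x ∈ S, β x ∈ S) (hfree : ∀ x ∈ S, β x = x → x = 0) :
    r ∣ tw q (2 * finrank F S) := by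
  have h1 := Cfsg.Agent.Helper8.UnipComm.card_modEq_one r β hβ S hS hfree
  rw [hF.out, ← pow_mul] at h1
  unfold tw
  rw [if_pos (even_two_mul _)]
  have hq1 : 1 ≤ q := one_le_q hF.out
  exact (Nat.modEq_iff_dvd' (Nat.one_le_pow _ _ hq1)).mp h1.symm

end Cfsg.Agent.Helper8.UnitCom
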