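import Mathlib
import Cfsg.Agent.Helper8.UnitComB

set_option autoImplicit false

/-!
A non-trivial unipotent isometry of an `m`-dimensional Hermitian space over the field with `q²`
elements does not commute with an isometry of prime order `r` unless `r` divides `q` or
`q ^ i - (-1) ^ i` for some `1 ≤ i ≤ m - 2`.
-/

namespace Cfsg.Agent.Helper8.UnitCom

open Matrix Cfsg Cfsg.Agent.Helper7.Herm Cfsg.Agent.Helper8.GUOrder Cfsg.Agent.Helper8.AutSU
open Module

variable {F : Type*} [Field F] [Fintype F] {q : ℕ} [hF : Fact (Fintype.card F = q ^ 2)]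
variable {V : Type*} [AddCommGroup V] [Module F V] [FiniteDimensional F V]

omit [Fintype F] [FiniteDimensional F V] in
/-- the fixed space of a semisimple element of order `r` and its invariant complement -/
theorem fix_decomp (β : V →ₗ[F] V) (r : ℕ) (hβ : β ^ r = 1) (hrF : (r : F) ≠ 0) :
    ∃ V₀ W : Submodule F V, IsCompl V₀ W ∧ (∀ v, v ∈ V₀ ↔ β v = v) ∧
      (∀ w, w ∈ W ↔ (∑ i ∈ Finset.range r, β ^ i) w = 0) ∧
      (∀ T : V →ₗ[F] V, Commute T β → (∀ w ∈ W, T w ∈ W) ∧ (∀ v ∈ V₀, T v ∈ V₀)) := by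
  classical
  set s : V →ₗ[F] V := ∑ i ∈ Finset.range r, β ^ i with hs
  set e₀ : V →ₗ[F] V := (r : F)⁻¹ • s with he₀
  have hβs : β * s = s := by
    rw [hs, Finset.mul_sum]
    have h1 : ∑ i ∈ Finset.range r, β * β ^ i = ∑ i ∈ Finset.range r, β ^ (i + 1) := by
      apply Finset.sum_congr rfl
      intro i _
      rw [pow_succ']
    rw [h1]
    have h2 := Finset.sum_range_succ (fun i => β ^ i) r
    have h3 := Finset.sum_range_succ' (fun i => β ^ i) r
    rw [h2] at h3
    simp only [pow_zero, hβ] at h3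
    exact (add_right_cancel h3).symm
  have hβe : β * e₀ = e₀ := by rw [he₀, mul_smul_comm, hβs]
  have hcs : ∀ T : V →ₗ[F] V, Commute T β → Commute T s := by
    intro T hT
    rw [hs]
    apply Commute.sum_right
    intro i _
    exact hT.pow_right i
  set V₀ : Submodule F V := LinearMap.ker (β - 1) with hV₀
  set W : Submodule F V := LinearMap.ker s with hW
  have memV₀ : ∀ v : V, v ∈ V₀ ↔ β v = v := by
    intro v
    rw [hV₀, LinearMap.mem_ker, LinearMap.sub_apply, sub_eq_zero]
    rfl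
  have memW : ∀ v : V, v ∈ W ↔ s v = 0 := by
    intro v
    rw [hW, LinearMap.mem_ker]
  have he₀V₀ : ∀ v : V, e₀ v ∈ V₀ := by
    intro v
    rw [memV₀]
    change (β * e₀) v = e₀ v
    rw [hβe]
  have hpowfix : ∀ v : V, β v = v → ∀ i : ℕ, (β ^ i) v = v := by
    intro v hv i
    induction i with
    | zero => rfl
    | succ i ih =>
      rw [pow_succ]
      change (β ^ i) (β v) = v
      rw [hv, ih]
  have he₀fix : ∀ v ∈ V₀, e₀ v = v := by
    intro v hv
    rw [memV₀] at hv
    rw [he₀, LinearMap.smul_apply, hs, LinearMap.sum_apply]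
    rw [Finset.sum_congr rfl (fun i _ => hpowfix v hv i)]
    rw [Finset.sum_const, Finset.card_range, ← Nat.cast_smul_eq_nsmul F, smul_smul,
      inv_mul_cancel₀ hrF, one_smul]
  have he₀W : ∀ v : V, e₀ v = 0 ↔ v ∈ W := by
    intro v
    rw [memW, he₀, LinearMap.smul_apply]
    constructor
    · intro h
      have := congrArg (fun z => (r : F) • z) h
      simp only [smul_smul, mul_inv_cancel₀ hrF, one_smul, smul_zero] at this
      exact this
    · intro h
      rw [h, smul_zero]
  have hdisj : V₀ ⊓ W = ⊥ := by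
    rw [Submodule.eq_bot_iff]
    rintro v ⟨h1, h2⟩
    have := he₀fix v h1
    rw [(he₀W v).2 h2] at this
    exact this.symm
  have hsup : V₀ ⊔ W = ⊤ := by
    rw [eq_top_iff]
    intro v _
    have : v = e₀ v + (v - e₀ v) := by abel
    rw [this]
    apply Submodule.add_mem_sup (he₀V₀ v)
    rw [← he₀W, map_sub, he₀fix _ (he₀V₀ v), sub_self]
  refine ⟨V₀, W, ⟨disjoint_iff.mpr hdisj, codisjoint_iff.mpr hsup⟩, memV₀, memW, ?_⟩
  intro T hT
  constructor
  · intro w hw
    rw [memW] at hw ⊢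
    change (s * T) w = 0
    rw [← (hcs T hT).eq]
    change T (s w) = 0
    rw [hw, map_zero]
  · intro v hv
    rw [memV₀] at hv ⊢
    change (β * T) v = T v
    rw [← hT.eq]
    change T (β v) = T v
    rw [hv]

/-- the key step: a nilpotent map commuting with `β` whose associated form is Hermitian vanishes
on `W` -/
theorem kill (B : V →ₛₗ[frobq F q] V →ₗ[F] F) (β : V →ₗ[F] V) (r : ℕ) [hr' : Fact r.Prime]
    (hβ : β ^ r = 1) (hrF : (r : F) ≠ 0) (hrq : ¬ r ∣ q)
    (hβB : ∀ x y, B (β x) (β y) = B x y)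
    (W : Submodule F V) (hWβ : ∀ w ∈ W, β w ∈ W) (hWfree : ∀ w ∈ W, β w = w → w = 0)
    (hWnd : ∀ x ∈ W, (∀ y ∈ W, B x y = 0) → x = 0)
    (m : ℕ) (hm : 4 ≤ m) (hWm : finrank F W ≤ m)
    (hr : ∀ i, 1 ≤ i → i ≤ m - 2 → ¬ r ∣ tw q i)
    (L : V →ₗ[F] V) (hLβ : Commute L β) (hLW : ∀ w ∈ W, L w ∈ W) (k : ℕ) (hLk : L ^ k = 0)
    (c : F) (hc : c ≠ 0)
    (hsymm : ∀ x ∈ W, ∀ y ∈ W, frobq F q (c * B (L x) y) = c * B (L y) x) :
    ∀ w ∈ W, L w = 0 := by
  by_cases hW0 : W = ⊥
  · intro w hw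
    rw [hW0, Submodule.mem_bot] at hw
    rw [hw, map_zero]
  set KL : Submodule F V := W ⊓ LinearMap.ker L with hKL
  have hKL0 : KL ≠ ⊥ := Cfsg.Agent.Helper8.UnipComm.exists_ker_of_nilpotent L k hLk W hLW hW0
  have hKLβ : ∀ x ∈ KL, β x ∈ KL := by
    intro x hx
    obtain ⟨hx1, hx2⟩ := Submodule.mem_inf.1 hx
    refine Submodule.mem_inf.2 ⟨hWβ x hx1, ?_⟩
    rw [LinearMap.mem_ker] at hx2 ⊢
    change (L * β) x = 0
    rw [hLβ.eq]
    change β (L x) = 0
    rw [hx2, map_zero]
  have hKLfree : ∀ x ∈ KL, β x = x → x = 0 := fun x hx => hWfree x (Submodule.mem_inf.1 hx).1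
  have hdvd := dvd_tw_two_mul (q := q) β r hβ KL hKLβ hKLfree
  have hK1 : 1 ≤ finrank F KL := by
    rw [Nat.one_le_iff_ne_zero]
    intro h0
    exact hKL0 (Submodule.finrank_eq_zero.mp h0)
  have hK2 : m - 1 ≤ 2 * finrank F KL := by
    by_contra hcon
    exact hr _ (by omega) (by omega) hdvd
  obtain ⟨T, hTW, hTβ, hdisj, hsup⟩ :=
    exists_invariant_compl β r hβ hrF KL W inf_le_left hKLβ hWβ
  have hfin := Submodule.finrank_sup_add_finrank_inf_eq KL T
  rw [hsup, hdisj, finrank_bot, add_zero] at hfin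
  by_cases hT0 : T = ⊥
  · intro w hw
    rw [hT0, sup_bot_eq] at hsup
    rw [← hsup] at hw
    exact LinearMap.mem_ker.1 (Submodule.mem_inf.1 hw).2
  · exfalso
    set H : V →ₛₗ[frobq F q] V →ₗ[F] F := c • (B.comp L) with hH
    have hHapp : ∀ x y, H x y = c * B (L x) y := fun x y => rfl
    obtain ⟨i, hi1, hi2, hi3⟩ := bound_of_restrict (q := q) β r hβ hrq T hTβ hT0
      (fun x hx => hWfree x (hTW hx)) H
      (fun x hx y hy => by
        rw [hHapp, hHapp]
        exact hsymm x (hTW hx) y (hTW hy))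
      (fun x hx hxy => by
        have hall : ∀ y ∈ W, B (L x) y = 0 := by
          intro y hy
          rw [← hsup] at hy
          obtain ⟨y₁, hy₁, y₂, hy₂, rfl⟩ := Submodule.mem_sup.1 hy
          have h1 : c * B (L x) y₁ = 0 := by
            have h2 := hsymm x (hTW hx) y₁ (Submodule.mem_inf.1 hy₁).1
            rw [LinearMap.mem_ker.1 (Submodule.mem_inf.1 hy₁).2, map_zero, LinearMap.zero_apply,
              mul_zero] at h2
            exact (map_eq_zero (frobq F q)).1 h2
          have h3 : c * B (L x) y₂ = 0 := by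
            have := hxy y₂ hy₂
            rwa [hHapp] at this
          rw [map_add]
          have h1' := (mul_eq_zero.1 h1).resolve_left hc
          have h3' := (mul_eq_zero.1 h3).resolve_left hc
          rw [h1', h3', add_zero]
        have hLx : L x = 0 := hWnd (L x) (hLW x (hTW hx)) hall
        have : x ∈ KL ⊓ T :=
          Submodule.mem_inf.2 ⟨Submodule.mem_inf.2 ⟨hTW hx, LinearMap.mem_ker.2 hLx⟩, hx⟩
        rw [hdisj, Submodule.mem_bot] at this
        exact this)
      (fun x _ y _ => by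
        rw [hHapp, hHapp]
        have : L (β x) = β (L x) := by
          change (L * β) x = (β * L) x
          rw [hLβ.eq]
        rw [this, hβB])
    exact hr i hi1 (by omega) hi3

end Cfsg.Agent.Helper8.UnitCom
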