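import Mathlib
import Cfsg.Agent.Helper8.UnitComC
import Cfsg.Agent.Helper8.SUCenter

set_option autoImplicit false

/-!
The main linear-algebra statement for commuting unipotent and semisimple isometries.
-/

namespace Cfsg.Agent.Helper8.UnitCom

open Matrix Cfsg Cfsg.Agent.Helper7.Herm Cfsg.Agent.Helper8.GUOrder Cfsg.Agent.Helper8.AutSU
open Module

variable {F : Type*} [Field F] [Fintype F] {q : ℕ} [hF : Fact (Fintype.card F = q ^ 2)]
variable {V : Type*} [AddCommGroup V] [Module F V] [FiniteDimensional F V]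

theorem false_of_commute_herm (B : V →ₛₗ[frobq F q] V →ₗ[F] F) (hS : B.IsSymm)
    (hB : B.Nondegenerate) (m : ℕ) (hm : 4 ≤ m) (hV : finrank F V = m)
    (r : ℕ) [hr' : Fact r.Prime] (hrF : (r : F) ≠ 0) (hrq : ¬ r ∣ q)
    (u u' β : V →ₗ[F] V) (huu' : u * u' = 1) (hu'u : u' * u = 1) (k : ℕ) (hU : (u - 1) ^ k = 0)
    (hU1 : u ≠ 1) (hβ : β ^ r = 1) (hβ1 : β ≠ 1) (hcomm : Commute u β)
    (huB : ∀ x y, B (u x) (u y) = B x y) (hβB : ∀ x y, B (β x) (β y) = B x y)
    (hr : ∀ i, 1 ≤ i → i ≤ m - 2 → ¬ r ∣ tw q i) : False := by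
  classical
  obtain ⟨V₀, W, hcompl, memV₀, memW, hinv⟩ := fix_decomp β r hβ hrF
  have hdisj : V₀ ⊓ W = ⊥ := hcompl.inf_eq_bot
  have hsup : V₀ ⊔ W = ⊤ := hcompl.sup_eq_top
  have hdim : finrank F V₀ + finrank F W = m := by
    rw [← hV]
    exact Submodule.finrank_add_eq_of_isCompl hcompl
  obtain ⟨hWβ, hV₀β⟩ := hinv β (Commute.refl β)
  obtain ⟨hWU, hV₀U⟩ := hinv u hcomm
  have hcomm' : Commute u' β := by
    have h1 : u' * β = u' * β * (u * u') := by rw [huu', mul_one]
    have h2 : u' * β * (u * u') = u' * (β * u) * u' := by noncomm_ring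
    have h3 : u' * (β * u) * u' = (u' * u) * β * u' := by
      rw [← hcomm.eq]
      noncomm_ring
    show u' * β = β * u'
    rw [h1, h2, h3, hu'u, one_mul]
  obtain ⟨hWU', -⟩ := hinv u' hcomm'
  have hWfree : ∀ w ∈ W, β w = w → w = 0 := by
    intro w hw hfix
    have : w ∈ V₀ ⊓ W := ⟨(memV₀ w).mpr hfix, hw⟩
    rw [hdisj] at this
    exact (Submodule.mem_bot F).mp this
  have hW0 : W ≠ ⊥ := by
    intro h0
    rw [h0, sup_bot_eq] at hsup
    apply hβ1
    ext v
    have : v ∈ V₀ := by rw [hsup]; trivial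
    exact (memV₀ v).mp this
  -- orthogonality
  have hpowB : ∀ v ∈ V₀, ∀ w : V, ∀ i : ℕ, B v ((β ^ i) w) = B v w := by
    intro v hv w i
    induction i with
    | zero => rfl
    | succ i ih =>
      rw [pow_succ']
      change B v (β ((β ^ i) w)) = B v w
      rw [← ih]
      conv_lhs => rw [← (memV₀ v).1 hv]
      exact hβB _ _
  have horth : ∀ v ∈ V₀, ∀ w ∈ W, B v w = 0 := by
    intro v hv w hw
    have h1 : B v ((∑ i ∈ Finset.range r, β ^ i) w) = (r : F) * B v w := by
      rw [LinearMap.sum_apply, map_sum, Finset.sum_congr rfl (fun i _ => hpowB v hv w i),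
        Finset.sum_const, Finset.card_range, nsmul_eq_mul]
    rw [(memW w).1 hw, map_zero] at h1
    exact (mul_eq_zero.1 h1.symm).resolve_left hrF
  have horth' : ∀ w ∈ W, ∀ v ∈ V₀, B w v = 0 := by
    intro w hw v hv
    rw [← hS.eq v w, horth v hv w hw, map_zero]
  -- nondegeneracy on `W`
  have hWnd : ∀ x ∈ W, (∀ y ∈ W, B x y = 0) → x = 0 := by
    intro x hx hxy
    apply hB.1 x
    intro z
    have hz : z ∈ V₀ ⊔ W := by rw [hsup]; trivial
    obtain ⟨z₀, hz₀, z₁, hz₁, rfl⟩ := Submodule.mem_sup.1 hz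
    rw [map_add, horth' x hx z₀ hz₀, hxy z₁ hz₁, add_zero]
  -- the dimension of `W`
  have hWdim : m - 1 ≤ finrank F W := by
    obtain ⟨i, hi1, hi2, hi3⟩ := bound_of_restrict (q := q) β r hβ hrq W hWβ hW0 hWfree B
      (fun x _ y _ => hS.eq x y) hWnd (fun x _ y _ => hβB x y)
    by_contra hcon
    exact hr i hi1 (by omega) hi3
  have hWm : finrank F W ≤ m := by omega
  -- stage one
  obtain ⟨c, hc0, hc⟩ := Cfsg.Agent.Helper8.SUCenter.exists_trace_zero hF.out (K := F)
  have hσc : frobq F q c = -c := by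
    rw [frobq_apply]
    exact eq_neg_of_add_eq_zero_left hc
  have hu'B : ∀ x y, B (u' x) (u' y) = B x y := by
    intro x y
    rw [← huB (u' x) (u' y)]
    have e1 : u (u' x) = x := by
      change (u * u') x = x
      rw [huu']
      rfl
    have e2 : u (u' y) = y := by
      change (u * u') y = y
      rw [huu']
      rfl
    rw [e1, e2]
  have hBu : ∀ x y, B y (u x) = B (u' y) x := by
    intro x y
    rw [← huB (u' y) x]
    have e1 : u (u' y) = y := by
      change (u * u') y = y
      rw [huu']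
      rfl
    rw [e1]
  have hBu' : ∀ x y, B y (u' x) = B (u y) x := by
    intro x y
    rw [← hu'B (u y) x]
    have e1 : u' (u y) = y := by
      change (u' * u) y = y
      rw [hu'u]
      rfl
    rw [e1]
  have hcuu' : Commute u u' := by
    show u * u' = u' * u
    rw [huu', hu'u]
  have hMnil : (u - u') ^ k = 0 := by
    have e : u - u' = (u' * (u + 1)) * (u - 1) := by
      have : (u' * (u + 1)) * (u - 1) = u' * u * u - u' := by noncomm_ring
      rw [this, hu'u, one_mul]
    have hc1 : Commute (u' * (u + 1)) (u - 1) := by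
      apply Commute.mul_left
      · exact (hcuu'.symm.sub_right (Commute.one_right u'))
      · exact ((Commute.refl u).add_left (Commute.one_left u)).sub_right
          (Commute.one_right _)
    rw [e, hc1.mul_pow, hU, mul_zero]
  have hM0 : ∀ w ∈ W, (u - u') w = 0 := by
    apply kill (q := q) B β r hβ hrF hrq hβB W hWβ hWfree hWnd m hm hWm hr (u - u')
      (hcomm.sub_left hcomm') _ k hMnil c hc0
    · intro x _ y _
      rw [map_mul, hσc, hS.eq, LinearMap.sub_apply, LinearMap.sub_apply, map_sub, hBu, hBu']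
      simp only [map_sub, LinearMap.sub_apply]
      ring
    · intro w hw
      rw [LinearMap.sub_apply]
      exact W.sub_mem (hWU w hw) (hWU' w hw)
  have huW : ∀ w ∈ W, u' w = u w := by
    intro w hw
    have := hM0 w hw
    rw [LinearMap.sub_apply, sub_eq_zero] at this
    exact this.symm
  -- stage two
  have hN0 : ∀ w ∈ W, (u - 1) w = 0 := by
    apply kill (q := q) B β r hβ hrF hrq hβB W hWβ hWfree hWnd m hm hWm hr (u - 1)
      (hcomm.sub_left (Commute.one_left β)) _ k hU 1 one_ne_zero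
    · intro x hx y hy
      rw [one_mul, one_mul, hS.eq, LinearMap.sub_apply, LinearMap.sub_apply, map_sub, hBu,
        huW y hy]
      simp only [map_sub, LinearMap.sub_apply, Module.End.one_apply]
    · intro w hw
      rw [LinearMap.sub_apply]
      exact W.sub_mem (hWU w hw) hw
  -- conclusion
  set K : Submodule F V := LinearMap.ker (u - 1) with hK
  have hWleK : W ≤ K := fun w hw => LinearMap.mem_ker.2 (hN0 w hw)
  have hN_V₀ : ∀ w ∈ V₀, (u - 1) w ∈ V₀ := by
    intro w hw
    rw [LinearMap.sub_apply]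
    exact V₀.sub_mem (hV₀U w hw) hw
  have hV₀leK : V₀ ≤ K := by
    by_cases h0 : V₀ = ⊥
    · rw [h0]; exact bot_le
    · have h1 := Cfsg.Agent.Helper8.UnipComm.exists_ker_of_nilpotent (u - 1) k hU V₀ hN_V₀ h0
      have h2 : 1 ≤ finrank F ↥(V₀ ⊓ K) := by
        rw [Nat.one_le_iff_ne_zero]
        intro h0
        exact h1 (Submodule.finrank_eq_zero.mp h0)
      have h3 : finrank F ↥(V₀ ⊓ K) ≤ finrank F V₀ := Submodule.finrank_mono inf_le_left
      have h4 : V₀ ⊓ K = V₀ := Submodule.eq_of_le_of_finrank_eq inf_le_left (by omega)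
      rw [← h4]; exact inf_le_right
  have hKtop : K = ⊤ := by
    rw [eq_top_iff, ← hsup]
    exact sup_le hV₀leK hWleK
  apply hU1
  ext v
  have : v ∈ K := by rw [hKtop]; trivial
  have := LinearMap.mem_ker.1 this
  rw [LinearMap.sub_apply, sub_eq_zero] at this
  exact this

end Cfsg.Agent.Helper8.UnitCom
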