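import Mathlib
import Cfsg.Agent.Helper8.UnitComD

set_option autoImplicit false

/-!
Commuting elements of `PSU_m(q)`: matrices, lifting, and the primes dividing `|SU_(m-2)(q)|`.
-/

namespace Cfsg.Agent.Helper8.UnitCom

open Matrix Cfsg Cfsg.Agent.Helper7.Herm Cfsg.Agent.Helper8.GUOrder Cfsg.Agent.Helper8.AutSU
open Module

variable {F : Type*} [Field F] [Fintype F] {q : ℕ} [hF : Fact (Fintype.card F = q ^ 2)]

theorem prime_dvd_q (p : ℕ) [hp : Fact p.Prime] [CharP F p] {r : ℕ} (hr : r.Prime) (hrq : r ∣ q) :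
    r = p := by
  obtain ⟨n, -, hn⟩ := FiniteField.card F p
  have h1 : r ∣ p ^ (n : ℕ) := by
    rw [← hn, hF.out]
    exact Dvd.dvd.pow hrq (by norm_num)
  exact (Nat.prime_dvd_prime_iff_eq hr hp.out).1 (hr.dvd_of_dvd_pow h1)

theorem p_dvd_q (p : ℕ) [hp : Fact p.Prime] [CharP F p] : p ∣ q := by
  have h1 : p ∣ Fintype.card F := by
    have := (CharP.cast_eq_zero_iff F p (Fintype.card F)).mp (by simp)
    exact this
  rw [hF.out] at h1
  exact hp.out.dvd_of_dvd_pow h1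

/-- the matrix version -/
theorem false_of_commute_matrix_herm (p : ℕ) [hp : Fact p.Prime] [CharP F p] (m : ℕ) (hm : 4 ≤ m)
    (r : ℕ) [hr' : Fact r.Prime] (hrp : r ≠ p)
    (u Bn : Matrix (Fin m) (Fin m) F) (hu : u ^ p = 1) (hu1 : u ≠ 1) (hBr : Bn ^ r = 1)
    (hB1 : Bn ≠ 1) (hcomm : Commute u Bn)
    (huh : ∀ x y, hermForm m F q (u *ᵥ x) (u *ᵥ y) = hermForm m F q x y)
    (hBh : ∀ x y, hermForm m F q (Bn *ᵥ x) (Bn *ᵥ y) = hermForm m F q x y)
    (hr : ∀ i, 1 ≤ i → i ≤ m - 2 → ¬ r ∣ tw q i) : False := by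
  haveI : Nonempty (Fin m) := ⟨⟨0, by omega⟩⟩
  have hrF : (r : F) ≠ 0 := by
    intro h0
    have := (CharP.cast_eq_zero_iff F p r).mp h0
    exact hrp ((Nat.prime_dvd_prime_iff_eq hp.out hr'.out).mp this).symm
  have hrq : ¬ r ∣ q := fun h => hrp (prime_dvd_q (F := F) p hr'.out h)
  have hS : (hB m F q).IsSymm := ⟨fun u v => (h_swap u v).symm⟩
  have hnd : (hB m F q).Nondegenerate :=
    ⟨fun u hu => eq_zero_of_h_left (q := q) hu, fun v hv => eq_zero_of_h_right (q := q) hv⟩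
  let φ := Matrix.toLinAlgEquiv' (R := F) (n := Fin m)
  have hp1 : 1 ≤ p := hp.out.one_lt.le
  have hφ : ∀ (M : Matrix (Fin m) (Fin m) F) (x : Fin m → F), φ M x = M *ᵥ x :=
    fun M x => Matrix.toLinAlgEquiv'_apply M x
  apply false_of_commute_herm (q := q) (hB m F q) hS hnd m hm (Module.finrank_fin_fun F) r hrF hrq
    (φ u) (φ (u ^ (p - 1))) (φ Bn) _ _ p
  · rw [← map_one φ, ← map_sub, ← map_pow, sub_pow_char_of_commute p (Commute.one_right u), hu,
      one_pow, sub_self, map_zero]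
  · intro h; apply hu1; exact φ.injective (h.trans (map_one φ).symm)
  · rw [← map_pow, hBr, map_one]
  · intro h; apply hB1; exact φ.injective (h.trans (map_one φ).symm)
  · exact hcomm.map φ
  · intro x y
    rw [hB_apply, hφ, hφ, huh, hB_apply]
  · intro x y
    rw [hB_apply, hφ, hφ, hBh, hB_apply]
  · exact hr
  · rw [← map_mul, ← pow_succ', Nat.sub_add_cancel hp1, hu, map_one]
  · rw [← map_mul, ← pow_succ, Nat.sub_add_cancel hp1, hu, map_one]

end Cfsg.Agent.Helper8.UnitCom
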