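import Mathlib
import Cfsg.Agent.Helper8.UnitComE

set_option autoImplicit false

/-!
Lifting commuting pairs of `PSU_m(q)` to commuting isometries.
-/

namespace Cfsg.Agent.Helper8.UnitCom

open Matrix Cfsg Cfsg.Agent.Helper7.Herm Cfsg.Agent.Helper8.GUOrder Cfsg.Agent.Helper8.AutSU
open Cfsg.Agent.Helper8.SUCenter

variable {F : Type*} [Field F] [Fintype F] {q : ℕ} [hF : Fact (Fintype.card F = q ^ 2)]

/-- the matrix of an element of `SU` -/
def mt {m : ℕ} (A : SU m F q) : Matrix (Fin m) (Fin m) F :=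
  ((A : Matrix.SpecialLinearGroup (Fin m) F) : Matrix (Fin m) (Fin m) F)

omit [Fintype F] hF in
theorem mt_mul {m : ℕ} (A B : SU m F q) : mt (A * B) = mt A * mt B := rfl

omit [Fintype F] hF in
theorem mt_one {m : ℕ} : mt (1 : SU m F q) = 1 := rfl

omit [Fintype F] hF in
theorem mt_pow {m : ℕ} (A : SU m F q) (k : ℕ) : mt (A ^ k) = mt A ^ k := by
  induction k with
  | zero => rw [pow_zero, pow_zero, mt_one]
  | succ k ih => rw [pow_succ, pow_succ, mt_mul, ih]

omit [Fintype F] hF in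
theorem mt_injective {m : ℕ} : Function.Injective (mt : SU m F q → Matrix (Fin m) (Fin m) F) := by
  intro A B h
  apply Subtype.ext
  apply Subtype.ext
  exact h

omit [Fintype F] hF in
theorem mt_herm {m : ℕ} (A : SU m F q) (x y : Fin m → F) :
    hermForm m F q (mt A *ᵥ x) (mt A *ᵥ y) = hermForm m F q x y := A.2 x y

/-- central elements are scalar -/
theorem center_scalar {m : ℕ} (hm : 1 ≤ m) {z : SU m F q} (hz : z ∈ Subgroup.center (SU m F q)) :
    ∃ ζ : F, ζ * ζ ^ q = 1 ∧ mt z = ζ • (1 : Matrix (Fin m) (Fin m) F) := by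
  obtain ⟨ζ, hζ, hζn, rfl⟩ := center_eq_scal hF.out hm z hz
  exact ⟨ζ, hζ, rfl⟩

theorem scalar_central {m : ℕ} (hm : 1 ≤ m) (A : SU m F q) (c : F)
    (h : mt A = c • (1 : Matrix (Fin m) (Fin m) F)) : A ∈ Subgroup.center (SU m F q) := by
  rw [Subgroup.mem_center_iff]
  intro g
  apply mt_injective
  rw [mt_mul, mt_mul, h, Matrix.mul_smul, Matrix.smul_mul, Matrix.mul_one, Matrix.one_mul]

theorem false_of_commute_psu (p : ℕ) [hp' : Fact p.Prime] [CharP F p] (m : ℕ) (hm : 4 ≤ m)
    (r : ℕ) [hr' : Fact r.Prime] (hrp : r ≠ p)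
    (a b : Cfsg.PSU m F q) (ha : orderOf a = p) (hb : orderOf b = r) (hab : Commute a b)
    (hr : ∀ i, 1 ≤ i → i ≤ m - 2 → ¬ r ∣ tw q i) : False := by
  classical
  obtain ⟨A, rfl⟩ := QuotientGroup.mk_surjective a
  obtain ⟨B, rfl⟩ := QuotientGroup.mk_surjective b
  have hp : p.Prime := hp'.out
  have hrpr : r.Prime := hr'.out
  have hm1 : 1 ≤ m := by omega
  have hAp : A ^ p ∈ Subgroup.center (SU m F q) := by
    rw [← QuotientGroup.eq_one_iff, QuotientGroup.mk_pow, ← ha, pow_orderOf_eq_one]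
  have hBr : B ^ r ∈ Subgroup.center (SU m F q) := by
    rw [← QuotientGroup.eq_one_iff, QuotientGroup.mk_pow, ← hb, pow_orderOf_eq_one]
  have hAB : A * B * A⁻¹ * B⁻¹ ∈ Subgroup.center (SU m F q) := by
    rw [← QuotientGroup.eq_one_iff]
    simp only [QuotientGroup.mk_mul, QuotientGroup.mk_inv]
    rw [hab.eq]
    group
  have hA1 : A ∉ Subgroup.center (SU m F q) := by
    intro h
    rw [← QuotientGroup.eq_one_iff] at h
    rw [h, orderOf_one] at ha
    exact hp.one_lt.ne ha
  have hB1 : B ∉ Subgroup.center (SU m F q) := by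
    intro h
    rw [← QuotientGroup.eq_one_iff] at h
    rw [h, orderOf_one] at hb
    exact hrpr.one_lt.ne hb
  obtain ⟨μ, hμq, hμ⟩ := center_scalar hm1 hAp
  obtain ⟨μ', hμ'q, hμ'⟩ := center_scalar hm1 hBr
  obtain ⟨l, -, hl⟩ := center_scalar hm1 hAB
  rw [mt_pow] at hμ hμ'
  have hμ0 : μ ≠ 0 := by
    rintro rfl
    rw [zero_mul] at hμq
    exact zero_ne_one hμq
  have hμ'0 : μ' ≠ 0 := by
    rintro rfl
    rw [zero_mul] at hμ'q
    exact zero_ne_one hμ'q
  set Am := mt A with hAm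
  set Bm := mt B with hBm
  have hl2 : Am * Bm = l • (Bm * Am) := by
    have h1 : A * B = (A * B * A⁻¹ * B⁻¹) * (B * A) := by group
    have h2 := congrArg mt h1
    rw [mt_mul, mt_mul, hl, mt_mul, Matrix.smul_mul, Matrix.one_mul] at h2
    exact h2
  have hBinv : Bm * mt B⁻¹ = 1 := by
    rw [hBm, ← mt_mul, mul_inv_cancel, mt_one]
  -- the unipotent lift
  obtain ⟨ν, hν⟩ := surjective_frobenius F p μ
  rw [frobenius_def] at hν
  have hν0 : ν ≠ 0 := by
    rintro rfl
    rw [zero_pow hp.ne_zero] at hν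
    exact hμ0 hν.symm
  have hνq : ν * ν ^ q = 1 := by
    apply frobenius_inj F p
    rw [frobenius_def, frobenius_def, one_pow, mul_pow, ← pow_mul, mul_comm q p, pow_mul, hν, hμq]
  set u : Matrix (Fin m) (Fin m) F := ν⁻¹ • Am with hu
  have hup : u ^ p = 1 := by
    rw [hu, smul_pow, hμ, smul_smul, inv_pow, hν, inv_mul_cancel₀ hμ0, one_smul]
  have hu1 : u ≠ 1 := by
    intro h
    apply hA1
    apply scalar_central hm1 A ν
    rw [← hAm]
    have : ν • u = ν • (1 : Matrix (Fin m) (Fin m) F) := by rw [h]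
    rw [hu, smul_smul, mul_inv_cancel₀ hν0, one_smul] at this
    exact this
  have hpow : ∀ k : ℕ, Am ^ k * Bm = l ^ k • (Bm * Am ^ k) := by
    intro k
    induction k with
    | zero => simp
    | succ k ih =>
      rw [pow_succ, Matrix.mul_assoc, hl2, Matrix.mul_smul, ← Matrix.mul_assoc, ih,
        Matrix.smul_mul, smul_smul, Matrix.mul_assoc, ← pow_succ, ← pow_succ']
  have hm0 : 0 < m := by omega
  have hlp : l ^ p = 1 := by
    have h1 := hpow p
    rw [hμ, Matrix.smul_mul, Matrix.one_mul, Matrix.mul_smul, Matrix.mul_one, smul_smul] at h1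
    have h2 := congrArg (fun X => X * mt B⁻¹) h1
    simp only [Matrix.smul_mul, hBinv] at h2
    have h3 := congrFun (congrFun h2 ⟨0, hm0⟩) ⟨0, hm0⟩
    simp only [Matrix.smul_apply, Matrix.one_apply_eq, smul_eq_mul, mul_one] at h3
    have h4 : μ * 1 = μ * l ^ p := by rw [mul_one, mul_comm]; exact h3
    exact (mul_left_cancel₀ hμ0 h4).symm
  have hl1' : l = 1 := by
    apply frobenius_inj F p
    rw [frobenius_def, frobenius_def, hlp, one_pow]
  rw [hl1', one_smul] at hl2
  have hcomm : Commute Am Bm := hl2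
  -- the lift of order r
  have hq2 : ¬ r ∣ tw q 2 := hr 2 (by norm_num) (by omega)
  have htw2 : tw q 2 = q ^ 2 - 1 := by
    unfold tw
    rw [if_pos (by decide)]
  have hcop : (Nat.card Fˣ).Coprime r := by
    rw [card_units_K hF.out, ← htw2]
    exact ((Nat.Prime.coprime_iff_not_dvd hrpr).mpr hq2).symm
  obtain ⟨ν', hν'⟩ := (powCoprime hcop).surjective (Units.mk0 μ' hμ'0)
  rw [powCoprime_apply] at hν'
  have hν'2 : (ν' : F) ^ r = μ' := by
    have := congrArg Units.val hν'
    simpa using this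
  have hν'q : (ν' : F) * (ν' : F) ^ q = 1 := by
    have h1 : (powCoprime hcop) (ν' * ν' ^ q) = (powCoprime hcop) 1 := by
      rw [powCoprime_apply, powCoprime_apply, one_pow]
      apply Units.ext
      push_cast
      rw [mul_pow, ← pow_mul, mul_comm q r, pow_mul, hν'2, hμ'q]
    have h2 := (powCoprime hcop).injective h1
    have := congrArg Units.val h2
    simpa using this
  set Bn : Matrix (Fin m) (Fin m) F := (ν' : F)⁻¹ • Bm with hBn
  have hBnr : Bn ^ r = 1 := by
    rw [hBn, smul_pow, hμ', smul_smul, inv_pow, hν'2, inv_mul_cancel₀ hμ'0, one_smul]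
  have hBn1 : Bn ≠ 1 := by
    intro h
    apply hB1
    apply scalar_central hm1 B (ν' : F)
    rw [← hBm]
    have : (ν' : F) • Bn = (ν' : F) • (1 : Matrix (Fin m) (Fin m) F) := by rw [h]
    rw [hBn, smul_smul, mul_inv_cancel₀ ν'.ne_zero, one_smul] at this
    exact this
  have hcomm2 : Commute u Bn := by
    rw [hu, hBn]
    exact (hcomm.smul_left _).smul_right _
  have hscal : ∀ (c : F) (M : Matrix (Fin m) (Fin m) F), c * c ^ q = 1 →
      (∀ x y, hermForm m F q (M *ᵥ x) (M *ᵥ y) = hermForm m F q x y) →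
      ∀ x y, hermForm m F q ((c⁻¹ • M) *ᵥ x) ((c⁻¹ • M) *ᵥ y) = hermForm m F q x y := by
    intro c M hc hM x y
    have hc0 : c ≠ 0 := by
      rintro rfl
      rw [zero_mul] at hc
      exact zero_ne_one hc
    rw [Matrix.smul_mulVec, Matrix.smul_mulVec, hermForm_smul_left, hermForm_smul_right, hM,
      ← mul_assoc, inv_pow, ← mul_inv, hc, inv_one, one_mul]
  exact false_of_commute_matrix_herm (q := q) p m hm r hrp u Bn hup hu1 hBnr hBn1 hcomm2
    (hscal ν Am hνq (mt_herm A)) (hscal (ν' : F) Bm hν'q (mt_herm B)) hr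

end Cfsg.Agent.Helper8.UnitCom
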