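import Mathlib
import Cfsg.Agent.Helper8.UnitComF

set_option autoImplicit false

/-!
The primes dividing the order of `SU_n(q)`, and the statement on commuting elements of `PSU_m(q)`.
-/

namespace Cfsg.Agent.Helper8.UnitCom

open Matrix Cfsg Cfsg.Agent.Helper7.Herm Cfsg.Agent.Helper8.GUOrder Cfsg.Agent.Helper8.AutSU

variable {F : Type*} [Field F] [Fintype F] {q : ℕ} [hF : Fact (Fintype.card F = q ^ 2)]

theorem card_SU_formula (k : ℕ) :
    Nat.card (SU (k + 1) F q) = q ^ ((k + 1) * (k + 1 - 1) / 2) *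
      ∏ i ∈ Finset.range k, (if Even (i + 1) then q ^ (i + 1 + 1) + 1 else q ^ (i + 1 + 1) - 1) := by
  have h1 := card_SU (n := k + 1) hF.out (by omega)
  rw [card_GU hF.out, Finset.prod_range_succ'] at h1
  have h0 : (if Even 0 then q ^ (0 + 1) + 1 else q ^ (0 + 1) - 1) = q + 1 := by
    rw [if_pos (by decide), zero_add, pow_one]
  rw [h0] at h1
  have hpos : 0 < q + 1 := by omega
  apply Nat.eq_of_mul_eq_mul_left hpos
  rw [h1]
  ring

theorem prime_dvd_card_SU (p : ℕ) [hp : Fact p.Prime] [CharP F p] (n : ℕ) (hn : 2 ≤ n) (r : ℕ)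
    (hr : r.Prime) (h : r = p ∨ ∃ i, 1 ≤ i ∧ i ≤ n ∧ r ∣ tw q i) :
    r ∣ Nat.card (SU n F q) := by
  obtain ⟨k, rfl⟩ : ∃ k, n = k + 1 := ⟨n - 1, by omega⟩
  rw [card_SU_formula]
  have hq := two_le_q hF.out (K := F)
  have hterm : ∀ j : ℕ, j < k → ∀ x : ℕ,
      x ∣ (if Even (j + 1) then q ^ (j + 1 + 1) + 1 else q ^ (j + 1 + 1) - 1) →
      x ∣ q ^ ((k + 1) * (k + 1 - 1) / 2) *
        ∏ i ∈ Finset.range k, (if Even (i + 1) then q ^ (i + 1 + 1) + 1 else q ^ (i + 1 + 1) - 1) := by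
    intro j hj x hx
    apply Dvd.dvd.mul_left
    exact dvd_trans hx (Finset.dvd_prod_of_mem _ (Finset.mem_range.2 hj))
  rcases h with rfl | ⟨i, hi1, hin, hdvd⟩
  · apply Dvd.dvd.mul_right
    have hpq : r ∣ q := p_dvd_q (F := F) r
    have hexp : (k + 1) * (k + 1 - 1) / 2 ≠ 0 := by
      have h2 : 2 ≤ (k + 1) * (k + 1 - 1) := by
        have : 1 ≤ k := by omega
        rw [Nat.add_sub_cancel]
        nlinarith
      have := Nat.div_le_div_right (c := 2) h2
      omega
    exact dvd_pow hpq hexp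
  · by_cases hi : i = 1
    · subst hi
      apply hterm 0 (by omega)
      rw [if_neg (by decide)]
      unfold tw at hdvd
      rw [if_neg (by decide), pow_one] at hdvd
      have : q ^ (0 + 1 + 1) - 1 = (q - 1) * (q + 1) := qsq_sub_one hF.out (K := F)
      rw [this]
      exact Dvd.dvd.mul_left hdvd _
    · obtain ⟨t, rfl⟩ : ∃ t, i = t + 2 := ⟨i - 2, by omega⟩
      apply hterm t (by omega)
      unfold tw at hdvd
      have hpar : Even (t + 2) ↔ ¬ Even (t + 1) := Nat.even_add_one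
      by_cases hev : Even (t + 2)
      · rw [if_pos hev] at hdvd
        rw [if_neg (hpar.1 hev)]
        exact hdvd
      · rw [if_neg hev] at hdvd
        have : Even (t + 1) := by
          by_contra h
          exact hev (hpar.2 h)
        rw [if_pos this]
        exact hdvd

/-- The primes dividing the order of an element commuting with an element of order `p` in
`PSU_m(q)`. -/
theorem primeFactors_subset_psu (p : ℕ) [hp : Fact p.Prime] [CharP F p] (m : ℕ) (hm : 4 ≤ m)
    (a b : Cfsg.PSU m F q) (ha : orderOf a = p) (hab : Commute a b) :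
    (orderOf b).primeFactors ⊆ (Nat.card ↥(Cfsg.SU (m - 2) F q)).primeFactors := by
  intro r hr
  rw [Nat.mem_primeFactors] at hr ⊢
  obtain ⟨hrp, hrb, hb0⟩ := hr
  refine ⟨hrp, ?_, Nat.card_pos.ne'⟩
  by_contra hnd
  haveI : Fact r.Prime := ⟨hrp⟩
  have h1 : r ≠ p := by
    rintro rfl
    exact hnd (prime_dvd_card_SU (F := F) r (m - 2) (by omega) r hrp (Or.inl rfl))
  have h2 : ∀ i : ℕ, 1 ≤ i → i ≤ m - 2 → ¬ r ∣ tw q i := by
    intro i hi1 hi2 hd
    exact hnd (prime_dvd_card_SU (F := F) p (m - 2) (by omega) r hrp (Or.inr ⟨i, hi1, hi2, hd⟩))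
  have hb' : orderOf (b ^ (orderOf b / r)) = r := orderOf_pow_orderOf_div hb0 hrb
  exact false_of_commute_psu (q := q) p m hm r h1 a (b ^ (orderOf b / r)) ha hb'
    (hab.pow_right _) h2

end Cfsg.Agent.Helper8.UnitCom
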