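import Cfsg.Agent.Helper8.RegSUA
set_option autoImplicit false
set_option linter.unusedSectionVars false

/-!
Norms in finite fields with an involution: an irreducible polynomial over the field with `q ^ 2`
elements that is fixed by the Frobenius `x ↦ x ^ q` has the class of `X` as a norm in its residue
field.
-/

namespace Cfsg.Agent.Helper8.Wall

open Polynomial Matrix Cfsg Cfsg.Agent.Helper8.GUOrder Cfsg.Agent.Helper8.SUCenter
  Cfsg.Agent.Helper8.AutSU Cfsg.Agent.Helper8.PU3 Cfsg.Agent.Helper8.PSUSing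

/-- in a finite cyclic group of order `A * B`, the elements killed by `A` are `B`-th powers -/
theorem exists_pow_eq_of_pow_eq_one {G : Type*} [Group G] [Finite G] [IsCyclic G] (A B : ℕ)
    (hcard : Nat.card G = A * B) (hA : 0 < A) (y : G) (hy : y ^ A = 1) : ∃ x : G, x ^ B = y := by
  obtain ⟨g, hg⟩ := IsCyclic.exists_monoid_generator (α := G)
  obtain ⟨k, rfl⟩ : ∃ k : ℕ, g ^ k = y := (Submonoid.mem_powers_iff _ _).mp (hg y)
  have hord : orderOf g = A * B := by
    rw [orderOf_eq_card_of_forall_mem_zpowers, hcard]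
    intro z
    obtain ⟨k, rfl⟩ := (Submonoid.mem_powers_iff _ _).mp (hg z)
    exact Subgroup.npow_mem_zpowers g k
  rw [← pow_mul] at hy
  have h1 : A * B ∣ k * A := by
    rw [← hord]
    exact orderOf_dvd_of_pow_eq_one hy
  have h2 : B ∣ k := by
    have : A * B ∣ A * k := by rwa [mul_comm k A] at h1
    exact Nat.dvd_of_mul_dvd_mul_left hA this
  obtain ⟨k', rfl⟩ := h2
  exact ⟨g ^ k', by rw [← pow_mul, mul_comm]⟩


variable {K : Type*} [Field K] [Fintype K] {q : ℕ} [hF : Fact (Fintype.card K = q ^ 2)]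

theorem pow_q_pow_even (κ : K) (t : ℕ) : κ ^ (q ^ (2 * t)) = κ := by
  induction t with
  | zero => simp
  | succ t ih =>
    have : q ^ (2 * (t + 1)) = q ^ (2 * t) * q ^ 2 := by rw [← pow_add]; congr 1
    rw [this, pow_mul, ih, pow_qsq]

theorem pow_q_pow_odd (κ : K) (t : ℕ) : κ ^ (q ^ (2 * t + 1)) = κ ^ q := by
  rw [pow_succ, pow_mul, pow_q_pow_even]

/-- the `q ^ k`-th power of an element of `K[X]/(P)` -/
theorem pow_mk (p : ℕ) [Fact p.Prime] [CharP K p] (f : ℕ) (hf : q = p ^ f) (P : K[X]) (k : ℕ)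
    (R : K[X]) :
    (AdjoinRoot.mk P R) ^ (q ^ k) = eval₂ (algebraMap K (AdjoinRoot P))
      ((AdjoinRoot.root P) ^ (q ^ k)) (R.map (iterateFrobenius K p (f * k))) := by
  by_cases htriv : Nontrivial (AdjoinRoot P)
  · have : CharP (AdjoinRoot P) p := charP_of_injective_algebraMap
      (algebraMap K (AdjoinRoot P)).injective p
    have h1 : AdjoinRoot.mk P R = eval₂ (algebraMap K (AdjoinRoot P)) (AdjoinRoot.root P) R := by
      rw [← AdjoinRoot.aeval_eq, Polynomial.aeval_def]
    have h2 : ∀ x : AdjoinRoot P, x ^ (q ^ k) = iterateFrobenius (AdjoinRoot P) p (f * k) x := by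
      intro x
      rw [iterateFrobenius_def, pow_mul, ← hf]
    rw [h2, h2, h1, Polynomial.hom_eval₂, Polynomial.eval₂_map]
    congr 1
    ext c
    simp only [RingHom.comp_apply, iterateFrobenius_def, map_pow]
  · rw [not_nontrivial_iff_subsingleton] at htriv
    exact Subsingleton.elim _ _

theorem iterateFrobenius_even (p : ℕ) [Fact p.Prime] [CharP K p] (f : ℕ) (hf : q = p ^ f)
    (t : ℕ) : iterateFrobenius K p (f * (2 * t)) = RingHom.id K := by
  ext c
  rw [iterateFrobenius_def, pow_mul, ← hf, RingHom.id_apply, pow_q_pow_even]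

theorem iterateFrobenius_odd (p : ℕ) [Fact p.Prime] [CharP K p] (f : ℕ) (hf : q = p ^ f)
    (t : ℕ) : iterateFrobenius K p (f * (2 * t + 1)) = frobq K q := by
  ext c
  rw [iterateFrobenius_def, pow_mul, ← hf, frobq_apply, pow_q_pow_odd]

end Cfsg.Agent.Helper8.Wall
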