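import Cfsg.Agent.Helper8.WallA
import Cfsg.Agent.Helper8.PSUSingB
set_option autoImplicit false
set_option linter.unusedSectionVars false

/-!
The field case of the norm lemma.
-/

namespace Cfsg.Agent.Helper8.Wall

open Polynomial Matrix Cfsg Cfsg.Agent.Helper8.GUOrder Cfsg.Agent.Helper8.SUCenter
  Cfsg.Agent.Helper8.AutSU Cfsg.Agent.Helper8.PU3 Cfsg.Agent.Helper8.PSUSing

variable {K : Type*} [Field K] [Fintype K] {q : ℕ} [hF : Fact (Fintype.card K = q ^ 2)]

/-- a finite field all of whose elements satisfy `x ^ N = x` has at most `N` elements -/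
theorem card_le_of_pow_eq {L : Type*} [Field L] [Fintype L] (N : ℕ) (hN : 2 ≤ N)
    (h : ∀ x : L, x ^ N = x) : Fintype.card L ≤ N := by
  classical
  have hp : (X ^ N - X : L[X]) ≠ 0 := by
    intro h0
    have := congrArg (fun p => Polynomial.coeff p N) h0
    simp only [Polynomial.coeff_sub, Polynomial.coeff_X_pow, if_true, Polynomial.coeff_zero] at this
    rw [Polynomial.coeff_X, if_neg (by omega)] at this
    simp at this
  have hdeg : (X ^ N - X : L[X]).natDegree = N :=
    FiniteField.X_pow_card_sub_X_natDegree_eq L (by omega)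
  have hsub : (Finset.univ : Finset L) ⊆ (X ^ N - X : L[X]).roots.toFinset := by
    intro a _
    rw [Multiset.mem_toFinset, Polynomial.mem_roots hp]
    simp [h a]
  have h1 := Finset.card_le_card hsub
  have h2 := Multiset.toFinset_card_le (X ^ N - X : L[X]).roots
  have h3 := Polynomial.card_roots' (X ^ N - X : L[X])
  rw [hdeg] at h3
  rw [Finset.card_univ] at h1
  omega

/-- **the field case**: for a monic irreducible `P ≠ X` fixed by the Frobenius, the class of `X`
is a norm -/
theorem exists_norm_poly_irred (p : ℕ) [Fact p.Prime] [CharP K p] (P : K[X]) (hP : P.Monic)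
    [hirr : Fact (Irreducible P)] (hPσ : P.map (frobq K q) = P)
    (hβ0 : AdjoinRoot.root P ≠ 0) :
    ∃ R : K[X], P ∣ R.map (frobq K q) * R - X := by
  classical
  have hp : p.Prime := Fact.out
  have hq2 := two_le_q' (K := K) (q := q)
  obtain ⟨e, _, he⟩ := FiniteField.card K p
  have hqp : q ∣ p ^ (e : ℕ) := by
    rw [← he, hF.out]
    exact Dvd.intro_left _ (sq q).symm
  obtain ⟨f, _, hf⟩ := (Nat.dvd_prime_pow hp).mp hqp
  have : Module.Finite K (AdjoinRoot P) := hP.finite_adjoinRoot
  have : Finite (AdjoinRoot P) := Module.finite_of_finite K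
  have : Fintype (AdjoinRoot P) := Fintype.ofFinite _
  have : CharP (AdjoinRoot P) p := charP_of_injective_algebraMap
    (algebraMap K (AdjoinRoot P)).injective p
  set β : AdjoinRoot P := AdjoinRoot.root P with hβ
  set d := P.natDegree with hd
  have hd1 : 1 ≤ d := by
    have := Polynomial.natDegree_pos_iff_degree_pos.mpr
      (Polynomial.degree_pos_of_irreducible hirr.out)
    omega
  have hcardL : Fintype.card (AdjoinRoot P) = q ^ (2 * d) := by
    have := PGraph.card_adjoinRoot P hP
    rw [Nat.card_eq_fintype_card, hF.out, ← pow_mul] at this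
    exact this
  -- the `q`-power map and its iterates
  have hiter : ∀ (k : ℕ) (x : AdjoinRoot P), (fun y : AdjoinRoot P => y ^ q)^[k] x = x ^ (q ^ k) :=
    fun k x => by rw [pow_iterate]
  have hinj : Function.Injective (fun y : AdjoinRoot P => y ^ q) := by
    intro x y hxy
    have h1 : iterateFrobenius (AdjoinRoot P) p f x = iterateFrobenius (AdjoinRoot P) p f y := by
      rw [iterateFrobenius_def, iterateFrobenius_def, ← hf]
      exact hxy
    exact (iterateFrobenius (AdjoinRoot P) p f).injective h1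
  -- `β ^ q` is a root of `P`
  have h1 : eval₂ (algebraMap K (AdjoinRoot P)) (β ^ (q ^ 1)) (P.map (iterateFrobenius K p (f * 1)))
      = 0 := by
    rw [← pow_mk p f hf P 1 P, AdjoinRoot.mk_self, zero_pow (by positivity)]
  have h1' : aeval (β ^ q) P = 0 := by
    have e1 : iterateFrobenius K p (f * 1) = frobq K q := by
      have := iterateFrobenius_odd (K := K) (q := q) p f hf 0
      simpa using this
    rw [e1, hPσ, pow_one] at h1
    rw [Polynomial.aeval_def]
    exact h1
  obtain ⟨i, hi⟩ := root_eq_frob_pow P hP _ h1'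
  rw [hF.out, ← pow_mul] at hi
  -- the period of `β` is odd
  set o := Function.minimalPeriod (fun y : AdjoinRoot P => y ^ q) β with ho
  have hper2d : Function.IsPeriodicPt (fun y : AdjoinRoot P => y ^ q) (2 * d) β := by
    rw [Function.IsPeriodicPt, Function.IsFixedPt, hiter, ← hcardL]
    exact FiniteField.pow_card β
  have ho_dvd_2d : o ∣ 2 * d := Function.IsPeriodicPt.minimalPeriod_dvd hper2d
  have ho_pos : 0 < o := Function.IsPeriodicPt.minimalPeriod_pos (by omega) hper2d
  have hoβ : β ^ (q ^ o) = β := by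
    have := Function.isPeriodicPt_minimalPeriod (fun y : AdjoinRoot P => y ^ q) β
    rw [Function.IsPeriodicPt, Function.IsFixedPt, hiter] at this
    exact this
  have ho_odd : Odd o := by
    rcases Nat.eq_zero_or_pos i with hi0 | hi0
    · -- `β ^ q = β`
      rw [hi0, mul_zero, pow_zero, pow_one] at hi
      have hper1 : Function.IsPeriodicPt (fun y : AdjoinRoot P => y ^ q) 1 β := by
        rw [Function.IsPeriodicPt, Function.IsFixedPt, hiter, pow_one]
        exact hi
      have := Function.IsPeriodicPt.minimalPeriod_dvd hper1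
      rw [Nat.dvd_one] at this
      rw [← ho] at this
      rw [this]
      exact odd_one
    · have hper : Function.IsPeriodicPt (fun y : AdjoinRoot P => y ^ q) (2 * i - 1) β := by
        rw [Function.IsPeriodicPt, Function.IsFixedPt, hiter]
        apply hinj
        show (β ^ q ^ (2 * i - 1)) ^ q = β ^ q
        rw [← pow_mul, ← pow_succ]
        have : 2 * i - 1 + 1 = 2 * i := by omega
        rw [this, ← hi]
      have h2 := Function.IsPeriodicPt.minimalPeriod_dvd hper
      rw [← ho] at h2
      have h3 : Odd (2 * i - 1) := ⟨i - 1, by omega⟩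
      exact Odd.of_dvd_nat h3 h2
  obtain ⟨t, ht⟩ := ho_odd
  -- every element is fixed by the `q ^ (2 * o)`-power map
  have hfix : ∀ c : AdjoinRoot P, c ^ (q ^ (2 * o)) = c := by
    intro c
    obtain ⟨R, rfl⟩ := AdjoinRoot.mk_surjective c
    have e : q ^ (2 * o) = q ^ o * q ^ o := by rw [two_mul, pow_add]
    rw [pow_mk p f hf P (2 * o) R, iterateFrobenius_even p f hf, Polynomial.map_id, e,
      pow_mul, hoβ, hoβ, ← Polynomial.aeval_def, AdjoinRoot.aeval_eq]
  have hcard_le : Fintype.card (AdjoinRoot P) ≤ q ^ (2 * o) :=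
    card_le_of_pow_eq (q ^ (2 * o)) (by
      calc 2 ≤ q := hq2
        _ = q ^ 1 := (pow_one q).symm
        _ ≤ q ^ (2 * o) := Nat.pow_le_pow_right (by omega) (by omega)) hfix
  have hdo : d ≤ o := by
    rw [hcardL] at hcard_le
    have := (Nat.pow_le_pow_iff_right (by omega : 1 < q)).mp hcard_le
    omega
  have hod : o ∣ d := by
    have hcop : Nat.Coprime o 2 := by
      rw [ht]
      simp
    exact hcop.dvd_of_dvd_mul_left ho_dvd_2d
  have hoeq : o = d := le_antisymm (Nat.le_of_dvd (by omega) hod) hdo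
  -- the norm
  set Q := q ^ d with hQ
  have hQ1 : 1 ≤ Q := Nat.one_le_pow _ _ (by omega)
  have hβQ : β ^ Q = β := by rw [hQ, ← hoeq]; exact hoβ
  have hcardU : Nat.card (AdjoinRoot P)ˣ = (Q - 1) * (Q + 1) := by
    rw [Nat.card_eq_fintype_card, Fintype.card_units, hcardL, hQ, pow_mul', pow_two]
    have : 1 ≤ q ^ d := hQ1
    zify [this, Nat.one_le_iff_ne_zero.mpr (Nat.mul_ne_zero (by omega : q ^ d ≠ 0)
      (by omega : q ^ d ≠ 0))]
    ring
  have hQ2 : 2 ≤ Q := by
    calc 2 ≤ q := hq2
      _ = q ^ 1 := (pow_one q).symm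
      _ ≤ q ^ d := Nat.pow_le_pow_right (by omega) hd1
  have hy : (Units.mk0 β hβ0) ^ (Q - 1) = 1 := by
    apply Units.ext
    rw [Units.val_pow_eq_pow_val, Units.val_mk0, Units.val_one]
    have h2 : β ^ (Q - 1) * β = 1 * β := by
      rw [← pow_succ, one_mul]
      have : Q - 1 + 1 = Q := by omega
      rw [this, hβQ]
    exact mul_right_cancel₀ hβ0 h2
  obtain ⟨x, hx⟩ := exists_pow_eq_of_pow_eq_one (Q - 1) (Q + 1) hcardU (by omega) _ hy
  obtain ⟨R, hR⟩ := AdjoinRoot.mk_surjective (x : AdjoinRoot P)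
  refine ⟨R, ?_⟩
  rw [← AdjoinRoot.mk_eq_zero, map_sub, map_mul, AdjoinRoot.mk_X]
  have h5 : AdjoinRoot.mk P (R.map (frobq K q)) = (AdjoinRoot.mk P R) ^ Q := by
    have hd_odd : d = 2 * t + 1 := by rw [← hoeq]; exact ht
    rw [hQ, pow_mk p f hf P d R, hd_odd, iterateFrobenius_odd p f hf, ← hd_odd, ← hQ, hβQ,
      ← Polynomial.aeval_def, AdjoinRoot.aeval_eq]
  rw [h5, hR, ← pow_succ]
  have := congrArg Units.val hx
  rw [Units.val_pow_eq_pow_val, Units.val_mk0] at this
  rw [this, sub_self]

end Cfsg.Agent.Helper8.Wall
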