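import Cfsg.Agent.Helper8.WallB
set_option autoImplicit false
set_option linter.unusedSectionVars false

/-!
The norm lemma for squarefree polynomials fixed by the Frobenius.
-/

namespace Cfsg.Agent.Helper8.Wall

open Polynomial Matrix Cfsg Cfsg.Agent.Helper8.GUOrder Cfsg.Agent.Helper8.SUCenter
  Cfsg.Agent.Helper8.AutSU Cfsg.Agent.Helper8.PU3 Cfsg.Agent.Helper8.PSUSing

variable {K : Type*} [Field K] [Fintype K] {q : ℕ} [hF : Fact (Fintype.card K = q ^ 2)]

local notation "σ" => Polynomial.map (frobq K q)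

/-- the Chinese remainder theorem for two coprime polynomials -/
theorem exists_crt {h f' : K[X]} (hc : IsCoprime h f') (R₁ R' : K[X]) :
    ∃ R : K[X], h ∣ R - R₁ ∧ f' ∣ R - R' := by
  obtain ⟨a, b, hab⟩ := hc
  refine ⟨R₁ * (b * f') + R' * (a * h), ?_, ?_⟩
  · refine ⟨(R' - R₁) * a, ?_⟩
    have : b * f' = 1 - a * h := by linear_combination hab
    rw [this]
    ring
  · refine ⟨(R₁ - R') * b, ?_⟩
    have : a * h = 1 - b * f' := by linear_combination hab
    rw [this]
    ring

/-- combining two solutions -/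
theorem combine {h f' : K[X]} (hc : IsCoprime h f') (hh : σ h = h) (hf' : σ f' = f')
    {R₁ R' : K[X]} (h1 : h ∣ σ R₁ * R₁ - X) (h2 : f' ∣ σ R' * R' - X) :
    ∃ R : K[X], h * f' ∣ σ R * R - X := by
  obtain ⟨R, hR1, hR2⟩ := exists_crt hc R₁ R'
  refine ⟨R, hc.mul_dvd ?_ ?_⟩
  · have e1 : h ∣ σ R - σ R₁ := by
      have := Polynomial.map_dvd (frobq K q) hR1
      rwa [hh, Polynomial.map_sub] at this
    have e : σ R * R - X = σ R * (R - R₁) + (σ R - σ R₁) * R₁ + (σ R₁ * R₁ - X) := by ring
    rw [e]
    exact dvd_add (dvd_add (Dvd.dvd.mul_left hR1 _) (Dvd.dvd.mul_right e1 _)) h1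
  · have e1 : f' ∣ σ R - σ R' := by
      have := Polynomial.map_dvd (frobq K q) hR2
      rwa [hf', Polynomial.map_sub] at this
    have e : σ R * R - X = σ R * (R - R') + (σ R - σ R') * R' + (σ R' * R' - X) := by ring
    rw [e]
    exact dvd_add (dvd_add (Dvd.dvd.mul_left hR2 _) (Dvd.dvd.mul_right e1 _)) h2

/-- the Frobenius as a ring automorphism of the polynomial ring -/
noncomputable def frobPolyEquiv : K[X] ≃+* K[X] :=
  { Polynomial.mapRingHom (frobq K q) with
    invFun := σ
    left_inv := fun P => map_map_frobq P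
    right_inv := fun P => map_map_frobq P }

theorem irreducible_map_frobq {g : K[X]} (hg : Irreducible g) : Irreducible (σ g) := by
  have := (MulEquiv.irreducible_iff (frobPolyEquiv (K := K) (q := q)).toMulEquiv (x := g)).mpr hg
  exact this

/-- a pair of distinct conjugate irreducible factors -/
theorem exists_norm_poly_pair {g : K[X]} (hgm : g.Monic) (hg : Irreducible g) (hne : σ g ≠ g) :
    IsCoprime g (σ g) ∧ ∃ R : K[X], g * σ g ∣ σ R * R - X := by
  have hg' : Irreducible (σ g) := irreducible_map_frobq hg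
  have hgm' : (σ g).Monic := hgm.map _
  have hc : IsCoprime g (σ g) := by
    rw [Irreducible.coprime_iff_not_dvd hg]
    intro hdvd
    apply hne
    have hass : Associated g (σ g) := hg.associated_of_dvd hg' hdvd
    exact (Polynomial.eq_of_monic_of_associated hgm hgm' hass).symm
  refine ⟨hc, ?_⟩
  obtain ⟨R, hR1, hR2⟩ := exists_crt hc X 1
  refine ⟨R, hc.mul_dvd ?_ ?_⟩
  · -- modulo `g`
    have e1 : g ∣ σ R - 1 := by
      have := Polynomial.map_dvd (frobq K q) hR2
      rwa [map_map_frobq, Polynomial.map_sub, Polynomial.map_one] at this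
    have e : σ R * R - X = σ R * (R - X) + (σ R - 1) * X := by ring
    rw [e]
    exact dvd_add (Dvd.dvd.mul_left hR1 _) (Dvd.dvd.mul_right e1 _)
  · -- modulo `σ g`
    have e1 : σ g ∣ σ R - X := by
      have := Polynomial.map_dvd (frobq K q) hR1
      rwa [Polynomial.map_sub, Polynomial.map_X] at this
    have e : σ R * R - X = σ R * (R - 1) + (σ R - X) := by ring
    rw [e]
    exact dvd_add (Dvd.dvd.mul_left hR2 _) e1


/-- **the norm lemma for polynomials**: modulo a squarefree polynomial fixed by the Frobenius and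
prime to `X`, the class of `X` is a norm -/
theorem exists_norm_poly (p : ℕ) [Fact p.Prime] [CharP K p] :
    ∀ (n : ℕ) (f : K[X]), f.natDegree = n → f.Monic → Squarefree f → σ f = f → IsCoprime f X →
      ∃ R : K[X], f ∣ σ R * R - X := by
  intro n
  induction n using Nat.strong_induction_on with
  | _ n ih =>
    intro f hn hfm hsq hfσ hfX
    by_cases hu : IsUnit f
    · exact ⟨0, hu.dvd⟩
    obtain ⟨g, hgm, hg, hgf⟩ := Polynomial.exists_monic_irreducible_factor f hu
    have hgdeg : 1 ≤ g.natDegree := by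
      have := Polynomial.natDegree_pos_iff_degree_pos.mpr (Polynomial.degree_pos_of_irreducible hg)
      omega
    have hgX : IsCoprime g X := hfX.of_isCoprime_of_dvd_left hgf
    -- the general step: a factor `h` fixed by the Frobenius with a solution
    have step : ∀ h : K[X], h.Monic → 1 ≤ h.natDegree → σ h = h → h ∣ f →
        (∃ R₁ : K[X], h ∣ σ R₁ * R₁ - X) → ∃ R : K[X], f ∣ σ R * R - X := by
      intro h hhm hhdeg hhσ hhf hR₁
      obtain ⟨R₁, hR₁⟩ := hR₁
      obtain ⟨f', rfl⟩ := hhf
      have hf'm : f'.Monic := hhm.of_mul_monic_left hfm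
      have hsq' := squarefree_mul_iff.mp hsq
      have hc : IsCoprime h f' := hsq'.1.isCoprime
      have hf'σ : σ f' = f' := by
        have : σ (h * f') = h * f' := hfσ
        rw [Polynomial.map_mul, hhσ] at this
        exact mul_left_cancel₀ hhm.ne_zero this
      have hf'X : IsCoprime f' X := hfX.of_mul_left_right
      have hdeg : f'.natDegree < n := by
        rw [← hn, hhm.natDegree_mul hf'm]
        omega
      obtain ⟨R', hR'⟩ := ih _ hdeg f' rfl hf'm hsq'.2.2 hf'σ hf'X
      exact combine hc hhσ hf'σ hR₁ hR'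
    by_cases hgσ : σ g = g
    · haveI : Fact (Irreducible g) := ⟨hg⟩
      have hβ0 : AdjoinRoot.root g ≠ 0 := by
        intro h0
        rw [← AdjoinRoot.mk_X, AdjoinRoot.mk_eq_zero] at h0
        exact hg.not_isUnit (hgX.isUnit_of_dvd' dvd_rfl h0)
      exact step g hgm hgdeg hgσ hgf (exists_norm_poly_irred p g hgm hgσ hβ0)
    · obtain ⟨hc0, hR₁⟩ := exists_norm_poly_pair hgm hg hgσ
      have hg'f : σ g ∣ f := by
        have := Polynomial.map_dvd (frobq K q) hgf
        rwa [hfσ] at this
      have hhf : g * σ g ∣ f := hc0.mul_dvd hgf hg'f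
      have hhm : (g * σ g).Monic := hgm.mul (hgm.map _)
      have hhσ : σ (g * σ g) = g * σ g := by
        rw [Polynomial.map_mul, map_map_frobq, mul_comm]
      have hhdeg : 1 ≤ (g * σ g).natDegree := by
        rw [hgm.natDegree_mul (hgm.map _)]
        omega
      exact step _ hhm hhdeg hhσ hhf hR₁

end Cfsg.Agent.Helper8.Wall
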