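import Cfsg.Agent.Helper8.WallC
import Cfsg.Agent.Helper8.PGLrBasic
set_option autoImplicit false
set_option linter.unusedSectionVars false

/-!
Every invertible Hermitian matrix over the field with `q ^ 2` elements is a norm `c* c` with `c`
in its double centraliser.
-/

namespace Cfsg.Agent.Helper8.Wall

open Polynomial Matrix Cfsg Cfsg.Agent.Helper8.GUOrder Cfsg.Agent.Helper8.SUCenter
  Cfsg.Agent.Helper8.AutSU Cfsg.Agent.Helper8.PU3 Cfsg.Agent.Helper8.PSUSing
  Cfsg.Agent.Helper8.RegSU

variable {K : Type*} [Field K] [Fintype K] {q : ℕ} [hF : Fact (Fintype.card K = q ^ 2)]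
variable {ι : Type*} [Fintype ι] [DecidableEq ι]

local notation "σ" => Polynomial.map (frobq K q)

theorem st_aeval (a : Matrix ι ι K) (P : K[X]) :
    st (q := q) (aeval a P) = aeval (st (q := q) a) (σ P) := by
  induction P using Polynomial.induction_on' with
  | add P Q hP hQ => rw [map_add, st_add, hP, hQ, Polynomial.map_add, map_add]
  | monomial n c =>
    rw [Polynomial.map_monomial, aeval_monomial, aeval_monomial, Algebra.algebraMap_eq_smul_one,
      Algebra.algebraMap_eq_smul_one, Matrix.smul_mul, Matrix.one_mul, Matrix.smul_mul,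
      Matrix.one_mul, st_smul, st_pow, frobq_apply]

omit [Fintype K] hF in
theorem commute_aeval {z a : Matrix ι ι K} (h : Commute z a) (P : K[X]) :
    Commute z (aeval a P) := by
  induction P using Polynomial.induction_on' with
  | add P Q hP hQ => rw [map_add]; exact hP.add_right hQ
  | monomial n c =>
    rw [aeval_monomial, Algebra.algebraMap_eq_smul_one, Matrix.smul_mul, Matrix.one_mul]
    exact (h.pow_right n).smul_right c

/-- the semisimple case -/
theorem exists_st_mul_eq_semisimple (p : ℕ) [Fact p.Prime] [CharP K p] (s : Matrix ι ι K)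
    (hs : st (q := q) s = s) (m : ℕ) (hm : p.Coprime m) (hsm : s ^ m = 1) :
    ∃ c : Matrix ι ι K, (∀ z : Matrix ι ι K, Commute z s → Commute z c) ∧
      st (q := q) c * c = s := by
  have hp : p.Prime := Fact.out
  have hm0 : ((m : ℕ) : K) ≠ 0 := by
    intro h0
    have h1 := (CharP.cast_eq_zero_iff K p m).mp h0
    have h2 : p ∣ Nat.gcd p m := Nat.dvd_gcd dvd_rfl h1
    rw [hm] at h2
    exact hp.one_lt.ne' (Nat.dvd_one.mp h2)
  have hm1 : 1 ≤ m := by
    rcases Nat.eq_zero_or_pos m with rfl | h
    · simp at hm0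
    · exact h
  have hsq : Squarefree (X ^ m - C (1 : K)) :=
    PGLr.squarefree_X_pow_sub_C m hm0 1 one_ne_zero
  set f := minpoly K s with hf
  have hfm : f.Monic := minpoly.monic (Matrix.isIntegral s)
  have h1 : f ∣ X ^ m - C (1 : K) := by
    apply minpoly.dvd
    rw [map_sub, map_pow, aeval_X, aeval_C, hsm, map_one, sub_self]
  have hfsq : Squarefree f := hsq.squarefree_of_dvd h1
  have hfX : IsCoprime f X := by
    have hc : IsCoprime (X ^ m - C (1 : K)) X := by
      refine ⟨-1, X ^ (m - 1), ?_⟩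
      have : (X : K[X]) ^ (m - 1) * X = X ^ m := by
        rw [← pow_succ]
        congr 1
        omega
      rw [this, map_one]
      ring
    exact hc.of_isCoprime_of_dvd_left h1
  have hfσ : σ f = f := by
    have h2 : aeval s (σ f) = 0 := by
      have := st_aeval (q := q) s f
      rw [hs, hf, minpoly.aeval, st_zero] at this
      exact this.symm
    have h3 : f ∣ σ f := minpoly.dvd K s h2
    have h4 : (σ f).Monic := hfm.map _
    exact Polynomial.eq_of_monic_of_dvd_of_natDegree_le hfm h4 h3
      (by rw [natDegree_map_frobq])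
  obtain ⟨R, hR⟩ := exists_norm_poly (K := K) (q := q) p _ f rfl hfm hfsq hfσ hfX
  refine ⟨aeval s R, fun z hz => commute_aeval hz R, ?_⟩
  rw [st_aeval, hs, ← map_mul]
  obtain ⟨w, hw⟩ := hR
  have : σ R * R = f * w + X := by rw [← hw]; ring
  rw [this, map_add, map_mul, hf, minpoly.aeval, zero_mul, zero_add, aeval_X]


/-- **the norm lemma**: every invertible Hermitian matrix is of the form `c* c`, with `c` in the
double centraliser -/
theorem exists_st_mul_eq_of_isUnit (p : ℕ) [Fact p.Prime] [CharP K p] (a : Matrix ι ι K)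
    (ha : st (q := q) a = a) (hu : IsUnit a) :
    ∃ c : Matrix ι ι K, (∀ z : Matrix ι ι K, Commute z a → Commute z c) ∧
      st (q := q) c * c = a := by
  have hp : p.Prime := Fact.out
  rcases isEmpty_or_nonempty ι with hι | hι
  · exact ⟨1, fun z _ => Commute.one_right z, Subsingleton.elim _ _⟩
  obtain ⟨ua, rfl⟩ := hu
  set M := orderOf ua with hM
  have hM0 : M ≠ 0 := (orderOf_pos ua).ne'
  obtain ⟨e, m, hpm, hMem⟩ := Nat.exists_eq_pow_mul_and_not_dvd hM0 p hp.ne_one
  have hcop : Nat.Coprime (p ^ e) m :=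
    Nat.Coprime.pow_left e ((Nat.Prime.coprime_iff_not_dvd hp).mpr hpm)
  have hpm' : p.Coprime m := (Nat.Prime.coprime_iff_not_dvd hp).mpr hpm
  obtain ⟨α, hα1, hα2⟩ := Nat.chineseRemainder hcop 0 1
  obtain ⟨β, hβ1, hβ2⟩ := Nat.chineseRemainder hcop 1 0
  have hα1' : p ^ e ∣ α := (Nat.modEq_zero_iff_dvd).mp hα1
  have hβ2' : m ∣ β := (Nat.modEq_zero_iff_dvd).mp hβ2
  have h1 : ua ^ (α * m) = 1 := by
    apply orderOf_dvd_iff_pow_eq_one.mp
    rw [← hM, hMem]
    exact mul_dvd_mul hα1' dvd_rfl
  have h2 : ua ^ (β * p ^ e) = 1 := by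
    apply orderOf_dvd_iff_pow_eq_one.mp
    rw [← hM, hMem, mul_comm (p ^ e) m]
    exact mul_dvd_mul hβ2' dvd_rfl
  have h3 : ua ^ (α + β) = ua := by
    have hmod : α + β ≡ 1 [MOD p ^ e * m] := by
      rw [← Nat.modEq_and_modEq_iff_modEq_mul hcop]
      exact ⟨by simpa using hα1.add hβ1, by simpa using hα2.add hβ2⟩
    rw [← hMem, hM] at hmod
    have := (pow_eq_pow_iff_modEq (x := ua)).mpr hmod
    rwa [pow_one] at this
  set a : Matrix ι ι K := (ua : Matrix ι ι K) with hadef
  set S : Matrix ι ι K := a ^ α with hS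
  set U : Matrix ι ι K := a ^ β with hU
  have hSst : st (q := q) S = S := by rw [hS, st_pow, ha]
  have hUst : st (q := q) U = U := by rw [hU, st_pow, ha]
  have hSm : S ^ m = 1 := by
    rw [hS, ← pow_mul, hadef, ← Units.val_pow_eq_pow_val, h1, Units.val_one]
  have hUp : U ^ (p ^ e) = 1 := by
    rw [hU, ← pow_mul, hadef, ← Units.val_pow_eq_pow_val, h2, Units.val_one]
  have hSU : S * U = a := by
    rw [hS, hU, ← pow_add, hadef, ← Units.val_pow_eq_pow_val, h3]
  set b : Matrix ι ι K := U - 1 with hb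
  have hbst : st (q := q) b = b := by rw [hb, st_sub, st_one, hUst]
  have hbk : b ^ (p ^ e) = 0 := by
    rw [hb, sub_pow_char_pow_of_commute p e (Commute.one_right U), one_pow, hUp, sub_self]
  obtain ⟨l, hl⟩ := exists_trace_one (K := K) (q := q)
  obtain ⟨cu, hcu1, hcu2⟩ := exists_st_mul_eq (q := q) l hl (p ^ e) b hbst hbk
  have hcu2' : st (q := q) cu * cu = U := by rw [hcu2, hb]; abel
  obtain ⟨cs, hcs1, hcs2⟩ := exists_st_mul_eq_semisimple (q := q) p S hSst m hpm' hSm
  have hSb : Commute S b := by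
    rw [hb, hS, hU]
    exact ((Commute.refl a).pow_pow α β).sub_right (Commute.one_right _)
  have hScu : Commute S cu := hcu1 S hSb
  have hScu' : Commute S (st (q := q) cu) := by
    have := st_commute (q := q) hScu
    rwa [hSst] at this
  refine ⟨cs * cu, ?_, ?_⟩
  · intro z hz
    have hzS : Commute z S := hz.pow_right α
    have hzU : Commute z U := hz.pow_right β
    have hzb : Commute z b := hzU.sub_right (Commute.one_right z)
    exact (hcs1 z hzS).mul_right (hcu1 z hzb)
  · rw [st_mul]
    calc st (q := q) cu * st (q := q) cs * (cs * cu)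
        = st (q := q) cu * (st (q := q) cs * cs) * cu := by simp only [Matrix.mul_assoc]
      _ = S * (st (q := q) cu * cu) := by rw [hcs2, ← hScu'.eq, Matrix.mul_assoc]
      _ = a := by rw [hcu2', hSU]

end Cfsg.Agent.Helper8.Wall
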