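import Mathlib
import Cfsg.Agent.Lead.SylowLemmas

set_option autoImplicit false

/-!
Powers with exponents in `ZMod p`, the action of group elements on a subgroup `⟨z⟩ × ⟨x⟩` of
exponent `p` written with `2 × 2` matrices, and the "torus elements" in the normaliser of a Sylow
subgroup obtained from two opposite transvections.
-/

namespace Cfsg.Agent.Helper8.Xp

open Matrix

variable {G : Type*} [Group G] {p : ℕ} [hp : Fact p.Prime]

/-- power with an exponent in `ZMod p` -/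
def zp (g : G) (a : ZMod p) : G := g ^ a.val

@[simp] theorem zp_zero (g : G) : zp g (0 : ZMod p) = 1 := by simp [zp]

@[simp] theorem zp_one (g : G) : zp g (1 : ZMod p) = g := by
  haveI : Fact (1 < p) := ⟨hp.out.one_lt⟩
  simp [zp, ZMod.val_one]

theorem zp_add {g : G} (hg : g ^ p = 1) (a b : ZMod p) : zp g (a + b) = zp g a * zp g b := by
  rw [zp, zp, zp, ZMod.val_add, ← pow_add]
  exact (pow_eq_pow_mod _ hg).symm

theorem zp_mul {g : G} (hg : g ^ p = 1) (a b : ZMod p) : zp (zp g a) b = zp g (a * b) := by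
  rw [zp, zp, zp, ZMod.val_mul, ← pow_mul]
  exact pow_eq_pow_mod _ hg

theorem zp_natCast {g : G} (hg : g ^ p = 1) (k : ℕ) : zp g (k : ZMod p) = g ^ k := by
  rw [zp, ZMod.val_natCast]
  exact (pow_eq_pow_mod _ hg).symm

theorem zp_pow_p {g : G} (hg : g ^ p = 1) (a : ZMod p) : (zp g a) ^ p = 1 := by
  rw [zp, ← pow_mul, mul_comm, pow_mul, hg, one_pow]

theorem zp_neg {g : G} (hg : g ^ p = 1) (a : ZMod p) : zp g (-a) = (zp g a)⁻¹ := by
  rw [eq_inv_iff_mul_eq_one, ← zp_add hg, neg_add_cancel, zp_zero]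

theorem conj_zp (h g : G) (a : ZMod p) : h * zp g a * h⁻¹ = zp (h * g * h⁻¹) a := by
  rw [zp, zp, conj_pow]

theorem commute_zp {g h : G} (hc : Commute g h) (a b : ZMod p) : Commute (zp g a) (zp h b) :=
  (hc.pow_right _).pow_left _

theorem mul_zp {g h : G} (hc : Commute g h) (a : ZMod p) : zp (g * h) a = zp g a * zp h a := by
  rw [zp, zp, zp, hc.mul_pow]

theorem zp_mem {H : Subgroup G} {g : G} (hg : g ∈ H) (a : ZMod p) : zp g a ∈ H :=
  H.pow_mem hg _

theorem zp_one_left (a : ZMod p) : zp (1 : G) a = 1 := by simp [zp]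

/-- the element `z ^ v₀ * x ^ v₁` -/
def vec (z x : G) (v : Fin 2 → ZMod p) : G := zp z (v 0) * zp x (v 1)

section vec

variable {z x : G} (hz : z ^ p = 1) (hx : x ^ p = 1) (hc : Commute z x)

include hz hx hc

theorem vec_add (v w : Fin 2 → ZMod p) : vec z x (v + w) = vec z x v * vec z x w := by
  simp only [vec, Pi.add_apply]
  rw [zp_add hz, zp_add hx]
  have h1 : Commute (zp x (v 1)) (zp z (w 0)) := (commute_zp hc _ _).symm
  calc zp z (v 0) * zp z (w 0) * (zp x (v 1) * zp x (w 1))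
      = zp z (v 0) * (zp z (w 0) * zp x (v 1)) * zp x (w 1) := by group
    _ = zp z (v 0) * (zp x (v 1) * zp z (w 0)) * zp x (w 1) := by rw [h1.eq]
    _ = _ := by group

theorem vec_pow_p (v : Fin 2 → ZMod p) : (vec z x v) ^ p = 1 := by
  rw [vec, (commute_zp hc _ _).mul_pow, zp_pow_p hz, zp_pow_p hx, one_mul]

theorem vec_smul (a : ZMod p) (v : Fin 2 → ZMod p) : zp (vec z x v) a = vec z x (a • v) := by
  rw [vec, mul_zp (commute_zp hc _ _), zp_mul hz, zp_mul hx, vec]
  simp only [Pi.smul_apply, smul_eq_mul]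
  rw [mul_comm (v 0), mul_comm (v 1)]

theorem commute_vec (v w : Fin 2 → ZMod p) : Commute (vec z x v) (vec z x w) := by
  have h1 : vec z x v * vec z x w = vec z x w * vec z x v := by
    rw [← vec_add hz hx hc, ← vec_add hz hx hc, add_comm]
  exact h1

end vec

theorem vec_e0 (z x : G) : vec z x (![1, 0] : Fin 2 → ZMod p) = z := by
  simp [vec]

theorem vec_e1 (z x : G) : vec z x (![0, 1] : Fin 2 → ZMod p) = x := by
  simp [vec]

/-- `g` acts on `⟨z⟩ × ⟨x⟩` by conjugation with the matrix `A` -/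
def Acts (z x g : G) (A : Matrix (Fin 2) (Fin 2) (ZMod p)) : Prop :=
  ∀ v : Fin 2 → ZMod p, g * vec z x v * g⁻¹ = vec z x (A *ᵥ v)

theorem mulVec_eq (A : Matrix (Fin 2) (Fin 2) (ZMod p)) (v : Fin 2 → ZMod p) :
    A *ᵥ v = v 0 • (fun i => A i 0) + v 1 • (fun i => A i 1) := by
  ext i
  simp only [Matrix.mulVec, dotProduct, Fin.sum_univ_two, Pi.add_apply, Pi.smul_apply,
    smul_eq_mul]
  ring

section acts

variable {z x : G} (hz : z ^ p = 1) (hx : x ^ p = 1) (hc : Commute z x)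

include hz hx hc

theorem acts_of_basis {g : G} {A : Matrix (Fin 2) (Fin 2) (ZMod p)}
    (h0 : g * z * g⁻¹ = vec z x (fun i => A i 0)) (h1 : g * x * g⁻¹ = vec z x (fun i => A i 1)) :
    Acts z x g A := by
  intro v
  rw [mulVec_eq, vec_add hz hx hc, ← vec_smul hz hx hc, ← vec_smul hz hx hc, ← h0, ← h1,
    ← conj_zp, ← conj_zp, vec]
  group

omit hz hx hc in
theorem Acts.basis0 {g : G} {A : Matrix (Fin 2) (Fin 2) (ZMod p)} (h : Acts z x g A) :
    g * z * g⁻¹ = vec z x (fun i => A i 0) := by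
  have := h ![1, 0]
  rw [vec_e0] at this
  rw [this]
  congr 1
  ext i
  simp [Matrix.mulVec, dotProduct, Fin.sum_univ_two]

omit hz hx hc in
theorem Acts.basis1 {g : G} {A : Matrix (Fin 2) (Fin 2) (ZMod p)} (h : Acts z x g A) :
    g * x * g⁻¹ = vec z x (fun i => A i 1) := by
  have := h ![0, 1]
  rw [vec_e1] at this
  rw [this]
  congr 1
  ext i
  simp [Matrix.mulVec, dotProduct, Fin.sum_univ_two]

omit hz hx hc in
theorem acts_one : Acts z x (1 : G) (1 : Matrix (Fin 2) (Fin 2) (ZMod p)) := by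
  intro v
  simp

omit hz hx hc in
theorem Acts.mul {g h : G} {A B : Matrix (Fin 2) (Fin 2) (ZMod p)} (hg : Acts z x g A)
    (hh : Acts z x h B) : Acts z x (g * h) (A * B) := by
  intro v
  have h1 : g * h * vec z x v * (g * h)⁻¹ = g * (h * vec z x v * h⁻¹) * g⁻¹ := by group
  rw [h1, hh v, hg, Matrix.mulVec_mulVec]

omit hz hx hc in
theorem Acts.inv {g : G} {A B : Matrix (Fin 2) (Fin 2) (ZMod p)} (hg : Acts z x g A)
    (hAB : A * B = 1) : Acts z x g⁻¹ B := by
  intro v
  have h1 := hg (B *ᵥ v)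
  rw [Matrix.mulVec_mulVec, hAB, Matrix.one_mulVec] at h1
  rw [← h1]
  group

omit hz hx hc in
theorem Acts.pow_upper {u : G} {s : ZMod p} (hu : Acts z x u !![1, s; 0, 1]) (k : ℕ) :
    Acts z x (u ^ k) !![1, (k : ZMod p) * s; 0, 1] := by
  induction k with
  | zero =>
    have : (!![1, ((0 : ℕ) : ZMod p) * s; 0, 1] : Matrix (Fin 2) (Fin 2) (ZMod p)) = 1 := by
      ext i j; fin_cases i <;> fin_cases j <;> simp
    rw [this, pow_zero]
    exact acts_one
  | succ k ih =>
    have h1 := ih.mul hu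
    rw [← pow_succ] at h1
    have : (!![1, ((k : ℕ) : ZMod p) * s; 0, 1] * !![1, s; 0, 1] :
        Matrix (Fin 2) (Fin 2) (ZMod p)) = !![1, ((k + 1 : ℕ) : ZMod p) * s; 0, 1] := by
      ext i j; fin_cases i <;> fin_cases j <;> simp [Matrix.mul_apply, Fin.sum_univ_two] <;> ring
    rwa [this] at h1

omit hz hx hc in
theorem Acts.pow_lower {u : G} {s : ZMod p} (hu : Acts z x u !![1, 0; s, 1]) (k : ℕ) :
    Acts z x (u ^ k) !![1, 0; (k : ZMod p) * s, 1] := by
  induction k with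
  | zero =>
    have : (!![1, 0; ((0 : ℕ) : ZMod p) * s, 1] : Matrix (Fin 2) (Fin 2) (ZMod p)) = 1 := by
      ext i j; fin_cases i <;> fin_cases j <;> simp
    rw [this, pow_zero]
    exact acts_one
  | succ k ih =>
    have h1 := ih.mul hu
    rw [← pow_succ] at h1
    have : (!![1, 0; ((k : ℕ) : ZMod p) * s, 1] * !![1, 0; s, 1] :
        Matrix (Fin 2) (Fin 2) (ZMod p)) = !![1, 0; ((k + 1 : ℕ) : ZMod p) * s, 1] := by
      ext i j; fin_cases i <;> fin_cases j <;> simp [Matrix.mul_apply, Fin.sum_univ_two] <;> ring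
    rwa [this] at h1

omit hz hx hc in
/-- all upper unitriangular actions, from one -/
theorem exists_upper {H : Subgroup G} {u : G} (huH : u ∈ H) {s₀ : ZMod p} (hs₀ : s₀ ≠ 0)
    (hu : Acts z x u !![1, s₀; 0, 1]) (s : ZMod p) : ∃ g ∈ H, Acts z x g !![1, s; 0, 1] := by
  refine ⟨u ^ (s / s₀).val, H.pow_mem huH _, ?_⟩
  have h1 := hu.pow_upper (s / s₀).val
  rwa [ZMod.natCast_zmod_val, div_mul_cancel₀ _ hs₀] at h1

omit hz hx hc in
theorem exists_lower {y : G} {c : ZMod p} (hc0 : c ≠ 0)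
    (hy : Acts z x y !![1, 0; c, 1]) (s : ZMod p) : ∃ g : G, Acts z x g !![1, 0; s, 1] := by
  refine ⟨y ^ (s / c).val, ?_⟩
  have h1 := hy.pow_lower (s / c).val
  rwa [ZMod.natCast_zmod_val, div_mul_cancel₀ _ hc0] at h1

end acts

end Cfsg.Agent.Helper8.Xp
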