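import Mathlib
import Cfsg.Agent.Helper8.XpA

set_option autoImplicit false

/-!
Torus elements in the normaliser of a Sylow subgroup.
-/

namespace Cfsg.Agent.Helper8.Xp

open Matrix

variable {G : Type*} [Group G] {p : ℕ} [hp : Fact p.Prime]

/-- the elements acting on `⟨z⟩ × ⟨x⟩` as upper unitriangular matrices -/
def upperSub (z x : G) : Subgroup G where
  carrier := {g | ∃ s : ZMod p, Acts z x g !![1, s; 0, 1]}
  one_mem' := by
    refine ⟨0, ?_⟩
    have : (!![1, 0; 0, 1] : Matrix (Fin 2) (Fin 2) (ZMod p)) = 1 := by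
      ext i j; fin_cases i <;> fin_cases j <;> simp
    rw [this]
    exact acts_one
  mul_mem' := by
    rintro a b ⟨s, hs⟩ ⟨t, ht⟩
    refine ⟨s + t, ?_⟩
    have h1 := hs.mul ht
    have : (!![1, s; 0, 1] * !![1, t; 0, 1] : Matrix (Fin 2) (Fin 2) (ZMod p)) =
        !![1, s + t; 0, 1] := by
      ext i j; fin_cases i <;> fin_cases j <;> simp [Matrix.mul_apply, Fin.sum_univ_two]
      ring
    rwa [this] at h1
  inv_mem' := by
    rintro a ⟨s, hs⟩
    refine ⟨-s, ?_⟩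
    apply hs.inv
    ext i j; fin_cases i <;> fin_cases j <;> simp [Matrix.mul_apply, Fin.sum_univ_two]

theorem mem_upperSub {z x g : G} :
    g ∈ upperSub (p := p) z x ↔ ∃ s : ZMod p, Acts z x g !![1, s; 0, 1] := Iff.rfl

/-- torus elements in the normaliser of a Sylow subgroup -/
theorem exists_torus [Finite G] (P : Sylow p G) {z x : G}
    (h1 : ∀ t ∈ P, ∃ s : ZMod p, Acts z x t !![1, s; 0, 1])
    (h2 : ∃ u ∈ P, ∃ s : ZMod p, s ≠ 0 ∧ Acts z x u !![1, s; 0, 1])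
    (h3 : ∃ y : G, ∃ c : ZMod p, c ≠ 0 ∧ Acts z x y !![1, 0; c, 1]) (a : (ZMod p)ˣ) :
    ∃ n ∈ Subgroup.normalizer ((P : Subgroup G) : Set G), ∃ s : ZMod p,
      Acts z x n !![(a : ZMod p), s; 0, ((a⁻¹ : (ZMod p)ˣ) : ZMod p)] := by
  obtain ⟨u, huP, s₀, hs₀, hu⟩ := h2
  obtain ⟨y, c, hc0, hy⟩ := h3
  set ai : ZMod p := ((a⁻¹ : (ZMod p)ˣ) : ZMod p) with hai
  have haai : (a : ZMod p) * ai = 1 := by rw [hai, ← Units.val_mul, mul_inv_cancel, Units.val_one]
  have haia : ai * (a : ZMod p) = 1 := by rw [mul_comm]; exact haai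
  obtain ⟨g₁, -, hg₁⟩ := exists_upper huP hs₀ hu (a : ZMod p)
  obtain ⟨g₂, hg₂⟩ := exists_lower hc0 hy (-ai)
  obtain ⟨g₄, -, hg₄⟩ := exists_upper huP hs₀ hu (-1)
  obtain ⟨g₅, hg₅⟩ := exists_lower hc0 hy 1
  -- the element acting as `diag(a, a⁻¹)`
  set h : G := g₁ * g₂ * g₁ * g₄ * g₅ * g₄ with hh
  have hact : Acts z x h !![(a : ZMod p), 0; 0, ai] := by
    have e1 : (!![1, (a : ZMod p); 0, 1] * !![1, 0; -ai, 1] : Matrix (Fin 2) (Fin 2) (ZMod p)) =
        !![0, (a : ZMod p); -ai, 1] := by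
      ext i j; fin_cases i <;> fin_cases j <;> simp [Matrix.mul_apply, Fin.sum_univ_two, haai]
    have e2 : (!![0, (a : ZMod p); -ai, 1] * !![1, (a : ZMod p); 0, 1] :
        Matrix (Fin 2) (Fin 2) (ZMod p)) = !![0, (a : ZMod p); -ai, 0] := by
      ext i j; fin_cases i <;> fin_cases j <;> simp [Matrix.mul_apply, Fin.sum_univ_two, haia]
    have e3 : (!![0, (a : ZMod p); -ai, 0] * !![1, -1; 0, 1] :
        Matrix (Fin 2) (Fin 2) (ZMod p)) = !![0, (a : ZMod p); -ai, ai] := by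
      ext i j; fin_cases i <;> fin_cases j <;> simp [Matrix.mul_apply, Fin.sum_univ_two]
    have e4 : (!![0, (a : ZMod p); -ai, ai] * !![1, 0; 1, 1] :
        Matrix (Fin 2) (Fin 2) (ZMod p)) = !![(a : ZMod p), (a : ZMod p); 0, ai] := by
      ext i j; fin_cases i <;> fin_cases j <;> simp [Matrix.mul_apply, Fin.sum_univ_two]
    have e5 : (!![(a : ZMod p), (a : ZMod p); 0, ai] * !![1, -1; 0, 1] :
        Matrix (Fin 2) (Fin 2) (ZMod p)) = !![(a : ZMod p), 0; 0, ai] := by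
      ext i j; fin_cases i <;> fin_cases j <;> simp [Matrix.mul_apply, Fin.sum_univ_two]
    have h5 := ((((hg₁.mul hg₂).mul hg₁).mul hg₄).mul hg₅).mul hg₄
    rwa [e1, e2, e3, e4, e5] at h5
  have hactinv : Acts z x h⁻¹ !![ai, 0; 0, (a : ZMod p)] := by
    apply hact.inv
    ext i j; fin_cases i <;> fin_cases j <;> simp [Matrix.mul_apply, Fin.sum_univ_two, haai, haia]
  -- conjugation by `h` keeps `P` inside `upperSub`
  have hPK : (P : Subgroup G) ≤ upperSub (p := p) z x := fun t ht => h1 t ht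
  have hTK : (P : Subgroup G).map (MulAut.conj h).toMonoidHom ≤ upperSub (p := p) z x := by
    rintro _ ⟨t, ht, rfl⟩
    obtain ⟨s, hs⟩ := h1 t ht
    refine ⟨(a : ZMod p) * (a : ZMod p) * s, ?_⟩
    have h6 := (hact.mul hs).mul hactinv
    have : (!![(a : ZMod p), 0; 0, ai] * !![1, s; 0, 1] * !![ai, 0; 0, (a : ZMod p)] :
        Matrix (Fin 2) (Fin 2) (ZMod p)) = !![1, (a : ZMod p) * (a : ZMod p) * s; 0, 1] := by
      ext i j; fin_cases i <;> fin_cases j <;>
        simp [Matrix.mul_apply, Fin.sum_univ_two, haai, haia]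
      ring
    rw [this] at h6
    simpa using h6
  have hcard : Nat.card (P : Subgroup G) =
      p ^ (Nat.card (upperSub (p := p) z x)).factorization p := by
    apply Cfsg.Agent.Lead.card_eq_ppart_of_le hPK (le_top : upperSub (p := p) z x ≤ ⊤) P.isPGroup'
    rw [Subgroup.card_top]
    exact P.card_eq_multiplicity
  have hTp : IsPGroup p ((P : Subgroup G).map (MulAut.conj h).toMonoidHom) := P.isPGroup'.map _
  obtain ⟨k, hkK, hk⟩ := Cfsg.Agent.Lead.exists_conj_le_of_card_eq_ppart hPK hcard hTK hTp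
  obtain ⟨s', hs'⟩ := hkK
  refine ⟨k * h, ?_, s' * ai, ?_⟩
  · apply Subgroup.mem_normalizer_fintype
    intro t ht
    have h7 : k * h * t * (k * h)⁻¹ = k * (h * t * h⁻¹) * k⁻¹ := by group
    rw [h7]
    apply hk
    exact ⟨h * t * h⁻¹, ⟨t, ht, rfl⟩, rfl⟩
  · have h8 := hs'.mul hact
    have : (!![1, s'; 0, 1] * !![(a : ZMod p), 0; 0, ai] : Matrix (Fin 2) (Fin 2) (ZMod p)) =
        !![(a : ZMod p), s' * ai; 0, ai] := by
      ext i j; fin_cases i <;> fin_cases j <;> simp [Matrix.mul_apply, Fin.sum_univ_two]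
    rwa [this] at h8

end Cfsg.Agent.Helper8.Xp
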