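import Mathlib
import Cfsg.Agent.Helper8.XpA

set_option autoImplicit false

/-!
A nonabelian group `Q` of order `p³` with centre of order `p` containing all commutators:
the commutator pairing with values in `ZMod p`, coordinates on `Q / Z(Q)`, and the induced
representation of `MulAut Q` on `Q / Z(Q)` by `2 × 2` matrices.
-/

namespace Cfsg.Agent.Helper8.Xp

open Matrix
open scoped commutatorElement

/-- the data: two noncommuting elements of a group of order `p³` of class two -/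
structure HData (p : ℕ) (Q : Type*) [Group Q] where
  z₀ : Q
  x₀ : Q
  y₀ : Q
  comm_mem : ∀ g h : Q, ⁅g, h⁆ ∈ Subgroup.center Q
  card_center : Nat.card (Subgroup.center Q) = p
  card : Nat.card Q = p ^ 3
  hz₀ : ⁅x₀, y₀⁆ = z₀
  z₀_ne : z₀ ≠ 1

namespace HData

variable {Q : Type*} [Group Q] {p : ℕ} [hp : Fact p.Prime] (D : HData p Q)

include hp D

theorem finite : Finite Q := by
  apply Nat.finite_of_card_ne_zero
  rw [D.card]
  exact pow_ne_zero _ hp.out.ne_zero

theorem z₀_mem : D.z₀ ∈ Subgroup.center Q := D.hz₀ ▸ D.comm_mem _ _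

theorem center_pow {w : Q} (hw : w ∈ Subgroup.center Q) : w ^ p = 1 := by
  have h1 : (⟨w, hw⟩ : Subgroup.center Q) ^ Nat.card (Subgroup.center Q) = 1 :=
    pow_card_eq_one'
  rw [D.card_center] at h1
  exact congrArg Subtype.val h1

theorem z₀_pow : D.z₀ ^ p = 1 := D.center_pow D.z₀_mem

theorem orderOf_z₀ : orderOf D.z₀ = p := orderOf_eq_prime D.z₀_pow D.z₀_ne

theorem zp_inj {s t : ZMod p} (h : zp D.z₀ s = zp D.z₀ t) : s = t := by
  apply ZMod.val_injective
  apply pow_injOn_Iio_orderOf (x := D.z₀)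
  · rw [Set.mem_Iio, D.orderOf_z₀]; exact ZMod.val_lt s
  · rw [Set.mem_Iio, D.orderOf_z₀]; exact ZMod.val_lt t
  · exact h

theorem center_eq {w : Q} (hw : w ∈ Subgroup.center Q) : ∃ s : ZMod p, w = zp D.z₀ s := by
  haveI := D.finite
  have h1 : Subgroup.zpowers D.z₀ = Subgroup.center Q := by
    apply Subgroup.eq_of_le_of_card_ge
    · rw [Subgroup.zpowers_le]; exact D.z₀_mem
    · rw [Nat.card_zpowers, D.orderOf_z₀, D.card_center]
  rw [← h1, ← mem_powers_iff_mem_zpowers] at hw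
  obtain ⟨n, hn⟩ := hw
  refine ⟨(n : ZMod p), ?_⟩
  rw [zp_natCast D.z₀_pow]
  exact hn.symm

open Classical in
/-- the logarithm of a central element -/
noncomputable def lgf (w : Q) : ZMod p :=
  if hw : w ∈ Subgroup.center Q then Classical.choose (D.center_eq hw) else 0

theorem zp_lgf {w : Q} (hw : w ∈ Subgroup.center Q) : zp D.z₀ (D.lgf w) = w := by
  rw [lgf, dif_pos hw]
  exact (Classical.choose_spec (D.center_eq hw)).symm

theorem lgf_zp (s : ZMod p) : D.lgf (zp D.z₀ s) = s := by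
  apply D.zp_inj
  rw [D.zp_lgf (zp_mem D.z₀_mem s)]

/-- the commutator pairing -/
noncomputable def pair (g h : Q) : ZMod p := D.lgf ⁅g, h⁆

theorem comm_eq (g h : Q) : ⁅g, h⁆ = zp D.z₀ (D.pair g h) := (D.zp_lgf (D.comm_mem g h)).symm

theorem comm_mul_left (g g' h : Q) : ⁅g * g', h⁆ = ⁅g, h⁆ * ⁅g', h⁆ := by
  have h1 := Subgroup.mem_center_iff.mp (D.comm_mem g' h)
  have h2 : ⁅g * g', h⁆ = g * ⁅g', h⁆ * g⁻¹ * ⁅g, h⁆ := by
    simp only [commutatorElement_def]; group
  rw [h2, h1 g, mul_inv_cancel_right]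
  exact (Subgroup.mem_center_iff.mp (D.comm_mem g h) _)

theorem comm_mul_right (g h h' : Q) : ⁅g, h * h'⁆ = ⁅g, h⁆ * ⁅g, h'⁆ := by
  have h1 : ⁅g, h * h'⁆ = (⁅h * h', g⁆)⁻¹ := (commutatorElement_inv _ _).symm
  rw [h1, D.comm_mul_left, _root_.mul_inv_rev, commutatorElement_inv, commutatorElement_inv]
  exact (Subgroup.mem_center_iff.mp (D.comm_mem g h) _)

theorem pair_mul_left (g g' h : Q) : D.pair (g * g') h = D.pair g h + D.pair g' h := by
  apply D.zp_inj
  rw [← D.comm_eq, D.comm_mul_left, zp_add D.z₀_pow, ← D.comm_eq, ← D.comm_eq]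

theorem pair_mul_right (g h h' : Q) : D.pair g (h * h') = D.pair g h + D.pair g h' := by
  apply D.zp_inj
  rw [← D.comm_eq, D.comm_mul_right, zp_add D.z₀_pow, ← D.comm_eq, ← D.comm_eq]

theorem pair_eq_zero_iff {g h : Q} : D.pair g h = 0 ↔ Commute g h := by
  rw [← commutatorElement_eq_one_iff_commute, D.comm_eq]
  constructor
  · intro h1; rw [h1, zp_zero]
  · intro h1
    apply D.zp_inj
    rw [h1, zp_zero]

theorem pair_self (g : Q) : D.pair g g = 0 := D.pair_eq_zero_iff.mpr (Commute.refl g)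

theorem pair_swap (g h : Q) : D.pair h g = - D.pair g h := by
  apply D.zp_inj
  rw [← D.comm_eq, zp_neg D.z₀_pow, ← D.comm_eq, commutatorElement_inv]

theorem pair_center_left {w : Q} (hw : w ∈ Subgroup.center Q) (h : Q) : D.pair w h = 0 :=
  D.pair_eq_zero_iff.mpr ((Subgroup.mem_center_iff.mp hw h).symm)

theorem pair_center_right {w : Q} (hw : w ∈ Subgroup.center Q) (h : Q) : D.pair h w = 0 :=
  D.pair_eq_zero_iff.mpr (Subgroup.mem_center_iff.mp hw h)

theorem pair_one_left (h : Q) : D.pair 1 h = 0 := D.pair_center_left (Subgroup.one_mem _) h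

theorem pair_one_right (h : Q) : D.pair h 1 = 0 := D.pair_center_right (Subgroup.one_mem _) h

theorem pair_inv_left (g h : Q) : D.pair g⁻¹ h = - D.pair g h := by
  have h1 := D.pair_mul_left g g⁻¹ h
  rw [mul_inv_cancel, D.pair_one_left] at h1
  exact (neg_eq_of_add_eq_zero_right h1.symm).symm

theorem pair_inv_right (g h : Q) : D.pair g h⁻¹ = - D.pair g h := by
  have h1 := D.pair_mul_right g h h⁻¹
  rw [mul_inv_cancel, D.pair_one_right] at h1
  exact (neg_eq_of_add_eq_zero_right h1.symm).symm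

theorem pair_pow_left (g h : Q) (k : ℕ) : D.pair (g ^ k) h = (k : ZMod p) * D.pair g h := by
  induction k with
  | zero => simp [D.pair_one_left]
  | succ k ih => rw [pow_succ, D.pair_mul_left, ih]; push_cast; ring

theorem pair_pow_right (g h : Q) (k : ℕ) : D.pair g (h ^ k) = (k : ZMod p) * D.pair g h := by
  induction k with
  | zero => simp [D.pair_one_right]
  | succ k ih => rw [pow_succ, D.pair_mul_right, ih]; push_cast; ring

theorem pair_zp_left (g h : Q) (a : ZMod p) : D.pair (zp g a) h = a * D.pair g h := by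
  rw [zp, D.pair_pow_left, ZMod.natCast_zmod_val]

theorem pair_zp_right (g h : Q) (a : ZMod p) : D.pair g (zp h a) = a * D.pair g h := by
  rw [zp, D.pair_pow_right, ZMod.natCast_zmod_val]

theorem pair_x₀_y₀ : D.pair D.x₀ D.y₀ = 1 := by
  apply D.zp_inj
  rw [← D.comm_eq, zp_one, D.hz₀]

theorem pair_conj (t g h : Q) : D.pair (t * g * t⁻¹) h = D.pair g h := by
  rw [D.pair_mul_left, D.pair_mul_left, D.pair_inv_left]; ring

theorem pair_conj_right (t g h : Q) : D.pair h (t * g * t⁻¹) = D.pair h g := by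
  rw [D.pair_mul_right, D.pair_mul_right, D.pair_inv_right]; ring

/-- an element commuting with `x₀` and `y₀` is central -/
theorem mem_center_of_commute {g : Q} (h1 : Commute g D.x₀) (h2 : Commute g D.y₀) :
    g ∈ Subgroup.center Q := by
  haveI := D.finite
  set C₁ : Subgroup Q := Subgroup.centralizer {D.x₀} with hC₁
  set C₂ : Subgroup Q := C₁ ⊓ Subgroup.centralizer {D.y₀} with hC₂
  have hxy : ¬ Commute D.x₀ D.y₀ := by
    intro h
    have := D.pair_eq_zero_iff.mpr h
    rw [D.pair_x₀_y₀] at this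
    exact one_ne_zero this
  have hC₁top : C₁ ≠ ⊤ := by
    intro h
    have : D.y₀ ∈ C₁ := h ▸ Subgroup.mem_top _
    rw [hC₁, Subgroup.mem_centralizer_singleton_iff] at this
    exact hxy this.symm
  have hx₀C₁ : D.x₀ ∈ C₁ := by rw [hC₁, Subgroup.mem_centralizer_singleton_iff]
  have hx₀C₂ : D.x₀ ∉ C₂ := by
    intro h
    have := Subgroup.mem_centralizer_singleton_iff.mp (Subgroup.mem_inf.mp h).2
    exact hxy this
  have hcen : Subgroup.center Q ≤ C₂ := by
    intro w hw
    refine Subgroup.mem_inf.mpr ⟨?_, ?_⟩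
    · rw [hC₁, Subgroup.mem_centralizer_singleton_iff]; exact (Subgroup.mem_center_iff.mp hw _).symm
    · rw [Subgroup.mem_centralizer_singleton_iff]; exact (Subgroup.mem_center_iff.mp hw _).symm
  have hd1 : Nat.card C₁ ∣ p ^ 3 := D.card ▸ Subgroup.card_subgroup_dvd_card C₁
  obtain ⟨k, hk3, hk⟩ := (Nat.dvd_prime_pow hp.out).mp hd1
  have hk3' : k ≠ 3 := by
    intro h
    apply hC₁top
    rw [← Subgroup.card_eq_iff_eq_top, hk, h, D.card]
  have hd2 : Nat.card C₂ ∣ p ^ k := hk ▸ Subgroup.card_dvd_of_le (inf_le_left : C₂ ≤ C₁)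
  obtain ⟨j, hjk, hj⟩ := (Nat.dvd_prime_pow hp.out).mp hd2
  have hjk' : j ≠ k := by
    intro h
    apply hx₀C₂
    have : C₂ = C₁ := Subgroup.eq_of_le_of_card_ge inf_le_left (by rw [hk, hj, h])
    rw [this]; exact hx₀C₁
  have hj1 : j ≤ 1 := by omega
  have heq : Subgroup.center Q = C₂ := by
    apply Subgroup.eq_of_le_of_card_ge hcen
    rw [D.card_center, hj]
    calc p ^ j ≤ p ^ 1 := Nat.pow_le_pow_right hp.out.pos hj1
      _ = p := pow_one p
  rw [heq]
  refine Subgroup.mem_inf.mpr ⟨?_, ?_⟩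
  · rw [hC₁, Subgroup.mem_centralizer_singleton_iff]; exact h1
  · rw [Subgroup.mem_centralizer_singleton_iff]; exact h2

/-- the coordinates on `Q / Z(Q)` -/
noncomputable def cvec (g : Q) : Fin 2 → ZMod p := ![D.pair g D.y₀, D.pair D.x₀ g]

theorem cvec_zero (g : Q) : D.cvec g 0 = D.pair g D.y₀ := rfl

theorem cvec_one (g : Q) : D.cvec g 1 = D.pair D.x₀ g := rfl

theorem cvec_mul (g h : Q) : D.cvec (g * h) = D.cvec g + D.cvec h := by
  ext i
  fin_cases i
  · simp [cvec, D.pair_mul_left]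
  · simp [cvec, D.pair_mul_right]

theorem cvec_zp (g : Q) (a : ZMod p) : D.cvec (zp g a) = a • D.cvec g := by
  ext i
  fin_cases i
  · simp [cvec, D.pair_zp_left]
  · simp [cvec, D.pair_zp_right]

theorem cvec_center {w : Q} (hw : w ∈ Subgroup.center Q) : D.cvec w = 0 := by
  ext i
  fin_cases i
  · simp [cvec, D.pair_center_left hw]
  · simp [cvec, D.pair_center_right hw]

theorem cvec_x₀ : D.cvec D.x₀ = ![1, 0] := by
  ext i
  fin_cases i
  · simp [cvec, D.pair_x₀_y₀]
  · simp [cvec, D.pair_self]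

theorem cvec_y₀ : D.cvec D.y₀ = ![0, 1] := by
  ext i
  fin_cases i
  · simp [cvec, D.pair_self]
  · simp [cvec, D.pair_x₀_y₀]

theorem cvec_conj (t g : Q) : D.cvec (t * g * t⁻¹) = D.cvec g := by
  ext i
  fin_cases i
  · simp [cvec, D.pair_conj]
  · simp [cvec, D.pair_conj_right]

/-- the decomposition of an element -/
theorem decomp (g : Q) : ∃ w ∈ Subgroup.center Q,
    g = w * (zp D.x₀ (D.cvec g 0) * zp D.y₀ (D.cvec g 1)) := by
  refine ⟨g * (zp D.x₀ (D.cvec g 0) * zp D.y₀ (D.cvec g 1))⁻¹, ?_, by group⟩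
  apply D.mem_center_of_commute
  · apply Commute.symm
    rw [← D.pair_eq_zero_iff, D.pair_mul_right, D.pair_inv_right, D.pair_mul_right,
      D.pair_zp_right, D.pair_zp_right, D.pair_self, D.pair_x₀_y₀, D.cvec_one]
    ring
  · rw [← D.pair_eq_zero_iff, D.pair_mul_left, D.pair_inv_left, D.pair_mul_left,
      D.pair_zp_left, D.pair_zp_left, D.pair_self, D.pair_x₀_y₀, D.cvec_zero]
    ring

/-- the pairing in coordinates -/
theorem pair_eq (g h : Q) :
    D.pair g h = D.cvec g 0 * D.cvec h 1 - D.cvec g 1 * D.cvec h 0 := by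
  obtain ⟨w, hw, hg⟩ := D.decomp g
  conv_lhs => rw [hg]
  rw [D.pair_mul_left, D.pair_center_left hw, D.pair_mul_left, D.pair_zp_left, D.pair_zp_left,
    D.cvec_one h, D.cvec_zero h, D.pair_swap h D.y₀]
  ring

theorem cvec_eq_zero_iff {g : Q} : D.cvec g = 0 ↔ g ∈ Subgroup.center Q := by
  constructor
  · intro h
    apply D.mem_center_of_commute
    · apply Commute.symm
      rw [← D.pair_eq_zero_iff, ← D.cvec_one, h]; rfl
    · rw [← D.pair_eq_zero_iff, ← D.cvec_zero, h]; rfl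
  · exact D.cvec_center

theorem map_center (α : MulAut Q) {w : Q} (hw : w ∈ Subgroup.center Q) :
    α w ∈ Subgroup.center Q := by
  rw [Subgroup.mem_center_iff]
  intro g
  have h1 := Subgroup.mem_center_iff.mp hw (α.symm g)
  have h2 := congrArg α h1
  simpa using h2

omit hp D in
theorem map_zp (α : MulAut Q) (g : Q) (a : ZMod p) : α (zp g a) = zp (α g) a := map_pow α g _

/-- the action of an automorphism on the centre -/
noncomputable def delta (α : MulAut Q) : ZMod p := D.lgf (α D.z₀)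

theorem map_z₀ (α : MulAut Q) : α D.z₀ = zp D.z₀ (D.delta α) :=
  (D.zp_lgf (D.map_center α D.z₀_mem)).symm

theorem pair_map (α : MulAut Q) (g h : Q) : D.pair (α g) (α h) = D.delta α * D.pair g h := by
  apply D.zp_inj
  rw [← D.comm_eq, ← map_commutatorElement, D.comm_eq g h, map_zp, D.map_z₀,
    zp_mul D.z₀_pow]

/-- the matrix of an automorphism on `Q / Z(Q)` -/
noncomputable def Mat (α : MulAut Q) : Matrix (Fin 2) (Fin 2) (ZMod p) :=
  !![D.cvec (α D.x₀) 0, D.cvec (α D.y₀) 0; D.cvec (α D.x₀) 1, D.cvec (α D.y₀) 1]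

theorem cvec_map (α : MulAut Q) (g : Q) : D.cvec (α g) = D.Mat α *ᵥ D.cvec g := by
  obtain ⟨w, hw, hg⟩ := D.decomp g
  conv_lhs => rw [hg]
  rw [map_mul, map_mul, D.cvec_mul, D.cvec_center (D.map_center α hw), zero_add, D.cvec_mul,
    map_zp, map_zp, D.cvec_zp, D.cvec_zp, mulVec_eq]
  congr 1
  · congr 1
    ext i; fin_cases i <;> simp [Mat]
  · congr 1
    ext i; fin_cases i <;> simp [Mat]

theorem Mat_one : D.Mat 1 = 1 := by
  ext i j
  fin_cases i <;> fin_cases j <;> simp [Mat, D.cvec_x₀, D.cvec_y₀]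

theorem Mat_mul (α β : MulAut Q) : D.Mat (α * β) = D.Mat α * D.Mat β := by
  have h0 : ∀ i, D.Mat (α * β) i 0 = (D.Mat α * D.Mat β) i 0 := by
    intro i
    have h1 : D.cvec ((α * β) D.x₀) = D.Mat α *ᵥ D.cvec (β D.x₀) := by
      rw [MulAut.mul_apply, D.cvec_map]
    have h2 := congrFun h1 i
    fin_cases i
    · simpa [Mat, Matrix.mulVec, dotProduct, Fin.sum_univ_two, Matrix.mul_apply] using h2
    · simpa [Mat, Matrix.mulVec, dotProduct, Fin.sum_univ_two, Matrix.mul_apply] using h2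
  have h1 : ∀ i, D.Mat (α * β) i 1 = (D.Mat α * D.Mat β) i 1 := by
    intro i
    have h1 : D.cvec ((α * β) D.y₀) = D.Mat α *ᵥ D.cvec (β D.y₀) := by
      rw [MulAut.mul_apply, D.cvec_map]
    have h2 := congrFun h1 i
    fin_cases i
    · simpa [Mat, Matrix.mulVec, dotProduct, Fin.sum_univ_two, Matrix.mul_apply] using h2
    · simpa [Mat, Matrix.mulVec, dotProduct, Fin.sum_univ_two, Matrix.mul_apply] using h2
  ext i j
  fin_cases j
  · exact h0 i
  · exact h1 i

theorem det_Mat (α : MulAut Q) : (D.Mat α).det = D.delta α := by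
  rw [Matrix.det_fin_two]
  have h1 := D.pair_eq (α D.x₀) (α D.y₀)
  rw [D.pair_map, D.pair_x₀_y₀, mul_one] at h1
  rw [h1]
  simp [Mat]
  ring

/-- the representation on `Q / Z(Q)` -/
noncomputable def rep : MulAut Q →* GL (Fin 2) (ZMod p) :=
  MonoidHom.toHomUnits
    { toFun := D.Mat
      map_one' := D.Mat_one
      map_mul' := D.Mat_mul }

theorem coe_rep (α : MulAut Q) : ((D.rep α : GL (Fin 2) (ZMod p)) : Matrix (Fin 2) (Fin 2) (ZMod p)) = D.Mat α :=
  rfl

theorem rep_conj (t : Q) : D.rep (MulAut.conj t) = 1 := by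
  apply Units.ext
  rw [D.coe_rep]
  ext i j
  fin_cases i <;> fin_cases j <;>
    simp [Mat, MulAut.conj_apply, D.cvec_conj, D.cvec_x₀, D.cvec_y₀]

end HData

end Cfsg.Agent.Helper8.Xp
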