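import Mathlib

set_option autoImplicit false

/-!
`2 × 2` linear algebra: a matrix with three pairwise independent eigenvectors is scalar; fixed
points of elements of `PGL₂` on the projective line.
-/

namespace Cfsg.Agent.Helper8.Xp

open Matrix

variable {K : Type*} [Field K]

/-- a binary quadratic form vanishing at three pairwise independent vectors is zero -/
theorem quad_zero {α β γ x₁ y₁ x₂ y₂ x₃ y₃ : K}
    (e₁ : α * x₁ ^ 2 + β * (x₁ * y₁) + γ * y₁ ^ 2 = 0)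
    (e₂ : α * x₂ ^ 2 + β * (x₂ * y₂) + γ * y₂ ^ 2 = 0)
    (e₃ : α * x₃ ^ 2 + β * (x₃ * y₃) + γ * y₃ ^ 2 = 0)
    (d₁₂ : x₁ * y₂ - y₁ * x₂ ≠ 0) (d₁₃ : x₁ * y₃ - y₁ * x₃ ≠ 0) (d₂₃ : x₂ * y₃ - y₂ * x₃ ≠ 0) :
    α = 0 ∧ β = 0 ∧ γ = 0 := by
  have hD : (x₁ * y₂ - y₁ * x₂) * (x₁ * y₃ - y₁ * x₃) * (x₂ * y₃ - y₂ * x₃) ≠ 0 :=
    mul_ne_zero (mul_ne_zero d₁₂ d₁₃) d₂₃
  have hα : α * ((x₁ * y₂ - y₁ * x₂) * (x₁ * y₃ - y₁ * x₃) * (x₂ * y₃ - y₂ * x₃)) = 0 := by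
    linear_combination (y₂ * y₃ * (x₂ * y₃ - y₂ * x₃)) * e₁ -
      (y₁ * y₃ * (x₁ * y₃ - y₁ * x₃)) * e₂ + (y₁ * y₂ * (x₁ * y₂ - y₁ * x₂)) * e₃
  have hγ : γ * ((x₁ * y₂ - y₁ * x₂) * (x₁ * y₃ - y₁ * x₃) * (x₂ * y₃ - y₂ * x₃)) = 0 := by
    linear_combination (x₂ * x₃ * (x₂ * y₃ - y₂ * x₃)) * e₁ -
      (x₁ * x₃ * (x₁ * y₃ - y₁ * x₃)) * e₂ + (x₁ * x₂ * (x₁ * y₂ - y₁ * x₂)) * e₃
  have hβ : β * ((x₁ * y₂ - y₁ * x₂) * (x₁ * y₃ - y₁ * x₃) * (x₂ * y₃ - y₂ * x₃)) = 0 := by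
    linear_combination (-(x₂ * y₃ + y₂ * x₃) * (x₂ * y₃ - y₂ * x₃)) * e₁ +
      ((x₁ * y₃ + y₁ * x₃) * (x₁ * y₃ - y₁ * x₃)) * e₂ -
      ((x₁ * y₂ + y₁ * x₂) * (x₁ * y₂ - y₁ * x₂)) * e₃
  refine ⟨?_, ?_, ?_⟩
  · exact (mul_eq_zero.mp hα).resolve_right hD
  · exact (mul_eq_zero.mp hβ).resolve_right hD
  · exact (mul_eq_zero.mp hγ).resolve_right hD

/-- the eigenvector condition -/
def IsEig (A : Matrix (Fin 2) (Fin 2) K) (v : Fin 2 → K) : Prop := ∃ c : K, A *ᵥ v = c • v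

theorem IsEig.quad {A : Matrix (Fin 2) (Fin 2) K} {v : Fin 2 → K} (h : IsEig A v) :
    A 1 0 * v 0 ^ 2 + (A 1 1 - A 0 0) * (v 0 * v 1) + (-A 0 1) * v 1 ^ 2 = 0 := by
  obtain ⟨c, hc⟩ := h
  have h0 := congrFun hc 0
  have h1 := congrFun hc 1
  simp only [Matrix.mulVec, dotProduct, Fin.sum_univ_two, Pi.smul_apply, smul_eq_mul] at h0 h1
  linear_combination (v 0) * h1 - (v 1) * h0

/-- a matrix with three pairwise independent eigenvectors is scalar -/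
theorem scalar_of_three_eig {A : Matrix (Fin 2) (Fin 2) K} {v₁ v₂ v₃ : Fin 2 → K}
    (h₁ : IsEig A v₁) (h₂ : IsEig A v₂) (h₃ : IsEig A v₃)
    (d₁₂ : v₁ 0 * v₂ 1 - v₁ 1 * v₂ 0 ≠ 0) (d₁₃ : v₁ 0 * v₃ 1 - v₁ 1 * v₃ 0 ≠ 0)
    (d₂₃ : v₂ 0 * v₃ 1 - v₂ 1 * v₃ 0 ≠ 0) : A = A 0 0 • (1 : Matrix (Fin 2) (Fin 2) K) := by
  obtain ⟨ha, hb, hc⟩ := quad_zero h₁.quad h₂.quad h₃.quad d₁₂ d₁₃ d₂₃
  ext i j
  fin_cases i <;> fin_cases j <;> simp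
  · exact neg_eq_zero.mp hc
  · exact ha
  · exact sub_eq_zero.mp hb

theorem IsEig.mul {A B : Matrix (Fin 2) (Fin 2) K} {v : Fin 2 → K} (hA : IsEig A v)
    (hB : IsEig B v) : IsEig (A * B) v := by
  obtain ⟨a, ha⟩ := hA
  obtain ⟨b, hb⟩ := hB
  refine ⟨b * a, ?_⟩
  rw [← Matrix.mulVec_mulVec, hb, Matrix.mulVec_smul, ha, smul_smul]

theorem isEig_smul_one (c : K) (v : Fin 2 → K) : IsEig (c • (1 : Matrix (Fin 2) (Fin 2) K)) v :=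
  ⟨c, by rw [Matrix.smul_mulVec, Matrix.one_mulVec]⟩

theorem isEig_scalar (c : K) (v : Fin 2 → K) : IsEig (Matrix.scalar (Fin 2) c) v := by
  have : Matrix.scalar (Fin 2) c = c • (1 : Matrix (Fin 2) (Fin 2) K) := by
    ext i j; simp [Matrix.scalar_apply, Matrix.diagonal_apply, Matrix.one_apply]
  rw [this]
  exact isEig_smul_one c v

theorem pow_mulVec_of_eig {A : Matrix (Fin 2) (Fin 2) K} {v : Fin 2 → K} {c : K}
    (h : A *ᵥ v = c • v) (k : ℕ) : (A ^ k) *ᵥ v = c ^ k • v := by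
  induction k with
  | zero => simp
  | succ k ih =>
    rw [pow_succ, ← Matrix.mulVec_mulVec, h, Matrix.mulVec_smul, ih, smul_smul, pow_succ,
      mul_comm]

open Matrix.ProjGenLinGroup

/-- `g` fixes the point `⟨v⟩` of the projective line -/
def Fix (g : Matrix.ProjGenLinGroup (Fin 2) K) (v : Fin 2 → K) : Prop :=
  ∃ B : GL (Fin 2) K, mk B = g ∧ IsEig (B : Matrix (Fin 2) (Fin 2) K) v

theorem Fix.all {g : Matrix.ProjGenLinGroup (Fin 2) K} {v : Fin 2 → K} (h : Fix g v)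
    (B : GL (Fin 2) K) (hB : mk B = g) : IsEig (B : Matrix (Fin 2) (Fin 2) K) v := by
  obtain ⟨B', hB', h'⟩ := h
  rw [← hB] at hB'
  obtain ⟨u, hu⟩ := mk_eq_mk_iff.mp hB'
  rw [← hu, GeneralLinearGroup.coe_mul, GeneralLinearGroup.coe_scalar]
  exact h'.mul (isEig_scalar _ _)

theorem fix_one (v : Fin 2 → K) : Fix (1 : Matrix.ProjGenLinGroup (Fin 2) K) v :=
  ⟨1, map_one _, ⟨1, by simp⟩⟩

theorem Fix.mul {g h : Matrix.ProjGenLinGroup (Fin 2) K} {v : Fin 2 → K} (hg : Fix g v)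
    (hh : Fix h v) : Fix (g * h) v := by
  obtain ⟨B, hB, h1⟩ := hg
  obtain ⟨B', hB', h2⟩ := hh
  refine ⟨B * B', by rw [map_mul, hB, hB'], ?_⟩
  rw [GeneralLinearGroup.coe_mul]
  exact h1.mul h2

theorem Fix.pow {g : Matrix.ProjGenLinGroup (Fin 2) K} {v : Fin 2 → K} (hg : Fix g v) (k : ℕ) :
    Fix (g ^ k) v := by
  induction k with
  | zero => rw [pow_zero]; exact fix_one v
  | succ k ih => rw [pow_succ]; exact ih.mul hg

/-- an element fixing three points is trivial -/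
theorem eq_one_of_fix_three {g : Matrix.ProjGenLinGroup (Fin 2) K} {v₁ v₂ v₃ : Fin 2 → K}
    (h₁ : Fix g v₁) (h₂ : Fix g v₂) (h₃ : Fix g v₃)
    (d₁₂ : v₁ 0 * v₂ 1 - v₁ 1 * v₂ 0 ≠ 0) (d₁₃ : v₁ 0 * v₃ 1 - v₁ 1 * v₃ 0 ≠ 0)
    (d₂₃ : v₂ 0 * v₃ 1 - v₂ 1 * v₃ 0 ≠ 0) : g = 1 := by
  obtain ⟨B, hB, hB₁⟩ := h₁
  have hB₂ := h₂.all B hB
  have hB₃ := h₃.all B hB
  have hs := scalar_of_three_eig hB₁ hB₂ hB₃ d₁₂ d₁₃ d₂₃
  rw [← hB, mk_eq_one, Subgroup.mem_center_iff]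
  intro C
  apply Units.ext
  rw [GeneralLinearGroup.coe_mul, GeneralLinearGroup.coe_mul, hs]
  simp

/-- the order relation for an element with a known eigenvalue and determinant -/
theorem pow_relation {A : GL (Fin 2) K} {v : Fin 2 → K} {c : K} (hv : v ≠ 0)
    (h : (A : Matrix (Fin 2) (Fin 2) K) *ᵥ v = c • v) {k : ℕ}
    (hk : (mk A : Matrix.ProjGenLinGroup (Fin 2) K) ^ k = 1) :
    (A : Matrix (Fin 2) (Fin 2) K).det ^ k = c ^ (2 * k) := by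
  rw [← map_pow, mk_eq_one, GeneralLinearGroup.center_eq_range_scalar] at hk
  obtain ⟨u, hu⟩ := hk
  have h1 : ((A ^ k : GL (Fin 2) K) : Matrix (Fin 2) (Fin 2) K) = Matrix.scalar (Fin 2) (u : K) := by
    rw [← hu, GeneralLinearGroup.coe_scalar]
  rw [Units.val_pow_eq_pow_val] at h1
  have h2 := pow_mulVec_of_eig h k
  rw [h1] at h2
  have h3 : Matrix.scalar (Fin 2) (u : K) = (u : K) • (1 : Matrix (Fin 2) (Fin 2) K) := by
    ext i j; simp [Matrix.scalar_apply, Matrix.diagonal_apply, Matrix.one_apply]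
  rw [h3, Matrix.smul_mulVec, Matrix.one_mulVec] at h2
  have h4 : (u : K) = c ^ k := by
    by_contra hne
    apply hv
    have h5 : ((u : K) - c ^ k) • v = 0 := by rw [sub_smul, h2, sub_self]
    rcases smul_eq_zero.mp h5 with h6 | h6
    · exact absurd (sub_eq_zero.mp h6) hne
    · exact h6
  rw [← Matrix.det_pow, h1, h3, Matrix.det_smul, Matrix.det_one, mul_one, Fintype.card_fin, h4,
    ← pow_mul, mul_comm]

end Cfsg.Agent.Helper8.Xp
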