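import Mathlib
import Cfsg.Agent.Helper8.PgA

set_option autoImplicit false

/-!
The subgroups of `PGL₂(F)` of order prime to the characteristic: they have a cyclic subgroup
containing all squares, or are isomorphic to `A₄`, `S₄` or `A₅`.
-/

namespace Cfsg.Agent.Helper8.Xp

open Matrix Cfsg.Agent.Helper7.SL2 Cfsg.Agent.Helper8.SL2C Cfsg.Agent.Helper8.Dk
open Cfsg.Agent.Helper8.Ds Cfsg.Agent.Helper8.Pg Subgroup
open scoped Matrix

variable {F : Type*} [Field F] [Fintype F]

theorem coprime_cases (p : ℕ) [Fact p.Prime] [CharP F p] (hodd : Odd (Fintype.card F))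
    (M : Subgroup (Matrix.ProjGenLinGroup (Fin 2) F)) (hM : (Nat.card M).Coprime p) :
    (∃ C : Subgroup (Matrix.ProjGenLinGroup (Fin 2) F), C ≤ M ∧ IsCyclic C ∧
      ∀ g ∈ M, g ^ 2 ∈ C) ∨
    Nonempty (M ≃* alternatingGroup (Fin 4)) ∨ Nonempty (M ≃* Equiv.Perm (Fin 4)) ∨
    Nonempty (M ≃* alternatingGroup (Fin 5)) := by
  have hpp := (Fact.out : p.Prime)
  obtain ⟨E, _, _, _, ι, hE, hι⟩ := exists_embedding p hodd
  have hoddE : Odd (Fintype.card E) := by rw [hE]; exact hodd.pow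
  have hq2 : 2 ≤ Fintype.card F := Fintype.one_lt_card
  set Mh : Subgroup (ProjectiveSpecialLinearGroup (Fin 2) E) := M.map ι with hMh
  let e₀ : M ≃* Mh := M.equivMapOfInjective ι hι
  have hcard : Nat.card Mh = Nat.card M := Subgroup.card_map_of_injective hι
  have hpE : p ∣ Fintype.card E := by
    have h1 : ((Fintype.card E : ℕ) : E) = 0 := Nat.cast_card_eq_zero E
    exact (CharP.cast_eq_zero_iff E p _).mp h1
  have hp2 : p ≠ 2 := by
    rintro rfl
    exact (Nat.not_even_iff_odd.mpr hoddE) (even_iff_two_dvd.mpr hpE)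
  have hne : Mh ≠ ⊤ := by
    intro htop
    have h1 := two_mul_card_PSL2 hoddE
    rw [← Subgroup.card_top, ← htop, hcard, hE] at h1
    have hMle : Nat.card M ≤ Fintype.card F * (Fintype.card F ^ 2 - 1) := by
      rw [← Cfsg.Agent.Lead.PSL2Sub.card_PGL2]
      exact Subgroup.card_le_card_group M
    have := card_lt_aux hq2
    omega
  have hmemM : ∀ x, ι x ∈ Mh → x ∈ M := by
    rintro x ⟨y, hy, hyx⟩
    rwa [← hι hyx]
  have hnotdvd : ¬ p ∣ Nat.card Mh := by
    rw [hcard]
    exact (Nat.Prime.coprime_iff_not_dvd hpp).mp hM.symm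
  rcases proper_cases p Mh hne with h1 | ⟨M', hM', hne', hle⟩ | ⟨⟨e⟩⟩ | ⟨⟨e⟩⟩ | ⟨⟨e⟩⟩ |
    ⟨K, _, _, m, hm2, hm, ⟨⟨e⟩⟩ | ⟨⟨e⟩⟩⟩
  · left
    rw [hcard] at h1
    haveI : Subsingleton M := (Nat.card_eq_one_iff_unique.mp h1).1
    exact ⟨M, le_refl _, isCyclic_of_subsingleton, fun g hg => M.pow_mem hg 2⟩
  · rcases mem_GM_iff.mp hM' with hU | hT
    · exfalso
      have hp := GU_pgroup p M' hU
      have hp' : IsPGroup p (M' ⊓ Mh : Subgroup (ProjectiveSpecialLinearGroup (Fin 2) E)) :=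
        hp.to_le inf_le_left
      obtain ⟨k, hk⟩ := IsPGroup.iff_card.mp hp'
      have hk0 : k ≠ 0 := by
        rintro rfl
        rw [pow_zero, Subgroup.card_eq_one] at hk
        exact hne' hk
      apply hnotdvd
      have h2 : p ∣ Nat.card (M' ⊓ Mh : Subgroup (ProjectiveSpecialLinearGroup (Fin 2) E)) := by
        rw [hk]; exact dvd_pow_self p hk0
      exact h2.trans (Subgroup.card_dvd_of_le inf_le_right)
    · left
      set C : Subgroup (Matrix.ProjGenLinGroup (Fin 2) F) := (M' ⊓ Mh).comap ι with hC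
      have hCM : C ≤ M := fun x hx => hmemM x hx.2
      have hCmap : C.map ι = M' ⊓ Mh := by
        apply Subgroup.map_comap_eq_self
        intro z hz
        obtain ⟨y, -, rfl⟩ := hz.2
        exact ⟨y, rfl⟩
      have : IsCyclic M' := isCyclic_of_mem_GT hT
      have hcyc1 : IsCyclic (M' ⊓ Mh : Subgroup (ProjectiveSpecialLinearGroup (Fin 2) E)) :=
        Subgroup.isCyclic_of_le inf_le_left
      have hcyc : IsCyclic C := by
        have e1 : C ≃* C.map ι := C.equivMapOfInjective ι hι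
        have e2 : C ≃* (M' ⊓ Mh : Subgroup (ProjectiveSpecialLinearGroup (Fin 2) E)) :=
          e1.trans (MulEquiv.subgroupCongr hCmap)
        exact isCyclic_of_surjective e2.symm e2.symm.surjective
      refine ⟨C, hCM, hcyc, ?_⟩
      intro g hg
      have hg' : ι g ∈ Mh := Subgroup.mem_map_of_mem ι hg
      change ι (g ^ 2) ∈ M' ⊓ Mh
      rw [map_pow]
      refine ⟨?_, Mh.pow_mem hg' 2⟩
      by_cases hgM' : ι g ∈ M'
      · exact M'.pow_mem hgM' 2
      · have := (GT_tor_norm M' hT (ι g) (hle hg') (ι g) (hle hg') hgM' hgM').2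
        rw [pow_two, this]
        exact M'.one_mem
  · right; left
    exact ⟨e₀.trans e⟩
  · right; right; left
    exact ⟨e₀.trans e⟩
  · right; right; right
    exact ⟨e₀.trans e⟩
  · exfalso
    have hpK : p ∣ Fintype.card K := by
      rw [← hm] at hpE
      exact hpp.dvd_of_dvd_pow hpE
    have hoddK : Odd (Fintype.card K) := by
      rw [← hm] at hoddE
      exact (Nat.odd_pow_iff (by omega)).mp hoddE
    have h2 := two_mul_card_PSL2 hoddK
    have h3 : Nat.card Mh = Nat.card (ProjectiveSpecialLinearGroup (Fin 2) K) :=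
      Nat.card_congr e.toEquiv
    apply hnotdvd
    rw [h3]
    have h4 : p ∣ 2 * Nat.card (ProjectiveSpecialLinearGroup (Fin 2) K) := by
      rw [h2]; exact Dvd.dvd.mul_right hpK _
    exact (Nat.Coprime.dvd_mul_left ((Nat.coprime_primes hpp Nat.prime_two).mpr hp2)).mp h4
  · exfalso
    have hpK : p ∣ Fintype.card K := by
      rw [← hm] at hpE
      exact hpp.dvd_of_dvd_pow hpE
    have h3 : Nat.card Mh = Nat.card (Matrix.ProjGenLinGroup (Fin 2) K) :=
      Nat.card_congr e.toEquiv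
    apply hnotdvd
    rw [h3, Cfsg.Agent.Lead.PSL2Sub.card_PGL2]
    exact Dvd.dvd.mul_right hpK _

end Cfsg.Agent.Helper8.Xp
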