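import Mathlib
import Cfsg.Agent.Helper8.XpD
import Cfsg.Agent.Helper8.XpE
import Cfsg.Agent.Helper8.PhB

set_option autoImplicit false

/-!
The bound on `p`: a subgroup of `PGL₂(p)` of order prime to `p` in which three points of the
projective line are fixed by "torus elements" with eigenvalues `a⁻¹, a²` for all `a`.
-/

namespace Cfsg.Agent.Helper8.Xp

open Matrix Matrix.ProjGenLinGroup

/-- in a finite cyclic group, elements of the same order generate the same subgroup -/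
theorem mem_zpowers_of_orderOf_eq {α : Type*} [Group α] [Finite α] [IsCyclic α] {x y : α}
    (h : orderOf x = orderOf y) : x ∈ Subgroup.zpowers y := by
  classical
  haveI : Fintype α := Fintype.ofFinite α
  set d := orderOf y with hd
  have hd0 : 0 < d := orderOf_pos y
  have hS := IsCyclic.card_pow_eq_one_le (α := α) hd0
  set S : Finset α := Finset.univ.filter (fun a : α => a ^ d = 1) with hSdef
  set T : Finset α := (Subgroup.zpowers y : Set α).toFinset with hT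
  have hTS : T ⊆ S := by
    intro a ha
    rw [hT, Set.mem_toFinset] at ha
    obtain ⟨k, rfl⟩ := ha
    rw [hSdef, Finset.mem_filter]
    refine ⟨Finset.mem_univ _, ?_⟩
    rw [← zpow_natCast, ← _root_.zpow_mul, mul_comm, _root_.zpow_mul, zpow_natCast, hd, pow_orderOf_eq_one,
      _root_.one_zpow]
  have hTcard : T.card = d := by
    rw [hT, Set.toFinset_card, ← Nat.card_eq_fintype_card]
    exact Nat.card_zpowers y
  have hTS' : T = S := Finset.eq_of_subset_of_card_le hTS (by rw [hTcard]; exact hS)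
  have hx : x ∈ S := by
    rw [hSdef, Finset.mem_filter]
    exact ⟨Finset.mem_univ _, by rw [← h, pow_orderOf_eq_one]⟩
  rw [← hTS', hT, Set.mem_toFinset] at hx
  exact hx

variable {p : ℕ} [hp : Fact p.Prime]

/-- the torus elements at a point -/
def Good (M : Subgroup (Matrix.ProjGenLinGroup (Fin 2) (ZMod p))) (v : Fin 2 → ZMod p) : Prop :=
  ∀ a : (ZMod p)ˣ, ∃ A : GL (Fin 2) (ZMod p), mk A ∈ M ∧
    (A : Matrix (Fin 2) (Fin 2) (ZMod p)) *ᵥ v = ((a⁻¹ : (ZMod p)ˣ) : ZMod p) • v ∧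
    (A : Matrix (Fin 2) (Fin 2) (ZMod p)).det = (a : ZMod p)

theorem Good.exists_elt {M : Subgroup (Matrix.ProjGenLinGroup (Fin 2) (ZMod p))}
    {v : Fin 2 → ZMod p} (h : Good M v) (hv : v ≠ 0) :
    ∃ g ∈ M, Fix g v ∧ ∀ k : ℕ, g ^ k = 1 → (p - 1) ∣ 3 * k := by
  obtain ⟨a, ha⟩ := IsCyclic.exists_generator (α := (ZMod p)ˣ)
  have hord : orderOf a = p - 1 := by
    rw [orderOf_eq_card_of_forall_mem_zpowers ha, Nat.card_eq_fintype_card, ZMod.card_units]
  obtain ⟨A, hAM, hAv, hdet⟩ := h a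
  refine ⟨mk A, hAM, ⟨A, rfl, ⟨_, hAv⟩⟩, ?_⟩
  intro k hk
  have h1 := pow_relation hv hAv hk
  rw [hdet] at h1
  rw [← hord]
  apply orderOf_dvd_of_pow_eq_one
  apply Units.ext
  have h2 : ((a⁻¹ : (ZMod p)ˣ) : ZMod p) * (a : ZMod p) = 1 := by
    rw [← Units.val_mul, inv_mul_cancel, Units.val_one]
  have h3 : 3 * k = k + 2 * k := by ring
  rw [Units.val_pow_eq_pow_val, Units.val_one, h3, pow_add, h1, ← mul_pow, h2, one_pow]

theorem ne_zero_of_det {v w : Fin 2 → ZMod p} (h : v 0 * w 1 - v 1 * w 0 ≠ 0) : v ≠ 0 := by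
  rintro rfl
  apply h
  simp

omit hp in
theorem bound_six (hpp : p.Prime) (h : (p - 1) ∣ 6) : p ≤ 7 := by
  have := Nat.le_of_dvd (by norm_num) h
  omega

theorem bound_nine (hp2 : p ≠ 2) (h : (p - 1) ∣ 9) : p ≤ 7 := by
  have hpp := hp.out
  have h1 := Nat.le_of_dvd (by norm_num) h
  have h2 : p ≤ 10 := by omega
  have h3 := hpp.two_le
  interval_cases p <;> first | omega | (exfalso; revert hpp; norm_num) | (exfalso; revert h; norm_num)

theorem bound_fifteen (hp2 : p ≠ 2) (h : (p - 1) ∣ 15) : p ≤ 7 := by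
  have hpp := hp.out
  have h1 := Nat.le_of_dvd (by norm_num) h
  have h2 : p ≤ 16 := by omega
  have h3 := hpp.two_le
  interval_cases p <;> first | omega | (exfalso; revert hpp; norm_num) | (exfalso; revert h; norm_num)

theorem bound_twelve (hp2 : p ≠ 2) (h : (p - 1) ∣ 12) : p ≤ 7 ∨ p = 13 := by
  have hpp := hp.out
  have h1 := Nat.le_of_dvd (by norm_num) h
  have h2 : p ≤ 13 := by omega
  have h3 := hpp.two_le
  interval_cases p <;> first | omega | (exfalso; revert hpp; norm_num) | (exfalso; revert h; norm_num)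

set_option maxRecDepth 100000 in
theorem a4_pow : ∀ σ : alternatingGroup (Fin 4), σ ^ 2 = 1 ∨ σ ^ 3 = 1 := by decide +kernel

set_option maxRecDepth 100000 in
theorem s4_pow : ∀ σ : Equiv.Perm (Fin 4), σ ^ 2 = 1 ∨ σ ^ 3 = 1 ∨ σ ^ 4 = 1 := by
  decide +kernel

theorem pow_eq_one_of_equiv {M X : Type*} [Group M] [Group X] (e : M ≃* X) (g : M) (k : ℕ)
    (h : (e g) ^ k = 1) : g ^ k = 1 := by
  apply e.injective
  rw [map_pow, h, map_one]

/-- the bound from three points -/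
theorem bound_three (hp2 : p ≠ 2) (M : Subgroup (Matrix.ProjGenLinGroup (Fin 2) (ZMod p)))
    (hM : (Nat.card M).Coprime p) {v₁ v₂ v₃ : Fin 2 → ZMod p}
    (d₁₂ : v₁ 0 * v₂ 1 - v₁ 1 * v₂ 0 ≠ 0) (d₁₃ : v₁ 0 * v₃ 1 - v₁ 1 * v₃ 0 ≠ 0)
    (d₂₃ : v₂ 0 * v₃ 1 - v₂ 1 * v₃ 0 ≠ 0) (G₁ : Good M v₁) (G₂ : Good M v₂) (G₃ : Good M v₃) :
    p ≤ 7 ∨ (p = 13 ∧ Nonempty (M ≃* Equiv.Perm (Fin 4))) := by
  have hpp := hp.out
  have hv₁ : v₁ ≠ 0 := ne_zero_of_det d₁₂
  have hv₂ : v₂ ≠ 0 := ne_zero_of_det d₂₃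
  have hv₃ : v₃ ≠ 0 := by
    rintro rfl
    apply d₁₃
    simp
  obtain ⟨g₁, hg₁M, hf₁, ho₁⟩ := G₁.exists_elt hv₁
  obtain ⟨g₂, hg₂M, hf₂, ho₂⟩ := G₂.exists_elt hv₂
  obtain ⟨g₃, hg₃M, hf₃, ho₃⟩ := G₃.exists_elt hv₃
  have hodd : Odd (Fintype.card (ZMod p)) := by
    rw [ZMod.card]
    exact hpp.eq_two_or_odd'.resolve_left hp2
  haveI : Finite (Matrix.ProjGenLinGroup (Fin 2) (ZMod p)) :=
    Finite.of_surjective _ (Matrix.ProjGenLinGroup.mk_surjective (n := Fin 2) (R := ZMod p))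
  rcases coprime_cases p hodd M hM with ⟨C, hCM, hcyc, hsq⟩ | ⟨⟨e⟩⟩ | ⟨⟨e⟩⟩ | ⟨⟨e⟩⟩
  · left
    apply bound_six hpp
    -- the cyclic case
    set o₁ := orderOf (g₁ ^ 2) with ho₁def
    set o₂ := orderOf (g₂ ^ 2) with ho₂def
    set o₃ := orderOf (g₃ ^ 2) with ho₃def
    have ho₁pos : 0 < o₁ := orderOf_pos _
    have ho₂pos : 0 < o₂ := orderOf_pos _
    have ho₃pos : 0 < o₃ := orderOf_pos _
    set d := Nat.gcd o₁ (Nat.gcd o₂ o₃) with hd
    have hd₁ : d ∣ o₁ := Nat.gcd_dvd_left _ _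
    have hd₂ : d ∣ o₂ := (Nat.gcd_dvd_right _ _).trans (Nat.gcd_dvd_left _ _)
    have hd₃ : d ∣ o₃ := (Nat.gcd_dvd_right _ _).trans (Nat.gcd_dvd_right _ _)
    have key : ∀ (g : Matrix.ProjGenLinGroup (Fin 2) (ZMod p)) (o : ℕ), o = orderOf (g ^ 2) →
        0 < o → d ∣ o → orderOf ((g ^ 2) ^ (o / d)) = d := by
      intro g o ho hopos hdo
      have h1 : o / d ≠ 0 := by
        have := Nat.div_pos (Nat.le_of_dvd hopos hdo) (Nat.pos_of_dvd_of_pos hdo hopos)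
        omega
      rw [orderOf_pow_of_dvd h1 (ho ▸ Nat.div_dvd_of_dvd hdo), ← ho]
      exact Nat.div_div_self hdo hopos.ne'
    have hh₁ := key g₁ o₁ rfl ho₁pos hd₁
    have hh₂ := key g₂ o₂ rfl ho₂pos hd₂
    have hh₃ := key g₃ o₃ rfl ho₃pos hd₃
    set h₁ := (g₁ ^ 2) ^ (o₁ / d) with hh₁def
    set h₂ := (g₂ ^ 2) ^ (o₂ / d) with hh₂def
    set h₃ := (g₃ ^ 2) ^ (o₃ / d) with hh₃def
    have hh₁C : h₁ ∈ C := C.pow_mem (hsq g₁ hg₁M) _
    have hh₂C : h₂ ∈ C := C.pow_mem (hsq g₂ hg₂M) _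
    have hh₃C : h₃ ∈ C := C.pow_mem (hsq g₃ hg₃M) _
    have hF₁ : Fix h₁ v₁ := (hf₁.pow 2).pow _
    have hF₂ : Fix h₂ v₂ := (hf₂.pow 2).pow _
    have hF₃ : Fix h₃ v₃ := (hf₃.pow 2).pow _
    have transfer : ∀ (h : Matrix.ProjGenLinGroup (Fin 2) (ZMod p)) (hC : h ∈ C)
        (v : Fin 2 → ZMod p), orderOf h = d → Fix h v → Fix h₁ v := by
      intro h hC v hord hF
      have h1 : orderOf (⟨h₁, hh₁C⟩ : C) = orderOf (⟨h, hC⟩ : C) := by
        rw [Subgroup.orderOf_mk, Subgroup.orderOf_mk, hh₁, hord]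
      have h2 := mem_zpowers_of_orderOf_eq h1
      rw [← mem_powers_iff_mem_zpowers] at h2
      obtain ⟨n, hn⟩ := h2
      have h3 : h ^ n = h₁ := by
        have := congrArg Subtype.val hn
        simpa using this
      rw [← h3]
      exact hF.pow n
    have hone : h₁ = 1 :=
      eq_one_of_fix_three hF₁ (transfer h₂ hh₂C v₂ hh₂ hF₂) (transfer h₃ hh₃C v₃ hh₃ hF₃)
        d₁₂ d₁₃ d₂₃
    have hd1 : d = 1 := by rw [← hh₁, hone, orderOf_one]
    have hdiv : ∀ (g : Matrix.ProjGenLinGroup (Fin 2) (ZMod p)),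
        (∀ k : ℕ, g ^ k = 1 → (p - 1) ∣ 3 * k) → (p - 1) ∣ 6 * orderOf (g ^ 2) := by
      intro g hg
      have h1 : g ^ (2 * orderOf (g ^ 2)) = 1 := by rw [pow_mul, pow_orderOf_eq_one]
      have h2 := hg _ h1
      have h3 : 3 * (2 * orderOf (g ^ 2)) = 6 * orderOf (g ^ 2) := by ring
      rwa [h3] at h2
    have h6 : (p - 1) ∣ 6 * d := by
      rw [hd, ← Nat.gcd_mul_left, ← Nat.gcd_mul_left]
      exact Nat.dvd_gcd (hdiv g₁ ho₁) (Nat.dvd_gcd (hdiv g₂ ho₂) (hdiv g₃ ho₃))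
    rwa [hd1, mul_one] at h6
  · left
    rcases a4_pow (e ⟨g₁, hg₁M⟩) with h | h
    · have h1 := pow_eq_one_of_equiv e _ _ h
      have h2 : g₁ ^ 2 = 1 := by simpa using congrArg Subtype.val h1
      exact bound_six hpp (ho₁ 2 h2)
    · have h1 := pow_eq_one_of_equiv e _ _ h
      have h2 : g₁ ^ 3 = 1 := by simpa using congrArg Subtype.val h1
      exact bound_nine hp2 (ho₁ 3 h2)
  · rcases s4_pow (e ⟨g₁, hg₁M⟩) with h | h | h
    · left
      have h1 := pow_eq_one_of_equiv e _ _ h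
      have h2 : g₁ ^ 2 = 1 := by simpa using congrArg Subtype.val h1
      exact bound_six hpp (ho₁ 2 h2)
    · left
      have h1 := pow_eq_one_of_equiv e _ _ h
      have h2 : g₁ ^ 3 = 1 := by simpa using congrArg Subtype.val h1
      exact bound_nine hp2 (ho₁ 3 h2)
    · have h1 := pow_eq_one_of_equiv e _ _ h
      have h2 : g₁ ^ 4 = 1 := by simpa using congrArg Subtype.val h1
      rcases bound_twelve hp2 (ho₁ 4 h2) with h3 | h3
      · exact Or.inl h3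
      · exact Or.inr ⟨h3, ⟨e⟩⟩
  · left
    rcases Cfsg.Agent.Helper8.Ph.a5_pow (e ⟨g₁, hg₁M⟩) with h | h | h
    · have h' : (e ⟨g₁, hg₁M⟩) ^ 2 = 1 := by rw [pow_two]; exact h
      have h1 := pow_eq_one_of_equiv e _ _ h'
      have h2 : g₁ ^ 2 = 1 := by simpa using congrArg Subtype.val h1
      exact bound_six hpp (ho₁ 2 h2)
    · have h' : (e ⟨g₁, hg₁M⟩) ^ 3 = 1 := by rw [pow_succ, pow_two]; exact h
      have h1 := pow_eq_one_of_equiv e _ _ h'
      have h2 : g₁ ^ 3 = 1 := by simpa using congrArg Subtype.val h1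
      exact bound_nine hp2 (ho₁ 3 h2)
    · have h' : (e ⟨g₁, hg₁M⟩) ^ 5 = 1 := by
        simp only [pow_succ, pow_zero, one_mul]
        exact h
      have h1 := pow_eq_one_of_equiv e _ _ h'
      have h2 : g₁ ^ 5 = 1 := by simpa using congrArg Subtype.val h1
      exact bound_fifteen hp2 (ho₁ 5 h2)

set_option maxRecDepth 100000 in
theorem card_order_four :
    (Finset.univ.filter (fun σ : Equiv.Perm (Fin 4) => σ ^ 4 = 1 ∧ σ ^ 2 ≠ 1)).card = 6 := by
  decide +kernel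

/-- the case `p = 13`, `M ≅ S₄` is impossible when there are at least thirteen points -/
theorem not_thirteen (hp13 : p = 13) (M : Subgroup (Matrix.ProjGenLinGroup (Fin 2) (ZMod p)))
    (e : M ≃* Equiv.Perm (Fin 4)) {ι : Type*} [Fintype ι] (hι : 13 ≤ Fintype.card ι)
    (v : ι → Fin 2 → ZMod p) (hv0 : ∀ i, v i ≠ 0)
    (hv : ∀ i j, i ≠ j → v i 0 * v j 1 - v i 1 * v j 0 ≠ 0) (hG : ∀ i, Good M (v i)) : False := by
  classical
  have hex : ∀ i, ∃ g : M, Fix (g : Matrix.ProjGenLinGroup (Fin 2) (ZMod p)) (v i) ∧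
      ∀ k : ℕ, g ^ k = 1 → (p - 1) ∣ 3 * k := by
    intro i
    obtain ⟨g, hgM, hf, ho⟩ := (hG i).exists_elt (hv0 i)
    refine ⟨⟨g, hgM⟩, hf, ?_⟩
    intro k hk
    apply ho
    have := congrArg Subtype.val hk
    simpa using this
  choose g hgf hgo using hex
  set f : ι → Equiv.Perm (Fin 4) := fun i => e (g i) with hf
  set T : Finset (Equiv.Perm (Fin 4)) :=
    Finset.univ.filter (fun σ : Equiv.Perm (Fin 4) => σ ^ 4 = 1 ∧ σ ^ 2 ≠ 1) with hT
  have hfT : ∀ i ∈ (Finset.univ : Finset ι), f i ∈ T := by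
    intro i _
    rw [hT, Finset.mem_filter]
    refine ⟨Finset.mem_univ _, ?_⟩
    have h2 : (f i) ^ 2 ≠ 1 := by
      intro h
      have h1 := hgo i 2 (pow_eq_one_of_equiv e _ _ h)
      rw [hp13] at h1
      omega
    have h3 : (f i) ^ 3 ≠ 1 := by
      intro h
      have h1 := hgo i 3 (pow_eq_one_of_equiv e _ _ h)
      rw [hp13] at h1
      omega
    rcases s4_pow (f i) with h | h | h
    · exact absurd h h2
    · exact absurd h h3
    · exact ⟨h, h2⟩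
  have hlt : T.card * 2 < (Finset.univ : Finset ι).card := by
    rw [hT, card_order_four, Finset.card_univ]
    omega
  obtain ⟨σ, hσT, hσ⟩ := Finset.exists_lt_card_fiber_of_mul_lt_card_of_maps_to hfT hlt
  obtain ⟨i₁, hi₁, i₂, hi₂, i₃, hi₃, h12, h13, h23⟩ := Finset.two_lt_card.mp hσ
  rw [Finset.mem_filter] at hi₁ hi₂ hi₃
  have e12 : g i₂ = g i₁ := e.injective (hi₂.2.trans hi₁.2.symm)
  have e13 : g i₃ = g i₁ := e.injective (hi₃.2.trans hi₁.2.symm)
  have hF₁ := hgf i₁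
  have hF₂ := hgf i₂
  have hF₃ := hgf i₃
  rw [e12] at hF₂
  rw [e13] at hF₃
  have hone := eq_one_of_fix_three hF₁ hF₂ hF₃ (hv _ _ h12) (hv _ _ h13) (hv _ _ h23)
  have hg1 : g i₁ = 1 := Subtype.ext hone
  rw [hT, Finset.mem_filter] at hσT
  apply hσT.2.2
  rw [← hi₁.2, hf]
  simp only
  rw [hg1, map_one, one_pow]

end Cfsg.Agent.Helper8.Xp
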