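import Mathlib
import Cfsg.Agent.Helper8.XpB
import Cfsg.Agent.Helper8.XpC
import Cfsg.Agent.Helper8.XpF
import Cfsg.Prelude.Def_Transfer

set_option autoImplicit false

/-!
A Sylow `p`-subgroup `P` that is extraspecial of order `p³` and exponent `p`: the image of
`N_G(P)` in `PGL₂(p)` and its torus elements.
-/

namespace Cfsg.Agent.Helper8.Xp

open Matrix Matrix.ProjGenLinGroup
open scoped commutatorElement

variable {G : Type*} [Group G] {p : ℕ} [hp : Fact p.Prime]

/-- the data of an extraspecial group of order `p³` -/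
theorem exists_hdata {Q : Type*} [Group Q] [Finite Q] (hE : Cfsg.IsExtraspecial p Q)
    (hcard : Nat.card Q = p ^ 3) : Nonempty (HData p Q) := by
  have hcm : ∀ g h : Q, ⁅g, h⁆ ∈ Subgroup.center Q := by
    intro g h
    rw [← hE.1.2.2, commutator_def]
    exact Subgroup.commutator_mem_commutator (Subgroup.mem_top g) (Subgroup.mem_top h)
  have hex : ∃ x y : Q, ⁅x, y⁆ ≠ 1 := by
    by_contra hcon
    push Not at hcon
    have htop : Subgroup.center Q = ⊤ := by
      rw [eq_top_iff]
      intro g _
      rw [Subgroup.mem_center_iff]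
      intro h
      exact (commutatorElement_eq_one_iff_commute.mp (hcon h g)).eq
    have h1 := hE.2
    rw [htop, Subgroup.card_top, hcard] at h1
    have h2 := hp.out.one_lt
    have h3 : p ^ 3 = p * p ^ 2 := by ring
    have h4 : p ^ 2 = 1 := by
      have : p * p ^ 2 = p * 1 := by rw [← h3, h1, mul_one]
      exact Nat.eq_of_mul_eq_mul_left hp.out.pos this
    have h5 : p ^ 2 = p * p := by ring
    nlinarith
  obtain ⟨x, y, hxy⟩ := hex
  exact ⟨{ z₀ := ⁅x, y⁆, x₀ := x, y₀ := y, comm_mem := hcm, card_center := hE.2, card := hcard,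
           hz₀ := rfl, z₀_ne := hxy }⟩

variable [Finite G] (P : Sylow p G) (D : HData p ↥(P : Subgroup G))

/-- the action of the normaliser on `P / Z(P)`, projectively -/
noncomputable def rho :
    Subgroup.normalizer ((P : Subgroup G) : Set G) →* Matrix.ProjGenLinGroup (Fin 2) (ZMod p) :=
  (mk (n := Fin 2) (R := ZMod p)).comp (D.rep.comp (Subgroup.normalizerMonoidHom (P : Subgroup G)))

theorem rho_apply (n : Subgroup.normalizer ((P : Subgroup G) : Set G)) :
    rho P D n = mk (D.rep (Subgroup.normalizerMonoidHom (P : Subgroup G) n)) := rfl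

theorem coprime_range : (Nat.card (rho P D).range).Coprime p := by
  have hpp := hp.out
  set N : Subgroup G := Subgroup.normalizer ((P : Subgroup G) : Set G) with hN
  have hPN : (P : Subgroup G) ≤ N := Subgroup.le_normalizer
  have hker : (P : Subgroup G).subgroupOf N ≤ (rho P D).ker := by
    intro t ht
    rw [Subgroup.mem_subgroupOf] at ht
    rw [MonoidHom.mem_ker, rho_apply]
    have h1 : Subgroup.normalizerMonoidHom (P : Subgroup G) t =
        MulAut.conj (⟨(t : G), ht⟩ : (P : Subgroup G)) := by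
      ext x
      rfl
    rw [h1, D.rep_conj, map_one]
  have h1 : (rho P D).ker.index ∣ ((P : Subgroup G).subgroupOf N).index :=
    Subgroup.index_dvd_of_le hker
  rw [Subgroup.index_ker] at h1
  have h2 : ((P : Subgroup G).subgroupOf N).index ∣ (P : Subgroup G).index := by
    have := Subgroup.relIndex_mul_index hPN
    exact Dvd.intro _ this
  have h3 : ¬ p ∣ (P : Subgroup G).index := P.not_dvd_index
  rw [Nat.coprime_comm, Nat.Prime.coprime_iff_not_dvd hpp]
  intro h4
  exact h3 (h4.trans (h1.trans h2))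

theorem coe_zp (g : (P : Subgroup G)) (a : ZMod p) : ((zp g a : (P : Subgroup G)) : G) = zp (g : G) a := by
  rw [zp, zp, Subgroup.coe_pow]

variable (hexp : ∀ g : (P : Subgroup G), g ^ p = 1)

include hexp

/-- the elements of `P` act on `⟨z₀⟩ × ⟨x⟩` as upper unitriangular matrices -/
theorem acts_of_mem (x : (P : Subgroup G)) (t : G) (ht : t ∈ (P : Subgroup G)) :
    Acts ((D.z₀ : (P : Subgroup G)) : G) (x : G) t !![1, D.pair ⟨t, ht⟩ x; 0, 1] := by
  have hz : ((D.z₀ : (P : Subgroup G)) : G) ^ p = 1 := by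
    rw [← Subgroup.coe_pow, hexp, Subgroup.coe_one]
  have hx : (x : G) ^ p = 1 := by rw [← Subgroup.coe_pow, hexp, Subgroup.coe_one]
  have hc : Commute ((D.z₀ : (P : Subgroup G)) : G) (x : G) := by
    have := Subgroup.mem_center_iff.mp D.z₀_mem x
    have h2 := congrArg Subtype.val this
    have h3 : ((D.z₀ : (P : Subgroup G)) : G) * (x : G) = (x : G) * ((D.z₀ : (P : Subgroup G)) : G) := by
      simpa using h2.symm
    exact h3
  apply acts_of_basis hz hx hc
  · have h1 := Subgroup.mem_center_iff.mp D.z₀_mem ⟨t, ht⟩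
    have h2 : t * (D.z₀ : G) = (D.z₀ : G) * t := by
      have := congrArg Subtype.val h1
      simpa using this
    simp only [vec, Matrix.of_apply, Matrix.cons_val', Matrix.cons_val_zero, Matrix.cons_val_fin_one,
      Matrix.cons_val_one, zp_one, zp_zero, mul_one]
    rw [h2, mul_inv_cancel_right]
  · have h1 := D.comm_eq ⟨t, ht⟩ x
    have h2 : t * (x : G) * t⁻¹ * (x : G)⁻¹ = zp ((D.z₀ : (P : Subgroup G)) : G) (D.pair ⟨t, ht⟩ x) := by
      have := congrArg Subtype.val h1
      rw [coe_zp, commutatorElement_def] at this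
      simpa using this
    simp only [vec, Matrix.of_apply, Matrix.cons_val', Matrix.cons_val_zero, Matrix.cons_val_fin_one,
      Matrix.cons_val_one, zp_one]
    rw [← h2]
    group

/-- the torus elements give a good point -/
theorem good_of_lower (x : (P : Subgroup G)) (hx : x ∉ Subgroup.center (P : Subgroup G))
    (h3 : ∃ y : G, ∃ c : ZMod p, c ≠ 0 ∧
      Acts ((D.z₀ : (P : Subgroup G)) : G) (x : G) y !![1, 0; c, 1]) :
    Good (rho P D).range (D.cvec x) := by
  intro a
  have h1 : ∀ t ∈ (P : Subgroup G), ∃ s : ZMod p,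
      Acts ((D.z₀ : (P : Subgroup G)) : G) (x : G) t !![1, s; 0, 1] :=
    fun t ht => ⟨_, acts_of_mem P D hexp x t ht⟩
  have h2 : ∃ u ∈ (P : Subgroup G), ∃ s : ZMod p, s ≠ 0 ∧
      Acts ((D.z₀ : (P : Subgroup G)) : G) (x : G) u !![1, s; 0, 1] := by
    have : ∃ u : (P : Subgroup G), ¬ Commute u x := by
      by_contra hcon
      push Not at hcon
      apply hx
      rw [Subgroup.mem_center_iff]
      intro g
      exact (hcon g).eq
    obtain ⟨u, hu⟩ := this
    refine ⟨(u : G), u.2, D.pair u x, ?_, acts_of_mem P D hexp x u u.2⟩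
    intro h
    exact hu (D.pair_eq_zero_iff.mp h)
  obtain ⟨n, hn, s, hact⟩ := exists_torus P h1 h2 h3 a
  set α : MulAut (P : Subgroup G) := Subgroup.normalizerMonoidHom (P : Subgroup G) ⟨n, hn⟩ with hα
  refine ⟨D.rep α, ⟨⟨n, hn⟩, rfl⟩, ?_, ?_⟩
  · rw [D.coe_rep, ← D.cvec_map]
    have h4 : α x = zp D.z₀ s * zp x (((a⁻¹ : (ZMod p)ˣ) : ZMod p)) := by
      apply Subtype.ext
      have h5 := hact.basis1
      simp only [vec, Matrix.of_apply, Matrix.cons_val', Matrix.cons_val_zero,
        Matrix.cons_val_fin_one, Matrix.cons_val_one] at h5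
      rw [Subgroup.coe_mul, coe_zp, coe_zp, ← h5, hα]
      rfl
    rw [h4, D.cvec_mul, D.cvec_zp, D.cvec_zp, D.cvec_center D.z₀_mem, smul_zero, zero_add]
  · rw [D.coe_rep, D.det_Mat]
    have h4 : α D.z₀ = zp D.z₀ (a : ZMod p) := by
      apply Subtype.ext
      have h5 := hact.basis0
      simp only [vec, Matrix.of_apply, Matrix.cons_val', Matrix.cons_val_zero,
        Matrix.cons_val_fin_one, Matrix.cons_val_one, zp_zero, mul_one] at h5
      rw [coe_zp, ← h5, hα]
      rfl
    rw [HData.delta, h4, D.lgf_zp]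

end Cfsg.Agent.Helper8.Xp
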