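import Mathlib
import Cfsg.Agent.Helper8.XpG

set_option autoImplicit false

/-!
The opposite transvection from the fusion of a central element with a noncentral one.
-/

namespace Cfsg.Agent.Helper8.Xp

open Matrix Matrix.ProjGenLinGroup
open scoped commutatorElement

variable {G : Type*} [Group G] {p : ℕ} [hp : Fact p.Prime]
variable [Finite G] (P : Sylow p G) (D : HData p ↥(P : Subgroup G))
variable (hexp : ∀ g : (P : Subgroup G), g ^ p = 1)

include hexp

theorem coe_pow_p (g : (P : Subgroup G)) : (g : G) ^ p = 1 := by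
  rw [← Subgroup.coe_pow, hexp, Subgroup.coe_one]

omit hexp in
theorem commute_z₀ (g : (P : Subgroup G)) :
    Commute ((D.z₀ : (P : Subgroup G)) : G) (g : G) := by
  have := Subgroup.mem_center_iff.mp D.z₀_mem g
  have h2 := congrArg Subtype.val this
  have h3 : ((D.z₀ : (P : Subgroup G)) : G) * (g : G) = (g : G) * ((D.z₀ : (P : Subgroup G)) : G) := by
    simpa using h2.symm
  exact h3

/-- if the central element `z₀` is conjugate to the noncentral element `x`, an element of `G`
acts on `⟨z₀⟩ × ⟨x⟩` as a lower unitriangular matrix -/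
theorem lower_of_conj (x : (P : Subgroup G)) (hx : x ∉ Subgroup.center (P : Subgroup G))
    (hconj : ∃ g : G, g * ((D.z₀ : (P : Subgroup G)) : G) * g⁻¹ = (x : G)) :
    ∃ y : G, ∃ c : ZMod p, c ≠ 0 ∧
      Acts ((D.z₀ : (P : Subgroup G)) : G) (x : G) y !![1, 0; c, 1] := by
  obtain ⟨g, hg⟩ := hconj
  set z : G := ((D.z₀ : (P : Subgroup G)) : G) with hz
  have hzp : z ^ p = 1 := coe_pow_p P hexp D.z₀
  have hxp : (x : G) ^ p = 1 := coe_pow_p P hexp x
  have hc : Commute z (x : G) := commute_z₀ P D x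
  set Cx : Subgroup G := Subgroup.centralizer {(x : G)} with hCx
  set A : Subgroup G := (P : Subgroup G).map (MulAut.conj g).toMonoidHom with hA
  have hAC : A ≤ Cx := by
    rintro _ ⟨t, ht, rfl⟩
    rw [hCx, Subgroup.mem_centralizer_singleton_iff]
    have h1 : Commute z t := commute_z₀ P D ⟨t, ht⟩
    simp only [MulEquiv.coe_toMonoidHom, MulAut.conj_apply]
    rw [← hg]
    have h2 : g * t * g⁻¹ * (g * z * g⁻¹) = g * (t * z) * g⁻¹ := by group
    have h3 : g * z * g⁻¹ * (g * t * g⁻¹) = g * (z * t) * g⁻¹ := by group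
    rw [h2, h3, h1.eq]
  set T : Subgroup G := Subgroup.zpowers z with hT
  have hTC : T ≤ Cx := by
    rw [hT, Subgroup.zpowers_le, hCx, Subgroup.mem_centralizer_singleton_iff]
    exact hc.eq
  have hTP : T ≤ (P : Subgroup G) := by
    rw [hT, Subgroup.zpowers_le]
    exact D.z₀.2
  have hTp : IsPGroup p T := P.isPGroup'.to_le hTP
  have hAp : IsPGroup p A := P.isPGroup'.map _
  have hAcard : Nat.card A = p ^ (Nat.card Cx).factorization p := by
    apply Cfsg.Agent.Lead.card_eq_ppart_of_le hAC (le_top : Cx ≤ ⊤) hAp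
    rw [Subgroup.card_top, hA, Cfsg.Agent.Lead.card_map_conj]
    exact P.card_eq_multiplicity
  obtain ⟨m, hmC, hm⟩ := Cfsg.Agent.Lead.exists_conj_le_of_card_eq_ppart hAC hAcard hTC hTp
  have hmz : m * z * m⁻¹ ∈ A := hm ⟨z, Subgroup.mem_zpowers z, rfl⟩
  obtain ⟨t', ht'P, ht'⟩ := hmz
  simp only [MulEquiv.coe_toMonoidHom, MulAut.conj_apply] at ht'
  have hmx : m * (x : G) = (x : G) * m := by
    rw [hCx, Subgroup.mem_centralizer_singleton_iff] at hmC
    exact hmC
  set h : G := m⁻¹ * g with hh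
  have hhz : h * z * h⁻¹ = (x : G) := by
    have h1 : h * z * h⁻¹ = m⁻¹ * (g * z * g⁻¹) * m := by rw [hh]; group
    rw [h1, hg]
    have h2 : m⁻¹ * (x : G) * m = m⁻¹ * ((x : G) * m) := by group
    rw [h2, ← hmx]
    group
  have hht' : h * t' * h⁻¹ = z := by
    have h1 : h * t' * h⁻¹ = m⁻¹ * (g * t' * g⁻¹) * m := by rw [hh]; group
    rw [h1, ht']
    group
  -- `t'` is not central in `P`
  have ht'nc : (⟨t', ht'P⟩ : (P : Subgroup G)) ∉ Subgroup.center (P : Subgroup G) := by
    intro hcen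
    obtain ⟨s, hs⟩ := D.center_eq hcen
    have hs' : t' = zp z s := by
      have := congrArg Subtype.val hs
      rwa [coe_zp] at this
    have h1 : z = zp (x : G) s := by
      rw [← hht', hs', conj_zp, hhz]
    have h2 : D.z₀ = zp x s := by
      apply Subtype.ext
      rw [coe_zp]
      exact h1
    have h3 : D.cvec D.z₀ = s • D.cvec x := by
      conv_lhs => rw [h2]
      exact D.cvec_zp x s
    rw [D.cvec_center D.z₀_mem] at h3
    rcases smul_eq_zero.mp h3.symm with h4 | h4
    · apply D.z₀_ne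
      rw [h2, h4, zp_zero]
    · exact hx (D.cvec_eq_zero_iff.mp h4)
  have : ∃ t : (P : Subgroup G), ¬ Commute t (⟨t', ht'P⟩ : (P : Subgroup G)) := by
    by_contra hcon
    push Not at hcon
    apply ht'nc
    rw [Subgroup.mem_center_iff]
    intro g
    exact (hcon g).eq
  obtain ⟨t, ht⟩ := this
  set c : ZMod p := D.pair t ⟨t', ht'P⟩ with hcdef
  have hc0 : c ≠ 0 := fun h0 => ht (D.pair_eq_zero_iff.mp h0)
  have hcomm : (t : G) * t' * (t : G)⁻¹ = zp z c * t' := by
    have h1 := D.comm_eq t ⟨t', ht'P⟩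
    have h2 := congrArg Subtype.val h1
    rw [coe_zp, commutatorElement_def] at h2
    have h3 : (t : G) * t' * (t : G)⁻¹ * t'⁻¹ = zp z c := by simpa using h2
    rw [← h3]
    group
  have htz : (t : G) * z * (t : G)⁻¹ = z := by
    have h1 : z * (t : G) = (t : G) * z := (commute_z₀ P D t).eq
    rw [← h1]
    group
  refine ⟨h * (t : G) * h⁻¹, c, hc0, ?_⟩
  apply acts_of_basis hzp hxp hc
  · simp only [vec, Matrix.of_apply, Matrix.cons_val', Matrix.cons_val_zero,
      Matrix.cons_val_fin_one, Matrix.cons_val_one, zp_one]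
    have h1 : h * (t : G) * h⁻¹ * z * (h * (t : G) * h⁻¹)⁻¹ =
        h * ((t : G) * (h⁻¹ * z * h) * (t : G)⁻¹) * h⁻¹ := by group
    have h2 : h⁻¹ * z * h = t' := by rw [← hht']; group
    rw [h1, h2, hcomm]
    have h3 : h * (zp z c * t') * h⁻¹ = (h * zp z c * h⁻¹) * (h * t' * h⁻¹) := by group
    rw [h3, conj_zp, hhz, hht']
    have h4 := (commute_zp hc (1 : ZMod p) c).eq
    rw [zp_one] at h4
    exact h4.symm
  · simp only [vec, Matrix.of_apply, Matrix.cons_val', Matrix.cons_val_zero,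
      Matrix.cons_val_fin_one, Matrix.cons_val_one, zp_one, zp_zero, one_mul]
    have h1 : h * (t : G) * h⁻¹ * (x : G) * (h * (t : G) * h⁻¹)⁻¹ =
        h * ((t : G) * (h⁻¹ * (x : G) * h) * (t : G)⁻¹) * h⁻¹ := by group
    have h2 : h⁻¹ * (x : G) * h = z := by rw [← hhz]; group
    rw [h1, h2, htz, hhz]

end Cfsg.Agent.Helper8.Xp
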