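import Mathlib
import Cfsg.Agent.Helper8.XpC

set_option autoImplicit false

/-!
Subgroups of order `p²` of a nonabelian group of order `p³`, and the shear automorphism of an
elementary abelian group of order `p²`.
-/

namespace Cfsg.Agent.Helper8.Xp

open scoped commutatorElement

namespace HData

variable {Q : Type*} [Group Q] {p : ℕ} [hp : Fact p.Prime] (D : HData p Q)

include hp D

theorem card_centralizer_le {x : Q} (hx : x ∉ Subgroup.center Q) :
    Nat.card (Subgroup.centralizer {x}) ≤ p ^ 2 := by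
  haveI := D.finite
  have hne : Subgroup.centralizer {x} ≠ ⊤ := by
    intro h
    apply hx
    rw [Subgroup.mem_center_iff]
    intro g
    have : g ∈ Subgroup.centralizer {x} := h ▸ Subgroup.mem_top g
    exact Subgroup.mem_centralizer_singleton_iff.mp this
  have hd : Nat.card (Subgroup.centralizer {x}) ∣ p ^ 3 :=
    D.card ▸ Subgroup.card_subgroup_dvd_card _
  obtain ⟨k, hk3, hk⟩ := (Nat.dvd_prime_pow hp.out).mp hd
  have hk3' : k ≠ 3 := by
    intro h
    apply hne
    rw [← Subgroup.card_eq_iff_eq_top, hk, h, D.card]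
  rw [hk]
  exact Nat.pow_le_pow_right hp.out.pos (by omega)

/-- a subgroup of order `p²` is the centraliser of each of its noncentral elements -/
theorem eq_centralizer {B : Subgroup Q} (hB : Nat.card B = p ^ 2) {x : Q} (hxB : x ∈ B)
    (hx : x ∉ Subgroup.center Q) : B = Subgroup.centralizer {x} := by
  haveI := D.finite
  have hcomm := IsPGroup.commutative_of_card_eq_prime_sq hB
  apply Subgroup.eq_of_le_of_card_ge
  · intro b hb
    rw [Subgroup.mem_centralizer_singleton_iff]
    have := hcomm ⟨b, hb⟩ ⟨x, hxB⟩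
    exact congrArg Subtype.val this
  · rw [hB]
    exact D.card_centralizer_le hx

theorem exists_mem_not_center {B : Subgroup Q} (hB : Nat.card B = p ^ 2) :
    ∃ x ∈ B, x ∉ Subgroup.center Q := by
  haveI := D.finite
  by_contra hcon
  push Not at hcon
  have hle : B ≤ Subgroup.center Q := hcon
  have h1 := Subgroup.card_le_of_le hle
  rw [hB, D.card_center] at h1
  have h2 := hp.out.one_lt
  nlinarith

theorem z₀_mem_of_card {B : Subgroup Q} (hB : Nat.card B = p ^ 2) : D.z₀ ∈ B := by
  obtain ⟨x, hxB, hx⟩ := D.exists_mem_not_center hB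
  rw [D.eq_centralizer hB hxB hx, Subgroup.mem_centralizer_singleton_iff]
  exact (Subgroup.mem_center_iff.mp D.z₀_mem x).symm

/-- noncentral elements of distinct subgroups of order `p²` do not commute -/
theorem pair_ne_zero {B₁ B₂ : Subgroup Q} (hB₁ : Nat.card B₁ = p ^ 2) (hB₂ : Nat.card B₂ = p ^ 2)
    (hne : B₁ ≠ B₂) {x₁ x₂ : Q} (h₁ : x₁ ∈ B₁) (h₂ : x₂ ∈ B₂) (hx₁ : x₁ ∉ Subgroup.center Q)
    (hx₂ : x₂ ∉ Subgroup.center Q) : D.pair x₁ x₂ ≠ 0 := by
  intro h
  have hc := D.pair_eq_zero_iff.mp h
  apply hne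
  have e₁ := D.eq_centralizer hB₁ h₁ hx₁
  have e₂ := D.eq_centralizer hB₂ h₂ hx₂
  have h3 : x₂ ∈ B₁ := by
    rw [e₁, Subgroup.mem_centralizer_singleton_iff]
    exact hc.eq.symm
  rw [D.eq_centralizer hB₁ h3 hx₂, ← e₂]

end HData

/-- the shear automorphism of an elementary abelian group of order `p²` -/
theorem exists_shear {B : Type*} [Group B] [Finite B] {p : ℕ} [hp : Fact p.Prime]
    (hcard : Nat.card B = p ^ 2) (hexp : ∀ b : B, b ^ p = 1) (z x : B) (hx : x ≠ 1)
    (hz : z ∉ Subgroup.zpowers x) :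
    ∃ φ : MulAut B, orderOf φ = p ∧ φ x = x ∧ ∃ c : ZMod p, c ≠ 0 ∧ φ z = z * zp x c := by
  have hcomm := IsPGroup.commutative_of_card_eq_prime_sq hcard
  letI : CommGroup B := { ‹Group B› with mul_comm := hcomm }
  set X : Subgroup B := Subgroup.zpowers x with hX
  have hXcard : Nat.card X = p := by
    rw [hX, Nat.card_zpowers]
    exact orderOf_eq_prime (hexp x) hx
  have hqcard : Nat.card (B ⧸ X) = p := by
    have h1 := Subgroup.card_eq_card_quotient_mul_card_subgroup X
    rw [hcard, hXcard] at h1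
    have h2 : p ^ 2 = p * p := by ring
    rw [h2] at h1
    exact (Nat.eq_of_mul_eq_mul_right hp.out.pos h1).symm
  let e : (B ⧸ X) ≃* X := mulEquivOfPrimeCardEq hqcard hXcard
  let τ : B →* B := X.subtype.comp (e.toMonoidHom.comp (QuotientGroup.mk' X))
  have hτX : ∀ b, τ b ∈ X := fun b => (e (QuotientGroup.mk' X b)).2
  have hτ1 : ∀ b ∈ X, τ b = 1 := by
    intro b hb
    have h1 : (QuotientGroup.mk' X b) = 1 := (QuotientGroup.eq_one_iff b).mpr hb
    change ((e (QuotientGroup.mk' X b) : X) : B) = 1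
    rw [h1, map_one]
    rfl
  have hττ : ∀ b, τ (τ b) = 1 := fun b => hτ1 _ (hτX b)
  let φ : MulAut B :=
    { toFun := fun b => b * τ b
      invFun := fun b => b * (τ b)⁻¹
      left_inv := by
        intro b
        change b * τ b * (τ (b * τ b))⁻¹ = b
        rw [map_mul, hττ, mul_one, mul_inv_cancel_right]
      right_inv := by
        intro b
        change b * (τ b)⁻¹ * τ (b * (τ b)⁻¹) = b
        rw [map_mul, map_inv, hττ, inv_one, mul_one, inv_mul_cancel_right]
      map_mul' := by
        intro a b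
        change a * b * τ (a * b) = a * τ a * (b * τ b)
        rw [map_mul]
        rw [mul_mul_mul_comm] }
  have hφ : ∀ b, φ b = b * τ b := fun b => rfl
  have hφpow : ∀ (k : ℕ) (b : B), (φ ^ k) b = b * (τ b) ^ k := by
    intro k
    induction k with
    | zero => intro b; simp
    | succ k ih =>
      intro b
      rw [pow_succ, MulAut.mul_apply, hφ, ih, map_mul, hττ, mul_one, pow_succ]
      rw [mul_assoc, mul_comm (τ b) ((τ b) ^ k)]
  have hτz : τ z ≠ 1 := by
    intro h
    have h1 : (e (QuotientGroup.mk' X z) : X) = 1 := Subtype.ext h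
    have h2 : QuotientGroup.mk' X z = 1 := by
      have := e.injective (h1.trans (map_one e).symm)
      exact this
    exact hz ((QuotientGroup.eq_one_iff z).mp h2)
  refine ⟨φ, ?_, ?_, ?_⟩
  · apply orderOf_eq_prime
    · ext b
      rw [hφpow, hexp, mul_one]
      rfl
    · intro h
      apply hτz
      have h1 : φ z = z := by rw [h]; rfl
      rw [hφ] at h1
      exact mul_eq_left.mp h1
  · rw [hφ, hτ1 x (Subgroup.mem_zpowers x), mul_one]
  · have h1 := hτX z
    rw [hX, ← mem_powers_iff_mem_zpowers] at h1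
    obtain ⟨n, hn⟩ := h1
    replace hn : x ^ n = τ z := hn
    refine ⟨(n : ZMod p), ?_, ?_⟩
    · intro h0
      apply hτz
      rw [← hn]
      have h2 : p ∣ n := (ZMod.natCast_eq_zero_iff n p).mp h0
      obtain ⟨m, rfl⟩ := h2
      rw [pow_mul, hexp, one_pow]
    · rw [hφ, zp_natCast (hexp x)]
      exact congrArg (z * ·) hn.symm

end Cfsg.Agent.Helper8.Xp
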