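import Mathlib
import Cfsg.Agent.Helper8.XpH
import Cfsg.Agent.Helper8.XpI

set_option autoImplicit false

/-!
The opposite transvection from the automorphisms of a subgroup of order `p²` induced by `G`.
-/

namespace Cfsg.Agent.Helper8.Xp

open Matrix Matrix.ProjGenLinGroup
open scoped commutatorElement

variable {G : Type*} [Group G] {p : ℕ} [hp : Fact p.Prime]
variable [Finite G] (P : Sylow p G) (D : HData p ↥(P : Subgroup G))
variable (hexp : ∀ g : (P : Subgroup G), g ^ p = 1)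

include hexp

theorem lower_of_shear (B : Subgroup G) (hBP : B ≤ (P : Subgroup G)) (hBcard : Nat.card B = p ^ 2)
    (hSL : ∀ φ : MulAut ↥B, orderOf φ = p → ∃ g : G, ∀ a : ↥B, (φ a : G) = g * (a : G) * g⁻¹)
    (x : (P : Subgroup G)) (hxB : (x : G) ∈ B) (hx : x ∉ Subgroup.center (P : Subgroup G)) :
    ∃ y : G, ∃ c : ZMod p, c ≠ 0 ∧
      Acts ((D.z₀ : (P : Subgroup G)) : G) (x : G) y !![1, 0; c, 1] := by
  set z : G := ((D.z₀ : (P : Subgroup G)) : G) with hz
  have hzp : z ^ p = 1 := coe_pow_p P hexp D.z₀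
  have hxp : (x : G) ^ p = 1 := coe_pow_p P hexp x
  have hc : Commute z (x : G) := commute_z₀ P D x
  have hB' : Nat.card (B.subgroupOf (P : Subgroup G)) = p ^ 2 := by
    rw [Cfsg.Agent.Lead.card_subgroupOf_of_le hBP]; exact hBcard
  have hzB : z ∈ B := by
    have := D.z₀_mem_of_card hB'
    rwa [Subgroup.mem_subgroupOf] at this
  have hexpB : ∀ b : ↥B, b ^ p = 1 := by
    intro b
    apply Subtype.ext
    rw [Subgroup.coe_pow, Subgroup.coe_one]
    exact coe_pow_p P hexp ⟨(b : G), hBP b.2⟩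
  have hx1 : (⟨(x : G), hxB⟩ : ↥B) ≠ 1 := by
    intro h
    apply hx
    have h1 : (x : G) = 1 := congrArg Subtype.val h
    have h2 : x = 1 := Subtype.ext h1
    rw [h2]
    exact Subgroup.one_mem _
  have hzx : (⟨z, hzB⟩ : ↥B) ∉ Subgroup.zpowers (⟨(x : G), hxB⟩ : ↥B) := by
    intro h
    haveI : Finite ↥B := inferInstance
    rw [← mem_powers_iff_mem_zpowers] at h
    obtain ⟨n, hn⟩ := h
    replace hn : (⟨(x : G), hxB⟩ : ↥B) ^ n = ⟨z, hzB⟩ := hn
    have h1 : (x : G) ^ n = z := by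
      have := congrArg Subtype.val hn
      simpa using this
    have h2 : zp x (n : ZMod p) = D.z₀ := by
      rw [zp_natCast (hexp x)]
      apply Subtype.ext
      rw [Subgroup.coe_pow]
      exact h1
    have h3 : D.cvec D.z₀ = (n : ZMod p) • D.cvec x := by
      conv_lhs => rw [← h2]
      exact D.cvec_zp x _
    rw [D.cvec_center D.z₀_mem] at h3
    rcases smul_eq_zero.mp h3.symm with h4 | h4
    · apply D.z₀_ne
      rw [← h2, h4, zp_zero]
    · exact hx (D.cvec_eq_zero_iff.mp h4)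
  obtain ⟨φ, hord, hφx, c, hc0, hφz⟩ := exists_shear hBcard hexpB ⟨z, hzB⟩ ⟨(x : G), hxB⟩ hx1 hzx
  obtain ⟨g, hg⟩ := hSL φ hord
  refine ⟨g, c, hc0, ?_⟩
  apply acts_of_basis hzp hxp hc
  · simp only [vec, Matrix.of_apply, Matrix.cons_val', Matrix.cons_val_zero,
      Matrix.cons_val_fin_one, Matrix.cons_val_one, zp_one]
    have h1 := hg ⟨z, hzB⟩
    rw [hφz] at h1
    rw [← h1, Subgroup.coe_mul, zp, Subgroup.coe_pow]
    rfl
  · simp only [vec, Matrix.of_apply, Matrix.cons_val', Matrix.cons_val_zero,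
      Matrix.cons_val_fin_one, Matrix.cons_val_one, zp_one, zp_zero, one_mul]
    have h1 := hg ⟨(x : G), hxB⟩
    rw [hφx] at h1
    exact h1.symm

end Cfsg.Agent.Helper8.Xp
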